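import Cfsg.Statements.S0547
import Mathlib
import Cfsg.Agent.Lib.Perm.Basic
-- import your own Cfsg.Agent.* helpers here

set_option autoImplicit false
open Cfsg

namespace Cfsg.Agent.S0547


/-- A minimal normal subgroup of a solvable group is abelian. -/
theorem comm_of_minimal {G : Type*} [Group G] [Group.IsSolvable G] (M : Subgroup G) [M.Normal]
    (hM : M ≠ ⊥) (hmin : ∀ K : Subgroup G, K.Normal → K ≤ M → K = ⊥ ∨ K = M) :
    ∀ x ∈ M, ∀ y ∈ M, x * y = y * x := by
  have hD : ⁅M, M⁆ ≤ M := Subgroup.commutator_le_left M M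
  rcases hmin ⁅M, M⁆ inferInstance hD with h | h
  · intro x hx y hy
    have h1 := (Subgroup.commutator_eq_bot_iff_le_centralizer (H₁ := M) (H₂ := M)).mp h hy
    exact Subgroup.mem_centralizer_iff.mp h1 x hx
  · exfalso
    apply hM
    obtain ⟨n, hn⟩ := (isSolvable_def G).mp inferInstance
    have hle : ∀ k, M ≤ derivedSeries G k := by
      intro k
      induction k with
      | zero => simp
      | succ k ih =>
        rw [derivedSeries_succ, ← h]
        rw [h]
        conv_lhs => rw [← h]
        exact Subgroup.commutator_mono ih ih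
    rw [eq_bot_iff, ← hn]
    exact hle n

/-- A finite abelian minimal normal subgroup is an elementary abelian `p`-group. -/
theorem elementary_of_minimal {G : Type*} [Group G] [Finite G] (M : Subgroup G) [hMn : M.Normal]
    (hM : M ≠ ⊥) (hmin : ∀ K : Subgroup G, K.Normal → K ≤ M → K = ⊥ ∨ K = M)
    (hcomm : ∀ x ∈ M, ∀ y ∈ M, x * y = y * x) :
    ∃ p : ℕ, p.Prime ∧ ∀ m ∈ M, m ^ p = 1 := by
  have hMnt : Nontrivial M := (Subgroup.nontrivial_iff_ne_bot M).mpr hM
  obtain ⟨p, hp, hdvd⟩ := Nat.exists_prime_and_dvd (Finite.one_lt_card (α := M)).ne'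
  haveI : Fact p.Prime := ⟨hp⟩
  refine ⟨p, hp, ?_⟩
  let L : Subgroup G :=
    { carrier := {x | x ∈ M ∧ x ^ p = 1}
      one_mem' := ⟨one_mem _, one_pow _⟩
      mul_mem' := by
        rintro x y ⟨hx, hx'⟩ ⟨hy, hy'⟩
        refine ⟨mul_mem hx hy, ?_⟩
        have hc : Commute x y := hcomm x hx y hy
        rw [hc.mul_pow, hx', hy', one_mul]
      inv_mem' := by
        rintro x ⟨hx, hx'⟩
        exact ⟨inv_mem hx, by rw [inv_pow, hx', inv_one]⟩ }
  have hLn : L.Normal := by
    refine ⟨?_⟩
    rintro x ⟨hx, hx'⟩ g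
    refine ⟨hMn.conj_mem x hx g, ?_⟩
    rw [conj_pow, hx', mul_one, mul_inv_cancel]
  have hLle : L ≤ M := fun x hx => hx.1
  obtain ⟨x, hx⟩ := exists_prime_orderOf_dvd_card' (G := M) p hdvd
  have hLne : L ≠ ⊥ := by
    intro h
    have hxL : (x : G) ∈ L := ⟨x.2, by
      have : x ^ p = 1 := by rw [← hx]; exact pow_orderOf_eq_one x
      simpa using congrArg Subtype.val this⟩
    rw [h, Subgroup.mem_bot] at hxL
    have hx1 : x = 1 := Subtype.ext hxL
    rw [hx1, orderOf_one] at hx
    exact hp.one_lt.ne hx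
  rcases hmin L hLn hLle with h | h
  · exact (hLne h).elim
  · intro m hm
    rw [← h] at hm
    exact hm.2

/-- Let a finite solvable group G act faithfully and primitively on a set, and let M be a minimal normal subgroup of G. Then M is transitive with trivial point stabilizers, and the number of points equals the order of M, which is a prime power p ^ d with d ≥ 1. -/
theorem result {G : Type*} [Group G] [Finite G] [Group.IsSolvable G] {Ω : Type*} [Nonempty Ω] [MulAction G Ω] [FaithfulSMul G Ω] (hprim : MulAction.IsPreprimitive G Ω) (M : Subgroup G) [M.Normal] (hM : M ≠ ⊥) (hmin : ∀ K : Subgroup G, K.Normal → K ≤ M → K = ⊥ ∨ K = M) : MulAction.IsPretransitive M Ω ∧ (∀ ω : Ω, MulAction.stabilizer M ω = ⊥) ∧ ∃ p d : ℕ, p.Prime ∧ 0 < d ∧ Nat.card Ω = p ^ d ∧ Nat.card M = p ^ d := by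
  classical
  haveI := hprim
  have hcomm := comm_of_minimal M hM hmin
  have htrans : MulAction.IsPretransitive M Ω :=
    Cfsg.Agent.Lib.Perm.Basic.isPretransitive_of_normal_of_ne_bot M hM
  have hstab : ∀ ω : Ω, MulAction.stabilizer M ω = ⊥ := by
    intro ω
    rw [eq_bot_iff]
    intro m hm
    rw [Subgroup.mem_bot]
    apply Subtype.ext
    exact Cfsg.Agent.Lib.Perm.Basic.eq_one_of_commutative_transitive M hcomm m.2 hm
  obtain ⟨p, hp, hpow⟩ := elementary_of_minimal M hM hmin hcomm
  haveI : Fact p.Prime := ⟨hp⟩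
  have hpg : IsPGroup p M := by
    intro g
    refine ⟨1, ?_⟩
    apply Subtype.ext
    simpa using hpow g g.2
  obtain ⟨d, hd⟩ := IsPGroup.iff_card.mp hpg
  have hdpos : 0 < d := by
    rcases Nat.eq_zero_or_pos d with rfl | h
    · exfalso
      apply hM
      have h1 : Nat.card M = 1 := by simpa using hd
      exact (Subgroup.card_eq_one.mp h1)
    · exact h
  refine ⟨htrans, hstab, p, d, hp, hdpos, ?_, hd⟩
  obtain ⟨ω⟩ := ‹Nonempty Ω›
  have hbij : Function.Bijective (fun m : M => m • ω) := by
    constructor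
    · intro a b hab
      have h1 : b⁻¹ * a ∈ MulAction.stabilizer M ω := by
        rw [MulAction.mem_stabilizer_iff, mul_smul]
        have hab' : a • ω = b • ω := hab
        rw [hab', inv_smul_smul]
      rw [hstab ω, Subgroup.mem_bot] at h1
      exact (inv_mul_eq_one.mp h1).symm
    · intro x
      exact MulAction.exists_smul_eq M ω x
  rw [← hd]
  exact (Nat.card_congr (Equiv.ofBijective _ hbij)).symm

end Cfsg.Agent.S0547
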