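import Cfsg.Statements.S0606
import Cfsg.Agent.Lib.PGroup.Timmesfeld
import Mathlib

set_option autoImplicit false
open Cfsg

namespace Cfsg.Agent.S0606

/-- Elementary abelian p-subgroups of maximal order are best offenders on any normal elementary abelian p-subgroup. -/
theorem result {G : Type*} [Group G] [Finite G] {p : ℕ} [Fact p.Prime] (V : Subgroup G) [V.Normal] (hV : Cfsg.IsElementaryAbelian p V) (A : Subgroup G) (hA : A ∈ Cfsg.maxElementaryAbelianSubgroups p G) : Cfsg.IsBestOffenderOn p V A := by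
  obtain ⟨hAE, hAmax⟩ := hA
  have hAcomm : ∀ x ∈ A, ∀ y ∈ A, x * y = y * x := fun x hx y hy =>
    congrArg Subtype.val (hAE.1.is_comm.comm ⟨x, hx⟩ ⟨y, hy⟩)
  have hVcomm : ∀ x ∈ V, ∀ y ∈ V, x * y = y * x := fun x hx y hy =>
    congrArg Subtype.val (hV.1.is_comm.comm ⟨x, hx⟩ ⟨y, hy⟩)
  refine ⟨fun B hB => ?_, ?_, fun a ha => ?_⟩
  · set C : Subgroup G := V ⊓ Subgroup.centralizer (B : Set G) with hC
    have hBC : ∀ b ∈ B, ∀ c ∈ C, b * c = c * b := by
      intro b hb c hc
      have := Subgroup.mem_centralizer_iff.mp hc.2 b hb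
      exact this
    have hnorm : B ≤ Subgroup.normalizer (C : Set G) := by
      intro b hb
      rw [Subgroup.mem_normalizer_iff]
      intro c
      constructor
      · intro hc
        have : b * c * b⁻¹ = c := by rw [hBC b hb c hc]; group
        rwa [this]
      · intro hc
        have : b * c * b⁻¹ ∈ C := hc
        have h2 : c = b⁻¹ * (b * c * b⁻¹) * b := by group
        rw [h2]
        have h3 := hBC b hb _ this
        have : b⁻¹ * (b * c * b⁻¹) * b = b * c * b⁻¹ := by
          calc b⁻¹ * (b * c * b⁻¹) * b = b⁻¹ * ((b * c * b⁻¹) * b) := by group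
            _ = b⁻¹ * (b * (b * c * b⁻¹)) := by rw [h3]
            _ = _ := by group
        rw [this]
        exact hc
    have hcard := Cfsg.Agent.Lib.PGroup.Timmesfeld.card_sup_mul_card_inf_of_le_normalizer B C hnorm
    -- B ⊔ C is elementary abelian
    have hunion : ∀ x ∈ (B : Set G) ∪ C, ∀ y ∈ (B : Set G) ∪ C, x * y = y * x := by
      rintro x (hx | hx) y (hy | hy)
      · exact hAcomm x (hB hx) y (hB hy)
      · exact hBC x hx y hy
      · exact (hBC y hy x hx).symm
      · exact hVcomm x hx.1 y hy.1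
    have hsup : B ⊔ C = Subgroup.closure ((B : Set G) ∪ C) := by
      rw [Subgroup.closure_union, Subgroup.closure_eq, Subgroup.closure_eq]
    have hEcomm : ∀ x ∈ B ⊔ C, ∀ y ∈ B ⊔ C, x * y = y * x := by
      rw [hsup]
      intro x hx y hy
      letI := Subgroup.closureCommGroupOfComm hunion
      exact congrArg Subtype.val (mul_comm (⟨x, hx⟩ : Subgroup.closure ((B : Set G) ∪ C)) ⟨y, hy⟩)
    have hEpow : ∀ x ∈ B ⊔ C, x ^ p = 1 := by
      intro x hx
      have hx' := hx
      rw [hsup] at hx'
      induction hx' using Subgroup.closure_induction with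
      | mem z hz =>
        rcases hz with hz | hz
        · exact hAE.2 z (hB hz)
        · exact hV.2 z hz.1
      | one => simp
      | mul u w hu hw ihu ihw =>
        rw [← hsup] at hu hw
        have hc : Commute u w := hEcomm u hu w hw
        rw [hc.mul_pow, ihu hu, ihw hw, one_mul]
      | inv u hu ihu =>
        rw [← hsup] at hu
        rw [inv_pow, ihu hu, inv_one]
    have hE : Cfsg.IsElementaryAbelian p (B ⊔ C) := by
      refine ⟨⟨⟨?_⟩⟩, hEpow⟩
      rintro ⟨x, hx⟩ ⟨y, hy⟩
      exact Subtype.ext (hEcomm x hx y hy)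
    have h1 : Nat.card ↥(B ⊔ C) ≤ Nat.card A := hAmax _ hE
    have h2 : Nat.card ↥(B ⊓ C) ≤ Nat.card ↥(V ⊓ Subgroup.centralizer (A : Set G)) := by
      apply Subgroup.card_le_of_le
      intro x hx
      refine Subgroup.mem_inf.mpr ⟨hx.2.1, Subgroup.mem_centralizer_iff.mpr ?_⟩
      intro a ha
      exact hAcomm a ha x (hB hx.1)
    calc Nat.card B * Nat.card C = Nat.card ↥(B ⊔ C) * Nat.card ↥(B ⊓ C) := hcard.symm
      _ ≤ _ := Nat.mul_le_mul h1 h2
  · have : ⁅A, A⁆ = ⊥ := by
      rw [eq_bot_iff, Subgroup.commutator_le]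
      intro x hx y hy
      rw [commutatorElement_def, Subgroup.mem_bot, hAcomm x hx y hy]
      group
    rw [this]
    exact bot_le
  · rw [hAE.2 a ha]
    exact Subgroup.one_mem _

end Cfsg.Agent.S0606
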