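import Cfsg.Statements.S2941
import Mathlib
-- import your own Cfsg.Agent.* helpers here

set_option autoImplicit false
open Cfsg

namespace Cfsg.Agent.S2941


section Helpers

variable {G : Type*} [Group G]

/-- `[K, J]` is normalized by `J`. -/
theorem conj_mem_commutator_right {K J : Subgroup G} {j x : G} (hj : j ∈ J) (hx : x ∈ ⁅K, J⁆) :
    j * x * j⁻¹ ∈ ⁅K, J⁆ := by
  have hle : ⁅K, J⁆ ≤ (⁅K, J⁆).comap (MulAut.conj j).toMonoidHom := by
    rw [Subgroup.commutator_le]
    intro k hk j' hj'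
    rw [Subgroup.mem_comap, commutatorElement_def]
    have h1 : (MulAut.conj j).toMonoidHom (k * j' * k⁻¹ * j'⁻¹) =
        (k * j * k⁻¹ * j⁻¹)⁻¹ * (k * (j * j') * k⁻¹ * (j * j')⁻¹) := by
      simp only [MulEquiv.coe_toMonoidHom, MulAut.conj_apply]
      group
    rw [h1]
    have e1 := Subgroup.commutator_mem_commutator hk hj
    have e2 := Subgroup.commutator_mem_commutator hk (mul_mem hj hj')
    rw [commutatorElement_def] at e1 e2
    exact mul_mem (inv_mem e1) e2
  exact hle hx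

/-- Elements of `K ⊔ J` are products if `J` normalizes `K`. -/
theorem exists_mul_of_mem_sup {K J : Subgroup G} (hJK : ∀ j ∈ J, ∀ k ∈ K, j * k * j⁻¹ ∈ K) {x : G}
    (hx : x ∈ K ⊔ J) : ∃ k ∈ K, ∃ j ∈ J, x = k * j := by
  rw [Subgroup.sup_eq_closure] at hx
  induction hx using Subgroup.closure_induction with
  | mem y hy =>
    rcases hy with hy | hy
    · exact ⟨y, hy, 1, one_mem _, by simp⟩
    · exact ⟨1, one_mem _, y, hy, by simp⟩
  | one => exact ⟨1, one_mem _, 1, one_mem _, by simp⟩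
  | mul y z _ _ hy hz =>
    obtain ⟨k, hk, j, hj, rfl⟩ := hy
    obtain ⟨k', hk', j', hj', rfl⟩ := hz
    refine ⟨k * (j * k' * j⁻¹), mul_mem hk (hJK j hj k' hk'), j * j', mul_mem hj hj', by group⟩
  | inv y _ hy =>
    obtain ⟨k, hk, j, hj, rfl⟩ := hy
    refine ⟨j⁻¹ * k⁻¹ * j⁻¹⁻¹, hJK _ (inv_mem hj) _ (inv_mem hk), j⁻¹, inv_mem hj, by group⟩

/-- Odd-order elements of `KJ` lie in `K` when `J` is a 2-group normalizing `K`. -/
theorem mem_of_odd_of_mem_sup {K J : Subgroup G} (hJ2 : IsPGroup 2 J)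
    (hJK : ∀ j ∈ J, ∀ k ∈ K, j * k * j⁻¹ ∈ K) {x : G} (hx : x ∈ K ⊔ J) (hodd : Odd (orderOf x)) :
    x ∈ K := by
  obtain ⟨k, hk, j, hj, rfl⟩ := exists_mul_of_mem_sup hJK hx
  have hpow : ∀ n : ℕ, ∃ k' ∈ K, (k * j) ^ n = k' * j ^ n := by
    intro n
    induction n with
    | zero => exact ⟨1, one_mem _, by simp⟩
    | succ n ih =>
      obtain ⟨k', hk', h⟩ := ih
      refine ⟨k' * (j ^ n * k * (j ^ n)⁻¹), mul_mem hk' (hJK _ (pow_mem hj n) _ hk), ?_⟩
      rw [pow_succ, h, pow_succ]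
      group
  obtain ⟨k', hk', h⟩ := hpow (orderOf (k * j))
  rw [pow_orderOf_eq_one] at h
  have hjn : j ^ orderOf (k * j) ∈ K := by
    have : j ^ orderOf (k * j) = k'⁻¹ := eq_inv_of_mul_eq_one_right h.symm
    rw [this]
    exact inv_mem hk'
  have hfact : Fact (Nat.Prime 2) := ⟨Nat.prime_two⟩
  obtain ⟨a, ha⟩ := (IsPGroup.iff_orderOf.mp hJ2) ⟨j, hj⟩
  rw [Subgroup.orderOf_mk] at ha
  have hcop : (orderOf (k * j)).Coprime (orderOf j) := by
    rw [ha]
    exact Nat.Coprime.pow_right a (Nat.coprime_two_right.mpr hodd)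
  obtain ⟨m, hm⟩ := exists_pow_eq_self_of_coprime hcop
  have hjK : j ∈ K := by
    rw [← hm]
    exact pow_mem hjn m
  exact mul_mem hk hjK

end Helpers

/-- Let G be a finite group of characteristic 2 type in which every 2-local subgroup is solvable and the centralizer of Ω₁(Z(S)) lies in N_G(S) for every Sylow 2-subgroup S, and let T be a nontrivial 2-subgroup and K a J(T)-component (J the Thompson subgroup generated by the elementary abelian 2-subgroups of largest order). If a subgroup Q is normalized by ⟨K, J(T)⟩ and normalizes J(T), then Q normalizes K. -/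
theorem result {G : Type*} [Group G] [Finite G] (hL : Cfsg.IsCharacteristicTwoType G) (hN : ∀ N : Subgroup G, Cfsg.IsTwoLocal N → Group.IsSolvable ↥N)
    (hZ : ∀ S : Sylow 2 G, Subgroup.centralizer (Cfsg.omegaCenterOf (S : Subgroup G) : Set G) ≤ Subgroup.normalizer ((S : Subgroup G) : Set G)) (T : Subgroup G) (hT : IsPGroup 2 ↥T) (hT1 : T ≠ ⊥) (K : Subgroup G) (hK : Cfsg.IsJComponent T K)
    (Q : Subgroup G) (hQ1 : K ⊔ Cfsg.thompsonSubgroupOf 2 T ≤ Subgroup.normalizer (Q : Set G)) (hQ2 : Q ≤ Subgroup.normalizer (Cfsg.thompsonSubgroupOf 2 T : Set G)) :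
    Q ≤ Subgroup.normalizer (K : Set G) := by
  classical
  have hJ2 : IsPGroup 2 (Cfsg.thompsonSubgroupOf 2 T) :=
    IsPGroup.to_le hT (by
      rintro _ ⟨y, -, rfl⟩
      exact y.2)
  set J := Cfsg.thompsonSubgroupOf 2 T with hJdef
  obtain ⟨hKgen, hKJ, -⟩ := hK
  -- J normalizes K
  have hJK : ∀ j ∈ J, ∀ k ∈ K, j * k * j⁻¹ ∈ K := by
    intro j hj k hk
    rw [← hKJ] at hk ⊢
    exact conj_mem_commutator_right hj hk
  set X := K ⊔ J with hX
  -- Q normalizes X
  intro q hq
  have hQX : ∀ q ∈ Q, ∀ x ∈ X, q * x * q⁻¹ ∈ X := by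
    intro q hq x hx
    -- it suffices to treat conjugates j^k
    have hconjJ : ∀ k ∈ K, ∀ j ∈ J, ∀ q ∈ Q, q * (k * j * k⁻¹) * q⁻¹ ∈ X := by
      intro k hk j hj q hq
      -- q' = k⁻¹ q k ∈ Q normalizes J
      have hq' : k⁻¹ * q * k ∈ Q := by
        have := (Subgroup.mem_normalizer_iff.mp (hQ1 (Subgroup.mem_sup_left (inv_mem hk))) q).mp hq
        simpa using this
      have hj' : (k⁻¹ * q * k) * j * (k⁻¹ * q * k)⁻¹ ∈ J :=
        (Subgroup.mem_normalizer_iff.mp (hQ2 hq') j).mp hj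
      have : q * (k * j * k⁻¹) * q⁻¹ = k * ((k⁻¹ * q * k) * j * (k⁻¹ * q * k)⁻¹) * k⁻¹ := by group
      rw [this]
      exact mul_mem (mul_mem (Subgroup.mem_sup_left hk) (Subgroup.mem_sup_right hj'))
        (Subgroup.mem_sup_left (inv_mem hk))
    have hKmem : ∀ k ∈ K, ∀ q ∈ Q, q * k * q⁻¹ ∈ X := by
      intro k hk q hq
      have hkc : k ∈ ⁅K, J⁆ := by rw [hKJ]; exact hk
      have hle : ⁅K, J⁆ ≤ (X).comap (MulAut.conj q).toMonoidHom := by
        rw [Subgroup.commutator_le]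
        intro k' hk' j' hj'
        rw [Subgroup.mem_comap, commutatorElement_def]
        have h2 : k' * j' * k'⁻¹ * j'⁻¹ = (k' * j' * k'⁻¹) * j'⁻¹ := by group
        rw [h2, map_mul]
        refine mul_mem ?_ ?_
        · exact hconjJ k' hk' j' hj' q hq
        · have := hconjJ 1 (one_mem _) j'⁻¹ (inv_mem hj') q hq
          simpa using this
      exact hle hkc
    have hle : X ≤ (X).comap (MulAut.conj q).toMonoidHom := by
      rw [hX, sup_le_iff]
      constructor
      · intro k hk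
        exact hKmem k hk q hq
      · intro j hj
        have := hconjJ 1 (one_mem _) j hj q hq
        simpa using this
    exact hle hx
  -- K is generated by odd order elements of X
  have hKconj : ∀ q ∈ Q, ∀ k ∈ K, q * k * q⁻¹ ∈ K := by
    intro q hq k hk
    have hle : K ≤ K.comap (MulAut.conj q).toMonoidHom := by
      rw [← hKgen]
      conv_rhs => rw [hKgen]
      rw [Subgroup.closure_le]
      rintro y ⟨hy, hyo⟩
      rw [SetLike.mem_coe, Subgroup.mem_comap]
      refine mem_of_odd_of_mem_sup hJ2 hJK (hQX q hq y (Subgroup.mem_sup_left hy)) ?_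
      have := orderOf_injective (MulAut.conj q).toMonoidHom (MulAut.conj q).injective y
      rw [this]
      exact hyo
    exact hle hk
  rw [Subgroup.mem_normalizer_iff]
  intro z
  refine ⟨hKconj q hq z, fun hz => ?_⟩
  have := hKconj q⁻¹ (inv_mem hq) _ hz
  simpa [mul_assoc] using this

end Cfsg.Agent.S2941
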