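import Cfsg.Statements.S0617
import Cfsg.Agent.Lib.PGroup.FFStruct
import Mathlib
-- import your own Cfsg.Agent.* helpers here

set_option autoImplicit false
open Cfsg

namespace Cfsg.Agent.S0617

open Cfsg.Agent.Lib.PGroup.Timmesfeld Cfsg.Agent.Lib.PGroup.FFPair Cfsg.Agent.Lib.PGroup.FFTv
  Cfsg.Agent.Lib.PGroup.FFDuo Cfsg.Agent.Lib.PGroup.FFDich Cfsg.Agent.Lib.PGroup.FFStruct

/-- Structure Theorem for failure of factorization: a faithful group generated by best offenders, with self-centralizing p'-core, is a direct product of copies of SL(2, p) (p = 2 or 3), each acting on its own plane in V, which is the direct product of these planes and C_V(H). -/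
theorem result {G : Type*} [Group G] [Finite G] {p : ℕ} [Fact p.Prime] (V H : Subgroup G) (hV : Cfsg.IsElementaryAbelian p V) (hHV : H ≤ Subgroup.normalizer (V : Set G)) (hf : H ⊓ Subgroup.centralizer (V : Set G) = ⊥) (hS1 : Subgroup.centralizer (Cfsg.pPrimeCore p ↥H : Set ↥H) ≤ Cfsg.pPrimeCore p ↥H) (hS3 : H = ⨆ A : {A : Subgroup G // A ≤ H ∧ Cfsg.IsBestOffenderOn p V A}, (A : Subgroup G)) (hH1 : H ≠ ⊥) : (p = 2 ∨ p = 3) ∧ (∀ E : {E : Subgroup G // ∃ A : Subgroup G, A ≤ H ∧ Cfsg.IsBestOffenderOn p V A ∧ ⁅V, A⁆ ≠ ⊥ ∧ (∀ B : Subgroup G, B ≤ A → Cfsg.IsBestOffenderOn p V B → ⁅V, B⁆ ≠ ⊥ → B = A) ∧ E = ⁅((Cfsg.pPrimeCore p ↥H).map H.subtype), A⁆ ⊔ A}, H ≤ Subgroup.normalizer ((E : Subgroup G) : Set G) ∧ Nonempty (↥(E : Subgroup G) ≃* Matrix.SpecialLinearGroup (Fin 2) (ZMod p)) ∧ Nat.card ↥(⁅V, (E : Subgroup G)⁆) = p ^ 2) ∧ iSupIndep (fun E : {E : Subgroup G // ∃ A : Subgroup G, A ≤ H ∧ Cfsg.IsBestOffenderOn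 p V A ∧ ⁅V, A⁆ ≠ ⊥ ∧ (∀ B : Subgroup G, B ≤ A → Cfsg.IsBestOffenderOn p V B → ⁅V, B⁆ ≠ ⊥ → B = A) ∧ E = ⁅((Cfsg.pPrimeCore p ↥H).map H.subtype), A⁆ ⊔ A} => (E : Subgroup G)) ∧ (⨆ E : {E : Subgroup G // ∃ A : Subgroup G, A ≤ H ∧ Cfsg.IsBestOffenderOn p V A ∧ ⁅V, A⁆ ≠ ⊥ ∧ (∀ B : Subgroup G, B ≤ A → Cfsg.IsBestOffenderOn p V B → ⁅V, B⁆ ≠ ⊥ → B = A) ∧ E = ⁅((Cfsg.pPrimeCore p ↥H).map H.subtype), A⁆ ⊔ A}, (E : Subgroup G)) = H ∧ iSupIndep (fun o : Option {E : Subgroup G // ∃ A : Subgroup G, A ≤ H ∧ Cfsg.IsBestOffenderOn p V A ∧ ⁅V, A⁆ ≠ ⊥ ∧ (∀ B : Subgroup G, B ≤ A → Cfsg.IsBestOffenderOn p V B → ⁅V, B⁆ ≠ ⊥ → B = A) ∧ E = ⁅((Cfsg.pPrimeCore p ↥H).map H.subtype), A⁆ ⊔ A} => o.elim (V ⊓ Subgroup.centralizer (H : Set G)) (fun E => ⁅V, (E : Subgroup G)⁆)) ∧ (V ⊓ Subgroup.centralizer (H : Set G)) ⊔ (⨆ E : {E : Subgroup G // ∃ A : Subgroup G, A ≤ H ∧ Cfsg.IsBestOffenderOn p V A ∧ ⁅V, A⁆ ≠ ⊥ ∧ (∀ B : Subgroup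 G, B ≤ A → Cfsg.IsBestOffenderOn p V B → ⁅V, B⁆ ≠ ⊥ → B = A) ∧ E = ⁅((Cfsg.pPrimeCore p ↥H).map H.subtype), A⁆ ⊔ A}, ⁅V, (E : Subgroup G)⁆) = V := by
  classical
  haveI : Fintype (Idx p V H) := Fintype.ofFinite _
  have S : Setup p V H := ⟨hV, hHV, hf, hS1⟩
  have hH := H_le_sSup S hS3
  -- some minimal best offender exists
  have hne : ({A | IsMinBO p V H A} : Set (Subgroup G)).Nonempty := by
    by_contra hno
    rw [Set.not_nonempty_iff_eq_empty] at hno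
    rw [hno, sSup_empty] at hH
    exact hH1 (le_bot_iff.mp hH)
  obtain ⟨B, hB⟩ := hne
  obtain ⟨b, y, hy, D₀, -, -⟩ := exists_rep S hB
  refine ⟨p_eq S D₀, ?_, idx_iSupIndep S, idx_iSup S hH, ?_, ?_⟩
  · intro E
    obtain ⟨a, x, hx, D, hE⟩ := idx_rep S E
    rw [hE, comm_W S D]
    obtain ⟨d₁, d₂, f, -⟩ := exists_equiv_E S D
    exact ⟨H_le_normalizer S D hH, ⟨f⟩, card_W S D⟩
  · rw [iSupIndep_def]
    intro o
    cases o with
    | none =>
      rw [disjoint_iff_inf_le]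
      intro u hu
      obtain ⟨hu1, hu2⟩ := Subgroup.mem_inf.mp hu
      have hle : (⨆ j, ⨆ (_ : j ≠ (none : Option (Idx p V H))),
          (fun o : Option (Idx p V H) => o.elim (V ⊓ Subgroup.centralizer (H : Set G)) (fun E => ⁅V, (E : Subgroup G)⁆)) j)
          ≤ ⨆ E ∈ (Finset.univ : Finset (Idx p V H)), ⁅V, (E : Subgroup G)⁆ := by
        refine iSup₂_le fun j hj => ?_
        cases j with
        | none => exact absurd rfl hj
        | some E =>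
          exact le_iSup₂_of_le E (Finset.mem_univ E) le_rfl
      exact idx_disjoint_core S Finset.univ u (hle hu2) hu1
    | some E =>
      rw [disjoint_iff_inf_le]
      refine le_trans ?_ (idx_inf S E).le
      apply inf_le_inf_left
      refine iSup₂_le fun j hj => ?_
      cases j with
      | none =>
        exact inf_le_inf_left _ (Subgroup.centralizer_le (idx_E_le S E))
      | some E' =>
        exact idx_W_le_Z S (fun h => hj (by rw [h]))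
  · apply le_antisymm
    · refine sup_le inf_le_left (iSup_le fun E => idx_W_le S E)
    · intro v hv
      obtain ⟨w, hw, z, hz, hfix, rfl⟩ := idx_decomp S Finset.univ v hv
      have hz2 : z ∈ V ⊓ Subgroup.centralizer (H : Set G) := by
        refine Subgroup.mem_inf.mpr ⟨hz, ?_⟩
        rw [← idx_iSup S hH]
        have hle : (⨆ E : Idx p V H, E.1) ≤ Subgroup.centralizer ({z} : Set G) := by
          refine iSup_le fun E => ?_
          intro g hg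
          exact Subgroup.mem_centralizer_singleton_iff.mpr (hfix E (Finset.mem_univ E) g hg)
        apply Subgroup.mem_centralizer_iff.mpr
        intro g hg
        exact Subgroup.mem_centralizer_singleton_iff.mp (hle hg)
      have hw2 : w ∈ (⨆ E : Idx p V H, ⁅V, E.1⁆) := by
        have hle : (⨆ E ∈ (Finset.univ : Finset (Idx p V H)), ⁅V, (E : Subgroup G)⁆) ≤ (⨆ E : Idx p V H, ⁅V, E.1⁆) :=
          iSup₂_le fun E _ => le_iSup (fun E : Idx p V H => ⁅V, E.1⁆) E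
        exact hle hw
      exact Subgroup.mul_mem _ ((le_sup_right : _ ≤ (V ⊓ Subgroup.centralizer (H : Set G)) ⊔ _) hw2)
        ((le_sup_left : _ ≤ (V ⊓ Subgroup.centralizer (H : Set G)) ⊔ _) hz2)

end Cfsg.Agent.S0617
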