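import Cfsg.Statements.S0912
import Mathlib
import Cfsg.Agent.Lib.Blocks.BrauerMap
import Cfsg.Agent.Lib.Basic.PCore
-- import your own Cfsg.Agent.* helpers here

set_option autoImplicit false
open Cfsg

namespace Cfsg.Agent.S0912

/-- Let B be a block of the finite group G relative to a maximal ideal M of the algebraic integers containing the prime p. Every defect group of B contains the largest normal p-subgroup O_p(G). -/
theorem result {G : Type*} [Group G] [Finite G] (p : ℕ) [Fact p.Prime] (M : Ideal Cfsg.AlgInt) (hM : Cfsg.IsPModular p M) (B : Set (Cfsg.IrrCharacter G)) (hB : Cfsg.IsPBlock M B) (D : Subgroup G) (hD : Cfsg.IsDefectGroup p M B D) : Cfsg.pCore p G ≤ D := by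
  classical
  haveI := Fintype.ofFinite G
  haveI : M.IsPrime := Cfsg.Agent.Lib.Blocks.Local.isPrime_of_isPModular hM
  obtain ⟨g, hg, S, rfl⟩ := hD
  obtain ⟨χ0, rfl⟩ := hB
  have hχ0 : χ0 ∈ Cfsg.blockOf M (χ0 : G → ℂ) := Cfsg.Agent.Lib.Blocks.Central.sameBlock_refl _
  have hN : Cfsg.pCore p G ≤ Subgroup.centralizer ({g} : Set G) := by
    have hgC : g ∈ Subgroup.centralizer (Cfsg.pCore p G : Set G) := by
      by_contra hgC
      exact hg.2.2 χ0 hχ0
        (Cfsg.Agent.Lib.Blocks.BrauerMap.memLocalIdeal_centralChar_of_not_centralizer hM (Cfsg.pCore p G)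
          (Cfsg.Agent.Lib.Basic.PCore.pCore_isPGroup p) χ0.2 hgC)
    intro x hx
    rw [Subgroup.mem_centralizer_iff]
    intro y hy
    have hy' : y = g := by simpa using hy
    subst hy'
    exact ((Subgroup.mem_centralizer_iff.mp hgC) x hx).symm
  have hnorm : ((Cfsg.pCore p G).subgroupOf (Subgroup.centralizer ({g} : Set G))).Normal :=
    Subgroup.Normal.subgroupOf (Cfsg.Agent.Lib.Basic.PCore.pCore_normal p G) _
  have hp : IsPGroup p ((Cfsg.pCore p G).subgroupOf (Subgroup.centralizer ({g} : Set G))) :=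
    (Cfsg.Agent.Lib.Basic.PCore.pCore_isPGroup p).comap_of_injective _ (Subgroup.subtype_injective _)
  have hle := hp.le_sylow_of_normal S
  intro x hx
  exact ⟨⟨x, hN hx⟩, hle (by simpa [Subgroup.mem_subgroupOf] using hx), rfl⟩

end Cfsg.Agent.S0912
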