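import Cfsg.Statements.S0928
import Mathlib
import Cfsg.Agent.S0908
import Cfsg.Agent.Lib.Blocks.BrauerCoeff
import Cfsg.Agent.Lib.Blocks.Covering
import Cfsg.Agent.Lib.Blocks.Laradji
import Cfsg.Agent.Lib.Blocks.HeightZero
import Cfsg.Agent.Lib.Char.Kazarin
-- import your own Cfsg.Agent.* helpers here

set_option autoImplicit false
open Cfsg

namespace Cfsg.Agent.S0928

open Cfsg.Agent.Lib.Blocks.Local Cfsg.Agent.Lib.Blocks.Central Cfsg.Agent.Lib.Blocks.Osima
  Cfsg.Agent.Lib.Blocks.BrauerCoeff Cfsg.Agent.Lib.Blocks.BrauerMap Cfsg.Agent.Lib.Blocks.Laradji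
  Cfsg.Agent.Lib.Blocks.HeightZero

open scoped ComplexConjugate

section Aux

variable {G : Type*} [Group G] [Fintype G]

open Classical in
/-- The sum of the solutions of `x ^ p = 1`. -/
noncomputable def tp (G : Type*) [Group G] [Fintype G] (p : ℕ) : MonoidAlgebra ℂ G :=
  ofFun (fun g : G => if g ^ p = 1 then 1 else 0)

open Classical in
lemma coeff_tp (p : ℕ) (g : G) : (tp G p).coeff g = if g ^ p = 1 then 1 else 0 := by
  simp [tp, coeff_ofFun]

lemma conj_pow_eq_one_iff {x g : G} {p : ℕ} : (x * g * x⁻¹) ^ p = 1 ↔ g ^ p = 1 := by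
  rw [conj_pow]
  constructor
  · intro h
    have h2 : g ^ p = x⁻¹ * (x * g ^ p * x⁻¹) * x := by group
    rw [h2, h]
    group
  · intro h
    rw [h]
    group

lemma tp_mem_localCenter {M : Ideal AlgInt} [M.IsPrime] (p : ℕ) : tp G p ∈ localCenter G M := by
  classical
  refine ⟨fun g x => ?_, fun g => ?_⟩
  · rw [coeff_tp, coeff_tp]
    by_cases h : g ^ p = 1
    · rw [if_pos h, if_pos (conj_pow_eq_one_iff.mpr h)]
    · rw [if_neg h, if_neg (fun h' => h (conj_pow_eq_one_iff.mp h'))]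
  · rw [coeff_tp]
    split_ifs
    · exact memLocalRing_one
    · exact memLocalRing_zero

/-- `tp` vanishes through a central element acting nontrivially. -/
lemma omega_tp_eq_zero {χ : G → ℂ} (hχ : IsIrrCharacter G χ) {p : ℕ} {z : G} (hz : z ∈ Subgroup.center G)
    (hzp : z ^ p = 1) (hne : χ z ≠ χ 1) : omega χ (tp G p) = 0 := by
  classical
  have h0 := Cfsg.Agent.Lib.Char.Ortho.irr_apply_one_ne_zero hχ
  rw [tp, omega_ofFun]
  have hcomm : ∀ y : G, z * y = y * z := fun y => (Subgroup.mem_center_iff.mp hz y).symm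
  set S := ∑ g : G, (if g ^ p = 1 then (1 : ℂ) else 0) * χ g with hS
  have h1 : S = lam χ z * S := by
    rw [hS, Finset.mul_sum]
    refine (Equiv.sum_comp (Equiv.mulLeft z) _).symm.trans (Finset.sum_congr rfl fun g _ => ?_)
    simp only [Equiv.coe_mulLeft]
    have h3 : (z * g) ^ p = g ^ p := by
      have : Commute z g := hcomm g
      rw [this.mul_pow, hzp, one_mul]
    simp only [h3, irr_mul_central hχ hz]
    ring
  have hl : lam χ z ≠ 1 := by
    rw [lam]
    intro h
    apply hne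
    field_simp at h
    exact h
  have h2 : (1 - lam χ z) * S = 0 := by
    rw [sub_mul, one_mul, ← h1, sub_self]
  have h3 : S = 0 := by
    rcases mul_eq_zero.mp h2 with h | h
    · exact absurd (sub_eq_zero.mp h).symm hl
    · exact h
  rw [h3, zero_div]

/-- A block has a member with a given `p`-singular element not in the kernel. -/
lemma exists_mem_apply_ne {M : Ideal AlgInt} [M.IsPrime] {p : ℕ} [Fact p.Prime] (hM : IsPModular p M)
    {B : Set (IrrCharacter G)} (hB : IsPBlock M B) {z : G} (hz : p ∣ orderOf z) :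
    ∃ ξ ∈ B, (ξ : G → ℂ) z ≠ (ξ : G → ℂ) 1 := by
  classical
  by_contra hcon
  push Not at hcon
  have h0 := Cfsg.Agent.Lib.Blocks.Covering.blockCoeff_eq_zero_of_dvd hM hB hz
  rw [blockCoeff_eq_sum] at h0
  have hcard : (Nat.card G : ℂ)⁻¹ ≠ 0 := by
    apply inv_ne_zero
    exact_mod_cast (Nat.card_pos (α := G)).ne'
  have h1 := (mul_eq_zero.mp h0).resolve_left hcard
  have h2 : ∀ ξ ∈ Finset.univ.filter (· ∈ B), (ξ : IrrCharacter G).1 1 * conj ((ξ : G → ℂ) z) =
      ((Complex.normSq ((ξ : G → ℂ) 1) : ℝ) : ℂ) := by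
    intro ξ hξ
    rw [hcon ξ (Finset.mem_filter.mp hξ).2, Complex.mul_conj]
  rw [Finset.sum_congr rfl h2] at h1
  have h3 : ∑ ξ ∈ Finset.univ.filter (· ∈ B), Complex.normSq ((ξ : G → ℂ) 1) = 0 := by
    exact_mod_cast h1
  obtain ⟨ξ, hξ⟩ := nonempty_of_isPBlock hB
  have h4 := (Finset.sum_eq_zero_iff_of_nonneg (fun _ _ => Complex.normSq_nonneg _)).mp h3 ξ
    (Finset.mem_filter.mpr ⟨Finset.mem_univ _, hξ⟩)
  rw [Complex.normSq_eq_zero] at h4
  exact Cfsg.Agent.Lib.Char.Ortho.irr_apply_one_ne_zero ξ.2 h4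

end Aux

/-- Let χ be an irreducible character of the finite group G and p a prime. If χ g = 0 for every element g of order p, then the exponent of p in the degree χ(1) equals the exponent of p in the order of G (χ has p-defect zero). -/
theorem result {G : Type*} [Group G] [Finite G] (p : ℕ) [Fact p.Prime] (χ : Cfsg.IrrCharacter G) (hvan : ∀ g : G, orderOf g = p → (χ : G → ℂ) g = 0) : (Cfsg.charDegree (χ : G → ℂ)).factorization p = (Nat.card G).factorization p := by
  classical
  letI := Fintype.ofFinite G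
  have hpp : p.Prime := Fact.out
  obtain ⟨M, hM⟩ := Cfsg.Agent.Lib.Char.Kazarin.exists_modular p hpp
  haveI := isPrime_of_isPModular hM
  have hdeg0 : Cfsg.charDegree (χ : G → ℂ) ≠ 0 := by
    have hdegc : ((Cfsg.charDegree (χ : G → ℂ) : ℕ) : ℂ) = (χ : G → ℂ) 1 :=
      Cfsg.Agent.Lib.Char.Values.IsCharacter.charDegree_cast
        (Cfsg.Agent.Lib.Char.Values.IsIrrCharacter.isCharacter χ.2)
    intro h
    apply Cfsg.Agent.Lib.Char.Ortho.irr_apply_one_ne_zero χ.2
    rw [← hdegc, h]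
    simp
  have hle : (Cfsg.charDegree (χ : G → ℂ)).factorization p ≤ (Nat.card G).factorization p :=
    (Nat.factorization_le_iff_dvd hdeg0 Nat.card_pos.ne').mpr (charDegree_dvd_card χ.2) p
  refine le_antisymm hle ?_
  by_contra hlt
  rw [not_le] at hlt
  -- the block and a defect group
  set B := Cfsg.blockOf M (χ : G → ℂ) with hBdef
  have hB : Cfsg.IsPBlock M B := ⟨χ, rfl⟩
  have hχB : χ ∈ B := mem_blockOf_self χ
  obtain ⟨y, hy⟩ := exists_isDefectClass hB
  obtain ⟨S⟩ : Nonempty (Sylow p (Subgroup.centralizer ({y} : Set G))) := inferInstance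
  set D : Subgroup G := (S : Subgroup (Subgroup.centralizer ({y} : Set G))).map
    (Subgroup.centralizer ({y} : Set G)).subtype with hDdef
  have hD : Cfsg.IsDefectGroup p M B D := ⟨y, hy, S, rfl⟩
  have hDcard := Cfsg.Agent.S0908.result p M hM B hB D hD
  have hDp : IsPGroup p D := S.isPGroup'.map _
  have hdefpos : 0 < Cfsg.blockDefect p B := by
    rw [Cfsg.blockDefect]
    have : sInf ((fun χ : Cfsg.IrrCharacter G => (Cfsg.charDegree (χ : G → ℂ)).factorization p) '' B) ≤
        (Cfsg.charDegree (χ : G → ℂ)).factorization p :=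
      Nat.sInf_le ⟨χ, hχB, rfl⟩
    omega
  haveI hDnt : Nontrivial D := by
    rw [← Finite.one_lt_card_iff_nontrivial, hDcard]
    exact Nat.one_lt_pow hdefpos.ne' hpp.one_lt
  haveI hZnt := hDp.center_nontrivial
  have hZp : IsPGroup p (Subgroup.center D) := hDp.to_subgroup _
  have hZdvd : p ∣ Nat.card (Subgroup.center D) := by
    obtain ⟨k, hk⟩ := IsPGroup.iff_card.mp hZp
    have h1 : 1 < Nat.card (Subgroup.center D) := Finite.one_lt_card_iff_nontrivial.mpr hZnt
    rw [hk] at h1 ⊢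
    exact dvd_pow_self p (by
      rintro rfl
      simp at h1)
  obtain ⟨z₁, hz₁⟩ := exists_prime_orderOf_dvd_card' p hZdvd
  set z₀ : G := ((z₁ : D) : G) with hz₀
  have hz₀ord : orderOf z₀ = p := by
    rw [hz₀, Subgroup.orderOf_coe, Subgroup.orderOf_coe]
    exact hz₁
  have hz₀D : z₀ ∈ D := (z₁ : D).2
  have hz₀c : ∀ w ∈ D, w * z₀ = z₀ * w := by
    intro w hw
    have := Subgroup.mem_center_iff.mp z₁.2 ⟨w, hw⟩
    exact congrArg Subtype.val this
  set C := Subgroup.centralizer (D : Set G) with hC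
  letI : Fintype C := Fintype.ofFinite C
  have hyC : y ∈ C := by
    rw [hC, Subgroup.mem_centralizer_iff]
    rintro w ⟨s, -, rfl⟩
    exact (Subgroup.mem_centralizer_iff.mp s.2 y rfl).symm
  have hz₀C : z₀ ∈ C := by
    rw [hC, Subgroup.mem_centralizer_iff]
    intro w hw
    exact hz₀c w hw
  obtain ⟨ξ, hξ⟩ := exists_brauer_of_coeff (H := C) hM hDp le_rfl (Subgroup.centralizer_le_normalizer _)
    hB hyC hy.2.1 hχB
  -- the value at `tp`
  have hχtp : omega (χ : G → ℂ) (tp G p) = 1 := by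
    have h0 := Cfsg.Agent.Lib.Char.Ortho.irr_apply_one_ne_zero χ.2
    rw [tp, omega_ofFun]
    have h1 : ∑ g : G, (if g ^ p = 1 then (1 : ℂ) else 0) * (χ : G → ℂ) g = (χ : G → ℂ) 1 := by
      rw [Finset.sum_eq_single 1]
      · simp
      · intro g _ hg
        by_cases hgp : g ^ p = 1
        · rw [hvan g (orderOf_eq_prime hgp hg), mul_zero]
        · rw [if_neg hgp, zero_mul]
      · simp
    rw [h1, div_self h0]
  have hbr : brauer D C (tp G p) = tp C p := by
    apply ext_coeff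
    intro k
    rw [coeff_brauer, if_pos k.2, coeff_tp, coeff_tp]
    have : (k : G) ^ p = 1 ↔ k ^ p = 1 := by
      rw [Subtype.ext_iff]
      simp
    by_cases h : k ^ p = 1
    · rw [if_pos (this.mpr h), if_pos h]
    · rw [if_neg (fun h' => h (this.mp h')), if_neg h]
  have h1 := hξ ⟨tp G p, tp_mem_localCenter p⟩
  simp only at h1
  rw [hbr, hχtp] at h1
  -- another member of the block of `ξ`
  set z₀' : C := ⟨z₀, hz₀C⟩ with hz₀'
  have hz₀'ord : orderOf z₀' = p := by
    rw [← Subgroup.orderOf_coe]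
    exact hz₀ord
  have hz₀'Z : z₀' ∈ Subgroup.center C := by
    rw [Subgroup.mem_center_iff]
    intro c
    apply Subtype.ext
    exact (Subgroup.mem_centralizer_iff.mp c.2 z₀ hz₀D).symm
  obtain ⟨ξ', hξ', hne⟩ := exists_mem_apply_ne hM (B := Cfsg.blockOf M (ξ : C → ℂ)) ⟨ξ, rfl⟩
    (z := z₀') (by rw [hz₀'ord])
  have h2 := omega_tp_eq_zero ξ'.2 hz₀'Z (p := p) (hz₀'ord ▸ pow_orderOf_eq_one _) hne
  have h3 := memLocalIdeal_omega_sub ξ.2 ξ'.2 hξ' (tp_mem_localCenter (G := C) (M := M) p)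
  rw [h2, sub_zero] at h3
  apply not_memLocalIdeal_one (M := M)
  have h4 := memLocalIdeal_sub h3 h1
  convert h4 using 1
  ring

end Cfsg.Agent.S0928
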