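import Cfsg.Statements.S4499
import Mathlib
import Cfsg.Agent.S0928
import Cfsg.Agent.Lib.Blocks.RegNorm
import Cfsg.Agent.Lib.Char.PRegular
import Cfsg.Agent.Lib.Char.Virtual
-- import your own Cfsg.Agent.* helpers here

set_option autoImplicit false
open Cfsg

namespace Cfsg.Agent.S4499

open Cfsg.Agent.Lib.Blocks.Local Cfsg.Agent.Lib.Blocks.Central Cfsg.Agent.Lib.Blocks.Osima
  Cfsg.Agent.Lib.Blocks.Regular Cfsg.Agent.Lib.Blocks.RegNorm
  Cfsg.Agent.Lib.Blocks.HeightZero Cfsg.Agent.Lib.Blocks.Laradji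
open scoped ComplexConjugate

/-- Inner products of generalized characters with irreducible characters are integers. -/
lemma exists_int_classInner {G : Type*} [Group G] [Fintype G] {θ : G → ℂ}
    (hθ : Cfsg.IsGeneralizedCharacter G θ) (ψ : Cfsg.IrrCharacter G) :
    ∃ n : ℤ, Cfsg.classInner θ (ψ : G → ℂ) = n := by
  obtain ⟨χ₁, χ₂, h₁, h₂, rfl⟩ := hθ
  obtain ⟨n₁, hn₁⟩ := Cfsg.Agent.Lib.Char.Ortho.exists_nat_classInner h₁ ψ
  obtain ⟨n₂, hn₂⟩ := Cfsg.Agent.Lib.Char.Ortho.exists_nat_classInner h₂ ψ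
  refine ⟨(n₁ : ℤ) - n₂, ?_⟩
  push_cast
  rw [← hn₁, ← hn₂, Cfsg.classInner, Cfsg.classInner, Cfsg.classInner, ← mul_sub, ← Finset.sum_sub_distrib]
  congr 1
  refine Finset.sum_congr rfl fun g _ => ?_
  simp only [Pi.sub_apply]
  ring

/-- Let G be a finite group whose order has p-part p^a (a ≥ 1), and fix a maximal ideal M of the algebraic integers containing p. If the degree of one irreducible character of a p-block B is divisible by p^(a−1), then the degree of every irreducible character in B is divisible by p^(a−1) (so B has defect at most 1). -/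
theorem result {G : Type*} [Group G] [Finite G] (p : ℕ) [Fact p.Prime] (M : Ideal Cfsg.AlgInt) (hM : Cfsg.IsPModular p M) (hpa : p ∣ Nat.card G) (B : Set (Cfsg.IrrCharacter G)) (hB : Cfsg.IsPBlock M B) (χ : Cfsg.IrrCharacter G) (hχ : χ ∈ B) (hdiv : p ^ ((Nat.card G).factorization p - 1) ∣ Cfsg.charDegree (χ : G → ℂ)) (ψ : Cfsg.IrrCharacter G) (hψ : ψ ∈ B) : p ^ ((Nat.card G).factorization p - 1) ∣ Cfsg.charDegree (ψ : G → ℂ) := by
  classical
  letI := Fintype.ofFinite G
  haveI := isPrime_of_isPModular hM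
  have hpp : p.Prime := Fact.out
  set a := (Nat.card G).factorization p with ha
  have hapos : 1 ≤ a := by
    have := (hpp.dvd_iff_one_le_factorization Nat.card_pos.ne').mp hpa
    exact this
  have hc : ∀ τ : Cfsg.IrrCharacter G, ((Cfsg.charDegree (τ : G → ℂ) : ℕ) : ℂ) = (τ : G → ℂ) 1 := fun τ =>
    Cfsg.Agent.Lib.Char.Values.IsCharacter.charDegree_cast
      (Cfsg.Agent.Lib.Char.Values.IsIrrCharacter.isCharacter τ.2)
  have hd0 : ∀ τ : Cfsg.IrrCharacter G, Cfsg.charDegree (τ : G → ℂ) ≠ 0 := by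
    intro τ h1
    apply Cfsg.Agent.Lib.Char.Ortho.irr_apply_one_ne_zero τ.2
    rw [← hc, h1]
    simp
  by_contra hcon
  have hψlt : (Cfsg.charDegree (ψ : G → ℂ)).factorization p < a - 1 := by
    by_contra hge
    rw [not_lt] at hge
    exact hcon ((hpp.pow_dvd_iff_le_factorization (hd0 ψ)).mpr hge)
  have hχge : a - 1 ≤ (Cfsg.charDegree (χ : G → ℂ)).factorization p :=
    (hpp.pow_dvd_iff_le_factorization (hd0 χ)).mp hdiv
  have hχdvd : Cfsg.charDegree (χ : G → ℂ) ∣ Nat.card G := charDegree_dvd_card χ.2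
  -- `omega χ (zElt χ)` lies in the local ideal
  have hsame : Cfsg.SameBlock M (χ : G → ℂ) (ψ : G → ℂ) := by
    obtain ⟨τ, rfl⟩ := hB
    exact sameBlock_trans (sameBlock_symm hχ) hψ
  have hω : Cfsg.MemLocalIdeal M (omega (χ : G → ℂ) (zElt p (χ : G → ℂ))) := by
    have h1 : Cfsg.MemLocalIdeal M (omega (ψ : G → ℂ) (zElt p (χ : G → ℂ))) :=
      memLocalIdeal_omega_zElt_of_lt hM (by omega)
    have h2 := memLocalIdeal_omega_sub χ.2 ψ.2 hsame (zElt_mem_localCenter (M := M) (p := p) χ.2)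
    have h3 := memLocalIdeal_add h2 h1
    convert h3 using 1
    ring
  -- the regular norm
  set R : ℝ := ∑ y : G, if p ∣ orderOf y then 0 else Complex.normSq ((χ : G → ℂ) y) with hR
  have hRsum : regSum p (χ : G → ℂ) (χ : G → ℂ) = (R : ℂ) := by
    rw [regSum, hR]
    push_cast
    refine Finset.sum_congr rfl fun y _ => ?_
    by_cases hy : p ∣ orderOf y
    · rw [reg_of_dvd _ hy, if_pos hy]
      simp
    · rw [reg_of_not_dvd _ hy, if_neg hy, ← Complex.mul_conj, mul_comm]
  have hT : ∑ y : G, Complex.normSq ((χ : G → ℂ) y) = (Nat.card G : ℝ) := by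
    have h1 := Cfsg.Agent.Lib.Char.Ortho.classInner_irr_self χ.2
    rw [Cfsg.classInner] at h1
    have hG0 : (Nat.card G : ℂ) ≠ 0 := Nat.cast_ne_zero.mpr Nat.card_pos.ne'
    have h2 : ∑ y : G, (χ : G → ℂ) y * conj ((χ : G → ℂ) y) = (Nat.card G : ℂ) := by
      field_simp at h1
      exact h1
    have h3 : ((∑ y : G, Complex.normSq ((χ : G → ℂ) y) : ℝ) : ℂ) = ((Nat.card G : ℝ) : ℂ) := by
      push_cast
      rw [← h2]
      refine Finset.sum_congr rfl fun y _ => ?_
      rw [Complex.mul_conj]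
    exact_mod_cast h3
  -- the integer
  have hgen := Cfsg.Agent.Lib.Char.PRegular.isGeneralized_pRegular p
    (Cfsg.Agent.Lib.Char.Basic.isCharacter_of_isIrrCharacter χ.2)
  obtain ⟨n, hn⟩ := exists_int_classInner hgen χ
  have hGc : (Nat.card G : ℂ) ≠ 0 := Nat.cast_ne_zero.mpr Nat.card_pos.ne'
  have hnR : (p : ℂ) ^ a * (R : ℂ) = (n : ℂ) * (Nat.card G : ℂ) := by
    rw [← hn, Cfsg.classInner]
    field_simp
    rw [← hRsum, regSum, Finset.mul_sum]
    refine Finset.sum_congr rfl fun y _ => ?_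
    by_cases hy : p ∣ orderOf y
    · rw [reg_of_dvd _ hy, if_pos hy]
      simp
    · rw [reg_of_not_dvd _ hy, if_neg hy]
      push_cast
      ring
  -- the quotient of orders
  obtain ⟨c, hcdef⟩ := hχdvd
  have hc0 : c ≠ 0 := by
    rintro rfl
    have h0 : Nat.card G = 0 := by simpa using hcdef
    exact (Nat.card_pos (α := G)).ne' h0
  have hνc : c.factorization p = a - (Cfsg.charDegree (χ : G → ℂ)).factorization p := by
    have h1 := congrArg (fun m => m.factorization p) hcdef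
    simp only [Nat.factorization_mul (hd0 χ) hc0, Finsupp.add_apply] at h1
    omega
  have hdeg1 : (χ : G → ℂ) 1 ≠ 0 := Cfsg.Agent.Lib.Char.Ortho.irr_apply_one_ne_zero χ.2
  have hωval : omega (χ : G → ℂ) (zElt p (χ : G → ℂ)) * (p : ℂ) ^ a = (c : ℂ) * (n : ℂ) := by
    rw [omega_zElt, hRsum]
    have h1 : (Nat.card G : ℂ) = (χ : G → ℂ) 1 * (c : ℂ) := by
      rw [hcdef, ← hc]
      push_cast
      ring
    field_simp
    rw [mul_comm (R : ℂ), hnR, h1]
    ring
  -- divisibility of `n`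
  obtain ⟨t, c', hc'p, hc'⟩ := Nat.exists_eq_pow_mul_and_not_dvd hc0 p hpp.ne_one
  have ht : t = c.factorization p := by
    rw [hc', Nat.factorization_mul (pow_ne_zero _ hpp.ne_zero) (fun h => hc'p (by rw [h]; exact dvd_zero p))]
    simp [hpp.factorization_self, Nat.factorization_eq_zero_of_not_dvd hc'p]
  have htle : t ≤ 1 := by omega
  have hRpos : 0 < R := by
    rw [hR]
    refine Finset.sum_pos' ?_ ⟨1, Finset.mem_univ _, ?_⟩
    · intro y _
      split_ifs
      · exact le_rfl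
      · exact Complex.normSq_nonneg _
    · rw [if_neg (by simpa using hpp.one_lt.ne')]
      exact Complex.normSq_pos.mpr hdeg1
  have hn0 : n ≠ 0 := by
    rintro rfl
    have h1 : (p : ℂ) ^ a * (R : ℂ) ≠ 0 :=
      mul_ne_zero (pow_ne_zero _ (Nat.cast_ne_zero.mpr hpp.ne_zero)) (by exact_mod_cast hRpos.ne')
    apply h1
    rw [hnR]
    simp
  obtain ⟨s, n₀, hn₀p, hn₀⟩ := Nat.exists_eq_pow_mul_and_not_dvd (Int.natAbs_ne_zero.mpr hn0) p hpp.ne_one
  obtain ⟨n', hn'p, hn'⟩ : ∃ n' : ℤ, ¬ (p : ℤ) ∣ n' ∧ n = (p : ℤ) ^ s * n' := by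
    rcases Int.natAbs_eq n with h | h
    · refine ⟨(n₀ : ℤ), by exact_mod_cast hn₀p, ?_⟩
      rw [h, hn₀]
      push_cast
      ring
    · refine ⟨-(n₀ : ℤ), ?_, ?_⟩
      · rw [dvd_neg]
        exact_mod_cast hn₀p
      · rw [h, hn₀]
        push_cast
        ring
  have hsa : a ≤ s := by
    by_contra hlt
    rw [not_le] at hlt
    have h1 : omega (χ : G → ℂ) (zElt p (χ : G → ℂ)) * (p : ℂ) ^ (a - t - s) = (c' : ℂ) * (n' : ℂ) := by
      have h2 : (p : ℂ) ≠ 0 := Nat.cast_ne_zero.mpr hpp.ne_zero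
      have h3 : (p : ℂ) ^ a = (p : ℂ) ^ (a - t - s) * ((p : ℂ) ^ t * (p : ℂ) ^ s) := by
        rw [← pow_add, ← pow_add]
        congr 1
        omega
      have h4 : (c : ℂ) * (n : ℂ) = (c' : ℂ) * (n' : ℂ) * ((p : ℂ) ^ t * (p : ℂ) ^ s) := by
        rw [hc', hn']
        push_cast
        ring
      rw [h4, h3, ← mul_assoc] at hωval
      exact mul_right_cancel₀ (mul_ne_zero (pow_ne_zero _ h2) (pow_ne_zero _ h2)) hωval
    have h2 : Cfsg.MemLocalIdeal M ((c' : ℂ) * (n' : ℂ)) := by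
      rw [← h1]
      exact memLocalIdeal_mul_right hω (memLocalRing_pow (memLocalRing_natCast p) _)
    have h3 : Cfsg.MemLocalIdeal M (((c' : ℤ) * n' : ℤ) : ℂ) := by
      push_cast
      exact h2
    rw [memLocalIdeal_intCast_iff hM] at h3
    have hpint : Prime (p : ℤ) := Nat.prime_iff_prime_int.mp hpp
    rcases hpint.dvd_or_dvd h3 with h4 | h4
    · exact hc'p (by exact_mod_cast h4)
    · exact hn'p h4
  -- so `R / |G|` is a positive integer at most `1`
  obtain ⟨e, rfl⟩ : ∃ e, s = a + e := ⟨s - a, by omega⟩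
  set m : ℤ := (p : ℤ) ^ e * n' with hm
  have hnm : n = (p : ℤ) ^ a * m := by
    rw [hn', hm, pow_add]
    ring
  have hRm : R = (m : ℝ) * (Nat.card G : ℝ) := by
    have h1 : (p : ℂ) ^ a ≠ 0 := pow_ne_zero _ (Nat.cast_ne_zero.mpr hpp.ne_zero)
    have h2 : (R : ℂ) = (m : ℂ) * (Nat.card G : ℂ) := by
      apply mul_left_cancel₀ h1
      rw [hnR, hnm]
      push_cast
      ring
    exact_mod_cast h2
  have hRle : R ≤ (Nat.card G : ℝ) := by
    rw [← hT, hR]
    refine Finset.sum_le_sum fun y _ => ?_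
    split_ifs
    · exact Complex.normSq_nonneg _
    · exact le_rfl
  have hGpos : (0 : ℝ) < (Nat.card G : ℝ) := by exact_mod_cast Nat.card_pos
  have hm1 : m = 1 := by
    have h1 : (0 : ℝ) < m := by
      by_contra h
      rw [not_lt] at h
      have := mul_nonpos_of_nonpos_of_nonneg h hGpos.le
      rw [← hRm] at this
      linarith
    have h2 : (m : ℝ) ≤ 1 := by
      by_contra h
      rw [not_le] at h
      have := mul_lt_mul_of_pos_right h hGpos
      rw [← hRm, one_mul] at this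
      linarith
    have h3 : 0 < m := by exact_mod_cast h1
    have h4 : m ≤ 1 := by exact_mod_cast h2
    omega
  -- `χ` vanishes on `p`-singular elements
  have hRT : R = (Nat.card G : ℝ) := by
    rw [hRm, hm1]
    simp
  have hvan : ∀ g : G, orderOf g = p → (χ : G → ℂ) g = 0 := by
    intro g hg
    have h1 : ∑ y : G, (Complex.normSq ((χ : G → ℂ) y) -
        (if p ∣ orderOf y then 0 else Complex.normSq ((χ : G → ℂ) y))) = 0 := by
      rw [Finset.sum_sub_distrib, hT, ← hR, hRT, sub_self]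
    have h2 := (Finset.sum_eq_zero_iff_of_nonneg (fun y _ => by
      split_ifs
      · simpa using Complex.normSq_nonneg _
      · simp)).mp h1 g (Finset.mem_univ _)
    rw [if_pos (by rw [hg]), sub_zero, Complex.normSq_eq_zero] at h2
    exact h2
  have hknorr := Cfsg.Agent.S0928.result p χ hvan
  -- so `c` is prime to `p`, and `omega χ (zElt χ) = c`
  have ht0 : t = 0 := by omega
  have hc'eq : c = c' := by
    rw [hc', ht0]
    simp
  have hωc : omega (χ : G → ℂ) (zElt p (χ : G → ℂ)) = (c : ℂ) := by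
    rw [omega_zElt, hRsum, hRT]
    have h1 : (Nat.card G : ℂ) = (χ : G → ℂ) 1 * (c : ℂ) := by
      rw [hcdef, ← hc]
      push_cast
      ring
    push_cast
    rw [h1]
    field_simp
  rw [hωc, memLocalIdeal_natCast_iff hM, hc'eq] at hω
  exact hc'p hω

end Cfsg.Agent.S4499
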