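import Cfsg.Statements.S4431
import Mathlib
import Cfsg.Agent.Lib.Blocks.RegNorm
import Cfsg.Agent.Lib.Blocks.SecondMain
-- import your own Cfsg.Agent.* helpers here

set_option autoImplicit false
open Cfsg

namespace Cfsg.Agent.S4431

open Cfsg.Agent.Lib.Blocks.Local Cfsg.Agent.Lib.Blocks.Central Cfsg.Agent.Lib.Blocks.Osima
  Cfsg.Agent.Lib.Blocks.Regular Cfsg.Agent.Lib.Blocks.RegNorm Cfsg.Agent.Lib.Blocks.SecondMain
  Cfsg.Agent.Lib.Blocks.HeightZero in
/-- The inner product in terms of the restricted central element. -/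
theorem classInner_eq_omega_restr {G : Type*} [Group G] [Fintype G] (p : ℕ) [hp : Fact p.Prime] (H : Subgroup G)
    [Fintype H] (χ : Cfsg.IrrCharacter G) (ψ : Cfsg.IrrCharacter H) :
    Cfsg.classInner (fun h : H => if p ∣ orderOf h then (0 : ℂ) else
        ((p ^ (Nat.card H).factorization p : ℕ) : ℂ) * (χ : G → ℂ) h) (ψ : H → ℂ) / (ψ : H → ℂ) 1 =
      ((ordCompl[p] (Nat.card H) : ℕ) : ℂ)⁻¹ * omega (ψ : H → ℂ) (restr H (zElt p (χ : G → ℂ))) := by
  classical
  have hψ0 := Cfsg.Agent.Lib.Char.Ortho.irr_apply_one_ne_zero ψ.2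
  have hcard : ((p ^ (Nat.card H).factorization p : ℕ) : ℂ) * ((ordCompl[p] (Nat.card H) : ℕ) : ℂ) =
      (Nat.card H : ℂ) := by
    rw [← Nat.cast_mul, Nat.ordProj_mul_ordCompl_eq_self]
  have hf0 : ((ordCompl[p] (Nat.card H) : ℕ) : ℂ) ≠ 0 := by
    intro h0
    have : (Nat.card H : ℂ) = 0 := by rw [← hcard, h0, mul_zero]
    exact (Nat.cast_ne_zero.2 Nat.card_pos.ne') this
  have hp0 : ((p ^ (Nat.card H).factorization p : ℕ) : ℂ) ≠ 0 := by
    intro h0
    have : (Nat.card H : ℂ) = 0 := by rw [← hcard, h0, zero_mul]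
    exact (Nat.cast_ne_zero.2 Nat.card_pos.ne') this
  have hsum : ∑ h : H, (if p ∣ orderOf h then (0 : ℂ) else
        ((p ^ (Nat.card H).factorization p : ℕ) : ℂ) * (χ : G → ℂ) h) * (starRingEnd ℂ) ((ψ : H → ℂ) h) =
      ((p ^ (Nat.card H).factorization p : ℕ) : ℂ) * ∑ h : H, (restr H (zElt p (χ : G → ℂ))).coeff h * (ψ : H → ℂ) h := by
    rw [Finset.mul_sum]
    refine Fintype.sum_equiv (Equiv.inv H) _ _ fun h => ?_
    simp only [Equiv.inv_apply, coeff_restr, zElt, coeff_regElt, reg]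
    have h1 : orderOf ((h⁻¹ : H) : G) = orderOf h := by
      rw [Subgroup.coe_inv, orderOf_inv, Subgroup.orderOf_coe]
    by_cases hd : p ∣ orderOf h
    · rw [if_pos hd, if_pos (by rw [h1]; exact hd)]
      simp
    · rw [if_neg hd, if_neg (by rw [h1]; exact hd), Subgroup.coe_inv,
        Cfsg.Agent.Lib.Char.Complete.isIrr_inv χ.2, Complex.conj_conj,
        Cfsg.Agent.Lib.Char.Complete.isIrr_inv ψ.2]
      ring
  rw [Cfsg.classInner, hsum, omega, ← hcard]
  field_simp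

/-- Let H be a subgroup of the finite group G and b a block of H whose induced block B₀ in G is defined (relative to a maximal ideal M of the algebraic integers containing p). Let χ be an irreducible character of G, ψ ∈ b, and let η be the class function on H equal to p^a · χ on the p-regular elements of H and zero elsewhere, p^a being the p-part of the order of H. Then (a) if χ ∉ B₀, the number [η, ψ]/ψ(1) lies in the local ideal at M; (b) if χ ∈ B₀ has height zero, it does not. -/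
theorem result {G : Type*} [Group G] [Fintype G] (p : ℕ) [Fact p.Prime] (M : Ideal Cfsg.AlgInt) (hM : Cfsg.IsPModular p M) (H : Subgroup G) [Fintype H] (b : Set (Cfsg.IrrCharacter H)) (B₀ : Set (Cfsg.IrrCharacter G)) (hind : Cfsg.IsInducedBlock M H b B₀) (χ : Cfsg.IrrCharacter G) (ψ : Cfsg.IrrCharacter H) (hψ : ψ ∈ b) : (χ ∉ B₀ → Cfsg.MemLocalIdeal M (Cfsg.classInner (fun h : H => if p ∣ orderOf h then (0 : ℂ) else ((p ^ (Nat.card H).factorization p : ℕ) : ℂ) * (χ : G → ℂ) h) (ψ : H → ℂ) / (ψ : H → ℂ) 1)) ∧ (χ ∈ B₀ → Cfsg.blockHeight p B₀ (χ : G → ℂ) = 0 → ¬ Cfsg.MemLocalIdeal M (Cfsg.classInner (fun h : H => if p ∣ orderOf h then (0 : ℂ) else ((p ^ (Nat.card H).factorization p : ℕ) : ℂ) * (χ : G → ℂ) h) (ψ : H → ℂ) / (ψ : H → ℂ) 1)) := by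
  classical
  haveI := Cfsg.Agent.Lib.Blocks.Local.isPrime_of_isPModular hM
  have hp : p.Prime := Fact.out
  have hnd : ¬ p ∣ ordCompl[p] (Nat.card H) := Nat.not_dvd_ordCompl hp Nat.card_pos.ne'
  have hinv := Cfsg.Agent.Lib.Blocks.Local.memLocalRing_inv_natCast (M := M) hM hnd
  have hz := Cfsg.Agent.Lib.Blocks.RegNorm.zElt_mem_localCenter (M := M) (p := p) χ.2
  rw [classInner_eq_omega_restr]
  constructor
  · intro hχ
    obtain ⟨χ₀, rfl⟩ := id hind.2.1
    have hχ₀ := Cfsg.Agent.Lib.Blocks.Osima.mem_blockOf_self (M := M) χ₀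
    have h1 := Cfsg.Agent.Lib.Blocks.SecondMain.memLocalIdeal_omega_restr_sub (H := H)
      (Cfsg.Agent.Lib.Blocks.Central.isClassFunction_of_irr χ₀.2) hz (hind.2.2 ψ hψ χ₀ hχ₀)
    have h2 : Cfsg.Agent.Lib.Blocks.Central.omega (χ₀ : G → ℂ) (Cfsg.Agent.Lib.Blocks.RegNorm.zElt p (χ : G → ℂ)) = 0 :=
      Cfsg.Agent.Lib.Blocks.RegNorm.omega_zElt_eq_zero hM (fun hs => hχ hs)
    rw [h2, sub_zero] at h1
    exact Cfsg.Agent.Lib.Blocks.Local.memLocalIdeal_mul_left hinv h1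
  · intro hχ h0 hmem
    have h1 := Cfsg.Agent.Lib.Blocks.SecondMain.memLocalIdeal_omega_restr_sub (H := H)
      (Cfsg.Agent.Lib.Blocks.Central.isClassFunction_of_irr χ.2) hz (hind.2.2 ψ hψ χ hχ)
    have hf0 : ((ordCompl[p] (Nat.card H) : ℕ) : ℂ) ≠ 0 := by
      exact_mod_cast fun h0 => hnd (by rw [h0]; exact dvd_zero p)
    have h2 : Cfsg.MemLocalIdeal M (Cfsg.Agent.Lib.Blocks.Central.omega (ψ : H → ℂ)
        (Cfsg.Agent.Lib.Blocks.SecondMain.restr H (Cfsg.Agent.Lib.Blocks.RegNorm.zElt p (χ : G → ℂ)))) := by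
      have h3 := Cfsg.Agent.Lib.Blocks.Local.memLocalIdeal_mul_left
        (Cfsg.Agent.Lib.Blocks.Local.memLocalRing_natCast (M := M) (ordCompl[p] (Nat.card H))) hmem
      rwa [mul_inv_cancel_left₀ hf0] at h3
    have h3 := Cfsg.Agent.Lib.Blocks.Local.memLocalIdeal_sub h2 h1
    rw [sub_sub_cancel] at h3
    exact Cfsg.Agent.Lib.Blocks.RegNorm.not_memLocalIdeal_omega_zElt_self hM hind.2.1 hχ h0 h3

end Cfsg.Agent.S4431
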