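import Cfsg.Statements.S4633
import Mathlib
import Cfsg.Agent.Lib.Blocks.AbelianCount

set_option autoImplicit false
set_option linter.style.haveILetI false
open Cfsg

namespace Cfsg.Agent.S4633

open Cfsg.Agent.Lib.Blocks.Pairs Cfsg.Agent.Lib.Blocks.AbelianCount Cfsg.Agent.Lib.Blocks.Regular

/-- A generator form of the theorem: an action on a cyclic `p`-group. -/
lemma action_facts {G : Type*} [Group G] [Finite G] (p : ℕ) [hp : Fact p.Prime] (u : G) {a : ℕ} (ha : 1 ≤ a)
    (hu : orderOf u = p ^ a) (T : Subgroup G) (hTu : ∀ t ∈ T, ∃ k : ℕ, t * u * t⁻¹ = u ^ k)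
    (hcop : ∀ t ∈ T, (∃ m : ℕ, t ^ (p ^ m) * u * (t ^ (p ^ m))⁻¹ = u) → t * u * t⁻¹ = u) :
    ∃ f : T →* (ZMod p)ˣ, (∀ t : T, f t = 1 → (t : G) * u * (t : G)⁻¹ = u) ∧
      (∀ (t : T) (j : ℕ), u ^ j ≠ 1 → (t : G) * u ^ j * (t : G)⁻¹ = u ^ j → f t = 1) ∧
      (∀ t : T, (t : G) * u * (t : G)⁻¹ = u → f t = 1) := by
  classical
  choose! k hk using hTu
  have hconjpow : ∀ (t : G) (j : ℕ), t * u ^ j * t⁻¹ = (t * u * t⁻¹) ^ j := by
    intro t j
    rw [conj_pow]
  have hmodp : ∀ m n : ℕ, u ^ m = u ^ n → (m : ZMod p) = (n : ZMod p) := by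
    intro m n h
    rw [pow_eq_pow_iff_modEq, hu] at h
    rw [ZMod.natCast_eq_natCast_iff]
    exact h.of_dvd (dvd_pow_self p (by omega))
  have hmul : ∀ s ∈ T, ∀ t ∈ T, u ^ (k (s * t)) = u ^ (k s * k t) := by
    intro s hs t ht
    rw [← hk _ (T.mul_mem hs ht), pow_mul, ← hk s hs, ← hconjpow, ← hk t ht]
    group
  have hone : u ^ k 1 = u ^ 1 := by
    rw [← hk 1 T.one_mem]
    simp
  let f₀ : T →* ZMod p :=
    { toFun := fun t => (k t : ZMod p)
      map_one' := by
        have := hmodp _ _ hone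
        simpa using this
      map_mul' := by
        intro s t
        have := hmodp _ _ (hmul s s.2 t t.2)
        simpa using this }
  have hf₀ : ∀ t : T, f₀ t = (k t : ZMod p) := fun t => rfl
  refine ⟨f₀.toHomUnits, ?_, ?_, ?_⟩
  · intro t ht
    have h1 : (k t : ZMod p) = 1 := by
      have := congrArg Units.val ht
      rw [← hf₀]
      simpa using this
    apply hcop t t.2
    refine ⟨a, ?_⟩
    -- the power
    have hpow : ∀ m : ℕ, ((t : G) ^ m) * u * ((t : G) ^ m)⁻¹ = u ^ (k t ^ m) := by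
      intro m
      induction m with
      | zero => simp
      | succ m ih =>
        rw [pow_succ, mul_inv_rev]
        calc (t : G) ^ m * (t : G) * u * ((t : G)⁻¹ * ((t : G) ^ m)⁻¹)
            = (t : G) ^ m * ((t : G) * u * (t : G)⁻¹) * ((t : G) ^ m)⁻¹ := by group
          _ = (t : G) ^ m * u ^ k t * ((t : G) ^ m)⁻¹ := by rw [hk t t.2]
          _ = ((t : G) ^ m * u * ((t : G) ^ m)⁻¹) ^ k t := by rw [hconjpow]
          _ = u ^ (k t ^ (m + 1)) := by rw [ih, ← pow_mul, pow_succ]
    rw [hpow]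
    -- `k ≡ 1 mod p` gives `k ^ (p ^ a) ≡ 1 mod p ^ a`
    have h2 : ((p : ℕ) : ℤ) ∣ (k t : ℤ) - 1 := by
      have h3 : (((k t : ℤ) - 1 : ℤ) : ZMod p) = 0 := by
        push_cast
        rw [h1, sub_self]
      exact (ZMod.intCast_zmod_eq_zero_iff_dvd _ _).mp h3
    have h4 := dvd_sub_pow_of_dvd_sub h2 a
    rw [one_pow] at h4
    have h5 : ((p ^ a : ℕ) : ℤ) ∣ ((k t ^ (p ^ a) : ℕ) : ℤ) - ((1 : ℕ) : ℤ) := by
      push_cast
      exact (pow_dvd_pow (p : ℤ) (Nat.le_succ a)).trans h4
    have h6 : k t ^ p ^ a ≡ 1 [MOD orderOf u] := by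
      rw [hu]
      exact ((Nat.modEq_iff_dvd).mpr h5).symm
    rw [← pow_eq_pow_iff_modEq] at h6
    simpa using h6
  · intro t j hj hfix
    apply Units.ext
    have h1 : u ^ (j * k t) = u ^ j := by
      have h2 : (t : G) * u ^ j * (t : G)⁻¹ = (u ^ k t) ^ j := by
        rw [hconjpow, hk t t.2]
      rw [mul_comm, pow_mul, ← h2, hfix]
    -- `p ^ a ∣ j (k - 1)`, not `p ^ a ∣ j`
    rw [pow_eq_pow_iff_modEq, hu] at h1
    have hj' : ¬ p ^ a ∣ j := by
      intro h
      apply hj
      rw [← hu] at h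
      exact orderOf_dvd_iff_pow_eq_one.mp h
    have h3 : ((p ^ a : ℕ) : ℤ) ∣ (j : ℤ) * ((k t : ℤ) - 1) := by
      have := (Nat.modEq_iff_dvd).mp h1.symm
      push_cast at this ⊢
      convert this using 1
      ring
    have h4 : (p : ℤ) ∣ (k t : ℤ) - 1 := by
      by_contra hcon
      have hcop' : IsCoprime ((p : ℤ) ^ a) ((k t : ℤ) - 1) := by
        apply IsCoprime.pow_left
        exact (Nat.prime_iff_prime_int.mp hp.out).coprime_iff_not_dvd.mpr hcon
      have h5 : ((p : ℤ) ^ a) ∣ (j : ℤ) := by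
        push_cast at h3
        exact hcop'.dvd_of_dvd_mul_right h3
      apply hj'
      exact_mod_cast h5
    have h5 : (((k t : ℤ) - 1 : ℤ) : ZMod p) = 0 := (ZMod.intCast_zmod_eq_zero_iff_dvd _ _).mpr h4
    push_cast at h5
    have h6 : (k t : ZMod p) = 1 := sub_eq_zero.mp h5
    rw [← hf₀] at h6
    simpa [MonoidHom.toHomUnits] using h6
  · intro t ht
    apply Units.ext
    have h1 : u ^ k t = u ^ 1 := by
      rw [← hk t t.2, ht, pow_one]
    have := hmodp _ _ h1
    rw [Nat.cast_one, ← hf₀] at this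
    simpa [MonoidHom.toHomUnits] using this

/-- Let B be a block of the finite group G relative to a maximal ideal M of the algebraic integers containing the prime p, with a nontrivial cyclic defect group P. Let c be a block of C_G(P) inducing B and T the stabilizer of c in N_G(P) (the elements of N_G(P) conjugating c to itself); T contains C_G(P). Then T/C_G(P) is cyclic of order dividing p − 1, and it acts freely on the non-identity elements of P: an element of T fixing some non-identity element of P under conjugation lies in C_G(P). -/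
theorem result {G : Type*} [Group G] [Finite G] (p : ℕ) [Fact p.Prime] (M : Ideal Cfsg.AlgInt) (hM : Cfsg.IsPModular p M) (B : Set (Cfsg.IrrCharacter G)) (hB : Cfsg.IsPBlock M B) (P : Subgroup G) (hPD : Cfsg.IsDefectGroup p M B P) (hP1 : P ≠ ⊥) (hcyc : IsCyclic P) (c : Set (Cfsg.IrrCharacter (Subgroup.centralizer (P : Set G)))) (hc : Cfsg.IsInducedBlock M (Subgroup.centralizer (P : Set G)) c B) (T : Subgroup G) (hT : ∀ g : G, g ∈ T ↔ (g ∈ Subgroup.normalizer (P : Set G) ∧ Cfsg.StabilizesBlock (Subgroup.centralizer (P : Set G)) c g)) [hn : ((Subgroup.centralizer (P : Set G)).subgroupOf T).Normal] : IsCyclic (T ⧸ (Subgroup.centralizer (P : Set G)).subgroupOf T) ∧ (Subgroup.centralizer (P : Set G)).relIndex T ∣ p - 1 ∧ ∀ g ∈ T, ∀ x ∈ P, x ≠ 1 → g * x * g⁻¹ = x → g ∈ Subgroup.centralizer (P : Set G) := by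
  classical
  cases nonempty_fintype G
  haveI := Cfsg.Agent.Lib.Blocks.Local.isPrime_of_isPModular hM
  have hcard := Cfsg.Agent.S0908.result p M hM B hB P hPD
  have hPp : IsPGroup p P := IsPGroup.of_card hcard
  have hBe := isBrauerPairOf_of_induced hPp hc
  have hmax := isMaximal_of_isDefectGroup hM hBe hPD
  obtain ⟨u₀, hu₀⟩ := IsCyclic.exists_generator (α := P)
  set u : G := (u₀ : G) with hudef
  have hPz : ∀ x ∈ P, ∃ j : ℕ, x = u ^ j := by
    intro x hx
    have h1 := hu₀ ⟨x, hx⟩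
    rw [← mem_powers_iff_mem_zpowers] at h1
    obtain ⟨j, hj⟩ := h1
    refine ⟨j, ?_⟩
    have := congrArg Subtype.val hj
    simpa [hudef] using this.symm
  have huP : u ∈ P := u₀.2
  have hcomm : ∀ x ∈ P, ∀ y ∈ P, x * y = y * x := by
    intro x hx y hy
    obtain ⟨i, rfl⟩ := hPz x hx
    obtain ⟨j, rfl⟩ := hPz y hy
    rw [← pow_add, ← pow_add, add_comm]
  have hPC : P ≤ Subgroup.centralizer (P : Set G) := fun x hx =>
    Subgroup.mem_centralizer_iff.mpr fun y hy => hcomm y hy x hx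
  have hcen : ∀ g : G, g * u * g⁻¹ = u → g ∈ Subgroup.centralizer (P : Set G) := by
    intro g hg
    rw [Subgroup.mem_centralizer_iff]
    intro x hx
    obtain ⟨j, rfl⟩ := hPz x hx
    have : g * u ^ j * g⁻¹ = u ^ j := by
      rw [← conj_pow, hg]
    calc u ^ j * g = (g * u ^ j * g⁻¹) * g := by rw [this]
      _ = g * u ^ j := by group
  have hcen' : ∀ g ∈ Subgroup.centralizer (P : Set G), g * u * g⁻¹ = u := by
    intro g hg
    rw [← Subgroup.mem_centralizer_iff.mp hg u huP]
    group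
  have hu1 : u ≠ 1 := by
    intro h
    apply hP1
    rw [eq_bot_iff]
    intro x hx
    obtain ⟨j, rfl⟩ := hPz x hx
    rw [h, one_pow]
    exact Subgroup.one_mem _
  obtain ⟨a, ha⟩ : ∃ a : ℕ, orderOf u = p ^ a := by
    obtain ⟨a, ha⟩ := hPp u₀
    have h1 : orderOf u ∣ p ^ a := by
      rw [hudef, Subgroup.orderOf_coe]
      exact orderOf_dvd_of_pow_eq_one ha
    obtain ⟨b, -, hb⟩ := (Nat.dvd_prime_pow (Fact.out : p.Prime)).mp h1
    exact ⟨b, hb⟩
  have ha1 : 1 ≤ a := by
    by_contra h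
    have : a = 0 := by omega
    rw [this, pow_zero, orderOf_eq_one_iff] at ha
    exact hu1 ha
  -- the index is prime to `p`
  have hnd : ¬ p ∣ (Subgroup.centralizer (P : Set G)).relIndex T := by
    obtain ⟨S⟩ : Nonempty (Sylow p T) := inferInstance
    have h1 := S.not_dvd_index
    intro h2
    apply h1
    refine h2.trans ?_
    rw [Subgroup.relIndex]
    apply Subgroup.index_dvd_of_le
    intro s hs
    rw [Subgroup.mem_subgroupOf]
    obtain ⟨k, hk⟩ := exists_orderOf_eq_of_mem (p := p) S.isPGroup' hs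
    obtain ⟨hsN, hss⟩ := (hT s).mp s.2
    have h3 := mem_sup_of_isMaximal hM hmax hsN hss ⟨k, by rw [Subgroup.orderOf_coe, hk]⟩
    rwa [sup_eq_right.mpr hPC] at h3
  set e := (Subgroup.centralizer (P : Set G)).relIndex T with he
  have hpowe : ∀ t : T, (t : G) ^ e ∈ Subgroup.centralizer (P : Set G) := by
    intro t
    have h1 : (t ^ e) ∈ (Subgroup.centralizer (P : Set G)).subgroupOf T := by
      have h2 : ((t : T ⧸ (Subgroup.centralizer (P : Set G)).subgroupOf T)) ^ e = 1 := by
        have : Nat.card (T ⧸ (Subgroup.centralizer (P : Set G)).subgroupOf T) = e := rfl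
        rw [← this]
        exact pow_card_eq_one'
      rw [← QuotientGroup.mk_pow] at h2
      exact (QuotientGroup.eq_one_iff _).mp h2
    rw [Subgroup.mem_subgroupOf] at h1
    simpa using h1
  obtain ⟨f, hf1, hf2, hf3⟩ := action_facts p u ha1 ha T (by
      intro t ht
      have h1 : t * u * t⁻¹ ∈ P :=
        (Subgroup.mem_normalizer_iff.mp ((hT t).mp ht).1 u).mp huP
      exact hPz _ h1) (by
      intro t ht ⟨m, hm⟩
      have h1 : t ^ p ^ m ∈ Subgroup.centralizer (P : Set G) := hcen _ hm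
      have h2 : t ^ e ∈ Subgroup.centralizer (P : Set G) := hpowe ⟨t, ht⟩
      have h3 : Nat.Coprime e (p ^ m) :=
        Nat.Coprime.pow_right _ ((Nat.Prime.coprime_iff_not_dvd Fact.out).mpr hnd).symm
      apply hcen' t
      have h4 : t ^ Nat.gcd e (p ^ m) ∈ Subgroup.centralizer (P : Set G) := by
        have h5 : t ^ Nat.gcd e (p ^ m) = (t ^ e) ^ (Nat.gcdA e (p ^ m)) * (t ^ (p ^ m)) ^ (Nat.gcdB e (p ^ m)) := by
          rw [← zpow_natCast t (Nat.gcd e (p ^ m)), Nat.gcd_eq_gcd_ab, zpow_add, zpow_mul, zpow_mul,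
            zpow_natCast, zpow_natCast]
        rw [h5]
        exact Subgroup.mul_mem _ (Subgroup.zpow_mem _ h2 _) (Subgroup.zpow_mem _ h1 _)
      rw [h3, pow_one] at h4
      exact h4)
  -- the induced map on the quotient
  have hkerle : f.ker = (Subgroup.centralizer (P : Set G)).subgroupOf T := by
    ext t
    rw [MonoidHom.mem_ker, Subgroup.mem_subgroupOf]
    exact ⟨fun h => hcen _ (hf1 t h), fun h => hf3 t (hcen' _ h)⟩
  let F : T ⧸ (Subgroup.centralizer (P : Set G)).subgroupOf T →* (ZMod p)ˣ :=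
    QuotientGroup.lift _ f (fun t ht => by
      rw [← hkerle] at ht
      exact ht)
  have hFinj : Function.Injective F := by
    rw [injective_iff_map_eq_one]
    intro x
    refine QuotientGroup.induction_on x ?_
    intro t ht
    have h1 : f t = 1 := ht
    have h2 : t ∈ f.ker := h1
    rw [hkerle] at h2
    exact (QuotientGroup.eq_one_iff _).mpr h2
  refine ⟨isCyclic_of_injective F hFinj, ?_, ?_⟩
  · have h1 := Subgroup.card_dvd_of_injective F hFinj
    rw [Nat.card_eq_fintype_card (α := (ZMod p)ˣ), ZMod.card_units p] at h1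
    exact h1
  · intro g hg x hx hx1 hfix
    obtain ⟨j, rfl⟩ := hPz x hx
    exact hcen _ (hf1 ⟨g, hg⟩ (hf2 ⟨g, hg⟩ j hx1 hfix))

end Cfsg.Agent.S4633
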