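import Cfsg.Statements.S0914
import Mathlib
import Cfsg.Agent.S0907
import Cfsg.Agent.Lib.Blocks.Osima
import Cfsg.Agent.Lib.Blocks.DefectAvg
import Cfsg.Agent.Lib.Char.Values
-- import your own Cfsg.Agent.* helpers here

set_option autoImplicit false
open Cfsg

namespace Cfsg.Agent.S0914

open Cfsg.Agent.Lib.Blocks.Osima Cfsg.Agent.Lib.Blocks.Central Cfsg.Agent.Lib.Blocks.Local
open scoped ComplexConjugate

/-- Let χ be an irreducible character of the finite group G, p a prime and M a maximal ideal of the algebraic integers containing p. Then p does not divide the integer (Nat.card G) / χ(1) if and only if the block of χ relative to M consists of χ alone. -/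
theorem result {G : Type*} [Group G] [Finite G] (p : ℕ) [Fact p.Prime] (M : Ideal Cfsg.AlgInt) (hM : Cfsg.IsPModular p M) (χ : Cfsg.IrrCharacter G) : ¬ p ∣ Nat.card G / Cfsg.charDegree (χ : G → ℂ) ↔ Cfsg.blockOf M (χ : G → ℂ) = {χ} := by
  classical
  cases nonempty_fintype G
  have hMp := isPrime_of_isPModular hM
  obtain ⟨n, ρ, hρ, hχ⟩ := χ.2
  have hdeg1 : (χ : G → ℂ) 1 = (n : ℂ) := by rw [← hχ, ρ.char_one]; simp
  have hdegn : charDegree (χ : G → ℂ) = n :=
    Cfsg.Agent.Lib.Char.Values.IsCharacter.charDegree_eq (hχ ▸ ⟨n, ρ, rfl⟩) hdeg1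
  have hn0 : n ≠ 0 := by
    have := Cfsg.Agent.Lib.Char.Ortho.irr_apply_one_ne_zero χ.2
    rw [hdeg1] at this
    exact_mod_cast this
  have hdvd : n ∣ Nat.card G := by
    have := Cfsg.Agent.Lib.Char.Integrality.finrank_dvd_card ρ
    simpa using this
  have hG0 : (Nat.card G : ℂ) ≠ 0 := Nat.cast_ne_zero.mpr Nat.card_pos.ne'
  rw [hdegn]
  constructor
  · intro hp
    apply Set.Subset.antisymm
    · refine blockOf_subset_of_local (A := {χ}) ?_ (Set.mem_singleton χ)
      intro g
      rw [blockCoeff, finsum_mem_singleton, hdeg1]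
      have h1 : (Nat.card G : ℂ)⁻¹ * ((n : ℂ) * conj ((χ : G → ℂ) g)) =
          (((Nat.card G / n : ℕ) : ℂ))⁻¹ * conj ((χ : G → ℂ) g) := by
        have hn0' : (n : ℂ) ≠ 0 := Nat.cast_ne_zero.mpr hn0
        rw [Nat.cast_div hdvd hn0']
        field_simp
      rw [h1]
      refine memLocalRing_mul (memLocalRing_inv_natCast hM hp) ?_
      refine memLocalRing_of_isIntegral ?_
      rw [← Cfsg.Agent.Lib.Char.Complete.isIrr_inv χ.2]
      exact isIntegral_irr χ.2 _
    · rintro _ rfl
      exact sameBlock_refl _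
  · intro hB
    have hB' : IsPBlock M ({χ} : Set (IrrCharacter G)) := ⟨χ, hB.symm⟩
    have hvanish : ∀ y : G, p ∣ orderOf y → (χ : G → ℂ) y = 0 := by
      intro y hy
      have h1 := Cfsg.Agent.S0907.result p M hM {χ} hB' 1 y (by simpa using (Fact.out : p.Prime).one_lt.ne') hy
      rw [finsum_mem_singleton] at h1
      have h2 := (mul_eq_zero.mp h1).resolve_left (Cfsg.Agent.Lib.Char.Ortho.irr_apply_one_ne_zero χ.2)
      exact (map_eq_zero _).mp h2
    obtain ⟨P⟩ : Nonempty (Sylow p G) := inferInstance
    have hint := Cfsg.Agent.Lib.Blocks.DefectAvg.isIntegral_avg_character ρ (P : Subgroup G) 1 (by simp)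
    have hsum : ∑ q : (P : Subgroup G), ρ.character (1 * (q : G)) = (n : ℂ) := by
      rw [Finset.sum_eq_single (1 : (P : Subgroup G))]
      · rw [hχ]; simpa using hdeg1
      · intro q _ hq
        rw [one_mul, hχ]
        apply hvanish
        obtain ⟨k, hk⟩ := P.isPGroup' q
        have h1 : orderOf (q : G) ∣ p ^ k := by
          apply orderOf_dvd_of_pow_eq_one
          have := congrArg Subtype.val hk
          simpa using this
        obtain ⟨j, -, hj2⟩ := (Nat.dvd_prime_pow (Fact.out : p.Prime)).mp h1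
        rcases j with _ | j
        · exfalso
          apply hq
          apply Subtype.ext
          simpa [orderOf_eq_one_iff] using hj2
        · rw [hj2, pow_succ]
          exact Dvd.intro_left _ rfl
      · simp
    rw [hsum, inv_mul_eq_div] at hint
    have hPdvd : Nat.card (P : Subgroup G) ∣ n :=
      Cfsg.Agent.Lib.Char.Integrality.natCast_dvd_of_isIntegral_div Nat.card_pos.ne' hint
    rw [P.card_eq_multiplicity] at hPdvd
    intro hp
    have h2 : p ^ ((Nat.card G).factorization p + 1) ∣ Nat.card G := by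
      have h3 : n * (Nat.card G / n) = Nat.card G := Nat.mul_div_cancel' hdvd
      have h4 := mul_dvd_mul hPdvd hp
      rw [h3, ← pow_succ] at h4
      exact h4
    exact Nat.pow_succ_factorization_not_dvd Nat.card_pos.ne' Fact.out h2

end Cfsg.Agent.S0914
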