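import Cfsg.Statements.S0952
import Mathlib
import Cfsg.Agent.S0907
import Cfsg.Agent.Lib.Blocks.Osima
import Cfsg.Agent.Lib.Char.Ortho
-- import your own Cfsg.Agent.* helpers here

set_option autoImplicit false
open scoped ComplexConjugate
open Cfsg

namespace Cfsg.Agent.S0952

open Cfsg.Agent.Lib.Blocks.Osima Cfsg.Agent.Lib.Blocks.Central Cfsg.Agent.Lib.Blocks.Local

/-- Let χ and ψ be irreducible characters of the finite group G lying in different blocks relative to a maximal ideal M of the algebraic integers containing the prime p. Then the sum of χ x * conj (ψ x) over the elements x of order prime to p is zero. -/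
theorem result {G : Type*} [Group G] [Finite G] (p : ℕ) [Fact p.Prime] (M : Ideal Cfsg.AlgInt) (hM : Cfsg.IsPModular p M) (χ ψ : Cfsg.IrrCharacter G) (h : ¬ Cfsg.SameBlock M (χ : G → ℂ) (ψ : G → ℂ)) : ∑ᶠ x ∈ {x : G | ¬ p ∣ orderOf x}, (χ : G → ℂ) x * conj ((ψ : G → ℂ) x) = 0 := by
  classical
  cases nonempty_fintype G
  have : Fintype (IrrCharacter G) := Fintype.ofFinite _
  have hMp := isPrime_of_isPModular hM
  set B : Set (IrrCharacter G) := blockOf M (χ : G → ℂ) with hBdef
  have hB : IsPBlock M B := ⟨χ, rfl⟩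
  have hχB : χ ∈ B := sameBlock_refl _
  have hψB : ψ ∉ B := h
  set s := Finset.univ.filter (· ∈ B) with hs
  -- the kernel
  set K : G → G → ℂ := fun g h => ∑ σ ∈ s, (σ : G → ℂ) g * conj ((σ : G → ℂ) h) with hK
  have hK1 : ∀ x y, ¬ p ∣ orderOf x → p ∣ orderOf y → K x y = 0 := by
    intro x y hx hy
    have := Cfsg.Agent.S0907.result p M hM B hB x y hx hy
    rwa [Cfsg.Agent.Lib.Blocks.Osima.finsum_mem_eq_sum_filter] at this
  have hK2 : ∀ x y, p ∣ orderOf x → ¬ p ∣ orderOf y → K x y = 0 := by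
    intro x y hx hy
    have h1 := hK1 y x hy hx
    have h2 : K x y = conj (K y x) := by
      simp only [hK, map_sum, map_mul, Complex.conj_conj]
      refine Finset.sum_congr rfl fun σ _ => mul_comm _ _
    rw [h2, h1, map_zero]
  have hG0 : (Nat.card G : ℂ) ≠ 0 := Nat.cast_ne_zero.mpr Nat.card_pos.ne'
  -- reproducing formula
  have hrep : ∀ g, ∑ h : G, (χ : G → ℂ) h * K g h = (Nat.card G : ℂ) * (χ : G → ℂ) g := by
    intro g
    simp only [hK, Finset.mul_sum]
    rw [Finset.sum_comm]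
    have h1 : ∀ σ ∈ s, ∑ h : G, (χ : G → ℂ) h * ((σ : G → ℂ) g * conj ((σ : G → ℂ) h)) =
        (σ : G → ℂ) g * ((Nat.card G : ℂ) * classInner (χ : G → ℂ) (σ : G → ℂ)) := by
      intro σ _
      rw [classInner, mul_inv_cancel_left₀ hG0, Finset.mul_sum]
      refine Finset.sum_congr rfl fun h _ => by ring
    rw [Finset.sum_congr rfl h1]
    rw [Finset.sum_eq_single χ]
    · rw [Cfsg.Agent.Lib.Char.Ortho.classInner_irr_self χ.2]; ring
    · intro σ _ hσ
      rw [Cfsg.Agent.Lib.Char.Ortho.classInner_irr_of_ne χ.2 σ.2 (fun h => hσ (Subtype.ext h.symm)),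
        mul_zero, mul_zero]
    · intro hχs
      exact absurd (Finset.mem_filter.mpr ⟨Finset.mem_univ _, hχB⟩) hχs
  -- the vanishing along ψ
  have hψK : ∀ h, ∑ g : G, K g h * conj ((ψ : G → ℂ) g) = 0 := by
    intro h
    simp only [hK, Finset.sum_mul]
    rw [Finset.sum_comm]
    refine Finset.sum_eq_zero fun σ hσ => ?_
    have hne : (σ : G → ℂ) ≠ ψ := by
      intro he
      apply hψB
      have : σ = ψ := Subtype.ext he
      rw [← this]
      exact (Finset.mem_filter.mp hσ).2
    have h2 := Cfsg.Agent.Lib.Char.Ortho.classInner_irr_of_ne σ.2 ψ.2 hne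
    rw [classInner] at h2
    have h3 : ∑ g : G, (σ : G → ℂ) g * conj ((ψ : G → ℂ) g) = 0 := by
      rcases mul_eq_zero.mp h2 with h4 | h4
      · exact absurd h4 (inv_ne_zero hG0)
      · exact h4
    calc ∑ g : G, (σ : G → ℂ) g * conj ((σ : G → ℂ) h) * conj ((ψ : G → ℂ) g)
        = conj ((σ : G → ℂ) h) * ∑ g : G, (σ : G → ℂ) g * conj ((ψ : G → ℂ) g) := by
          rw [Finset.mul_sum]
          refine Finset.sum_congr rfl fun g _ => by ring
      _ = 0 := by rw [h3, mul_zero]
  -- assemble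
  rw [Cfsg.Agent.Lib.Blocks.Osima.finsum_mem_eq_sum_filter]
  have hmain : (Nat.card G : ℂ) * ∑ x ∈ Finset.univ.filter (· ∈ {x : G | ¬ p ∣ orderOf x}),
      (χ : G → ℂ) x * conj ((ψ : G → ℂ) x) = 0 := by
    rw [Finset.mul_sum]
    have h1 : ∀ g ∈ Finset.univ.filter (· ∈ {x : G | ¬ p ∣ orderOf x}),
        (Nat.card G : ℂ) * ((χ : G → ℂ) g * conj ((ψ : G → ℂ) g)) =
          ∑ h ∈ Finset.univ.filter (· ∈ {x : G | ¬ p ∣ orderOf x}),
            (χ : G → ℂ) h * (K g h * conj ((ψ : G → ℂ) g)) := by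
      intro g hg
      have hgr : ¬ p ∣ orderOf g := (Finset.mem_filter.mp hg).2
      rw [← mul_assoc, ← hrep g, Finset.sum_mul]
      rw [← Finset.sum_filter_add_sum_filter_not Finset.univ (· ∈ {x : G | ¬ p ∣ orderOf x})]
      have h2 : ∑ h ∈ Finset.univ.filter (fun x => ¬ x ∈ {x : G | ¬ p ∣ orderOf x}),
          (χ : G → ℂ) h * K g h * conj ((ψ : G → ℂ) g) = 0 := by
        refine Finset.sum_eq_zero fun h hh => ?_
        have hhs : p ∣ orderOf h := by
          have := (Finset.mem_filter.mp hh).2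
          simpa using this
        rw [hK1 g h hgr hhs]
        ring
      rw [h2, add_zero]
      refine Finset.sum_congr rfl fun h _ => by ring
    rw [Finset.sum_congr rfl h1, Finset.sum_comm]
    refine Finset.sum_eq_zero fun h hh => ?_
    have hhr : ¬ p ∣ orderOf h := (Finset.mem_filter.mp hh).2
    rw [← Finset.mul_sum]
    have h3 : ∑ g ∈ Finset.univ.filter (· ∈ {x : G | ¬ p ∣ orderOf x}),
        K g h * conj ((ψ : G → ℂ) g) = ∑ g : G, K g h * conj ((ψ : G → ℂ) g) := by
      rw [← Finset.sum_filter_add_sum_filter_not Finset.univ (· ∈ {x : G | ¬ p ∣ orderOf x})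
        (fun g => K g h * conj ((ψ : G → ℂ) g))]
      have h4 : ∑ g ∈ Finset.univ.filter (fun x => ¬ x ∈ {x : G | ¬ p ∣ orderOf x}),
          K g h * conj ((ψ : G → ℂ) g) = 0 := by
        refine Finset.sum_eq_zero fun g hg => ?_
        have hgs : p ∣ orderOf g := by
          have := (Finset.mem_filter.mp hg).2
          simpa using this
        rw [hK2 g h hgs hhr, zero_mul]
      rw [h4, add_zero]
    rw [h3, hψK, mul_zero]
  convert (mul_eq_zero.mp hmain).resolve_left hG0

end Cfsg.Agent.S0952
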