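import Cfsg.Statements.S0968
import Mathlib
import Cfsg.Agent.Lib.Blocks.CentralProd

set_option autoImplicit false
open Cfsg

namespace Cfsg.Agent.S0968

/-- Let P be a p-subgroup of the finite group G with P ⊔ C_G(P) = G, and let B be a block with defect group P relative to a maximal ideal M of the algebraic integers containing p. Then there is exactly one θ ∈ B with θ x = θ 1 for all x ∈ P; for this θ the exponent of p in θ(1) equals the exponent of p in the index of P; and the number of members of B equals the number of conjugacy classes of P. -/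
theorem result {G : Type*} [Group G] [Finite G] (p : ℕ) [Fact p.Prime] (M : Ideal Cfsg.AlgInt) (hM : Cfsg.IsPModular p M) (P : Subgroup G) (hP : IsPGroup p P) (hG : P ⊔ Subgroup.centralizer (P : Set G) = ⊤) (B : Set (Cfsg.IrrCharacter G)) (hB : Cfsg.IsPBlock M B) (hD : Cfsg.IsDefectGroup p M B P) : (∃! θ : Cfsg.IrrCharacter G, θ ∈ B ∧ ∀ x ∈ P, (θ : G → ℂ) x = (θ : G → ℂ) 1) ∧ (∀ θ ∈ B, (∀ x ∈ P, (θ : G → ℂ) x = (θ : G → ℂ) 1) → (Cfsg.charDegree (θ : G → ℂ)).factorization p = P.index.factorization p) ∧ Nat.card B = Nat.card (ConjClasses P) := by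
  classical
  haveI := Fintype.ofFinite G
  haveI hMp := Cfsg.Agent.Lib.Blocks.Local.isPrime_of_isPModular hM
  haveI : Fintype P := Fintype.ofFinite _
  haveI hPn : P.Normal := by
    rw [← Subgroup.normalizer_eq_top_iff, eq_top_iff, ← hG]
    exact sup_le Subgroup.le_normalizer (Subgroup.centralizer_le_normalizer _)
  haveI : Fintype (G ⧸ P) := Fintype.ofFinite _
  have hC := Cfsg.Agent.Lib.Blocks.CentralProd.index_centralizer_eq P hP hG
  have hcomp : ∀ η : G ⧸ P → ℂ, Cfsg.charDegree (η ∘ QuotientGroup.mk) = Cfsg.charDegree η := by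
    intro η
    simp [Cfsg.charDegree]
  have hcardq : Nat.card (G ⧸ P) = P.index := rfl
  have hdeg : ∀ θ ∈ B, (∀ x ∈ P, (θ : G → ℂ) x = (θ : G → ℂ) 1) →
      (Cfsg.charDegree (θ : G → ℂ)).factorization p = P.index.factorization p := by
    intro θ hθ hk
    obtain ⟨η, hη⟩ := Cfsg.Agent.Lib.Blocks.Kernel.exists_irr_of_kernel P θ.2 hk
    have h2 := Cfsg.Agent.Lib.Blocks.HeightZero.charDegree_dvd_card η.2
    rw [hcardq] at h2
    rw [hη, hcomp]
    have hle := (Nat.factorization_le_iff_dvd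
      (Nat.pos_of_dvd_of_pos h2 (Nat.pos_of_ne_zero Subgroup.index_ne_zero_of_finite)).ne'
      Subgroup.index_ne_zero_of_finite).2 h2 p
    refine le_antisymm hle ?_
    have h3 := Cfsg.Agent.S0908.result p M hM B hB P hD
    have h4 : sInf ((fun ψ : Cfsg.IrrCharacter G => (Cfsg.charDegree (ψ : G → ℂ)).factorization p) '' B) ≤
        (Cfsg.charDegree (θ : G → ℂ)).factorization p := Nat.sInf_le ⟨θ, hθ, rfl⟩
    rw [hη, hcomp] at h4
    have h5 : Nat.card G = Nat.card P * P.index := (Subgroup.card_mul_index P).symm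
    have h6 : (Nat.card G).factorization p = (Nat.card P).factorization p + P.index.factorization p := by
      rw [h5, Nat.factorization_mul Nat.card_pos.ne' Subgroup.index_ne_zero_of_finite]
      rfl
    have h7 : (Nat.card P).factorization p = Cfsg.blockDefect p B := by
      rw [h3, Nat.Prime.factorization_pow (Fact.out : p.Prime)]
      simp
    rw [Cfsg.blockDefect] at h7
    omega
  have hdz : ∀ θ ∈ B, (∀ x ∈ P, (θ : G → ℂ) x = (θ : G → ℂ) 1) → ∀ η : Cfsg.IrrCharacter (G ⧸ P),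
      (θ : G → ℂ) = (η : G ⧸ P → ℂ) ∘ QuotientGroup.mk → Cfsg.blockOf M (η : G ⧸ P → ℂ) = {η} := by
    intro θ hθ hk η hη
    rw [← Cfsg.Agent.S0914.result p M hM η]
    intro hd
    have h1 := hdeg θ hθ hk
    rw [hη, hcomp] at h1
    have h2 := Cfsg.Agent.Lib.Blocks.HeightZero.charDegree_dvd_card η.2
    rw [hcardq] at h2 hd
    obtain ⟨c, hc⟩ := h2
    have hdne : Cfsg.charDegree (η : G ⧸ P → ℂ) ≠ 0 := by
      intro h0
      rw [h0, zero_mul] at hc
      exact Subgroup.index_ne_zero_of_finite hc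
    rw [hc, Nat.mul_div_cancel_left _ (Nat.pos_of_ne_zero hdne)] at hd
    have hc0 : c ≠ 0 := by
      intro h0
      rw [h0, mul_zero] at hc
      exact Subgroup.index_ne_zero_of_finite hc
    have h3 : P.index.factorization p = (Cfsg.charDegree (η : G ⧸ P → ℂ)).factorization p + c.factorization p := by
      rw [hc, Nat.factorization_mul hdne hc0]
      rfl
    have h4 : 1 ≤ c.factorization p :=
      (Nat.Prime.dvd_iff_one_le_factorization (Fact.out : p.Prime) hc0).1 hd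
    omega
  have hvan : ∀ η : Cfsg.IrrCharacter (G ⧸ P), Cfsg.blockOf M (η : G ⧸ P → ℂ) = {η} →
      ∀ c : G ⧸ P, p ∣ orderOf c → (η : G ⧸ P → ℂ) c = 0 := by
    intro η h c hc
    have h1 := Cfsg.Agent.Lib.Blocks.Covering.blockCoeff_eq_zero_of_dvd hM (B := Cfsg.blockOf M (η : G ⧸ P → ℂ))
      ⟨η, rfl⟩ hc
    rw [h, Cfsg.blockCoeff, finsum_mem_singleton] at h1
    have h2 := Cfsg.Agent.Lib.Char.Ortho.irr_apply_one_ne_zero η.2
    have hq : (Nat.card (G ⧸ P) : ℂ) ≠ 0 := Nat.cast_ne_zero.2 Nat.card_pos.ne'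
    have h3 : (starRingEnd ℂ) ((η : G ⧸ P → ℂ) c) = 0 := by
      rcases mul_eq_zero.1 h1 with h3 | h3
      · exact absurd h3 (inv_ne_zero hq)
      · exact (mul_eq_zero.1 h3).resolve_left h2
    simpa using h3
  have huniq : ∀ θ₁ ∈ B, (∀ x ∈ P, (θ₁ : G → ℂ) x = (θ₁ : G → ℂ) 1) →
      ∀ θ₂ ∈ B, (∀ x ∈ P, (θ₂ : G → ℂ) x = (θ₂ : G → ℂ) 1) → θ₂ = θ₁ := by
    intro θ₁ h₁ k₁ θ₂ h₂ k₂
    obtain ⟨η₁, hη₁⟩ := Cfsg.Agent.Lib.Blocks.Kernel.exists_irr_of_kernel P θ₁.2 k₁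
    obtain ⟨η₂, hη₂⟩ := Cfsg.Agent.Lib.Blocks.Kernel.exists_irr_of_kernel P θ₂.2 k₂
    have h3 : Cfsg.SameBlock M (θ₁ : G → ℂ) (θ₂ : G → ℂ) := by
      obtain ⟨χ, rfl⟩ := id hB
      exact Cfsg.Agent.Lib.Blocks.Central.sameBlock_trans
        (Cfsg.Agent.Lib.Blocks.Central.sameBlock_symm h₁) h₂
    rw [hη₁, hη₂] at h3
    have h4 := Cfsg.Agent.Lib.Blocks.Dominate.sameBlock_of_comp_mk P hM hP hC h3
    have h5 : η₂ ∈ Cfsg.blockOf M (η₁ : G ⧸ P → ℂ) := h4
    rw [hdz θ₁ h₁ k₁ η₁ hη₁, Set.mem_singleton_iff] at h5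
    apply Subtype.ext
    rw [hη₁, hη₂, h5]
  obtain ⟨θ, hθ, hk⟩ := Cfsg.Agent.Lib.Blocks.Dominate.exists_mem_kernel P hM hP hB
  obtain ⟨η, hη⟩ := Cfsg.Agent.Lib.Blocks.Kernel.exists_irr_of_kernel P θ.2 hk
  refine ⟨⟨θ, ⟨hθ, hk⟩, fun θ' h' => huniq θ hθ hk θ' h'.1 h'.2⟩, hdeg, ?_⟩
  exact Cfsg.Agent.Lib.Blocks.CentralProd.card_block_eq hM hP hG η.2 (hvan η (hdz θ hθ hk η hη)) hB hθ hη
    (fun χ hχ hk' => huniq θ hθ hk χ hχ hk')

end Cfsg.Agent.S0968
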