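import Cfsg.Statements.S4733
import Mathlib
import Cfsg.Agent.Lib.Blocks.Cartan
import Cfsg.Agent.Lib.Blocks.Principal
import Cfsg.Agent.Lib.Blocks.CentralProd
import Cfsg.Agent.S0914
-- import your own Cfsg.Agent.* helpers here

set_option autoImplicit false
open Cfsg

namespace Cfsg.Agent.S4733

open Cfsg.Agent.Lib.Blocks.Cartan Cfsg.Agent.Lib.Blocks.Regular Cfsg.Agent.Lib.Blocks.Local

/-- A character vanishing on `p`-singular elements has degree divisible by the `p`-part of the group order. -/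
lemma pow_dvd_of_vanish {G : Type*} [Group G] [Fintype G] (p : ℕ) [hp : Fact p.Prime] {χ : G → ℂ}
    (hχ : Cfsg.IsIrrCharacter G χ) (hv : ∀ y : G, p ∣ orderOf y → χ y = 0) :
    p ^ (Nat.card G).factorization p ∣ Cfsg.charDegree χ := by
  classical
  obtain ⟨P⟩ : Nonempty (Sylow p G) := inferInstance
  haveI : Fintype (P : Subgroup G) := Fintype.ofFinite _
  have hres : Cfsg.IsCharacter (P : Subgroup G) (fun e : (P : Subgroup G) => χ e) :=
    Cfsg.Agent.Lib.Char.Basic.isCharacter_restrict (Cfsg.Agent.Lib.Char.Basic.isCharacter_of_isIrrCharacter hχ) _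
  obtain ⟨n, hn⟩ := Cfsg.Agent.Lib.Char.Ortho.exists_nat_classInner hres
    (Cfsg.Agent.Lib.Blocks.Principal.trivChar (P : Subgroup G))
  have hcard : Nat.card (P : Subgroup G) = p ^ (Nat.card G).factorization p := Sylow.card_eq_multiplicity P
  have hsum : ∑ e : (P : Subgroup G), χ e = χ 1 := by
    rw [Finset.sum_eq_single (1 : (P : Subgroup G))]
    · simp
    · intro e _ he
      apply hv
      obtain ⟨k, hk⟩ := exists_orderOf_eq_of_mem (p := p) P.isPGroup' e.2
      rw [hk]
      have hk0 : k ≠ 0 := by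
        rintro rfl
        apply he
        apply Subtype.ext
        simpa using hk
      exact dvd_pow_self p hk0
    · simp
  have hdeg : ((Cfsg.charDegree χ : ℕ) : ℂ) = χ 1 :=
    Cfsg.Agent.Lib.Char.Values.IsCharacter.charDegree_cast
      (Cfsg.Agent.Lib.Char.Values.IsIrrCharacter.isCharacter hχ)
  have h1 : ((Cfsg.charDegree χ : ℕ) : ℂ) = (n : ℂ) * (Nat.card (P : Subgroup G) : ℂ) := by
    rw [← hn, hdeg, Cfsg.classInner]
    have h2 : (Nat.card (P : Subgroup G) : ℂ) ≠ 0 := Nat.cast_ne_zero.mpr Nat.card_pos.ne'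
    simp only [Cfsg.Agent.Lib.Blocks.Principal.coe_trivChar, map_one, mul_one]
    rw [hsum]
    field_simp
  have h3 : Cfsg.charDegree χ = n * p ^ (Nat.card G).factorization p := by
    rw [← hcard]
    exact_mod_cast h1
  rw [h3]
  exact dvd_mul_left _ _

/-- The rank is at most the cardinality; independence if equal. -/
lemma image_eq_range {G : Type*} [Group G] (p : ℕ) (B : Set (Cfsg.IrrCharacter G)) :
    (fun χ : Cfsg.IrrCharacter G => Cfsg.pRegularPart p (χ : G → ℂ)) '' B =
      Set.range (fun χ : B => Cfsg.pRegularPart p ((χ : Cfsg.IrrCharacter G) : G → ℂ)) := by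
  ext f
  constructor
  · rintro ⟨χ, hχ, rfl⟩
    exact ⟨⟨χ, hχ⟩, rfl⟩
  · rintro ⟨⟨χ, hχ⟩, rfl⟩
    exact ⟨χ, hχ, rfl⟩

/-- Positive defect forces a relation among the regular parts. -/
lemma eq_zero_of_card_eq {G : Type*} [Group G] [Fintype G] (p : ℕ) [hp : Fact p.Prime] (M : Ideal Cfsg.AlgInt)
    (hM : Cfsg.IsPModular p M) (B : Set (Cfsg.IrrCharacter G)) (hB : Cfsg.IsPBlock M B)
    (h : Nat.card B = Cfsg.blockRank p B) : Cfsg.blockDefect p B = 0 := by
  classical
  haveI := isPrime_of_isPModular hM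
  by_contra hd
  have hBne : B.Nonempty := by
    obtain ⟨χ, rfl⟩ := hB
    exact ⟨χ, Cfsg.Agent.Lib.Blocks.Osima.mem_blockOf_self χ⟩
  have hne2 : ((fun χ : Cfsg.IrrCharacter G => (Cfsg.charDegree (χ : G → ℂ)).factorization p) '' B).Nonempty :=
    hBne.image _
  obtain ⟨χ, hχ, hχv⟩ := Nat.sInf_mem hne2
  have hlt : (Cfsg.charDegree (χ : G → ℂ)).factorization p < (Nat.card G).factorization p := by
    rw [Cfsg.blockDefect] at hd
    simp only at hχv
    omega
  -- a `p`-singular element where `χ` does not vanish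
  have hd0 : Cfsg.charDegree (χ : G → ℂ) ≠ 0 := by
    have hdeg : ((Cfsg.charDegree (χ : G → ℂ) : ℕ) : ℂ) = (χ : G → ℂ) 1 :=
      Cfsg.Agent.Lib.Char.Values.IsCharacter.charDegree_cast
        (Cfsg.Agent.Lib.Char.Values.IsIrrCharacter.isCharacter χ.2)
    intro h1
    apply Cfsg.Agent.Lib.Char.Ortho.irr_apply_one_ne_zero χ.2
    rw [← hdeg, h1]
    simp
  have hex : ∃ y : G, p ∣ orderOf y ∧ (χ : G → ℂ) y ≠ 0 := by
    by_contra hcon
    push Not at hcon
    have := pow_dvd_of_vanish p χ.2 hcon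
    have h2 := (Nat.Prime.pow_dvd_iff_le_factorization hp.out hd0).mp this
    omega
  obtain ⟨y, hy, hχy⟩ := hex
  -- the relation
  have hli : LinearIndependent ℂ (fun χ : B => Cfsg.pRegularPart p ((χ : Cfsg.IrrCharacter G) : G → ℂ)) := by
    rw [linearIndependent_iff_card_eq_finrank_span, ← Nat.card_eq_fintype_card, h, Cfsg.blockRank, image_eq_range]
    rfl
  obtain ⟨z, hz⟩ := Cfsg.Agent.Lib.Blocks.SecondMain.exists_isPPart p y
  have hz1 : z ≠ 1 := by
    rintro rfl
    obtain ⟨w, hw, -, -, hw2⟩ := hz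
    rw [one_mul] at hw
    rw [← hw] at hy
    exact hw2 hy
  have hrel : ∑ τ : B, ((τ : Cfsg.IrrCharacter G) : G → ℂ) y⁻¹ •
      Cfsg.pRegularPart p ((τ : Cfsg.IrrCharacter G) : G → ℂ) = 0 := by
    funext g
    simp only [Finset.sum_apply, Pi.smul_apply, smul_eq_mul, Pi.zero_apply]
    simp only [pRegularPart_eq_reg]
    by_cases hg : p ∣ orderOf g
    · apply Finset.sum_eq_zero
      intro τ _
      rw [reg_of_dvd _ hg, mul_zero]
    · have h1 : Cfsg.IsPPart p g 1 := ⟨g, by simp, Commute.one_left g, ⟨0, by simp⟩, hg⟩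
      have h2 := Cfsg.Agent.Lib.Blocks.Sections.block_orthogonality hM h1 hz
        (by
          intro hc
          exact hz1 (by simpa using hc.symm)) hB
      rw [Cfsg.Agent.Lib.Blocks.Osima.finsum_mem_eq_sum_filter,
        Finset.sum_subtype (Finset.univ.filter (· ∈ B)) (p := (· ∈ B)) (by simp)] at h2
      rw [← h2]
      refine Finset.sum_congr rfl fun τ _ => ?_
      rw [reg_of_not_dvd _ hg, mul_comm]
  have := (Fintype.linearIndependent_iff.mp hli) _ hrel ⟨χ, hχ⟩
  apply hχy
  rw [Cfsg.Agent.Lib.Char.Complete.isIrr_inv χ.2] at this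
  simpa using this

/-- Let p be a prime, M a maximal ideal of the algebraic integers containing p, and B a p-block of the finite group G with k irreducible characters and p-regular rank l (the number of irreducible Brauer characters). Then l ≤ k, and the following are equivalent: B has defect 0; k = l = 1; k = l. -/
theorem result {G : Type*} [Group G] [Finite G] (p : ℕ) [Fact p.Prime] (M : Ideal Cfsg.AlgInt) (hM : Cfsg.IsPModular p M) (B : Set (Cfsg.IrrCharacter G)) (hB : Cfsg.IsPBlock M B) : Cfsg.blockRank p B ≤ Nat.card B ∧ (Cfsg.blockDefect p B = 0 ↔ (Nat.card B = 1 ∧ Cfsg.blockRank p B = 1)) ∧ (Cfsg.blockDefect p B = 0 ↔ Nat.card B = Cfsg.blockRank p B) := by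
  classical
  letI := Fintype.ofFinite G
  haveI := isPrime_of_isPModular hM
  have hle : Cfsg.blockRank p B ≤ Nat.card B := by
    rw [Cfsg.blockRank, image_eq_range, Nat.card_eq_fintype_card]
    exact finrank_range_le_card _
  have h0 : Cfsg.blockDefect p B = 0 → Nat.card B = 1 ∧ Cfsg.blockRank p B = 1 := by
    intro hd
    obtain ⟨χ, rfl⟩ := id hB
    have hs : Cfsg.blockOf M (χ : G → ℂ) = {χ} := by
      rw [← Cfsg.Agent.S0914.result p M hM χ]
      obtain ⟨c, hc⟩ := Cfsg.Agent.Lib.Blocks.HeightZero.charDegree_dvd_card χ.2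
      have hcard0 : Nat.card G ≠ 0 := Nat.card_pos.ne'
      have hd0 : Cfsg.charDegree (χ : G → ℂ) ≠ 0 := by
        intro h1
        rw [h1, zero_mul] at hc
        exact hcard0 hc
      have hc0 : c ≠ 0 := by
        intro h1
        rw [h1, mul_zero] at hc
        exact hcard0 hc
      rw [hc, Nat.mul_div_cancel_left _ (Nat.pos_of_ne_zero hd0)]
      intro hpc
      have h1 := (Nat.Prime.dvd_iff_one_le_factorization (Fact.out : p.Prime) hc0).mp hpc
      have h2 : (Nat.card G).factorization p = (Cfsg.charDegree (χ : G → ℂ)).factorization p + c.factorization p := by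
        rw [hc, Nat.factorization_mul hd0 hc0]
        rfl
      have h3 : sInf ((fun ψ : Cfsg.IrrCharacter G => (Cfsg.charDegree (ψ : G → ℂ)).factorization p) ''
          Cfsg.blockOf M (χ : G → ℂ)) ≤ (Cfsg.charDegree (χ : G → ℂ)).factorization p :=
        Nat.sInf_le ⟨χ, Cfsg.Agent.Lib.Blocks.Osima.mem_blockOf_self χ, rfl⟩
      rw [Cfsg.blockDefect] at hd
      omega
    rw [hs]
    refine ⟨by simp, ?_⟩
    rw [Cfsg.blockRank, Set.image_singleton]
    apply finrank_span_singleton
    intro h1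
    have h2 := congrFun h1 1
    rw [pRegularPart_eq_reg, reg_of_not_dvd] at h2
    · exact Cfsg.Agent.Lib.Char.Ortho.irr_apply_one_ne_zero χ.2 h2
    · simpa using (Fact.out : p.Prime).ne_one
  refine ⟨hle, ⟨h0, fun h => eq_zero_of_card_eq p M hM B hB (by omega)⟩,
    ⟨fun h => ?_, eq_zero_of_card_eq p M hM B hB⟩⟩
  have := h0 h
  omega

end Cfsg.Agent.S4733
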