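import Cfsg.Statements.S4667
import Mathlib
import Cfsg.Agent.S0907
import Cfsg.Agent.Lib.Blocks.Osima
import Cfsg.Agent.Lib.Char.Ortho
import Cfsg.Agent.Lib.Char.Complete

set_option autoImplicit false
open Cfsg

namespace Cfsg.Agent.S4667

/-- Fix a prime p and a maximal ideal M of the algebraic integers containing p, and a p-block B of the finite group G. The p-regular rank of B (the number of irreducible Brauer characters in B) times the order of G equals the sum over the p-regular elements x of G of Σ_{χ ∈ B} χ(x) χ(x⁻¹) (written with the restriction of χ to p-regular elements, which vanishes at p-singular x). -/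
theorem result {G : Type*} [Group G] [Fintype G] (p : ℕ) [Fact p.Prime] (M : Ideal Cfsg.AlgInt) (hM : Cfsg.IsPModular p M) (B : Set (Cfsg.IrrCharacter G)) (hB : Cfsg.IsPBlock M B) : (Nat.card G : ℂ) * (Cfsg.blockRank p B : ℂ) = ∑ x : G, ∑ᶠ χ ∈ B, Cfsg.pRegularPart p (χ : G → ℂ) x * (χ : G → ℂ) x⁻¹ := by
  classical
  have : Fintype (Cfsg.IrrCharacter G) := Fintype.ofFinite _
  set s := (Finset.univ : Finset (Cfsg.IrrCharacter G)).filter (· ∈ B) with hs
  set K : G → G → ℂ := fun g h => ∑ σ ∈ s, (σ : G → ℂ) g * (starRingEnd ℂ) ((σ : G → ℂ) h) with hK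
  have hK1 : ∀ x y, ¬ p ∣ orderOf x → p ∣ orderOf y → K x y = 0 := by
    intro x y hx hy
    have := Cfsg.Agent.S0907.result p M hM B hB x y hx hy
    rwa [Cfsg.Agent.Lib.Blocks.Osima.finsum_mem_eq_sum_filter] at this
  have hG0 : (Nat.card G : ℂ) ≠ 0 := Nat.cast_ne_zero.mpr Nat.card_pos.ne'
  have hreg : ∀ (χ : G → ℂ) (g : G), ¬ p ∣ orderOf g → Cfsg.pRegularPart p χ g = χ g := by
    intro χ g hg
    have : Cfsg.IsPRegular p g := hg
    simp [Cfsg.pRegularPart, this]
  have hsing : ∀ (χ : G → ℂ) (g : G), p ∣ orderOf g → Cfsg.pRegularPart p χ g = 0 := by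
    intro χ g hg
    have : ¬ Cfsg.IsPRegular p g := by simpa [Cfsg.IsPRegular] using hg
    simp [Cfsg.pRegularPart, this]
  -- reproducing formula
  have hrep : ∀ χ ∈ s, ∀ g, ∑ h : G, (χ : G → ℂ) h * K g h = (Nat.card G : ℂ) * (χ : G → ℂ) g := by
    intro χ hχ g
    simp only [hK, Finset.mul_sum]
    rw [Finset.sum_comm]
    have h1 : ∀ σ ∈ s, ∑ h : G, (χ : G → ℂ) h * ((σ : G → ℂ) g * (starRingEnd ℂ) ((σ : G → ℂ) h)) =
        (σ : G → ℂ) g * ((Nat.card G : ℂ) * Cfsg.classInner (χ : G → ℂ) (σ : G → ℂ)) := by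
      intro σ _
      rw [Cfsg.classInner, mul_inv_cancel_left₀ hG0, Finset.mul_sum]
      refine Finset.sum_congr rfl fun h _ => by ring
    rw [Finset.sum_congr rfl h1]
    rw [Finset.sum_eq_single χ]
    · rw [Cfsg.Agent.Lib.Char.Ortho.classInner_irr_self χ.2]; ring
    · intro σ _ hσ
      rw [Cfsg.Agent.Lib.Char.Ortho.classInner_irr_of_ne χ.2 σ.2 (fun h => hσ (Subtype.ext h.symm)),
        mul_zero, mul_zero]
    · intro hχs
      exact absurd hχ hχs
  -- the projection
  let T : (G → ℂ) →ₗ[ℂ] (G → ℂ) :=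
    { toFun := fun f x => if ¬ p ∣ orderOf x then (Nat.card G : ℂ)⁻¹ * ∑ y, f y * K x y else 0
      map_add' := by
        intro f g
        funext x
        by_cases hx : ¬ p ∣ orderOf x
        · simp only [Pi.add_apply, if_pos hx, add_mul, Finset.sum_add_distrib, mul_add]
        · simp only [Pi.add_apply, if_neg hx, add_zero]
      map_smul' := by
        intro c f
        funext x
        by_cases hx : ¬ p ∣ orderOf x
        · simp only [Pi.smul_apply, smul_eq_mul, RingHom.id_apply, if_pos hx]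
          rw [Finset.mul_sum, Finset.mul_sum, Finset.mul_sum]
          refine Finset.sum_congr rfl fun y _ => by ring
        · simp only [Pi.smul_apply, smul_eq_mul, RingHom.id_apply, if_neg hx, mul_zero] }
  have hT : ∀ f x, T f x = if ¬ p ∣ orderOf x then (Nat.card G : ℂ)⁻¹ * ∑ y, f y * K x y else 0 :=
    fun _ _ => rfl
  set W : Submodule ℂ (G → ℂ) := Submodule.span ℂ ((fun χ : Cfsg.IrrCharacter G => Cfsg.pRegularPart p (χ : G → ℂ)) '' B) with hW
  have hmemW : ∀ σ ∈ s, Cfsg.pRegularPart p (σ : G → ℂ) ∈ W := fun σ hσ =>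
    Submodule.subset_span ⟨σ, (Finset.mem_filter.mp hσ).2, rfl⟩
  -- `T` is a projection onto `W`
  have hproj : LinearMap.IsProj W T := by
    constructor
    · intro f
      have h1 : T f = ∑ σ ∈ s, ((Nat.card G : ℂ)⁻¹ * ∑ y, f y * (starRingEnd ℂ) ((σ : G → ℂ) y)) •
          Cfsg.pRegularPart p (σ : G → ℂ) := by
        funext x
        rw [hT, Finset.sum_apply]
        by_cases hx : ¬ p ∣ orderOf x
        · rw [if_pos hx]
          simp only [Pi.smul_apply, smul_eq_mul, hreg _ x hx, hK, Finset.mul_sum]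
          rw [Finset.sum_comm]
          refine Finset.sum_congr rfl fun σ _ => ?_
          rw [Finset.sum_mul]
          refine Finset.sum_congr rfl fun y _ => by ring
        · rw [if_neg hx]
          have hx' : p ∣ orderOf x := not_not.mp hx
          simp only [Pi.smul_apply, smul_eq_mul, hsing _ x hx', mul_zero, Finset.sum_const_zero]
      rw [h1]
      exact Submodule.sum_mem _ fun σ hσ => Submodule.smul_mem _ _ (hmemW σ hσ)
    · intro f hf
      induction hf using Submodule.span_induction with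
      | mem f hf =>
        obtain ⟨σ, hσ, rfl⟩ := hf
        have hσs : σ ∈ s := Finset.mem_filter.mpr ⟨Finset.mem_univ _, hσ⟩
        show T (Cfsg.pRegularPart p (σ : G → ℂ)) = Cfsg.pRegularPart p (σ : G → ℂ)
        funext x
        rw [hT]
        by_cases hx : ¬ p ∣ orderOf x
        · rw [if_pos hx, hreg _ x hx]
          have h1 : ∑ y, Cfsg.pRegularPart p (σ : G → ℂ) y * K x y = ∑ y, (σ : G → ℂ) y * K x y := by
            refine Finset.sum_congr rfl fun y _ => ?_
            by_cases hy : p ∣ orderOf y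
            · rw [hK1 x y hx hy, mul_zero, mul_zero]
            · rw [hreg _ y hy]
          rw [h1, hrep σ hσs x, inv_mul_cancel_left₀ hG0]
        · rw [if_neg hx, hsing _ x (not_not.mp hx)]
      | zero => exact map_zero T
      | add a b _ _ ha hb => rw [map_add, ha, hb]
      | smul c a _ ha => rw [map_smul, ha]
  have htrace := hproj.trace
  -- the trace of `T`
  have htrace2 : LinearMap.trace ℂ (G → ℂ) T =
      (Nat.card G : ℂ)⁻¹ * ∑ x : G, ∑ σ ∈ s, Cfsg.pRegularPart p (σ : G → ℂ) x * (σ : G → ℂ) x⁻¹ := by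
    rw [LinearMap.trace_eq_matrix_trace ℂ (Pi.basisFun ℂ G) T, Matrix.trace, Finset.mul_sum]
    refine Finset.sum_congr rfl fun x _ => ?_
    rw [Matrix.diag_apply, LinearMap.toMatrix_apply, Pi.basisFun_repr, Pi.basisFun_apply, hT]
    by_cases hx : ¬ p ∣ orderOf x
    · rw [if_pos hx]
      congr 1
      rw [Finset.sum_eq_single x]
      · simp only [Pi.single_eq_same, one_mul, hK]
        refine Finset.sum_congr rfl fun σ _ => ?_
        rw [hreg _ x hx, Cfsg.Agent.Lib.Char.Complete.isIrr_inv σ.2]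
      · intro y _ hy
        simp [Pi.single_eq_of_ne hy]
      · intro h
        exact absurd (Finset.mem_univ x) h
    · rw [if_neg hx]
      have hx' : p ∣ orderOf x := not_not.mp hx
      simp [hsing _ x hx']
  have hfinal : (Cfsg.blockRank p B : ℂ) = LinearMap.trace ℂ (G → ℂ) T := htrace.symm
  rw [hfinal, htrace2, mul_inv_cancel_left₀ hG0]
  refine Finset.sum_congr rfl fun x _ => ?_
  rw [Cfsg.Agent.Lib.Blocks.Osima.finsum_mem_eq_sum_filter]

end Cfsg.Agent.S4667
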