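import Cfsg.Statements.S4675
import Mathlib
import Cfsg.Agent.Lib.Blocks.Cartan
import Cfsg.Agent.Lib.Blocks.Principal
import Cfsg.Agent.S0908
-- import your own Cfsg.Agent.* helpers here

set_option autoImplicit false
open Cfsg

namespace Cfsg.Agent.S4675

open Cfsg.Agent.Lib.Blocks.Cartan Cfsg.Agent.Lib.Blocks.Regular Cfsg.Agent.Lib.Blocks.Local
open Cfsg.Agent.Lib.Blocks.Central Cfsg.Agent.Lib.Blocks.Sections

/-- A character vanishing on `p`-singular elements has degree divisible by the `p`-part of the group order. -/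
lemma exists_nat_of_vanish {G : Type*} [Group G] [Fintype G] (p : ℕ) [hp : Fact p.Prime] {χ : G → ℂ}
    (hχ : Cfsg.IsCharacter G χ) (hv : ∀ y : G, p ∣ orderOf y → χ y = 0) :
    ∃ n : ℕ, χ 1 = (n : ℂ) * (p : ℂ) ^ (Nat.card G).factorization p := by
  classical
  obtain ⟨P⟩ : Nonempty (Sylow p G) := inferInstance
  haveI : Fintype (P : Subgroup G) := Fintype.ofFinite _
  have hres : Cfsg.IsCharacter (P : Subgroup G) (fun e : (P : Subgroup G) => χ e) :=
    Cfsg.Agent.Lib.Char.Basic.isCharacter_restrict hχ _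
  obtain ⟨n, hn⟩ := Cfsg.Agent.Lib.Char.Ortho.exists_nat_classInner hres
    (Cfsg.Agent.Lib.Blocks.Principal.trivChar (P : Subgroup G))
  have hcard : Nat.card (P : Subgroup G) = p ^ (Nat.card G).factorization p := Sylow.card_eq_multiplicity P
  have hsum : ∑ e : (P : Subgroup G), χ e = χ 1 := by
    rw [Finset.sum_eq_single (1 : (P : Subgroup G))]
    · simp
    · intro e _ he
      apply hv
      obtain ⟨k, hk⟩ := exists_orderOf_eq_of_mem (p := p) P.isPGroup' e.2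
      rw [hk]
      have hk0 : k ≠ 0 := by
        rintro rfl
        apply he
        apply Subtype.ext
        simpa using hk
      exact dvd_pow_self p hk0
    · simp
  refine ⟨n, ?_⟩
  rw [← hn, Cfsg.classInner]
  have h2 : (Nat.card (P : Subgroup G) : ℂ) ≠ 0 := Nat.cast_ne_zero.mpr Nat.card_pos.ne'
  simp only [Cfsg.Agent.Lib.Blocks.Principal.coe_trivChar, map_one, mul_one]
  rw [hsum]
  have h3 : (p : ℂ) ^ (Nat.card G).factorization p = (Nat.card (P : Subgroup G) : ℂ) := by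
    rw [hcard]
    push_cast
    rfl
  rw [h3]
  field_simp

/-- Bezout for the gcd of a finite family. -/
lemma exists_gcd_comb {ι : Type*} [DecidableEq ι] (s : Finset ι) (f : ι → ℕ) :
    ∃ n : ι → ℤ, ∑ i ∈ s, n i * (f i : ℤ) = (s.gcd f : ℕ) := by
  classical
  induction s using Finset.induction_on with
  | empty => exact ⟨0, by simp⟩
  | insert a s ha ih =>
    obtain ⟨n, hn⟩ := ih
    refine ⟨fun i => if i = a then Nat.gcdA (f a) (s.gcd f) else Nat.gcdB (f a) (s.gcd f) * n i, ?_⟩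
    rw [Finset.sum_insert ha, Finset.gcd_insert]
    beta_reduce
    rw [if_pos rfl]
    have h1 : ∑ i ∈ s, (if i = a then Nat.gcdA (f a) (s.gcd f) else Nat.gcdB (f a) (s.gcd f) * n i) * (f i : ℤ) =
        Nat.gcdB (f a) (s.gcd f) * ∑ i ∈ s, n i * (f i : ℤ) := by
      rw [Finset.mul_sum]
      refine Finset.sum_congr rfl fun i hi => ?_
      rw [if_neg (fun h : i = a => ha (h ▸ hi))]
      ring
    rw [h1, hn]
    show _ = ((Nat.gcd (f a) (s.gcd f) : ℕ) : ℤ)
    rw [Nat.gcd_eq_gcd_ab]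
    ring

/-- Fix a prime p and a maximal ideal M of the algebraic integers containing p. Let B be a p-block of the finite group G with defect group P and p-regular rank one (a single irreducible Brauer character). Then there are a function φ on G that is, on the p-regular elements, an integer combination of the members of B, and natural numbers d_χ (χ ∈ B), such that every χ ∈ B agrees with d_χ·φ on the p-regular elements and Σ_{χ ∈ B} d_χ² equals the order of P (the single Cartan invariant of B is the order of P). -/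
theorem result {G : Type*} [Group G] [Fintype G] (p : ℕ) [Fact p.Prime] (M : Ideal Cfsg.AlgInt) (hM : Cfsg.IsPModular p M) (B : Set (Cfsg.IrrCharacter G)) (hB : Cfsg.IsPBlock M B) (P : Subgroup G) (hP : Cfsg.IsDefectGroup p M B P) (hl : Cfsg.blockRank p B = 1) : ∃ φ : G → ℂ, ∃ d : Cfsg.IrrCharacter G → ℕ, (∃ n : Cfsg.IrrCharacter G → ℤ, ∀ x : G, Cfsg.IsPRegular p x → φ x = ∑ᶠ ψ ∈ B, (n ψ : ℂ) * (ψ : G → ℂ) x) ∧ (∀ χ ∈ B, ∀ x : G, Cfsg.IsPRegular p x → (χ : G → ℂ) x = (d χ : ℂ) * φ x) ∧ ∑ᶠ χ ∈ B, d χ ^ 2 = Nat.card P := by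
  classical
  haveI := isPrime_of_isPModular hM
  have hpp : p.Prime := Fact.out
  -- notation
  have hdeg : ∀ τ : Cfsg.IrrCharacter G, ((Cfsg.charDegree (τ : G → ℂ) : ℕ) : ℂ) = (τ : G → ℂ) 1 := fun τ =>
    Cfsg.Agent.Lib.Char.Values.IsCharacter.charDegree_cast
      (Cfsg.Agent.Lib.Char.Values.IsIrrCharacter.isCharacter τ.2)
  have hd0 : ∀ τ : Cfsg.IrrCharacter G, Cfsg.charDegree (τ : G → ℂ) ≠ 0 := by
    intro τ h1
    apply Cfsg.Agent.Lib.Char.Ortho.irr_apply_one_ne_zero τ.2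
    rw [← hdeg, h1]
    simp
  obtain ⟨χ₀, hχ₀⟩ := hB
  have hχ₀B : χ₀ ∈ B := by rw [hχ₀]; exact Cfsg.Agent.Lib.Blocks.Osima.mem_blockOf_self χ₀
  have hB' : Cfsg.IsPBlock M B := ⟨χ₀, hχ₀⟩
  set s : Finset (Cfsg.IrrCharacter G) := Finset.univ.filter (· ∈ B) with hs
  set deg : Cfsg.IrrCharacter G → ℕ := fun τ => Cfsg.charDegree (τ : G → ℂ) with hdegdef
  set D := s.gcd deg with hD
  have hDdvd : ∀ τ ∈ B, D ∣ deg τ := fun τ hτ => Finset.gcd_dvd (Finset.mem_filter.mpr ⟨Finset.mem_univ _, hτ⟩)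
  have hD0 : D ≠ 0 := by
    intro h0
    have := hDdvd χ₀ hχ₀B
    rw [h0, zero_dvd_iff] at this
    exact hd0 χ₀ this
  obtain ⟨n, hn⟩ := exists_gcd_comb s deg
  rw [← hD] at hn
  have hDC : (D : ℂ) ≠ 0 := Nat.cast_ne_zero.mpr hD0
  have h10 : (χ₀ : G → ℂ) 1 ≠ 0 := Cfsg.Agent.Lib.Char.Ortho.irr_apply_one_ne_zero χ₀.2
  -- rank one
  have hrank : ∀ τ ∈ B, ∀ x : G, ¬ p ∣ orderOf x → (τ : G → ℂ) x = (τ : G → ℂ) 1 / (χ₀ : G → ℂ) 1 * (χ₀ : G → ℂ) x := by
    intro τ hτ x hx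
    set S := Submodule.span ℂ ((fun χ : Cfsg.IrrCharacter G => Cfsg.pRegularPart p (χ : G → ℂ)) '' B) with hS
    have hv : ∀ ψ ∈ B, Cfsg.pRegularPart p (ψ : G → ℂ) ∈ S := fun ψ hψ => Submodule.subset_span ⟨ψ, hψ, rfl⟩
    have hone : (¬ p ∣ orderOf (1 : G)) := by simpa using hpp.ne_one
    have hne : (⟨_, hv χ₀ hχ₀B⟩ : S) ≠ 0 := by
      intro h0
      have h1 := congrArg Subtype.val h0
      have h2 := congrFun h1 1
      simp only [pRegularPart_eq_reg] at h2
      rw [reg_of_not_dvd _ hone] at h2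
      exact h10 h2
    have h1 := (finrank_eq_one_iff_of_nonzero' _ hne).mp hl
    obtain ⟨c, hc⟩ := h1 ⟨_, hv τ hτ⟩
    have hc' := congrArg Subtype.val hc
    simp only [SetLike.val_smul, pRegularPart_eq_reg] at hc'
    have h3 := congrFun hc' 1
    have h4 := congrFun hc' x
    simp only [Pi.smul_apply, smul_eq_mul] at h3 h4
    rw [reg_of_not_dvd _ hone, reg_of_not_dvd _ hone] at h3
    rw [reg_of_not_dvd _ hx, reg_of_not_dvd _ hx] at h4
    rw [← h3, ← h4]
    field_simp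
  -- the witnesses
  set d : Cfsg.IrrCharacter G → ℕ := fun τ => deg τ / D with hd
  have hdD : ∀ τ ∈ B, (d τ : ℂ) * (D : ℂ) = (τ : G → ℂ) 1 := by
    intro τ hτ
    obtain ⟨e, he⟩ := hDdvd τ hτ
    have h1 : d τ = e := by
      simp only [hd, he]
      exact Nat.mul_div_cancel_left _ (Nat.pos_of_ne_zero hD0)
    rw [← hdeg, h1]
    show _ = ((deg τ : ℕ) : ℂ)
    rw [he]
    push_cast
    ring
  set φ : G → ℂ := fun x => (D : ℂ) / (χ₀ : G → ℂ) 1 * (χ₀ : G → ℂ) x with hφ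
  have hχφ : ∀ χ ∈ B, ∀ x : G, Cfsg.IsPRegular p x → (χ : G → ℂ) x = (d χ : ℂ) * φ x := by
    intro χ hχ x hx
    rw [hrank χ hχ x hx, ← hdD χ hχ, hφ]
    field_simp
  have hnφ : ∀ x : G, Cfsg.IsPRegular p x → φ x = ∑ᶠ ψ ∈ B, (n ψ : ℂ) * (ψ : G → ℂ) x := by
    intro x hx
    rw [Cfsg.Agent.Lib.Blocks.Osima.finsum_mem_eq_sum_filter]
    have h1 : ∀ ψ ∈ s, (n ψ : ℂ) * (ψ : G → ℂ) x = ((n ψ * (deg ψ : ℤ) : ℤ) : ℂ) * ((χ₀ : G → ℂ) x / (χ₀ : G → ℂ) 1) := by
      intro ψ hψ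
      have hψB := (Finset.mem_filter.mp hψ).2
      rw [hrank ψ hψB x hx]
      push_cast
      rw [hdegdef]
      simp only
      rw [hdeg]
      field_simp
    rw [Finset.sum_congr rfl h1, ← Finset.sum_mul, ← Int.cast_sum, hn, hφ]
    push_cast
    field_simp
  refine ⟨φ, d, ⟨n, hnφ⟩, hχφ, ?_⟩
  -- the Cartan invariant
  rw [Cfsg.Agent.Lib.Blocks.Osima.finsum_mem_eq_sum_filter, Cfsg.Agent.S0908.result p M hM B hB' P hP]
  set c : ℕ := ∑ χ ∈ s, d χ ^ 2 with hc
  set dd := Cfsg.blockDefect p B with hdd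
  have hcne : c ≠ 0 := by
    have h1 : d χ₀ ≠ 0 := by
      intro h0
      have h2 := hdD χ₀ hχ₀B
      rw [h0] at h2
      simp only [Nat.cast_zero, zero_mul] at h2
      exact h10 h2.symm
    have h2 : d χ₀ ^ 2 ≤ c := Finset.single_le_sum (f := fun χ => d χ ^ 2) (fun _ _ => Nat.zero_le _)
      (Finset.mem_filter.mpr ⟨Finset.mem_univ _, hχ₀B⟩)
    have h3 : 0 < d χ₀ ^ 2 := by positivity
    omega
  have hcC : (c : ℂ) ≠ 0 := Nat.cast_ne_zero.mpr hcne
  set Φ : G → ℂ := fun x => ∑ χ ∈ s, (d χ : ℂ) * (χ : G → ℂ) x with hΦ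
  -- vanishing on singular elements
  have hΦ0 : ∀ y : G, p ∣ orderOf y → Φ y = 0 := by
    intro y hy
    obtain ⟨z, hz⟩ := Cfsg.Agent.Lib.Blocks.SecondMain.exists_isPPart p y⁻¹
    have hz1 : z ≠ 1 := by
      rintro rfl
      obtain ⟨w, hw, -, -, hw2⟩ := hz
      rw [one_mul] at hw
      rw [hw, orderOf_inv] at hw2
      exact hw2 hy
    have h1 : Cfsg.IsPPart p (1 : G) 1 := ⟨1, by simp, Commute.one_left _, ⟨0, by simp⟩, by simpa using hpp.ne_one⟩
    have h2 := block_orthogonality hM h1 hz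
      (by
        intro hc
        exact hz1 (by simpa using hc.symm)) hB'
    rw [Cfsg.Agent.Lib.Blocks.Osima.finsum_mem_eq_sum_filter] at h2
    have h3 : ∑ χ ∈ s, (χ : G → ℂ) 1 * (χ : G → ℂ) y = (D : ℂ) * Φ y := by
      rw [hΦ, Finset.mul_sum]
      refine Finset.sum_congr rfl fun χ hχ => ?_
      rw [← hdD χ (Finset.mem_filter.mp hχ).2]
      ring
    rw [inv_inv] at h2
    have h4 : (D : ℂ) * Φ y = 0 := by
      rw [← h3]
      exact h2
    exact (mul_eq_zero.mp h4).resolve_left hDC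
  -- value on regular elements
  have hΦr : ∀ x : G, ¬ p ∣ orderOf x → Φ x = (c : ℂ) * φ x := by
    intro x hx
    rw [hΦ, hc]
    push_cast
    rw [Finset.sum_mul]
    refine Finset.sum_congr rfl fun χ hχ => ?_
    rw [hχφ χ (Finset.mem_filter.mp hχ).2 x hx]
    ring
  -- the regular part of `φ`
  have hregφ : ∀ x : G, reg p φ x = (c : ℂ)⁻¹ * Φ x := by
    intro x
    by_cases hx : p ∣ orderOf x
    · rw [reg_of_dvd _ hx, hΦ0 x hx, mul_zero]
    · rw [reg_of_not_dvd _ hx, hΦr x hx]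
      field_simp
  have hregφ2 : ∀ x : G, reg p φ x = ∑ χ ∈ s, (n χ : ℂ) * reg p (χ : G → ℂ) x := by
    intro x
    by_cases hx : p ∣ orderOf x
    · rw [reg_of_dvd _ hx]
      simp [reg_of_dvd _ hx]
    · rw [reg_of_not_dvd _ hx, hnφ x hx, Cfsg.Agent.Lib.Blocks.Osima.finsum_mem_eq_sum_filter]
      refine Finset.sum_congr rfl fun χ _ => ?_
      rw [reg_of_not_dvd _ hx]
  -- inner products
  have hinner : ∀ ψ ∈ B, Cfsg.classInner (reg p φ) (ψ : G → ℂ) = (d ψ : ℂ) / (c : ℂ) := by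
    intro ψ hψ
    have h1 := Cfsg.Agent.Lib.Char.Ortho.classInner_sum_irr (fun χ => if χ ∈ B then (d χ : ℂ) else 0) ψ
    rw [if_pos hψ] at h1
    have hf : ∀ x, reg p φ x = (c : ℂ)⁻¹ *
        (∑ χ : Cfsg.IrrCharacter G, (if χ ∈ B then (d χ : ℂ) else 0) • (χ : G → ℂ)) x := by
      intro x
      rw [hregφ x]
      congr 1
      simp only [hΦ, Finset.sum_apply, Pi.smul_apply, smul_eq_mul]
      rw [hs, Finset.sum_filter]
      refine Finset.sum_congr rfl fun χ _ => ?_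
      by_cases hχ : χ ∈ B
      · rw [if_pos hχ, if_pos hχ]
      · rw [if_neg hχ, if_neg hχ, zero_mul]
    rw [div_eq_inv_mul, ← h1]
    simp only [Cfsg.classInner, hf, Finset.mul_sum]
    refine Finset.sum_congr rfl fun x _ => ?_
    ring
  have hint : ∀ ψ ∈ B, ∃ m : ℤ, (p : ℂ) ^ dd * ((d ψ : ℂ) / (c : ℂ)) = m := by
    intro ψ hψ
    choose m hm using fun χ : Cfsg.IrrCharacter G => exists_int_pow_defect_mul (p := p) hM (B := B) χ hψ
    refine ⟨∑ χ ∈ s, n χ * m χ, ?_⟩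
    have h1 : Cfsg.classInner (reg p φ) (ψ : G → ℂ) =
        ∑ χ ∈ s, (n χ : ℂ) * Cfsg.classInner (reg p (χ : G → ℂ)) (ψ : G → ℂ) := by
      simp only [Cfsg.classInner]
      simp only [hregφ2, Finset.sum_mul]
      rw [Finset.sum_comm, Finset.mul_sum]
      refine Finset.sum_congr rfl fun χ _ => ?_
      rw [Finset.mul_sum, Finset.mul_sum, Finset.mul_sum]
      refine Finset.sum_congr rfl fun x _ => ?_
      ring
    rw [← hinner ψ hψ, h1, Finset.mul_sum]
    push_cast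
    refine Finset.sum_congr rfl fun χ _ => ?_
    rw [← hm χ]
    ring
  have hcdvd : ∃ K : ℤ, (p : ℂ) ^ dd / (c : ℂ) = K := by
    choose! m hm using hint
    refine ⟨∑ ψ ∈ s, n ψ * m ψ, ?_⟩
    have h1 : ∑ ψ ∈ s, (n ψ : ℂ) * (d ψ : ℂ) = 1 := by
      apply mul_right_cancel₀ hDC
      rw [one_mul, Finset.sum_mul]
      have h2 := congrArg (Int.cast : ℤ → ℂ) hn
      push_cast at h2
      have h3 : ∀ ψ ∈ s, (n ψ : ℂ) * (d ψ : ℂ) * (D : ℂ) = (n ψ : ℂ) * (deg ψ : ℂ) := by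
        intro ψ hψ
        rw [mul_assoc, hdD ψ (Finset.mem_filter.mp hψ).2, hdegdef]
        simp only
        rw [hdeg]
      rw [Finset.sum_congr rfl h3]
      exact h2
    push_cast
    rw [← one_mul ((p : ℂ) ^ dd / (c : ℂ)), ← h1, Finset.sum_mul]
    refine Finset.sum_congr rfl fun ψ hψ => ?_
    rw [← hm ψ (Finset.mem_filter.mp hψ).2]
    ring
  obtain ⟨K, hK⟩ := hcdvd
  -- `c` divides `p^dd`
  have hdvd : c ∣ p ^ dd := by
    have h1 : ((p ^ dd : ℕ) : ℂ) = ((K * (c : ℤ) : ℤ) : ℂ) := by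
      push_cast
      rw [← hK]
      field_simp
    have h2 : ((p ^ dd : ℕ) : ℤ) = K * (c : ℤ) := by exact_mod_cast h1
    have h3 : (c : ℤ) ∣ ((p ^ dd : ℕ) : ℤ) := ⟨K, by rw [h2]; ring⟩
    exact_mod_cast h3
  obtain ⟨j, hj, hcj⟩ := (Nat.dvd_prime_pow hpp).mp hdvd
  -- the lower bound
  have hΦchar : Cfsg.IsCharacter G Φ := by
    have h1 : Φ = ∑ χ ∈ s, (d χ) • (χ : G → ℂ) := by
      funext x
      rw [Finset.sum_apply]
      refine Finset.sum_congr rfl fun χ _ => ?_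
      rw [Pi.smul_apply, nsmul_eq_mul]
    rw [h1]
    exact Cfsg.Agent.Lib.Char.Basic.isCharacter_finset_sum s fun χ _ =>
      Cfsg.Agent.Lib.Char.Basic.isCharacter_nsmul
        (Cfsg.Agent.Lib.Char.Basic.isCharacter_of_isIrrCharacter χ.2) _
  obtain ⟨N, hN⟩ := exists_nat_of_vanish p hΦchar hΦ0
  have hone : ¬ p ∣ orderOf (1 : G) := by simpa using hpp.ne_one
  have hcD : c * D = N * p ^ (Nat.card G).factorization p := by
    have h1 := hΦr 1 hone
    rw [hN] at h1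
    have h2 : φ 1 = (D : ℂ) := by
      rw [hφ]
      field_simp
    rw [h2] at h1
    have h3 : ((c * D : ℕ) : ℂ) = ((N * p ^ (Nat.card G).factorization p : ℕ) : ℂ) := by
      push_cast
      exact h1.symm
    exact_mod_cast h3
  have hne2 : ((fun χ : Cfsg.IrrCharacter G => (Cfsg.charDegree (χ : G → ℂ)).factorization p) '' B).Nonempty :=
    ⟨_, χ₀, hχ₀B, rfl⟩
  obtain ⟨χ₁, hχ₁, hχ₁v⟩ := Nat.sInf_mem hne2
  have hv1 : D.factorization p ≤ (deg χ₁).factorization p :=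
    (Nat.factorization_le_iff_dvd hD0 (hd0 χ₁)).mpr (hDdvd χ₁ hχ₁) p
  have hv2 : (deg χ₁).factorization p ≤ (Nat.card G).factorization p :=
    (Nat.factorization_le_iff_dvd (hd0 χ₁) Nat.card_pos.ne').mpr
      (Cfsg.Agent.Lib.Blocks.HeightZero.charDegree_dvd_card χ₁.2) p
  have hv3 : (Nat.card G).factorization p ≤ (c * D).factorization p := by
    rw [hcD]
    have hN0 : N ≠ 0 := by
      rintro rfl
      rw [zero_mul] at hcD
      exact (mul_ne_zero hcne hD0) hcD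
    rw [Nat.factorization_mul hN0 (pow_ne_zero _ hpp.ne_zero), Nat.factorization_pow]
    simp [Nat.Prime.factorization_self hpp]
  have hv4 : (c * D).factorization p = j + D.factorization p := by
    rw [Nat.factorization_mul hcne hD0, hcj, Nat.factorization_pow]
    simp [Nat.Prime.factorization_self hpp]
  have hjdd : j = dd := by
    have h1 : dd = (Nat.card G).factorization p -
        sInf ((fun ψ : Cfsg.IrrCharacter G => (Cfsg.charDegree (ψ : G → ℂ)).factorization p) '' B) := rfl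
    rw [← hχ₁v] at h1
    simp only at h1
    have h2 : (deg χ₁).factorization p = (Cfsg.charDegree (χ₁ : G → ℂ)).factorization p := rfl
    omega
  rw [hcj, hjdd]

end Cfsg.Agent.S4675
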