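import Cfsg.Statements.S4607
import Mathlib
import Cfsg.Agent.S0908
import Cfsg.Agent.S4494
import Cfsg.Agent.Lib.Blocks.BrauerFeit
import Cfsg.Agent.Lib.Blocks.ModBlock

set_option autoImplicit false
open Cfsg

namespace Cfsg.Agent.S4607

open Cfsg.Agent.Lib.Blocks.Local Cfsg.Agent.Lib.Blocks.Central Cfsg.Agent.Lib.Blocks.RegInt
open Cfsg.Agent.Lib.Blocks.BrauerFeit Cfsg.Agent.Lib.Blocks.Regular Cfsg.Agent.Lib.Blocks.RegNorm
open Cfsg.Agent.Lib.Blocks.HeightZero

universe u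

section Num

variable {G : Type u} [Group G] [Fintype G] {M : Ideal AlgInt} {p : ℕ} [hp : Fact p.Prime]

open Classical in
/-- The degree relation for the matrix `m`. -/
theorem sum_mm_degree [M.IsPrime] (hM : IsPModular p M) {B : Set (IrrCharacter G)} (hB : IsPBlock M B)
    {ξ : IrrCharacter G} (hξ : ξ ∈ B) :
    ∑ ψ ∈ Finset.univ.filter (· ∈ B), mm p B ξ ψ * (charDegree (ψ : G → ℂ) : ℤ) =
      (p : ℤ) ^ blockDefect p B * (charDegree (ξ : G → ℂ) : ℤ) := by
  have h1 := pow_mul_reg_eq_sum (p := p) ξ (1 : G)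
  rw [reg_of_not_dvd _ (by simpa using hp.out.one_lt.ne')] at h1
  have h2 : ∑ ψ : IrrCharacter G, (regN p ξ ψ : ℂ) * (ψ : G → ℂ) 1 =
      ∑ ψ ∈ Finset.univ.filter (· ∈ B), ((p : ℂ) ^ mu p B * (mm p B ξ ψ : ℂ)) * (charDegree (ψ : G → ℂ) : ℂ) := by
    rw [Finset.sum_filter]
    refine Finset.sum_congr rfl fun ψ _ => ?_
    by_cases hψ : ψ ∈ B
    · rw [if_pos hψ, regN_eq_mul_mm hM hξ ψ, charDegree_cast]
      push_cast
      ring
    · rw [if_neg hψ, regN_eq_zero hM, Int.cast_zero, zero_mul]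
      intro hs
      apply hψ
      obtain ⟨χ₀, rfl⟩ := hB
      exact sameBlock_trans hξ hs
  rw [h2, ← charDegree_cast ξ, ← defect_add_mu hξ] at h1
  have hp0 : (p : ℂ) ^ mu p B ≠ 0 := pow_ne_zero _ (by exact_mod_cast hp.out.ne_zero)
  have h3 : ((∑ ψ ∈ Finset.univ.filter (· ∈ B), mm p B ξ ψ * (charDegree (ψ : G → ℂ) : ℤ) : ℤ) : ℂ) =
      (((p : ℤ) ^ blockDefect p B * (charDegree (ξ : G → ℂ) : ℤ) : ℤ) : ℂ) := by
    apply mul_left_cancel₀ hp0
    push_cast
    rw [Finset.mul_sum]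
    simp only [← mul_assoc]
    rw [← h1]
    push_cast
    ring
  exact_mod_cast h3

/-- The diagonal entry of a character of height zero is prime to `p`. -/
theorem not_dvd_mm_self [M.IsPrime] (hM : IsPModular p M) {B : Set (IrrCharacter G)} (hB : IsPBlock M B)
    {ξ : IrrCharacter G} (hξ : ξ ∈ B) (h0 : blockHeight p B (ξ : G → ℂ) = 0) :
    ¬ (p : ℤ) ∣ mm p B ξ ξ := by
  obtain ⟨k, -, h2, h3⟩ := regN_eq hM hξ ξ
  rw [h2, h0, pow_zero, one_mul, dvd_iff_memLocalIdeal hM h3]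
  exact not_memLocalIdeal_omega_zElt_self hM hB hξ h0

end Num

lemma hp_prime (p : ℕ) [hp : Fact p.Prime] : p.Prime := hp.out


/-- Let G be a finite group, p a prime, M a maximal ideal of the algebraic integers containing p, and B a p-block of G with defect group D. Then B contains exactly two irreducible characters if and only if D has order 2. -/
theorem result {G : Type*} [Group G] [Finite G] (p : ℕ) [Fact p.Prime] (M : Ideal Cfsg.AlgInt) (hM : Cfsg.IsPModular p M) (B : Set (Cfsg.IrrCharacter G)) (hB : Cfsg.IsPBlock M B) (D : Subgroup G) (hD : Cfsg.IsDefectGroup p M B D) : Nat.card B = 2 ↔ Nat.card D = 2 := by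
  classical
  cases nonempty_fintype G
  haveI hMp : M.IsPrime := isPrime_of_isPModular hM
  have hcD := Cfsg.Agent.S0908.result p M hM B hB D hD
  rw [hcD]
  have hfil : Nat.card B = (Finset.univ.filter (· ∈ B)).card := by
    rw [Nat.card_eq_fintype_card, Fintype.card_subtype]
  obtain ⟨χ₀, hχ₀, h0⟩ := exists_height_zero (p := p) (nonempty_of_isPBlock hB)
  have hpp := hp_prime p
  constructor
  · intro h2
    rw [hfil] at h2
    obtain ⟨n, hn⟩ := Cfsg.Agent.Lib.Blocks.ModBlock.exists_degree_eq hB h2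
    obtain ⟨χ₁, χ₂, h12, hs⟩ := Finset.card_eq_two.1 h2
    have hmem : ∀ χ, χ ∈ B ↔ χ = χ₁ ∨ χ = χ₂ := by
      intro χ
      have := congrArg (fun s => χ ∈ s) hs
      simpa using this
    have hχ₁ : χ₁ ∈ B := (hmem _).2 (Or.inl rfl)
    have hχ₂ : χ₂ ∈ B := (hmem _).2 (Or.inr rfl)
    have hn1 := hn χ₁ hχ₁
    have hn2 := hn χ₂ hχ₂
    have hn0 : (n : ℤ) ≠ 0 := by
      rw [← hn1]
      exact_mod_cast charDegree_ne_zero χ₁
    -- the height of every member is zero
    have hh : ∀ χ ∈ B, blockHeight p B (χ : G → ℂ) = 0 := by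
      intro χ hχ
      have h4 := mu_add_height (p := p) hχ
      have h3 := mu_add_height (p := p) hχ₀
      rw [h0, hn χ₀ hχ₀] at h3
      rw [hn χ hχ] at h4
      omega
    have hd1 := sum_mm_degree hM hB hχ₁
    have hd2 := sum_mm_degree hM hB hχ₂
    have hs1 := sum_mm_sq (p := p) hM hB hχ₁
    rw [hs, Finset.sum_pair h12, hn1, hn2] at hd1 hd2
    rw [hs, Finset.sum_pair h12] at hs1
    have hcomm : mm p B χ₂ χ₁ = mm p B χ₁ χ₂ := mm_comm _ _ _
    rw [hcomm] at hd2
    have hb0 : mm p B χ₁ χ₂ ≠ 0 := mm_ne_zero hM hB hχ₁ (hh _ hχ₁) hχ₂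
    have e1 : mm p B χ₁ χ₁ + mm p B χ₁ χ₂ = (p : ℤ) ^ blockDefect p B := by
      apply mul_right_cancel₀ hn0
      rw [add_mul]
      exact hd1
    have e2 : mm p B χ₁ χ₂ = mm p B χ₁ χ₁ := by
      apply mul_left_cancel₀ hb0
      have : mm p B χ₁ χ₁ ^ 2 + mm p B χ₁ χ₂ ^ 2 =
          (mm p B χ₁ χ₁ + mm p B χ₁ χ₂) * mm p B χ₁ χ₁ := by rw [e1]; exact hs1
      nlinarith
    have e3 : 2 * mm p B χ₁ χ₁ = (p : ℤ) ^ blockDefect p B := by
      rw [← e1, e2]; ring
    have hnd := not_dvd_mm_self hM hB hχ₁ (hh _ hχ₁)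
    set a := mm p B χ₁ χ₁
    set d := blockDefect p B
    rcases Nat.eq_zero_or_pos d with hd | hd
    · rw [hd, pow_zero] at e3
      omega
    · obtain ⟨d', hd'⟩ : ∃ d', d = d' + 1 := ⟨d - 1, by omega⟩
      have hdv : (p : ℤ) ∣ 2 * a := by
        rw [e3, hd', pow_succ]
        exact dvd_mul_left _ _
      have hip : Prime (p : ℤ) := Nat.prime_iff_prime_int.1 hpp
      have hp2 : (p : ℤ) ∣ 2 := (hip.dvd_or_dvd hdv).resolve_right hnd
      have hp2' : p ∣ 2 := by exact_mod_cast hp2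
      have hpe : p = 2 := (Nat.prime_dvd_prime_iff_eq hpp Nat.prime_two).1 hp2'
      subst hpe
      rw [hd', pow_succ] at e3
      push_cast at e3
      have e4 : a = 2 ^ d' := by omega
      rcases Nat.eq_zero_or_pos d' with h5 | h5
      · rw [hd', h5]
        norm_num
      · exfalso
        apply hnd
        rw [e4]
        push_cast
        exact dvd_pow_self _ h5.ne'
  · intro h2
    -- `p = 2` and the defect is `1`
    have hd0 : blockDefect p B ≠ 0 := by
      intro h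
      rw [h, pow_zero] at h2
      omega
    have hpd : p ∣ 2 := by
      rw [← h2]
      exact dvd_pow_self _ hd0
    have hpe : p = 2 := (Nat.prime_dvd_prime_iff_eq hpp Nat.prime_two).1 hpd
    subst hpe
    have hd1 : blockDefect 2 B = 1 := by
      have h3 : (2 : ℕ) ^ blockDefect 2 B = 2 ^ 1 := by rw [h2, pow_one]
      exact Nat.pow_right_injective (le_refl 2) h3
    have hbf := Cfsg.Agent.S4494.result 2 M hM B hB
    have h8 : (2 : ℕ) ^ (2 * 1) + 4 = 8 := by norm_num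
    rw [hd1, h8] at hbf
    have hc1 : 1 ≤ (Finset.univ.filter (· ∈ B)).card :=
      Finset.card_pos.2 ⟨χ₀, Finset.mem_filter.2 ⟨Finset.mem_univ _, hχ₀⟩⟩
    rw [hfil] at hbf ⊢
    by_contra hne
    have hc2 : (Finset.univ.filter (· ∈ B)).card = 1 := by omega
    obtain ⟨χ, hs⟩ := Finset.card_eq_one.1 hc2
    have hχ₀' : χ₀ = χ := by
      have : χ₀ ∈ Finset.univ.filter (· ∈ B) := Finset.mem_filter.2 ⟨Finset.mem_univ _, hχ₀⟩
      rw [hs] at this
      exact Finset.mem_singleton.1 this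
    subst hχ₀'
    have hd := sum_mm_degree hM hB hχ₀
    rw [hs, Finset.sum_singleton, hd1] at hd
    have hn0 : (charDegree (χ₀ : G → ℂ) : ℤ) ≠ 0 := by
      exact_mod_cast charDegree_ne_zero χ₀
    have e := mul_right_cancel₀ hn0 hd
    have hnd := not_dvd_mm_self (p := 2) hM hB hχ₀ h0
    apply hnd
    rw [e]
    norm_num

end Cfsg.Agent.S4607
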