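import Cfsg.Statements.S4648
import Mathlib
import Cfsg.Agent.S0908
import Cfsg.Agent.S4607
import Cfsg.Agent.S4675
import Cfsg.Agent.S4687
import Cfsg.Agent.Lib.Blocks.SymCom3
import Cfsg.Agent.Lib.Blocks.AbelianCount
import Cfsg.Agent.Lib.Blocks.KleinFour
import Cfsg.Agent.Lib.Blocks.CentralProd2
import Cfsg.Agent.Lib.Blocks.PiKer
import Cfsg.Agent.Lib.Blocks.FirstMain

set_option autoImplicit false
set_option linter.style.haveILetI false
open Cfsg

namespace Cfsg.Agent.S4648

open Cfsg.Agent.Lib.Blocks.Pairs Cfsg.Agent.Lib.Blocks.AbelianCount Cfsg.Agent.Lib.Blocks.KleinFour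
  Cfsg.Agent.Lib.Blocks.CentralQuot Cfsg.Agent.Lib.Blocks.Sections Cfsg.Agent.Lib.Blocks.Regular
open Cfsg.Agent.Lib.Blocks.Local Cfsg.Agent.Lib.Blocks.Central Cfsg.Agent.Lib.Blocks.RegInt
open Cfsg.Agent.Lib.Blocks.BrauerFeit Cfsg.Agent.Lib.Blocks.RegNorm
open Cfsg.Agent.Lib.Blocks.HeightZero Cfsg.Agent.S4607

universe u

section Aux

variable {G : Type u} [Group G] [Fintype G] {p : ℕ} [hp : Fact p.Prime] {M : Ideal AlgInt}

/-- Every defect group carries a maximal pair. -/
theorem exists_maximal_on_defect (hM : IsPModular p M) {B : Set (IrrCharacter G)} (hB : IsPBlock M B)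
    {D : Subgroup G} (hD : IsDefectGroup p M B D) :
    ∃ e : Set (IrrCharacter (Subgroup.centralizer (D : Set G))), IsMaximalBrauerPair p M B D e := by
  classical
  haveI : M.IsPrime := hM.2.1.isPrime
  have hDp : IsPGroup p D := by
    obtain ⟨g, -, S, rfl⟩ := hD
    exact Cfsg.Agent.Lib.Blocks.Defect.isPGroup_sylow_map S
  obtain ⟨b, hb, hdb, hind⟩ := Cfsg.Agent.Lib.Blocks.FirstMain.exists_isInducedBlock_of_isDefectGroup hM hDp hB hD
  obtain ⟨k, hk, S, hS⟩ := hdb
  obtain ⟨hle, -⟩ := (Cfsg.Agent.S0916.exists_sylow_map_iff (p := p)).mp ⟨S, hS.symm⟩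
  have hkc : (k : G) ∈ Subgroup.centralizer (D : Set G) := by
    rw [Subgroup.mem_centralizer_iff]
    intro d hd
    have h1 : (⟨d, Cfsg.Agent.Lib.Blocks.FirstMain.le_normalizer' D hd⟩ : Subgroup.normalizer (D : Set G)) ∈
        D.subgroupOf (Subgroup.normalizer (D : Set G)) := by
      simpa [Subgroup.mem_subgroupOf] using hd
    have h2 := Subgroup.mem_centralizer_singleton_iff.1 (hle h1)
    exact congrArg Subtype.val h2
  haveI : Fintype (Subgroup.centralizer (D : Set G)) := Fintype.ofFinite _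
  obtain ⟨f, hf, hval⟩ := Cfsg.Agent.Lib.Blocks.PiKer.exists_bv_one_of_block hM hDp
    (Cfsg.Agent.Lib.Blocks.FirstMain.le_normalizer' D)
    (Cfsg.Agent.Lib.Blocks.FirstMain.centralizer_le_normalizer' D) hb hkc hk.2.1
  have hpair := Cfsg.Agent.Lib.Blocks.PiKer.isBrauerPairOf_of_block hM hDp
    (Cfsg.Agent.Lib.Blocks.FirstMain.le_normalizer' D)
    (Cfsg.Agent.Lib.Blocks.FirstMain.centralizer_le_normalizer' D) hind hf hval
  exact ⟨f, isMaximal_of_isDefectGroup hM hpair hD⟩

/-- Equal regular parts give equal entries of the matrix `m`. -/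
theorem mm_eq_of_reg_eq [M.IsPrime] (hM : IsPModular p M) {B : Set (IrrCharacter G)} {ξ ψ : IrrCharacter G}
    (hξ : ξ ∈ B) (h : reg p (ψ : G → ℂ) = reg p (ξ : G → ℂ)) : mm p B ξ ψ = mm p B ξ ξ := by
  have h1 : regI p (ξ : G → ℂ) (ψ : G → ℂ) = regI p (ξ : G → ℂ) (ξ : G → ℂ) := by
    rw [regI, regI, ← classInner_reg_reg', h, classInner_reg_reg']
  rw [regI_eq_regN, regI_eq_regN] at h1
  have h2 : regN p ξ ψ = regN p ξ ξ := by exact_mod_cast h1
  rw [regN_eq_mul_mm hM hξ, regN_eq_mul_mm hM hξ] at h2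
  have hp0 : (p : ℤ) ^ mu p B ≠ 0 := pow_ne_zero _ (by exact_mod_cast hp.out.ne_zero)
  exact mul_left_cancel₀ hp0 h2

open Classical in
/-- `k(B) = p ^ d(B)` when `l(B) = 1`, `k(B) ≤ 4`. -/
theorem card_eq_of_rank_one [M.IsPrime] (hM : IsPModular p M) {B : Set (IrrCharacter G)} (hB : IsPBlock M B)
    (hl : blockRank p B = 1) (hk : (Finset.univ.filter (· ∈ B)).card ≤ 4) {D : Subgroup G}
    (hD : IsDefectGroup p M B D) :
    (Finset.univ.filter (· ∈ B)).card = p ^ blockDefect p B := by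
  obtain ⟨n, hn⟩ := Cfsg.Agent.Lib.Blocks.SymCom.exists_degree_eq_of_rank_one hM hB hl hk
  obtain ⟨φ, d, -, hφ, -⟩ := Cfsg.Agent.S4675.result p M hM B hB D hD hl
  obtain ⟨χ₀, hχ₀, h0⟩ := exists_height_zero (p := p) (nonempty_of_isPBlock hB)
  have hreg1 : IsPRegular p (1 : G) := by
    show ¬ p ∣ orderOf (1 : G)
    rw [orderOf_one]
    exact fun h => hp.out.one_lt.ne' (Nat.dvd_one.mp h)
  have hn0 : (n : ℂ) ≠ 0 := by
    rw [← hn χ₀ hχ₀]
    exact_mod_cast charDegree_ne_zero χ₀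
  have hreg : ∀ ψ ∈ B, reg p (ψ : G → ℂ) = reg p (χ₀ : G → ℂ) := by
    intro ψ hψ
    have h1 := hφ ψ hψ 1 hreg1
    have h2 := hφ χ₀ hχ₀ 1 hreg1
    rw [← charDegree_cast, hn ψ hψ] at h1
    rw [← charDegree_cast, hn χ₀ hχ₀] at h2
    have hφ1 : φ 1 ≠ 0 := by
      intro h
      rw [h, mul_zero] at h1
      exact hn0 h1
    have hd : (d ψ : ℂ) = d χ₀ := mul_right_cancel₀ hφ1 (h1.symm.trans h2)
    funext x
    by_cases hx : p ∣ orderOf x
    · rw [reg_of_dvd _ hx, reg_of_dvd _ hx]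
    · rw [reg_of_not_dvd _ hx, reg_of_not_dvd _ hx, hφ ψ hψ x hx, hφ χ₀ hχ₀ x hx, hd]
  have hsum := sum_mm_degree hM hB hχ₀
  have hn0' : (n : ℤ) ≠ 0 := by exact_mod_cast (fun h : n = 0 => hn0 (by simp [h]))
  have h1 : ∑ ψ ∈ Finset.univ.filter (· ∈ B), mm p B χ₀ ψ * (charDegree (ψ : G → ℂ) : ℤ) =
      ((Finset.univ.filter (· ∈ B)).card : ℤ) * mm p B χ₀ χ₀ * n := by
    rw [Finset.sum_congr rfl (g := fun _ => mm p B χ₀ χ₀ * (n : ℤ))
      (fun ψ hψ => by
        have hψ' := (Finset.mem_filter.mp hψ).2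
        rw [mm_eq_of_reg_eq hM hχ₀ (hreg ψ hψ'), hn ψ hψ'])]
    rw [Finset.sum_const, nsmul_eq_mul]
    ring
  rw [h1, hn χ₀ hχ₀] at hsum
  have h2 : ((Finset.univ.filter (· ∈ B)).card : ℤ) * mm p B χ₀ χ₀ = (p : ℤ) ^ blockDefect p B :=
    mul_right_cancel₀ hn0' hsum
  have hnd := not_dvd_mm_self hM hB hχ₀ h0
  set m := mm p B χ₀ χ₀
  have hm : m.natAbs ∣ p ^ blockDefect p B := by
    have : (m : ℤ) ∣ (p : ℤ) ^ blockDefect p B := ⟨_, by rw [← h2]; ring⟩
    have h3 := Int.natAbs_dvd_natAbs.mpr this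
    simpa [Int.natAbs_pow] using h3
  obtain ⟨j, -, hj⟩ := (Nat.dvd_prime_pow hp.out).mp hm
  have hm1 : m.natAbs = 1 := by
    rcases Nat.eq_zero_or_pos j with rfl | hj0
    · simpa using hj
    · exfalso
      apply hnd
      have : p ∣ m.natAbs := by
        rw [hj]
        exact dvd_pow_self p hj0.ne'
      exact Int.natCast_dvd.mpr this
  have hpos : 0 < (p : ℤ) ^ blockDefect p B := by
    have := hp.out.pos
    positivity
  have hcard0 : 0 ≤ ((Finset.univ.filter (· ∈ B)).card : ℤ) := by positivity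
  have hmpos : 0 < m := by
    rw [← h2] at hpos
    by_contra hneg
    push Not at hneg
    nlinarith
  have hm' : m = 1 := by omega
  rw [hm', mul_one] at h2
  exact_mod_cast h2

open Classical in
/-- Representatives for the orbits of a subgroup `T` normalizing `D` on `D#`. -/
theorem exists_orbit_reps (T D : Subgroup G) (hTD : ∀ t ∈ T, ∀ y ∈ D, t * y * t⁻¹ ∈ D) :
    ∃ R : Finset G, (∀ y ∈ R, y ∈ D ∧ y ≠ 1) ∧ (∀ y ∈ D, y ≠ 1 → ∃! r, r ∈ R ∧ ∃ t ∈ T, t * y * t⁻¹ = r) ∧
      (R.card + 1 = Nat.card D → ∀ t ∈ T, ∀ y ∈ D, t * y * t⁻¹ = y) := by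
  let s : Setoid G :=
    { r := fun y z => ∃ t ∈ T, t * y * t⁻¹ = z
      iseqv :=
        { refl := fun y => ⟨1, T.one_mem, by simp⟩
          symm := by
            rintro y z ⟨t, ht, rfl⟩
            exact ⟨t⁻¹, T.inv_mem ht, by group⟩
          trans := by
            rintro y z w ⟨t, ht, rfl⟩ ⟨u, hu, rfl⟩
            exact ⟨u * t, T.mul_mem hu ht, by group⟩ } }
  let rep : G → G := fun y => (Quotient.mk s y).out
  have hrep : ∀ y, ∃ t ∈ T, t * y * t⁻¹ = rep y := fun y => by
    have : s.r (rep y) y := Quotient.exact (Quotient.out_eq (Quotient.mk s y))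
    exact s.symm this
  have hrep' : ∀ y z, (∃ t ∈ T, t * y * t⁻¹ = z) → rep y = rep z := by
    intro y z h
    have : Quotient.mk s y = Quotient.mk s z := Quotient.sound h
    simp only [rep, this]
  set S : Finset G := Finset.univ.filter (fun y => y ∈ D ∧ y ≠ 1) with hS
  have hSc : S.card + 1 = Nat.card D := by
    have h1 : (Finset.univ.filter (fun y => y ∈ D)).card = Nat.card D := by
      rw [Nat.card_eq_fintype_card, Fintype.card_subtype]
    have h2 : S = (Finset.univ.filter (fun y => y ∈ D)).erase 1 := by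
      ext y
      simp only [hS, Finset.mem_filter, Finset.mem_univ, true_and, Finset.mem_erase]
      tauto
    rw [h2, Finset.card_erase_add_one (by simp [D.one_mem]), h1]
  refine ⟨S.image rep, ?_, ?_, ?_⟩
  · intro y hy
    obtain ⟨z, hz, rfl⟩ := Finset.mem_image.mp hy
    obtain ⟨hzD, hz1⟩ := (Finset.mem_filter.mp hz).2
    obtain ⟨t, ht, hrz⟩ := hrep z
    rw [← hrz]
    refine ⟨hTD t ht z hzD, fun h => hz1 ?_⟩
    have : t * z * t⁻¹ * t = 1 * t := by rw [h]
    simpa using this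
  · intro y hy hy1
    refine ⟨rep y, ⟨Finset.mem_image.mpr ⟨y, Finset.mem_filter.mpr ⟨Finset.mem_univ _, hy, hy1⟩, rfl⟩, hrep y⟩, ?_⟩
    rintro r ⟨hr, hyr⟩
    obtain ⟨z, hz, rfl⟩ := Finset.mem_image.mp hr
    have h1 := hrep' _ _ hyr
    have h2 := hrep' _ _ (hrep z)
    exact h2.trans h1.symm
  · intro hc t ht y hy
    have hinj : Set.InjOn rep (S : Set G) := by
      apply Finset.card_image_iff.mp
      omega
    by_cases hy1 : y = 1
    · rw [hy1]; simp
    · have hyS : y ∈ S := Finset.mem_filter.mpr ⟨Finset.mem_univ _, hy, hy1⟩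
      have hty : t * y * t⁻¹ ∈ S := by
        refine Finset.mem_filter.mpr ⟨Finset.mem_univ _, hTD t ht y hy, fun h => hy1 ?_⟩
        have : t * y * t⁻¹ * t = 1 * t := by rw [h]
        simpa using this
      exact hinj (Finset.mem_coe.mpr hty) (Finset.mem_coe.mpr hyS) (hrep' _ _ ⟨t, ht, rfl⟩).symm

end Aux

/-- Let B be a block of the finite group G relative to a maximal ideal M of the algebraic integers containing the prime p, with a nontrivial defect group D. If B has p-regular rank 1 and at most four irreducible characters, then B is nilpotent, D has exactly as many elements as B has irreducible characters, and p is 2 or 3. -/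
theorem result {G : Type*} [Group G] [Finite G] (p : ℕ) [Fact p.Prime] (M : Ideal Cfsg.AlgInt) (hM : Cfsg.IsPModular p M) (B : Set (Cfsg.IrrCharacter G)) (hB : Cfsg.IsPBlock M B) (D : Subgroup G) (hD : Cfsg.IsDefectGroup p M B D) (hD1 : D ≠ ⊥) (hl : Cfsg.blockRank p B = 1) (hk : Nat.card B ≤ 4) : Cfsg.IsNilpotentBlock p M B ∧ Nat.card D = Nat.card B ∧ (p = 2 ∨ p = 3) := by
  classical
  cases nonempty_fintype G
  haveI : M.IsPrime := hM.2.1.isPrime
  have hpp : p.Prime := Fact.out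
  have hfil : Nat.card B = (Finset.univ.filter (· ∈ B)).card := by
    rw [Nat.card_eq_fintype_card, Fintype.card_subtype]
  have hk' : (Finset.univ.filter (· ∈ B)).card ≤ 4 := by rw [← hfil]; exact hk
  have hcard := card_eq_of_rank_one hM hB hl hk' hD
  have hcD := Cfsg.Agent.S0908.result p M hM B hB D hD
  have hDB : Nat.card D = Nat.card B := by rw [hcD, hfil, hcard]
  have hD1' : Nat.card D ≠ 1 := by
    intro h
    exact hD1 (Subgroup.card_eq_one.mp h)
  have hd0 : blockDefect p B ≠ 0 := by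
    intro h
    rw [hcD, h, pow_zero] at hD1'
    exact hD1' rfl
  have hcD4 : p ^ blockDefect p B ≤ 4 := by
    rw [← hcD, hDB]
    exact hk
  have hple : p ≤ p ^ blockDefect p B := Nat.le_self_pow hd0 p
  have hp23 : p = 2 ∨ p = 3 := by
    have h1 : p ≤ 4 := hple.trans hcD4
    have h2 := hpp.two_le
    interval_cases p
    · exact Or.inl rfl
    · exact Or.inr rfl
    · exact absurd hpp (by norm_num)
  refine ⟨?_, hDB, hp23⟩
  have hDp : IsPGroup p D := IsPGroup.of_card hcD
  -- `D` is abelian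
  have hdle : blockDefect p B ≤ 2 := by
    by_contra hcon
    push Not at hcon
    have h1 : p ^ 3 ≤ p ^ blockDefect p B := Nat.pow_le_pow_right hpp.pos hcon
    have h2 : 2 ^ 3 ≤ p ^ 3 := Nat.pow_le_pow_left hpp.two_le 3
    omega
  have hab : ∀ x ∈ D, ∀ y ∈ D, x * y = y * x := by
    intro x hx y hy
    have hd12 : blockDefect p B = 1 ∨ blockDefect p B = 2 := by omega
    rcases hd12 with h1 | h2
    · rw [h1, pow_one] at hcD
      haveI : Fact (Nat.card D).Prime := ⟨by rw [hcD]; exact hpp⟩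
      haveI : IsCyclic D := isCyclic_of_prime_card rfl
      haveI : IsMulCommutative D := IsCyclic.isMulCommutative
      have : (⟨x, hx⟩ : D) * ⟨y, hy⟩ = ⟨y, hy⟩ * ⟨x, hx⟩ := IsMulCommutative.is_comm.comm _ _
      exact congrArg Subtype.val this
    · rw [h2] at hcD
      haveI := IsPGroup.isMulCommutative_of_card_eq_prime_sq hcD
      have : (⟨x, hx⟩ : D) * ⟨y, hy⟩ = ⟨y, hy⟩ * ⟨x, hx⟩ := IsMulCommutative.is_comm.comm _ _
      exact congrArg Subtype.val this
  obtain ⟨e, hmax⟩ := exists_maximal_on_defect hM hB hD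
  have hDe := hmax.1.1
  -- the blocks below `(D, e)`
  have hex : ∀ y : G, ∃ f : Set (Cfsg.IrrCharacter (CZ y)), y ∈ D →
      Cfsg.IsPBlock M f ∧ Cfsg.SubpairLE p M (Subgroup.zpowers y) f D e := by
    intro y
    by_cases hy : y ∈ D
    · obtain ⟨f, hf, hle⟩ := exists_subpairLE hM hDe (Subgroup.zpowers_le.mpr hy)
      exact ⟨f, fun _ => ⟨hf, hle⟩⟩
    · exact ⟨∅, fun h => absurd h hy⟩
  choose F hF using hex
  have hdefF : ∀ y ∈ D, Cfsg.IsDefectGroup p M (F y) (D.subgroupOf (CZ y)) := fun y hy =>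
    isDefectGroup_of_abelian hM hmax hab (Subgroup.zpowers_le.mpr hy) (hF y hy).1 (hF y hy).2
  have hPCZ : ∀ y ∈ D, D ≤ CZ y := fun y hy u hu =>
    Subgroup.mem_centralizer_iff.mpr fun q hq => hab q (Subgroup.zpowers_le.mpr hy hq) u hu
  have hcardF : ∀ y ∈ D, Nat.card (D.subgroupOf (CZ y)) = Nat.card D := fun y hy =>
    Nat.card_congr (Subgroup.subgroupOfEquivOfLe (hPCZ y hy)).toEquiv
  have hrankF : ∀ y ∈ D, y ≠ 1 → Cfsg.blockRank p (F y) = 1 := by
    intro y hy hy1
    letI : Fintype (CZ y) := Fintype.ofFinite _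
    have hmemy : y ∈ CZ y := by
      rw [cz_eq_cen, Subgroup.mem_centralizer_singleton_iff]
    have hcen : ∀ g : CZ y, g * (⟨y, hmemy⟩ : CZ y) = (⟨y, hmemy⟩ : CZ y) * g := by
      intro g
      apply Subtype.ext
      exact (Subgroup.mem_centralizer_iff.mp g.2 y (Subgroup.mem_zpowers y)).symm
    have hdefy : Cfsg.blockDefect p (F y) = Cfsg.blockDefect p B := by
      have h1 := Cfsg.Agent.S0908.result p M hM (F y) (hF y hy).1 _ (hdefF y hy)
      rw [hcardF y hy, hcD] at h1
      exact (Nat.pow_right_injective hpp.two_le h1).symm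
    rcases hp23 with rfl | rfl
    · -- a central involution
      set yy : CZ y := ⟨y, hmemy⟩ with hyy
      have hyy1 : orderOf yy = orderOf y := Subgroup.orderOf_mk _ _
      have hdvd : 2 ∣ orderOf yy := by
        rw [hyy1]
        obtain ⟨k, hk⟩ := (IsPGroup.iff_orderOf.mp hDp) ⟨y, hy⟩
        have hk' : orderOf y = 2 ^ k := by rwa [Subgroup.orderOf_mk] at hk
        rw [hk']
        refine dvd_pow_self 2 ?_
        rintro rfl
        rw [pow_zero, orderOf_eq_one_iff] at hk'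
        exact hy1 hk'
      have hord0 : orderOf yy ≠ 0 := by
        exact (orderOf_pos yy).ne'
      have hox : orderOf (yy ^ (orderOf yy / 2)) = 2 := orderOf_pow_orderOf_div hord0 hdvd
      refine Cfsg.Agent.Lib.Blocks.CentralQuot.blockRank_eq_one_of_central_involution hM hox ?_ (hF y hy).1
        (by rw [hdefy]; exact hdle)
      intro g
      exact ((show Commute g yy from hcen g).pow_right _)
    · -- a central group of order three
      have hd1 : blockDefect 3 B = 1 := by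
        by_contra h
        have h1 : 2 ≤ blockDefect 3 B := by omega
        have h2 : 3 ^ 2 ≤ 3 ^ blockDefect 3 B := Nat.pow_le_pow_right (by norm_num) h1
        omega
      rw [hd1, pow_one] at hcD
      have hzp : Subgroup.zpowers y = D := by
        apply Subgroup.eq_of_le_of_card_ge (Subgroup.zpowers_le.mpr hy)
        rw [hcD, Nat.card_zpowers]
        have h3 : orderOf y ∣ 3 := by
          rw [← hcD]
          have h4 := orderOf_dvd_natCard (⟨y, hy⟩ : D)
          rwa [Subgroup.orderOf_mk] at h4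
        rcases (Nat.dvd_prime Nat.prime_three).mp h3 with h | h
        · exact absurd (orderOf_eq_one_iff.mp h) hy1
        · exact h.ge
      have hPp : IsPGroup 3 (D.subgroupOf (CZ y)) := by
        refine IsPGroup.of_card (n := 1) ?_
        rw [hcardF y hy, hcD, pow_one]
      refine Cfsg.Agent.Lib.Blocks.CentralProd2.blockRank_eq_one hM hPp ?_ (hF y hy).1 (hdefF y hy)
      rw [eq_top_iff]
      intro g _
      refine Subgroup.mem_sup_right ?_
      rw [Subgroup.mem_centralizer_iff]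
      intro u hu
      have hu' : (u : G) ∈ Subgroup.zpowers y := by
        rw [hzp]
        exact Subgroup.mem_subgroupOf.mp hu
      apply Subtype.ext
      exact Subgroup.mem_centralizer_iff.mp g.2 _ hu'
  -- the counting argument
  set T : Subgroup G := Subgroup.normalizer (D : Set G) ⊓
    blockStabilizer (Subgroup.centralizer (D : Set G)) e with hTdef
  have hT : ∀ g : G, g ∈ T ↔ g ∈ Subgroup.normalizer (D : Set G) ∧
      StabilizesBlock (Subgroup.centralizer (D : Set G)) e g := fun g => Iff.rfl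
  have hTD : ∀ t ∈ T, ∀ y ∈ D, t * y * t⁻¹ ∈ D := fun t ht y hy =>
    (Subgroup.mem_normalizer_iff.mp ((hT t).mp ht).1 y).mp hy
  obtain ⟨R, hR, hR', hRc⟩ := exists_orbit_reps T D hTD
  obtain ⟨χ₀, rfl⟩ := id hB
  have hcount := card_eq_rank_add_sum (p := p) hM χ₀ hmax hab hT R hR hR' F
    (fun y hy => hF y (hR y hy).1)
  have hsum : ∑ y ∈ R, Cfsg.blockRank p (F y) = R.card := by
    rw [Finset.sum_congr rfl (fun y hy => hrankF y (hR y hy).1 (hR y hy).2)]
    simp
  rw [hsum, hl, ← hDB] at hcount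
  have hTC := hRc (by rw [add_comm]; exact hcount.symm)
  rw [Cfsg.Agent.S4687.result p M hM _ D e hmax hab]
  intro x hxN hxS
  rw [Subgroup.mem_centralizer_iff]
  intro y hy
  have h := hTC x ((hT x).mpr ⟨hxN, hxS⟩) y hy
  calc y * x = x * y * x⁻¹ * x := by rw [h]
    _ = x * y := by group

end Cfsg.Agent.S4648
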