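import Cfsg.Statements.S4689
import Mathlib
import Cfsg.Agent.Lib.Blocks.NilpFinal

set_option autoImplicit false
open Cfsg

namespace Cfsg.Agent.S4689


/-- Fix a prime p and a maximal ideal M of the algebraic integers containing p, and a nilpotent p-block B of the finite group G. Then B has p-regular rank one (a single irreducible Brauer character), and some χ₀ ∈ B restricts to that Brauer character: every χ ∈ B agrees on the p-regular elements with a natural-number multiple of χ₀. -/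
theorem result {G : Type*} [Group G] [Fintype G] (p : ℕ) [Fact p.Prime] (M : Ideal Cfsg.AlgInt) (hM : Cfsg.IsPModular p M) (B : Set (Cfsg.IrrCharacter G)) (hnil : Cfsg.IsNilpotentBlock p M B) : Cfsg.blockRank p B = 1 ∧ ∃ χ₀ ∈ B, ∀ χ ∈ B, ∃ d : ℕ, ∀ x : G, Cfsg.pRegularPart p (χ : G → ℂ) x = (d : ℂ) * Cfsg.pRegularPart p (χ₀ : G → ℂ) x := by
  classical
  haveI := Cfsg.Agent.Lib.Blocks.Local.isPrime_of_isPModular hM
  obtain ⟨χ₀, hχ₀, hd, -⟩ := Cfsg.Agent.Lib.Blocks.Nilp.bpConcl_all hM _ G B rfl hnil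
  have key : ∀ χ ∈ B, ∃ d : ℕ, ∀ x : G, Cfsg.pRegularPart p (χ : G → ℂ) x = (d : ℂ) * Cfsg.pRegularPart p (χ₀ : G → ℂ) x := by
    intro χ hχ
    obtain ⟨d, hd⟩ := hd χ hχ
    refine ⟨d, fun x => ?_⟩
    rw [Cfsg.Agent.Lib.Blocks.Cartan.pRegularPart_eq_reg, Cfsg.Agent.Lib.Blocks.Cartan.pRegularPart_eq_reg]
    by_cases hx : p ∣ orderOf x
    · simp [Cfsg.Agent.Lib.Blocks.Regular.reg_of_dvd _ hx]
    · rw [Cfsg.Agent.Lib.Blocks.Regular.reg_of_not_dvd _ hx, Cfsg.Agent.Lib.Blocks.Regular.reg_of_not_dvd _ hx]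
      exact hd x hx
  refine ⟨?_, χ₀, hχ₀, key⟩
  have hone : ¬ p ∣ orderOf (1 : G) := by
    rw [orderOf_one]
    exact fun h => (Fact.out : p.Prime).one_lt.ne' (Nat.dvd_one.mp h)
  have hne : Cfsg.pRegularPart p (χ₀ : G → ℂ) ≠ 0 := by
    intro h
    have h1 := congrFun h 1
    rw [Cfsg.Agent.Lib.Blocks.Cartan.pRegularPart_eq_reg, Cfsg.Agent.Lib.Blocks.Regular.reg_of_not_dvd _ hone] at h1
    exact Cfsg.Agent.Lib.Char.Ortho.irr_apply_one_ne_zero χ₀.2 h1
  have hspan : Submodule.span ℂ ((fun χ : Cfsg.IrrCharacter G => Cfsg.pRegularPart p (χ : G → ℂ)) '' B) =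
      Submodule.span ℂ {Cfsg.pRegularPart p (χ₀ : G → ℂ)} := by
    apply le_antisymm
    · rw [Submodule.span_le]
      rintro _ ⟨χ, hχ, rfl⟩
      obtain ⟨d, hd⟩ := key χ hχ
      refine Submodule.mem_span_singleton.mpr ⟨(d : ℂ), ?_⟩
      funext x
      simp only [Pi.smul_apply, smul_eq_mul]
      exact (hd x).symm
    · rw [Submodule.span_singleton_le_iff_mem]
      exact Submodule.subset_span ⟨χ₀, hχ₀, rfl⟩
  rw [Cfsg.blockRank, hspan]
  exact finrank_span_singleton hne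

end Cfsg.Agent.S4689
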