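import Cfsg.Statements.S4649
import Mathlib
import Cfsg.Agent.S4648
import Cfsg.Agent.S4689
import Cfsg.Agent.S4633
import Cfsg.Agent.Lib.Blocks.RepFin4

set_option autoImplicit false
set_option linter.style.haveILetI false
open Cfsg

namespace Cfsg.Agent.S4649

open Cfsg.Agent.Lib.Blocks.Pairs Cfsg.Agent.Lib.Blocks.AbelianCount Cfsg.Agent.Lib.Blocks.KleinFour
  Cfsg.Agent.Lib.Blocks.CentralQuot Cfsg.Agent.Lib.Blocks.Sections Cfsg.Agent.Lib.Blocks.Regular
open Cfsg.Agent.Lib.Blocks.Local Cfsg.Agent.Lib.Blocks.Central Cfsg.Agent.Lib.Blocks.RegInt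
open Cfsg.Agent.Lib.Blocks.BrauerFeit Cfsg.Agent.Lib.Blocks.RegNorm
open Cfsg.Agent.Lib.Blocks.HeightZero Cfsg.Agent.S4607 Cfsg.Agent.S4648

universe u

section Aux

variable {G : Type u} [Group G] [Fintype G] {p : ℕ} [hp : Fact p.Prime] {M : Ideal AlgInt}

open Classical in
/-- `k(B) = p ^ d(B)` when `l(B) = 1` and all the degrees in the block agree. -/
theorem card_eq_of_degree_eq [M.IsPrime] (hM : IsPModular p M) {B : Set (IrrCharacter G)} (hB : IsPBlock M B)
    (hl : blockRank p B = 1) {n : ℕ} (hn : ∀ χ ∈ B, charDegree (χ : G → ℂ) = n) {D : Subgroup G}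
    (hD : IsDefectGroup p M B D) :
    (Finset.univ.filter (· ∈ B)).card = p ^ blockDefect p B := by
  obtain ⟨φ, d, -, hφ, -⟩ := Cfsg.Agent.S4675.result p M hM B hB D hD hl
  obtain ⟨χ₀, hχ₀, h0⟩ := exists_height_zero (p := p) (nonempty_of_isPBlock hB)
  have hreg1 : IsPRegular p (1 : G) := by
    show ¬ p ∣ orderOf (1 : G)
    rw [orderOf_one]
    exact fun h => hp.out.one_lt.ne' (Nat.dvd_one.mp h)
  have hn0 : (n : ℂ) ≠ 0 := by
    rw [← hn χ₀ hχ₀]
    exact_mod_cast charDegree_ne_zero χ₀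
  have hreg : ∀ ψ ∈ B, reg p (ψ : G → ℂ) = reg p (χ₀ : G → ℂ) := by
    intro ψ hψ
    have h1 := hφ ψ hψ 1 hreg1
    have h2 := hφ χ₀ hχ₀ 1 hreg1
    rw [← charDegree_cast, hn ψ hψ] at h1
    rw [← charDegree_cast, hn χ₀ hχ₀] at h2
    have hφ1 : φ 1 ≠ 0 := by
      intro h
      rw [h, mul_zero] at h1
      exact hn0 h1
    have hd : (d ψ : ℂ) = d χ₀ := mul_right_cancel₀ hφ1 (h1.symm.trans h2)
    funext x
    by_cases hx : p ∣ orderOf x
    · rw [reg_of_dvd _ hx, reg_of_dvd _ hx]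
    · rw [reg_of_not_dvd _ hx, reg_of_not_dvd _ hx, hφ ψ hψ x hx, hφ χ₀ hχ₀ x hx, hd]
  have hsum := sum_mm_degree hM hB hχ₀
  have hn0' : (n : ℤ) ≠ 0 := by exact_mod_cast (fun h : n = 0 => hn0 (by simp [h]))
  have h1 : ∑ ψ ∈ Finset.univ.filter (· ∈ B), mm p B χ₀ ψ * (charDegree (ψ : G → ℂ) : ℤ) =
      ((Finset.univ.filter (· ∈ B)).card : ℤ) * mm p B χ₀ χ₀ * n := by
    rw [Finset.sum_congr rfl (g := fun _ => mm p B χ₀ χ₀ * (n : ℤ))
      (fun ψ hψ => by
        have hψ' := (Finset.mem_filter.mp hψ).2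
        rw [mm_eq_of_reg_eq hM hχ₀ (hreg ψ hψ'), hn ψ hψ'])]
    rw [Finset.sum_const, nsmul_eq_mul]
    ring
  rw [h1, hn χ₀ hχ₀] at hsum
  have h2 : ((Finset.univ.filter (· ∈ B)).card : ℤ) * mm p B χ₀ χ₀ = (p : ℤ) ^ blockDefect p B :=
    mul_right_cancel₀ hn0' hsum
  have hnd := not_dvd_mm_self hM hB hχ₀ h0
  set m := mm p B χ₀ χ₀
  have hm : m.natAbs ∣ p ^ blockDefect p B := by
    have : (m : ℤ) ∣ (p : ℤ) ^ blockDefect p B := ⟨_, by rw [← h2]; ring⟩
    have h3 := Int.natAbs_dvd_natAbs.mpr this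
    simpa [Int.natAbs_pow] using h3
  obtain ⟨j, -, hj⟩ := (Nat.dvd_prime_pow hp.out).mp hm
  have hm1 : m.natAbs = 1 := by
    rcases Nat.eq_zero_or_pos j with rfl | hj0
    · simpa using hj
    · exfalso
      apply hnd
      have : p ∣ m.natAbs := by
        rw [hj]
        exact dvd_pow_self p hj0.ne'
      exact Int.natCast_dvd.mpr this
  have hpos : 0 < (p : ℤ) ^ blockDefect p B := by
    have := hp.out.pos
    positivity
  have hcard0 : 0 ≤ ((Finset.univ.filter (· ∈ B)).card : ℤ) := by positivity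
  have hmpos : 0 < m := by
    rw [← h2] at hpos
    by_contra hneg
    push Not at hneg
    nlinarith
  have hm' : m = 1 := by omega
  rw [hm', mul_one] at h2
  exact_mod_cast h2

end Aux

/-- A block with cyclic defect group, of a finite group relative to a maximal ideal M of the algebraic integers containing the prime p, is nilpotent if and only if its p-regular rank is 1 (it has a unique irreducible Brauer character). -/
theorem result {G : Type*} [Group G] [Finite G] (p : ℕ) [Fact p.Prime] (M : Ideal Cfsg.AlgInt) (hM : Cfsg.IsPModular p M) (B : Set (Cfsg.IrrCharacter G)) (hB : Cfsg.IsPBlock M B) (P : Subgroup G) (hPD : Cfsg.IsDefectGroup p M B P) (hcyc : IsCyclic P) : Cfsg.IsNilpotentBlock p M B ↔ Cfsg.blockRank p B = 1 := by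
  classical
  cases nonempty_fintype G
  haveI : M.IsPrime := hM.2.1.isPrime
  have hpp : p.Prime := Fact.out
  constructor
  · intro hnil
    exact (Cfsg.Agent.S4689.result p M hM B hnil).1
  intro hl
  obtain ⟨n, hn⟩ := Cfsg.Agent.Lib.Blocks.RepFin.exists_degree_eq_of_cyclic hM hB hl hPD hcyc
  have hfil : Nat.card B = (Finset.univ.filter (· ∈ B)).card := by
    rw [Nat.card_eq_fintype_card, Fintype.card_subtype]
  have hcard := card_eq_of_degree_eq hM hB hl hn hPD
  have hcD := Cfsg.Agent.S0908.result p M hM B hB P hPD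
  have hDB : Nat.card P = Nat.card B := by rw [hcD, hfil, hcard]
  have hDp : IsPGroup p P := IsPGroup.of_card hcD
  have hab : ∀ x ∈ P, ∀ y ∈ P, x * y = y * x := by
    intro x hx y hy
    haveI : IsMulCommutative P := IsCyclic.isMulCommutative
    have : (⟨x, hx⟩ : P) * ⟨y, hy⟩ = ⟨y, hy⟩ * ⟨x, hx⟩ := IsMulCommutative.is_comm.comm _ _
    exact congrArg Subtype.val this
  obtain ⟨e, hmax⟩ := exists_maximal_on_defect hM hB hPD
  have hDe := hmax.1.1
  have hPK : ∀ Q : Subgroup G, Q ≤ P → P ≤ Subgroup.centralizer (Q : Set G) := fun Q hQ u hu =>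
    Subgroup.mem_centralizer_iff.mpr fun q hq => hab q (hQ hq) u hu
  -- the blocks below `(P, e)`
  have hex : ∀ y : G, ∃ f : Set (Cfsg.IrrCharacter (CZ y)), y ∈ P →
      IsNormalSubpair p M (Subgroup.zpowers y) f P e := by
    intro y
    by_cases hy : y ∈ P
    · obtain ⟨f, hf, -⟩ := existsUnique_normal_subpair hM hDe (Subgroup.zpowers_le.mpr hy)
        ((hPK _ (Subgroup.zpowers_le.mpr hy)).trans
          (Cfsg.Agent.Lib.Blocks.FirstMain.centralizer_le_normalizer' _))
      exact ⟨f, fun _ => hf⟩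
    · exact ⟨∅, fun h => absurd h hy⟩
  choose F hF using hex
  set T : Subgroup G := Subgroup.normalizer (P : Set G) ⊓
    blockStabilizer (Subgroup.centralizer (P : Set G)) e with hTdef
  have hT : ∀ g : G, g ∈ T ↔ g ∈ Subgroup.normalizer (P : Set G) ∧
      StabilizesBlock (Subgroup.centralizer (P : Set G)) e g := fun g => Iff.rfl
  have hTD : ∀ t ∈ T, ∀ y ∈ P, t * y * t⁻¹ ∈ P := fun t ht y hy =>
    (Subgroup.mem_normalizer_iff.mp ((hT t).mp ht).1 y).mp hy
  have hc : IsInducedBlock M (Subgroup.centralizer (P : Set G)) e B :=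
    isInducedBlock_of_brauerPair hM hmax.1
  have hrankF : ∀ y ∈ P, y ≠ 1 → Cfsg.blockRank p (F y) = 1 := by
    intro y hy hy1
    have hP1 : P ≠ ⊥ := by
      intro h
      rw [h] at hy
      exact hy1 (Subgroup.mem_bot.mp hy)
    haveI hnT : ((Subgroup.centralizer (P : Set G)).subgroupOf T).Normal := by
      obtain ⟨-, h2, -, h4, -⟩ := stabilizer_facts hT
      exact (Subgroup.normal_subgroupOf_iff_le_normalizer h2).mpr h4
    have hfree := (Cfsg.Agent.S4633.result p M hM B hB P hPD hP1 hcyc e hc T hT).2.2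
    have hzP := Subgroup.zpowers_le.mpr hy
    have hind := isInducedBlockIn_of_normal hM hzP (hPK _ hzP) (hF y hy)
    have hnil := (free_iff_local_nilpotent hM hPD hab hDp hc hT).mp hfree _ hzP
      (by
        intro h
        exact hy1 (Subgroup.zpowers_eq_bot.mp h)) _ hind
    letI : Fintype (CZ y) := Fintype.ofFinite _
    exact (Cfsg.Agent.S4689.result p M hM _ hnil).1
  obtain ⟨R, hR, hR', hRc⟩ := exists_orbit_reps T P hTD
  obtain ⟨χ₀, rfl⟩ := id hB
  have hcount := card_eq_rank_add_sum (p := p) hM χ₀ hmax hab hT R hR hR' F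
    (fun y hy => ⟨(hF y (hR y hy).1).1.2, Relation.ReflTransGen.single (hF y (hR y hy).1)⟩)
  have hsum : ∑ y ∈ R, Cfsg.blockRank p (F y) = R.card := by
    rw [Finset.sum_congr rfl (fun y hy => hrankF y (hR y hy).1 (hR y hy).2)]
    simp
  rw [hsum, hl, ← hDB] at hcount
  have hTC := hRc (by rw [add_comm]; exact hcount.symm)
  rw [Cfsg.Agent.S4687.result p M hM _ P e hmax hab]
  intro x hxN hxS
  rw [Subgroup.mem_centralizer_iff]
  intro y hy
  have h := hTC x ((hT x).mpr ⟨hxN, hxS⟩) y hy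
  calc y * x = x * y * x⁻¹ * x := by rw [h]
    _ = x * y := by group

end Cfsg.Agent.S4649
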