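import Cfsg.Statements.S4964
import Mathlib
import Cfsg.Agent.Lib.Blocks.Dominate
import Cfsg.Agent.Lib.Blocks.DefectSupport
import Cfsg.Agent.Lib.Blocks.KOCoset
import Cfsg.Agent.Lib.Blocks.BrauerMap
import Cfsg.Agent.Lib.PGroup.FrattiniBasis

set_option autoImplicit false
set_option linter.style.haveILetI false

open Cfsg Cfsg.Agent.Lib.Blocks.Local Cfsg.Agent.Lib.Blocks.Central Cfsg.Agent.Lib.Blocks.Osima
open scoped commutatorElement

namespace Cfsg.Agent.S4964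

universe u

variable {G : Type u} [Group G] [Finite G] {p : ℕ} [hp : Fact p.Prime]

/-- A `p`-regular element of `G/N` lifts to a `p`-regular element. -/
theorem exists_regular_lift {N : Subgroup G} [hNn : N.Normal] (hN : IsPGroup p N) (c : G ⧸ N)
    (hc : ¬ p ∣ orderOf c) : ∃ g : G, (g : G ⧸ N) = c ∧ ¬ p ∣ orderOf g := by
  letI := Fintype.ofFinite G
  letI := Fintype.ofFinite N
  obtain ⟨x, rfl⟩ := QuotientGroup.mk_surjective c
  obtain ⟨z, hz⟩ := Cfsg.Agent.Lib.Blocks.SecondMain.exists_isPPart p x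
  have hzP : z ∈ N := by
    refine Cfsg.Agent.Lib.Blocks.Laradji.pPart_mem_of_pow_mem (D := N) hz hc ?_
    have h3 := pow_orderOf_eq_one (x : G ⧸ N)
    rw [← QuotientGroup.mk_pow] at h3
    exact (QuotientGroup.eq_one_iff _).1 h3
  obtain ⟨y, hzy, hcomm, -, hy⟩ := hz
  refine ⟨y, ?_, by simpa using hy⟩
  rw [← hzy, QuotientGroup.mk_mul, (QuotientGroup.eq_one_iff z).2 hzP, one_mul]

/-- Conjugates in the `N`-coset of a `p`-regular element are `N`-conjugates. -/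
theorem exists_conj_of_comm {N : Subgroup G} [hNn : N.Normal] (hN : IsPGroup p N) {g x : G}
    (hg : ¬ p ∣ orderOf g) (hx : x * g * x⁻¹ * g⁻¹ ∈ N) : ∃ t ∈ N, t⁻¹ * x ∈ Subgroup.centralizer ({g} : Set G) := by
  have h1 : orderOf (x * g * x⁻¹ * g⁻¹ * g) = orderOf g := by
    rw [inv_mul_cancel_right, ← MulAut.conj_apply, MulEquiv.orderOf_eq]
  obtain ⟨t, ht, hte⟩ := Cfsg.Agent.Lib.Blocks.KOCoset.exists_conj_of_coset hN hx hg (by rwa [h1])
  refine ⟨t, ht, ?_⟩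
  rw [Subgroup.mem_centralizer_singleton_iff]
  rw [inv_mul_cancel_right] at hte
  have h2 : t⁻¹ * x * g * (t⁻¹ * x)⁻¹ = g := by
    calc t⁻¹ * x * g * (t⁻¹ * x)⁻¹ = t⁻¹ * (x * g * x⁻¹) * t := by group
      _ = t⁻¹ * (t * g * t⁻¹) * t := by rw [hte]
      _ = g := by group
  exact mul_inv_eq_iff_eq_mul.1 h2

/-- A `p`-regular element trivial on `D/D'` centralises `D`. -/
theorem centralizes_of_quotient {D : Subgroup G} [hDn : D.Normal] (hD : IsPGroup p D) {g : G}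
    (hg : ¬ p ∣ orderOf g)
    (hc : ∀ d ∈ D, d * g * d⁻¹ * g⁻¹ ∈ ⁅D, D⁆) : ∀ d ∈ D, d * g = g * d := by
  classical
  haveI : (⁅D, D⁆).Normal := Subgroup.commutator_normal D D
  have hNp : IsPGroup p ↥⁅D, D⁆ := hD.to_le (Subgroup.commutator_le_left D D)
  set C₀ : Subgroup D := (Subgroup.centralizer ({g} : Set G)).subgroupOf D with hC₀
  have htop : C₀ = ⊤ := by
    apply frattini_nongenerating (K := C₀)
    rw [eq_top_iff]
    rintro ⟨d, hd⟩ -
    obtain ⟨t, ht, htc⟩ := exists_conj_of_comm hNp hg (hc d hd)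
    have htD : t ∈ D := Subgroup.commutator_le_left D D ht
    have h1 : (⟨t, htD⟩ : D) ∈ frattini D := by
      apply Cfsg.Agent.Lib.PGroup.FrattiniBasis.commutator_le_frattini hD
      have h2 := Subgroup.map_subtype_commutator D
      rw [← h2] at ht
      obtain ⟨z, hz, hzt⟩ := ht
      have h3 : z = ⟨t, htD⟩ := Subtype.ext hzt
      rwa [← h3]
    have h2 : (⟨t⁻¹ * d, D.mul_mem (D.inv_mem htD) hd⟩ : D) ∈ C₀ := htc
    have h3 : (⟨d, hd⟩ : D) = (⟨t, htD⟩ : D) * ⟨t⁻¹ * d, D.mul_mem (D.inv_mem htD) hd⟩ :=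
      Subtype.ext (by simp)
    rw [h3]
    exact mul_mem (Subgroup.mem_sup_right h1) (Subgroup.mem_sup_left h2)
  intro d hd
  have h1 : (⟨d, hd⟩ : D) ∈ C₀ := by
    rw [htop]
    trivial
  have h2 : d ∈ Subgroup.centralizer ({g} : Set G) := h1
  rw [Subgroup.mem_centralizer_singleton_iff] at h2
  exact h2

/-- The class size of a `p`-regular element centralising `N` is the same in `G/N`. -/
theorem index_centralizer_quotient {N : Subgroup G} [hNn : N.Normal] (hN : IsPGroup p N) {g : G}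
    (hg : ¬ p ∣ orderOf g) (hgN : ∀ n ∈ N, n * g = g * n) :
    (Subgroup.centralizer ({g} : Set G)).index =
      (Subgroup.centralizer ({(g : G ⧸ N)} : Set (G ⧸ N))).index := by
  have h1 : (Subgroup.centralizer ({(g : G ⧸ N)} : Set (G ⧸ N))).comap (QuotientGroup.mk' N) =
      Subgroup.centralizer ({g} : Set G) := by
    ext x
    rw [Subgroup.mem_comap, Subgroup.mem_centralizer_singleton_iff,
      Subgroup.mem_centralizer_singleton_iff]
    constructor
    · intro h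
      have h2 : x * g * x⁻¹ * g⁻¹ ∈ N := by
        rw [← QuotientGroup.eq_one_iff]
        have h3 : ((x * g : G) : G ⧸ N) = ((g * x : G) : G ⧸ N) := h
        rw [QuotientGroup.mk_mul, QuotientGroup.mk_inv, QuotientGroup.mk_mul, h3, ← QuotientGroup.mk_mul]
        simp
      obtain ⟨t, ht, htc⟩ := exists_conj_of_comm hN hg h2
      rw [Subgroup.mem_centralizer_singleton_iff] at htc
      have h5 : x = t * (t⁻¹ * x) := by group
      rw [h5, mul_assoc, htc, ← mul_assoc, hgN t ht, mul_assoc]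
    · intro h
      show ((x * g : G) : G ⧸ N) = ((g * x : G) : G ⧸ N)
      rw [h]
  rw [← h1, Subgroup.index_comap_of_surjective _ (QuotientGroup.mk'_surjective N)]

/-- The central character of an inflated function at such an element. -/
theorem centralChar_comp_mk {N : Subgroup G} [hNn : N.Normal] (hN : IsPGroup p N) {g : G}
    (hg : ¬ p ∣ orderOf g) (hgN : ∀ n ∈ N, n * g = g * n) (η : G ⧸ N → ℂ) :
    centralChar (η ∘ QuotientGroup.mk) g = centralChar η (g : G ⧸ N) := by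
  simp only [centralChar, Function.comp_apply, QuotientGroup.mk_one]
  rw [index_centralizer_quotient hN hg hgN]

variable (p) in
/-- The key inclusion. -/
theorem sameBlock_of_comp_mk' (M : Ideal AlgInt) (hM : IsPModular p M) (D : Subgroup G) [hDn : D.Normal]
    (hD : IsPGroup p D) (χ ψ : IrrCharacter (G ⧸ ⁅D, D⁆))
    (h : SameBlock M ((χ : G ⧸ ⁅D, D⁆ → ℂ) ∘ QuotientGroup.mk)
      ((ψ : G ⧸ ⁅D, D⁆ → ℂ) ∘ QuotientGroup.mk)) :
    SameBlock M (χ : G ⧸ ⁅D, D⁆ → ℂ) (ψ : G ⧸ ⁅D, D⁆ → ℂ) := by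
  classical
  haveI hNn : (⁅D, D⁆).Normal := Subgroup.commutator_normal D D
  have hNp : IsPGroup p ↥⁅D, D⁆ := hD.to_le (Subgroup.commutator_le_left D D)
  haveI hMp := isPrime_of_isPModular hM
  set N := ⁅D, D⁆ with hN
  letI : Fintype (G ⧸ N) := Fintype.ofFinite _
  set b := blockOf M (χ : G ⧸ N → ℂ) with hb
  have hbb : IsPBlock M b := ⟨χ, rfl⟩
  have hχb : χ ∈ b := mem_blockOf_self χ
  by_contra hcon
  have hψb : ψ ∉ b := hcon
  have h1 := omega_blockElt_of_mem hχb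
  have h2 := omega_blockElt_of_notMem hψb
  rw [omega_eq_sum_centralChar (isClassFunction_of_irr χ.2) (isClassFunction_blockElt _)] at h1
  rw [omega_eq_sum_centralChar (isClassFunction_of_irr ψ.2) (isClassFunction_blockElt _)] at h2
  apply not_memLocalIdeal_one (M := M)
  have h3 : (1 : ℂ) = ∑ K : ConjClasses (G ⧸ N), (blockElt b).coeff K.out *
      (centralChar (χ : G ⧸ N → ℂ) K.out - centralChar (ψ : G ⧸ N → ℂ) K.out) := by
    simp only [mul_sub, Finset.sum_sub_distrib]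
    rw [h1, h2, sub_zero]
  rw [h3]
  refine memLocalIdeal_sum _ _ fun K _ => ?_
  set c := K.out with hc
  by_cases hd : p ∣ orderOf c
  · rw [coeff_blockElt, Cfsg.Agent.Lib.Blocks.DefectSupport.blockCoeff_eq_zero_of_dvd hM hbb hd, zero_mul]
    exact memLocalIdeal_zero
  obtain ⟨g, hgc, hgp⟩ := exists_regular_lift hNp c hd
  have hDbar : (D.map (QuotientGroup.mk' N)).Normal := Subgroup.Normal.map hDn _ (QuotientGroup.mk'_surjective N)
  have hDbarp : IsPGroup p (D.map (QuotientGroup.mk' N)) := hD.map _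
  refine memLocalIdeal_mul_left ((blockElt_mem_localCenter hbb).2 c) ?_
  by_cases hcen : c ∈ Subgroup.centralizer ((D.map (QuotientGroup.mk' N) : Subgroup (G ⧸ N)) : Set (G ⧸ N))
  · have hcomm : ∀ d ∈ D, d * g * d⁻¹ * g⁻¹ ∈ N := by
      intro d hd
      rw [← QuotientGroup.eq_one_iff]
      have h5 := Subgroup.mem_centralizer_iff.1 hcen (d : G ⧸ N) ⟨d, hd, rfl⟩
      have h6 : ((d * g * d⁻¹ * g⁻¹ : G) : G ⧸ N) = (d : G ⧸ N) * c * (d : G ⧸ N)⁻¹ * c⁻¹ := by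
        rw [← hgc]
        rfl
      rw [h6, h5]
      group
    have hgD := centralizes_of_quotient hD hgp hcomm
    have hgN : ∀ n ∈ N, n * g = g * n := fun n hn => hgD n (Subgroup.commutator_le_left D D hn)
    rw [← hgc, ← centralChar_comp_mk hNp hgp hgN, ← centralChar_comp_mk hNp hgp hgN]
    exact h g
  · exact memLocalIdeal_sub
      (Cfsg.Agent.Lib.Blocks.BrauerMap.memLocalIdeal_centralChar_of_not_centralizer hM _ hDbarp χ.2 hcen)
      (Cfsg.Agent.Lib.Blocks.BrauerMap.memLocalIdeal_centralChar_of_not_centralizer hM _ hDbarp ψ.2 hcen)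

/-- Blocks of `G/D'` and `G`. -/
theorem result {G : Type*} [Group G] [Finite G] (p : ℕ) [Fact p.Prime] (M : Ideal Cfsg.AlgInt) (hM : Cfsg.IsPModular p M) (D : Subgroup G) [D.Normal] (hD : IsPGroup p D) : (∀ χ ψ : Cfsg.IrrCharacter (G ⧸ ⁅D, D⁆), Cfsg.SameBlock M (χ : G ⧸ ⁅D, D⁆ → ℂ) (ψ : G ⧸ ⁅D, D⁆ → ℂ) ↔ Cfsg.SameBlock M ((χ : G ⧸ ⁅D, D⁆ → ℂ) ∘ QuotientGroup.mk) ((ψ : G ⧸ ⁅D, D⁆ → ℂ) ∘ QuotientGroup.mk)) ∧ ∀ B : Set (Cfsg.IrrCharacter G), Cfsg.IsPBlock M B → ∃ χ : Cfsg.IrrCharacter (G ⧸ ⁅D, D⁆), ∃ θ ∈ B, (θ : G → ℂ) = (χ : G ⧸ ⁅D, D⁆ → ℂ) ∘ QuotientGroup.mk := by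
  classical
  letI := Fintype.ofFinite G
  haveI hNn : (⁅D, D⁆).Normal := Subgroup.commutator_normal D D
  have hNp : IsPGroup p ↥⁅D, D⁆ := hD.to_le (Subgroup.commutator_le_left D D)
  haveI hMp := isPrime_of_isPModular hM
  letI : Fintype (G ⧸ ⁅D, D⁆) := Fintype.ofFinite _
  letI : Fintype ↥⁅D, D⁆ := Fintype.ofFinite _
  refine ⟨fun χ ψ => ⟨fun h => Cfsg.Agent.Lib.Blocks.Dominate.sameBlock_comp_mk _ χ.2 ψ.2 h,
    fun h => sameBlock_of_comp_mk' p M hM D hD χ ψ h⟩, fun B hB => ?_⟩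
  obtain ⟨θ, hθ, hker⟩ := Cfsg.Agent.Lib.Blocks.Dominate.exists_mem_kernel ⁅D, D⁆ hM hNp hB
  obtain ⟨χ, hχ⟩ := Cfsg.Agent.Lib.Blocks.Kernel.exists_irr_of_kernel ⁅D, D⁆ θ.2 hker
  exact ⟨χ, θ, hθ, hχ⟩

end Cfsg.Agent.S4964
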