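import Cfsg.Statements.S4552
import Mathlib
import Cfsg.Agent.Lib.Blocks.AbFree12
import Cfsg.Agent.Lib.Blocks.AbFrob
import Cfsg.Agent.Lib.Blocks.PiKer
import Cfsg.Agent.Lib.Blocks.FirstMain

set_option autoImplicit false
set_option linter.style.haveILetI false
open Cfsg

namespace Cfsg.Agent.S4552

open Cfsg.Agent.Lib.Blocks.Pairs

section Groups

variable {G : Type*} [Group G]

lemma commute_iff {b x : G} : Commute b x ↔ b * x * b⁻¹ = x := by
  rw [mul_inv_eq_iff_eq_mul]
  exact Iff.rfl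

/-- An element of odd order commuting with `x` after squaring commutes with `x`. -/
lemma odd_commute {b x : G} (hb : Odd (orderOf b)) (h : Commute (b ^ 2) x) : Commute b x := by
  obtain ⟨k, hk⟩ := hb
  have h1 : b = (b ^ 2) ^ (k + 1) := by
    rw [← pow_mul]
    have : 2 * (k + 1) = orderOf b + 1 := by omega
    rw [this, pow_succ, pow_orderOf_eq_one, one_mul]
  rw [h1]
  exact h.pow_left _

/-- Every nontrivial element of a group of `2`-power exponent has an involution among its powers. -/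
lemma exists_involution {x : G} (hx : x ≠ 1) (hexp : ∃ k : ℕ, x ^ (2 ^ k) = 1) :
    ∃ j : ℕ, x ^ (2 ^ j) ≠ 1 ∧ (x ^ (2 ^ j)) ^ 2 = 1 := by
  classical
  have hk0 : Nat.find hexp ≠ 0 := by
    intro h0
    have := Nat.find_spec hexp
    rw [h0] at this
    simp at this
    exact hx this
  obtain ⟨j, hj⟩ := Nat.exists_eq_succ_of_ne_zero hk0
  refine ⟨j, ?_, ?_⟩
  · exact Nat.find_min hexp (by omega)
  · have := Nat.find_spec hexp
    rw [hj] at this
    rw [← pow_mul, ← pow_succ]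
    exact this

/-- An odd-order element centralizing the involutions centralizes the group. -/
lemma commute_of_involutions {D : Subgroup G} (hab : ∀ x ∈ D, ∀ y ∈ D, x * y = y * x)
    (hexp : ∀ x ∈ D, ∃ k : ℕ, x ^ (2 ^ k) = 1) {b : G} (hb : Odd (orderOf b))
    (hbD : ∀ x ∈ D, b * x * b⁻¹ ∈ D) (hfix : ∀ z ∈ D, z ^ 2 = 1 → Commute b z) {x : G} (hx : x ∈ D) :
    Commute b x := by
  by_contra hne
  obtain ⟨y, hy⟩ : ∃ y, y = b * x * b⁻¹ * x⁻¹ := ⟨_, rfl⟩
  have hyD : y ∈ D := by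
    rw [hy]
    exact D.mul_mem (hbD x hx) (D.inv_mem hx)
  have hy1 : y ≠ 1 := by
    intro h1
    apply hne
    rw [hy, mul_inv_eq_one] at h1
    exact commute_iff.mpr h1
  have hyx : b * x * b⁻¹ = y * x := by
    rw [hy]
    group
  obtain ⟨j, hj1, hj2⟩ := exists_involution hy1 (hexp y hyD)
  have hzD : y ^ (2 ^ j) ∈ D := D.pow_mem hyD _
  have hc : Commute y x := hab y hyD x hx
  have hw : b * x ^ (2 ^ j) * b⁻¹ = y ^ (2 ^ j) * x ^ (2 ^ j) := by
    rw [← conj_pow, hyx, hc.mul_pow]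
  have hzc : Commute b (y ^ (2 ^ j)) := hfix _ hzD hj2
  have hpow : ∀ n : ℕ, b ^ n * x ^ (2 ^ j) * (b ^ n)⁻¹ = (y ^ (2 ^ j)) ^ n * x ^ (2 ^ j) := by
    intro n
    induction n with
    | zero => simp
    | succ n ih =>
      have h1 : b ^ (n + 1) * x ^ (2 ^ j) * (b ^ (n + 1))⁻¹ = b * (b ^ n * x ^ (2 ^ j) * (b ^ n)⁻¹) * b⁻¹ := by
        rw [pow_succ']
        group
      rw [h1, ih]
      have h2 : b * ((y ^ (2 ^ j)) ^ n * x ^ (2 ^ j)) * b⁻¹ =
          (b * (y ^ (2 ^ j)) ^ n * b⁻¹) * (b * x ^ (2 ^ j) * b⁻¹) := by group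
      rw [h2, commute_iff.mp (hzc.pow_right n), hw, pow_succ]
      group
  have h3 := hpow (orderOf b)
  rw [pow_orderOf_eq_one] at h3
  simp only [one_mul, inv_one, mul_one] at h3
  have h4 : (y ^ (2 ^ j)) ^ orderOf b = 1 := by
    have h5 := mul_eq_right.mp h3.symm
    exact h5
  obtain ⟨k, hk⟩ := hb
  rw [hk, pow_succ, pow_mul, hj2, one_pow, one_mul] at h4
  exact hj1 h4

/-- Four involutions: any three distinct nontrivial square roots of `1` in `D` are a line. -/
lemma mem_of_card_le {z w v : G} (s : Finset G) (hs : s.card ≤ 4) (h1 : (1 : G) ∈ s) (hz : z ∈ s) (hw : w ∈ s)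
    (hzw : z * w ∈ s) (hv : v ∈ s) (hz1 : z ≠ 1) (hw1 : w ≠ 1) (hne : z ≠ w) (hz2 : z ^ 2 = 1)
    (hv1 : v ≠ 1) (hvz : v ≠ z) : v = w ∨ v = z * w := by
  classical
  by_contra hcon
  push Not at hcon
  obtain ⟨h2, h3⟩ := hcon
  have hsub : ({1, z, w, z * w, v} : Finset G) ⊆ s := by
    intro a ha
    simp only [Finset.mem_insert, Finset.mem_singleton] at ha
    rcases ha with rfl | rfl | rfl | rfl | rfl <;> assumption
  have hcard : ({1, z, w, z * w, v} : Finset G).card = 5 := by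
    have hzw1 : z * w ≠ 1 := by
      intro h
      apply hne
      have : z * z = 1 := by rw [← sq]; exact hz2
      have h4 : z * w = z * z := by rw [h, this]
      exact (mul_left_cancel h4).symm
    have hzwz : z * w ≠ z := by
      intro h
      exact hw1 (mul_eq_left.mp h)
    have hzww : z * w ≠ w := by
      intro h
      exact hz1 (mul_eq_right.mp h)
    rw [Finset.card_insert_of_notMem, Finset.card_insert_of_notMem, Finset.card_insert_of_notMem,
      Finset.card_insert_of_notMem, Finset.card_singleton]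
    · simp only [Finset.mem_singleton]
      exact fun h => h3 h.symm
    · simp only [Finset.mem_insert, Finset.mem_singleton, not_or]
      exact ⟨hzww.symm, fun h => h2 h.symm⟩
    · simp only [Finset.mem_insert, Finset.mem_singleton, not_or]
      exact ⟨hne, hzwz.symm, fun h => hvz h.symm⟩
    · simp only [Finset.mem_insert, Finset.mem_singleton, not_or]
      exact ⟨hz1.symm, hw1.symm, hzw1.symm, hv1.symm⟩
  have := Finset.card_le_card hsub
  omega

/-- The group theory of the action. -/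
theorem action_facts {D T : Subgroup G} (hab : ∀ x ∈ D, ∀ y ∈ D, x * y = y * x)
    (hexp : ∀ x ∈ D, ∃ k : ℕ, x ^ (2 ^ k) = 1)
    (hΩ : ∃ s : Finset G, s.card ≤ 4 ∧ ∀ x ∈ D, x ^ 2 = 1 → x ∈ s)
    (hTN : ∀ t ∈ T, ∀ x ∈ D, t * x * t⁻¹ ∈ D)
    (hdec : ∀ t ∈ T, ∃ a b : G, t = a * b ∧ a ∈ Subgroup.centralizer (D : Set G) ∧ b ∈ T ∧ Odd (orderOf b)) :
    (∀ t ∈ T, ∀ x ∈ D, x ≠ 1 → t * x * t⁻¹ = x → t ∈ Subgroup.centralizer (D : Set G)) ∧
      (D ≠ ⊥ → (Subgroup.centralizer (D : Set G)).relIndex T ≤ 3) := by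
  classical
  obtain ⟨s, hs, hsD⟩ := hΩ
  have hacent : ∀ {a : G}, a ∈ Subgroup.centralizer (D : Set G) → ∀ u ∈ D, Commute a u := by
    intro a ha u hu
    exact (Subgroup.mem_centralizer_iff.mp ha u hu).symm
  have hcent : ∀ {a : G}, (∀ u ∈ D, Commute a u) → a ∈ Subgroup.centralizer (D : Set G) := by
    intro a h
    exact Subgroup.mem_centralizer_iff.mpr fun u hu => (h u hu).symm
  have hfree : ∀ t ∈ T, ∀ x ∈ D, x ≠ 1 → t * x * t⁻¹ = x → t ∈ Subgroup.centralizer (D : Set G) := by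
    intro t ht x hx hx1 htx
    obtain ⟨a, b, rfl, ha, hbT, hb⟩ := hdec t ht
    have hbx : Commute b x := by
      have h1 : Commute (a * b) x := commute_iff.mpr htx
      have h2 : Commute a x := hacent ha x hx
      have h3 : Commute a⁻¹ x := h2.inv_left
      have h4 := h3.mul_left h1
      rwa [inv_mul_cancel_left] at h4
    obtain ⟨j, hj1, hj2⟩ := exists_involution hx1 (hexp x hx)
    have hzD : x ^ (2 ^ j) ∈ D := D.pow_mem hx _
    have hbz : Commute b (x ^ (2 ^ j)) := hbx.pow_right _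
    have hfix : ∀ w ∈ D, w ^ 2 = 1 → Commute b w := by
      intro w hw hw2
      by_cases hw1 : w = 1
      · rw [hw1]; exact Commute.one_right _
      by_cases hwz : x ^ (2 ^ j) = w
      · rw [← hwz]; exact hbz
      have hv : b * w * b⁻¹ ∈ D := hTN b hbT w hw
      have hv2 : (b * w * b⁻¹) ^ 2 = 1 := by
        rw [conj_pow, hw2]; group
      have hv1 : b * w * b⁻¹ ≠ 1 := by
        intro h
        apply hw1
        have : b * w = b := by
          rwa [mul_inv_eq_one] at h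
        exact mul_eq_left.mp this
      have hvz : b * w * b⁻¹ ≠ x ^ (2 ^ j) := by
        intro h
        apply hwz
        have h1 := commute_iff.mp hbz
        rw [← h1] at h
        have h2 := mul_right_cancel h
        exact (mul_left_cancel h2).symm
      have h5 := mem_of_card_le s hs (hsD 1 D.one_mem (one_pow _)) (hsD _ hzD hj2) (hsD _ hw hw2)
        (hsD _ (D.mul_mem hzD hw) (by
          have hcomm : Commute (x ^ (2 ^ j)) w := hab _ hzD _ hw
          rw [hcomm.mul_pow, hj2, hw2, one_mul]))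
        (hsD _ hv hv2) hj1 hw1 hwz hj2 hv1 hvz
      apply odd_commute hb
      apply commute_iff.mpr
      have h6 : b ^ 2 * w * (b ^ 2)⁻¹ = b * (b * w * b⁻¹) * b⁻¹ := by
        rw [sq]; group
      rw [h6]
      rcases h5 with h5 | h5
      · rw [h5, h5]
      · rw [h5]
        have h7 : b * (x ^ (2 ^ j) * w) * b⁻¹ = (b * x ^ (2 ^ j) * b⁻¹) * (b * w * b⁻¹) := by group
        rw [h7, commute_iff.mp hbz, h5, ← mul_assoc, ← sq, hj2, one_mul]
    have hbC : b ∈ Subgroup.centralizer (D : Set G) :=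
      hcent fun u hu => commute_of_involutions hab hexp hb (hTN b hbT) hfix hu
    exact Subgroup.mul_mem _ ha hbC
  refine ⟨hfree, fun hD1 => ?_⟩
  obtain ⟨x, hx, hx1⟩ : ∃ x : G, x ∈ D ∧ x ≠ 1 := by
    by_contra hcon
    push Not at hcon
    exact hD1 ((Subgroup.eq_bot_iff_forall D).mpr hcon)
  obtain ⟨j, hj1, hj2⟩ := exists_involution hx1 (hexp x hx)
  have hzD : x ^ (2 ^ j) ∈ D := D.pow_mem hx _
  let f : ↥T → G := fun t => (t : G) * x ^ (2 ^ j) * (t : G)⁻¹
  have hf : ∀ a b : ↥T, f a = f b ↔ (a⁻¹ * b : ↥T) ∈ (Subgroup.centralizer (D : Set G)).subgroupOf T := by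
    intro a b
    rw [Subgroup.mem_subgroupOf]
    constructor
    · intro h
      apply hfree _ (a⁻¹ * b).2 _ hzD hj1
      have h' : (a : G) * x ^ (2 ^ j) * (a : G)⁻¹ = (b : G) * x ^ (2 ^ j) * (b : G)⁻¹ := h
      simp only [Subgroup.coe_mul, Subgroup.coe_inv]
      calc (a : G)⁻¹ * b * x ^ (2 ^ j) * ((a : G)⁻¹ * b)⁻¹
          = (a : G)⁻¹ * ((b : G) * x ^ (2 ^ j) * (b : G)⁻¹) * a := by group
        _ = x ^ (2 ^ j) := by rw [← h']; group
    · intro h
      have h1 := commute_iff.mp (hacent h _ hzD)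
      simp only [Subgroup.coe_mul, Subgroup.coe_inv] at h1
      show (a : G) * x ^ (2 ^ j) * (a : G)⁻¹ = (b : G) * x ^ (2 ^ j) * (b : G)⁻¹
      calc (a : G) * x ^ (2 ^ j) * (a : G)⁻¹ =
          (a : G) * ((a : G)⁻¹ * b * x ^ (2 ^ j) * ((a : G)⁻¹ * b)⁻¹) * (a : G)⁻¹ := by rw [h1]
        _ = _ := by group
  rw [← Cfsg.Agent.Lib.Blocks.AbFrob.card_range_eq_relIndex f hf]
  have hsub : Set.range f ⊆ ((s.erase 1 : Finset G) : Set G) := by
    rintro _ ⟨t, rfl⟩
    simp only [Finset.coe_erase, Set.mem_sdiff, Finset.mem_coe, Set.mem_singleton_iff, f]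
    refine ⟨hsD _ (hTN _ t.2 _ hzD) (by rw [conj_pow, hj2]; group), ?_⟩
    intro h
    apply hj1
    have : (t : G) * x ^ (2 ^ j) = t := by
      rwa [mul_inv_eq_one] at h
    exact mul_eq_left.mp this
  have h1 : (1 : G) ∈ s := hsD 1 D.one_mem (one_pow _)
  have hcard : (s.erase 1).card ≤ 3 := by
    rw [Finset.card_erase_of_mem h1]
    omega
  calc Nat.card (Set.range f) ≤ Nat.card ((s.erase 1 : Finset G) : Set G) :=
        Nat.card_mono (Finset.finite_toSet _) hsub
    _ = (s.erase 1).card := (Nat.card_coe_set_eq _).trans (Set.ncard_coe_finset _)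
    _ ≤ 3 := hcard

end Groups

section Coord

/-- The solutions of `2 a = 0` in `ZMod (2 ^ m)`. -/
lemma two_torsion {m : ℕ} (hm : 1 ≤ m) (a : ZMod (2 ^ m)) (h : 2 * a = 0) :
    a = 0 ∨ a = ((2 ^ (m - 1) : ℕ) : ZMod (2 ^ m)) := by
  haveI : NeZero (2 ^ m) := ⟨by positivity⟩
  have h1 : ((2 * a.val : ℕ) : ZMod (2 ^ m)) = 0 := by
    push_cast
    rw [ZMod.natCast_zmod_val, h]
  rw [ZMod.natCast_eq_zero_iff] at h1
  have hm' : 2 ^ m = 2 * 2 ^ (m - 1) := by
    rw [← pow_succ']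
    congr 1
    omega
  have h2 : 2 ^ (m - 1) ∣ a.val := by
    have h1' : 2 * 2 ^ (m - 1) ∣ 2 * a.val := hm' ▸ h1
    exact Nat.dvd_of_mul_dvd_mul_left (by norm_num) h1'
  obtain ⟨c, hc⟩ := h2
  have h3 : a.val < 2 * 2 ^ (m - 1) := hm' ▸ ZMod.val_lt a
  have hpos : 0 < 2 ^ (m - 1) := by positivity
  have hc2 : c < 2 := by
    by_contra hcon
    push Not at hcon
    have := Nat.mul_le_mul_left (2 ^ (m - 1)) hcon
    rw [← hc] at this
    omega
  have ha : a = ((a.val : ℕ) : ZMod (2 ^ m)) := (ZMod.natCast_zmod_val a).symm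
  interval_cases c
  · left
    rw [ha, hc]
    simp
  · right
    rw [ha, hc, mul_one]

variable {G : Type*} [Group G]

/-- The square roots of `1` in a homocyclic group of rank two. -/
lemma exists_omega {D : Subgroup G} {m : ℕ} (hm : 1 ≤ m)
    (φ : D ≃* Multiplicative (ZMod (2 ^ m) × ZMod (2 ^ m))) :
    ∃ s : Finset G, s.card ≤ 4 ∧ ∀ x ∈ D, x ^ 2 = 1 → x ∈ s := by
  classical
  let h : ZMod (2 ^ m) := ((2 ^ (m - 1) : ℕ) : ZMod (2 ^ m))
  let g : ZMod (2 ^ m) × ZMod (2 ^ m) → G := fun q => ((φ.symm (Multiplicative.ofAdd q) : D) : G)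
  refine ⟨({(0, 0), (h, 0), (0, h), (h, h)} : Finset (ZMod (2 ^ m) × ZMod (2 ^ m))).image g, ?_, ?_⟩
  · exact Finset.card_image_le.trans (Finset.card_le_four)
  · intro x hx hx2
    have h1 : (φ ⟨x, hx⟩) ^ 2 = 1 := by
      rw [← map_pow]
      have : (⟨x, hx⟩ : D) ^ 2 = 1 := Subtype.ext hx2
      rw [this, map_one]
    obtain ⟨q, hq⟩ : ∃ q, Multiplicative.ofAdd q = φ ⟨x, hx⟩ := ⟨Multiplicative.toAdd (φ ⟨x, hx⟩), rfl⟩
    have h2 : 2 • q = 0 := by
      rw [← hq, ← ofAdd_nsmul] at h1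
      exact Multiplicative.ofAdd.injective (by simpa using h1)
    have h3 : 2 * q.1 = 0 := by
      have := congrArg Prod.fst h2
      simpa using this
    have h4 : 2 * q.2 = 0 := by
      have := congrArg Prod.snd h2
      simpa using this
    have hgq : g q = x := by
      show ((φ.symm (Multiplicative.ofAdd q) : D) : G) = x
      rw [hq]
      simp
    rw [Finset.mem_image]
    refine ⟨q, ?_, hgq⟩
    simp only [Finset.mem_insert, Finset.mem_singleton]
    rcases two_torsion hm _ h3 with h5 | h5 <;> rcases two_torsion hm _ h4 with h6 | h6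
    · left; exact Prod.ext h5 h6
    · right; right; left; exact Prod.ext h5 h6
    · right; left; exact Prod.ext h5 h6
    · right; right; right; exact Prod.ext h5 h6

end Coord

section Main

universe u

variable {G : Type u} [Group G] [Fintype G] {M : Ideal AlgInt}

/-- Every defect group carries a maximal pair. -/
theorem exists_maximal_on_defect {p : ℕ} [hp : Fact p.Prime] (hM : IsPModular p M) {B : Set (IrrCharacter G)} (hB : IsPBlock M B)
    {D : Subgroup G} (hD : IsDefectGroup p M B D) :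
    ∃ e : Set (IrrCharacter (Subgroup.centralizer (D : Set G))), IsMaximalBrauerPair p M B D e := by
  classical
  haveI : M.IsPrime := hM.2.1.isPrime
  have hDp : IsPGroup p D := by
    obtain ⟨g, -, S, rfl⟩ := hD
    exact Cfsg.Agent.Lib.Blocks.Defect.isPGroup_sylow_map S
  obtain ⟨b, hb, hdb, hind⟩ := Cfsg.Agent.Lib.Blocks.FirstMain.exists_isInducedBlock_of_isDefectGroup hM hDp hB hD
  obtain ⟨k, hk, S, hS⟩ := hdb
  obtain ⟨hle, -⟩ := (Cfsg.Agent.S0916.exists_sylow_map_iff (p := p)).mp ⟨S, hS.symm⟩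
  have hkc : (k : G) ∈ Subgroup.centralizer (D : Set G) := by
    rw [Subgroup.mem_centralizer_iff]
    intro d hd
    have h1 : (⟨d, Cfsg.Agent.Lib.Blocks.FirstMain.le_normalizer' D hd⟩ : Subgroup.normalizer (D : Set G)) ∈
        D.subgroupOf (Subgroup.normalizer (D : Set G)) := by
      simpa [Subgroup.mem_subgroupOf] using hd
    have h2 := Subgroup.mem_centralizer_singleton_iff.1 (hle h1)
    exact congrArg Subtype.val h2
  haveI : Fintype (Subgroup.centralizer (D : Set G)) := Fintype.ofFinite _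
  obtain ⟨f, hf, hval⟩ := Cfsg.Agent.Lib.Blocks.PiKer.exists_bv_one_of_block hM hDp
    (Cfsg.Agent.Lib.Blocks.FirstMain.le_normalizer' D)
    (Cfsg.Agent.Lib.Blocks.FirstMain.centralizer_le_normalizer' D) hb hkc hk.2.1
  have hpair := Cfsg.Agent.Lib.Blocks.PiKer.isBrauerPairOf_of_block hM hDp
    (Cfsg.Agent.Lib.Blocks.FirstMain.le_normalizer' D)
    (Cfsg.Agent.Lib.Blocks.FirstMain.centralizer_le_normalizer' D) hind hf hval
  exact ⟨f, isMaximal_of_isDefectGroup hM hpair hD⟩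

end Main

/-- Let B be a 2-block of the finite group G (relative to a maximal ideal M of the algebraic integers containing 2) whose defect group D is the direct product of two cyclic groups of the same order 2 ^ m, m ≥ 2. Then either B has 2-regular rank one and exactly 4 ^ m irreducible characters, or B has 2-regular rank three and exactly (4 ^ m + 8) / 3 irreducible characters. -/
theorem result {G : Type*} [Group G] [Finite G] (M : Ideal Cfsg.AlgInt) (hM : Cfsg.IsPModular 2 M) (B : Set (Cfsg.IrrCharacter G)) (hB : Cfsg.IsPBlock M B) (D : Subgroup G) (hD : Cfsg.IsDefectGroup 2 M B D) (m : ℕ) (hm : 2 ≤ m) (hiso : Nonempty (D ≃* Multiplicative (ZMod (2 ^ m) × ZMod (2 ^ m)))) : (Cfsg.blockRank 2 B = 1 ∧ Nat.card B = 4 ^ m) ∨ (Cfsg.blockRank 2 B = 3 ∧ 3 * Nat.card B = 4 ^ m + 8) := by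
  classical
  cases nonempty_fintype G
  haveI : Fact (Nat.Prime 2) := ⟨Nat.prime_two⟩
  haveI : M.IsPrime := hM.2.1.isPrime
  obtain ⟨φ⟩ := hiso
  haveI : NeZero (2 ^ m) := ⟨by positivity⟩
  have hcardD : Nat.card D = 4 ^ m := by
    rw [Nat.card_congr φ.toEquiv]
    rw [Nat.card_congr Multiplicative.toAdd, Nat.card_prod, Nat.card_zmod, ← mul_pow]
    norm_num
  have hab : ∀ x ∈ D, ∀ y ∈ D, x * y = y * x := by
    intro x hx y hy
    have h1 : (⟨x, hx⟩ : D) * ⟨y, hy⟩ = ⟨y, hy⟩ * ⟨x, hx⟩ :=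
      φ.injective (by rw [map_mul, map_mul]; exact mul_comm _ _)
    exact congrArg Subtype.val h1
  have hDp : IsPGroup 2 D := by
    rw [IsPGroup.iff_card, hcardD]
    exact ⟨2 * m, by rw [pow_mul]; norm_num⟩
  have hexp : ∀ x ∈ D, ∃ k : ℕ, x ^ (2 ^ k) = 1 := by
    intro x hx
    obtain ⟨k, hk⟩ := hDp ⟨x, hx⟩
    exact ⟨k, congrArg Subtype.val hk⟩
  have hD1 : D ≠ ⊥ := by
    intro h
    rw [h] at hcardD
    simp only [Subgroup.card_bot] at hcardD
    have : 1 < 4 ^ m := Nat.one_lt_pow (by omega) (by norm_num)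
    omega
  obtain ⟨c, hmax⟩ := exists_maximal_on_defect hM hB hD
  have hc := isInducedBlock_of_brauerPair hM hmax.1
  let T : Subgroup G := Subgroup.normalizer (D : Set G) ⊓ blockStabilizer (Subgroup.centralizer (D : Set G)) c
  have hT : ∀ g : G, g ∈ T ↔ (g ∈ Subgroup.normalizer (D : Set G) ∧ StabilizesBlock (Subgroup.centralizer (D : Set G)) c g) :=
    fun g => Iff.rfl
  have hPP : D ≤ Subgroup.centralizer (D : Set G) := fun u hu =>
    Subgroup.mem_centralizer_iff.mpr fun q hq => hab q hq u hu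
  have hTN : ∀ t ∈ T, ∀ x ∈ D, t * x * t⁻¹ ∈ D := by
    intro t ht x hx
    exact (Subgroup.mem_normalizer_iff.mp ((hT t).mp ht).1 x).mp hx
  have hdec : ∀ t ∈ T, ∃ a b : G, t = a * b ∧ a ∈ Subgroup.centralizer (D : Set G) ∧ b ∈ T ∧ Odd (orderOf b) := by
    intro t ht
    obtain ⟨a, b, hab', -, ha, hb, hap, hbp⟩ := Cfsg.Agent.Lib.Transfer.Basic.exists_pPart_decomp (p := 2) t
    have hz : Subgroup.zpowers t ≤ T := by
      rw [Subgroup.zpowers_le]
      exact ht
    have h1 := mem_sup_of_isMaximal hM hmax ((hT a).mp (hz ha)).1 ((hT a).mp (hz ha)).2 hap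
    rw [sup_eq_right.mpr hPP] at h1
    refine ⟨a, b, hab'.symm, h1, hz hb, ?_⟩
    exact Nat.Coprime.odd_of_right hbp
  obtain ⟨hfree, he3⟩ := action_facts hab hexp (exists_omega (by omega) φ) hTN hdec
  have he3' := he3 hD1
  obtain ⟨m', hm1, he1, hme, hk, hl, heq⟩ :=
    Cfsg.Agent.Lib.Blocks.AbFree.core hM hB hD hD1 hab hc hT rfl hfree
  rw [hcardD] at hme
  have h4 : 1 ≤ 4 ^ m := Nat.one_le_pow _ _ (by norm_num)
  have hodd : ¬ 2 ∣ 4 ^ m - 1 := by
    obtain ⟨r, hr⟩ : ∃ r, m = r + 1 := ⟨m - 1, by omega⟩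
    rw [hr, pow_succ]
    have : 1 ≤ 4 ^ r := Nat.one_le_pow _ _ (by norm_num)
    omega
  have hl' := heq he3'
  generalize (Subgroup.centralizer (D : Set G)).relIndex T = e at *
  have he : e = 1 ∨ e = 3 := by
    have : e ≠ 2 := by
      rintro rfl
      exact hodd ⟨m', by omega⟩
    omega
  rcases he with rfl | rfl
  · left
    refine ⟨hl', ?_⟩
    omega
  · right
    refine ⟨hl', ?_⟩
    omega

end Cfsg.Agent.S4552
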