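import Cfsg.Statements.S0932
import Mathlib
import Cfsg.Agent.Lib.Char.Induced
-- import your own Cfsg.Agent.* helpers here

set_option autoImplicit false
open Cfsg

namespace Cfsg.Agent.S0932

/-- Let H be a subgroup of the finite group G and ξ a character of H. For every g ∈ G, the sum of ξ h / ξ 1 over the elements h ∈ H that are conjugate in G to g equals the central character at g of the character of G induced from ξ (class size times value divided by degree). -/
theorem result {G : Type*} [Group G] [Fintype G] (H : Subgroup G) (ξ : H → ℂ) (hξ : Cfsg.IsCharacter H ξ) (g : G) : Cfsg.inducedCentralChar H ξ g = Cfsg.centralChar (Cfsg.indFun H ξ) g := by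
  classical
  have := Fintype.ofFinite H
  unfold Cfsg.inducedCentralChar Cfsg.centralChar
  rw [Cfsg.Agent.Lib.Char.Induced.indFun_eq_sum_class H ξ g, Cfsg.Agent.Lib.Char.Induced.indFun_one]
  have hs : {h : H | IsConj g (h : G)} = ↑(Finset.univ.filter (fun h : H => IsConj g (h : G))) := by
    ext; simp
  rw [hs, finsum_mem_coe_finset, ← Finset.sum_div]
  set A := ∑ h ∈ Finset.univ.filter (fun h : H => IsConj g (h : G)), ξ h with hA
  have hH : (Nat.card H : ℂ) ≠ 0 := Cfsg.Agent.Lib.Char.Induced.natCard_ne_zero_complex
  have hj : (H.index : ℂ) ≠ 0 := by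
    exact_mod_cast Subgroup.index_ne_zero_of_finite
  have h1 : ((Subgroup.centralizer ({g} : Set G)).index : ℂ) *
      (Nat.card (Subgroup.centralizer ({g} : Set G)) : ℂ) = (Nat.card H : ℂ) * (H.index : ℂ) := by
    have h2 := Subgroup.card_mul_index H
    have h3 := Subgroup.card_mul_index (Subgroup.centralizer ({g} : Set G))
    have h4 : (Subgroup.centralizer ({g} : Set G)).index * Nat.card (Subgroup.centralizer ({g} : Set G))
        = Nat.card H * H.index := by
      rw [mul_comm, h3, h2]
    exact_mod_cast h4
  have h5 : ((Subgroup.centralizer ({g} : Set G)).index : ℂ) * ((Nat.card H : ℂ)⁻¹ *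
      ((Nat.card (Subgroup.centralizer ({g} : Set G)) : ℂ) * A)) = (H.index : ℂ) * A := by
    calc _ = ((Subgroup.centralizer ({g} : Set G)).index *
          (Nat.card (Subgroup.centralizer ({g} : Set G)) : ℂ)) * ((Nat.card H : ℂ)⁻¹ * A) := by ring
      _ = (H.index : ℂ) * A := by rw [h1]; field_simp
  rw [h5, mul_div_mul_left _ _ hj]

end Cfsg.Agent.S0932
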