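import Cfsg.Statements.S4436
import Mathlib
import Cfsg.Agent.Lib.Blocks.FongReynolds
import Cfsg.Agent.Lib.Blocks.FirstMain2
import Cfsg.Agent.S0908

set_option autoImplicit false
open Cfsg

namespace Cfsg.Agent.S4436

/-- Let N be a normal subgroup of the finite group G, b a block of N (relative to a maximal ideal M of the algebraic integers containing p), T the stabilizer of b in G, N ≤ T, and B′ a block of T covering b (some member of B′ has a constituent in b on restriction to N) that induces the block B of G. Then every defect group of B′ is a defect group of B, and for every ψ ∈ B′ the induced character ψ^G is an irreducible character of G lying in B with the same height as ψ. -/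
theorem result {G : Type*} [Group G] [Fintype G] (p : ℕ) [Fact p.Prime] (M : Ideal Cfsg.AlgInt) (hM : Cfsg.IsPModular p M) (N : Subgroup G) [hN : N.Normal] [Fintype N] (b : Set (Cfsg.IrrCharacter N)) (hb : Cfsg.IsPBlock M b) (T : Subgroup G) [Fintype T] (hT : ∀ g : G, g ∈ T ↔ ∀ θ ∈ b, ∀ θ' : Cfsg.IrrCharacter N, (∀ n : N, (θ' : N → ℂ) n = (θ : N → ℂ) ⟨g * n * g⁻¹, hN.conj_mem n n.2 g⟩) → θ' ∈ b) (hNT : N ≤ T) (B' : Set (Cfsg.IrrCharacter T)) (hB' : Cfsg.IsPBlock M B') (hcov : (∃ ψ ∈ B', ∃ θ ∈ b, Cfsg.classInner (fun n : N => (ψ : T → ℂ) ⟨(n : G), hNT n.2⟩) (θ : N → ℂ) ≠ 0)) (B : Set (Cfsg.IrrCharacter G)) (hind : Cfsg.IsInducedBlock M T B' B) : (∀ D : Subgroup T, Cfsg.IsDefectGroup p M B' D → Cfsg.IsDefectGroup p M B (D.map T.subtype)) ∧ ∀ ψ ∈ B', ∃ χ ∈ B, (χ : G → ℂ) = Cfsg.indFun T (ψ : T → ℂ) ∧ Cfsg.blockHeight p B (χ : G → ℂ) = Cfsg.blockHeight p B' (ψ : T → ℂ) := by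
  classical
  have hMp := Cfsg.Agent.Lib.Blocks.Local.isPrime_of_isPModular hM
  have hS := Cfsg.Agent.Lib.Blocks.FongReynolds.isStabilizer_of_forall hT
  obtain ⟨ψ₀, hψ₀, θ, hθ, hc⟩ := hcov
  obtain ⟨B₁, hi₁, -, hirr, hmem⟩ :=
    Cfsg.Agent.Lib.Blocks.FongReynolds.induced_of_covers hNT hb hS hB' hψ₀ hθ hc
  have hBB : B = B₁ := Cfsg.Agent.Lib.Blocks.FirstMain2.induced_unique hind hi₁
  subst hBB
  have hB : Cfsg.IsPBlock M B := hind.2.1
  have hinf := Cfsg.Agent.Lib.Blocks.FongReynolds.sInf_block_eq p hψ₀ hirr hmem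
  constructor
  · intro D hD
    obtain ⟨E, hE, hle⟩ := Cfsg.Agent.Lib.Blocks.Induced.induced_block_defect_group_le hM T B' hB' B hB hind D hD
    have h1 := Cfsg.Agent.S0908.result p M hM B' hB' D hD
    have h2 := Cfsg.Agent.S0908.result p M hM B hB E hE
    have hdef : Cfsg.blockDefect p B = Cfsg.blockDefect p B' := by
      simp only [Cfsg.blockDefect]
      rw [hinf]
      have h3 : Nat.card G = T.index * Nat.card T := (Subgroup.index_mul_card T).symm
      rw [h3, Nat.factorization_mul Subgroup.index_ne_zero_of_finite Nat.card_pos.ne']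
      simp only [Finsupp.coe_add, Pi.add_apply]
      omega
    have hcard : Nat.card (D.map T.subtype) = Nat.card D :=
      Nat.card_congr (D.equivMapOfInjective _ T.subtype_injective).toEquiv.symm
    have h4 : D.map T.subtype = E := by
      apply Subgroup.eq_of_le_of_card_ge hle
      rw [hcard, h1, h2, hdef]
    rw [h4]
    exact hE
  · intro ψ hψ
    refine ⟨⟨_, hirr ψ hψ⟩, (hmem _).2 ⟨ψ, hψ, rfl⟩, rfl, ?_⟩
    simp only [Cfsg.blockHeight]
    rw [hinf, Cfsg.Agent.Lib.Blocks.FongReynolds.factorization_charDegree_indFun p ψ.2]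
    omega

end Cfsg.Agent.S4436
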