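import Cfsg.Statements.S4492
import Mathlib
import Cfsg.Agent.Lib.Blocks.FongMain
import Cfsg.Agent.Lib.Blocks.Principal
import Cfsg.Agent.Lib.Blocks.Osima
import Cfsg.Agent.Lib.Components.PComponent

set_option autoImplicit false
set_option linter.style.haveILetI false

open Cfsg
open Cfsg.Agent.Lib.Blocks.Local Cfsg.Agent.Lib.Blocks.Central Cfsg.Agent.Lib.Blocks.FongMain

namespace Cfsg.Agent.S4492

/-- A defect class of the block over an invariant character has class size prime to `p`. -/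
theorem not_dvd_index_of_defectClass {G : Type*} [Group G] [Fintype G] (p : ℕ) [Fact p.Prime]
    (M : Ideal Cfsg.AlgInt) [M.IsPrime] (hM : Cfsg.IsPModular p M) (N : Subgroup G) [hN : N.Normal]
    [Fintype N] (hNp : ¬ p ∣ Nat.card N) (hsolv : IsPSolvable p (G ⧸ N))
    (hcore : pPrimeCore p (G ⧸ N) = ⊥) (θ : IrrCharacter N)
    (hinv : ∀ (g : G) (n : N), (θ : N → ℂ) (Cfsg.Agent.Lib.Char.DegreeDvd.cn g n) = (θ : N → ℂ) n)
    {χ : IrrCharacter G} (hχ : classInner (fun n : N => (χ : G → ℂ) n) (θ : N → ℂ) ≠ 0)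
    {B : Set (IrrCharacter G)} (hB : IsPBlock M B) (hχB : χ ∈ B) {g : G} (hg : IsDefectClass M B g) :
    ¬ p ∣ (Subgroup.centralizer ({g} : Set G)).index := by
  classical
  have hreg := Cfsg.Agent.Lib.Blocks.HeightZero.isPRegular_of_isDefectClass hM hB hg
  have hχ0 := hg.2.2 χ hχB
  -- the image of `g` lies in `O_p(G/N)`
  have h1 : ((g : G) : G ⧸ N) ∈ pCore p (G ⧸ N) := by
    by_contra hcon
    exact hχ0 (memLocalIdeal_centralChar_of_notMem hM hNp hsolv hcore θ.2 hinv hχ hcon)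
  -- hence `g ∈ N`
  have hgN : g ∈ N := by
    obtain ⟨e, he⟩ := (Cfsg.Agent.Lib.Basic.PCore.pCore_isPGroup p (G := G ⧸ N)) ⟨_, h1⟩
    have he1 : ((g : G) : G ⧸ N) ^ (p ^ e) = 1 := congrArg Subtype.val he
    have h2 : orderOf ((g : G) : G ⧸ N) ∣ p ^ e := orderOf_dvd_of_pow_eq_one he1
    have h3 : orderOf ((g : G) : G ⧸ N) ∣ orderOf g := by
      apply orderOf_dvd_of_pow_eq_one
      rw [← QuotientGroup.mk_pow, pow_orderOf_eq_one]
      rfl
    have hcop : Nat.Coprime (p ^ e) (orderOf g) :=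
      Nat.Coprime.pow_left _ ((Nat.Prime.coprime_iff_not_dvd (Fact.out)).2 hreg)
    have h4 := Nat.eq_one_of_dvd_coprimes hcop h2 h3
    have h5 := orderOf_eq_one_iff.1 h4
    exact (QuotientGroup.eq_one_iff g).1 h5
  intro hdvd
  apply hχ0
  -- the central character is a multiple of the index by a local integer
  have hval := character_mul_of_invariant θ.2 hinv hχ ⟨g, hgN⟩
  have hθ0 : (θ : N → ℂ) 1 ≠ 0 := Cfsg.Agent.Lib.Char.Ortho.irr_apply_one_ne_zero θ.2
  have hχ1 : (χ : G → ℂ) 1 ≠ 0 := Cfsg.Agent.Lib.Char.Ortho.irr_apply_one_ne_zero χ.2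
  obtain ⟨d, hd0, hd⟩ := Cfsg.Agent.Lib.Char.Ortho.irr_degree_pos θ.2
  have hdvdN : d ∣ Nat.card N := by
    have h6 := Cfsg.Agent.Lib.Blocks.HeightZero.charDegree_dvd_card θ.2
    have h7 : Cfsg.charDegree (θ : N → ℂ) = d := by
      unfold Cfsg.charDegree
      rw [hd]
      simp
    rwa [h7] at h6
  have hdp : ¬ p ∣ d := fun h => hNp (h.trans hdvdN)
  have h8 : centralChar (χ : G → ℂ) g =
      ((Subgroup.centralizer ({g} : Set G)).index : ℂ) * ((θ : N → ℂ) ⟨g, hgN⟩ * (d : ℂ)⁻¹) := by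
    unfold centralChar
    have h9 : (χ : G → ℂ) g = (θ : N → ℂ) ⟨g, hgN⟩ * (χ : G → ℂ) 1 / (d : ℂ) := by
      rw [← hval, hd]
      have : (d : ℂ) ≠ 0 := by exact_mod_cast hd0.ne'
      field_simp
    rw [h9]
    have : (d : ℂ) ≠ 0 := by exact_mod_cast hd0.ne'
    field_simp
  rw [h8]
  apply memLocalIdeal_mul_right ((memLocalIdeal_natCast_iff hM).2 hdvd)
  exact memLocalRing_mul (memLocalRing_of_isIntegral (isIntegral_irr θ.2 _))
    (memLocalRing_inv_natCast hM hdp)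

/-- Defect groups of the block over an invariant character are Sylow. -/
theorem sylow_of_defect {G : Type*} [Group G] [Fintype G] (p : ℕ) [Fact p.Prime] {g : G}
    (hidx : ¬ p ∣ (Subgroup.centralizer ({g} : Set G)).index)
    (P : Sylow p (Subgroup.centralizer ({g} : Set G))) :
    ∃ S : Sylow p G, (S : Subgroup G) =
      (P : Subgroup (Subgroup.centralizer ({g} : Set G))).map
        (Subgroup.centralizer ({g} : Set G)).subtype := by
  classical
  have h2 : Nat.card ((P : Subgroup (Subgroup.centralizer ({g} : Set G))).map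
      (Subgroup.centralizer ({g} : Set G)).subtype) = Nat.card P :=
    Nat.card_congr (Subgroup.equivMapOfInjective _ _ Subtype.val_injective).toEquiv.symm
  have hcard : Nat.card ((P : Subgroup (Subgroup.centralizer ({g} : Set G))).map
      (Subgroup.centralizer ({g} : Set G)).subtype) = p ^ (Nat.card G).factorization p := by
    rw [h2, Sylow.card_eq_multiplicity]
    congr 1
    have h3 : Nat.card (Subgroup.centralizer ({g} : Set G)) *
        (Subgroup.centralizer ({g} : Set G)).index = Nat.card G := Subgroup.card_mul_index _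
    rw [← h3, Nat.factorization_mul Nat.card_pos.ne' Subgroup.index_ne_zero_of_finite,
      Finsupp.add_apply, Nat.factorization_eq_zero_of_not_dvd hidx, add_zero]
  exact ⟨Sylow.ofCard _ hcard, rfl⟩

theorem result {G : Type*} [Group G] [Fintype G] (p : ℕ) [Fact p.Prime] (M : Ideal Cfsg.AlgInt) (hM : Cfsg.IsPModular p M) (hsolv : Cfsg.IsPSolvable p G) (N : Subgroup G) [hN : N.Normal] [Fintype N] (hNdef : N = Cfsg.pPrimeCore p G) (θ : Cfsg.IrrCharacter N) (hinv : ∀ (g : G) (n : N), (θ : N → ℂ) ⟨g * n * g⁻¹, hN.conj_mem n n.2 g⟩ = (θ : N → ℂ) n) : ∃ B : Set (Cfsg.IrrCharacter G), Cfsg.IsPBlock M B ∧ (∀ χ : Cfsg.IrrCharacter G, χ ∈ B ↔ Cfsg.classInner (fun n : N => (χ : G → ℂ) n) (θ : N → ℂ) ≠ 0) ∧ (∀ P : Sylow p G, Cfsg.IsDefectGroup p M B (P : Subgroup G)) ∧ ∀ D : Subgroup G, Cfsg.IsDefectGroup p M B D → ∃ P : Sylow p G, D = (P : Subgroup G) := by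
  classical
  haveI : M.IsPrime := hM.2.1.isPrime
  have hNp : ¬ p ∣ Nat.card N := by
    intro h
    have h1 : (Nat.card N).Coprime p := by
      subst hNdef
      exact Cfsg.Agent.Lib.Solvable.PSeries.pPrimeCore_coprime p
    have h2 := Nat.Coprime.eq_one_of_dvd h1.symm h
    exact (Fact.out : p.Prime).one_lt.ne' h2
  have hsolv' : IsPSolvable p (G ⧸ N) := Cfsg.Agent.Lib.Solvable.PSeries.isPSolvable_quotient hsolv N
  have hcore : pPrimeCore p (G ⧸ N) = ⊥ := by
    subst hNdef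
    exact Cfsg.Agent.Lib.Components.PComponent.pPrimeCore_quotient_eq_bot p
  obtain ⟨χ₀, hχ₀⟩ := Cfsg.Agent.Lib.Blocks.Covering.exists_irr_of_constituent θ.2
  have hinv' : ∀ (g : G) (n : N), (θ : N → ℂ) (Cfsg.Agent.Lib.Char.DegreeDvd.cn g n) = (θ : N → ℂ) n :=
    hinv
  set B := blockOf M (χ₀ : G → ℂ) with hBdef
  have hB : IsPBlock M B := ⟨χ₀, rfl⟩
  have hχ₀B : χ₀ ∈ B := Cfsg.Agent.Lib.Blocks.Osima.mem_blockOf_self χ₀
  have hmem : ∀ χ : IrrCharacter G, χ ∈ B ↔ classInner (fun n : N => (χ : G → ℂ) n) (θ : N → ℂ) ≠ 0 := by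
    intro χ
    constructor
    · intro hχ
      obtain ⟨θ', hθ'⟩ := Cfsg.Agent.Lib.Blocks.Covering.exists_constituent (N := N) χ.2
      obtain ⟨g, hg⟩ := Cfsg.Agent.Lib.Blocks.Covering.exists_conj_of_sameBlock hM hNp hχ hχ₀ hθ'
      have h1 : θ' = θ := by
        rw [hg]
        apply Subtype.ext
        funext n
        rw [Cfsg.Agent.Lib.Blocks.Covering.conjIrr_apply]
        exact hinv _ n
      rwa [h1] at hθ'
    · intro hχ
      exact sameBlock_of_invariant hM hNp hsolv' hcore θ.2 hinv' hχ₀ hχ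
  refine ⟨B, hB, hmem, ?_, ?_⟩
  · intro S
    obtain ⟨g, hg⟩ := Cfsg.Agent.Lib.Blocks.Osima.exists_isDefectClass hB
    obtain ⟨P₀⟩ : Nonempty (Sylow p (Subgroup.centralizer ({g} : Set G))) := inferInstance
    have hdef : IsDefectGroup p M B ((P₀ : Subgroup _).map (Subgroup.centralizer ({g} : Set G)).subtype) :=
      ⟨g, hg, P₀, rfl⟩
    obtain ⟨S₀, hS₀⟩ := sylow_of_defect p (not_dvd_index_of_defectClass p M hM N hNp hsolv' hcore θ hinv'
      hχ₀ hB hχ₀B hg) P₀
    obtain ⟨x, hx⟩ := MulAction.exists_smul_eq G S₀ S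
    have h1 := Cfsg.Agent.Lib.Blocks.Principal.isDefectGroup_map_conj hdef x
    rw [← hS₀] at h1
    rw [← hx]
    exact h1
  · rintro D ⟨g, hg, P₀, rfl⟩
    obtain ⟨S₀, hS₀⟩ := sylow_of_defect p (not_dvd_index_of_defectClass p M hM N hNp hsolv' hcore θ hinv'
      hχ₀ hB hχ₀B hg) P₀
    exact ⟨S₀, hS₀.symm⟩

end Cfsg.Agent.S4492
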