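import Mathlib
import Cfsg.Prelude.Def_Blocks
import Cfsg.Agent.Lib.Blocks.Regular
set_option autoImplicit false
namespace Cfsg.Agent.S0936

open Cfsg Cfsg.Agent.Lib.Blocks.Local Cfsg.Agent.Lib.Blocks.Regular Cfsg.Agent.Lib.Blocks.Principal Cfsg.Agent.Lib.Blocks.Osima Cfsg.Agent.Lib.Blocks.Central Cfsg.Agent.Lib.Blocks.SecondMain

theorem result {G : Type*} [Group G] [Finite G] (p : ℕ) [Fact p.Prime] (M : Ideal Cfsg.AlgInt) (hM : Cfsg.IsPModular p M) (H : Subgroup G) (b : Set (Cfsg.IrrCharacter H)) (hdef : Cfsg.InducedBlockDefined M H b) : Cfsg.IsInducedBlock M H b (Cfsg.principalBlock M G) ↔ b = Cfsg.principalBlock M H := by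
  haveI : M.IsPrime := hM.2.1.isPrime
  haveI := Fintype.ofFinite G
  haveI : Fintype H := Fintype.ofFinite H
  constructor
  · intro h
    obtain ⟨⟨ξ₀, rfl⟩, hB, hcong⟩ := h
    have hξ := mem_blockOf_self (M := M) ξ₀
    have ht : trivChar G ∈ principalBlock M G := trivChar_mem_principalBlock
    have h1 := memLocalIdeal_omega_restr_sub (isClassFunction_of_irr (trivChar G).2)
      (regT_mem_localCenter (p := p) (M := M)) (hcong ξ₀ hξ (trivChar G) ht)
    rw [restr_regT] at h1
    have h2 : ξ₀ ∈ principalBlock M H := by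
      apply mem_principalBlock_of_not_memLocalIdeal (p := p) hM
      intro h3
      apply not_memLocalIdeal_omega_regT hM ht
      have := memLocalIdeal_sub h3 h1
      simpa using this
    exact blockOf_eq_of_mem (χ := trivChar H) h2
  · rintro rfl
    obtain ⟨B, hB⟩ := hdef
    have hB' := hB
    obtain ⟨hb, ⟨χ₀, rfl⟩, hcong⟩ := hB
    have ht : trivChar H ∈ principalBlock M H := trivChar_mem_principalBlock
    have h1 := memLocalIdeal_omega_restr_sub (isClassFunction_of_irr χ₀.2)
      (regT_mem_localCenter (p := p) (M := M)) (hcong (trivChar H) ht χ₀ (mem_blockOf_self χ₀))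
    rw [restr_regT] at h1
    have h2 : χ₀ ∈ principalBlock M G := by
      apply mem_principalBlock_of_not_memLocalIdeal (p := p) hM
      intro h3
      apply not_memLocalIdeal_omega_regT hM ht
      have := memLocalIdeal_add h1 h3
      simpa using this
    rw [blockOf_eq_of_mem (χ := trivChar G) h2] at hB'
    exact hB'

end Cfsg.Agent.S0936
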