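import Cfsg.Statements.S4652
import Mathlib
import Cfsg.Agent.S0908
import Cfsg.Agent.Lib.Blocks.Principal
-- import your own Cfsg.Agent.* helpers here

set_option autoImplicit false
open Cfsg

namespace Cfsg.Agent.S4652

open Cfsg.Agent.Lib.Blocks.Osima Cfsg.Agent.Lib.Blocks.Central Cfsg.Agent.Lib.Blocks.Local
open Cfsg.Agent.Lib.Blocks.Principal

/-- Fix a prime p and a maximal ideal M of the algebraic integers containing p. The defect groups of the principal p-block of a finite group G are exactly the Sylow p-subgroups of G: a subgroup D is a defect group of the principal block if and only if D is a Sylow p-subgroup. -/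
theorem result {G : Type*} [Group G] [Fintype G] (p : ℕ) [Fact p.Prime] (M : Ideal Cfsg.AlgInt) (hM : Cfsg.IsPModular p M) (D : Subgroup G) : Cfsg.IsDefectGroup p M (Cfsg.principalBlock M G) D ↔ ∃ S : Sylow p G, (S : Subgroup G) = D := by
  classical
  have hMp := isPrime_of_isPModular hM
  have hB : IsPBlock M (principalBlock M G) := isPBlock_principalBlock M
  have hcardD : ∀ D : Subgroup G, IsDefectGroup p M (principalBlock M G) D →
      Nat.card D = p ^ (Nat.card G).factorization p := by
    intro D hD
    rw [Cfsg.Agent.S0908.result p M hM _ hB D hD]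
    unfold blockDefect
    have h0 : sInf ((fun χ : IrrCharacter G => (charDegree (χ : G → ℂ)).factorization p) ''
        principalBlock M G) = 0 := by
      apply Nat.eq_zero_of_le_zero
      apply Nat.sInf_le
      refine ⟨trivChar G, trivChar_mem_principalBlock, ?_⟩
      show (charDegree ((trivChar G : IrrCharacter G) : G → ℂ)).factorization p = 0
      rw [charDegree_trivChar]
      simp
    rw [h0, Nat.sub_zero]
  constructor
  · intro hD
    exact ⟨Sylow.ofCard D (hcardD D hD), rfl⟩
  · rintro ⟨S, rfl⟩
    obtain ⟨g, hg⟩ := exists_isDefectClass hB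
    obtain ⟨Q⟩ : Nonempty (Sylow p (Subgroup.centralizer ({g} : Set G))) := inferInstance
    have hQ : IsDefectGroup p M (principalBlock M G)
        ((Q : Subgroup (Subgroup.centralizer ({g} : Set G))).map
          (Subgroup.centralizer ({g} : Set G)).subtype) :=
      ⟨g, hg, Q, rfl⟩
    have hQc := hcardD _ hQ
    have hSc : Nat.card (S : Subgroup G) = p ^ (Nat.card G).factorization p := S.card_eq_multiplicity
    obtain ⟨u, -, hu⟩ := Cfsg.Agent.S0916.exists_conj_of_sylow (p := p) (H := ⊤)
      (P := (S : Subgroup G)) (Q := (Q : Subgroup (Subgroup.centralizer ({g} : Set G))).map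
        (Subgroup.centralizer ({g} : Set G)).subtype) le_top le_top
      (by rw [Subgroup.card_top]; exact hSc) (by rw [Subgroup.card_top]; exact hQc)
    rw [hu]
    exact isDefectGroup_map_conj hQ u

end Cfsg.Agent.S4652
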