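import Cfsg.Statements.S0042
import Mathlib
import Cfsg.Agent.Lib.Char.FrobeniusKernel
import Cfsg.Agent.Lib.Frobenius.Basic
import Cfsg.Agent.Lib.Thompson.Main

set_option autoImplicit false
open Cfsg

namespace Cfsg.Agent.S0042

/-- In a finite Frobenius group, the Frobenius kernel is (the carrier of) a normal subgroup which is nilpotent. -/
theorem result {G : Type*} [Group G] [Finite G] (H : Subgroup G) (hH : Cfsg.IsFrobeniusComplement H) :
    ∃ N : Subgroup G, (N : Set G) = Cfsg.frobeniusKernel H ∧ N.Normal ∧ Group.IsNilpotent N := by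
  classical
  obtain ⟨N, hN, hNn, hNc⟩ := Cfsg.Agent.Lib.Char.FrobeniusKernel.frobenius_theorem H hH
  refine ⟨N, hN, hNn, ?_⟩
  -- an element of prime order in `H`
  obtain ⟨⟨x, hxH⟩, hx1⟩ := (Subgroup.ne_bot_iff_exists_ne_one.mp hH.1)
  obtain ⟨q, hq, hqd⟩ := Nat.exists_prime_and_dvd (n := orderOf (⟨x, hxH⟩ : H)) (by
    rw [Ne, orderOf_eq_one_iff]; exact hx1)
  haveI := Fact.mk hq
  obtain ⟨h, hh⟩ := exists_prime_orderOf_dvd_card' q (G := H) (dvd_trans hqd (orderOf_dvd_natCard _))
  have hh1 : (h : G) ≠ 1 := by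
    intro h1
    have : h = 1 := Subtype.ext h1
    rw [this, orderOf_one] at hh
    exact hq.one_lt.ne hh
  let φ : N ≃* N := MulAut.conjNormal (h : G)
  have hφ : ∀ g, φ g = g → g = 1 := by
    intro g hg
    have hg' : (h : G) * (g : G) * (h : G)⁻¹ = g := by
      have := congrArg Subtype.val hg
      simpa [φ, MulAut.conjNormal_apply] using this
    have hcomm : (h : G) * (g : G) = (g : G) * h := by
      calc (h : G) * (g : G) = (h : G) * g * (h : G)⁻¹ * h := by group
        _ = (g : G) * h := by rw [hg']
    have hgk : (g : G) ∈ frobeniusKernel H := by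
      rw [← hN]; exact g.2
    rcases Cfsg.Agent.Lib.Frobenius.Basic.eq_one_of_commute_of_mem_kernel hH hgk h.2 hcomm with h1 | h1
    · exact absurd h1 hh1
    · exact Subtype.ext h1
  have hφq : ∀ g, φ^[q] g = g := by
    intro g
    have hpow : ∀ n (g : N), ((φ^[n] g : N) : G) = (h : G) ^ n * g * ((h : G) ^ n)⁻¹ := by
      intro n
      induction n with
      | zero => intro g; simp
      | succ n ih =>
        intro g
        rw [Function.iterate_succ_apply']
        simp only [φ, MulAut.conjNormal_apply, ih]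
        group
    apply Subtype.ext
    rw [hpow]
    have : (h : G) ^ q = 1 := by
      have := pow_orderOf_eq_one h
      rw [hh] at this
      exact_mod_cast congrArg Subtype.val this
    simp [this]
  exact Cfsg.Agent.Lib.Thompson.Main.thompson_nilpotent hq _ N φ rfl hφ hφq

end Cfsg.Agent.S0042
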