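import Cfsg.Statements.S0739
import Mathlib
import Cfsg.Agent.Lib.Char.FrobeniusKernel
import Cfsg.Agent.Lib.Frobenius.SylowFpf

set_option autoImplicit false

namespace Cfsg.Agent.S0739

/-- Any two endomorphisms of a cyclic group commute. -/
theorem endo_comm {C : Type*} [Group C] [IsCyclic C] (τ₁ τ₂ : C →* C) (y : C) :
    τ₁ (τ₂ y) = τ₂ (τ₁ y) := by
  obtain ⟨x, hx⟩ := IsCyclic.exists_generator (α := C)
  obtain ⟨m, hm⟩ := Subgroup.mem_zpowers_iff.mp (hx (τ₁ x))
  obtain ⟨n, hn⟩ := Subgroup.mem_zpowers_iff.mp (hx (τ₂ x))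
  obtain ⟨k, rfl⟩ := Subgroup.mem_zpowers_iff.mp (hx y)
  simp only [map_zpow, ← hm, ← hn, ← zpow_mul]
  congr 1
  ring

/-- An automorphism of square one of a cyclic `q`-group, `q` odd, is trivial or the inversion. -/
theorem invol_cyclic {Q : Type*} [Group Q] [Finite Q] [IsCyclic Q] {q : ℕ} (hq : q.Prime)
    (hq2 : q ≠ 2) (hQ : IsPGroup q Q) (τ : Q →* Q) (hτ : ∀ x, τ (τ x) = x) :
    (∀ x, τ x = x) ∨ (∀ x, τ x = x⁻¹) := by
  obtain ⟨x, hx⟩ := IsCyclic.exists_generator (α := Q)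
  obtain ⟨r, hr⟩ := Subgroup.mem_zpowers_iff.mp (hx (τ x))
  have h1 : x ^ (r * r - 1) = 1 := by
    have := hτ x
    rw [← hr, map_zpow, ← hr, ← zpow_mul] at this
    rw [zpow_sub, this, zpow_one, mul_inv_cancel]
  obtain ⟨k, hk⟩ := hQ x
  have hord : (orderOf x : ℤ) ∣ r * r - 1 := orderOf_dvd_iff_zpow_eq_one.mpr h1
  have hordx : ∃ j : ℕ, orderOf x = q ^ j := by
    have : orderOf x ∣ q ^ k := orderOf_dvd_of_pow_eq_one hk
    obtain ⟨j, -, hj⟩ := (Nat.dvd_prime_pow hq).mp this
    exact ⟨j, hj⟩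
  obtain ⟨j, hj⟩ := hordx
  have hfac : r * r - 1 = (r - 1) * (r + 1) := by ring
  rw [hfac, hj] at hord
  have hqZ : Prime (q : ℤ) := Nat.prime_iff_prime_int.mp hq
  have hcase : ((q : ℤ) ^ j ∣ r - 1) ∨ ((q : ℤ) ^ j ∣ r + 1) := by
    by_cases hd : (q : ℤ) ∣ r + 1
    · have hnd : ¬ (q : ℤ) ∣ r - 1 := by
        intro hd'
        have h2 : (q : ℤ) ∣ 2 := by
          have := dvd_sub hd hd'
          have h3 : r + 1 - (r - 1) = 2 := by ring
          rwa [h3] at this
        have h3 : q ∣ 2 := by exact_mod_cast h2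
        exact hq2 ((Nat.prime_dvd_prime_iff_eq hq Nat.prime_two).mp h3)
      right
      have hco : IsCoprime ((q : ℤ) ^ j) (r - 1) :=
        IsCoprime.pow_left ((Prime.coprime_iff_not_dvd hqZ).mpr hnd)
      push_cast at hord
      exact hco.dvd_of_dvd_mul_left hord
    · left
      have hco : IsCoprime ((q : ℤ) ^ j) (r + 1) :=
        IsCoprime.pow_left ((Prime.coprime_iff_not_dvd hqZ).mpr hd)
      push_cast at hord
      exact hco.dvd_of_dvd_mul_right hord
  have hx' : ((q : ℤ) ^ j) = (orderOf x : ℤ) := by rw [hj]; push_cast; rfl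
  rcases hcase with h | h
  · left
    intro y
    obtain ⟨m, rfl⟩ := Subgroup.mem_zpowers_iff.mp (hx y)
    rw [map_zpow, ← hr]
    have h2 : x ^ r = x := by
      have : x ^ (r - 1) = 1 := by
        apply orderOf_dvd_iff_zpow_eq_one.mp
        rwa [← hx']
      rw [zpow_sub, zpow_one] at this
      exact mul_inv_eq_one.mp this
    rw [h2]
  · right
    intro y
    obtain ⟨m, rfl⟩ := Subgroup.mem_zpowers_iff.mp (hx y)
    rw [map_zpow, ← hr]
    have h2 : x ^ r = x⁻¹ := by
      have : x ^ (r + 1) = 1 := by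
        apply orderOf_dvd_iff_zpow_eq_one.mp
        rwa [← hx']
      rw [zpow_add, zpow_one] at this
      exact eq_inv_of_mul_eq_one_left this
    rw [h2, inv_zpow]

/-- A subgroup containing all Sylow subgroups is everything. -/
theorem eq_top_of_sylow_le {H : Type*} [Group H] [Finite H] (Y : Subgroup H)
    (hY : ∀ (q : ℕ) [Fact q.Prime] (Q : Sylow q H), (Q : Subgroup H) ≤ Y) : Y = ⊤ := by
  by_contra hne
  have h1 : Y.index ≠ 1 := by
    rw [Ne, Subgroup.index_eq_one]
    exact hne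
  obtain ⟨q, hq, hqd⟩ := Nat.exists_prime_and_dvd h1
  haveI : Fact q.Prime := ⟨hq⟩
  obtain ⟨Q⟩ : Nonempty (Sylow q H) := inferInstance
  exact Q.not_dvd_index (hqd.trans (Subgroup.index_dvd_of_le (hY q Q)))

/-- An element of odd order whose square lies in a subgroup lies in it. -/
theorem mem_of_sq_mem {G : Type*} [Group G] (S : Subgroup G) {b : G} (h : Odd (orderOf b))
    (hs : b ^ 2 ∈ S) : b ∈ S := by
  obtain ⟨k, hk⟩ := h
  have h1 : b = (b ^ 2) ^ (k + 1) := by
    rw [← pow_mul]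
    have h2 : 2 * (k + 1) = orderOf b + 1 := by omega
    rw [h2, pow_succ, pow_orderOf_eq_one, one_mul]
  rw [h1]
  exact S.pow_mem hs _

/-- The abstract group theory: a `Z`-group of odd order with an automorphism inverting
modulo conjugation all "central" Sylow subgroups is cyclic and inverted. -/
theorem abstract_zgroup {H : Type*} [Group H] [Finite H] (hodd : Odd (Nat.card H)) [IsZGroup H]
    (σ : H ≃* H)
    (hσ : ∀ (q : ℕ) [Fact q.Prime] (Q : Sylow q H),
      Subgroup.normalizer (Q : Subgroup H) ≤ Subgroup.centralizer ((Q : Subgroup H) : Set H) →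
        ∃ h : H, ∀ x ∈ (Q : Subgroup H), σ (h * x * h⁻¹) = x⁻¹) :
    IsCyclic H ∧ ∀ x : H, σ x = x⁻¹ := by
  classical
  -- the commutator subgroup
  let C : Subgroup H := commutator H
  haveI hCc : IsCyclic C := IsZGroup.isCyclic_commutator H
  haveI hCn : C.Normal := inferInstanceAs (commutator H).Normal
  haveI hCch : (commutator H).Characteristic := inferInstance
  have hσC : ∀ (τ : H ≃* H), ∀ x ∈ C, τ x ∈ C := fun τ x hx =>
    (Subgroup.characteristic_iff_le_comap.mp hCch τ) hx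
  have hof : ∀ x ∈ C, (Abelianization.of x : Abelianization H) = 1 := by
    intro x hx
    have : x ∈ (Abelianization.of (G := H)).ker := by
      rw [Abelianization.ker_of]
      exact hx
    exact this
  let f : H →* Abelianization H := (Abelianization.of.comp σ.toMonoidHom) * Abelianization.of
  have hfapp : ∀ x, f x = Abelianization.of (σ x) * Abelianization.of x := fun x => rfl
  have hY : f.ker = ⊤ := by
    apply eq_top_of_sylow_le
    intro q _ Q x hx
    rw [MonoidHom.mem_ker, hfapp]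
    rcases Sylow.normalizer_le_centralizer_or_le_commutator Q with h | h
    · obtain ⟨y, hy⟩ := hσ q Q h
      have h1 := hy x hx
      have h2 : (Abelianization.of (σ (y * x * y⁻¹)) : Abelianization H) = Abelianization.of (σ x) := by
        simp only [map_mul, map_inv]
        rw [mul_comm, ← mul_assoc, inv_mul_cancel, one_mul]
      rw [← h2, h1, map_inv, inv_mul_cancel]
    · rw [hof _ (hσC σ x (h hx)), hof _ (h hx), mul_one]
  have hfC : ∀ x, σ x * x ∈ C := by
    intro x
    have h1 : x ∈ f.ker := by rw [hY]; exact Subgroup.mem_top x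
    have h2 : f x = 1 := h1
    rw [hfapp, ← map_mul] at h2
    have h3 : σ x * x ∈ (Abelianization.of (G := H)).ker := h2
    rw [Abelianization.ker_of] at h3
    exact h3
  -- `H` centralises `C`
  have hcent : ∀ b : H, ∀ z ∈ C, b * z * b⁻¹ = z := by
    intro b
    have hcommC : ∀ u ∈ C, ∀ v ∈ C, u * v = v * u := by
      intro u hu v hv
      have := (IsCyclic.commutative (α := C)).is_comm.comm ⟨u, hu⟩ ⟨v, hv⟩
      exact congrArg Subtype.val this
    -- the two endomorphisms of `C`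
    have hkey : ∀ b : H, ∀ z ∈ C, b * z * b⁻¹ = b⁻¹ * z * b := by
      intro b z hz
      let τ₁ : C →* C := ((MulAut.conj b).toMonoidHom.comp C.subtype).codRestrict C (fun x =>
        hCn.conj_mem x.1 x.2 b)
      let τ₂ : C →* C := (σ.toMonoidHom.comp C.subtype).codRestrict C (fun x => hσC σ x.1 x.2)
      have hy : σ.symm z ∈ C := hσC σ.symm z hz
      have h1 := endo_comm τ₂ τ₁ ⟨σ.symm z, hy⟩
      have h2 : σ (b * σ.symm z * b⁻¹) = b * z * b⁻¹ := by
        have := congrArg Subtype.val h1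
        simpa [τ₁, τ₂] using this
      rw [map_mul, map_mul, map_inv, MulEquiv.apply_symm_apply] at h2
      -- `σ b = c * b⁻¹`
      have hc := hfC b
      set c := σ b * b with hcdef
      have hσb : σ b = c * b⁻¹ := by rw [hcdef]; group
      rw [hσb] at h2
      have hbz : b⁻¹ * z * b ∈ C := by
        have := hCn.conj_mem z hz b⁻¹
        simpa using this
      have h3 : c * b⁻¹ * z * (c * b⁻¹)⁻¹ = c * (b⁻¹ * z * b) * c⁻¹ := by group
      rw [h3, hcommC c hc _ hbz, mul_assoc, mul_inv_cancel, mul_one] at h2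
      exact h2.symm
    intro z hz
    have hbodd : Odd (orderOf b) := Odd.of_dvd_nat hodd (orderOf_dvd_natCard b)
    have hsq : b ^ 2 ∈ Subgroup.centralizer (C : Set H) := by
      rw [Subgroup.mem_centralizer_iff]
      intro w hw
      have := hkey b w hw
      have h2 : b * b * w = w * (b * b) := by
        have h3 : b * (b * w * b⁻¹) * b = b * (b⁻¹ * w * b) * b := by rw [this]
        simp only [mul_assoc, inv_mul_cancel, mul_one, mul_inv_cancel_left] at h3
        simpa [mul_assoc] using h3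
      rw [pow_two]
      exact h2.symm
    have hb := mem_of_sq_mem _ hbodd hsq
    rw [Subgroup.mem_centralizer_iff] at hb
    have := hb z hz
    rw [mul_inv_eq_iff_eq_mul]
    exact this.symm
  -- `H` is nilpotent
  have hCZ : commutator H ≤ Subgroup.center H := by
    intro z hz
    rw [Subgroup.mem_center_iff]
    intro b
    have := hcent b z hz
    rw [mul_inv_eq_iff_eq_mul] at this
    exact this
  haveI hnil : Group.IsNilpotent H := by
    apply Group.of_quotient_center_nilpotent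
    have hc : IsMulCommutative (H ⧸ Subgroup.center H) :=
      Subgroup.Normal.quotient_commutative_iff_commutator_le.mpr hCZ
    letI : CommGroup (H ⧸ Subgroup.center H) :=
      { (inferInstance : Group (H ⧸ Subgroup.center H)) with mul_comm := hc.is_comm.comm }
    infer_instance
  haveI hcyc : IsCyclic H := inferInstance
  refine ⟨hcyc, ?_⟩
  have hcomm : ∀ x y : H, x * y = y * x := IsCyclic.commutative.is_comm.comm
  let Y : Subgroup H :=
    { carrier := {x | σ x = x⁻¹}
      mul_mem' := by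
        intro x y hx hy
        simp only [Set.mem_setOf_eq] at hx hy ⊢
        rw [map_mul, hx, hy, mul_inv_rev, hcomm]
      one_mem' := by simp
      inv_mem' := by
        intro x hx
        simp only [Set.mem_setOf_eq] at hx ⊢
        rw [map_inv, hx] }
  have hYt : Y = ⊤ := by
    apply eq_top_of_sylow_le
    intro q _ Q x hx
    obtain ⟨y, hy⟩ := hσ q Q (by
      intro g _
      rw [Subgroup.mem_centralizer_iff]
      intro w _
      exact hcomm _ _)
    have h1 := hy x hx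
    have h2 : y * x * y⁻¹ = x := by rw [hcomm y x, mul_assoc, mul_inv_cancel, mul_one]
    rw [h2] at h1
    exact h1
  intro x
  have : x ∈ Y := by rw [hYt]; exact Subgroup.mem_top x
  exact this


open MulAction

section concrete

variable {G Ω : Type*} [Group G] [Finite G] [MulAction G Ω]

/-- Normalizing a nontrivial subgroup of `H` permutes the two fixed points. -/
theorem mem_or_swap {H : Subgroup G} {a b : Ω} (hHmem : ∀ x, x ∈ H ↔ x • a = a ∧ x • b = b)
    (hab : a ≠ b) (hfix : ∀ x ∈ H, x ≠ 1 → ∀ c, x • c = c → c = a ∨ c = b) {x g : G} (hx : x ∈ H)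
    (hx1 : x ≠ 1) (hy : g * x * g⁻¹ ∈ H) : g ∈ H ∨ (g • a = b ∧ g • b = a) := by
  have hy1 : g * x * g⁻¹ ≠ 1 := by
    intro h
    apply hx1
    have : g⁻¹ * (g * x * g⁻¹) * g = g⁻¹ * 1 * g := by rw [h]
    simpa [mul_assoc] using this
  have hxa := ((hHmem x).mp hx).1
  have hxb := ((hHmem x).mp hx).2
  have h1 : (g * x * g⁻¹) • (g • a) = g • a := by
    simp [mul_smul, hxa]
  have h2 : (g * x * g⁻¹) • (g • b) = g • b := by
    simp [mul_smul, hxb]
  have h3 := hfix _ hy hy1 _ h1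
  have h4 := hfix _ hy hy1 _ h2
  have hne : g • a ≠ g • b := fun h => hab (MulAction.injective g h)
  rcases h3 with h3 | h3 <;> rcases h4 with h4 | h4
  · exact absurd (h3.trans h4.symm) hne
  · exact Or.inl ((hHmem g).mpr ⟨h3, h4⟩)
  · exact Or.inr ⟨h3, h4⟩
  · exact absurd (h3.trans h4.symm) hne

/-- The `Z`-group property of the two point stabiliser. -/
theorem zgroup_of_zass (hZ : Cfsg.IsZassenhausGroup G Ω) {a b : Ω} (hab : a ≠ b)
    (hodd : Odd (Nat.card ↥(stabilizer G a ⊓ stabilizer G b))) :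
    IsZGroup ↥(stabilizer G a ⊓ stabilizer G b) := by
  classical
  obtain ⟨hfaith, h2t, h3, ⟨g₀, hg₀, a₀, b₀, hab₀, hga₀, hgb₀⟩, -⟩ := hZ
  have h2t' : ∀ {x y x' y' : Ω}, x ≠ y → x' ≠ y' → ∃ g : G, g • x = x' ∧ g • y = y' :=
    fun h1 h2 => is_two_pretransitive_iff.mp h2t h1 h2
  set H : Subgroup G := stabilizer G a ⊓ stabilizer G b with hHdef
  have hHmem : ∀ x, x ∈ H ↔ x • a = a ∧ x • b = b := fun x => by
    rw [hHdef, Subgroup.mem_inf, mem_stabilizer_iff, mem_stabilizer_iff]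
  -- `H ≠ 1`
  have hHne : ∃ x ∈ H, x ≠ 1 := by
    obtain ⟨u, hu1, hu2⟩ := h2t' hab₀ hab
    refine ⟨u * g₀ * u⁻¹, (hHmem _).mpr ⟨?_, ?_⟩, ?_⟩
    · rw [← hu1]; simp [mul_smul, hga₀]
    · rw [← hu2]; simp [mul_smul, hgb₀]
    · intro h
      apply hg₀
      have : u⁻¹ * (u * g₀ * u⁻¹) * u = u⁻¹ * 1 * u := by rw [h]
      simpa [mul_assoc] using this
  obtain ⟨x₀, hx₀, hx₀1⟩ := hHne
  -- a third point
  have hthird : ∃ c, c ≠ a ∧ c ≠ b := by
    by_contra hno
    push Not at hno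
    apply hx₀1
    apply hfaith.eq_of_smul_eq_smul
    intro z
    rw [one_smul]
    by_cases hz : z = a
    · rw [hz]; exact ((hHmem _).mp hx₀).1
    · rw [hno z hz]; exact ((hHmem _).mp hx₀).2
  obtain ⟨c, hca, hcb⟩ := hthird
  let A : Subgroup G := stabilizer G a
  have hAH : H ≤ A := inf_le_left
  let H' : Subgroup A := H.subgroupOf A
  have hH'mem : ∀ x : A, x ∈ H' ↔ (x : G) • b = b := by
    intro x
    rw [Subgroup.mem_subgroupOf, hHmem]
    exact ⟨fun h => h.2, fun h => ⟨x.2, h⟩⟩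
  have hfrob : Cfsg.IsFrobeniusComplement H' := by
    refine ⟨?_, ?_, ?_⟩
    · intro hbot
      have : (⟨x₀, hAH hx₀⟩ : A) ∈ H' := (hH'mem _).mpr ((hHmem _).mp hx₀).2
      rw [hbot, Subgroup.mem_bot] at this
      exact hx₀1 (congrArg Subtype.val this)
    · intro htop
      obtain ⟨u, hu1, hu2⟩ := h2t' (x := a) (y := b) (x' := a) (y' := c) hab hca.symm
      have : (⟨u, hu1⟩ : A) ∈ H' := by rw [htop]; exact Subgroup.mem_top _
      rw [hH'mem] at this
      exact hcb (hu2.symm.trans this)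
    · intro g hg
      rw [eq_bot_iff]
      intro x hx
      obtain ⟨hx1, hx2⟩ := Subgroup.mem_inf.mp hx
      rw [Subgroup.mem_pointwise_smul_iff_inv_smul_mem, MulAut.smul_def, MulAut.conj_inv_apply] at hx2
      rw [Subgroup.mem_bot]
      apply Subtype.ext
      have h4 := (hH'mem _).mp hx1
      have h5 := (hH'mem _).mp hx2
      have h6 : (x : G) • ((g : G) • b) = (g : G) • b := by
        have h7 : ((g⁻¹ * x * g : A) : G) = (g : G)⁻¹ * x * g := rfl
        rw [h7, mul_smul, mul_smul, inv_smul_eq_iff] at h5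
        exact h5
      have hgb : (g : G) • b ≠ b := fun h => hg ((hH'mem _).mpr h)
      have hga : (g : G) • b ≠ a := by
        intro h
        apply hab
        have h7 : (g : G) • a = a := g.2
        exact (MulAction.injective (g : G) (h7.trans h.symm))
      exact h3 (x : G) a b ((g : G) • b) hab (Ne.symm hgb) (Ne.symm hga) x.2 h4 h6
  obtain ⟨N, -, hNn, hNc⟩ := Cfsg.Agent.Lib.Char.FrobeniusKernel.frobenius_theorem H' hfrob
  let K : Subgroup G := N.map A.subtype
  have hKne : K ≠ ⊥ := by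
    intro hK
    have hN : N = ⊥ := by
      rw [eq_bot_iff]
      intro x hx
      have : (x : G) ∈ K := ⟨x, hx, rfl⟩
      rw [hK, Subgroup.mem_bot] at this
      rw [Subgroup.mem_bot]
      exact Subtype.ext this
    rw [hN, Subgroup.isComplement'_bot_left] at hNc
    exact hfrob.2.1 hNc
  have hconjK : ∀ x ∈ A, ∀ y ∈ K, x * y * x⁻¹ ∈ K := by
    rintro x hx _ ⟨y, hy, rfl⟩
    exact ⟨⟨x, hx⟩ * y * ⟨x, hx⟩⁻¹, hNn.conj_mem y hy _, rfl⟩
  have hKH : ∀ v ∈ K, v • b = b → v = 1 := by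
    rintro _ ⟨v, hv, rfl⟩ hvb
    have hvH' : v ∈ H' := (hH'mem v).mpr hvb
    have := Subgroup.disjoint_def.mp hNc.disjoint hv hvH'
    exact congrArg Subtype.val this
  refine ⟨fun p hp P => ?_⟩
  haveI : Fact p.Prime := ⟨hp⟩
  let P' : Subgroup G := (P : Subgroup H).map H.subtype
  have hP'H : P' ≤ H := by
    rintro _ ⟨x, -, rfl⟩
    exact x.2
  have hpg : IsPGroup p P' := P.isPGroup'.map H.subtype
  have hnorm : P' ≤ Subgroup.normalizer (K : Set G) := by
    intro x hx
    rw [Subgroup.mem_normalizer_iff]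
    have hxA := hAH (hP'H hx)
    intro y
    constructor
    · exact hconjK x hxA y
    · intro hy
      have := hconjK x⁻¹ (A.inv_mem hxA) _ hy
      simpa [mul_assoc] using this
  have hfpf : ∀ x ∈ P', x ≠ 1 → ∀ v ∈ K, x * v = v * x → v = 1 := by
    intro x hx hx1 v hv hcomm
    apply hKH v hv
    have hxH := hP'H hx
    have hxb := ((hHmem x).mp hxH).2
    have hxa := ((hHmem x).mp hxH).1
    have hfx : x • (v • b) = v • b := by
      rw [← mul_smul, hcomm, mul_smul, hxb]
    by_contra hvb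
    have hva : v • b ≠ a := by
      obtain ⟨w, hw, rfl⟩ := hv
      intro h
      apply hab
      have h7 : (w : G) • a = a := w.2
      exact MulAction.injective (w : G) (h7.trans h.symm)
    exact hx1 (h3 x a b (v • b) hab (Ne.symm hvb) (Ne.symm hva) hxa hxb hfx)
  have hcyc : IsCyclic P' := by
    rcases Cfsg.Agent.Lib.Frobenius.SylowFpf.isCyclic_or_quaternion_of_fpf hKne hnorm hfpf hpg with
      h | ⟨h2, -⟩
    · exact h
    · -- `P'` is trivial
      haveI hsub : Subsingleton P' := by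
        have hcd : Nat.card P' ∣ Nat.card H := Subgroup.card_dvd_of_le hP'H
        have hoddP : Odd (Nat.card P') := Odd.of_dvd_nat hodd hcd
        rcases hpg.card_eq_or_dvd with h1 | h1
        · exact (Nat.card_eq_one_iff_unique.mp h1).1
        · rw [h2] at h1
          exact absurd (even_iff_two_dvd.mpr h1) (Nat.not_even_iff_odd.mpr hoddP)
      exact isCyclic_of_subsingleton
  exact isCyclic_of_surjective (Subgroup.equivMapOfInjective (P : Subgroup H) H.subtype
    H.subtype_injective).symm.toMonoidHom (MulEquiv.surjective _)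

/-- Conjugation by an element normalizing `H`, as an automorphism of `H`. -/
def swapEquiv (H : Subgroup G) (s : G) (hs : ∀ x ∈ H, s * x * s⁻¹ ∈ H)
    (hs' : ∀ x ∈ H, s⁻¹ * x * s ∈ H) : H ≃* H where
  toFun x := ⟨s * x * s⁻¹, hs x x.2⟩
  invFun x := ⟨s⁻¹ * x * s, hs' x x.2⟩
  left_inv x := by ext; simp [mul_assoc]
  right_inv x := by ext; simp [mul_assoc]
  map_mul' x y := by ext; simp [mul_assoc]

/-- A nontrivial Sylow subgroup of `H` is Sylow in `G`. -/
theorem sylow_lift {H : Subgroup G} {a b : Ω} (hHmem : ∀ x, x ∈ H ↔ x • a = a ∧ x • b = b)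
    (hab : a ≠ b) (hfix : ∀ x ∈ H, x ≠ 1 → ∀ c, x • c = c → c = a ∨ c = b) {q : ℕ}
    [hq : Fact q.Prime] (hq2 : q ≠ 2) (Q : Sylow q H) (hQ : (Q : Subgroup H) ≠ ⊥) :
    ∃ R : Sylow q G, (R : Subgroup G) = (Q : Subgroup H).map H.subtype := by
  classical
  set Q' : Subgroup G := (Q : Subgroup H).map H.subtype with hQ'
  have hpg : IsPGroup q Q' := Q.isPGroup'.map H.subtype
  obtain ⟨R, hR⟩ := hpg.exists_le_sylow
  have hQ'H : Q' ≤ H := by
    rintro _ ⟨x, -, rfl⟩
    exact x.2
  obtain ⟨x₀, hx₀Q, hx₀1⟩ : ∃ x ∈ Q', x ≠ 1 := by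
    obtain ⟨x, hx, hx1⟩ := (Subgroup.bot_or_exists_ne_one (Q : Subgroup H)).resolve_left hQ
    exact ⟨x, ⟨x, hx, rfl⟩, fun h => hx1 (Subtype.ext h)⟩
  have hRodd : ∀ y ∈ R, Odd (orderOf y) := by
    intro y hy
    obtain ⟨k, hk⟩ := R.isPGroup' ⟨y, hy⟩
    have h1 : y ^ q ^ k = 1 := congrArg Subtype.val hk
    have h2 : orderOf y ∣ q ^ k := orderOf_dvd_of_pow_eq_one h1
    refine Odd.of_dvd_nat ?_ h2
    exact Odd.pow (hq.out.odd_of_ne_two hq2)
  have hsq : ∀ y ∈ R, (y ∈ H ∨ (y • a = b ∧ y • b = a)) → y ∈ H := by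
    rintro y hy (h | ⟨h1, h2⟩)
    · exact h
    · apply mem_of_sq_mem H (hRodd y hy)
      refine (hHmem _).mpr ⟨?_, ?_⟩
      · rw [pow_two, mul_smul, h1, h2]
      · rw [pow_two, mul_smul, h2, h1]
  haveI hnt : Nontrivial R := ⟨⟨⟨x₀, hR hx₀Q⟩, 1, fun h => hx₀1 (congrArg Subtype.val h)⟩⟩
  haveI := R.isPGroup'.center_nontrivial
  obtain ⟨z, hz⟩ := exists_ne (1 : Subgroup.center R)
  set z' : G := ((z : R) : G) with hz'
  have hz'1 : z' ≠ 1 := fun h => hz (Subtype.ext (Subtype.ext h))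
  have hz'R : z' ∈ R := (z : R).2
  have hzcomm : ∀ y ∈ R, y * z' = z' * y := by
    intro y hy
    have := Subgroup.mem_center_iff.mp z.2 ⟨y, hy⟩
    exact congrArg Subtype.val this
  have hzH : z' ∈ H := by
    apply hsq z' hz'R
    apply mem_or_swap hHmem hab hfix (hQ'H hx₀Q) hx₀1
    rw [← hzcomm x₀ (hR hx₀Q), mul_inv_cancel_right]
    exact hQ'H hx₀Q
  have hRH : ∀ y ∈ R, y ∈ H := by
    intro y hy
    apply hsq y hy
    apply mem_or_swap hHmem hab hfix hzH hz'1
    rw [hzcomm y hy, mul_inv_cancel_right]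
    exact hzH
  refine ⟨R, le_antisymm ?_ hR⟩
  have hpgR : IsPGroup q ((R : Subgroup G).subgroupOf H) := by
    intro g
    obtain ⟨k, hk⟩ := R.isPGroup' ⟨g.1.1, g.2⟩
    refine ⟨k, ?_⟩
    apply Subtype.ext
    apply Subtype.ext
    have := congrArg Subtype.val hk
    simpa using this
  have hle : (Q : Subgroup H) ≤ (R : Subgroup G).subgroupOf H := by
    intro x hx
    rw [Subgroup.mem_subgroupOf]
    exact hR ⟨x, hx, rfl⟩
  have heq := Q.is_maximal' hpgR hle
  intro y hy
  have hyQ : (⟨y, hRH y hy⟩ : H) ∈ (Q : Subgroup H) := by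
    rw [← heq, Subgroup.mem_subgroupOf]
    exact hy
  exact ⟨⟨y, hRH y hy⟩, hyQ, rfl⟩

/-- Burnside's transfer and the hypothesis give a swap inverting a Sylow subgroup. -/
theorem exists_swap_inverting {H : Subgroup G} {a b : Ω}
    (hHmem : ∀ x, x ∈ H ↔ x • a = a ∧ x • b = b)
    (hab : a ≠ b) (hfix : ∀ x ∈ H, x ≠ 1 → ∀ c, x • c = c → c = a ∨ c = b)
    (hodd : Odd (Nat.card H)) [IsZGroup H]
    (hnil : ∀ q : ℕ, q.Prime → q ∣ Nat.card H →
      ¬ ∃ N : Subgroup G, N.Normal ∧ N.index = q ^ (Nat.card G).factorization q)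
    {q : ℕ} [hq : Fact q.Prime] (Q : Sylow q H)
    (hNC : Subgroup.normalizer (Q : Subgroup H) ≤ Subgroup.centralizer ((Q : Subgroup H) : Set H))
    (hQ : (Q : Subgroup H) ≠ ⊥) :
    ∃ g : G, g • a = b ∧ g • b = a ∧ ∀ x ∈ (Q : Subgroup H), g * (x : G) * g⁻¹ = (x : G)⁻¹ := by
  classical
  have hqdvd : q ∣ Nat.card H := by
    rcases Q.isPGroup'.card_eq_or_dvd with h | h
    · exfalso
      apply hQ
      exact Subgroup.eq_bot_of_card_eq _ h
    · exact h.trans (Subgroup.card_subgroup_dvd_card _)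
  have hq2 : q ≠ 2 := by
    rintro rfl
    exact (Nat.not_even_iff_odd.mpr hodd) (even_iff_two_dvd.mpr hqdvd)
  obtain ⟨R, hR⟩ := sylow_lift hHmem hab hfix hq2 Q hQ
  have hRmem : ∀ y : G, y ∈ R ↔ y ∈ (Q : Subgroup H).map H.subtype := fun y => by
    rw [← hR]
    rfl
  have hnot : ¬ (Subgroup.normalizer (R : Subgroup G) ≤
      Subgroup.centralizer ((R : Subgroup G) : Set G)) := by
    intro hle
    have hc := MonoidHom.ker_transferSylow_isComplement' R hle
    refine hnil q hq.out hqdvd ⟨(MonoidHom.transferSylow R hle).ker, inferInstance, ?_⟩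
    rw [hc.symm.index_eq_card]
    exact R.card_eq_multiplicity
  obtain ⟨g, hgN, hgC⟩ := SetLike.not_le_iff_exists.mp hnot
  have hgconj : ∀ y ∈ R, g * y * g⁻¹ ∈ R := fun y hy =>
    (Subgroup.mem_normalizer_iff.mp hgN y).mp hy
  have hRH : ∀ y ∈ R, y ∈ H := by
    intro y hy
    obtain ⟨x, -, rfl⟩ := (hRmem y).mp hy
    exact x.2
  obtain ⟨x₀, hx₀, hx₀1⟩ := (Subgroup.bot_or_exists_ne_one (Q : Subgroup H)).resolve_left hQ
  have hx₀R : (x₀ : G) ∈ R := (hRmem _).mpr ⟨x₀, hx₀, rfl⟩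
  have hx₀1' : (x₀ : G) ≠ 1 := fun h => hx₀1 (Subtype.ext h)
  -- elements of `H` normalizing `R` centralise it
  have hHC : ∀ u ∈ H, u ∈ Subgroup.normalizer (R : Subgroup G) →
      u ∈ Subgroup.centralizer ((R : Subgroup G) : Set G) := by
    intro u huH huN
    have hN : (⟨u, huH⟩ : H) ∈ Subgroup.normalizer (Q : Subgroup H) := by
      rw [Subgroup.mem_normalizer_iff]
      intro y
      have h1 := Subgroup.mem_normalizer_iff.mp huN y.1
      have h2 : ∀ w : H, w ∈ (Q : Subgroup H) ↔ (w : G) ∈ R := by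
        intro w
        rw [hRmem]
        constructor
        · intro hw
          exact ⟨w, hw, rfl⟩
        · rintro ⟨w', hw', he⟩
          have : w' = w := Subtype.ext he
          rwa [← this]
      rw [h2, h2]
      exact h1
    have hC := hNC hN
    rw [Subgroup.mem_centralizer_iff] at hC ⊢
    intro y hy
    have hyH := hRH y hy
    have hyQ : (⟨y, hyH⟩ : H) ∈ (Q : Subgroup H) := by
      obtain ⟨w', hw', he⟩ := (hRmem y).mp hy
      have : w' = ⟨y, hyH⟩ := Subtype.ext he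
      rwa [← this]
    have := hC ⟨y, hyH⟩ hyQ
    exact congrArg Subtype.val this
  rcases mem_or_swap hHmem hab hfix (hRH _ hx₀R) hx₀1' (hRH _ (hgconj _ hx₀R)) with hgH | ⟨hg1, hg2⟩
  · exact absurd (hHC g hgH hgN) hgC
  -- now `g` swaps
  refine ⟨g, hg1, hg2, ?_⟩
  have hg2H : g * g ∈ H := by
    refine (hHmem _).mpr ⟨?_, ?_⟩
    · rw [mul_smul, hg1, hg2]
    · rw [mul_smul, hg2, hg1]
  have hg2C := hHC (g * g) hg2H (Subgroup.mul_mem _ hgN hgN)
  rw [Subgroup.mem_centralizer_iff] at hg2C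
  -- `R` cyclic
  haveI hRc : IsCyclic R := by
    have h1 : IsCyclic (Q : Subgroup H) := inferInstance
    have h2 : (R : Subgroup G) = (Q : Subgroup H).map H.subtype := hR
    have : IsCyclic ((Q : Subgroup H).map H.subtype) :=
      isCyclic_of_surjective (Subgroup.equivMapOfInjective (Q : Subgroup H) H.subtype
        H.subtype_injective).toMonoidHom (MulEquiv.surjective _)
    rw [← h2] at this
    exact this
  let τ : R →* R := ((MulAut.conj g).toMonoidHom.comp (R : Subgroup G).subtype).codRestrict R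
    (fun y => hgconj y.1 y.2)
  have hτ : ∀ y : R, ((τ y : R) : G) = g * y * g⁻¹ := fun y => rfl
  have hττ : ∀ y, τ (τ y) = y := by
    intro y
    apply Subtype.ext
    rw [hτ, hτ]
    have h1 := hg2C y y.2
    have h2 : g * (g * (y : G) * g⁻¹) * g⁻¹ = (g * g) * y * (g * g)⁻¹ := by group
    rw [h2, ← h1, mul_assoc, mul_inv_cancel, mul_one]
  rcases invol_cyclic hq.out hq2 R.isPGroup' τ hττ with h | h
  · exfalso
    apply hgC
    rw [Subgroup.mem_centralizer_iff]
    intro y hy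
    have h1 := congrArg Subtype.val (h ⟨y, hy⟩)
    rw [hτ] at h1
    have h2 : g * y * g⁻¹ = y := h1
    rw [mul_inv_eq_iff_eq_mul] at h2
    exact h2.symm
  · intro x hx
    have hxR : (x : G) ∈ R := (hRmem _).mpr ⟨x, hx, rfl⟩
    have h1 := congrArg Subtype.val (h ⟨x, hxR⟩)
    rw [hτ] at h1
    exact h1

end concrete

/-- In a finite Zassenhaus group whose two-point stabiliser `H = G_{a,b}` has odd order `d`, and which has no normal `q`-complement for any prime `q ∣ d`, `H` is cyclic, `C_G(H) = H`, and every element swapping `a` and `b` inverts each element of `H`. -/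
theorem result {G Ω : Type*} [Group G] [Finite G] [MulAction G Ω] [Fintype Ω] (hZ : Cfsg.IsZassenhausGroup G Ω) {a b : Ω} (hab : a ≠ b) (hodd : Odd (Nat.card ↥(MulAction.stabilizer G a ⊓ MulAction.stabilizer G b))) (hnil : ∀ q : ℕ, q.Prime → q ∣ Nat.card ↥(MulAction.stabilizer G a ⊓ MulAction.stabilizer G b) → ¬ ∃ N : Subgroup G, N.Normal ∧ N.index = q ^ (Nat.card G).factorization q) : IsCyclic ↥(MulAction.stabilizer G a ⊓ MulAction.stabilizer G b) ∧ Subgroup.centralizer ((MulAction.stabilizer G a ⊓ MulAction.stabilizer G b : Subgroup G) : Set G) = MulAction.stabilizer G a ⊓ MulAction.stabilizer G b ∧ ∀ s : G, s • a = b → s • b = a → ∀ h ∈ MulAction.stabilizer G a ⊓ MulAction.stabilizer G b, s * h * s⁻¹ = h⁻¹ := by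
  classical
  haveI hzg := zgroup_of_zass hZ hab hodd
  obtain ⟨hfaith, h2t, h3, ⟨g₀, hg₀, a₀, b₀, hab₀, hga₀, hgb₀⟩, -⟩ := hZ
  have h2t' : ∀ {x y x' y' : Ω}, x ≠ y → x' ≠ y' → ∃ g : G, g • x = x' ∧ g • y = y' :=
    fun h1 h2 => is_two_pretransitive_iff.mp h2t h1 h2
  set H : Subgroup G := stabilizer G a ⊓ stabilizer G b with hHdef
  have hHmem : ∀ x, x ∈ H ↔ x • a = a ∧ x • b = b := fun x => by
    rw [hHdef, Subgroup.mem_inf, mem_stabilizer_iff, mem_stabilizer_iff]
  have hfix : ∀ x ∈ H, x ≠ 1 → ∀ c, x • c = c → c = a ∨ c = b := by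
    intro x hx hx1 c hc
    by_contra hno
    push Not at hno
    exact hx1 (h3 x a b c hab (Ne.symm hno.2) (Ne.symm hno.1) ((hHmem x).mp hx).1
      ((hHmem x).mp hx).2 hc)
  obtain ⟨x₀, hx₀, hx₀1⟩ : ∃ x ∈ H, x ≠ 1 := by
    obtain ⟨u, hu1, hu2⟩ := h2t' hab₀ hab
    refine ⟨u * g₀ * u⁻¹, (hHmem _).mpr ⟨?_, ?_⟩, ?_⟩
    · rw [← hu1]; simp [mul_smul, hga₀]
    · rw [← hu2]; simp [mul_smul, hgb₀]
    · intro h
      apply hg₀
      have : u⁻¹ * (u * g₀ * u⁻¹) * u = u⁻¹ * 1 * u := by rw [h]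
      simpa [mul_assoc] using this
  -- all swaps
  have hmain : ∀ s : G, s • a = b → s • b = a →
      IsCyclic H ∧ ∀ x ∈ H, s * x * s⁻¹ = x⁻¹ := by
    intro s hs1 hs2
    have hs1' : s⁻¹ • b = a := by rw [inv_smul_eq_iff, hs1]
    have hs2' : s⁻¹ • a = b := by rw [inv_smul_eq_iff, hs2]
    have hc : ∀ x ∈ H, s * x * s⁻¹ ∈ H := by
      intro x hx
      obtain ⟨h1, h2⟩ := (hHmem x).mp hx
      refine (hHmem _).mpr ⟨?_, ?_⟩
      · simp only [mul_smul]
        rw [hs2', h2, hs2]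
      · simp only [mul_smul]
        rw [hs1', h1, hs1]
    have hc' : ∀ x ∈ H, s⁻¹ * x * s ∈ H := by
      intro x hx
      obtain ⟨h1, h2⟩ := (hHmem x).mp hx
      refine (hHmem _).mpr ⟨?_, ?_⟩
      · simp only [mul_smul]
        rw [hs1, h2, hs1']
      · simp only [mul_smul]
        rw [hs2, h1, hs2']
    let σ : H ≃* H := swapEquiv H s hc hc'
    have hσ : ∀ x : H, ((σ x : H) : G) = s * x * s⁻¹ := fun x => rfl
    obtain ⟨h1, h2⟩ := abstract_zgroup hodd σ (by
      intro q _ Q hNC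
      by_cases hQ : (Q : Subgroup H) = ⊥
      · refine ⟨1, ?_⟩
        intro x hx
        rw [hQ, Subgroup.mem_bot] at hx
        rw [hx]
        simp
      obtain ⟨g, hg1, hg2, hg3⟩ := exists_swap_inverting hHmem hab hfix hodd hnil Q hNC hQ
      have hh : s⁻¹ * g ∈ H := by
        refine (hHmem _).mpr ⟨?_, ?_⟩
        · rw [mul_smul, hg1, hs1']
        · rw [mul_smul, hg2, hs2']
      refine ⟨⟨s⁻¹ * g, hh⟩, ?_⟩
      intro x hx
      apply Subtype.ext
      rw [hσ]
      have h3' := hg3 x hx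
      push_cast
      rw [← h3']
      group)
    refine ⟨h1, ?_⟩
    intro x hx
    have := h2 ⟨x, hx⟩
    exact congrArg Subtype.val this
  obtain ⟨s₀, hs₀1, hs₀2⟩ := h2t' hab hab.symm
  have hcyc := (hmain s₀ hs₀1 hs₀2).1
  refine ⟨hcyc, ?_, fun s h1 h2 h hh => (hmain s h1 h2).2 h hh⟩
  have hcomm : ∀ x y : H, x * y = y * x := IsCyclic.commutative.is_comm.comm
  apply le_antisymm
  · intro g hg
    rw [Subgroup.mem_centralizer_iff] at hg
    have h1 : g * x₀ * g⁻¹ ∈ H := by
      rw [← hg x₀ hx₀, mul_inv_cancel_right]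
      exact hx₀
    rcases mem_or_swap hHmem hab hfix hx₀ hx₀1 h1 with h | ⟨h2, h4⟩
    · exact h
    exfalso
    have h5 := (hmain g h2 h4).2 x₀ hx₀
    rw [← hg x₀ hx₀, mul_inv_cancel_right] at h5
    have h6 : x₀ ^ 2 = 1 := by
      rw [pow_two]
      nth_rw 1 [h5]
      exact inv_mul_cancel x₀
    have h7 : orderOf x₀ ∣ 2 := orderOf_dvd_of_pow_eq_one h6
    have h8 : Odd (orderOf x₀) := by
      have : orderOf x₀ ∣ Nat.card H := Subgroup.orderOf_dvd_natCard H hx₀
      exact Odd.of_dvd_nat hodd this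
    have h9 : orderOf x₀ = 1 := by
      rcases (Nat.dvd_prime Nat.prime_two).mp h7 with h | h
      · exact h
      · rw [h] at h8
        exact absurd h8 (by decide)
    exact hx₀1 (orderOf_eq_one_iff.mp h9)
  · intro x hx
    rw [Subgroup.mem_centralizer_iff]
    intro y hy
    have := hcomm ⟨y, hy⟩ ⟨x, hx⟩
    exact congrArg Subtype.val this

end Cfsg.Agent.S0739
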