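import Cfsg.Statements.S0345
import Mathlib
import Cfsg.Agent.Lib.Perm.ZassCyc
import Cfsg.Agent.S0739

set_option autoImplicit false
open Cfsg

namespace Cfsg.Agent.S0345

/-- In a finite simple Zassenhaus group the stabiliser `H` of two points `a ≠ b` is cyclic, and some involution
interchanging `a` and `b` inverts every element of `H`. -/
theorem result {G Ω : Type*} [Group G] [Finite G] [MulAction G Ω] [Finite Ω]
    (hZ : Cfsg.IsZassenhausGroup G Ω) [IsSimpleGroup G]
    {a b : Ω} (hab : a ≠ b) :
    IsCyclic ↥(MulAction.stabilizer G a ⊓ MulAction.stabilizer G b) ∧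
      ∃ v : G, orderOf v = 2 ∧ v • a = b ∧ v • b = a ∧ ∀ h ∈ MulAction.stabilizer G a ⊓ MulAction.stabilizer G b, v * h * v⁻¹ = h⁻¹ := by
  classical
  haveI : Fintype Ω := Fintype.ofFinite Ω
  by_cases heven : Even (Nat.card ↥(MulAction.stabilizer G a ⊓ MulAction.stabilizer G b))
  · rcases Cfsg.Agent.Lib.Perm.ZassCyc.card_even hZ hab heven with h1 | h2
    · exact (Cfsg.Agent.Lib.Perm.ZassSharp.not_simple hZ hab heven h1).elim
    · obtain ⟨hc, s, hs2, hsa, hsb, hinv⟩ := Cfsg.Agent.Lib.Perm.ZassCyc.even_structure hZ hab heven h2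
      refine ⟨hc, s, ?_, hsa, hsb, hinv⟩
      haveI : Fact (Nat.Prime 2) := ⟨Nat.prime_two⟩
      apply orderOf_eq_prime
      · rw [pow_two, hs2]
      · rintro rfl
        rw [one_smul] at hsa
        exact hab hsa
  · have hodd : Odd (Nat.card ↥(MulAction.stabilizer G a ⊓ MulAction.stabilizer G b)) :=
      Nat.not_even_iff_odd.mp heven
    have hnil : ∀ q : ℕ, q.Prime → q ∣ Nat.card ↥(MulAction.stabilizer G a ⊓ MulAction.stabilizer G b) →
        ¬ ∃ N : Subgroup G, N.Normal ∧ N.index = q ^ (Nat.card G).factorization q := by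
      rintro q hq hqd ⟨N, hN, hidx⟩
      have hcard := Cfsg.Agent.Lib.Perm.ZassTwo.card_eq_of_two_trans hZ hab
      have hGpos : Nat.card G ≠ 0 := Nat.card_pos.ne'
      have hqG : q ∣ Nat.card G := by
        rw [hcard]
        exact Dvd.dvd.mul_left hqd _
      have hv : 1 ≤ (Nat.card G).factorization q :=
        (hq.dvd_iff_one_le_factorization hGpos).mp hqG
      rcases Subgroup.Normal.eq_bot_or_eq_top hN with rfl | rfl
      · rw [Subgroup.index_bot] at hidx
        obtain ⟨e, he1, he⟩ := Cfsg.Agent.Lib.Perm.ZassCyc.card_eq_mul hZ hab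
        have hdpos : 0 < Nat.card ↥(MulAction.stabilizer G a ⊓ MulAction.stabilizer G b) := Nat.card_pos
        have hn3 : 3 ≤ Fintype.card Ω := by nlinarith
        rw [← Nat.card_eq_fintype_card] at hn3
        set n := Nat.card Ω with hn
        have h1 : n ∣ Nat.card G := by
          rw [hcard, mul_assoc]
          exact Dvd.intro _ rfl
        have h2 : n - 1 ∣ Nat.card G := by
          rw [hcard]
          exact Dvd.dvd.mul_right (Dvd.intro_left _ rfl) _
        rw [hidx] at h1 h2
        obtain ⟨i, -, hi⟩ := (Nat.dvd_prime_pow hq).mp h1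
        obtain ⟨j, -, hj⟩ := (Nat.dvd_prime_pow hq).mp h2
        have hi0 : i ≠ 0 := by
          rintro rfl
          rw [pow_zero] at hi
          omega
        have hj0 : j ≠ 0 := by
          rintro rfl
          rw [pow_zero] at hj
          omega
        have h3 : q ∣ n := by
          rw [hi]
          exact dvd_pow_self q hi0
        have h4 : q ∣ n - 1 := by
          rw [hj]
          exact dvd_pow_self q hj0
        have h5 : q ∣ 1 := by
          have h6 : n = (n - 1) + 1 := by omega
          rw [h6] at h3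
          exact (Nat.dvd_add_right h4).mp h3
        exact hq.one_lt.ne' (Nat.dvd_one.mp h5)
      · rw [Subgroup.index_top] at hidx
        have h1 : 1 < q ^ (Nat.card G).factorization q := Nat.one_lt_pow (by omega) hq.one_lt
        omega
    obtain ⟨h1, -, h3⟩ := Cfsg.Agent.S0739.result hZ hab hodd hnil
    obtain ⟨s, hsa, hsb⟩ := Cfsg.Agent.Lib.Perm.ZassCore.two_trans hZ hab hab.symm
    refine ⟨h1, s, ?_, hsa, hsb, h3 s hsa hsb⟩
    have hmem : s * s ∈ MulAction.stabilizer G a ⊓ MulAction.stabilizer G b := by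
      refine Subgroup.mem_inf.mpr ⟨?_, ?_⟩
      · rw [MulAction.mem_stabilizer_iff, mul_smul, hsa, hsb]
      · rw [MulAction.mem_stabilizer_iff, mul_smul, hsb, hsa]
    have h4 := h3 s hsa hsb (s * s) hmem
    have h5 : (s * s) * (s * s) = 1 := by
      have h6 : s * (s * s) * s⁻¹ = s * s := by group
      rw [h6] at h4
      calc (s * s) * (s * s) = (s * s)⁻¹ * (s * s) := by rw [← h4]
        _ = 1 := by group
    obtain ⟨m, hm⟩ := hodd
    have h6 : (s * s) ^ Nat.card ↥(MulAction.stabilizer G a ⊓ MulAction.stabilizer G b) = 1 := by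
      have := pow_card_eq_one' (G := ↥(MulAction.stabilizer G a ⊓ MulAction.stabilizer G b)) (x := ⟨s * s, hmem⟩)
      exact congrArg Subtype.val this
    have h7 : s * s = 1 := by
      rw [hm, pow_succ, pow_mul, pow_two, h5, one_pow, one_mul] at h6
      exact h6
    haveI : Fact (Nat.Prime 2) := ⟨Nat.prime_two⟩
    apply orderOf_eq_prime
    · rw [pow_two, h7]
    · rintro rfl
      rw [one_smul] at hsa
      exact hab hsa

end Cfsg.Agent.S0345
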