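import Cfsg.Statements.S0884
import Mathlib
import Cfsg.Agent.Lib.Zass.OddClasses

set_option autoImplicit false
open Cfsg

namespace Cfsg.Agent.S0884

/-- Let G be a finite simple Zassenhaus group on Ω with h + 1 points whose two-point stabilizer E has odd order e with 2e < h - 1, and let H be the subgroup of the stabilizer of a consisting of the identity and the elements fixing no point other than a (given here as a subgroup of the stabilizer of order one less than the number of points whose non-identity elements fix only a; it is the Frobenius kernel of the stabilizer). Then at least e conjugacy classes of G contain no element of H. -/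
theorem result {G Ω : Type*} [Group G] [Finite G] [MulAction G Ω] [Fintype Ω] (hZ : Cfsg.IsZassenhausGroup G Ω) {a b : Ω} (hab : a ≠ b) [IsSimpleGroup G] (h e : ℕ) (hh : Fintype.card Ω = h + 1) (he : Nat.card ↥(MulAction.stabilizer G a ⊓ MulAction.stabilizer G b : Subgroup G) = e) (hodd : Odd e) (hlt : 2 * e < h - 1) (H : Subgroup G) (hHa : H ≤ MulAction.stabilizer G a) (hHcard : Nat.card H + 1 = Fintype.card Ω) (hHfix : ∀ u ∈ H, u ≠ 1 → ∀ c : Ω, u • c = c → c = a) : e ≤ Nat.card {C : ConjClasses G // ∀ g : G, ConjClasses.mk g = C → g ∉ H} := by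
  classical
  haveI := Fintype.ofFinite G
  have hO := Cfsg.Agent.Lib.Zass.OddSimple.odd_all hZ hab (he ▸ hodd)
  have hH : H = Cfsg.Agent.Lib.Zass.Basic.kernel hZ a :=
    Cfsg.Agent.Lib.Zass.Basic.eq_kernel hZ H hHa (by rw [Nat.card_eq_fintype_card (α := Ω)]; exact hHcard) hHfix
  subst hH
  have hhk : Nat.card (Cfsg.Agent.Lib.Zass.Basic.kernel hZ a) = h := by
    have h1 := Cfsg.Agent.Lib.Zass.Basic.card_kernel_add_one hZ a
    rw [Nat.card_eq_fintype_card (α := Ω), hh] at h1
    omega
  have hA := Cfsg.Agent.Lib.Zass.OddClasses.noFix_classes hZ hO hab (by rw [he, hhk]; omega)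
  have hB := Cfsg.Agent.Lib.Zass.OddClasses.two_fix_classes hZ hO hab
  rw [he] at hA hB
  set A := (Finset.univ : Finset (ConjClasses G)).filter
    (fun C => ∃ g, ConjClasses.mk g = C ∧ Cfsg.Agent.Lib.Zass.Count.NoFix g Ω) with hAdef
  set B := (Finset.univ : Finset (ConjClasses G)).filter
    (fun C => ∃ g, ConjClasses.mk g = C ∧ Cfsg.Agent.Lib.Zass.Count.TwoFix g Ω) with hBdef
  have hdisj : Disjoint A B := by
    rw [Finset.disjoint_left]
    intro C hCA hCB
    obtain ⟨g, hg, hg1⟩ := (Finset.mem_filter.mp hCA).2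
    obtain ⟨g', hg', hg2⟩ := (Finset.mem_filter.mp hCB).2
    have hc : IsConj g' g := ConjClasses.mk_eq_mk_iff_isConj.mp (hg'.trans hg.symm)
    obtain ⟨u, hu⟩ := isConj_iff.mp hc
    rw [← hu] at hg1
    exact Cfsg.Agent.Lib.Zass.Count.not_noFix_of_twoFix hZ
      (Cfsg.Agent.Lib.Zass.OddClasses.twoFix_conj hZ g' u hg2) hg1
  have hsub : A ∪ B ⊆ (Finset.univ : Finset (ConjClasses G)).filter
      (fun C => ∀ g : G, ConjClasses.mk g = C → g ∉ Cfsg.Agent.Lib.Zass.Basic.kernel hZ a) := by
    intro C hC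
    simp only [Finset.mem_filter, Finset.mem_univ, true_and]
    intro g hg hgk
    have hconj : ∀ g' : G, ConjClasses.mk g' = C → IsConj g' g := fun g' hg' =>
      ConjClasses.mk_eq_mk_iff_isConj.mp (hg'.trans hg.symm)
    rcases Finset.mem_union.mp hC with h | h
    · obtain ⟨g', hg', hg1⟩ := (Finset.mem_filter.mp h).2
      obtain ⟨u, hu⟩ := isConj_iff.mp (hconj g' hg')
      have := Cfsg.Agent.Lib.Zass.OddClasses.noFix_conj hZ g' u hg1
      rw [hu] at this
      exact this a (Cfsg.Agent.Lib.Zass.Basic.kernel_smul hZ hgk)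
    · obtain ⟨g', hg', hg1⟩ := (Finset.mem_filter.mp h).2
      obtain ⟨u, hu⟩ := isConj_iff.mp (hconj g' hg')
      have := Cfsg.Agent.Lib.Zass.OddClasses.twoFix_conj hZ g' u hg1
      rw [hu] at this
      exact Cfsg.Agent.Lib.Zass.Count.not_twoFix_of_oneFix hZ ⟨this.1, a, hgk⟩ this
  rw [Cfsg.Agent.Lib.Zass.Count.natCard_subtype]
  have hcard := Finset.card_le_card hsub
  rw [Finset.card_union_of_disjoint hdisj] at hcard
  omega

end Cfsg.Agent.S0884
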