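import Cfsg.Statements.S0169
import Mathlib
import Cfsg.Agent.Lib.Char.CliffordCorr
import Cfsg.Agent.Lib.Char.Monomial
import Cfsg.Agent.Lib.Char.Values
import Cfsg.Agent.Lib.Char.Integrality
import Cfsg.Agent.Lib.Char.AbelianQuot
-- import your own Cfsg.Agent.* helpers here

set_option autoImplicit false
open Cfsg

namespace Cfsg.Agent.S0169

open Cfsg.Agent.Lib.Char.Basic Cfsg.Agent.Lib.Char.Ortho Cfsg.Agent.Lib.Char.Induced
  Cfsg.Agent.Lib.Char.IndRep Cfsg.Agent.Lib.Char.Clifford Cfsg.Agent.Lib.Char.CliffordCorr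

/-- A character of a commutative-image subgroup takes values of norm one when irreducible. -/
theorem norm_irr_of_comm {H : Type*} [Group H] [Finite H] (hH : ∀ a b : H, a * b = b * a)
    {lam : H → ℂ} (hlam : IsIrrCharacter H lam) (h : H) : ‖lam h‖ = 1 ∧ lam 1 = 1 := by
  obtain ⟨m, ρ, hρ, rfl⟩ := hlam
  haveI := hρ
  have hf : Module.finrank ℂ (Fin m → ℂ) = 1 :=
    Cfsg.Agent.Lib.Char.AbelianQuot.finrank_eq_one_of_commuting ρ (fun x y => by
      change ρ x * ρ y = ρ y * ρ x
      rw [← map_mul, ← map_mul, hH])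
  constructor
  · have := (Cfsg.Agent.Lib.Char.Values.norm_character_eq_iff ρ h).mpr ?_
    · rw [this, hf]; simp
    · refine Cfsg.Agent.Lib.Char.Integrality.exists_smul_id_of_commute ρ (ρ h) (fun g => ?_)
      change ρ h * ρ g = ρ g * ρ h
      rw [← map_mul, ← map_mul, hH]
  · rw [ρ.char_one, hf]; simp

/-- Itô's Theorem on character degrees: the degree of an irreducible complex representation of a finite group divides the index of any abelian normal subgroup. -/
theorem result {G : Type*} [Group G] [Finite G] {V : Type*} [AddCommGroup V] [Module ℂ V] [FiniteDimensional ℂ V] (ρ : Representation ℂ G V) [ρ.IsIrreducible] (H : Subgroup G) [H.Normal] (hH : ∀ a ∈ H, ∀ b ∈ H, a * b = b * a) : Module.finrank ℂ V ∣ H.index := by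
  classical
  cases nonempty_fintype G
  letI : Fintype H := Fintype.ofFinite _
  have hχ : IsIrrCharacter G ρ.character := isIrrCharacter_of_rep ρ
  have hχc := isCharacter_of_isIrrCharacter hχ
  have hres := isCharacter_restrict hχc H
  have hd := Cfsg.Agent.Lib.Char.Integrality.finrank_ne_zero_of_isIrreducible ρ
  have hcomm : ∀ a b : H, a * b = b * a := fun a b => Subtype.ext (hH a a.2 b b.2)
  have h1 : (fun n : H => ρ.character n) 1 ≠ 0 := by
    simp only [Subgroup.coe_one, ρ.char_one]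
    exact_mod_cast hd
  obtain ⟨lam, hlam, hne⟩ := exists_irr_constituent hres h1
  let T : Subgroup G := Cfsg.Agent.Lib.Char.Monomial.inertiaOf H lam
  letI : Fintype T := Fintype.ofFinite _
  have hT : ∀ g : G, g ∈ T ↔ ∀ n : H, lam ⟨g * n * g⁻¹, (inferInstance : H.Normal).conj_mem (n : G) n.2 g⟩ = lam n :=
    fun g => Cfsg.Agent.Lib.Char.Monomial.mem_inertiaOf H lam g
  have hlamcl := isClassFunction_of_isCharacter (isCharacter_of_isIrrCharacter hlam)
  have hHT : H ≤ T := by
    intro h hh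
    refine (hT h).mpr (fun n => ?_)
    exact hlamcl n ⟨h, hh⟩
  obtain ⟨ψ, hψ, hind, heq⟩ := exists_indFun_eq H lam T hHT hlam hT hχ hne
  have hres2 := res_eq_smul_of_inertia H lam T hHT hlam hT hψ (heq ▸ hne)
  set e := classInner (resT H T hHT ψ) lam with he
  obtain ⟨m, ρ', hirr, hchar⟩ := hψ
  haveI := hirr
  have hlam1 : lam 1 = 1 := (norm_irr_of_comm hcomm hlam 1).2
  have he1 : (Module.finrank ℂ (Fin m → ℂ) : ℂ) = e := by
    have h3 := congrFun hres2 1
    simp only [Pi.smul_apply, smul_eq_mul, hlam1, mul_one] at h3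
    rw [← h3, ← hchar]
    exact (ρ'.char_one).symm
  have hscalar : ∀ z ∈ H.subgroupOf T, ∃ a : ℂ, ρ' z = a • (LinearMap.id : (Fin m → ℂ) →ₗ[ℂ] (Fin m → ℂ)) := by
    intro z hz
    rw [Subgroup.mem_subgroupOf] at hz
    apply (Cfsg.Agent.Lib.Char.Values.norm_character_eq_iff ρ' z).mp
    have h3 := congrFun hres2 ⟨(z : G), hz⟩
    simp only [Pi.smul_apply, smul_eq_mul] at h3
    rw [hchar]
    have h4 : ψ z = e * lam ⟨(z : G), hz⟩ := h3
    rw [h4, norm_mul, (norm_irr_of_comm hcomm hlam _).1, mul_one, ← he1]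
    simp
  have hdvd := Cfsg.Agent.Lib.Char.Integrality.finrank_dvd_index_of_scalar ρ' (H.subgroupOf T) hscalar
  have hdeg : Module.finrank ℂ V = T.index * Module.finrank ℂ (Fin m → ℂ) := by
    have h5 := congrFun hind 1
    rw [indFun_one, ρ.char_one, ← hchar, ρ'.char_one] at h5
    exact_mod_cast h5.symm
  rw [hdeg, ← Subgroup.relIndex_mul_index hHT, mul_comm]
  exact mul_dvd_mul_right hdvd _

end Cfsg.Agent.S0169
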