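import Cfsg.Statements.S4698
import Mathlib
import Cfsg.Agent.Lib.Blocks.BF2Avg
import Cfsg.Agent.Lib.Blocks.BF2Lat
import Cfsg.Agent.Lib.Blocks.CentralQuot
import Cfsg.Agent.Lib.Blocks.ZDefect
import Cfsg.Agent.Lib.Blocks.MajorSub3
import Cfsg.Agent.Lib.Blocks.BrauerFeit
import Cfsg.Agent.Lib.Blocks.Pairs21
import Cfsg.Agent.S4648
import Cfsg.Agent.S4710
import Cfsg.Agent.S4733
import Cfsg.Agent.S4494
import Cfsg.Agent.S0908
-- import your own Cfsg.Agent.* helpers here

set_option autoImplicit false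
open Cfsg

set_option linter.style.haveILetI false
set_option linter.unusedSectionVars false

namespace Cfsg.Agent.S4698

open Cfsg.Agent.Lib.Blocks.Local Cfsg.Agent.Lib.Blocks.Central Cfsg.Agent.Lib.Blocks.Osima
  Cfsg.Agent.Lib.Blocks.Sections Cfsg.Agent.Lib.Blocks.MajorSub Cfsg.Agent.Lib.Blocks.MajorSub2
  Cfsg.Agent.Lib.Blocks.BlockCount Cfsg.Agent.Lib.Blocks.ZDefect Cfsg.Agent.Lib.Blocks.Transport
  Cfsg.Agent.Lib.Blocks.BrauerMap Cfsg.Agent.Lib.Blocks.Pairs Cfsg.Agent.Lib.Blocks.CentralQuot
  Cfsg.Agent.Lib.Blocks.MajorLattice Cfsg.Agent.Lib.Blocks.Dominate Cfsg.Agent.Lib.Blocks.HeightZero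
  Cfsg.Agent.Lib.Blocks.Covering Cfsg.Agent.Lib.Blocks.BlockHom Cfsg.Agent.Lib.Blocks.Twisted

universe u

/-- A block inducing `B` on `D C_G(D)`. -/
theorem exists_block_HD {G : Type u} [Group G] [Fintype G] {M : Ideal AlgInt} [hMi : M.IsPrime] {p : ℕ} [Fact p.Prime]
    (hM : IsPModular p M) {B : Set (IrrCharacter G)} (hB : IsPBlock M B) {D : Subgroup G}
    (hD : IsDefectGroup p M B D) : ∃ b : Set (IrrCharacter (HD D)), IsInducedBlock M (HD D) b B := by
  classical
  have hDp : IsPGroup p D := by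
    obtain ⟨g, -, S, rfl⟩ := hD
    exact Cfsg.Agent.Lib.Blocks.Defect.isPGroup_sylow_map S
  obtain ⟨e, hmax⟩ := Cfsg.Agent.S4648.exists_maximal_on_defect hM hB hD
  have he := isInducedBlock_of_brauerPair hM hmax.1
  have hCW : Subgroup.centralizer (D : Set G) ≤ HD D := le_sup_right
  have hDW : D ≤ HD D := le_sup_left
  have hP : IsPGroup p (D.subgroupOf (HD D)) := hDp.comap_of_injective _ (Subgroup.subtype_injective _)
  have he' : IsPBlock M (blockMap (cD hCW (le_refl D) hDW) e) := isPBlock_blockMap _ he.1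
  obtain ⟨ξ, hξ⟩ := isPBlock_nonempty he'
  obtain ⟨χ, hχ⟩ := exists_irr_of_brauer hM hP (le_refl _)
    (Cfsg.Agent.Lib.Blocks.FirstMain.centralizer_le_normalizer' _) ξ.2
  have hχ' : ∀ z : localCenter (HD D) M, MemLocalIdeal M
      (omega (ξ : _ → ℂ) (res (Subgroup.centralizer ((D.subgroupOf (HD D) : Subgroup (HD D)) : Set (HD D))) z.1) -
        omega (χ : HD D → ℂ) z.1) := by
    intro z
    rw [← brauer_centralizer_eq_res]
    exact hχ z
  have hind := isInducedBlock_centralizer hχ'
  rw [← isPBlock_eq_blockOf he' hξ] at hind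
  have hin := (isInducedBlock_iff_in hCW (le_refl D) hDW).1 hind
  exact ⟨_, isInducedBlock_trans hCW he hin⟩

/-- The bound. -/
def F (p d : ℕ) : ℕ := if d ≤ 2 then p ^ d else p ^ (2 * d - 2)

lemma F_mono {p : ℕ} (hp : 0 < p) {a b : ℕ} (h : a ≤ b) : F p a ≤ F p b := by
  unfold F
  split_ifs with h1 h2 h2
  · exact Nat.pow_le_pow_right hp h
  · exact Nat.pow_le_pow_right hp (by omega)
  · omega
  · exact Nat.pow_le_pow_right hp (by omega)

set_option maxHeartbeats 1000000 in
theorem bound_aux (p : ℕ) [Fact p.Prime] (M : Ideal AlgInt) (hM : IsPModular p M) :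
    ∀ (n : ℕ) (G : Type u) [Group G] [Finite G], Nat.card G = n → ∀ B : Set (IrrCharacter G), IsPBlock M B →
      Nat.card B ≤ F p (blockDefect p B) := by
  intro n
  induction n using Nat.strong_induction_on with
  | _ n ih =>
    intro G _ _ hn B hB
    classical
    have hpp : p.Prime := Fact.out
    letI : Fintype G := Fintype.ofFinite G
    haveI hMp := isPrime_of_isPModular hM
    haveI : Finite (IrrCharacter G) := Cfsg.Agent.Lib.Char.Complete.finite_irr
    letI : Fintype (IrrCharacter G) := Fintype.ofFinite _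
    set d := blockDefect p B with hd
    by_cases h0 : d = 0
    · have h1 := Cfsg.Agent.S4494.result p M hM B hB
      rw [← hd, h0] at h1
      simp only [F, h0]
      simp only [Nat.zero_le, if_true, pow_zero]
      rw [mul_zero, pow_zero] at h1
      omega
    by_cases hht : ∃ χ ∈ B, 0 < blockHeight p B (χ : G → ℂ)
    · obtain ⟨χ, hχ, hpos⟩ := hht
      have h2 := Cfsg.Agent.Lib.Blocks.BrauerFeit.height_add_two_le hM hB hχ hpos
      have h3 := (Cfsg.Agent.S4710.result p M hM B hB d hd.symm).1 ⟨χ, hχ, hpos⟩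
      have h4 : ¬ d ≤ 2 := by omega
      simp only [F, h4, if_false]
      omega
    have hh : ∀ χ ∈ B, blockHeight p B (χ : G → ℂ) = 0 := by
      intro χ hχ
      by_contra hne
      exact hht ⟨χ, hχ, Nat.pos_of_ne_zero hne⟩
    -- a defect group
    obtain ⟨x, S, -, hD⟩ := Cfsg.Agent.Lib.Blocks.Pairs.exists_isDefectGroup hM hB
    set D : Subgroup G := (S : Subgroup (Subgroup.centralizer ({x} : Set G))).map
        (Subgroup.centralizer ({x} : Set G)).subtype with hDdef
    have hDp : IsPGroup p D := Cfsg.Agent.Lib.Blocks.Defect.isPGroup_sylow_map S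
    have hDcard : Nat.card D = p ^ d := Cfsg.Agent.S0908.result p M hM B hB D hD
    haveI : Fact p.Prime := ⟨hpp⟩
    haveI hDn : Nontrivial D := by
      rw [hDp.nontrivial_iff_card]
      exact ⟨d, Nat.pos_of_ne_zero h0, hDcard⟩
    haveI hDf : Finite D := inferInstance
    haveI hcn : Nontrivial (Subgroup.center D) := hDp.center_nontrivial
    have hcp : IsPGroup p (Subgroup.center D) := hDp.to_subgroup _
    obtain ⟨e, he, hce⟩ := hcp.nontrivial_iff_card.1 hcn
    have hpc : p ∣ Nat.card (Subgroup.center D) := by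
      rw [hce]
      exact dvd_pow_self _ (by omega)
    obtain ⟨w, hw⟩ := exists_prime_orderOf_dvd_card' p hpc
    set y : G := ((w : D) : G) with hy
    have hyD : y ∈ D := (w : D).2
    have hzc : ∀ a ∈ D, a * y = y * a := by
      intro a ha
      have h1 := Subgroup.mem_center_iff.1 w.2 ⟨a, ha⟩
      exact congrArg Subtype.val h1
    have hord : orderOf y = p := by
      rw [hy, Subgroup.orderOf_coe, Subgroup.orderOf_coe, hw]
    have hHz : HD D ≤ Cen y := by
      refine sup_le (fun a ha => ?_) (fun a ha => ?_)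
      · exact Subgroup.mem_centralizer_singleton_iff.2 (hzc a ha)
      · exact Subgroup.mem_centralizer_singleton_iff.2 (Subgroup.mem_centralizer_iff.1 ha _ hyD).symm
    letI : Fintype (Cen y) := Fintype.ofFinite _
    letI : Fintype (HD D) := Fintype.ofFinite _
    obtain ⟨b, hb⟩ := exists_block_HD hM hB hD
    obtain ⟨c, -, hc2, hc3⟩ := exists_pair hM hb hD hHz
    have hdd : blockDefect p c = d := Cfsg.Agent.Lib.Blocks.MajorSub3.defect_eq hM hB hD hzc hc2.1 hc3
    -- the quotient
    set Z := Subgroup.zpowers (uC y) with hZ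
    have hZc : ∀ z ∈ Z, ∀ g : Cen y, g * z = z * g := by
      rintro _ ⟨n, rfl⟩ g
      exact Commute.zpow_right (show Commute g (uC y) from uC_comm y g) n
    haveI hZn : Z.Normal := ⟨fun z hz g => by
      have := hZc z hz g
      rw [this]
      simpa using hz⟩
    letI : Fintype Z := Fintype.ofFinite _
    letI : Fintype (Cen y ⧸ Z) := Fintype.ofFinite _
    have huord : orderOf (uC y) = p := by
      rw [← hord]
      exact Subgroup.orderOf_mk y _
    have hZcard : Nat.card Z = p := by
      rw [hZ, Nat.card_zpowers, huord]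
    have hZp : IsPGroup p Z := IsPGroup.of_card (n := 1) (by rw [hZcard, pow_one])
    have hqb := isPBlock_quotBlock hM Z hZc hZp hc2.1
    have hle := blockRank_le_quot hM Z hZc hZp hc2.1
    have hne : (quotBlock Z c).Nonempty := by
      obtain ⟨χ, hχ⟩ := id hqb
      rw [hχ]
      exact ⟨χ, mem_blockOf_self χ⟩
    have hcardq : Nat.card (Cen y ⧸ Z) * p = Nat.card (Cen y) := by
      have := Subgroup.card_eq_card_quotient_mul_card_subgroup Z
      rw [hZcard] at this
      exact this.symm
    have hval : (Nat.card (Cen y ⧸ Z)).factorization p + 1 = (Nat.card (Cen y)).factorization p := by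
      rw [← hcardq, Nat.factorization_mul Nat.card_pos.ne' hpp.ne_zero]
      simp [hpp.factorization_self]
    have hdq : blockDefect p (quotBlock Z c) ≤ d - 1 := by
      have h1 := sInf_le_quot (p := p) Z hne
      have h2 := hdd
      rw [blockDefect] at h2 ⊢
      omega
    have hcardlt : Nat.card (Cen y ⧸ Z) < n := by
      have h1 : Nat.card (Cen y) ≤ Nat.card G := Subgroup.card_le_card_group _
      have h2 : 0 < Nat.card (Cen y ⧸ Z) := Nat.card_pos
      have h3 : Nat.card (Cen y ⧸ Z) * 2 ≤ Nat.card (Cen y ⧸ Z) * p := Nat.mul_le_mul_left _ hpp.two_le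
      omega
    have hIH := ih _ hcardlt (Cen y ⧸ Z) rfl (quotBlock Z c) hqb
    have hrk := (Cfsg.Agent.S4733.result p M hM _ hqb).1
    have hl : blockRank p c ≤ F p (d - 1) :=
      hle.trans (hrk.trans (hIH.trans (F_mono hpp.pos hdq)))
    have hsq : Nat.card B ^ 2 ≤ p ^ (2 * d) * blockRank p c := by
      have h1 := card_sq_le hM (k := 1) (by rw [pow_one, hord]) hc2 hh
      rwa [hdd] at h1
    have hsq' : Nat.card B ^ 2 ≤ p ^ (2 * d) * F p (d - 1) := hsq.trans (Nat.mul_le_mul_left _ hl)
    have hroot : ∀ m : ℕ, p ^ (2 * d) * F p (d - 1) ≤ (p ^ m) ^ 2 → Nat.card B ≤ p ^ m := by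
      intro m hm
      exact (Nat.pow_le_pow_iff_left (by norm_num)).1 (hsq'.trans hm)
    by_cases hd1 : d = 1
    · have : F p 1 = p ^ 1 := by simp [F]
      rw [hd1, this]
      apply hroot 1
      rw [hd1]
      simp [F]
    by_cases hd2 : d = 2
    · have h1 := Cfsg.Agent.Lib.Blocks.BF2Avg.card_le_of_min (b := c) hM hord hc2 hdd
        (fun x hx h0 => Cfsg.Agent.Lib.Blocks.BF2Lat.le_SS (Z := Z) hM hZc hZp hZcard hc2.1 (by omega) hx h0)
      rw [hdd] at h1
      have h2 : Nat.card B = (Finset.univ.filter (· ∈ B)).card := by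
        rw [Nat.card_eq_fintype_card, Fintype.card_of_subtype]
        intro χ
        simp
      rw [h2]
      simpa [F, hd2] using h1
    have hd3 : ¬ d ≤ 2 := by omega
    simp only [F, hd3, if_false]
    apply hroot
    by_cases hd4 : d = 3
    · rw [hd4]
      simp only [F]
      norm_num
      rw [← pow_add, ← pow_mul]
    · have : ¬ d - 1 ≤ 2 := by omega
      simp only [F, this, if_false]
      rw [← pow_add, ← pow_mul]
      refine Nat.pow_le_pow_right hpp.pos ?_
      omega

/-- Let p be a prime, M a maximal ideal of the algebraic integers containing p, and B a p-block of defect d of the finite group G, containing k irreducible characters. Then k ≤ p^d when d ≤ 2, and k ≤ p^(2d − 2) when d ≥ 3. -/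
theorem result {G : Type*} [Group G] [Finite G] (p : ℕ) [Fact p.Prime] (M : Ideal Cfsg.AlgInt) (hM : Cfsg.IsPModular p M) (B : Set (Cfsg.IrrCharacter G)) (hB : Cfsg.IsPBlock M B) (d : ℕ) (hd : Cfsg.blockDefect p B = d) : (d ≤ 2 → Nat.card B ≤ p ^ d) ∧ (3 ≤ d → Nat.card B ≤ p ^ (2 * d - 2)) := by
  subst hd
  have h := bound_aux p M hM _ G rfl B hB
  constructor
  · intro h2
    simpa [F, h2] using h
  · intro h3
    have h4 : ¬ blockDefect p B ≤ 2 := by omega
    simpa [F, h4] using h

end Cfsg.Agent.S4698
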