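import Cfsg.Statements.S4528
import Mathlib
import Cfsg.Agent.Lib.Blocks.TameY5

set_option autoImplicit false
set_option linter.style.haveILetI false
open Cfsg

namespace Cfsg.Agent.S4528

/-- Let B be a 2-block of the finite group G (relative to a maximal ideal M of the algebraic integers containing 2) whose defect group D is dihedral of order 2 ^ n with n ≥ 3. Then B contains exactly 2 ^ (n - 2) + 3 irreducible characters, its 2-regular rank (the number of irreducible Brauer characters) is between 1 and 3, exactly four of its members have height zero, and every member has height at most one. -/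
theorem result {G : Type*} [Group G] [Finite G] (M : Ideal Cfsg.AlgInt) (hM : Cfsg.IsPModular 2 M) (B : Set (Cfsg.IrrCharacter G)) (hB : Cfsg.IsPBlock M B) (D : Subgroup G) (hD : Cfsg.IsDefectGroup 2 M B D) (n : ℕ) (hn : 3 ≤ n) (hdih : Nonempty (D ≃* DihedralGroup (2 ^ (n - 1)))) : Nat.card B = 2 ^ (n - 2) + 3 ∧ 1 ≤ Cfsg.blockRank 2 B ∧ Cfsg.blockRank 2 B ≤ 3 ∧ Nat.card {χ : Cfsg.IrrCharacter G // χ ∈ B ∧ Cfsg.blockHeight 2 B (χ : G → ℂ) = 0} = 4 ∧ ∀ χ ∈ B, Cfsg.blockHeight 2 B (χ : G → ℂ) ≤ 1 := by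
  classical
  letI : Fintype G := Fintype.ofFinite G
  haveI : Fact (Nat.Prime 2) := ⟨Nat.prime_two⟩
  haveI : M.IsPrime := hM.2.1.isPrime
  obtain ⟨x, a, hd, hcardD⟩ := Cfsg.Agent.Lib.Blocks.Tame.exists_dihD hn hdih
  letI : Fintype (Cfsg.Agent.Lib.Blocks.Sections.Cen (Cfsg.Agent.Lib.Blocks.Tame.DihD.zz x (2 ^ (n - 2)))) := Fintype.ofFinite _
  obtain ⟨b, e, χ₀, L, hind, hP⟩ := Cfsg.Agent.Lib.Blocks.Tame.exists_package hM hB hD hd
  have hle := hd.D_le_cen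
  have hd1 := hd.subgroupOf hle
  have hd2 := hd1.subgroupOf (le_refl _)
  rw [Subgroup.subgroupOf_self] at hd2
  letI : Fintype (D.subgroupOf (Cfsg.Agent.Lib.Blocks.Sections.Cen (Cfsg.Agent.Lib.Blocks.Tame.DihD.zz x (2 ^ (n - 2))))) := Fintype.ofFinite _
  have hcardP : Nat.card (D.subgroupOf (Cfsg.Agent.Lib.Blocks.Sections.Cen (Cfsg.Agent.Lib.Blocks.Tame.DihD.zz x (2 ^ (n - 2))))) = 4 * 2 ^ (n - 2) := by
    rw [← hcardD]
    exact Nat.card_congr (Subgroup.subgroupOfEquivOfLe hle).toEquiv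
  have hn1 : (2 : ℕ) ^ (n - 1) = 2 * 2 ^ (n - 2) := by
    rw [← pow_succ']
    congr 1
    omega
  have h : Cfsg.Agent.Lib.Blocks.Tame.Col M B b (D.subgroupOf (Cfsg.Agent.Lib.Blocks.Sections.Cen (Cfsg.Agent.Lib.Blocks.Tame.DihD.zz x (2 ^ (n - 2))))) e χ₀ L
      _ _ (2 ^ (n - 2)) (n - 1) :=
    { hB := hB, hind := hind, hP := hP, hall := hd2, hzx := rfl, hcard := hcardP, hk := by omega, hNk := hn1 }
  -- the defects
  have hdef : Cfsg.IsDefectGroup 2 M b (D.subgroupOf (Cfsg.Agent.Lib.Blocks.Sections.Cen (Cfsg.Agent.Lib.Blocks.Tame.DihD.zz x (2 ^ (n - 2))))) :=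
    Cfsg.Agent.Lib.Blocks.Pairs.isDefectGroup_of_maximal hP.hMp hP.hmax
  have hc1 := Cfsg.Agent.S0908.result 2 M hP.hMp b hP.hmax.1.2.1 _ hdef
  have hc2 := Cfsg.Agent.S0908.result 2 M hM B hB D hD
  have hdd : Cfsg.blockDefect 2 b = Cfsg.blockDefect 2 B := by
    apply Nat.pow_right_injective (le_refl 2)
    show 2 ^ _ = 2 ^ _
    rw [← hc1, ← hc2, hcardP, hcardD]
  have hPD : ∀ v : (D.subgroupOf (Cfsg.Agent.Lib.Blocks.Sections.Cen (Cfsg.Agent.Lib.Blocks.Tame.DihD.zz x (2 ^ (n - 2))))),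
      (((v : Cfsg.Agent.Lib.Blocks.Sections.Cen (Cfsg.Agent.Lib.Blocks.Tame.DihD.zz x (2 ^ (n - 2)))) : G)) ∈ D :=
    fun v => Subgroup.mem_subgroupOf.mp v.2
  have hN : 0 < 2 ^ (n - 2) := by positivity
  have hNpow : 2 ^ (n - 2) = 2 ∨ 2 ^ (n - 2) = 4 ∨ 8 ≤ 2 ^ (n - 2) := by
    rcases (by omega : n = 3 ∨ n = 4 ∨ 5 ≤ n) with rfl | rfl | h5
    · left
      norm_num
    · right
      left
      norm_num
    · right
      right
      calc 8 = 2 ^ 3 := by norm_num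
        _ ≤ 2 ^ (n - 2) := Nat.pow_le_pow_right (by norm_num) (by omega)
  obtain ⟨h1, h2, h3⟩ := h.main_count hdd (m := 2 ^ (n - 2) - 1) (by omega) hNpow
    (fun w hw hN4 hAlt => h.no_alt hdd hD hPD hw hN4 hAlt)
  have hr := h.rank_add_le
  have hcB : Nat.card B = (Finset.univ.filter (· ∈ B)).card := by
    rw [Nat.card_eq_fintype_card, Fintype.card_subtype]
  have hcH : Nat.card {χ : Cfsg.IrrCharacter G // χ ∈ B ∧ Cfsg.blockHeight 2 B (χ : G → ℂ) = 0} =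
      (Finset.univ.filter (fun χ : Cfsg.IrrCharacter G => χ ∈ B ∧ Cfsg.blockHeight 2 B (χ : G → ℂ) = 0)).card := by
    rw [Nat.card_eq_fintype_card, Fintype.card_subtype]
  refine ⟨?_, ?_, ?_, ?_, h3⟩
  · rw [hcB, h1]
  · exact Cfsg.Agent.Lib.Blocks.CentralQuot.blockRank_pos hB
  · omega
  · rw [hcH, h2]

end Cfsg.Agent.S4528
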