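import Cfsg.Statements.S4637
import Mathlib
import Cfsg.Agent.Lib.Blocks.AbelianCount
import Cfsg.Agent.Lib.Blocks.KleinFour

set_option autoImplicit false
set_option linter.style.haveILetI false
open Cfsg

namespace Cfsg.Agent.S4637

open Cfsg.Agent.Lib.Blocks.Pairs Cfsg.Agent.Lib.Blocks.AbelianCount Cfsg.Agent.Lib.Blocks.KleinFour
  Cfsg.Agent.Lib.Blocks.CentralQuot Cfsg.Agent.Lib.Blocks.Sections Cfsg.Agent.Lib.Blocks.Regular

/-- The facts about the inertial group. -/
lemma inertial_facts {G : Type*} [Group G] [Finite G] (M : Ideal Cfsg.AlgInt) (hM : Cfsg.IsPModular 2 M)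
    {B : Set (Cfsg.IrrCharacter G)} (P : Subgroup G) (hcardP : Nat.card P = 4)
    (c : Set (Cfsg.IrrCharacter (Subgroup.centralizer (P : Set G))))
    (hab : ∀ x ∈ P, ∀ y ∈ P, x * y = y * x)
    (hmax : Cfsg.IsMaximalBrauerPair 2 M B P c)
    (T : Subgroup G)
    (hT : ∀ g : G, g ∈ T ↔ (g ∈ Subgroup.normalizer (P : Set G) ∧ Cfsg.StabilizesBlock (Subgroup.centralizer (P : Set G)) c g)) :
    ((Subgroup.centralizer (P : Set G)).relIndex T = 1 ∨ (Subgroup.centralizer (P : Set G)).relIndex T = 3) ∧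
      ∀ t ∈ T, ∀ y ∈ P, t ^ ((Subgroup.centralizer (P : Set G)).relIndex T) * y * (t ^ ((Subgroup.centralizer (P : Set G)).relIndex T))⁻¹ = y := by
  classical
  haveI := Cfsg.Agent.Lib.Blocks.Local.isPrime_of_isPModular hM
  cases nonempty_fintype G
  have hTN : ∀ t ∈ T, t ∈ Subgroup.normalizer (P : Set G) := fun t ht => ((hT t).mp ht).1
  have hconj : ∀ (t : T) (u : P), (t : G) * u * (t : G)⁻¹ ∈ P := fun t u =>
    (Subgroup.mem_normalizer_iff.mp (hTN t t.2) u).mp u.2
  let conjP : T → P → P := fun t u => ⟨(t : G) * u * (t : G)⁻¹, hconj t u⟩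
  have hmulP : ∀ (s t : T) (u : P), conjP (s * t) u = conjP s (conjP t u) := by
    intro s t u
    apply Subtype.ext
    show ((s * t : T) : G) * u * ((s * t : T) : G)⁻¹ = (s : G) * ((t : G) * u * (t : G)⁻¹) * (s : G)⁻¹
    simp only [Subgroup.coe_mul]
    group
  have honeP : ∀ u : P, conjP 1 u = u := by
    intro u
    apply Subtype.ext
    show ((1 : T) : G) * u * ((1 : T) : G)⁻¹ = u
    simp
  let πf : T → Equiv.Perm P := fun t =>
    ⟨conjP t, conjP t⁻¹, fun u => by rw [← hmulP, inv_mul_cancel, honeP],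
      fun u => by rw [← hmulP, mul_inv_cancel, honeP]⟩
  let π : T →* Equiv.Perm P := MonoidHom.mk' πf (fun s t => by
    ext u
    exact congrArg Subtype.val (hmulP s t u))
  have hker : π.ker = (Subgroup.centralizer (P : Set G)).subgroupOf T := by
    ext t
    rw [MonoidHom.mem_ker, Subgroup.mem_subgroupOf, Subgroup.mem_centralizer_iff]
    constructor
    · intro h u hu
      have h1 : πf t ⟨u, hu⟩ = ⟨u, hu⟩ := by
        have := congrArg (fun f : Equiv.Perm P => f ⟨u, hu⟩) h
        exact this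
      have h2 : (t : G) * u * (t : G)⁻¹ = u := congrArg Subtype.val h1
      calc u * (t : G) = ((t : G) * u * (t : G)⁻¹) * t := by rw [h2]
        _ = _ := by group
    · intro h
      ext u
      show (t : G) * u * (t : G)⁻¹ = u
      rw [← h u u.2]
      group
  have hrange : (Subgroup.centralizer (P : Set G)).relIndex T = Nat.card π.range := by
    rw [Subgroup.relIndex, ← hker, Subgroup.index_ker]
  have hdvd : (Subgroup.centralizer (P : Set G)).relIndex T ∣ 24 := by
    rw [hrange]
    have := Subgroup.card_subgroup_dvd_card π.range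
    rw [Nat.card_perm, hcardP] at this
    exact this
  have hodd : ¬ 2 ∣ (Subgroup.centralizer (P : Set G)).relIndex T := by
    obtain ⟨S⟩ : Nonempty (Sylow 2 T) := inferInstance
    have h1 := S.not_dvd_index
    intro h2
    apply h1
    refine h2.trans ?_
    rw [Subgroup.relIndex]
    apply Subgroup.index_dvd_of_le
    intro s hs
    rw [Subgroup.mem_subgroupOf]
    obtain ⟨k, hk⟩ := exists_orderOf_eq_of_mem (p := 2) S.isPGroup' hs
    obtain ⟨hsN, hss⟩ := (hT s).mp s.2
    have h3 := mem_sup_of_isMaximal hM hmax hsN hss ⟨k, by rw [Subgroup.orderOf_coe, hk]⟩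
    have hPC : P ≤ Subgroup.centralizer (P : Set G) := fun u hu =>
      Subgroup.mem_centralizer_iff.mpr fun v hv => hab v hv u hu
    rwa [sup_eq_right.mpr hPC] at h3
  constructor
  · have hcop : Nat.Coprime ((Subgroup.centralizer (P : Set G)).relIndex T) 8 := by
      have : (8 : ℕ) = 2 ^ 3 := rfl
      rw [this]
      exact Nat.Coprime.pow_right _ ((Nat.Prime.coprime_iff_not_dvd Nat.prime_two).mpr hodd).symm
    have h3 : (Subgroup.centralizer (P : Set G)).relIndex T ∣ 3 := by
      have : (24 : ℕ) = 8 * 3 := rfl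
      rw [this] at hdvd
      exact hcop.dvd_of_dvd_mul_left hdvd
    exact (Nat.dvd_prime Nat.prime_three).mp h3
  · intro t ht y hy
    have h1 : (⟨π ⟨t, ht⟩, MonoidHom.mem_range.mpr ⟨_, rfl⟩⟩ : π.range) ^ Nat.card π.range = 1 := pow_card_eq_one'
    rw [← hrange] at h1
    have h2 : π (⟨t, ht⟩ ^ ((Subgroup.centralizer (P : Set G)).relIndex T)) = 1 := by
      rw [map_pow]
      exact congrArg Subtype.val h1
    have h3 := congrArg (fun f : Equiv.Perm P => ((f ⟨y, hy⟩ : P) : G)) h2
    have h4 : ((⟨t, ht⟩ ^ ((Subgroup.centralizer (P : Set G)).relIndex T) : T) : G) = t ^ ((Subgroup.centralizer (P : Set G)).relIndex T) := by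
      simp
    change (((π (⟨t, ht⟩ ^ ((Subgroup.centralizer (P : Set G)).relIndex T)) ⟨y, hy⟩ : P) : G)) = y at h3
    have h5 : ((π (⟨t, ht⟩ ^ ((Subgroup.centralizer (P : Set G)).relIndex T)) ⟨y, hy⟩ : P) : G) =
        ((⟨t, ht⟩ ^ ((Subgroup.centralizer (P : Set G)).relIndex T) : T) : G) * y *
          ((⟨t, ht⟩ ^ ((Subgroup.centralizer (P : Set G)).relIndex T) : T) : G)⁻¹ := rfl
    rw [h5, h4] at h3
    simpa using h3

/-- Let B be a block of the finite group G relative to a maximal ideal M of the algebraic integers containing 2, with a Klein four defect group P. Let c be a block of C_G(P) inducing B, T the stabilizer of c in N_G(P) and e the index of C_G(P) in T (the inertial index). Then e is 1 or 3, B contains exactly four irreducible characters, and the 2-regular rank of B (its number of irreducible Brauer characters) equals e. -/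
theorem result {G : Type*} [Group G] [Finite G] (M : Ideal Cfsg.AlgInt) (hM : Cfsg.IsPModular 2 M) (B : Set (Cfsg.IrrCharacter G)) (hB : Cfsg.IsPBlock M B) (P : Subgroup G) (hPD : Cfsg.IsDefectGroup 2 M B P) (hV : IsKleinFour P) (c : Set (Cfsg.IrrCharacter (Subgroup.centralizer (P : Set G)))) (hc : Cfsg.IsInducedBlock M (Subgroup.centralizer (P : Set G)) c B) (T : Subgroup G) (hT : ∀ g : G, g ∈ T ↔ (g ∈ Subgroup.normalizer (P : Set G) ∧ Cfsg.StabilizesBlock (Subgroup.centralizer (P : Set G)) c g)) (e : ℕ) (he : (Subgroup.centralizer (P : Set G)).relIndex T = e) : (e = 1 ∨ e = 3) ∧ Nat.card B = 4 ∧ Cfsg.blockRank 2 B = e := by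
  classical
  cases nonempty_fintype G
  haveI := Cfsg.Agent.Lib.Blocks.Local.isPrime_of_isPModular hM
  have hcardP : Nat.card P = 4 := hV.card_four
  have hPp : IsPGroup 2 P := IsPGroup.of_card (n := 2) (by rw [hcardP]; norm_num)
  have hsq : ∀ x ∈ P, x * x = 1 := fun x hx => congrArg Subtype.val (IsKleinFour.mul_self (⟨x, hx⟩ : P))
  have hab : ∀ x ∈ P, ∀ y ∈ P, x * y = y * x := by
    intro x hx y hy
    have h1 := hsq _ (P.mul_mem hx hy)
    have h2 := hsq x hx
    have h3 := hsq y hy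
    calc x * y = x * y * (x * y) * (y⁻¹ * x⁻¹) := by group
      _ = y⁻¹ * x⁻¹ := by rw [h1, one_mul]
      _ = y * x := by
        rw [inv_eq_of_mul_eq_one_left h2, inv_eq_of_mul_eq_one_left h3]
  have hBe := isBrauerPairOf_of_induced hPp hc
  have hmax := isMaximal_of_isDefectGroup hM hBe hPD
  have hPe := hmax.1.1
  have hd : Cfsg.blockDefect 2 B = 2 := by
    have h1 := Cfsg.Agent.S0908.result 2 M hM B hB P hPD
    rw [hcardP] at h1
    have h2 : (2 : ℕ) ^ 2 = 2 ^ Cfsg.blockDefect 2 B := h1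
    exact (Nat.pow_right_injective le_rfl h2).symm
  have hh : ∀ χ ∈ B, Cfsg.blockHeight 2 B (χ : G → ℂ) = 0 := by
    intro χ hχ
    have h1 := ((Cfsg.Agent.S4710.result 2 M hM B hB 2 hd).2 χ hχ).2 le_rfl
    omega
  -- the blocks below `(P, c)`
  have hex : ∀ y : G, ∃ f : Set (Cfsg.IrrCharacter (CZ y)), y ∈ P →
      Cfsg.IsPBlock M f ∧ Cfsg.SubpairLE 2 M (Subgroup.zpowers y) f P c := by
    intro y
    by_cases hy : y ∈ P
    · obtain ⟨f, hf, hle⟩ := exists_subpairLE hM hPe (Subgroup.zpowers_le.mpr hy)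
      exact ⟨f, fun _ => ⟨hf, hle⟩⟩
    · exact ⟨∅, fun h => absurd h hy⟩
  choose F hF using hex
  have hord : ∀ y ∈ P, y ≠ 1 → orderOf y = 2 := by
    intro y hy hy1
    exact orderOf_eq_prime (by rw [sq]; exact hsq y hy) hy1
  have hdefF : ∀ y ∈ P, Cfsg.IsDefectGroup 2 M (F y) (P.subgroupOf (CZ y)) := fun y hy =>
    isDefectGroup_of_abelian hM hmax hab (Subgroup.zpowers_le.mpr hy) (hF y hy).1 (hF y hy).2
  have hPCZ : ∀ y ∈ P, P ≤ CZ y := fun y hy u hu =>
    Subgroup.mem_centralizer_iff.mpr fun q hq => hab q (Subgroup.zpowers_le.mpr hy hq) u hu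
  have hddF : ∀ y ∈ P, Cfsg.blockDefect 2 (F y) = 2 := by
    intro y hy
    have h1 := Cfsg.Agent.S0908.result 2 M hM (F y) (hF y hy).1 _ (hdefF y hy)
    have h2 : Nat.card (P.subgroupOf (CZ y)) = Nat.card P :=
      Nat.card_congr (Subgroup.subgroupOfEquivOfLe (hPCZ y hy)).toEquiv
    rw [h2, hcardP] at h1
    have h3 : (2 : ℕ) ^ 2 = 2 ^ Cfsg.blockDefect 2 (F y) := h1
    exact (Nat.pow_right_injective le_rfl h3).symm
  have hrankF : ∀ y ∈ P, y ≠ 1 → Cfsg.blockRank 2 (F y) = 1 := by
    intro y hy hy1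
    letI : Fintype (CZ y) := Fintype.ofFinite _
    have hmemy : y ∈ CZ y := by
      rw [cz_eq_cen, Subgroup.mem_centralizer_singleton_iff]
    have hox : orderOf (⟨y, hmemy⟩ : CZ y) = 2 := by
      rw [Subgroup.orderOf_mk]
      exact hord y hy hy1
    refine blockRank_eq_one_of_central_involution hM hox ?_ (hF y hy).1 (hddF y hy).le
    intro g
    apply Subtype.ext
    exact (Subgroup.mem_centralizer_iff.mp g.2 y (Subgroup.mem_zpowers y)).symm
  obtain ⟨χ₀, hχ₀⟩ := id hB
  -- the non-identity elements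
  set R₀ : Finset G := Finset.univ.filter (fun y => y ∈ P ∧ y ≠ 1) with hR₀
  have hR₀card : R₀.card = 3 := by
    have h1 : (Finset.univ.filter (fun y => y ∈ P)).card = 4 := by
      rw [← hcardP, Nat.card_eq_fintype_card, Fintype.card_subtype]
    have h2 : R₀ = (Finset.univ.filter (fun y => y ∈ P)).erase 1 := by
      ext y
      simp only [hR₀, Finset.mem_filter, Finset.mem_univ, true_and, Finset.mem_erase]
      tauto
    rw [h2, Finset.card_erase_of_mem (by simp [P.one_mem]), h1]
  -- the first part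
  obtain ⟨he13, hpow⟩ := inertial_facts M hM P hcardP c hab hmax T hT
  rw [he] at he13 hpow
  -- the number of characters
  have hcard4 : Nat.card B = 4 := by
    obtain ⟨u, hu⟩ : R₀.Nonempty := Finset.card_pos.mp (by omega)
    have huP := (Finset.mem_filter.mp hu).2
    have hpair : Cfsg.IsBrauerPairOf 2 M B (Subgroup.zpowers u) (F u) := by
      have hQf : Cfsg.IsBrauerPair 2 M (Subgroup.zpowers u) (F u) :=
        ⟨hPp.to_le (Subgroup.zpowers_le.mpr huP.1), (hF u huP.1).1⟩
      exact (isBrauerPairOf_iff_of_subpairLE hM hQf (hF u huP.1).2).mp hmax.1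
    have hind := isInducedBlock_of_brauerPair hM hpair
    letI : Fintype (Cen u) := Fintype.ofFinite _
    have hbridge : ∀ (K : Subgroup G), K = Cen u → ∀ (f : Set (Cfsg.IrrCharacter K)) (D : Subgroup K),
        Cfsg.IsInducedBlock M K f B → Cfsg.IsDefectGroup 2 M f D → Cfsg.blockRank 2 f = 1 →
        Cfsg.blockDefect 2 f = 2 → Nat.card B = 4 := by
      rintro K rfl f D h1 h2 h3 h4
      exact (card_eq_four_of_major hM (hord u huP.1 huP.2) h1 h2 h3 h4 hh).1
    exact hbridge _ (cz_eq_cen u) (F u) _ hind (hdefF u huP.1) (hrankF u huP.1 huP.2) (hddF u huP.1)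
  refine ⟨he13, hcard4, ?_⟩
  subst hχ₀
  rcases he13 with h1 | h3
  · -- `T = C_G(P)`
    have hTC : T ≤ Subgroup.centralizer (P : Set G) := by
      rw [← Subgroup.relIndex_eq_one, he]
      exact h1
    have hcount' := card_eq_rank_add_sum (p := 2) hM χ₀ hmax hab hT R₀ (fun y hy => (Finset.mem_filter.mp hy).2) (by
      intro y hy hy1
      refine ⟨y, ⟨Finset.mem_filter.mpr ⟨Finset.mem_univ _, hy, hy1⟩, 1, T.one_mem, by simp⟩, ?_⟩
      rintro r ⟨-, t, ht, rfl⟩
      have := Subgroup.mem_centralizer_iff.mp (hTC ht) y hy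
      rw [← this]
      group) F (fun y hy => hF y (Finset.mem_filter.mp hy).2.1)
    have hsum : ∑ y ∈ R₀, Cfsg.blockRank 2 (F y) = 3 := by
      rw [Finset.sum_congr rfl (fun y hy => hrankF y (Finset.mem_filter.mp hy).2.1 (Finset.mem_filter.mp hy).2.2)]
      simp [hR₀card]
    omega
  · -- a group of order three
    have hTC : ¬ T ≤ Subgroup.centralizer (P : Set G) := by
      rw [← Subgroup.relIndex_eq_one, he, h3]
      norm_num
    obtain ⟨t, htT, htC⟩ := SetLike.not_le_iff_exists.mp hTC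
    rw [Subgroup.mem_centralizer_iff] at htC
    push Not at htC
    obtain ⟨y₀, hy₀, hne⟩ := htC
    have hp3 := hpow t htT
    rw [h3] at hp3
    set y₁ := t * y₀ * t⁻¹ with hy₁
    set y₂ := t * y₁ * t⁻¹ with hy₂
    have htN := ((hT t).mp htT).1
    have hy₁P : y₁ ∈ P := (Subgroup.mem_normalizer_iff.mp htN y₀).mp hy₀
    have hy₂P : y₂ ∈ P := (Subgroup.mem_normalizer_iff.mp htN y₁).mp hy₁P
    have h10 : y₁ ≠ y₀ := by
      intro h
      apply hne
      calc y₀ * t = y₁ * t := by rw [h]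
        _ = t * y₀ := by rw [hy₁]; group
    have hinj : ∀ a b : G, t * a * t⁻¹ = t * b * t⁻¹ → a = b := by
      intro a b hab'
      have := mul_left_cancel (mul_right_cancel hab')
      exact this
    have h21 : y₂ ≠ y₁ := fun h => h10 (hinj _ _ h)
    have h3y : t * y₂ * t⁻¹ = y₀ := by
      rw [hy₂, hy₁]
      calc t * (t * (t * y₀ * t⁻¹) * t⁻¹) * t⁻¹ = t ^ 3 * y₀ * (t ^ 3)⁻¹ := by
            rw [pow_three, mul_inv_rev, mul_inv_rev]
            simp only [mul_assoc]
        _ = y₀ := hp3 y₀ hy₀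
    have h20 : y₂ ≠ y₀ := by
      intro h
      rw [h] at h3y
      exact h10 h3y
    have hy₀1 : y₀ ≠ 1 := by
      rintro rfl
      apply hne
      simp
    have hy₁1 : y₁ ≠ 1 := by
      intro h
      apply hy₀1
      have : t * y₀ * t⁻¹ = t * 1 * t⁻¹ := by rw [← hy₁, h]; group
      exact hinj _ _ this
    have hy₂1 : y₂ ≠ 1 := by
      intro h
      apply hy₁1
      have : t * y₁ * t⁻¹ = t * 1 * t⁻¹ := by rw [← hy₂, h]; group
      exact hinj _ _ this
    have hall : R₀ = {y₀, y₁, y₂} := by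
      symm
      apply Finset.eq_of_subset_of_card_le
      · intro z hz
        simp only [Finset.mem_insert, Finset.mem_singleton] at hz
        rcases hz with rfl | rfl | rfl
        · exact Finset.mem_filter.mpr ⟨Finset.mem_univ _, hy₀, hy₀1⟩
        · exact Finset.mem_filter.mpr ⟨Finset.mem_univ _, hy₁P, hy₁1⟩
        · exact Finset.mem_filter.mpr ⟨Finset.mem_univ _, hy₂P, hy₂1⟩
      · rw [hR₀card, Finset.card_insert_of_notMem, Finset.card_insert_of_notMem, Finset.card_singleton]
        · simp [h21.symm]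
        · simp [h10.symm, h20.symm]
    have hcount' := card_eq_rank_add_sum (p := 2) hM χ₀ hmax hab hT {y₀} (fun y hy => by
      rw [Finset.mem_singleton.mp hy]
      exact ⟨hy₀, hy₀1⟩) (by
      intro z hz hz1
      have hzR : z ∈ R₀ := Finset.mem_filter.mpr ⟨Finset.mem_univ _, hz, hz1⟩
      rw [hall] at hzR
      simp only [Finset.mem_insert, Finset.mem_singleton] at hzR
      have hex' : ∃ s ∈ T, s * z * s⁻¹ = y₀ := by
        rcases hzR with rfl | rfl | rfl
        · exact ⟨1, T.one_mem, by simp⟩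
        · refine ⟨t * t, T.mul_mem htT htT, ?_⟩
          rw [← h3y, hy₂]
          group
        · exact ⟨t, htT, h3y⟩
      refine ⟨y₀, ⟨Finset.mem_singleton.mpr rfl, hex'⟩, ?_⟩
      rintro r ⟨hr, -⟩
      exact Finset.mem_singleton.mp hr) F (fun y hy => by
      rw [Finset.mem_singleton.mp hy]
      exact hF y₀ hy₀)
    rw [Finset.sum_singleton, hrankF y₀ hy₀ hy₀1] at hcount'
    omega

end Cfsg.Agent.S4637
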