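import Cfsg.Statements.S3779
import Cfsg.Agent.S0033
import Cfsg.Agent.Lib.Coprime.HKK
import Cfsg.Agent.Lib.Coprime.LieLCS
import Mathlib

set_option autoImplicit false
open Cfsg

namespace Cfsg.Agent.S3779

open Cfsg.Agent.Lib.Coprime.LieLCS Cfsg.Agent.Lib.Coprime.HKK

theorem coprime_card {G : Type*} [Group G] [Finite G] {p : ℕ} (hp : p.Prime) (α : MulAut G)
    (hα : orderOf α = p) (hfpf : ∀ g : G, α g = g → g = 1) : (Nat.card G).Coprime p := by
  classical
  haveI : Fact p.Prime := ⟨hp⟩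
  have hP : IsPGroup p (Subgroup.zpowers α) := by
    apply IsPGroup.of_card (n := 1)
    rw [Nat.card_zpowers, hα, pow_one]
  have hmod := hP.card_modEq_card_fixedPoints G
  have hfix : Nat.card (MulAction.fixedPoints (Subgroup.zpowers α) G) = 1 := by
    rw [Nat.card_eq_one_iff_unique]
    refine ⟨⟨?_⟩, ⟨⟨1, ?_⟩⟩⟩
    · rintro ⟨a, ha⟩ ⟨b, hb⟩
      have ha' : α a = a := ha ⟨α, Subgroup.mem_zpowers α⟩
      have hb' : α b = b := hb ⟨α, Subgroup.mem_zpowers α⟩
      apply Subtype.ext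
      show a = b
      rw [hfpf a ha', hfpf b hb']
    · rintro ⟨β, hβ⟩
      show β 1 = 1
      exact map_one β
  rw [hfix] at hmod
  have hmod' : Nat.card G % p = 1 % p := hmod
  rw [Nat.coprime_comm, Nat.Prime.coprime_iff_not_dvd hp]
  intro hd
  have h0 : Nat.card G % p = 0 := Nat.mod_eq_zero_of_dvd hd
  rw [h0, Nat.mod_eq_of_lt hp.one_lt] at hmod'
  omega

/-- Let G be a finite group with an automorphism of prime order p fixing only the identity. Then G is nilpotent; if p = 2 then G is abelian, if p = 3 then G has class at most 2, and in general the class of G is at most ξ = 1 + (p−1) + (p−1)² + ⋯ + (p−1)^(n−1) with n = 2^(p−1) − 1 (the Higman–Kreknin–Kostrikin bound). -/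
theorem result {G : Type*} [Group G] [Finite G] {p : ℕ} (hp : p.Prime) (α : MulAut G) (hα : orderOf α = p) (hfpf : ∀ g : G, α g = g → g = 1) : (p = 2 → (⊤ : Subgroup G).lowerCentralSeries 1 = ⊥) ∧ (p = 3 → (⊤ : Subgroup G).lowerCentralSeries 2 = ⊥) ∧ (⊤ : Subgroup G).lowerCentralSeries (Finset.sum (Finset.range (2 ^ (p - 1) - 1)) (fun i => (p - 1) ^ i)) = ⊥ := by
  haveI : Fact p.Prime := ⟨hp⟩
  have hnil : Group.IsNilpotent G := by
    refine Cfsg.Agent.S0033.result α ?_ p hp hα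
    intro g hg
    exact hfpf g hg
  have hlie : ∀ a b : AssocLie G, lmap α ⁅a, b⁆ = ⁅lmap α a, lmap α b⁆ := lmap_lie α
  have hit : ∀ v : AssocLie G, (lmap α)^[p] v = v := by
    intro v
    rw [← lmap_pow, ← hα, pow_orderOf_eq_one, lmap_one]
    rfl
  have hfix : ∀ v : AssocLie G, lmap α v = v → v = 0 := lmap_fixed_eq_zero α hfpf
  have hcop := coprime_card hp α hα hfpf
  have hgen : (⊤ : Subgroup G).lowerCentralSeries (Finset.sum (Finset.range (2 ^ (p - 1) - 1)) (fun i => (p - 1) ^ i)) = ⊥ :=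
    gam_eq_bot_of_lcs_eq_bot hnil
      (lcs_eq_bot_of_aut (lmap α) hlie hit hfix (Nat.card G) hcop card_smul_eq_zero)
  refine ⟨?_, ?_, hgen⟩
  · intro h2
    subst h2
    simpa using hgen
  · intro h3
    subst h3
    exact gam_eq_bot_of_lcs_eq_bot hnil
      (lcs_two_eq_bot_of_aut (lmap α) hlie hit hfix (Nat.card G) hcop card_smul_eq_zero)

end Cfsg.Agent.S3779
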