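import Cfsg.Statements.S0731
import Mathlib
import Cfsg.Agent.Lib.Perm.ZassAb
import Cfsg.Agent.Lib.Zass.Basic
import Cfsg.Agent.Lib.Zass.Simple
import Cfsg.Agent.Lib.Zass.Rows5

set_option autoImplicit false
open Cfsg

namespace Cfsg.Agent.S0731

open MulAction Cfsg.Agent.Lib.Zass.Basic Cfsg.Agent.Lib.Zass.Simple

/-- The subgroup generated by the kernels is simple. -/
theorem join_simple {G : Type*} {Ω : Type*} [Group G] [MulAction G Ω] [Finite G] [Finite Ω]
    (hZ : IsZassenhausGroup G Ω) : IsSimpleGroup (joinKernels hZ) := by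
  classical
  have hL1 := join_ne_bot hZ
  have hLn := join_normal hZ
  haveI : Nontrivial (joinKernels hZ) := by
    obtain ⟨x, hx1⟩ := Subgroup.ne_bot_iff_exists_ne_one.mp hL1
    exact ⟨⟨x, 1, hx1⟩⟩
  refine IsSimpleGroup.mk ?_
  intro K hKn
  by_cases hK : K = ⊥
  · exact Or.inl hK
  · right
    have hZL : IsZassenhausGroup (joinKernels hZ) Ω := normal_isZassenhaus hZ _ hLn hL1
    have htr : IsPretransitive K Ω := normal_transitive hZL K hKn hK
    have hK'tr : IsPretransitive (K.map (joinKernels hZ).subtype) Ω := by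
      refine ⟨fun x y => ?_⟩
      obtain ⟨k, hk⟩ := htr.exists_smul_eq x y
      exact ⟨⟨((k : joinKernels hZ) : G), ⟨k, k.2, rfl⟩⟩, hk⟩
    have hle := join_le_of_normal_normal hZ (joinKernels hZ) le_rfl
      (K.map (joinKernels hZ).subtype) (Subgroup.map_subtype_le _)
      (by
        rintro n hn _ ⟨k, hk, rfl⟩
        exact ⟨⟨n, hn⟩ * k * (⟨n, hn⟩ : joinKernels hZ)⁻¹, hKn.conj_mem k hk ⟨n, hn⟩, by simp⟩)
      hK'tr
    rw [eq_top_iff]
    intro x _
    obtain ⟨k, hk, hkx⟩ := hle x.2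
    have : k = x := Subtype.ext hkx
    rwa [← this]

/-- Feit's inequality for `F` abelian, for a non-trivial normal subgroup, in terms of `L`. -/
theorem feit_join {G : Type*} {Ω : Type*} [Group G] [MulAction G Ω] [Finite G] [Fintype Ω]
    (hZ : IsZassenhausGroup G Ω) {x b : Ω} (hxb : x ≠ b) {F : Subgroup G}
    (hker : F = kernel hZ x) (hFcomm : ∀ u ∈ F, ∀ v ∈ F, u * v = v * u)
    (hodd : Odd (Nat.card ↥(stabilizer (joinKernels hZ) x ⊓ stabilizer (joinKernels hZ) b))) :
    Fintype.card Ω - 2 ≤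
      2 * Nat.card ↥(stabilizer (joinKernels hZ) x ⊓ stabilizer (joinKernels hZ) b) := by
  classical
  have hL1 := join_ne_bot hZ
  have hLn := join_normal hZ
  have hZL : IsZassenhausGroup (joinKernels hZ) Ω := normal_isZassenhaus hZ _ hLn hL1
  haveI := join_simple hZ
  haveI : Fintype (joinKernels hZ) := Fintype.ofFinite _
  refine Cfsg.Agent.Lib.Zass.Rows5.feit_abelian hZL hxb hodd ?_
  intro u hu v hv
  have hmem : ∀ w ∈ kernel hZL x, ((w : joinKernels hZ) : G) ∈ F := by
    intro w hw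
    rw [hker, mem_kernel]
    refine ⟨kernel_smul hZL hw, ?_⟩
    by_cases hw1 : ((w : joinKernels hZ) : G) = 1
    · exact Or.inl hw1
    · right
      intro c hc
      have hw1' : w ≠ 1 := fun h => hw1 (by rw [h]; rfl)
      exact kernel_fix hZL hw hw1' hc
  apply Subtype.ext
  exact hFcomm _ (hmem u hu) _ (hmem v hv)

/-- `d_L` divides `d_N` for `L ≤ N`. -/
theorem card_dvd_of_le {G : Type*} {Ω : Type*} [Group G] [MulAction G Ω] [Finite G]
    (L N : Subgroup G) (hLN : L ≤ N) (x b : Ω) :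
    Nat.card ↥(stabilizer L x ⊓ stabilizer L b) ∣ Nat.card ↥(stabilizer N x ⊓ stabilizer N b) := by
  classical
  let f : ↥(stabilizer L x ⊓ stabilizer L b) →* ↥(stabilizer N x ⊓ stabilizer N b) :=
    { toFun := fun y => ⟨⟨((y : L) : G), hLN (y : L).2⟩, y.2.1, y.2.2⟩
      map_one' := rfl
      map_mul' := fun _ _ => rfl }
  have hf : Function.Injective f := by
    intro y z h
    have h1 : (((f y : ↥(stabilizer N x ⊓ stabilizer N b)) : N) : G)
        = (((f z : ↥(stabilizer N x ⊓ stabilizer N b)) : N) : G) := by rw [h]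
    exact Subtype.ext (Subtype.ext h1)
  exact Subgroup.card_dvd_of_injective f hf

/-- A finite Zassenhaus group whose point stabiliser has an abelian regular normal subgroup on the remaining points is sharply triply transitive or isomorphic to `PSL(2, F)` for a finite field `F` of odd characteristic. -/
theorem result {G Ω : Type*} [Group G] [Finite G] [MulAction G Ω] [Finite Ω] (hZ : Cfsg.IsZassenhausGroup G Ω) (x : Ω) (F : Subgroup G) (hFle : F ≤ MulAction.stabilizer G x) (hFn : (F.subgroupOf (MulAction.stabilizer G x)).Normal) (hFab : IsMulCommutative F) (hreg : ∀ y z : Ω, y ≠ x → z ≠ x → ∃! u : F, (u : G) • y = z) : (MulAction.IsMultiplyPretransitive G Ω 3 ∧ ∀ t : Fin 3 ↪ Ω, MulAction.stabilizer G t = ⊥) ∨ ∃ (K : Type) (_ : Field K) (_ : Fintype K), ringChar K ≠ 2 ∧ Nonempty (G ≃* Matrix.ProjectiveSpecialLinearGroup (Fin 2) K) := by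
  classical
  haveI : Fintype Ω := Fintype.ofFinite Ω
  have hF : Cfsg.Agent.Lib.Perm.ZassCore.IsRoot F x := by
    refine ⟨fun u hu => hFle hu, ?_, ?_⟩
    · intro h hh u hu
      have h1 : (⟨u, hFle hu⟩ : MulAction.stabilizer G x) ∈ F.subgroupOf (MulAction.stabilizer G x) :=
        Subgroup.mem_subgroupOf.mpr hu
      have h2 := hFn.conj_mem _ h1 ⟨h, hh⟩
      exact Subgroup.mem_subgroupOf.mp h2
    · intro y z hy hz
      obtain ⟨u, hu, huniq⟩ := hreg y z hy hz
      refine ⟨u, ⟨u.2, hu⟩, ?_⟩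
      rintro v ⟨hv, hve⟩
      have := huniq ⟨v, hv⟩ hve
      exact congrArg Subtype.val this
  have hFcomm : ∀ u ∈ F, ∀ v ∈ F, u * v = v * u := by
    intro u hu v hv
    have := (hFab.is_comm.comm) (⟨u, hu⟩ : F) ⟨v, hv⟩
    exact congrArg Subtype.val this
  obtain ⟨b, hxb⟩ : ∃ b : Ω, x ≠ b := Cfsg.Agent.Lib.Zass.Basic.exists_other hZ x
  have hFcard : Nat.card F + 1 = Nat.card Ω := hF.card_add_one hxb.symm
  have hFix : ∀ u ∈ F, u ≠ 1 → ∀ c : Ω, u • c = c → c = x := by
    intro u hu hu1 c hc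
    by_contra hne
    exact hu1 (hF.eq_one_of_fix hu hne hc)
  -- Feit's theorem
  have hker : F = Cfsg.Agent.Lib.Zass.Basic.kernel hZ x :=
    Cfsg.Agent.Lib.Zass.Basic.eq_kernel hZ F hFle hFcard hFix
  have hL1 := Cfsg.Agent.Lib.Zass.Simple.join_ne_bot hZ
  have hLn := Cfsg.Agent.Lib.Zass.Simple.join_normal hZ
  have hfeitN : ∀ N : Subgroup G, N.Normal → N ≠ ⊥ →
      Odd (Nat.card ↥(MulAction.stabilizer N x ⊓ MulAction.stabilizer N b)) →
      Fintype.card Ω - 2 ≤ 2 * Nat.card ↥(MulAction.stabilizer N x ⊓ MulAction.stabilizer N b) := by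
    intro N hN hN1 hodd
    have hLN := Cfsg.Agent.Lib.Zass.Simple.join_le_of_normal hZ N hN hN1
    have hdvd := card_dvd_of_le (Ω := Ω) _ N hLN x b
    have h1 := feit_join hZ hxb hker hFcomm (Odd.of_dvd_nat hodd hdvd)
    have h2 := Nat.le_of_dvd (Odd.pos hodd) hdvd
    omega
  have hfeitG : Odd (Nat.card ↥(MulAction.stabilizer G x ⊓ MulAction.stabilizer G b)) →
      Fintype.card Ω - 2 ≤ 2 * Nat.card ↥(MulAction.stabilizer G x ⊓ MulAction.stabilizer G b) := by
    intro hodd
    -- pass from `G` to `L`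
    have hdvd : Nat.card ↥(MulAction.stabilizer (Cfsg.Agent.Lib.Zass.Simple.joinKernels hZ) x ⊓
        MulAction.stabilizer (Cfsg.Agent.Lib.Zass.Simple.joinKernels hZ) b) ∣
        Nat.card ↥(MulAction.stabilizer G x ⊓ MulAction.stabilizer G b) := by
      classical
      let L := Cfsg.Agent.Lib.Zass.Simple.joinKernels hZ
      let f : ↥(MulAction.stabilizer L x ⊓ MulAction.stabilizer L b) →*
          ↥(MulAction.stabilizer G x ⊓ MulAction.stabilizer G b) :=
        { toFun := fun y => ⟨((y : L) : G), y.2.1, y.2.2⟩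
          map_one' := rfl
          map_mul' := fun _ _ => rfl }
      have hf : Function.Injective f := by
        intro y z h
        have h1 : ((f y : ↥(MulAction.stabilizer G x ⊓ MulAction.stabilizer G b)) : G)
            = ((f z : ↥(MulAction.stabilizer G x ⊓ MulAction.stabilizer G b)) : G) := by rw [h]
        exact Subtype.ext (Subtype.ext h1)
      exact Subgroup.card_dvd_of_injective f hf
    have h1 := feit_join hZ hxb hker hFcomm (Odd.of_dvd_nat hodd hdvd)
    have h2 := Nat.le_of_dvd (Odd.pos hodd) hdvd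
    omega
  exact Cfsg.Agent.Lib.Perm.ZassAb.abelian_core hZ hxb hF hFcomm hfeitG hfeitN

end Cfsg.Agent.S0731
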