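import Cfsg.Statements.S0495
import Mathlib
import Cfsg.Agent.S0731
import Cfsg.Agent.Lib.SmallCen.SylowZass
import Cfsg.Agent.Lib.SmallCen.SmallOrder
import Cfsg.Agent.Lib.Compute.SmallField
import Cfsg.Agent.Lib.PSL2.Basic

set_option autoImplicit false
open Cfsg

namespace Cfsg.Agent.S0495

/-- A simple group of order 168 is isomorphic to the projective special linear group of dimension 2 over the field with
7 elements. -/
theorem result {G : Type*} [Group G] [Finite G] [IsSimpleGroup G]
    (h : Nat.card G = 168) {F : Type*} [Field F] [Fintype F] (hF : Fintype.card F = 7) :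
    Nonempty (G ≃* Matrix.ProjectiveSpecialLinearGroup (Fin 2) F) := by
  classical
  open Cfsg.Agent.Lib.SmallCen.SylowZass Cfsg.Agent.Lib.SmallCen.SmallOrder in
  haveI : Fact (Nat.Prime 7) := ⟨by norm_num⟩
  obtain ⟨P⟩ : Nonempty (Sylow 7 G) := inferInstance
  have hp : ∀ Q : Sylow 7 G, Nat.card (Q : Subgroup G) = 7 := fun Q => by
    simpa using Cfsg.Agent.Lib.SmallCen.SmallOrder.card_sylow_eq (a := 1) (m := 24) (by rw [h]; norm_num) (by norm_num) Q
  have hidx : (P : Subgroup G).index = 24 := by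
    have := Subgroup.card_mul_index (P : Subgroup G)
    rw [hp P, h] at this
    omega
  have hmod := card_sylow_modEq_one 7 G
  have hdvd := P.card_dvd_index
  rw [hidx] at hdvd
  have hn8 : Nat.card (Sylow 7 G) = 1 ∨ Nat.card (Sylow 7 G) = 8 := by
    have hle := Nat.le_of_dvd (by norm_num) hdvd
    generalize Nat.card (Sylow 7 G) = n at hmod hdvd hle ⊢
    unfold Nat.ModEq at hmod
    interval_cases n <;> first | omega | (exfalso; revert hdvd; norm_num)
  have hntop := Cfsg.Agent.Lib.SmallCen.SmallOrder.normalizer_ne_top P (by rw [hp P]; norm_num)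
    (by rw [hp P, h]; norm_num)
  have hnidx := P.card_eq_index_normalizer
  have hn : Nat.card (Sylow 7 G) = 8 := by
    rcases hn8 with h1 | h1
    · exfalso
      rw [h1] at hnidx
      exact hntop (Subgroup.index_eq_one.1 hnidx.symm)
    · exact h1
  have hcard : ∀ Q : Sylow 7 G, Nat.card (Sylow 7 G) = Nat.card (Q : Subgroup G) + 1 := fun Q => by
    rw [hn, hp Q]
  have hTI := Cfsg.Agent.Lib.SmallCen.SmallOrder.ti_of_prime hp
  have hNcard : Nat.card (Subgroup.normalizer (P : Set G)) = 21 := by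
    have := Subgroup.card_mul_index (Subgroup.normalizer (P : Set G))
    rw [← hnidx, hn, h] at this
    omega
  obtain ⟨Q, hQ⟩ : ∃ Q : Sylow 7 G, P ≠ Q := by
    haveI : Nontrivial (Sylow 7 G) := by
      apply Finite.one_lt_card_iff_nontrivial.1
      rw [hn]; norm_num
    obtain ⟨Q, hQ⟩ := exists_ne P
    exact ⟨Q, hQ.symm⟩
  have htwo := Cfsg.Agent.Lib.SmallCen.SylowZass.two_of_card hcard P Q hQ (by rw [hp P, hNcard]; norm_num)
  haveI hfaith : FaithfulSMul G (Sylow 7 G) := Cfsg.Agent.Lib.SmallCen.SylowZass.faithful hQ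
  have hthree := Cfsg.Agent.Lib.SmallCen.SylowZass.three_of_prime hcard hTI hp
  have hZ := Cfsg.Agent.Lib.SmallCen.SylowZass.isZassenhaus hcard hTI hthree htwo
  have hFle : (P : Subgroup G) ≤ MulAction.stabilizer G P := fun v hv =>
    Cfsg.Agent.Lib.SmallCen.SylowZass.smul_self_of_mem P hv
  have hFn : ((P : Subgroup G).subgroupOf (MulAction.stabilizer G P)).Normal := by
    constructor
    intro n hn' g
    have hg : (g : G) ∈ Subgroup.normalizer (P : Set G) := Sylow.smul_eq_iff_mem_normalizer.1 g.2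
    rw [Subgroup.mem_subgroupOf] at hn' ⊢
    exact (Subgroup.mem_normalizer_iff.1 hg _).1 hn'
  have hFab : IsMulCommutative (P : Subgroup G) := by
    haveI : Fact (Nat.card (P : Subgroup G)).Prime := ⟨by rw [hp P]; norm_num⟩
    haveI := isCyclic_of_prime_card (α := (P : Subgroup G)) rfl
    exact IsCyclic.commutative
  have hreg := Cfsg.Agent.Lib.SmallCen.SylowZass.regular hcard hTI P
  rcases Cfsg.Agent.S0731.result hZ P (P : Subgroup G) hFle hFn hFab hreg with ⟨h3, hs⟩ | ⟨K, _, _, hK, ⟨eK⟩⟩
  · exfalso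
    haveI : Fintype (Sylow 7 G) := Fintype.ofFinite _
    have hc3 : 3 ≤ Fintype.card (Sylow 7 G) := by
      rw [← Nat.card_eq_fintype_card, hn]; norm_num
    obtain ⟨t₀⟩ : Nonempty (Fin 3 ↪ Sylow 7 G) := Function.Embedding.nonempty_of_card_le (by simpa using hc3)
    have := Cfsg.Agent.Lib.SmallCen.SmallOrder.card_of_sharp h3 hs t₀
    rw [← Nat.card_eq_fintype_card, hn, h] at this
    revert this
    decide
  · have h2K : (2 : K) ≠ 0 := Ring.two_ne_zero hK
    have hcK := Cfsg.Agent.Lib.PSL2.Basic.card_PSL2_of_two_ne_zero h2K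
    rw [← Nat.card_congr eK.toEquiv, h] at hcK
    have hq : Fintype.card K = 7 := by
      generalize Fintype.card K = q at hcK
      have hlt : q < 8 := by
        by_contra hge
        push Not at hge
        have h4 : 8 ^ 2 - 1 ≤ q ^ 2 - 1 := Nat.sub_le_sub_right (Nat.pow_le_pow_left hge 2) 1
        have := Nat.mul_le_mul hge h4
        omega
      interval_cases q <;> first | rfl | omega
    exact ⟨eK.trans (Cfsg.Agent.Lib.Compute.SmallField.pslCongr
      (FiniteField.ringEquivOfCardEq (hq.trans hF.symm)))⟩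

end Cfsg.Agent.S0495
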