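import Cfsg.Statements.S0344
import Mathlib
import Cfsg.Agent.Lib.Perm.ZassSharp
import Cfsg.Agent.Lib.Frobenius.Basic
import Cfsg.Agent.S0741

set_option autoImplicit false
open Cfsg

namespace Cfsg.Agent.S0344

/-- A finite simple Zassenhaus group with a two-point stabiliser of even order is isomorphic to `PSL₂(F)` for a finite
field `F` with more than three elements. -/
theorem result {G Ω : Type*} [Group G] [Finite G] [MulAction G Ω] [Finite Ω]
    (hZ : Cfsg.IsZassenhausGroup G Ω) [IsSimpleGroup G]
    {a b : Ω} (hab : a ≠ b) (heven : Even (Nat.card ↥(MulAction.stabilizer G a ⊓ MulAction.stabilizer G b))) :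
    ∃ (F : Type) (_ : Field F) (_ : Fintype F), 3 < Fintype.card F ∧ Nonempty (G ≃* Matrix.ProjectiveSpecialLinearGroup (Fin 2) F) := by
  classical
  haveI : Fintype Ω := Fintype.ofFinite Ω
  have h1 := Cfsg.Agent.S0741.result hZ hab heven
  set d := Nat.card ↥(MulAction.stabilizer G a ⊓ MulAction.stabilizer G b) with hd
  have hdpos : 0 < d := Nat.card_pos
  obtain ⟨z, hza, hzb, hz1, hz2⟩ := Cfsg.Agent.Lib.Perm.ZassEven.exists_involution heven
  haveI hfaith : FaithfulSMul G Ω := hZ.1
  -- the degree is at least three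
  obtain ⟨x, hx⟩ : ∃ x : Ω, z • x ≠ x := by
    by_contra hno
    push Not at hno
    exact hz1 (FaithfulSMul.eq_of_smul_eq_smul (fun y : Ω => by rw [hno y, one_smul]))
  have hxa : x ≠ a := fun h => hx (by rw [h, hza])
  have hxb : x ≠ b := fun h => hx (by rw [h, hzb])
  -- `d` divides `|Ω| - 2`
  let S : SubMulAction ↥(MulAction.stabilizer G a ⊓ MulAction.stabilizer G b) Ω :=
    { carrier := {y | y ≠ a ∧ y ≠ b}
      smul_mem' := by
        intro h y hy
        have hha : (h : G) • a = a := (Subgroup.mem_inf.mp h.2).1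
        have hhb : (h : G) • b = b := (Subgroup.mem_inf.mp h.2).2
        refine ⟨fun hc => hy.1 ?_, fun hc => hy.2 ?_⟩
        · have : (h : G) • y = (h : G) • a := by rw [hha]; exact hc
          exact MulAction.injective (h : G) this
        · have : (h : G) • y = (h : G) • b := by rw [hhb]; exact hc
          exact MulAction.injective (h : G) this }
  have hSfree : ∀ (h : ↥(MulAction.stabilizer G a ⊓ MulAction.stabilizer G b)) (y : S), h • y = y → h = 1 := by
    intro h y he
    have he' : (h : G) • (y : Ω) = y := congrArg Subtype.val he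
    have hha : (h : G) • a = a := (Subgroup.mem_inf.mp h.2).1
    have hhb : (h : G) • b = b := (Subgroup.mem_inf.mp h.2).2
    apply Subtype.ext
    exact Cfsg.Agent.Lib.Perm.ZassCore.eq_one_of_fix3 hZ hab (Ne.symm y.2.2) (Ne.symm y.2.1) hha hhb he'
  have hdvd : d ∣ Nat.card S := Cfsg.Agent.Lib.Frobenius.Basic.card_dvd_of_free hSfree
  have hScard : Nat.card S = Fintype.card Ω - 2 := by
    have h2 : Nat.card S = Nat.card {y : Ω // y ≠ a ∧ y ≠ b} := rfl
    rw [h2, Nat.card_eq_fintype_card, Fintype.card_subtype]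
    have h3 : Finset.univ.filter (fun y : Ω => y ≠ a ∧ y ≠ b) = (Finset.univ.erase a).erase b := by
      ext y
      simp [and_comm]
    rw [h3, Finset.card_erase_of_mem (by simp [hab.symm]), Finset.card_erase_of_mem (Finset.mem_univ _),
      Finset.card_univ]
    omega
  rw [hScard] at hdvd
  have hgt : 3 ≤ Fintype.card Ω := by
    have h3 : ({a, b, x} : Finset Ω).card = 3 := by
      rw [Finset.card_eq_three]
      exact ⟨a, b, x, hab, hxa.symm, hxb.symm, rfl⟩
    rw [← h3]
    exact Finset.card_le_univ _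
  obtain ⟨e, he⟩ := hdvd
  have he1 : 1 ≤ e := by
    rcases Nat.eq_zero_or_pos e with h0 | h0
    · rw [h0] at he
      omega
    · exact h0
  have he2 : e ≤ 2 := by
    by_contra hc
    have : d * 3 ≤ d * e := Nat.mul_le_mul_left d (by omega)
    omega
  have heven' : 2 ≤ d := by
    obtain ⟨m, hm⟩ := heven
    omega
  interval_cases e
  · exfalso
    exact Cfsg.Agent.Lib.Perm.ZassSharp.not_simple hZ hab heven (by omega)
  · obtain ⟨p, f, K, iF, iK, hp, hp2, hKp, hΩ, hiso⟩ :=
      Cfsg.Agent.Lib.Perm.ZassTwo.even_main hZ hab heven (by omega)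
    refine ⟨K, iF, iK, ?_, hiso⟩
    omega

end Cfsg.Agent.S0344
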