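import Cfsg.Statements.S0497
import Mathlib
import Cfsg.Agent.S0344
import Cfsg.Agent.S0254
import Cfsg.Agent.Lib.SmallCen.Order360
import Cfsg.Agent.Lib.PSL2.Basic

set_option autoImplicit false
open Cfsg

namespace Cfsg.Agent.S0497

/-- A simple group of order 360 is isomorphic to the alternating group of degree 6. -/
theorem result {G : Type*} [Group G] [Finite G] [IsSimpleGroup G]
    (h : Nat.card G = 360) : Nonempty (G ≃* alternatingGroup (Fin 6)) := by
  classical
  obtain ⟨P⟩ : Nonempty (Sylow 3 G) := inferInstance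
  obtain ⟨T, Q, hT, hQ, hTP, hTQ⟩ := Cfsg.Agent.Lib.SmallCen.Order360.exists_T h P
  have hc := Cfsg.Agent.Lib.SmallCen.Order360.hcard h (G := G)
  have hTI := Cfsg.Agent.Lib.SmallCen.Order360.ti h (G := G)
  have htwo := Cfsg.Agent.Lib.SmallCen.SylowZass.two_of_card hc P Q hQ.symm
    (by rw [Cfsg.Agent.Lib.SmallCen.Order360.card_three h P,
      Cfsg.Agent.Lib.SmallCen.Order360.card_normalizer h P]; norm_num)
  haveI hfaith : FaithfulSMul G (Sylow 3 G) := Cfsg.Agent.Lib.SmallCen.SylowZass.faithful hQ.symm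
  have hZ := Cfsg.Agent.Lib.SmallCen.SylowZass.isZassenhaus hc hTI
    (Cfsg.Agent.Lib.SmallCen.Order360.three h) htwo
  have heven : Even (Nat.card ↥(MulAction.stabilizer G P ⊓ MulAction.stabilizer G Q)) := by
    have hle : T ≤ MulAction.stabilizer G P ⊓ MulAction.stabilizer G Q :=
      le_inf (fun t ht => hTP t ht) (fun t ht => hTQ t ht)
    have h1 := Subgroup.card_dvd_of_le hle
    rw [hT] at h1
    exact even_iff_two_dvd.2 ((by norm_num : 2 ∣ 4).trans h1)
  obtain ⟨K, _, _, hK3, ⟨eK⟩⟩ := Cfsg.Agent.S0344.result hZ hQ.symm heven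
  have hq : Fintype.card K = 9 := by
    by_cases h2K : (2 : K) = 0
    · exfalso
      have hcK := Cfsg.Agent.Lib.PSL2.Basic.card_PSL2_of_two_eq_zero h2K
      rw [← Nat.card_congr eK.toEquiv, h] at hcK
      generalize Fintype.card K = q at hcK
      have hlt : q < 9 := by
        by_contra hge
        push Not at hge
        have h4 : 9 ^ 2 - 1 ≤ q ^ 2 - 1 := Nat.sub_le_sub_right (Nat.pow_le_pow_left hge 2) 1
        have := Nat.mul_le_mul hge h4
        omega
      interval_cases q <;> omega
    · have hcK := Cfsg.Agent.Lib.PSL2.Basic.card_PSL2_of_two_ne_zero h2K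
      rw [← Nat.card_congr eK.toEquiv, h] at hcK
      generalize Fintype.card K = q at hcK
      have hlt : q < 10 := by
        by_contra hge
        push Not at hge
        have h4 : 10 ^ 2 - 1 ≤ q ^ 2 - 1 := Nat.sub_le_sub_right (Nat.pow_le_pow_left hge 2) 1
        have := Nat.mul_le_mul hge h4
        omega
      interval_cases q <;> first | rfl | omega
  obtain ⟨e2⟩ := Cfsg.Agent.S0254.result (F := K) hq
  exact ⟨eK.trans e2⟩

end Cfsg.Agent.S0497
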