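import Cfsg.Statements.S3341
import Cfsg.Agent.Lib.Blocks.TI9O
import Cfsg.Agent.S0497
import Cfsg.Agent.Lib.Basic.SylowUtil

set_option autoImplicit false
open Cfsg

namespace Cfsg.Agent.S3341

open Cfsg.Agent.Lib.Blocks.TI9 Cfsg.Agent.Lib.Blocks.SC3

/-- Let G be a finite simple group whose Sylow 3-subgroup S is elementary abelian of order 9, such that G has more than one conjugacy class of elements of order 3 and C_G(s) = S for every non-identity s in S. Then G is isomorphic to the alternating group of degree 6. -/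
theorem result {G : Type*} [Group G] [Finite G] [IsSimpleGroup G]
    (P : Sylow 3 G) (S : Subgroup G) (hSP : S = P) (hcomm : IsMulCommutative S) (hexp : ∀ a ∈ S, a ^ 3 = 1)
    (hcard : Nat.card S = 9)
    (hclasses : ∃ a b : G, orderOf a = 3 ∧ orderOf b = 3 ∧ ∀ g : G, g * a * g⁻¹ ≠ b)
    (hcent : ∀ s ∈ S, s ≠ 1 → Subgroup.centralizer ({s} : Set G) = S) :
    Nonempty (G ≃* alternatingGroup (Fin 6)) := by
  classical
  haveI : Fact (Nat.Prime 3) := ⟨Nat.prime_three⟩
  subst hSP
  have hc : ∀ a ∈ (P : Subgroup G), ∀ b ∈ (P : Subgroup G), a * b = b * a := by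
    intro a ha b hb
    have h1 := hcomm.is_comm.comm ⟨a, ha⟩ ⟨b, hb⟩
    exact congrArg Subtype.val h1
  have hF : Fpf9 (P : Subgroup G) := by
    refine ⟨hcard, hc, hexp, ?_, ?_, ?_⟩
    · intro s hs h1 c hc'
      rw [← hcent s hs h1]
      exact mem_Cn.mpr hc'
    · intro y hy
      have hp : IsPGroup 3 (Subgroup.zpowers y) := by
        apply IsPGroup.of_card (n := 1)
        rw [Nat.card_zpowers, hy, pow_one]
      obtain ⟨Q, hQ⟩ := hp.exists_le_sylow
      obtain ⟨g, hg⟩ := MulAction.exists_smul_eq G Q P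
      refine ⟨g, ?_⟩
      have h2 : g * y * g⁻¹ ∈ ((g • Q : Sylow 3 G) : Subgroup G) := by
        rw [Sylow.coe_subgroup_smul]
        exact ⟨y, hQ (Subgroup.mem_zpowers y), rfl⟩
      rwa [hg] at h2
    · intro a ha b hb hab
      obtain ⟨g, hg⟩ := isConj_iff.mp hab
      obtain ⟨n, hn, hn2⟩ := Cfsg.Agent.Lib.Basic.SylowUtil.burnside_fusion P {a} g
        (by
          rintro x rfl y hy
          exact hc _ ha y hy)
        (by
          rintro x rfl y hy
          rw [hg]
          exact hc _ hb y hy)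
      refine ⟨n, hn, ?_⟩
      rw [hn2 a rfl, hg]
  obtain ⟨a, b, ha, hb, hab⟩ := hclasses
  have hne : ¬ IsConj a b := by
    intro h
    obtain ⟨g, hg⟩ := isConj_iff.mp h
    exact hab g hg
  exact Cfsg.Agent.S0497.result (fpf9_card P hF ha hb hne)

end Cfsg.Agent.S3341
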