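import Cfsg.Statements.S0680
import Mathlib
-- import your own Cfsg.Agent.* helpers here

set_option autoImplicit false
open Cfsg

namespace Cfsg.Agent.S0680

open MulAction

/-- The structure of a finite sharply 2-transitive action: the fixed-point-free elements together
with the identity form a normal abelian regular subgroup of prime exponent. -/
theorem core {α : Type*} [Fintype α] {G : Type*} [Group G] [Finite G] [MulAction G α]
    (h2 : 2 ≤ Fintype.card α)
    (htr : ∀ a b c d : α, a ≠ b → c ≠ d → ∃ g : G, g • a = c ∧ g • b = d)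
    (hfix : ∀ (g : G) (a b : α), a ≠ b → g • a = a → g • b = b → g = 1)
    (hcard : Nat.card G = Fintype.card α * (Fintype.card α - 1)) :
    ∃ F : Subgroup G, F.Normal ∧ (∀ g, g ∈ F ↔ g = 1 ∨ ∀ a : α, g • a ≠ a) ∧
      (∀ x ∈ F, ∀ y ∈ F, x * y = y * x) ∧ (∀ a b : α, ∃ g ∈ F, g • a = b) ∧
      Nat.card F = Fintype.card α ∧ ∃ p : ℕ, p.Prime ∧ ∀ x ∈ F, x ^ p = 1 := by
  classical
  haveI := Fintype.ofFinite G
  set n := Fintype.card α with hn
  have hnpos : 0 < n := by omega
  haveI hnt : Nontrivial α := Fintype.one_lt_card_iff_nontrivial.mp (by omega)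
  have hne : ∀ a : α, ∃ b : α, a ≠ b := by
    intro a
    obtain ⟨b, hb⟩ := exists_ne a
    exact ⟨b, hb.symm⟩
  obtain ⟨a₀⟩ : Nonempty α := inferInstance
  have htrans : IsPretransitive G α := by
    refine ⟨fun a b => ?_⟩
    obtain ⟨a', ha'⟩ := hne a
    obtain ⟨b', hb'⟩ := hne b
    obtain ⟨g, hg, -⟩ := htr a a' b b' ha' hb'
    exact ⟨g, hg⟩
  have hstab : ∀ a : α, Nat.card (stabilizer G a) = n - 1 := by
    intro a
    have h1 := Subgroup.card_mul_index (stabilizer G a)
    rw [index_stabilizer_of_transitive, hcard, Nat.card_eq_fintype_card (α := α)] at h1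
    exact Nat.eq_of_mul_eq_mul_right hnpos (by rw [h1]; ring)
  let st : α → Finset G := fun a => Finset.univ.filter (fun g => g • a = a)
  have hst : ∀ a, (st a).card = n - 1 := by
    intro a
    rw [← hstab a]
    exact (Nat.subtype_card (st a) (fun g => by simp [st, mem_stabilizer_iff])).symm
  have hst1 : ∀ a, (1 : G) ∈ st a := by
    intro a
    simp [st]
  let E : Finset G := Finset.univ.biUnion (fun a => (st a).erase 1)
  have hEmem : ∀ g, g ∈ E ↔ g ≠ 1 ∧ ∃ a : α, g • a = a := by
    intro g
    simp only [E, st, Finset.mem_biUnion, Finset.mem_univ, true_and, Finset.mem_erase,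
      Finset.mem_filter]
    constructor
    · rintro ⟨a, h1, h3⟩
      exact ⟨h1, a, h3⟩
    · rintro ⟨h1, a, h3⟩
      exact ⟨a, h1, h3⟩
  have hEcard : E.card = n * (n - 2) := by
    have hdisj : ∀ x ∈ (Finset.univ : Finset α), ∀ y ∈ (Finset.univ : Finset α), x ≠ y →
        Disjoint ((st x).erase 1) ((st y).erase 1) := by
      intro x _ y _ hxy
      rw [Finset.disjoint_left]
      intro g hgx hgy
      simp only [st, Finset.mem_erase, Finset.mem_filter, Finset.mem_univ, true_and] at hgx hgy
      exact hgx.1 (hfix g x y hxy hgx.2 hgy.2)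
    simp only [E]
    rw [Finset.card_biUnion hdisj]
    have : ∀ a ∈ (Finset.univ : Finset α), ((st a).erase 1).card = n - 2 := by
      intro a _
      rw [Finset.card_erase_of_mem (hst1 a), hst a]
      omega
    rw [Finset.sum_congr rfl this, Finset.sum_const, smul_eq_mul, Finset.card_univ]
  let F' : Finset G := Eᶜ
  have hF'mem : ∀ g, g ∈ F' ↔ g = 1 ∨ ∀ a : α, g • a ≠ a := by
    intro g
    simp only [F', Finset.mem_compl, hEmem, not_and, not_exists]
    constructor
    · intro h
      by_cases hg : g = 1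
      · exact Or.inl hg
      · exact Or.inr (h hg)
    · rintro (h | h) h'
      · exact (h' h).elim
      · exact h
  have hF'card : F'.card = n := by
    have h1 : F'.card + E.card = Fintype.card G := Finset.card_compl_add_card E
    rw [hEcard, ← Nat.card_eq_fintype_card, hcard] at h1
    obtain ⟨m, hm⟩ : ∃ m, n = m + 2 := ⟨n - 2, by omega⟩
    rw [hm] at h1 ⊢
    simp only [Nat.add_sub_cancel] at h1
    have h3 : (m + 2) * (m + 2 - 1) = (m + 2) * m + (m + 2) := by
      have : m + 2 - 1 = m + 1 := by omega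
      rw [this]; ring
    omega
  have hF'conj : ∀ x ∈ F', ∀ g : G, g * x * g⁻¹ ∈ F' := by
    intro x hx g
    rw [hF'mem] at hx ⊢
    rcases hx with rfl | hx
    · left; simp
    · right
      intro a ha
      apply hx (g⁻¹ • a)
      rw [← mul_smul]
      have : x * g⁻¹ = g⁻¹ * (g * x * g⁻¹) := by group
      rw [this, mul_smul, ha]
  -- the centralizer of a nontrivial element of F'
  have hkey : ∀ x ∈ F', x ≠ 1 →
      (∀ g, g ∈ F' ↔ g ∈ Subgroup.centralizer ({x} : Set G)) ∧
      (∀ g, (g ∈ F' ∧ g ≠ 1) → IsConj x g) := by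
    intro x hxF hx1
    have hxfpf : ∀ a : α, x • a ≠ a := ((hF'mem x).mp hxF).resolve_left hx1
    set C := Subgroup.centralizer ({x} : Set G) with hC
    have hCmem : ∀ c, c ∈ C ↔ c * x = x * c := by
      intro c
      rw [hC, Subgroup.mem_centralizer_singleton_iff]
    have hCfix : ∀ c ∈ C, ∀ a : α, c • a = a → c = 1 := by
      intro c hc a ha
      refine hfix c a (x • a) (hxfpf a).symm ha ?_
      rw [← mul_smul, (hCmem c).mp hc, mul_smul, ha]
    have hCF : ∀ c ∈ C, c ∈ F' := by
      intro c hc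
      rw [hF'mem]
      by_cases h : c = 1
      · exact Or.inl h
      · right
        intro a ha
        exact h (hCfix c hc a ha)
    have hCle : Nat.card C ≤ n := by
      rw [hn, ← Nat.card_eq_fintype_card]
      apply Nat.card_le_card_of_injective (fun c : C => (c : G) • a₀)
      intro c d hcd
      have hcd' : (c : G) • a₀ = (d : G) • a₀ := hcd
      have h1 : (d : G)⁻¹ * (c : G) ∈ C := mul_mem (inv_mem d.2) c.2
      have h3 := hCfix _ h1 a₀ (by rw [mul_smul, hcd', inv_smul_smul])
      apply Subtype.ext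
      exact (inv_mul_eq_one.mp h3).symm
    have horbeq : Nat.card (G ⧸ C) = Nat.card (orbit (ConjAct G) x) := by
      exact (Nat.card_congr ((MulAction.orbitEquivQuotientStabilizer (ConjAct G) x).trans
        (Subgroup.quotientEquivOfEq (ConjAct.stabilizer_eq_centralizer x)))).symm
    have horbsub : orbit (ConjAct G) x ⊆ ((F'.erase 1 : Finset G) : Set G) := by
      intro y hy
      rw [ConjAct.mem_orbit_conjAct] at hy
      obtain ⟨g, rfl⟩ := isConj_iff.mp hy.symm
      simp only [Finset.coe_erase, Set.mem_diff, Finset.mem_coe, Set.mem_singleton_iff]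
      refine ⟨hF'conj x hxF g, ?_⟩
      intro h
      apply hx1
      have : x = g⁻¹ * (g * x * g⁻¹) * g := by group
      rw [this, h]
      group
    have horble : Nat.card (orbit (ConjAct G) x) ≤ n - 1 := by
      rw [Nat.card_coe_set_eq]
      calc (orbit (ConjAct G) x).ncard ≤ ((F'.erase 1 : Finset G) : Set G).ncard :=
            Set.ncard_le_ncard horbsub (Finset.finite_toSet _)
        _ = n - 1 := by
            rw [Set.ncard_coe_finset, Finset.card_erase_of_mem, hF'card]
            rw [hF'mem]; exact Or.inl rfl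
    have hprod := Subgroup.card_mul_index C
    rw [Subgroup.index, horbeq, hcard] at hprod
    have hCeq : Nat.card C = n := by
      apply le_antisymm hCle
      by_contra hlt
      push Not at hlt
      have h1 : Nat.card C * Nat.card (orbit (ConjAct G) x) ≤ (n - 1) * (n - 1) :=
        Nat.mul_le_mul (by omega) horble
      have h3 : (n - 1) * (n - 1) < n * (n - 1) :=
        Nat.mul_lt_mul_of_pos_right (by omega) (by omega)
      omega
    have hOeq : Nat.card (orbit (ConjAct G) x) = n - 1 := by
      rw [hCeq] at hprod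
      exact Nat.eq_of_mul_eq_mul_left hnpos hprod
    have hCset : (C : Set G) = (F' : Set G) := by
      apply Set.eq_of_subset_of_ncard_le
      · intro c hc
        exact hCF c hc
      · rw [Set.ncard_coe_finset, hF'card, ← hCeq]
        exact (Nat.card_coe_set_eq (C : Set G)).ge
      · exact Finset.finite_toSet _
    have hOset : orbit (ConjAct G) x = ((F'.erase 1 : Finset G) : Set G) := by
      apply Set.eq_of_subset_of_ncard_le horbsub
      · rw [Set.ncard_coe_finset, Finset.card_erase_of_mem, hF'card, ← hOeq, Nat.card_coe_set_eq]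
        rw [hF'mem]; exact Or.inl rfl
    constructor
    · intro g
      have : g ∈ (F' : Set G) ↔ g ∈ (C : Set G) := by rw [hCset]
      simpa using this
    · rintro g ⟨hg, hg1⟩
      have : g ∈ orbit (ConjAct G) x := by
        rw [hOset]
        simp [hg, hg1]
      rw [ConjAct.mem_orbit_conjAct] at this
      exact this.symm
  -- a nontrivial element
  obtain ⟨x₀, hx₀F, hx₀1⟩ : ∃ x ∈ F', x ≠ 1 := by
    have : 1 < F'.card := by omega
    obtain ⟨u, hu, v, hv, huv⟩ := Finset.one_lt_card.mp this
    by_cases hu1 : u = 1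
    · exact ⟨v, hv, fun h => huv (hu1.trans h.symm)⟩
    · exact ⟨u, hu, hu1⟩
  obtain ⟨hcentr, hconj⟩ := hkey x₀ hx₀F hx₀1
  set F := Subgroup.centralizer ({x₀} : Set G) with hFdef
  have hFmem : ∀ g, g ∈ F ↔ g = 1 ∨ ∀ a : α, g • a ≠ a := by
    intro g
    rw [← hcentr, hF'mem]
  have hFnorm : F.Normal := by
    refine ⟨fun x hx g => ?_⟩
    rw [← hcentr] at hx ⊢
    exact hF'conj x hx g
  have hFcomm : ∀ x ∈ F, ∀ y ∈ F, x * y = y * x := by
    intro x hx y hy
    rw [← hcentr] at hx hy
    by_cases hx1 : x = 1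
    · simp [hx1]
    · have := ((hkey x hx hx1).1 y).mp hy
      rw [Subgroup.mem_centralizer_singleton_iff] at this
      exact this.symm
  have hFcard : Nat.card F = n := by
    rw [← hF'card]
    exact Nat.subtype_card F' (fun g => hcentr g)
  have hFinj : ∀ a : α, Function.Injective (fun g : F => (g : G) • a) := by
    intro a c d hcd
    have hcd' : (c : G) • a = (d : G) • a := hcd
    have h1 : (d : G)⁻¹ * (c : G) ∈ F := mul_mem (inv_mem d.2) c.2
    rcases (hFmem _).mp h1 with h | h
    · apply Subtype.ext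
      exact (inv_mul_eq_one.mp h).symm
    · exact (h a (by rw [mul_smul, hcd', inv_smul_smul])).elim
  have hFtrans : ∀ a b : α, ∃ g ∈ F, g • a = b := by
    intro a b
    have hbij : Function.Bijective (fun g : F => (g : G) • a) := by
      rw [Fintype.bijective_iff_injective_and_card]
      refine ⟨hFinj a, ?_⟩
      rw [← Nat.card_eq_fintype_card, hFcard]
    obtain ⟨g, hg⟩ := hbij.2 b
    exact ⟨g, g.2, hg⟩
  refine ⟨F, hFnorm, hFmem, hFcomm, hFtrans, hFcard, ?_⟩
  -- prime exponent
  have hordne : orderOf x₀ ≠ 1 := by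
    rw [Ne, orderOf_eq_one_iff]; exact hx₀1
  set p := (orderOf x₀).minFac with hp
  have hpp : p.Prime := Nat.minFac_prime hordne
  have hord : 0 < orderOf x₀ := orderOf_pos x₀
  have hpdvd : p ∣ orderOf x₀ := Nat.minFac_dvd _
  have hy : orderOf (x₀ ^ (orderOf x₀ / p)) = p := orderOf_pow_orderOf_div hord.ne' hpdvd
  have hyF : x₀ ^ (orderOf x₀ / p) ∈ F' := by
    rw [hcentr]
    apply pow_mem
    rw [← hcentr]
    exact hx₀F
  have hy1 : x₀ ^ (orderOf x₀ / p) ≠ 1 := by
    intro h
    rw [h, orderOf_one] at hy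
    exact hpp.one_lt.ne hy
  have hoc : ∀ u v : G, IsConj u v → orderOf u = orderOf v := by
    intro u v huv
    obtain ⟨g, rfl⟩ := isConj_iff.mp huv
    have := MulEquiv.orderOf_eq (MulAut.conj g) u
    simpa [MulAut.conj_apply] using this.symm
  have hordx : orderOf x₀ = p := by
    rw [← hy]
    exact hoc _ _ (hconj _ ⟨hyF, hy1⟩)
  refine ⟨p, hpp, ?_⟩
  intro x hx
  by_cases hx1 : x = 1
  · simp [hx1]
  · have h1 := hconj x ⟨(hcentr x).mpr hx, hx1⟩
    have h3 : orderOf x = p := (hoc _ _ h1).symm.trans hordx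
    rw [← h3]
    exact pow_orderOf_eq_one x


/-- A finite sharply doubly transitive permutation group has degree a prime power `p ^ j`; a Sylow `p`-subgroup is normal, elementary abelian and regular, and consists of the identity together with the elements without fixed points. (Frobenius' Theorem is not needed.) -/
theorem result {α : Type*} [Fintype α] [DecidableEq α] (G : Subgroup (Equiv.Perm α)) [MulAction.IsMultiplyPretransitive G α 2] (hsharp : ∀ x : Fin 2 ↪ α, MulAction.stabilizer G x = ⊥) (h2 : 2 ≤ Fintype.card α) : ∃ p j : ℕ, p.Prime ∧ 1 ≤ j ∧ Fintype.card α = p ^ j ∧ ∀ (hp : Fact p.Prime) (P : Sylow p G), (P : Subgroup G).Normal ∧ IsMulCommutative (P : Subgroup G) ∧ (∀ x ∈ (P : Subgroup G), x ^ p = 1) ∧ MulAction.IsPretransitive (P : Subgroup G) α ∧ (∀ a : α, MulAction.stabilizer (P : Subgroup G) a = ⊥) ∧ ∀ g : G, g ∈ (P : Subgroup G) ↔ g = 1 ∨ ∀ a : α, g • a ≠ a := by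
  classical
  have htr : ∀ a b c d : α, a ≠ b → c ≠ d → ∃ g : G, g • a = c ∧ g • b = d := by
    intro a b c d hab hcd
    exact is_two_pretransitive_iff.mp inferInstance hab hcd
  have hemb : ∀ a b : α, a ≠ b → ∃ x : Fin 2 ↪ α, x 0 = a ∧ x 1 = b := by
    intro a b hab
    refine ⟨⟨![a, b], ?_⟩, rfl, rfl⟩
    intro i j hij
    fin_cases i <;> fin_cases j <;> simp_all
  have hfix : ∀ (g : G) (a b : α), a ≠ b → g • a = a → g • b = b → g = 1 := by
    intro g a b hab ha hb
    obtain ⟨x, rfl, rfl⟩ := hemb a b hab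
    have h1 : g ∈ stabilizer G x := by
      rw [mem_stabilizer_iff]
      ext i
      fin_cases i
      · exact ha
      · exact hb
    rw [hsharp x, Subgroup.mem_bot] at h1
    exact h1
  have hcard : Nat.card G = Fintype.card α * (Fintype.card α - 1) := by
    haveI hnt : Nontrivial α := Fintype.one_lt_card_iff_nontrivial.mp (by omega)
    obtain ⟨a, b, hab⟩ := exists_pair_ne α
    obtain ⟨x, -, -⟩ := hemb a b hab
    have hpre := ‹IsMultiplyPretransitive G α 2›
    have h1 : (stabilizer G x).index = Nat.card (Fin 2 ↪ α) := by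
      rw [index_stabilizer, (isPretransitive_iff_orbit_eq_univ x).mp hpre]
      simp
    rw [hsharp x, Subgroup.index_bot, Nat.card_eq_fintype_card (α := Fin 2 ↪ α),
      Fintype.card_embedding_eq, Fintype.card_fin] at h1
    rw [h1, show (2 : ℕ) = 1 + 1 from rfl, Nat.descFactorial_succ, Nat.descFactorial_one]
    ring
  obtain ⟨F, hFnorm, hFmem, hFcomm, hFtrans, hFcard, p, hpp, hFexp⟩ := core h2 htr hfix hcard
  haveI : Fact p.Prime := ⟨hpp⟩
  have hpg : IsPGroup p F := by
    intro g
    refine ⟨1, ?_⟩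
    apply Subtype.ext
    simpa using hFexp g g.2
  obtain ⟨j, hj⟩ := IsPGroup.iff_card.mp hpg
  have hjpos : 1 ≤ j := by
    rcases Nat.eq_zero_or_pos j with rfl | h
    · rw [hFcard] at hj
      simp at hj
      omega
    · exact h
  have hn : Fintype.card α = p ^ j := hFcard.symm.trans hj
  refine ⟨p, j, hpp, hjpos, hn, ?_⟩
  intro _ P
  have hFP : (P : Subgroup G) = F := by
    symm
    apply Subgroup.eq_of_le_of_card_ge (IsPGroup.le_sylow_of_normal hpg P)
    obtain ⟨k, hk⟩ := IsPGroup.iff_card.mp P.isPGroup'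
    rw [hk, hj]
    have hdvd : p ^ k ∣ p ^ j * (p ^ j - 1) := by
      rw [← hk, ← hn, ← hcard]
      exact Subgroup.card_subgroup_dvd_card _
    have hcop : Nat.Coprime (p ^ k) (p ^ j - 1) := by
      apply Nat.Coprime.pow_left
      rw [Nat.Prime.coprime_iff_not_dvd hpp]
      intro hd
      have h1 : p ∣ p ^ j := dvd_pow_self p (by omega)
      have h3 : p ∣ p ^ j - (p ^ j - 1) := Nat.dvd_sub h1 hd
      have hpos : 0 < p ^ j := pow_pos hpp.pos j
      have h4 : p ^ j - (p ^ j - 1) = 1 := by omega
      rw [h4] at h3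
      exact hpp.one_lt.ne' (Nat.dvd_one.mp h3)
    have hd := hcop.dvd_of_dvd_mul_right hdvd
    exact Nat.le_of_dvd (pow_pos hpp.pos j) hd
  subst hFP
  refine ⟨hFnorm, ⟨⟨fun a b => Subtype.ext (hFcomm a a.2 b b.2)⟩⟩, hFexp, ?_, ?_, hFmem⟩
  · refine ⟨fun a b => ?_⟩
    obtain ⟨g, hg, h⟩ := hFtrans a b
    exact ⟨⟨g, hg⟩, h⟩
  · intro a
    rw [eq_bot_iff]
    intro m hm
    rw [Subgroup.mem_bot]
    have hm' : (m : G) • a = a := hm
    rcases (hFmem m).mp m.2 with h | h
    · exact Subtype.ext h
    · exact (h a hm').elim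

end Cfsg.Agent.S0680
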