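import Cfsg.Statements.S0727
import Mathlib
import Cfsg.Agent.S0680
import Cfsg.Agent.Lib.Perm.ZassField
import Cfsg.Agent.Lib.Perm.MoebiusPGL
import Cfsg.Agent.Lib.PSL2.FieldEmbed

set_option autoImplicit false
open Cfsg

namespace Cfsg.Agent.S0727

open MulAction OnePoint
open scoped MatrixGroups
open Cfsg.Agent.Lib.Perm.MoebiusPGL

/-- A fixed point free involutory automorphism is the inversion. -/
theorem fpf_involution {H : Type*} [Group H] [Finite H] (τ : H →* H) (hτ : ∀ x, τ (τ x) = x)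
    (hfix : ∀ x, τ x = x → x = 1) : (∀ x, τ x = x⁻¹) ∧ ∀ x y : H, x * y = y * x := by
  have hinj : Function.Injective (fun x : H => x⁻¹ * τ x) := by
    intro x y hxy
    simp only at hxy
    have h1 : τ (y * x⁻¹) = y * x⁻¹ := by
      rw [map_mul, map_inv]
      have h2 : y * (y⁻¹ * τ y) = τ y := by group
      have h3 : τ y * (τ x)⁻¹ = y * (y⁻¹ * τ y) * (τ x)⁻¹ := by rw [h2]
      rw [h3, ← hxy]
      group
    have := hfix _ h1
    rw [mul_inv_eq_one] at this
    exact this.symm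
  have hsurj := Finite.surjective_of_injective hinj
  have hinv : ∀ x, τ x = x⁻¹ := by
    intro y
    obtain ⟨x, rfl⟩ := hsurj y
    simp only [map_mul, map_inv, hτ, mul_inv_rev, inv_inv]
  refine ⟨hinv, ?_⟩
  intro x y
  have h1 : τ (x * y) = τ x * τ y := map_mul τ x y
  rw [hinv, hinv, hinv, mul_inv_rev] at h1
  have h2 : (y⁻¹ * x⁻¹)⁻¹ = (x⁻¹ * y⁻¹)⁻¹ := by rw [h1]
  simpa using h2

/-- The translation subgroup of the stabiliser of a point. -/
theorem exists_translations {G α : Type*} [Group G] [Finite G] [MulAction G α] [Fintype α]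
    (htr : ∀ a b c a' b' c' : α, a ≠ b → a ≠ c → b ≠ c → a' ≠ b' → a' ≠ c' → b' ≠ c' →
      ∃ g : G, g • a = a' ∧ g • b = b' ∧ g • c = c')
    (hfix : ∀ (g : G) (a b c : α), a ≠ b → a ≠ c → b ≠ c → g • a = a → g • b = b → g • c = c → g = 1)
    (inf a₀ b₀ : α) (h1 : inf ≠ a₀) (h2 : inf ≠ b₀) (h3 : a₀ ≠ b₀) :
    ∃ F : Subgroup G, (∀ u ∈ F, u • inf = inf) ∧ (∀ u ∈ F, ∀ x, x ≠ inf → u • x = x → u = 1) ∧
      (∀ x ∈ F, ∀ y ∈ F, x * y = y * x) ∧ (∀ x y, x ≠ inf → y ≠ inf → ∃ u ∈ F, u • x = y) ∧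
      (∀ m : G, m • inf = inf → ∀ u ∈ F, m * u * m⁻¹ ∈ F) := by
  classical
  let M : Subgroup G := stabilizer G inf
  let K₀ := {x : α // x ≠ inf}
  have hstab : ∀ (m : M) (x : α), x ≠ inf → (m : G) • x ≠ inf := by
    intro m x hx he
    apply hx
    have hm : (m : G) • inf = inf := m.2
    exact MulAction.injective (m : G) (he.trans hm.symm)
  letI : MulAction M K₀ :=
    { smul := fun m x => ⟨(m : G) • x.1, hstab m x.1 x.2⟩
      one_smul := fun x => Subtype.ext (one_smul G x.1)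
      mul_smul := fun m n x => Subtype.ext (mul_smul (m : G) (n : G) x.1) }
  have hsm : ∀ (m : M) (x : K₀), ((m • x : K₀) : α) = (m : G) • x.1 := fun _ _ => rfl
  have htr2 : ∀ a b c d : K₀, a ≠ b → c ≠ d → ∃ g : M, g • a = c ∧ g • b = d := by
    intro a b c d hab hcd
    have hab' : a.1 ≠ b.1 := fun h => hab (Subtype.ext h)
    have hcd' : c.1 ≠ d.1 := fun h => hcd (Subtype.ext h)
    obtain ⟨g, hg1, hg2, hg3⟩ := htr inf a.1 b.1 inf c.1 d.1 a.2.symm b.2.symm hab' c.2.symm
      d.2.symm hcd'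
    exact ⟨⟨g, hg1⟩, Subtype.ext hg2, Subtype.ext hg3⟩
  have hfix2 : ∀ (g : M) (a b : K₀), a ≠ b → g • a = a → g • b = b → g = 1 := by
    intro g a b hab ha hb
    have hab' : a.1 ≠ b.1 := fun h => hab (Subtype.ext h)
    have := hfix g.1 inf a.1 b.1 a.2.symm b.2.symm hab' g.2 (congrArg Subtype.val ha)
      (congrArg Subtype.val hb)
    exact Subtype.ext this
  let a₁ : K₀ := ⟨a₀, h1.symm⟩
  let b₁ : K₀ := ⟨b₀, h2.symm⟩
  have hab₁ : a₁ ≠ b₁ := fun h => h3 (congrArg Subtype.val h)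
  let x₀ : Fin 2 ↪ K₀ := ⟨![a₁, b₁], by
    intro i j hij
    fin_cases i <;> fin_cases j <;> simp_all⟩
  have hc2 : 2 ≤ Fintype.card K₀ := by
    have : Nontrivial K₀ := ⟨⟨a₁, b₁, hab₁⟩⟩
    exact Fintype.one_lt_card
  have hcard : Nat.card M = Fintype.card K₀ * (Fintype.card K₀ - 1) := by
    have e : M ≃ (Fin 2 ↪ K₀) := by
      refine Equiv.ofBijective (fun m => ⟨fun i => m • x₀ i, ?_⟩) ⟨?_, ?_⟩
      · intro i j hij
        exact x₀.injective (MulAction.injective m hij)
      · intro m n hmn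
        have ha : m • x₀ 0 = n • x₀ 0 := congrArg (fun y : Fin 2 ↪ K₀ => y 0) hmn
        have hb : m • x₀ 1 = n • x₀ 1 := congrArg (fun y : Fin 2 ↪ K₀ => y 1) hmn
        have h4 : (n⁻¹ * m) = 1 := by
          apply hfix2 _ (x₀ 0) (x₀ 1) (by simpa [x₀] using hab₁)
          · rw [mul_smul, ha, inv_smul_smul]
          · rw [mul_smul, hb, inv_smul_smul]
        rw [inv_mul_eq_one] at h4
        exact h4.symm
      · intro y
        have hne : y 0 ≠ y 1 := fun h => by simpa using y.injective h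
        obtain ⟨m, hm1, hm2⟩ := htr2 (x₀ 0) (x₀ 1) (y 0) (y 1) (by simpa [x₀] using hab₁) hne
        refine ⟨m, ?_⟩
        ext i
        fin_cases i
        · exact congrArg Subtype.val hm1
        · exact congrArg Subtype.val hm2
    rw [Nat.card_congr e, Nat.card_eq_fintype_card, Fintype.card_embedding_eq, Fintype.card_fin,
      show (2 : ℕ) = 1 + 1 from rfl, Nat.descFactorial_succ, Nat.descFactorial_one]
    ring
  obtain ⟨F₀, hFnorm, hFmem, hFcomm, hFtrans, -, -⟩ :=
    Cfsg.Agent.S0680.core hc2 htr2 hfix2 hcard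
  refine ⟨F₀.map M.subtype, ?_, ?_, ?_, ?_, ?_⟩
  · rintro _ ⟨u, -, rfl⟩
    exact u.2
  · rintro _ ⟨u, hu, rfl⟩ x hx hux
    rcases (hFmem u).mp hu with h4 | h4
    · rw [h4]
      rfl
    · exact absurd (Subtype.ext hux) (h4 ⟨x, hx⟩)
  · rintro _ ⟨u, hu, rfl⟩ _ ⟨w, hw, rfl⟩
    exact congrArg Subtype.val (hFcomm u hu w hw)
  · intro x y hx hy
    obtain ⟨u, hu, huxy⟩ := hFtrans ⟨x, hx⟩ ⟨y, hy⟩
    exact ⟨u, ⟨u, hu, rfl⟩, congrArg Subtype.val huxy⟩
  · rintro m hm _ ⟨u, hu, rfl⟩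
    exact ⟨⟨m, hm⟩ * u * ⟨m, hm⟩⁻¹, hFnorm.conj_mem u hu _, rfl⟩

/-- A copy of `Fin n` without the arithmetic. -/
def Carrier (n : ℕ) : Type := Fin n

instance (n : ℕ) : Fintype (Carrier n) := inferInstanceAs (Fintype (Fin n))

/-- The field from the action of a commutative group on a commutative group. -/
theorem exists_field_of_action {G : Type*} [Group G] [Finite G] (F H : Subgroup G)
    (hFcomm : ∀ x ∈ F, ∀ y ∈ F, x * y = y * x) (hHcomm : ∀ x ∈ H, ∀ y ∈ H, x * y = y * x)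
    (hFn : ∀ h ∈ H, ∀ u ∈ F, h * u * h⁻¹ ∈ F)
    (htrans : ∀ u ∈ F, ∀ w ∈ F, u ≠ 1 → w ≠ 1 → ∃ h ∈ H, h * u * h⁻¹ = w)
    (u₁ : G) (hu₁ : u₁ ∈ F) (hu₁1 : u₁ ≠ 1) :
    ∃ (K : Type) (_ : Field K) (_ : Fintype K) (θ : K → G),
      (∀ r, θ r ∈ F) ∧ (∀ r s, θ (r + s) = θ r * θ s) ∧ Function.Injective θ ∧
      (∀ u ∈ F, ∃ r, θ r = u) ∧ θ 1 = u₁ ∧ ∀ h ∈ H, ∃ c : K, ∀ r, θ (c * r) = h * θ r * h⁻¹ := by
  classical
  letI : CommGroup F := { (inferInstance : Group F) with
    mul_comm := fun x y => Subtype.ext (hFcomm x x.2 y y.2) }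
  let ρ : H → AddMonoid.End (Additive F) := fun h =>
    { toFun := fun w => Additive.ofMul ⟨h.1 * w.toMul.1 * h.1⁻¹, hFn h.1 h.2 _ w.toMul.2⟩
      map_zero' := by
        apply Additive.toMul.injective
        apply Subtype.ext
        change h.1 * 1 * h.1⁻¹ = 1
        simp
      map_add' := fun u w => by
        apply Additive.toMul.injective
        apply Subtype.ext
        change h.1 * (u.toMul.1 * w.toMul.1) * h.1⁻¹ =
          (h.1 * u.toMul.1 * h.1⁻¹) * (h.1 * w.toMul.1 * h.1⁻¹)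
        group }
  have hρ : ∀ (h : H) (w : F), ((ρ h (Additive.ofMul w)).toMul : G) = h.1 * w * h.1⁻¹ :=
    fun _ _ => rfl
  have hcomm : ∀ s ∈ Set.range ρ, ∀ t ∈ Set.range ρ, s * t = t * s := by
    rintro _ ⟨h, rfl⟩ _ ⟨k, rfl⟩
    apply AddMonoidHom.ext
    intro w
    apply Additive.toMul.injective
    apply Subtype.ext
    change h.1 * (k.1 * w.toMul.1 * k.1⁻¹) * h.1⁻¹ = k.1 * (h.1 * w.toMul.1 * h.1⁻¹) * k.1⁻¹
    have h1 : h.1 * k.1 = k.1 * h.1 := hHcomm h.1 h.2 k.1 k.2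
    calc h.1 * (k.1 * w.toMul.1 * k.1⁻¹) * h.1⁻¹ = (h.1 * k.1) * w.toMul.1 * (h.1 * k.1)⁻¹ := by
          group
      _ = (k.1 * h.1) * w.toMul.1 * (k.1 * h.1)⁻¹ := by rw [h1]
      _ = k.1 * (h.1 * w.toMul.1 * h.1⁻¹) * k.1⁻¹ := by group
  have hne1 : ∀ x : Additive F, x ≠ 0 → (x.toMul : G) ≠ 1 := by
    intro x hx he
    apply hx
    apply Additive.toMul.injective
    exact Subtype.ext he
  have hirr : ∀ B : AddSubgroup (Additive F), (∀ t ∈ Set.range ρ, ∀ x ∈ B, t x ∈ B) →
      B = ⊥ ∨ B = ⊤ := by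
    intro B hB
    by_cases hB0 : B = ⊥
    · exact Or.inl hB0
    right
    obtain ⟨x, hxB, hx0⟩ := (AddSubgroup.bot_or_exists_ne_zero B).resolve_left hB0
    rw [eq_top_iff]
    intro y _
    by_cases hy : y = 0
    · rw [hy]
      exact B.zero_mem
    obtain ⟨h, hh, hhe⟩ := htrans _ x.toMul.2 _ y.toMul.2 (hne1 x hx0) (hne1 y hy)
    have h1 := hB (ρ ⟨h, hh⟩) ⟨_, rfl⟩ x hxB
    have h2 : ρ ⟨h, hh⟩ x = y := by
      apply Additive.toMul.injective
      apply Subtype.ext
      exact hhe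
    rwa [h2] at h1
  have he0 : Additive.ofMul (⟨u₁, hu₁⟩ : F) ≠ 0 := by
    intro h
    apply hu₁1
    exact congrArg (fun w : Additive F => ((w.toMul : F) : G)) h
  obtain ⟨K, iF, iK, θ, ι, hθ1, hθι⟩ :=
    Cfsg.Agent.Lib.Perm.ZassField.exists_field (Set.range ρ) hcomm hirr _ he0
  -- transport to `Type`
  let e : Carrier (Fintype.card K) ≃ K := (Fintype.equivFin K).symm
  letI iF' : Field (Carrier (Fintype.card K)) := e.field
  let er : Carrier (Fintype.card K) ≃+* K :=
    { toEquiv := e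
      map_mul' := fun x y => by
        change e (e.symm (e x * e y)) = e x * e y
        rw [Equiv.apply_symm_apply]
      map_add' := fun x y => by
        change e (e.symm (e x + e y)) = e x + e y
        rw [Equiv.apply_symm_apply] }
  refine ⟨Carrier (Fintype.card K), iF', inferInstance, fun r => ((θ (er r)).toMul : F).1,
    fun r => ((θ (er r)).toMul : F).2, ?_, ?_, ?_, ?_, ?_⟩
  · intro r s
    simp only [map_add]
    rfl
  · intro r s hrs
    apply er.injective
    apply θ.injective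
    apply Additive.toMul.injective
    exact Subtype.ext hrs
  · intro u hu
    refine ⟨er.symm (θ.symm (Additive.ofMul ⟨u, hu⟩)), ?_⟩
    simp
  · simp only [map_one, hθ1]
    rfl
  · intro h hh
    refine ⟨er.symm (ι (ρ ⟨h, hh⟩)), ?_⟩
    intro r
    simp only [map_mul, RingEquiv.apply_symm_apply]
    rw [hθι _ ⟨_, rfl⟩]
    rfl

/-- The order of a sharply 3-transitive group. -/
theorem card_sharp3 {G α : Type*} [Group G] [Finite G] [MulAction G α] [Fintype α]
    (htr : ∀ a b c a' b' c' : α, a ≠ b → a ≠ c → b ≠ c → a' ≠ b' → a' ≠ c' → b' ≠ c' →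
      ∃ g : G, g • a = a' ∧ g • b = b' ∧ g • c = c')
    (hfix : ∀ (g : G) (a b c : α), a ≠ b → a ≠ c → b ≠ c → g • a = a → g • b = b → g • c = c → g = 1)
    (inf o one : α) (hio : inf ≠ o) (hi1 : inf ≠ one) (ho1 : o ≠ one) :
    Nat.card G = Fintype.card α * (Fintype.card α - 1) * (Fintype.card α - 2) := by
  classical
  have x₀inj : Function.Injective ![inf, o, one] := by
    intro i j hij
    fin_cases i <;> fin_cases j <;> simp_all
  let x₀ : Fin 3 ↪ α := ⟨![inf, o, one], x₀inj⟩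
  have e : G ≃ (Fin 3 ↪ α) := by
    refine Equiv.ofBijective (fun g => ⟨fun i => g • x₀ i, ?_⟩) ⟨?_, ?_⟩
    · intro i j hij
      exact x₀.injective (MulAction.injective g hij)
    · intro m n hmn
      have ha : m • x₀ 0 = n • x₀ 0 := congrArg (fun y : Fin 3 ↪ α => y 0) hmn
      have hb : m • x₀ 1 = n • x₀ 1 := congrArg (fun y : Fin 3 ↪ α => y 1) hmn
      have hc : m • x₀ 2 = n • x₀ 2 := congrArg (fun y : Fin 3 ↪ α => y 2) hmn
      have h4 : (n⁻¹ * m) = 1 := by
        apply hfix _ (x₀ 0) (x₀ 1) (x₀ 2)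
        · exact hio
        · exact hi1
        · exact ho1
        · rw [mul_smul, ha, inv_smul_smul]
        · rw [mul_smul, hb, inv_smul_smul]
        · rw [mul_smul, hc, inv_smul_smul]
      rw [inv_mul_eq_one] at h4
      exact h4.symm
    · intro y
      have h01 : y 0 ≠ y 1 := fun h => absurd (y.injective h) (by decide)
      have h02 : y 0 ≠ y 2 := fun h => absurd (y.injective h) (by decide)
      have h12 : y 1 ≠ y 2 := fun h => absurd (y.injective h) (by decide)
      obtain ⟨m, hm1, hm2, hm3⟩ := htr inf o one (y 0) (y 1) (y 2) hio hi1 ho1 h01 h02 h12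
      refine ⟨m, ?_⟩
      ext i
      fin_cases i
      · exact hm1
      · exact hm2
      · exact hm3
  rw [Nat.card_congr e, Nat.card_eq_fintype_card, Fintype.card_embedding_eq, Fintype.card_fin,
    show (3 : ℕ) = 2 + 1 from rfl, Nat.descFactorial_succ,
    show (2 : ℕ) = 1 + 1 from rfl, Nat.descFactorial_succ, Nat.descFactorial_one]
  ring_nf

set_option maxHeartbeats 1000000 in
/-- The main theorem, for an abstract action. -/
theorem main_theorem {G α : Type*} [Group G] [Finite G] [MulAction G α] [FaithfulSMul G α]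
    [Fintype α]
    (htr : ∀ a b c a' b' c' : α, a ≠ b → a ≠ c → b ≠ c → a' ≠ b' → a' ≠ c' → b' ≠ c' →
      ∃ g : G, g • a = a' ∧ g • b = b' ∧ g • c = c')
    (hfix : ∀ (g : G) (a b c : α), a ≠ b → a ≠ c → b ≠ c → g • a = a → g • b = b → g • c = c → g = 1)
    (hodd : Odd (Fintype.card α)) (h3 : 3 ≤ Fintype.card α) :
    ∃ (F : Type) (_ : Field F) (_ : Fintype F), Fintype.card F + 1 = Fintype.card α ∧
      Nonempty (G ≃* Matrix.ProjGenLinGroup (Fin 2) F) := by
  classical
  obtain ⟨inf, o, one, hio, hi1, ho1⟩ := Fintype.two_lt_card_iff.mp (show 2 < Fintype.card α by omega)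
  obtain ⟨F, hFinf, hFfree, hFcomm, hFtrans, hFnorm⟩ :=
    exists_translations htr hfix inf o one hio hi1 ho1
  have hoi : o ≠ inf := hio.symm
  have hreg : ∀ u ∈ F, u • o = o → u = 1 := fun u hu h => hFfree u hu o hoi h
  have hinjF : ∀ u ∈ F, ∀ w ∈ F, u • o = w • o → u = w := by
    intro u hu w hw huw
    have h1 : (w⁻¹ * u) • o = o := by rw [mul_smul, huw, inv_smul_smul]
    have h2 := hreg _ (F.mul_mem (F.inv_mem hw) hu) h1
    rw [inv_mul_eq_one] at h2
    exact h2.symm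
  have hFne : ∀ u ∈ F, ∀ x, x ≠ inf → u • x ≠ inf := by
    intro u hu x hx he
    apply hx
    exact MulAction.injective u (he.trans (hFinf u hu).symm)
  -- the involution
  obtain ⟨t, ht1, ht2, ht3⟩ := htr inf o one o inf one hio hi1 ho1 hoi ho1 hi1
  have htt : t * t = 1 := by
    apply hfix _ inf o one hio hi1 ho1
    · rw [mul_smul, ht1, ht2]
    · rw [mul_smul, ht2, ht1]
    · rw [mul_smul, ht3, ht3]
  have htinv : t⁻¹ = t := inv_eq_of_mul_eq_one_left htt
  -- the fixed points of `t`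
  have hfixt : ∀ y, t • y = y → y = one := by
    intro y hy
    by_contra hy1
    let f : Function.End α := fun x => t • x
    have hf : f ^ (2 ^ 1) = 1 := by
      have h4 : f * f = 1 := by
        funext x
        change t • t • x = x
        rw [← mul_smul, htt, one_smul]
      rw [pow_one, pow_two, h4]
    haveI : Fact (Nat.Prime 2) := ⟨Nat.prime_two⟩
    have hmod := Equiv.Perm.card_fixedPoints_modEq (p := 2) (n := 1) hf
    have hoddF : Odd (Fintype.card (Function.fixedPoints f)) := by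
      have h4 := hmod
      unfold Nat.ModEq at h4
      rw [Nat.odd_iff] at hodd ⊢
      omega
    have h2F : 1 < Fintype.card (Function.fixedPoints f) := by
      rw [Fintype.one_lt_card_iff]
      exact ⟨⟨y, hy⟩, ⟨one, ht3⟩, fun h => hy1 (congrArg Subtype.val h)⟩
    have h3F : 2 < Fintype.card (Function.fixedPoints f) := by
      rcases hoddF with ⟨k, hk⟩
      omega
    obtain ⟨a, b, c, hab, hac, hbc⟩ := Fintype.two_lt_card_iff.mp h3F
    have h1 := hfix t a.1 b.1 c.1 (fun h => hab (Subtype.ext h)) (fun h => hac (Subtype.ext h))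
      (fun h => hbc (Subtype.ext h)) a.2 b.2 c.2
    rw [h1, one_smul] at ht1
    exact hio ht1
  -- the two point stabiliser
  let H : Subgroup G := stabilizer G inf ⊓ stabilizer G o
  have hHmem : ∀ x, x ∈ H ↔ x • inf = inf ∧ x • o = o := fun x => by
    rw [Subgroup.mem_inf, mem_stabilizer_iff, mem_stabilizer_iff]
  have htH : ∀ h ∈ H, t * h * t⁻¹ ∈ H := by
    intro h hh
    obtain ⟨h1, h2⟩ := (hHmem h).mp hh
    have hi : t⁻¹ = t := htinv
    refine (hHmem _).mpr ⟨?_, ?_⟩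
    · simp only [mul_smul, hi]
      rw [ht1, h2, ht2]
    · simp only [mul_smul, hi]
      rw [ht2, h1, ht1]
  let τ : H →* H :=
    { toFun := fun h => ⟨t * h.1 * t⁻¹, htH h.1 h.2⟩
      map_one' := Subtype.ext (by change t * 1 * t⁻¹ = 1; simp)
      map_mul' := fun x y => Subtype.ext (by
        change t * (x.1 * y.1) * t⁻¹ = (t * x.1 * t⁻¹) * (t * y.1 * t⁻¹)
        group) }
  have hτ : ∀ h : H, ((τ h : H) : G) = t * h.1 * t⁻¹ := fun _ => rfl
  obtain ⟨hτinv, hHcomm⟩ := fpf_involution τ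
    (by
      intro x
      apply Subtype.ext
      rw [hτ, hτ, htinv]
      calc t * (t * x.1 * t) * t = (t * t) * x.1 * (t * t) := by group
        _ = x.1 := by rw [htt]; group)
    (by
      intro x hx
      apply Subtype.ext
      have h1 : t * x.1 * t⁻¹ = x.1 := congrArg Subtype.val hx
      have h2 : x.1 • one = one := by
        apply hfixt
        have h4 : t * x.1 = x.1 * t := by
          rw [mul_inv_eq_iff_eq_mul] at h1
          exact h1
        rw [← mul_smul, h4, mul_smul, ht3]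
      obtain ⟨h4, h5⟩ := (hHmem x.1).mp x.2
      exact hfix x.1 inf o one hio hi1 ho1 h4 h5 h2)
  have htinvH : ∀ h ∈ H, t * h * t⁻¹ = h⁻¹ := by
    intro h hh
    exact congrArg Subtype.val (hτinv ⟨h, hh⟩)
  have hHcomm' : ∀ x ∈ H, ∀ y ∈ H, x * y = y * x := by
    intro x hx y hy
    exact congrArg Subtype.val (hHcomm ⟨x, hx⟩ ⟨y, hy⟩)
  -- transitivity of `H`
  have hHtr : ∀ x y, x ≠ inf → x ≠ o → y ≠ inf → y ≠ o → ∃ h ∈ H, h • x = y := by
    intro x y hx1 hx2 hy1 hy2
    obtain ⟨h, h1, h2, h4⟩ := htr inf o x inf o y hio hx1.symm hx2.symm hio hy1.symm hy2.symm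
    exact ⟨h, (hHmem h).mpr ⟨h1, h2⟩, h4⟩
  have hFn : ∀ h ∈ H, ∀ u ∈ F, h * u * h⁻¹ ∈ F := fun h hh u hu =>
    hFnorm h ((hHmem h).mp hh).1 u hu
  have hconj : ∀ x : G, x • o = o → ∀ n : G, (x * n * x⁻¹) • o = x • (n • o) := by
    intro x hx n
    have : x⁻¹ • o = o := by rw [inv_smul_eq_iff, hx]
    rw [mul_smul, mul_smul, this]
  have hne_o : ∀ u ∈ F, u ≠ 1 → u • o ≠ o := fun u hu hu1 he => hu1 (hreg u hu he)
  have htrans : ∀ u ∈ F, ∀ w ∈ F, u ≠ 1 → w ≠ 1 → ∃ h ∈ H, h * u * h⁻¹ = w := by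
    intro u hu w hw hu1 hw1
    obtain ⟨h, hh, hhe⟩ := hHtr (u • o) (w • o) (hFne u hu o hoi) (hne_o u hu hu1)
      (hFne w hw o hoi) (hne_o w hw hw1)
    refine ⟨h, hh, hinjF _ (hFn h hh u hu) w hw ?_⟩
    rw [hconj h ((hHmem h).mp hh).2, hhe]
  obtain ⟨u₁, hu₁, hu₁o⟩ := hFtrans o one hoi hi1.symm
  have hu₁1 : u₁ ≠ 1 := by
    rintro rfl
    rw [one_smul] at hu₁o
    exact ho1 hu₁o
  obtain ⟨K, iF, iK, θ, hθF, hθadd, hθinj, hθsurj, hθ1, hθc⟩ :=
    exists_field_of_action F H hFcomm hHcomm' hFn htrans u₁ hu₁ hu₁1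
  have hθ0 : θ 0 = 1 := by
    have h1 := hθadd 0 0
    rw [add_zero] at h1
    exact (mul_eq_left.mp h1.symm)
  -- the coordinates
  let π₀ : OnePoint K → α := fun x => x.elim inf (fun r => θ r • o)
  have hπ₀i : π₀ ∞ = inf := rfl
  have hπ₀r : ∀ r : K, π₀ (r : OnePoint K) = θ r • o := fun _ => rfl
  have hπ₀ne : ∀ r : K, θ r • o ≠ inf := fun r => hFne _ (hθF r) o hoi
  have hπ₀inj : ∀ r s : K, θ r • o = θ s • o → r = s := fun r s h =>
    hθinj (hinjF _ (hθF r) _ (hθF s) h)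
  have hπ₀bij : Function.Bijective π₀ := by
    constructor
    · intro x y hxy
      cases x with
      | infty =>
        cases y with
        | infty => rfl
        | coe s => exact absurd hxy.symm (hπ₀ne s)
      | coe r =>
        cases y with
        | infty => exact absurd hxy (hπ₀ne r)
        | coe s => exact congrArg _ (hπ₀inj r s hxy)
    · intro y
      by_cases hy : y = inf
      · exact ⟨∞, hy.symm⟩
      obtain ⟨u, hu, huo⟩ := hFtrans o y hoi hy
      obtain ⟨r, rfl⟩ := hθsurj u hu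
      exact ⟨(r : OnePoint K), huo⟩
  let π : OnePoint K ≃ α := Equiv.ofBijective π₀ hπ₀bij
  have hπi : π ∞ = inf := rfl
  have hπr : ∀ r : K, π (r : OnePoint K) = θ r • o := fun _ => rfl
  -- Möbius maps
  let P : G → Prop := fun g => ∃ m : GL (Fin 2) K, ∀ x, g • π x = π (m • x)
  have hPmul : ∀ g g', P g → P g' → P (g * g') := by
    rintro g g' ⟨m, hm⟩ ⟨m', hm'⟩
    refine ⟨m * m', fun x => ?_⟩
    rw [mul_smul, hm', hm, mul_smul]
  have hPF : ∀ u ∈ F, P u := by
    intro u hu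
    obtain ⟨a, rfl⟩ := hθsurj u hu
    refine ⟨transM a, fun x => ?_⟩
    cases x with
    | infty =>
      rw [transM_infty, hπi]
      exact hFinf _ hu
    | coe k =>
      rw [transM_coe, hπr, hπr, hθadd, mul_smul]
  -- dilations
  have hdil : ∀ h ∈ H, ∃ (c : K) (hc : c ≠ 0), ∀ r : K, h • π (r : OnePoint K) = π ((c * r : K) : OnePoint K) := by
    intro h hh
    obtain ⟨c, hc⟩ := hθc h hh
    have hh2 := ((hHmem h).mp hh).2
    have hac : ∀ r : K, h • π (r : OnePoint K) = π ((c * r : K) : OnePoint K) := by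
      intro r
      rw [hπr, hπr, hc, hconj h hh2]
    refine ⟨c, ?_, hac⟩
    rintro rfl
    have h1 := hac 1
    rw [zero_mul] at h1
    have h2 : π ((0 : K) : OnePoint K) = o := by
      rw [hπr, hθ0, one_smul]
    rw [h2, hπr, hθ1, hu₁o] at h1
    apply ho1
    apply MulAction.injective h
    show h • o = h • one
    rw [h1, hh2]
  have hPH : ∀ h ∈ H, P h := by
    intro h hh
    obtain ⟨c, hc0, hc⟩ := hdil h hh
    refine ⟨diagM c hc0, fun x => ?_⟩
    cases x with
    | infty =>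
      rw [diagM_infty, hπi]
      exact ((hHmem h).mp hh).1
    | coe k =>
      rw [diagM_coe, hc]
  have hπ0 : π ((0 : K) : OnePoint K) = o := by
    rw [hπr, hθ0, one_smul]
  have hπ1 : π ((1 : K) : OnePoint K) = one := by
    rw [hπr, hθ1, hu₁o]
  have hPt : P t := by
    refine ⟨swapM, fun x => ?_⟩
    cases x with
    | infty =>
      rw [swapM_infty, hπi, hπ0, ht1]
    | coe k =>
      by_cases hk : k = 0
      · rw [hk, swapM_zero, hπ0, hπi, ht2]
      rw [swapM_coe hk]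
      -- `k ≠ 0`
      have hx1 : π (k : OnePoint K) ≠ inf := hπ₀ne k
      have hx2 : π (k : OnePoint K) ≠ o := by
        intro he
        rw [← hπ0] at he
        exact hk (OnePoint.coe_injective (π.injective he))
      obtain ⟨h, hh, hhe⟩ := hHtr one _ hi1.symm ho1.symm hx1 hx2
      obtain ⟨c, hc0, hc⟩ := hdil h hh
      obtain ⟨c', hc'0, hc'⟩ := hdil h⁻¹ (H.inv_mem hh)
      have hck : c = k := by
        have h1 := hc 1
        rw [hπ1, hhe, mul_one] at h1
        exact (OnePoint.coe_injective (π.injective h1)).symm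
      have hcc' : c * c' = 1 := by
        have h1 := hc' 1
        rw [mul_one] at h1
        have h2 := hc c'
        rw [← h1, smul_inv_smul] at h2
        exact (OnePoint.coe_injective (π.injective h2)).symm
      have hc'k : c' = k⁻¹ := by
        rw [← hck]
        exact eq_inv_of_mul_eq_one_right hcc'
      rw [← hhe]
      have h1 : t * h = h⁻¹ * t := by
        have h2 := htinvH h hh
        rw [htinv] at h2
        rw [← h2]
        calc t * h = t * h * (t * t) := by rw [htt, mul_one]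
          _ = t * h * t * t := by group
      rw [← mul_smul, h1, mul_smul, ht3, ← hc'k]
      have h2 := hc' 1
      rw [hπ1, mul_one] at h2
      exact h2
  have hPM : ∀ g : G, g • inf = inf → P g := by
    intro g hg
    have hgo : g • o ≠ inf := by
      intro he
      exact hoi (MulAction.injective g (he.trans hg.symm))
    obtain ⟨u, hu, huo⟩ := hFtrans o (g • o) hoi hgo
    have h1 : u⁻¹ * g ∈ H := by
      refine (hHmem _).mpr ⟨?_, ?_⟩
      · rw [mul_smul, hg, inv_smul_eq_iff]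
        exact (hFinf u hu).symm
      · rw [mul_smul, inv_smul_eq_iff]
        exact huo.symm
    have h2 := hPmul _ _ (hPF u hu) (hPH _ h1)
    simpa using h2
  have hPall : ∀ g : G, P g := by
    intro g
    by_cases hg : g • inf = inf
    · exact hPM g hg
    obtain ⟨u, hu, huo⟩ := hFtrans o (g • inf) hoi hg
    have h1 : (t * u⁻¹ * g) • inf = inf := by
      rw [mul_smul, mul_smul, inv_smul_eq_iff.mpr huo.symm, ht2]
    have h2 := hPmul _ _ (hPmul _ _ (hPF u hu) hPt) (hPM _ h1)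
    have h4 : u * t * (t * u⁻¹ * g) = g := by
      calc u * t * (t * u⁻¹ * g) = u * (t * t) * u⁻¹ * g := by group
        _ = g := by rw [htt]; group
    rwa [h4] at h2
  -- orders
  have hcardα : Fintype.card K + 1 = Fintype.card α := by
    rw [← Fintype.card_congr π]
    exact (Fintype.card_option).symm
  have hcardG := card_sharp3 htr hfix inf o one hio hi1 ho1
  refine ⟨K, iF, iK, hcardα, ?_⟩
  apply nonempty_equiv_pgl π hPall
  rw [Cfsg.Agent.Lib.PSL2.FieldEmbed.card_PGL, hcardG, ← hcardα]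
  obtain ⟨q, hq⟩ : ∃ q, Fintype.card K = q + 1 := ⟨Fintype.card K - 1, by
    have := Fintype.one_lt_card (α := K)
    omega⟩
  rw [hq]
  simp only [Nat.add_sub_cancel]
  have h5 : (q + 1) ^ 2 - 1 = (q + 2) * q := by
    have : (q + 1) ^ 2 = (q + 2) * q + 1 := by ring
    rw [this, Nat.add_sub_cancel]
  rw [h5, show q + 1 + 1 - 2 = q by omega]
  ring

/-- A sharply triply transitive permutation group of degree `2^f + 1` is isomorphic to the projective general linear group of degree 2 over the field with `2^f` elements. -/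
theorem result {α : Type*} [Fintype α] [DecidableEq α] {f : ℕ} (hf : 1 ≤ f) (hα : Fintype.card α = 2 ^ f + 1) (G : Subgroup (Equiv.Perm α)) (h3 : MulAction.IsMultiplyPretransitive G α 3) (hsharp : ∀ x : Fin 3 ↪ α, MulAction.stabilizer G x = ⊥) : ∃ (F : Type) (_ : Field F) (_ : Fintype F), Fintype.card F = 2 ^ f ∧ Nonempty (G ≃* Matrix.ProjGenLinGroup (Fin 2) F) := by
  classical
  have hemb : ∀ a b c : α, a ≠ b → a ≠ c → b ≠ c → ∃ x : Fin 3 ↪ α, x 0 = a ∧ x 1 = b ∧ x 2 = c := by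
    intro a b c hab hac hbc
    refine ⟨⟨![a, b, c], ?_⟩, rfl, rfl, rfl⟩
    intro i j hij
    fin_cases i <;> fin_cases j <;> simp_all
  have htr : ∀ a b c a' b' c' : α, a ≠ b → a ≠ c → b ≠ c → a' ≠ b' → a' ≠ c' → b' ≠ c' →
      ∃ g : G, g • a = a' ∧ g • b = b' ∧ g • c = c' := by
    intro a b c a' b' c' h1 h2 h4 h5 h6 h7
    obtain ⟨x, rfl, rfl, rfl⟩ := hemb a b c h1 h2 h4
    obtain ⟨y, rfl, rfl, rfl⟩ := hemb a' b' c' h5 h6 h7
    obtain ⟨g, hg⟩ := h3.exists_smul_eq x y
    refine ⟨g, ?_, ?_, ?_⟩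
    · rw [← hg]
      rfl
    · rw [← hg]
      rfl
    · rw [← hg]
      rfl
  have hfix : ∀ (g : G) (a b c : α), a ≠ b → a ≠ c → b ≠ c → g • a = a → g • b = b → g • c = c →
      g = 1 := by
    intro g a b c h1 h2 h4 h5 h6 h7
    obtain ⟨x, rfl, rfl, rfl⟩ := hemb a b c h1 h2 h4
    have : g ∈ stabilizer G x := by
      rw [mem_stabilizer_iff]
      ext i
      fin_cases i
      · exact h5
      · exact h6
      · exact h7
    rw [hsharp x, Subgroup.mem_bot] at this
    exact this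
  have hodd : Odd (Fintype.card α) := by
    rw [hα]
    exact (Nat.even_pow.mpr ⟨even_two, by omega⟩).add_one
  have h3' : 3 ≤ Fintype.card α := by
    rw [hα]
    have : 2 ^ 1 ≤ 2 ^ f := Nat.pow_le_pow_right (by norm_num) hf
    omega
  obtain ⟨F, iF, iK, hF, hiso⟩ := main_theorem (G := G) htr hfix hodd h3'
  refine ⟨F, iF, iK, ?_, hiso⟩
  omega

end Cfsg.Agent.S0727
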