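import Cfsg.Statements.S1225
import Mathlib
import Cfsg.Agent.Lib.Perm.StrongEmb
-- import your own Cfsg.Agent.* helpers here

set_option autoImplicit false
open Cfsg

namespace Cfsg.Agent.S1225

open Cfsg.Agent.S1224 Cfsg.Agent.Lib.Perm.StrongEmb in
/-- D acts transitively on the involutions of H. -/
theorem conj_in_inter {G : Type*} [Group G] [Finite G] (H : Subgroup G) (hH : Cfsg.IsStronglyEmbedded H)
    (u : G) (hu : orderOf u = 2) (huH : u ∉ H) (s t : G) (hs : orderOf s = 2) (hsH : s ∈ H)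
    (ht : orderOf t = 2) (htH : t ∈ H) :
    ∃ d ∈ (H ⊓ H.map (MulAut.conj u).toMonoidHom), d * s * d⁻¹ = t := by
  classical
  set x : G ⧸ H := ((1 : G) : G ⧸ H) with hx
  set y : G ⧸ H := ((u : G) : G ⧸ H) with hy
  have hxy : x ≠ y := by
    intro h
    exact huH ((mk_eq_one_iff u).mp h.symm)
  have hux : u • x = y := smul_mk_one u
  have huy : u • y = x := by
    rw [← hux, smul_smul, mul_self_of_order hu, one_smul]
  have htx : t • x = x := (smul_mk_one_eq_iff t).mpr htH
  have hsx : s • x = x := (smul_mk_one_eq_iff s).mpr hsH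
  have hj : orderOf (u * s * u⁻¹) = 2 := by rw [order_conj']; exact hs
  have hjy : (u * s * u⁻¹) • y = y := by
    rw [inv_of_order hu, mul_smul, mul_smul, huy, hsx, hux]
  obtain ⟨k, hk, hkx, hkt⟩ := exists_swap H hH x y hxy t (u * s * u⁻¹) ht htx hj hjy
  have hky : k • y = x := by
    rw [← hkx, smul_smul, mul_self_of_order hk, one_smul]
  -- the element u k lies in D and conjugates t to s
  have hmem : u * k ∈ H ⊓ H.map (MulAut.conj u).toMonoidHom := by
    rw [mem_inter_iff]
    constructor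
    · rw [mul_smul, hkx, huy]
    · rw [mul_smul, hky, hux]
  refine ⟨(u * k)⁻¹, (H ⊓ H.map (MulAut.conj u).toMonoidHom).inv_mem hmem, ?_⟩
  have h1 : (u * k) * t * (u * k)⁻¹ = s := by
    calc (u * k) * t * (u * k)⁻¹ = u * (k * t * k⁻¹) * u⁻¹ := by group
      _ = u * (u * s * u⁻¹) * u⁻¹ := by rw [hkt]
      _ = (u * u) * s * (u * u)⁻¹ := by group
      _ = s := by rw [mul_self_of_order hu]; group
  rw [← h1]
  group

/-- Let H be a strongly embedded subgroup of the finite group G, u an involution outside H and D = H ∩ uHu⁻¹. Then any two involutions of H are conjugate by an element of D, and any two involutions of G are conjugate in G. -/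
theorem result {G : Type*} [Group G] [Finite G] (H : Subgroup G) (hH : Cfsg.IsStronglyEmbedded H) (u : G) (hu : orderOf u = 2) (huH : u ∉ H) (s t : G) (hs : orderOf s = 2) (hsH : s ∈ H) (ht : orderOf t = 2) (htH : t ∈ H) : (∃ d ∈ (H ⊓ H.map (MulAut.conj u).toMonoidHom), d * s * d⁻¹ = t) ∧ ∀ a b : G, orderOf a = 2 → orderOf b = 2 → IsConj a b := by
  classical
  refine ⟨conj_in_inter H hH u hu huH s t hs hsH ht htH, ?_⟩
  intro a b ha hb
  have hodd := Cfsg.Agent.Lib.Perm.StrongEmb.index_odd H hH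
  obtain ⟨w, hw⟩ := Cfsg.Agent.Lib.Perm.StrongEmb.exists_fixed_of_odd H hodd a ha
  obtain ⟨w', hw'⟩ := Cfsg.Agent.Lib.Perm.StrongEmb.exists_fixed_of_odd H hodd b hb
  induction w using QuotientGroup.induction_on with
  | H g =>
  induction w' using QuotientGroup.induction_on with
  | H g' =>
  -- conjugates in H
  have hmem : ∀ (a g : G), orderOf a = 2 → a • (g : G ⧸ H) = (g : G ⧸ H) → g⁻¹ * a * g ∈ H := by
    intro a g ha hg
    rw [MulAction.Quotient.smul_coe, QuotientGroup.eq] at hg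
    have h2 : (a • g)⁻¹ * g = g⁻¹ * a⁻¹ * g := by simp [smul_eq_mul, mul_assoc]
    rw [h2, Cfsg.Agent.S1224.inv_of_order ha] at hg
    exact hg
  have hord : ∀ (a g : G), orderOf (g⁻¹ * a * g) = orderOf a := by
    intro a g
    have := Cfsg.Agent.S1224.order_conj' g⁻¹ a
    simpa using this
  obtain ⟨d, -, hd⟩ := conj_in_inter H hH u hu huH (g⁻¹ * a * g) (g'⁻¹ * b * g')
    ((hord a g).trans ha) (hmem a g ha hw) ((hord b g').trans hb) (hmem b g' hb hw')
  rw [isConj_iff]
  refine ⟨g' * d * g⁻¹, ?_⟩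
  calc g' * d * g⁻¹ * a * (g' * d * g⁻¹)⁻¹ = g' * (d * (g⁻¹ * a * g) * d⁻¹) * g'⁻¹ := by group
    _ = g' * (g'⁻¹ * b * g') * g'⁻¹ := by rw [hd]
    _ = b := by group

end Cfsg.Agent.S1225
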