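import Cfsg.Statements.S1226
import Mathlib
-- import your own Cfsg.Agent.* helpers here

set_option autoImplicit false
open Cfsg

namespace Cfsg.Agent.S1226

/-- The hypothesis on involution centralizers. -/
def InvCentElem (G : Type*) [Group G] : Prop :=
  ∀ t : G, orderOf t = 2 → IsMulCommutative (Subgroup.centralizer ({t} : Set G)) ∧
    ∀ c ∈ Subgroup.centralizer ({t} : Set G), c ^ 2 = 1

section
variable {G : Type*} [Group G] [Finite G]

/-- An involution normalising a Sylow 2-subgroup lies in it. -/
theorem invol_mem_of_mem_normalizer (T : Sylow 2 G) {z : G} (hz : orderOf z = 2)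
    (hzN : z ∈ Subgroup.normalizer ((T : Subgroup G) : Set G)) : z ∈ (T : Subgroup G) := by
  have hP : IsPGroup 2 (Subgroup.zpowers z) := by
    rw [IsPGroup.iff_card]
    refine ⟨1, ?_⟩
    rw [Nat.card_zpowers, hz, pow_one]
  have h : Subgroup.zpowers z ⊓ Subgroup.normalizer ((T : Subgroup G) : Set G) = Subgroup.zpowers z ⊓ (T : Subgroup G) :=
    hP.inf_normalizer_sylow T
  have hmem : z ∈ Subgroup.zpowers z ⊓ Subgroup.normalizer ((T : Subgroup G) : Set G) :=
    ⟨Subgroup.mem_zpowers z, hzN⟩
  rw [h] at hmem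
  exact hmem.2

/-- A nontrivial Sylow 2-subgroup (non-cyclic suffices) has a central involution. -/
theorem exists_central_involution (T : Sylow 2 G) (hnc : ¬ IsCyclic (T : Subgroup G)) :
    ∃ z ∈ (T : Subgroup G), orderOf z = 2 ∧ (T : Subgroup G) ≤ Subgroup.centralizer ({z} : Set G) := by
  have hP : IsPGroup 2 (T : Subgroup G) := T.isPGroup'
  have hnt : Nontrivial (T : Subgroup G) := by
    by_contra h
    rw [not_nontrivial_iff_subsingleton] at h
    exact hnc inferInstance
  have hcen := hP.center_nontrivial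
  have hdvd : 2 ∣ Nat.card (Subgroup.center (T : Subgroup G)) := by
    have hP2 : IsPGroup 2 (Subgroup.center (T : Subgroup G)) := hP.to_subgroup _
    obtain ⟨k, hk⟩ := (IsPGroup.iff_card).mp hP2
    have hk0 : k ≠ 0 := by
      rintro rfl
      rw [pow_zero] at hk
      have := Finite.one_lt_card (α := Subgroup.center (T : Subgroup G))
      omega
    rw [hk]
    exact dvd_pow_self 2 hk0
  obtain ⟨c, hc⟩ := exists_prime_orderOf_dvd_card' (G := Subgroup.center (T : Subgroup G)) 2 hdvd
  refine ⟨((c : (T : Subgroup G)) : G), (c : (T : Subgroup G)).2, ?_, ?_⟩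
  · rw [Subgroup.orderOf_coe, Subgroup.orderOf_coe]; exact hc
  · intro t ht
    rw [Subgroup.mem_centralizer_iff]
    intro y hy
    rw [Set.mem_singleton_iff] at hy
    subst hy
    have := (Subgroup.mem_center_iff.mp c.2) ⟨t, ht⟩
    exact (congrArg Subtype.val this).symm

/-- Under the hypothesis every element of T has square one, and T is abelian. -/
theorem sq_eq_one_of_mem (hC : InvCentElem G) (T : Sylow 2 G) (hnc : ¬ IsCyclic (T : Subgroup G))
    {t : G} (ht : t ∈ (T : Subgroup G)) : t ^ 2 = 1 := by
  obtain ⟨z, -, hz, hle⟩ := exists_central_involution T hnc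
  exact (hC z hz).2 t (hle ht)

theorem comm_of_mem (hC : InvCentElem G) (T : Sylow 2 G) (hnc : ¬ IsCyclic (T : Subgroup G))
    {s t : G} (hs : s ∈ (T : Subgroup G)) (ht : t ∈ (T : Subgroup G)) : s * t = t * s := by
  obtain ⟨z, -, hz, hle⟩ := exists_central_involution T hnc
  obtain ⟨h, -⟩ := hC z hz
  have := h.is_comm.comm (⟨s, hle hs⟩ : Subgroup.centralizer ({z} : Set G)) ⟨t, hle ht⟩
  exact congrArg Subtype.val this

/-- An involution in T has centraliser exactly T. -/
theorem centralizer_eq_of_mem (hC : InvCentElem G) (T : Sylow 2 G) (hnc : ¬ IsCyclic (T : Subgroup G))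
    {z : G} (hz : orderOf z = 2) (hzT : z ∈ (T : Subgroup G)) :
    Subgroup.centralizer ({z} : Set G) = (T : Subgroup G) := by
  have hle : (T : Subgroup G) ≤ Subgroup.centralizer ({z} : Set G) := by
    intro t ht
    rw [Subgroup.mem_centralizer_iff]
    intro y hy
    rw [Set.mem_singleton_iff] at hy
    subst hy
    exact comm_of_mem hC T hnc hzT ht
  have hP : IsPGroup 2 (Subgroup.centralizer ({z} : Set G)) := by
    intro c
    refine ⟨1, ?_⟩
    have := (hC z hz).2 c.1 c.2
    ext
    simpa using this
  exact le_antisymm ((T.is_maximal' hP hle ▸ le_refl _ : Subgroup.centralizer ({z} : Set G) ≤ T)) hle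

end

/-- Let G be a finite group with a Sylow 2-subgroup T that is neither cyclic nor normal, such that the centralizer of every involution is an elementary abelian 2-group. Then N_G(T) is a strongly embedded subgroup of G. -/
theorem result {G : Type*} [Group G] [Finite G] (T : Sylow 2 G) (hnc : ¬ IsCyclic (T : Subgroup G)) (hnn : ¬ (T : Subgroup G).Normal) (hC : ∀ t : G, orderOf t = 2 → IsMulCommutative (Subgroup.centralizer ({t} : Set G)) ∧ ∀ c ∈ Subgroup.centralizer ({t} : Set G), c ^ 2 = 1) : Cfsg.IsStronglyEmbedded (Subgroup.normalizer ((T : Subgroup G) : Set G)) := by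
  classical
  have hC' : InvCentElem G := hC
  refine ⟨?_, ?_, ?_⟩
  · intro htop
    apply hnn
    exact Subgroup.normalizer_eq_top_iff.mp htop
  · have h1 : Nat.card (T : Subgroup G) ∣ Nat.card (Subgroup.normalizer ((T : Subgroup G) : Set G)) :=
      Subgroup.card_dvd_of_le Subgroup.le_normalizer
    obtain ⟨z, hzT, hz, -⟩ := exists_central_involution T hnc
    have h2 : 2 ∣ Nat.card (T : Subgroup G) := by
      have := orderOf_dvd_natCard (⟨z, hzT⟩ : (T : Subgroup G))
      rw [Subgroup.orderOf_mk, hz] at this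
      exact this
    exact even_iff_two_dvd.mpr (h2.trans h1)
  · intro g hg
    rw [← Nat.not_even_iff_odd, even_iff_two_dvd]
    intro h2
    obtain ⟨w, hw⟩ := exists_prime_orderOf_dvd_card'
      (G := ↥(Subgroup.normalizer ((T : Subgroup G) : Set G) ⊓
        (Subgroup.normalizer ((T : Subgroup G) : Set G)).map (MulAut.conj g).toMonoidHom)) 2 h2
    have hz : orderOf (w : G) = 2 := by rw [Subgroup.orderOf_coe]; exact hw
    obtain ⟨w1, w2⟩ := w.2
    obtain ⟨v, hv, hvw⟩ := w2
    -- v = g⁻¹ w g normalises T
    have hvv : g * v * g⁻¹ = (w : G) := by simpa [MulAut.conj_apply] using hvw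
    have hzT : (w : G) ∈ (T : Subgroup G) := invol_mem_of_mem_normalizer T hz w1
    have hordv : orderOf v = 2 := by
      rw [← hz, ← hvv]
      simpa using (MulEquiv.orderOf_eq (MulAut.conj g) v).symm
    have hvT : v ∈ (T : Subgroup G) := invol_mem_of_mem_normalizer T hordv hv
    -- so w lies in gTg⁻¹ too
    have hT' : (w : G) ∈ (g • T : Sylow 2 G) := by
      rw [← hvv]
      change _ ∈ ((T : Subgroup G).map (MulAut.conj g).toMonoidHom)
      exact ⟨v, hvT, by simp [MulAut.conj_apply]⟩
    have hnc' : ¬ IsCyclic ((g • T : Sylow 2 G) : Subgroup G) := by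
      intro hcyc
      apply hnc
      have e : ((g • T : Sylow 2 G) : Subgroup G) ≃* (T : Subgroup G) :=
        ((T : Subgroup G).equivSMul (MulAut.conj g)).symm
      exact isCyclic_of_surjective e.toMonoidHom e.surjective
    have h1 := centralizer_eq_of_mem hC' T hnc hz hzT
    have h3 := centralizer_eq_of_mem hC' (g • T) hnc' hz hT'
    have heq : ((g • T : Sylow 2 G) : Subgroup G) = (T : Subgroup G) := h3.symm.trans h1
    apply hg
    rw [Subgroup.mem_normalizer_iff]
    intro h
    constructor
    · intro hh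
      have : g * h * g⁻¹ ∈ ((g • T : Sylow 2 G) : Subgroup G) :=
        ⟨h, hh, by simp [MulAut.conj_apply]⟩
      rwa [heq] at this
    · intro hh
      have : g * h * g⁻¹ ∈ ((g • T : Sylow 2 G) : Subgroup G) := by rw [heq]; exact hh
      obtain ⟨y, hy, hyz⟩ := this
      have : y = h := by
        have hyz' : g * y * g⁻¹ = g * h * g⁻¹ := by simpa [MulAut.conj_apply] using hyz
        simpa using hyz'
      rwa [← this]

end Cfsg.Agent.S1226
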