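import Cfsg.Statements.S1227
import Mathlib
import Cfsg.Agent.S1225
import Cfsg.Agent.S1226
-- import your own Cfsg.Agent.* helpers here

set_option autoImplicit false
open Cfsg

namespace Cfsg.Agent.S1227

open Cfsg.Agent.S1224 Cfsg.Agent.Lib.Perm.StrongEmb Cfsg.Agent.S1226 Cfsg.Agent.S1225

/-- The involution u acts by inversion on H ∩ uHu⁻¹ if its centraliser has exponent 2. -/
theorem inter_inverted {G : Type*} [Group G] [Finite G] (H : Subgroup G) (hH : Cfsg.IsStronglyEmbedded H)
    (u : G) (hu : orderOf u = 2) (huH : u ∉ H)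
    (hexp : ∀ c ∈ Subgroup.centralizer ({u} : Set G), c ^ 2 = 1) :
    ∀ d ∈ H ⊓ H.map (MulAut.conj u).toMonoidHom, u * d * u⁻¹ = d⁻¹ := by
  classical
  set D := H ⊓ H.map (MulAut.conj u).toMonoidHom with hD
  have hodd : Odd (Nat.card D) := hH.2.2 u huH
  have hux : u • ((1 : G) : G ⧸ H) = ((u : G) : G ⧸ H) := smul_mk_one u
  have huy : u • ((u : G) : G ⧸ H) = ((1 : G) : G ⧸ H) := by
    rw [← hux, smul_smul, mul_self_of_order hu, one_smul]
  have hmem : ∀ d : D, u * (d : G) * u⁻¹ ∈ D := by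
    intro d
    have hd := (mem_inter_iff H u (d : G)).mp d.2
    refine (mem_inter_iff H u _).mpr ?_
    rw [inv_of_order hu]
    constructor
    · rw [mul_smul, mul_smul, hux, hd.2, huy]
    · rw [mul_smul, mul_smul, huy, hd.1, hux]
  let φ : D →* D :=
    { toFun := fun d => ⟨u * (d : G) * u⁻¹, hmem d⟩
      map_one' := by ext; simp
      map_mul' := by
        intro a b
        ext
        simp only [Subgroup.coe_mul]
        group }
  have hfpf : MonoidHom.FixedPointFree φ := by
    intro d hd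
    have h1 : u * (d : G) * u⁻¹ = d := congrArg Subtype.val hd
    have h2 : (d : G) ∈ Subgroup.centralizer ({u} : Set G) := by
      rw [Subgroup.mem_centralizer_iff]
      intro y hy
      rw [Set.mem_singleton_iff] at hy
      subst hy
      rw [mul_inv_eq_iff_eq_mul] at h1
      exact h1
    have h3 : (d : G) ^ 2 = 1 := hexp _ h2
    have h4 : d ^ 2 = 1 := Subtype.ext (by simpa using h3)
    have h5 : orderOf d ∣ 2 := orderOf_dvd_of_pow_eq_one h4
    have h6 : orderOf d ∣ Nat.card D := orderOf_dvd_natCard d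
    have h7 : orderOf d ∣ Nat.gcd 2 (Nat.card D) := Nat.dvd_gcd h5 h6
    have h8 : Nat.gcd 2 (Nat.card D) = 1 := by
      rw [Nat.gcd_comm]
      exact Nat.Coprime.symm (Nat.coprime_two_left.mpr hodd)
    rw [h8, Nat.dvd_one, orderOf_eq_one_iff] at h7
    exact h7
  have hinv : Function.Involutive φ := by
    intro d
    apply Subtype.ext
    change u * (u * (d : G) * u⁻¹) * u⁻¹ = d
    rw [inv_of_order hu]
    calc u * (u * (d : G) * u) * u = (u * u) * (d : G) * (u * u) := by group
      _ = d := by rw [mul_self_of_order hu]; group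
  have hcoe := hfpf.coe_eq_inv_of_involutive hinv
  intro d hd
  have := congrFun hcoe ⟨d, hd⟩
  exact congrArg Subtype.val this

section structure_thm

variable {G : Type*} [Group G] [Finite G] (T : Sylow 2 G)

/-- H = D T -/
theorem exists_mul_eq (hnc : ¬ IsCyclic (T : Subgroup G)) (hC : InvCentElem G)
    (hSE : Cfsg.IsStronglyEmbedded (Subgroup.normalizer ((T : Subgroup G) : Set G)))
    (u : G) (hu : orderOf u = 2) (huH : u ∉ Subgroup.normalizer ((T : Subgroup G) : Set G))
    (h : G) (hh : h ∈ Subgroup.normalizer ((T : Subgroup G) : Set G)) :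
    ∃ d ∈ Subgroup.normalizer ((T : Subgroup G) : Set G) ⊓
        (Subgroup.normalizer ((T : Subgroup G) : Set G)).map (MulAut.conj u).toMonoidHom,
      ∃ t ∈ (T : Subgroup G), d * t = h := by
  obtain ⟨z, hzT, hz, -⟩ := exists_central_involution T hnc
  have hzH : z ∈ Subgroup.normalizer ((T : Subgroup G) : Set G) := Subgroup.le_normalizer hzT
  have hord : orderOf (h * z * h⁻¹) = 2 := by rw [order_conj']; exact hz
  have hmem : h * z * h⁻¹ ∈ Subgroup.normalizer ((T : Subgroup G) : Set G) :=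
    Subgroup.mul_mem _ (Subgroup.mul_mem _ hh hzH) (Subgroup.inv_mem _ hh)
  obtain ⟨d, hd, hdz⟩ := conj_in_inter _ hSE u hu huH z (h * z * h⁻¹) hz hzH hord hmem
  refine ⟨d, hd, d⁻¹ * h, ?_, by group⟩
  rw [← centralizer_eq_of_mem hC T hnc hz hzT, Subgroup.mem_centralizer_iff]
  intro y hy
  rw [Set.mem_singleton_iff] at hy
  subst hy
  have : d⁻¹ * h * y * (d⁻¹ * h)⁻¹ = y := by
    calc d⁻¹ * h * y * (d⁻¹ * h)⁻¹ = d⁻¹ * (h * y * h⁻¹) * d := by group
      _ = d⁻¹ * (d * y * d⁻¹) * d := by rw [hdz]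
      _ = y := by group
  rw [mul_inv_eq_iff_eq_mul] at this
  exact this.symm

/-- The map `d ↦ d z d⁻¹` is a bijection from `D` to the nonidentity elements of `T`,
so `|D| = |T| - 1`. -/
theorem card_inter (hnc : ¬ IsCyclic (T : Subgroup G)) (hC : InvCentElem G)
    (hSE : Cfsg.IsStronglyEmbedded (Subgroup.normalizer ((T : Subgroup G) : Set G)))
    (u : G) (hu : orderOf u = 2) (huH : u ∉ Subgroup.normalizer ((T : Subgroup G) : Set G)) :
    Nat.card ↥(Subgroup.normalizer ((T : Subgroup G) : Set G) ⊓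
        (Subgroup.normalizer ((T : Subgroup G) : Set G)).map (MulAut.conj u).toMonoidHom) =
      Nat.card (T : Subgroup G) - 1 := by
  classical
  obtain ⟨z, hzT, hz, -⟩ := exists_central_involution T hnc
  have hzH : z ∈ Subgroup.normalizer ((T : Subgroup G) : Set G) := Subgroup.le_normalizer hzT
  set H := Subgroup.normalizer ((T : Subgroup G) : Set G) with hH
  set D := H ⊓ H.map (MulAut.conj u).toMonoidHom with hD
  have hz1 : z ≠ 1 := by
    rintro rfl
    simp at hz
  let f : D → {t : (T : Subgroup G) // t ≠ 1} := fun d =>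
    ⟨⟨(d : G) * z * (d : G)⁻¹, (Subgroup.mem_normalizer_iff.mp d.2.1 z).mp hzT⟩, by
      intro h
      have h1 : (d : G) * z * (d : G)⁻¹ = 1 := congrArg Subtype.val h
      apply hz1
      have : z = (d : G)⁻¹ * ((d : G) * z * (d : G)⁻¹) * (d : G) := by group
      rw [this, h1]; group⟩
  have hodd : Odd (Nat.card D) := hSE.2.2 u huH
  have hinj : Function.Injective f := by
    intro a b hab
    have h1 : (a : G) * z * (a : G)⁻¹ = (b : G) * z * (b : G)⁻¹ :=
      congrArg (fun q : {t : (T : Subgroup G) // t ≠ 1} => ((q.1 : (T : Subgroup G)) : G)) hab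
    have h2 : ((b⁻¹ * a : D) : G) ∈ Subgroup.centralizer ({z} : Set G) := by
      rw [Subgroup.mem_centralizer_iff]
      intro y hy
      rw [Set.mem_singleton_iff] at hy
      subst hy
      have : (((b⁻¹ * a : D) : G)) * y * ((b⁻¹ * a : D) : G)⁻¹ = y := by
        simp only [Subgroup.coe_mul, Subgroup.coe_inv]
        calc (b : G)⁻¹ * a * y * ((b : G)⁻¹ * a)⁻¹ = (b : G)⁻¹ * ((a : G) * y * (a : G)⁻¹) * b := by group
          _ = (b : G)⁻¹ * ((b : G) * y * (b : G)⁻¹) * b := by rw [h1]
          _ = y := by group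
      rw [mul_inv_eq_iff_eq_mul] at this
      exact this.symm
    have h3 : ((b⁻¹ * a : D) : G) ^ 2 = 1 := (hC z hz).2 _ h2
    have h4 : (b⁻¹ * a) ^ 2 = 1 := Subtype.ext (by simpa using h3)
    have h5 : orderOf (b⁻¹ * a) ∣ 2 := orderOf_dvd_of_pow_eq_one h4
    have h6 : orderOf (b⁻¹ * a) ∣ Nat.card D := orderOf_dvd_natCard _
    have h7 : orderOf (b⁻¹ * a) ∣ Nat.gcd 2 (Nat.card D) := Nat.dvd_gcd h5 h6
    have h8 : Nat.gcd 2 (Nat.card D) = 1 := by
      rw [Nat.gcd_comm]
      exact Nat.Coprime.symm (Nat.coprime_two_left.mpr hodd)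
    rw [h8, Nat.dvd_one, orderOf_eq_one_iff] at h7
    have h10 : b * (b⁻¹ * a) = b * 1 := by rw [h7]
    simpa using h10
  have hsurj : Function.Surjective f := by
    rintro ⟨⟨t, ht⟩, ht1⟩
    have ht1' : t ≠ 1 := fun h => ht1 (Subtype.ext h)
    have hord : orderOf t = 2 := by
      have h2 : t ^ 2 = 1 := sq_eq_one_of_mem hC T hnc ht
      exact orderOf_eq_prime h2 ht1'
    obtain ⟨d, hd, hdz⟩ := conj_in_inter H hSE u hu huH z t hz hzH hord (Subgroup.le_normalizer ht)
    refine ⟨⟨d, hd⟩, ?_⟩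
    apply Subtype.ext
    apply Subtype.ext
    exact hdz
  have hcard := Nat.card_congr (Equiv.ofBijective f ⟨hinj, hsurj⟩)
  rw [hcard]
  have h9 : Nat.card {t : (T : Subgroup G) // t ≠ 1} = Nat.card (T : Subgroup G) - 1 := by
    haveI : Fintype (T : Subgroup G) := Fintype.ofFinite _
    rw [Nat.card_eq_fintype_card, Nat.card_eq_fintype_card, Fintype.card_subtype_compl, Fintype.card_subtype_eq]
  exact h9

end structure_thm

/-- Let G be a finite group with a Sylow 2-subgroup T that is neither cyclic nor normal, such that the centralizer of every involution is an elementary abelian 2-group; put H = N_G(T), let u be an involution outside H and D = H ∩ uHu⁻¹. Then u inverts every element of D, |H| = |T|·(|T| − 1), and D is a complement to T in H. -/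
theorem result {G : Type*} [Group G] [Finite G] (T : Sylow 2 G) (hnc : ¬ IsCyclic (T : Subgroup G)) (hnn : ¬ (T : Subgroup G).Normal) (hC : ∀ t : G, orderOf t = 2 → IsMulCommutative (Subgroup.centralizer ({t} : Set G)) ∧ ∀ c ∈ Subgroup.centralizer ({t} : Set G), c ^ 2 = 1) (u : G) (hu : orderOf u = 2) (huH : u ∉ Subgroup.normalizer ((T : Subgroup G) : Set G)) : (∀ d ∈ Subgroup.normalizer ((T : Subgroup G) : Set G) ⊓ (Subgroup.normalizer ((T : Subgroup G) : Set G)).map (MulAut.conj u).toMonoidHom, u * d * u⁻¹ = d⁻¹) ∧ Nat.card (Subgroup.normalizer ((T : Subgroup G) : Set G)) = Nat.card T * (Nat.card T - 1) ∧ Subgroup.IsComplement' ((Subgroup.normalizer ((T : Subgroup G) : Set G) ⊓ (Subgroup.normalizer ((T : Subgroup G) : Set G)).map (MulAut.conj u).toMonoidHom).subgroupOf (Subgroup.normalizer ((T : Subgroup G) : Set G))) ((T : Subgroup G).subgroupOf (Subgroup.normalizer ((T : Subgroup G) : Set G))) := by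
  classical
  have hC' : InvCentElem G := hC
  have hSE := Cfsg.Agent.S1226.result T hnc hnn hC
  have hexp : ∀ c ∈ Subgroup.centralizer ({u} : Set G), c ^ 2 = 1 := (hC u hu).2
  set H := Subgroup.normalizer ((T : Subgroup G) : Set G) with hH
  set D := H ⊓ H.map (MulAut.conj u).toMonoidHom with hD
  have hodd : Odd (Nat.card D) := hSE.2.2 u huH
  have hcompl : Subgroup.IsComplement' (D.subgroupOf H) ((T : Subgroup G).subgroupOf H) := by
    apply Subgroup.isComplement'_of_disjoint_and_mul_eq_univ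
    · rw [Subgroup.disjoint_def]
      intro x hx1 hx2
      have h1 : (x : G) ∈ D := hx1
      have h2 : (x : G) ∈ (T : Subgroup G) := hx2
      have h3 : (x : G) ^ 2 = 1 := sq_eq_one_of_mem hC' T hnc h2
      have h4 : (⟨x, h1⟩ : D) ^ 2 = 1 := Subtype.ext (by simpa using h3)
      have h5 : orderOf (⟨x, h1⟩ : D) ∣ 2 := orderOf_dvd_of_pow_eq_one h4
      have h6 : orderOf (⟨x, h1⟩ : D) ∣ Nat.card D := orderOf_dvd_natCard _
      have h7 : orderOf (⟨x, h1⟩ : D) ∣ Nat.gcd 2 (Nat.card D) := Nat.dvd_gcd h5 h6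
      have h8 : Nat.gcd 2 (Nat.card D) = 1 := by
        rw [Nat.gcd_comm]
        exact Nat.Coprime.symm (Nat.coprime_two_left.mpr hodd)
      rw [h8, Nat.dvd_one, orderOf_eq_one_iff] at h7
      have h9 : (x : G) = 1 := congrArg Subtype.val h7
      exact Subtype.ext h9
    · ext h
      simp only [Set.mem_univ, iff_true]
      obtain ⟨d, hd, t, ht, hdt⟩ := exists_mul_eq T hnc hC' hSE u hu huH h.1 h.2
      refine Set.mem_mul.mpr ⟨⟨d, hd.1⟩, ?_, ⟨t, Subgroup.le_normalizer ht⟩, ht, ?_⟩
      · exact hd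
      · exact Subtype.ext hdt
  refine ⟨inter_inverted _ hSE u hu huH hexp, ?_, hcompl⟩
  have hmul := hcompl.card_mul_card
  have h1 : Nat.card (D.subgroupOf H) = Nat.card D :=
    Nat.card_congr (Subgroup.subgroupOfEquivOfLe inf_le_left).toEquiv
  have h2 : Nat.card ((T : Subgroup G).subgroupOf H) = Nat.card (T : Subgroup G) :=
    Nat.card_congr (Subgroup.subgroupOfEquivOfLe Subgroup.le_normalizer).toEquiv
  rw [h1, h2, card_inter T hnc hC' hSE u hu huH] at hmul
  change Nat.card H = Nat.card (T : Subgroup G) * (Nat.card (T : Subgroup G) - 1)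
  rw [← hmul, mul_comm]

end Cfsg.Agent.S1227
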