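import Cfsg.Statements.S1228
import Mathlib
import Cfsg.Agent.S1227
-- import your own Cfsg.Agent.* helpers here

set_option autoImplicit false
open Cfsg

namespace Cfsg.Agent.S1228

open Cfsg.Agent.S1224 Cfsg.Agent.Lib.Perm.StrongEmb Cfsg.Agent.S1226 Cfsg.Agent.S1225 Cfsg.Agent.S1227

section
variable {G : Type*} [Group G] [Finite G]

/-- The normaliser of the Sylow subgroup. -/
abbrev Hn (T : Sylow 2 G) : Subgroup G := Subgroup.normalizer ((T : Subgroup G) : Set G)

/-- The two-point stabiliser. -/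
abbrev Dn (T : Sylow 2 G) (u : G) : Subgroup G := Hn T ⊓ (Hn T).map (MulAut.conj u).toMonoidHom

variable (T : Sylow 2 G)

theorem eq_one_of_sq (hSE : Cfsg.IsStronglyEmbedded (Hn T)) {u : G} (huH : u ∉ Hn T) {e : G} (he : e ∈ Dn T u)
    (h2 : e ^ 2 = 1) : e = 1 := by
  have hodd : Odd (Nat.card (Dn T u)) := hSE.2.2 u huH
  have h4 : (⟨e, he⟩ : Dn T u) ^ 2 = 1 := Subtype.ext (by simpa using h2)
  have h5 : orderOf (⟨e, he⟩ : Dn T u) ∣ 2 := orderOf_dvd_of_pow_eq_one h4
  have h6 : orderOf (⟨e, he⟩ : Dn T u) ∣ Nat.card (Dn T u) := orderOf_dvd_natCard _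
  have h7 : orderOf (⟨e, he⟩ : Dn T u) ∣ Nat.gcd 2 (Nat.card (Dn T u)) := Nat.dvd_gcd h5 h6
  have h8 : Nat.gcd 2 (Nat.card (Dn T u)) = 1 := by
    rw [Nat.gcd_comm]
    exact Nat.Coprime.symm (Nat.coprime_two_left.mpr hodd)
  rw [h8, Nat.dvd_one, orderOf_eq_one_iff] at h7
  exact congrArg Subtype.val h7

theorem two_lt_card (hnc : ¬ IsCyclic (T : Subgroup G)) : 2 < Nat.card (T : Subgroup G) := by
  by_contra h
  have h1 : Nat.card (T : Subgroup G) ≤ 2 := by omega
  have hpos : 0 < Nat.card (T : Subgroup G) := Nat.card_pos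
  have h2 : Nat.card (T : Subgroup G) = 1 ∨ Nat.card (T : Subgroup G) = 2 := by omega
  rcases h2 with h2 | h2
  · apply hnc
    haveI : Subsingleton (T : Subgroup G) := (Nat.card_eq_one_iff_unique.mp h2).1
    infer_instance
  · apply hnc
    haveI : Fact (Nat.card (T : Subgroup G)).Prime := ⟨by rw [h2]; exact Nat.prime_two⟩
    exact isCyclic_of_prime_card rfl

theorem exists_ne_one (hnc : ¬ IsCyclic (T : Subgroup G)) (hC : InvCentElem G)
    (hSE : Cfsg.IsStronglyEmbedded (Hn T)) {u : G} (hu : orderOf u = 2) (huH : u ∉ Hn T) :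
    ∃ e ∈ Dn T u, e ≠ 1 := by
  have hcard := card_inter T hnc hC hSE u hu huH
  have h2 := two_lt_card T hnc
  have h3 : 1 < Nat.card (Dn T u) := by
    have : Nat.card (Dn T u) = Nat.card (T : Subgroup G) - 1 := hcard
    omega
  haveI : Nontrivial (Dn T u) := Finite.one_lt_card_iff_nontrivial.mp h3
  obtain ⟨e, he⟩ := exists_ne (1 : Dn T u)
  exact ⟨e, e.2, fun h => he (Subtype.ext h)⟩

/-- N_H(D) = D. -/
theorem mem_of_normalizer (hnc : ¬ IsCyclic (T : Subgroup G)) (hC : InvCentElem G)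
    (hSE : Cfsg.IsStronglyEmbedded (Hn T)) {u : G} (hu : orderOf u = 2) (huH : u ∉ Hn T)
    {g : G} (hg : g ∈ Hn T) (hgN : g ∈ Subgroup.normalizer ((Dn T u : Subgroup G) : Set G)) : g ∈ Dn T u := by
  obtain ⟨d, hd, t, ht, rfl⟩ := exists_mul_eq T hnc hC hSE u hu huH g hg
  obtain ⟨e, he, he1⟩ := exists_ne_one T hnc hC hSE hu huH
  have htN : t ∈ Subgroup.normalizer ((Dn T u : Subgroup G) : Set G) := by
    have : t = d⁻¹ * (d * t) := by group
    rw [this]
    exact Subgroup.mul_mem _ (Subgroup.inv_mem _ (Subgroup.le_normalizer hd)) hgN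
  by_cases ht1 : t = 1
  · rw [ht1, mul_one]; exact hd
  exfalso
  have hto : orderOf t = 2 := orderOf_eq_prime (sq_eq_one_of_mem hC T hnc ht) ht1
  -- the commutator lies in D ∩ T
  have h1 : t * e * t⁻¹ * e⁻¹ ∈ Dn T u :=
    Subgroup.mul_mem _ ((Subgroup.mem_normalizer_iff.mp htN e).mp he) (Subgroup.inv_mem _ he)
  have heH : e ∈ Hn T := he.1
  have h2 : t * e * t⁻¹ * e⁻¹ ∈ (T : Subgroup G) := by
    have h3 : e * t⁻¹ * e⁻¹ ∈ (T : Subgroup G) :=
      (Subgroup.mem_normalizer_iff.mp heH _).mp (Subgroup.inv_mem _ ht)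
    have h4 : t * e * t⁻¹ * e⁻¹ = t * (e * t⁻¹ * e⁻¹) := by group
    rw [h4]
    exact Subgroup.mul_mem _ ht h3
  have h3 : (t * e * t⁻¹ * e⁻¹) ^ 2 = 1 := sq_eq_one_of_mem hC T hnc h2
  have h4 := eq_one_of_sq T hSE huH h1 h3
  have h5 : e ∈ Subgroup.centralizer ({t} : Set G) := by
    rw [Subgroup.mem_centralizer_iff]
    intro y hy
    rw [Set.mem_singleton_iff] at hy
    subst hy
    have h6 : y * e = e * y := by
      have : y * e * y⁻¹ = e := mul_inv_eq_one.mp h4
      rwa [mul_inv_eq_iff_eq_mul] at this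
    exact h6
  exact he1 (eq_one_of_sq T hSE huH he ((hC t hto).2 e h5))

theorem comm_of_mem_D (hC : InvCentElem G)
    (hSE : Cfsg.IsStronglyEmbedded (Hn T)) {u : G} (hu : orderOf u = 2) (huH : u ∉ Hn T)
    {a b : G} (ha : a ∈ Dn T u) (hb : b ∈ Dn T u) : a * b = b * a := by
  have hinv := inter_inverted (Hn T) hSE u hu huH (hC u hu).2
  have h1 := hinv a ha
  have h2 := hinv b hb
  have h3 := hinv (a * b) (Subgroup.mul_mem _ ha hb)
  have h4 : u * (a * b) * u⁻¹ = (u * a * u⁻¹) * (u * b * u⁻¹) := by group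
  rw [h4, h1, h2, mul_inv_rev] at h3
  -- a⁻¹ b⁻¹ = b⁻¹ a⁻¹
  have h5 : (a⁻¹ * b⁻¹)⁻¹ = (b⁻¹ * a⁻¹)⁻¹ := by rw [h3]
  simpa [mul_inv_rev] using h5.symm

/-- Any two points are joined by an involution. -/
theorem exists_invol_move (hSE : Cfsg.IsStronglyEmbedded (Hn T)) (x p : G ⧸ Hn T) (hxp : x ≠ p) :
    ∃ v : G, orderOf v = 2 ∧ v • x = p := by
  classical
  have h2 : 2 ∣ Nat.card (Hn T) := even_iff_two_dvd.mp hSE.2.1
  obtain ⟨t, ht⟩ := exists_prime_orderOf_dvd_card' (G := Hn T) 2 h2
  have ht' : orderOf (t : G) = 2 := by rw [Subgroup.orderOf_coe]; exact ht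
  have hfix : ∀ w : G ⧸ Hn T, ∃ i : G, orderOf i = 2 ∧ i • w = w := by
    intro w
    induction w using QuotientGroup.induction_on with
    | H g =>
    refine ⟨g * t * g⁻¹, by rw [order_conj']; exact ht', ?_⟩
    rw [MulAction.Quotient.smul_coe, QuotientGroup.eq]
    have : ((g * (t : G) * g⁻¹) • g)⁻¹ * g = (t : G)⁻¹ := by
      simp [smul_eq_mul, mul_assoc]
    rw [this]
    exact Subgroup.inv_mem _ t.2
  obtain ⟨i, hi, hix⟩ := hfix x
  obtain ⟨j, hj, hjy⟩ := hfix p
  obtain ⟨k, hk, hkx, -⟩ := exists_swap (Hn T) hSE x p hxp i j hi hix hj hjy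
  exact ⟨k, hk, hkx⟩

/-- If `D` fixes the point `v H` then `D` is the stabiliser of the pair `H, vH`. -/
theorem D_eq_of_fixes (hnc : ¬ IsCyclic (T : Subgroup G)) (hC : InvCentElem G)
    (hSE : Cfsg.IsStronglyEmbedded (Hn T)) {u : G} (hu : orderOf u = 2) (huH : u ∉ Hn T)
    {v : G} (hv : orderOf v = 2) (hvH : v ∉ Hn T)
    (hfix : ∀ d ∈ Dn T u, d • ((v : G) : G ⧸ Hn T) = ((v : G) : G ⧸ Hn T)) : Dn T u = Dn T v := by
  have hle : Dn T u ≤ Dn T v := by
    intro d hd
    exact (mem_inter_iff (Hn T) v d).mpr ⟨((mem_inter_iff (Hn T) u d).mp hd).1, hfix d hd⟩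
  have hc1 := card_inter T hnc hC hSE u hu huH
  have hc2 := card_inter T hnc hC hSE v hv hvH
  exact Subgroup.eq_of_le_of_card_ge hle (by
    have h1 : Nat.card (Dn T v) = Nat.card (Dn T u) := hc2.trans hc1.symm
    exact le_of_eq h1)

/-- An element of `N(D)` outside `H` is ... inverts `D`. -/
theorem inverts_of_normalizer_not_mem (hnc : ¬ IsCyclic (T : Subgroup G)) (hC : InvCentElem G)
    (hSE : Cfsg.IsStronglyEmbedded (Hn T)) {u : G} (hu : orderOf u = 2) (huH : u ∉ Hn T)
    {c : G} (hcN : c ∈ Subgroup.normalizer ((Dn T u : Subgroup G) : Set G)) (hcH : c ∉ Hn T)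
    {d : G} (hd : d ∈ Dn T u) : c * d * c⁻¹ = d⁻¹ := by
  classical
  set x : G ⧸ Hn T := ((1 : G) : G ⧸ Hn T) with hx
  have hcx : x ≠ c • x := by
    rw [hx, smul_mk_one]
    intro h
    exact hcH ((mk_eq_one_iff c).mp h.symm)
  obtain ⟨w, hw, hwx⟩ := exists_invol_move T hSE x (c • x) hcx
  have hw' : ((w : G) : G ⧸ Hn T) = c • x := by rw [← hwx, hx, smul_mk_one]
  have hwH : w ∉ Hn T := by
    intro h
    have h1 : w • x = x := (smul_mk_one_eq_iff w).mpr h
    rw [hwx] at h1
    exact hcx h1.symm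
  have hfixc : ∀ e ∈ Dn T u, e • ((w : G) : G ⧸ Hn T) = ((w : G) : G ⧸ Hn T) := by
    intro e he
    rw [hw', smul_smul]
    have h1 : c⁻¹ * e * c ∈ Dn T u := by
      have := (Subgroup.mem_normalizer_iff.mp (Subgroup.inv_mem _ hcN) e).mp he
      rwa [inv_inv] at this
    have h2 : (c⁻¹ * e * c) • x = x := ((mem_inter_iff (Hn T) u _).mp h1).1
    have h3 : e * c = c * (c⁻¹ * e * c) := by group
    rw [h3, mul_smul, h2]
  have hDw := D_eq_of_fixes T hnc hC hSE hu huH hw hwH hfixc
  have hwN : w ∈ Subgroup.normalizer ((Dn T u : Subgroup G) : Set G) := by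
    rw [Subgroup.mem_normalizer_iff]
    have hinv := inter_inverted (Hn T) hSE w hw hwH (hC w hw).2
    intro e
    rw [hDw]
    constructor
    · intro he
      rw [hinv e he]
      exact Subgroup.inv_mem _ he
    · intro he
      have := hinv _ he
      have h2 : w * (w * e * w⁻¹) * w⁻¹ = e := by
        rw [inv_of_order hw]
        calc w * (w * e * w) * w = (w * w) * e * (w * w) := by group
          _ = e := by rw [mul_self_of_order hw]; group
      rw [h2] at this
      rw [this]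
      exact Subgroup.inv_mem _ he
  -- e := w⁻¹ c fixes x and normalises D
  have he1 : w⁻¹ * c ∈ Hn T := by
    have h9 : (w⁻¹ * c) • x = x := by
      rw [mul_smul, ← hwx, smul_smul]
      simp
    exact (smul_mk_one_eq_iff _).mp h9
  have he2 : w⁻¹ * c ∈ Subgroup.normalizer ((Dn T u : Subgroup G) : Set G) :=
    Subgroup.mul_mem _ (Subgroup.inv_mem _ hwN) hcN
  have he3 := mem_of_normalizer T hnc hC hSE hu huH he1 he2
  have hcomm := comm_of_mem_D T hC hSE hu huH he3 hd
  have hinv := inter_inverted (Hn T) hSE w hw hwH (hC w hw).2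
  have hdw : d ∈ Dn T w := by rw [← hDw]; exact hd
  have h5 := hinv d hdw
  calc c * d * c⁻¹ = w * ((w⁻¹ * c) * d * (w⁻¹ * c)⁻¹) * w⁻¹ := by group
    _ = w * (d * (w⁻¹ * c) * (w⁻¹ * c)⁻¹) * w⁻¹ := by rw [hcomm]
    _ = w * d * w⁻¹ := by group
    _ = d⁻¹ := h5

/-- D has exactly two fixed points. -/
theorem fixed_points (hnc : ¬ IsCyclic (T : Subgroup G)) (hC : InvCentElem G)
    (hSE : Cfsg.IsStronglyEmbedded (Hn T)) {u : G} (hu : orderOf u = 2) (huH : u ∉ Hn T)
    (g : G) (hg : ∀ d ∈ Dn T u, d • ((g : G) : G ⧸ Hn T) = ((g : G) : G ⧸ Hn T)) :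
    ((g : G) : G ⧸ Hn T) = ((1 : G) : G ⧸ Hn T) ∨ ((g : G) : G ⧸ Hn T) = ((u : G) : G ⧸ Hn T) := by
  classical
  by_contra hcon
  push Not at hcon
  obtain ⟨h1, h2⟩ := hcon
  set x : G ⧸ Hn T := ((1 : G) : G ⧸ Hn T) with hx
  have hxg : x ≠ ((g : G) : G ⧸ Hn T) := fun h => h1 h.symm
  obtain ⟨v, hv, hvx⟩ := exists_invol_move T hSE x _ hxg
  have hvm : ((v : G) : G ⧸ Hn T) = ((g : G) : G ⧸ Hn T) := by rw [← hvx, hx, smul_mk_one]
  have hvH : v ∉ Hn T := by
    intro h
    have h3 : v • x = x := (smul_mk_one_eq_iff v).mpr h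
    rw [hvx] at h3
    exact h1 h3
  have hfixv : ∀ d ∈ Dn T u, d • ((v : G) : G ⧸ Hn T) = ((v : G) : G ⧸ Hn T) := by
    intro d hd
    rw [hvm]; exact hg d hd
  have hDv := D_eq_of_fixes T hnc hC hSE hu huH hv hvH hfixv
  have hinvu := inter_inverted (Hn T) hSE u hu huH (hC u hu).2
  have hinvv := inter_inverted (Hn T) hSE v hv hvH (hC v hv).2
  have hN : ∀ (w : G), orderOf w = 2 → (∀ d ∈ Dn T u, w * d * w⁻¹ = d⁻¹) →
      w ∈ Subgroup.normalizer ((Dn T u : Subgroup G) : Set G) := by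
    intro w hw hi
    rw [Subgroup.mem_normalizer_iff]
    intro e
    constructor
    · intro he
      rw [hi e he]
      exact Subgroup.inv_mem _ he
    · intro he
      have := hi _ he
      have h2 : w * (w * e * w⁻¹) * w⁻¹ = e := by
        rw [inv_of_order hw]
        calc w * (w * e * w) * w = (w * w) * e * (w * w) := by group
          _ = e := by rw [mul_self_of_order hw]; group
      rw [h2] at this
      rw [this]
      exact Subgroup.inv_mem _ he
  have huN := hN u hu hinvu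
  have hdv : ∀ d, d ∈ Dn T u → d ∈ Dn T v := fun d hd => hDv.le hd
  have hvN := hN v hv (fun d hd => hinvv d (hdv d hd))
  have hcN : u * v ∈ Subgroup.normalizer ((Dn T u : Subgroup G) : Set G) := Subgroup.mul_mem _ huN hvN
  have hcent : ∀ d ∈ Dn T u, (u * v) * d * (u * v)⁻¹ = d := by
    intro d hd
    have h3 := hinvv d (hdv d hd)
    calc (u * v) * d * (u * v)⁻¹ = u * (v * d * v⁻¹) * u⁻¹ := by group
      _ = u * d⁻¹ * u⁻¹ := by rw [h3]
      _ = (u * d * u⁻¹)⁻¹ := by group
      _ = d := by rw [hinvu d hd, inv_inv]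
  by_cases hcH : u * v ∈ Hn T
  · have hcD := mem_of_normalizer T hnc hC hSE hu huH hcH hcN
    -- then v x = u x
    have h3 : (u * v) • x = x := ((mem_inter_iff (Hn T) u _).mp hcD).1
    have h4 : v • x = ((u : G) : G ⧸ Hn T) := by
      have h5 : v = u * (u * v) := by
        calc v = (u * u) * v := by rw [mul_self_of_order hu, one_mul]
          _ = u * (u * v) := by group
      rw [h5, mul_smul, h3, hx, smul_mk_one]
    rw [hvx] at h4
    exact h2 h4
  · obtain ⟨e, he, he1⟩ := exists_ne_one T hnc hC hSE hu huH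
    have h3 := inverts_of_normalizer_not_mem T hnc hC hSE hu huH hcN hcH he
    rw [hcent e he] at h3
    apply he1
    apply eq_one_of_sq T hSE huH he
    rw [pow_two]
    nth_rewrite 1 [h3]
    simp

end

/-- Let G be a finite group with a Sylow 2-subgroup T that is neither cyclic nor normal, such that the centralizer of every involution is an elementary abelian 2-group; put H = N_G(T), let u be an involution outside H and D = H ∩ uHu⁻¹. Then N_G(D) = D ⊔ ⟨u⟩, and a coset gH is fixed by every element of D exactly when gH = H or gH = uH. -/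
theorem result {G : Type*} [Group G] [Finite G] (T : Sylow 2 G) (hnc : ¬ IsCyclic (T : Subgroup G)) (hnn : ¬ (T : Subgroup G).Normal) (hC : ∀ t : G, orderOf t = 2 → IsMulCommutative (Subgroup.centralizer ({t} : Set G)) ∧ ∀ c ∈ Subgroup.centralizer ({t} : Set G), c ^ 2 = 1) (u : G) (hu : orderOf u = 2) (huH : u ∉ Subgroup.normalizer ((T : Subgroup G) : Set G)) : Subgroup.normalizer ((Subgroup.normalizer ((T : Subgroup G) : Set G) ⊓ (Subgroup.normalizer ((T : Subgroup G) : Set G)).map (MulAut.conj u).toMonoidHom : Subgroup G) : Set G) = (Subgroup.normalizer ((T : Subgroup G) : Set G) ⊓ (Subgroup.normalizer ((T : Subgroup G) : Set G)).map (MulAut.conj u).toMonoidHom) ⊔ Subgroup.zpowers u ∧ ∀ g : G, ((∀ d ∈ Subgroup.normalizer ((T : Subgroup G) : Set G) ⊓ (Subgroup.normalizer ((T : Subgroup G) : Set G)).map (MulAut.conj u).toMonoidHom, d • (QuotientGroup.mk g : G ⧸ Subgroup.normalizer ((T : Subgroup G) : Set G)) = QuotientGroup.mk g) ↔ (QuotientGroup.mk g : G ⧸ Subgroup.normalizer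 ((T : Subgroup G) : Set G)) = QuotientGroup.mk 1 ∨ (QuotientGroup.mk g : G ⧸ Subgroup.normalizer ((T : Subgroup G) : Set G)) = QuotientGroup.mk u) := by
  classical
  have hC' : InvCentElem G := hC
  have hSE : Cfsg.IsStronglyEmbedded (Hn T) := Cfsg.Agent.S1226.result T hnc hnn hC
  have hinvu := inter_inverted (Hn T) hSE u hu huH (hC' u hu).2
  constructor
  · apply le_antisymm
    · intro g hg
      -- g permutes the fixed points
      have hfixg : ∀ d ∈ Dn T u, d • ((g : G) : G ⧸ Hn T) = ((g : G) : G ⧸ Hn T) := by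
        intro d hd
        have h1 : g⁻¹ * d * g ∈ Dn T u := by
          have := (Subgroup.mem_normalizer_iff.mp (Subgroup.inv_mem _ hg) d).mp hd
          rwa [inv_inv] at this
        have h2 : (g⁻¹ * d * g) • ((1 : G) : G ⧸ Hn T) = ((1 : G) : G ⧸ Hn T) :=
          ((mem_inter_iff (Hn T) u _).mp h1).1
        have h3 : d * g = g * (g⁻¹ * d * g) := by group
        calc d • ((g : G) : G ⧸ Hn T) = d • g • ((1 : G) : G ⧸ Hn T) := by rw [smul_mk_one]
          _ = (d * g) • ((1 : G) : G ⧸ Hn T) := by rw [mul_smul]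
          _ = g • (g⁻¹ * d * g) • ((1 : G) : G ⧸ Hn T) := by rw [h3, mul_smul]
          _ = ((g : G) : G ⧸ Hn T) := by rw [h2, smul_mk_one]
      have huN : u ∈ Subgroup.normalizer ((Dn T u : Subgroup G) : Set G) := by
        rw [Subgroup.mem_normalizer_iff]
        intro e
        constructor
        · intro he
          change u * e * u⁻¹ ∈ Dn T u
          rw [hinvu e he]
          exact Subgroup.inv_mem _ he
        · intro he
          have := hinvu _ he
          have h2 : u * (u * e * u⁻¹) * u⁻¹ = e := by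
            rw [inv_of_order hu]
            calc u * (u * e * u) * u = (u * u) * e * (u * u) := by group
              _ = e := by rw [mul_self_of_order hu]; group
          rw [h2] at this
          rw [this]
          exact Subgroup.inv_mem _ he
      rcases fixed_points T hnc hC' hSE hu huH g hfixg with h | h
      · have hgH : g ∈ Hn T := (mk_eq_one_iff g).mp h
        exact Subgroup.mem_sup_left (mem_of_normalizer T hnc hC' hSE hu huH hgH hg)
      · have hgH : u * g ∈ Hn T := by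
          rw [← smul_mk_one_eq_iff, mul_smul, smul_mk_one g, h, ← smul_mk_one u, smul_smul,
            mul_self_of_order hu, one_smul]
        have hmem : u * g ∈ Dn T u :=
          mem_of_normalizer T hnc hC' hSE hu huH hgH (Subgroup.mul_mem _ huN hg)
        have hg2 : g = u * (u * g) := by
          calc g = (u * u) * g := by rw [mul_self_of_order hu, one_mul]
            _ = u * (u * g) := by group
        rw [hg2]
        exact Subgroup.mul_mem _ (Subgroup.mem_sup_right (Subgroup.mem_zpowers u)) (Subgroup.mem_sup_left hmem)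
    · rw [sup_le_iff]
      refine ⟨Subgroup.le_normalizer, ?_⟩
      rw [Subgroup.zpowers_le]
      rw [Subgroup.mem_normalizer_iff]
      intro e
      constructor
      · intro he
        change u * e * u⁻¹ ∈ Dn T u
        rw [hinvu e he]
        exact Subgroup.inv_mem _ he
      · intro he
        have := hinvu _ he
        have h2 : u * (u * e * u⁻¹) * u⁻¹ = e := by
          rw [inv_of_order hu]
          calc u * (u * e * u) * u = (u * u) * e * (u * u) := by group
            _ = e := by rw [mul_self_of_order hu]; group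
        rw [h2] at this
        rw [this]
        exact Subgroup.inv_mem _ he
  · intro g
    constructor
    · exact fixed_points T hnc hC' hSE hu huH g
    · rintro (h | h) d hd
      · change d • ((g : G) : G ⧸ Hn T) = ((g : G) : G ⧸ Hn T)
        have h1 : ((g : G) : G ⧸ Hn T) = ((1 : G) : G ⧸ Hn T) := h
        rw [h1]
        exact ((mem_inter_iff (Hn T) u _).mp hd).1
      · change d • ((g : G) : G ⧸ Hn T) = ((g : G) : G ⧸ Hn T)
        have h1 : ((g : G) : G ⧸ Hn T) = ((u : G) : G ⧸ Hn T) := h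
        rw [h1]
        exact ((mem_inter_iff (Hn T) u _).mp hd).2

end Cfsg.Agent.S1228
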