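import Cfsg.Statements.S1229
import Mathlib
import Cfsg.Agent.S1228
-- import your own Cfsg.Agent.* helpers here

set_option autoImplicit false
open Cfsg

namespace Cfsg.Agent.S1229

open Cfsg.Agent.S1224 Cfsg.Agent.Lib.Perm.StrongEmb Cfsg.Agent.S1226 Cfsg.Agent.S1225 Cfsg.Agent.S1227 Cfsg.Agent.S1228

section
variable {G : Type*} [Group G] [Finite G] (T : Sylow 2 G)

/-- Two point stabilisers with a nontrivial common element coincide. -/
theorem D_eq_of_common (hnc : ¬ IsCyclic (T : Subgroup G)) (hC : InvCentElem G)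
    (hSE : Cfsg.IsStronglyEmbedded (Hn T)) {v w : G} (hv : orderOf v = 2) (hvH : v ∉ Hn T)
    (hw : orderOf w = 2) (hwH : w ∉ Hn T) {e : G} (he1 : e ≠ 1) (hev : e ∈ Dn T v) (hew : e ∈ Dn T w) :
    Dn T v = Dn T w := by
  have hle : Dn T v ≤ Dn T w := by
    intro g hg
    obtain ⟨d, hd, t, ht, hdt⟩ := exists_mul_eq T hnc hC hSE w hw hwH g hg.1
    have h1 : g * e = e * g := comm_of_mem_D T hC hSE hv hvH hg hev
    have h2 : d * e = e * d := comm_of_mem_D T hC hSE hw hwH hd hew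
    have h3 : t * e = e * t := by
      have h4 : t = d⁻¹ * g := by rw [← hdt]; group
      calc t * e = d⁻¹ * (g * e) := by rw [h4]; group
        _ = d⁻¹ * (e * g) := by rw [h1]
        _ = d⁻¹ * (e * d) * t := by rw [← hdt]; group
        _ = d⁻¹ * (d * e) * t := by rw [h2]
        _ = e * t := by group
    by_cases ht1 : t = 1
    · rw [← hdt, ht1, mul_one]; exact hd
    exfalso
    have hto : orderOf t = 2 := orderOf_eq_prime (sq_eq_one_of_mem hC T hnc ht) ht1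
    have h5 : e ∈ Subgroup.centralizer ({t} : Set G) := by
      rw [Subgroup.mem_centralizer_iff]
      intro y hy
      rw [Set.mem_singleton_iff] at hy
      subst hy
      exact h3
    exact he1 (eq_one_of_sq T hSE hwH hew ((hC t hto).2 e h5))
  have hc1 := card_inter T hnc hC hSE v hv hvH
  have hc2 := card_inter T hnc hC hSE w hw hwH
  exact Subgroup.eq_of_le_of_card_ge hle (le_of_eq (hc2.trans hc1.symm))

/-- The base point `H`. -/
abbrev x0 : G ⧸ Hn T := ((1 : G) : G ⧸ Hn T)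

theorem not_mem_of_ne {v : G} (h : v • x0 T ≠ x0 T) : v ∉ Hn T := by
  intro hv
  exact h ((smul_mk_one_eq_iff v).mpr hv)

theorem invol_not_mem_of_move {v : G} {p : G ⧸ Hn T} (hvx : v • x0 T = p) (hp : p ≠ x0 T) : v ∉ Hn T := by
  intro hv
  rw [(smul_mk_one_eq_iff v).mpr hv] at hvx
  exact hp hvx.symm

/-- Transitivity of T on the points other than H. -/
theorem exists_T_smul_eq (hnc : ¬ IsCyclic (T : Subgroup G)) (hC : InvCentElem G)
    (hSE : Cfsg.IsStronglyEmbedded (Hn T)) {v₀ : G} (hv₀ : orderOf v₀ = 2) (hv₀H : v₀ ∉ Hn T)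
    (p : G ⧸ Hn T) (hp : p ≠ x0 T) : ∃ τ ∈ (T : Subgroup G), τ • ((v₀ : G) : G ⧸ Hn T) = p := by
  classical
  obtain ⟨v, hv, hvx⟩ := exists_invol_move T hSE (x0 T) p hp.symm
  have hvH : v ∉ Hn T := invol_not_mem_of_move T hvx hp
  have hvm : ((v : G) : G ⧸ Hn T) = p := by rw [← hvx, x0, smul_mk_one]
  obtain ⟨e, he, he1⟩ := exists_ne_one T hnc hC hSE hv hvH
  obtain ⟨d, hd, τ, hτ, hdτ⟩ := exists_mul_eq T hnc hC hSE v₀ hv₀ hv₀H e he.1
  have hd1 : d ≠ 1 := by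
    rintro rfl
    rw [one_mul] at hdτ
    rw [← hdτ] at he he1
    exact he1 (eq_one_of_sq T hSE hvH he (sq_eq_one_of_mem hC T hnc hτ))
  have hdH : d ∈ Hn T := hd.1
  -- the map on T
  have hmemT : ∀ a : (T : Subgroup G), d⁻¹ * (a : G) * d * (a : G)⁻¹ ∈ (T : Subgroup G) := by
    intro a
    have h1 : d⁻¹ * (a : G) * d ∈ (T : Subgroup G) := by
      have := (Subgroup.mem_normalizer_iff.mp (Subgroup.inv_mem _ hdH) a).mp a.2
      rwa [inv_inv] at this
    exact Subgroup.mul_mem _ h1 (Subgroup.inv_mem _ a.2)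
  let f : ↥(T : Subgroup G) → ↥(T : Subgroup G) := fun a => ⟨d⁻¹ * (a : G) * d * (a : G)⁻¹, hmemT a⟩
  have hinj : Function.Injective f := by
    intro a b hab
    have h1 : d⁻¹ * (a : G) * d * (a : G)⁻¹ = d⁻¹ * (b : G) * d * (b : G)⁻¹ :=
      congrArg Subtype.val hab
    have hdinvmem : ∀ c : (T : Subgroup G), d⁻¹ * (c : G) * d ∈ (T : Subgroup G) := by
      intro c
      have := (Subgroup.mem_normalizer_iff.mp (Subgroup.inv_mem _ hdH) c).mp c.2
      rwa [inv_inv] at this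
    -- c = b⁻¹ a commutes with d
    have hc : (b : G)⁻¹ * a ∈ (T : Subgroup G) := Subgroup.mul_mem _ (Subgroup.inv_mem _ b.2) a.2
    have hcomm := comm_of_mem hC T hnc (hdinvmem a) (Subgroup.inv_mem _ a.2)
    have hcomm2 := comm_of_mem hC T hnc (hdinvmem b) (Subgroup.inv_mem _ b.2)
    have hcomm3 : (d⁻¹ * ((b : G)⁻¹ * a) * d) = (b : G)⁻¹ * a := by
      have h2 : (d⁻¹ * (b : G) * d)⁻¹ * (d⁻¹ * (a : G) * d) = (b : G)⁻¹ * a := by
        have h3 : d⁻¹ * (a : G) * d = (d⁻¹ * (b : G) * d) * ((a : G) * (b : G)⁻¹) := by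
          have h4 : d⁻¹ * (a : G) * d * (a : G)⁻¹ * a = d⁻¹ * (b : G) * d * (b : G)⁻¹ * a := by rw [h1]
          calc d⁻¹ * (a : G) * d = d⁻¹ * (a : G) * d * (a : G)⁻¹ * a := by group
            _ = d⁻¹ * (b : G) * d * (b : G)⁻¹ * a := h4
            _ = (d⁻¹ * (b : G) * d) * ((b : G)⁻¹ * a) := by group
            _ = (d⁻¹ * (b : G) * d) * ((a : G) * (b : G)⁻¹) := by
                rw [comm_of_mem hC T hnc (Subgroup.inv_mem _ b.2) a.2]
        rw [h3]
        calc (d⁻¹ * (b : G) * d)⁻¹ * ((d⁻¹ * (b : G) * d) * ((a : G) * (b : G)⁻¹))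
            = (a : G) * (b : G)⁻¹ := by group
          _ = (b : G)⁻¹ * a := comm_of_mem hC T hnc a.2 (Subgroup.inv_mem _ b.2)
      calc d⁻¹ * ((b : G)⁻¹ * a) * d = (d⁻¹ * (b : G) * d)⁻¹ * (d⁻¹ * (a : G) * d) := by group
        _ = (b : G)⁻¹ * a := h2
    by_cases hc1 : (b : G)⁻¹ * a = 1
    · apply Subtype.ext
      have : (b : G) * ((b : G)⁻¹ * a) = b := by rw [hc1, mul_one]
      simpa using this
    · exfalso
      have hto : orderOf ((b : G)⁻¹ * a) = 2 :=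
        orderOf_eq_prime (sq_eq_one_of_mem hC T hnc hc) hc1
      have hdc : d ∈ Subgroup.centralizer ({(b : G)⁻¹ * a} : Set G) := by
        rw [Subgroup.mem_centralizer_iff]
        intro y hy
        rw [Set.mem_singleton_iff] at hy
        subst hy
        have h5 : d * (d⁻¹ * ((b : G)⁻¹ * a) * d) = d * ((b : G)⁻¹ * a) := by rw [hcomm3]
        calc (b : G)⁻¹ * a * d = d * (d⁻¹ * ((b : G)⁻¹ * a) * d) := by group
          _ = d * ((b : G)⁻¹ * a) := h5
      exact hd1 (eq_one_of_sq T hSE hv₀H hd ((hC _ hto).2 d hdc))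
  have hsurj := Finite.injective_iff_surjective.mp hinj
  obtain ⟨a, ha⟩ := hsurj ⟨τ, hτ⟩
  have ha' : d⁻¹ * (a : G) * d * (a : G)⁻¹ = τ := congrArg Subtype.val ha
  have heconj : e = (a : G) * d * (a : G)⁻¹ := by
    rw [← hdτ, ← ha']; group
  -- the involution w
  set w := (a : G) * v₀ * (a : G)⁻¹ with hw
  have hwo : orderOf w = 2 := by rw [hw, order_conj']; exact hv₀
  have haH : (a : G) ∈ Hn T := Subgroup.le_normalizer a.2
  have hax : (a : G) • x0 T = x0 T := (smul_mk_one_eq_iff _).mpr haH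
  have hainvx : ((a : G))⁻¹ • x0 T = x0 T := (smul_mk_one_eq_iff _).mpr (Subgroup.inv_mem _ haH)
  have hwx : w • x0 T = (a : G) • ((v₀ : G) : G ⧸ Hn T) := by
    rw [hw, mul_smul, mul_smul, hainvx, ← smul_mk_one v₀]
  have hv₀x : x0 T ≠ ((v₀ : G) : G ⧸ Hn T) := by
    intro h
    exact hv₀H ((mk_eq_one_iff v₀).mp h.symm)
  have hwne : w • x0 T ≠ x0 T := by
    intro h
    rw [hwx] at h
    have h2 : ((v₀ : G) : G ⧸ Hn T) = x0 T := by
      have := congrArg (fun q => ((a : G))⁻¹ • q) h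
      simp only [inv_smul_smul] at this
      rw [this, hainvx]
    exact hv₀x h2.symm
  have hwH : w ∉ Hn T := not_mem_of_ne T hwne
  have hmk : ((w : G) : G ⧸ Hn T) = (a : G) • ((v₀ : G) : G ⧸ Hn T) := by
    rw [← hwx, x0, smul_mk_one]
  have hew : e ∈ Dn T w := by
    rw [mem_inter_iff]
    refine ⟨((mem_inter_iff _ _ _).mp he).1, ?_⟩
    rw [hmk, heconj, mul_smul, mul_smul, inv_smul_smul]
    rw [((mem_inter_iff _ _ _).mp hd).2]
  have hDeq := D_eq_of_common T hnc hC hSE hv hvH hwo hwH he1 he hew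
  have hfix : ∀ g ∈ Dn T w, g • ((v : G) : G ⧸ Hn T) = ((v : G) : G ⧸ Hn T) := by
    intro g hg
    rw [← hDeq] at hg
    exact ((mem_inter_iff _ _ _).mp hg).2
  rcases fixed_points T hnc hC hSE hwo hwH v hfix with h | h
  · exfalso
    rw [hvm] at h
    exact hp h
  · refine ⟨a, a.2, ?_⟩
    rw [← hmk, ← h, hvm]

/-- An element fixing H and two more points is trivial. -/
theorem eq_one_of_three_aux (hnc : ¬ IsCyclic (T : Subgroup G)) (hC : InvCentElem G)
    (hSE : Cfsg.IsStronglyEmbedded (Hn T)) (g : G) (b c : G ⧸ Hn T) (hb : b ≠ x0 T) (hc : c ≠ x0 T)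
    (hbc : b ≠ c) (h1 : g • x0 T = x0 T) (h2 : g • b = b) (h3 : g • c = c) : g = 1 := by
  classical
  by_contra hg
  obtain ⟨v, hv, hvx⟩ := exists_invol_move T hSE (x0 T) b hb.symm
  obtain ⟨w, hw, hwx⟩ := exists_invol_move T hSE (x0 T) c hc.symm
  have hvH : v ∉ Hn T := invol_not_mem_of_move T hvx hb
  have hwH : w ∉ Hn T := invol_not_mem_of_move T hwx hc
  have hvm : ((v : G) : G ⧸ Hn T) = b := by rw [← hvx, x0, smul_mk_one]
  have hwm : ((w : G) : G ⧸ Hn T) = c := by rw [← hwx, x0, smul_mk_one]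
  have hgv : g ∈ Dn T v := by
    rw [mem_inter_iff, hvm]
    exact ⟨h1, h2⟩
  have hgw : g ∈ Dn T w := by
    rw [mem_inter_iff, hwm]
    exact ⟨h1, h3⟩
  have hDeq := D_eq_of_common T hnc hC hSE hv hvH hw hwH hg hgv hgw
  have hfix : ∀ e ∈ Dn T v, e • ((w : G) : G ⧸ Hn T) = ((w : G) : G ⧸ Hn T) := by
    intro e he
    rw [hDeq] at he
    exact ((mem_inter_iff _ _ _).mp he).2
  rcases fixed_points T hnc hC hSE hv hvH w hfix with h | h
  · rw [hwm] at h
    exact hc h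
  · rw [hwm, hvm] at h
    exact hbc h.symm

end

/-- Let G be a finite group with a Sylow 2-subgroup T that is neither cyclic nor normal, such that the centralizer of every involution is an elementary abelian 2-group; put H = N_G(T) and X = G/H. Then G is triply transitive on X, an element fixing three distinct points of X is the identity, and T acts regularly on X minus the point H. -/
theorem result {G : Type*} [Group G] [Finite G] (T : Sylow 2 G) (hnc : ¬ IsCyclic (T : Subgroup G)) (hnn : ¬ (T : Subgroup G).Normal) (hC : ∀ t : G, orderOf t = 2 → IsMulCommutative (Subgroup.centralizer ({t} : Set G)) ∧ ∀ c ∈ Subgroup.centralizer ({t} : Set G), c ^ 2 = 1) : (∀ x₁ x₂ x₃ y₁ y₂ y₃ : G ⧸ Subgroup.normalizer ((T : Subgroup G) : Set G), x₁ ≠ x₂ → x₁ ≠ x₃ → x₂ ≠ x₃ → y₁ ≠ y₂ → y₁ ≠ y₃ → y₂ ≠ y₃ → ∃ g : G, g • x₁ = y₁ ∧ g • x₂ = y₂ ∧ g • x₃ = y₃) ∧ (∀ g : G, ∀ x₁ x₂ x₃ : G ⧸ Subgroup.normalizer ((T : Subgroup G) : Set G),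 x₁ ≠ x₂ → x₁ ≠ x₃ → x₂ ≠ x₃ → g • x₁ = x₁ → g • x₂ = x₂ → g • x₃ = x₃ → g = 1) ∧ (∀ x y : G ⧸ Subgroup.normalizer ((T : Subgroup G) : Set G), x ≠ QuotientGroup.mk 1 → y ≠ QuotientGroup.mk 1 → ∃! t : G, t ∈ T ∧ t • x = y) := by
  classical
  have hC' : InvCentElem G := hC
  have hSE : Cfsg.IsStronglyEmbedded (Hn T) := Cfsg.Agent.S1226.result T hnc hnn hC
  -- a point other than H and an involution moving to it
  have hex : ∃ g : G, g ∉ Hn T := by
    by_contra h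
    push Not at h
    exact hSE.1 (eq_top_iff.mpr fun g _ => h g)
  obtain ⟨g₀, hg₀⟩ := hex
  have hg₀x : x0 T ≠ ((g₀ : G) : G ⧸ Hn T) := by
    intro h
    exact hg₀ ((mk_eq_one_iff g₀).mp h.symm)
  obtain ⟨v₀, hv₀, hv₀x⟩ := exists_invol_move T hSE (x0 T) _ hg₀x
  have hv₀m : ((v₀ : G) : G ⧸ Hn T) = ((g₀ : G) : G ⧸ Hn T) := by rw [← hv₀x, x0, smul_mk_one]
  have hv₀H : v₀ ∉ Hn T := invol_not_mem_of_move T hv₀x (fun h => hg₀x h.symm)
  set y0 : G ⧸ Hn T := ((v₀ : G) : G ⧸ Hn T) with hy0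
  have hy0x : y0 ≠ x0 T := by
    intro h
    exact hv₀H ((mk_eq_one_iff v₀).mp h)
  have hTx : ∀ t ∈ (T : Subgroup G), t • x0 T = x0 T :=
    fun t ht => (smul_mk_one_eq_iff t).mpr (Subgroup.le_normalizer ht)
  -- an element of T fixing a point other than H is trivial
  have hTfree : ∀ t ∈ (T : Subgroup G), ∀ p : G ⧸ Hn T, p ≠ x0 T → t • p = p → t = 1 := by
    intro t ht p hp htp
    by_contra ht1
    have hto : orderOf t = 2 := orderOf_eq_prime (sq_eq_one_of_mem hC' T hnc ht) ht1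
    exact hp (fix_unique (Hn T) hSE t hto p (x0 T) htp (hTx t ht))
  have hT3 : ∀ x y : G ⧸ Hn T, x ≠ x0 T → y ≠ x0 T → ∃! t : G, t ∈ (T : Subgroup G) ∧ t • x = y := by
    intro x y hx hy
    obtain ⟨a, ha, hax⟩ := exists_T_smul_eq T hnc hC' hSE hv₀ hv₀H x hx
    obtain ⟨b, hb, hby⟩ := exists_T_smul_eq T hnc hC' hSE hv₀ hv₀H y hy
    refine ⟨b * a⁻¹, ⟨Subgroup.mul_mem _ hb (Subgroup.inv_mem _ ha), ?_⟩, ?_⟩
    · rw [← hax, smul_smul, inv_mul_cancel_right, hby]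
    · rintro t ⟨ht, htx⟩
      have h1 : (b * a⁻¹)⁻¹ * t ∈ (T : Subgroup G) :=
        Subgroup.mul_mem _ (Subgroup.inv_mem _ (Subgroup.mul_mem _ hb (Subgroup.inv_mem _ ha))) ht
      have h2 : ((b * a⁻¹)⁻¹ * t) • x = x := by
        rw [mul_smul, htx, ← hby, ← hax, smul_smul]
        congr 1
        group
      have h3 := hTfree _ h1 x hx h2
      exact (inv_mul_eq_one.mp h3).symm
  -- element fixing three points
  have hthree : ∀ g : G, ∀ x₁ x₂ x₃ : G ⧸ Hn T, x₁ ≠ x₂ → x₁ ≠ x₃ → x₂ ≠ x₃ → g • x₁ = x₁ → g • x₂ = x₂ → g • x₃ = x₃ → g = 1 := by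
    intro g x₁ x₂ x₃ h12 h13 h23 h1 h2 h3
    induction x₁ using QuotientGroup.induction_on with
    | H a =>
    have h1a : a • x0 T = ((a : G) : G ⧸ Hn T) := smul_mk_one a
    have hh : a⁻¹ • ((a : G) : G ⧸ Hn T) = x0 T := by rw [← h1a, inv_smul_smul]
    have hne : ∀ q : G ⧸ Hn T, q ≠ ((a : G) : G ⧸ Hn T) → a⁻¹ • q ≠ x0 T := by
      intro q hq h
      apply hq
      rw [← h1a, ← h, smul_inv_smul]
    have hg' : (a⁻¹ * g * a) = 1 := by
      apply eq_one_of_three_aux T hnc hC' hSE (a⁻¹ * g * a) (a⁻¹ • x₂) (a⁻¹ • x₃) (hne _ h12.symm) (hne _ h13.symm)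
      · intro h
        exact h23 (smul_left_cancel _ h)
      · rw [mul_smul, mul_smul, h1a, h1, hh]
      · rw [mul_smul, mul_smul, smul_inv_smul, h2]
      · rw [mul_smul, mul_smul, smul_inv_smul, h3]
    have : g = a * (a⁻¹ * g * a) * a⁻¹ := by group
    rw [this, hg']
    group
  -- base triple
  obtain ⟨z, hzT, hz, -⟩ := exists_central_involution T hnc
  have hz1 : z ≠ 1 := by
    rintro rfl
    simp at hz
  set z0 : G ⧸ Hn T := z • y0 with hz0
  have hz0x : z0 ≠ x0 T := by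
    intro h
    apply hy0x
    have : y0 = z⁻¹ • z0 := by rw [hz0, inv_smul_smul]
    rw [this, h]
    exact hTx _ (Subgroup.inv_mem _ hzT)
  have hz0y : z0 ≠ y0 := by
    intro h
    exact hz1 (hTfree z hzT y0 hy0x h)
  -- every triple is the image of the base triple
  have hbase : ∀ a b c : G ⧸ Hn T, a ≠ b → a ≠ c → b ≠ c →
      ∃ g : G, g • x0 T = a ∧ g • y0 = b ∧ g • z0 = c := by
    intro a b c hab hac hbc
    induction a using QuotientGroup.induction_on with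
    | H g₁ =>
    have h1a : g₁ • x0 T = ((g₁ : G) : G ⧸ Hn T) := smul_mk_one g₁
    have hne : ∀ q : G ⧸ Hn T, q ≠ ((g₁ : G) : G ⧸ Hn T) → g₁⁻¹ • q ≠ x0 T := by
      intro q hq h
      apply hq
      rw [← h1a, ← h, smul_inv_smul]
    obtain ⟨τ, hτ, hτy⟩ := exists_T_smul_eq T hnc hC' hSE hv₀ hv₀H (g₁⁻¹ • b) (hne b hab.symm)
    -- the remaining point
    set r : G ⧸ Hn T := τ⁻¹ • g₁⁻¹ • c with hr
    have hrx : r ≠ x0 T := by
      intro h
      apply hne c hac.symm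
      have : g₁⁻¹ • c = τ • r := by rw [hr, smul_inv_smul]
      rw [this, h]
      exact hTx τ hτ
    have hry : r ≠ y0 := by
      intro h
      apply hbc
      have h1 : g₁⁻¹ • c = g₁⁻¹ • b := by
        rw [← hτy]
        have : g₁⁻¹ • c = τ • r := by rw [hr, smul_inv_smul]
        rw [this, h]
      exact (smul_left_cancel _ h1).symm
    -- r = τ₂ y0, z0 = z y0; conjugate
    obtain ⟨τ₂, hτ₂, hτ₂y⟩ := exists_T_smul_eq T hnc hC' hSE hv₀ hv₀H r hrx
    have hτ₂1 : τ₂ ≠ 1 := by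
      rintro rfl
      rw [one_smul] at hτ₂y
      exact hry hτ₂y.symm
    have hτ₂o : orderOf τ₂ = 2 := orderOf_eq_prime (sq_eq_one_of_mem hC' T hnc hτ₂) hτ₂1
    obtain ⟨d, hd, hdz⟩ := conj_in_inter (Hn T) hSE v₀ hv₀ hv₀H z τ₂ hz
      (Subgroup.le_normalizer hzT) hτ₂o (Subgroup.le_normalizer hτ₂)
    have hdx : d • x0 T = x0 T := ((mem_inter_iff _ _ _).mp hd).1
    have hdy : d • y0 = y0 := ((mem_inter_iff _ _ _).mp hd).2
    refine ⟨g₁ * τ * d, ?_, ?_, ?_⟩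
    · rw [mul_smul, mul_smul, hdx, hTx τ hτ, h1a]
    · rw [mul_smul, mul_smul, hdy, hτy, smul_inv_smul]
    · rw [mul_smul, mul_smul]
      have h5 : d • z0 = r := by
        have h6 : d • (z • y0) = (d * z * d⁻¹) • (d • y0) := by
          rw [smul_smul, smul_smul]
          congr 1
          group
        rw [hz0, h6, hdy, hdz]
        exact hτ₂y
      rw [h5, hr, smul_inv_smul, smul_inv_smul]
  refine ⟨?_, hthree, hT3⟩
  intro x₁ x₂ x₃ y₁ y₂ y₃ h12 h13 h23 k12 k13 k23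
  obtain ⟨g, hg1, hg2, hg3⟩ := hbase x₁ x₂ x₃ h12 h13 h23
  obtain ⟨g', hg1', hg2', hg3'⟩ := hbase y₁ y₂ y₃ k12 k13 k23
  refine ⟨g' * g⁻¹, ?_, ?_, ?_⟩
  · rw [← hg1, ← hg1', smul_smul]; simp [mul_smul]
  · rw [← hg2, ← hg2', smul_smul]; simp [mul_smul]
  · rw [← hg3, ← hg3', smul_smul]; simp [mul_smul]

end Cfsg.Agent.S1229
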