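import Cfsg.Statements.S1230
import Mathlib
import Cfsg.Agent.S1229
import Cfsg.Agent.S0727
import Cfsg.Agent.Lib.PSL2.Overgroups

set_option autoImplicit false
open Cfsg

namespace Cfsg.Agent.S1230

open Cfsg.Agent.Lib.PSL2.Basic Cfsg.Agent.Lib.PSL2.DicksonCor in
/-- In characteristic two `PSL(2, F)` and `PGL(2, F)` agree. -/
noncomputable def pglEquiv (F : Type*) [Field F] [Fintype F] (h2 : (2 : F) = 0) :
    Matrix.ProjectiveSpecialLinearGroup (Fin 2) F ≃* Matrix.ProjGenLinGroup (Fin 2) F := by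
  have hc : Nat.card (Matrix.ProjGenLinGroup (Fin 2) F) =
      Nat.card (Matrix.ProjectiveSpecialLinearGroup (Fin 2) F) := by
    have h1 := card_PSL2_mul_dd F
    have hq := card_ge_two F
    have hev : Fintype.card F % 2 = 0 := by
      have hc : ringChar F = 2 := CharP.ringChar_of_prime_eq_zero (R := F) Nat.prime_two (by exact_mod_cast h2)
      exact FiniteField.even_card_iff_char_two.1 hc
    have h3 : dd F = 1 := Cfsg.Agent.Lib.PSL2.Overgroups.gcd_two_even (by omega) hev
    rw [h3, mul_one] at h1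
    rw [Cfsg.Agent.Lib.PSL2.FieldEmbed.card_PGL, h1]
  haveI : Finite (Matrix.ProjectiveSpecialLinearGroup (Fin 2) F) := by
    haveI : Finite (Matrix.SpecialLinearGroup (Fin 2) F) :=
      Finite.of_injective (fun A : Matrix.SpecialLinearGroup (Fin 2) F => A.1) Subtype.val_injective
    exact Quotient.finite _
  haveI : Finite (Matrix.ProjGenLinGroup (Fin 2) F) := by
    haveI : Finite (GL (Fin 2) F) := Finite.of_injective (fun A : GL (Fin 2) F => A.1) Units.val_injective
    exact Quotient.finite _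
  exact MulEquiv.ofBijective Matrix.ProjectiveSpecialLinearGroup.toPGL
    ((Nat.bijective_iff_injective_and_card _).2
      ⟨Matrix.ProjectiveSpecialLinearGroup.toPGL_injective, hc.symm⟩)

/-- Let G be a finite group with a Sylow 2-subgroup T that is neither cyclic nor normal, such that the centralizer of every involution is an elementary abelian 2-group. Then G ≅ PSL(2,F) for a finite field F with |F| = |T|. -/
theorem result {G : Type*} [Group G] [Finite G] (T : Sylow 2 G) (hnc : ¬ IsCyclic (T : Subgroup G)) (hnn : ¬ (T : Subgroup G).Normal) (hC : ∀ t : G, orderOf t = 2 → IsMulCommutative (Subgroup.centralizer ({t} : Set G)) ∧ ∀ c ∈ Subgroup.centralizer ({t} : Set G), c ^ 2 = 1) : ∃ (F : Type) (_ : Field F) (_ : Fintype F), Fintype.card F = Nat.card T ∧ Nonempty (G ≃* Matrix.ProjectiveSpecialLinearGroup (Fin 2) F) := by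
  classical
  obtain ⟨h3, hfix, hreg⟩ := Cfsg.Agent.S1229.result T hnc hnn hC
  set N := Subgroup.normalizer ((T : Subgroup G) : Set G) with hN
  let x₀ : G ⧸ N := QuotientGroup.mk 1
  have hmk : ∀ g : G, (QuotientGroup.mk g : G ⧸ N) = QuotientGroup.mk 1 ↔ g ∈ N := by
    intro g
    rw [QuotientGroup.eq]
    simp
  have hNtop : N ≠ ⊤ := fun h => hnn (Subgroup.normalizer_eq_top_iff.1 h)
  obtain ⟨y₁, hy₁⟩ : ∃ y : G ⧸ N, y ≠ x₀ := by
    by_contra hcon
    push Not at hcon
    apply hNtop
    rw [eq_top_iff]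
    intro g _
    have := hcon (QuotientGroup.mk g)
    exact (hmk g).1 this
  -- the degree
  have hbij : Function.Bijective (fun t : (T : Subgroup G) => (⟨(t : G) • y₁, by
      intro h
      have h1 : (t : G) • x₀ = x₀ := by
        have hm : (t : G) ∈ N := Subgroup.le_normalizer t.2
        show (QuotientGroup.mk ((t : G) * 1) : G ⧸ N) = QuotientGroup.mk 1
        rw [mul_one]
        exact (hmk _).2 hm
      have h2 : (t : G) • y₁ = (t : G) • x₀ := by rw [h, h1]
      exact hy₁ (smul_left_cancel _ h2)⟩ : {y : G ⧸ N // y ≠ x₀})) := by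
    constructor
    · rintro ⟨t, ht⟩ ⟨t', ht'⟩ h
      have h1 : t • y₁ = t' • y₁ := congrArg Subtype.val h
      obtain ⟨u, -, hu⟩ := hreg y₁ (t • y₁) hy₁ (by
        intro h
        have h5 : t • x₀ = x₀ := by
          have hm : t ∈ N := Subgroup.le_normalizer ht
          show (QuotientGroup.mk (t * 1) : G ⧸ N) = QuotientGroup.mk 1
          rw [mul_one]
          exact (hmk _).2 hm
        have h2 : t • y₁ = t • x₀ := by rw [h, h5]
        exact hy₁ (smul_left_cancel _ h2))
      have e1 := hu t ⟨ht, rfl⟩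
      have e2 := hu t' ⟨ht', h1.symm⟩
      exact Subtype.ext (e1.trans e2.symm)
    · rintro ⟨y, hy⟩
      obtain ⟨t, ⟨ht, hty⟩, -⟩ := hreg y₁ y hy₁ hy
      exact ⟨⟨t, ht⟩, Subtype.ext hty⟩
  have hcardT : Nat.card T = Nat.card {y : G ⧸ N // y ≠ x₀} := Nat.card_congr (Equiv.ofBijective _ hbij)
  letI : Fintype (G ⧸ N) := Fintype.ofFinite _
  have hcardX : Fintype.card (G ⧸ N) = Nat.card T + 1 := by
    rw [hcardT, Nat.card_eq_fintype_card, Fintype.card_subtype_compl (· = x₀)]
    have h1 : Fintype.card {y : G ⧸ N // y = x₀} = 1 := Fintype.card_subtype_eq x₀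
    have h2 : 1 ≤ Fintype.card (G ⧸ N) := Fintype.card_pos_iff.2 ⟨x₀⟩
    rw [h1]
    omega
  obtain ⟨f, hf⟩ := (IsPGroup.iff_card.1 T.isPGroup')
  have hf1 : 1 ≤ f := by
    by_contra hcon
    have h0 : f = 0 := by omega
    rw [h0, pow_zero] at hf
    haveI : Subsingleton (T : Subgroup G) := (Nat.card_eq_one_iff_unique.1 hf).1
    exact hnc isCyclic_of_subsingleton
  have hα : Fintype.card (G ⧸ N) = 2 ^ f + 1 := by rw [hcardX, hf]
  have h4 : 4 ≤ Nat.card T := by
    rw [hf]
    have hf2 : 2 ≤ f := by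
      by_contra hcon
      have h0 : f = 1 := by omega
      rw [h0, pow_one] at hf
      haveI : Fact (Nat.Prime 2) := ⟨Nat.prime_two⟩
      exact hnc (isCyclic_of_prime_card hf)
    calc 4 = 2 ^ 2 := by norm_num
      _ ≤ 2 ^ f := Nat.pow_le_pow_right (by norm_num) hf2
  -- three points
  have hthree : ∀ g : G, (∀ y : G ⧸ N, g • y = y) → g = 1 := by
    intro g hg
    have h5 : 3 ≤ Fintype.card (G ⧸ N) := by omega
    obtain ⟨s, hs⟩ := Finset.exists_subset_card_eq h5
    obtain ⟨a, b, c, hab, hac, hbc, rfl⟩ := Finset.card_eq_three.1 hs.2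
    exact hfix g a b c hab hac hbc (hg a) (hg b) (hg c)
  let ρ : G →* Equiv.Perm (G ⧸ N) := MulAction.toPermHom G (G ⧸ N)
  have hρ : Function.Injective ρ := by
    rw [injective_iff_map_eq_one]
    intro g hg
    apply hthree
    intro y
    have := congrArg (fun σ : Equiv.Perm (G ⧸ N) => σ y) hg
    exact this
  have hpre : MulAction.IsMultiplyPretransitive ρ.range (G ⧸ N) 3 := by
    constructor
    intro u v
    obtain ⟨g, h1, h2, h3'⟩ := h3 (u 0) (u 1) (u 2) (v 0) (v 1) (v 2)
      (fun h => absurd (u.injective h) (by decide)) (fun h => absurd (u.injective h) (by decide))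
      (fun h => absurd (u.injective h) (by decide)) (fun h => absurd (v.injective h) (by decide))
      (fun h => absurd (v.injective h) (by decide)) (fun h => absurd (v.injective h) (by decide))
    refine ⟨⟨ρ g, g, rfl⟩, ?_⟩
    ext i
    fin_cases i
    · exact h1
    · exact h2
    · exact h3'
  have hsharp : ∀ u : Fin 3 ↪ (G ⧸ N), MulAction.stabilizer ρ.range u = ⊥ := by
    intro u
    rw [eq_bot_iff]
    rintro ⟨σ, g, rfl⟩ hσ
    have hs : ∀ i, g • u i = u i := by
      intro i
      have := congrArg (fun w : Fin 3 ↪ (G ⧸ N) => w i) hσ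
      exact this
    have h6 : g = 1 := hfix g (u 0) (u 1) (u 2) (fun h => absurd (u.injective h) (by decide))
      (fun h => absurd (u.injective h) (by decide)) (fun h => absurd (u.injective h) (by decide))
      (hs 0) (hs 1) (hs 2)
    rw [Subgroup.mem_bot]
    apply Subtype.ext
    rw [h6]
    simp
  obtain ⟨F, iF, fF, hF, ⟨e⟩⟩ := Cfsg.Agent.S0727.result hf1 hα ρ.range hpre hsharp
  have h2F : (2 : F) = 0 := by
    have h := Nat.cast_card_eq_zero F
    rw [hF] at h
    push_cast at h
    exact (pow_eq_zero_iff (by omega)).1 h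
  refine ⟨F, iF, fF, by rw [hF, hf], ⟨?_⟩⟩
  exact ((MonoidHom.ofInjective hρ).trans e).trans (pglEquiv F h2F).symm


end Cfsg.Agent.S1230
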