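import Cfsg.Statements.S0730
import Mathlib
import Cfsg.Agent.S0727
import Cfsg.Agent.Lib.Frobenius.QuatComplement
import Cfsg.Agent.Lib.Perm.ZassField
import Cfsg.Agent.Lib.PSL2.FieldEmbed

set_option autoImplicit false
open Cfsg

namespace Cfsg.Agent.S0730

open MulAction OnePoint
open scoped MatrixGroups
open Cfsg.Agent.Lib.Perm.MoebiusPGL

/-- The sign of a permutation all of whose non-trivial cycles have the same length. -/
theorem sign_of_semiregular {α : Type*} [Fintype α] [DecidableEq α] (σ : Equiv.Perm α)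
    (hfree : ∀ (k : ℕ) (x : α), σ x ≠ x → (σ ^ k) x = x → σ ^ k = 1) {n m : ℕ}
    (hn : orderOf σ = n) (hsupp : σ.support.card = n * m) (hne : Even n) (hm : Odd m)
    (hn0 : 0 < n) : Equiv.Perm.sign σ = -1 := by
  have hall : ∀ d ∈ σ.cycleType, d = n := by
    intro d hd
    have h1 : d ∣ orderOf σ := Equiv.Perm.dvd_of_mem_cycleType hd
    obtain ⟨c, τ, hσ, hdis, hc, hcd⟩ := Equiv.Perm.mem_cycleType_iff.mp hd
    obtain ⟨x, hx, -⟩ := id hc
    have hτx : τ x = x := by
      rcases hdis x with h | h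
      · exact absurd h hx
      · exact h
    have hσx : σ x ≠ x := by
      rw [hσ, Equiv.Perm.mul_apply, hτx]
      exact hx
    have hpow : (σ ^ d) x = x := by
      have h2 : c ^ d = 1 := by
        rw [← hcd, ← hc.orderOf]
        exact pow_orderOf_eq_one c
      rw [hσ, hdis.commute.mul_pow, h2, one_mul]
      exact Equiv.Perm.pow_apply_eq_self_of_apply_eq_self hτx d
    have h3 := hfree d x hσx hpow
    have h4 : n ∣ d := by
      rw [← hn]
      exact orderOf_dvd_of_pow_eq_one h3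
    rw [hn] at h1
    exact Nat.dvd_antisymm h1 h4
  have hrep := Multiset.eq_replicate_card.mpr hall
  have hsum := Equiv.Perm.sum_cycleType σ
  rw [hsupp] at hsum
  have hcard : Multiset.card σ.cycleType = m := by
    rw [hrep] at hsum
    simp only [Multiset.sum_replicate, smul_eq_mul, Multiset.card_replicate] at hsum
    rw [mul_comm] at hsum
    exact Nat.eq_of_mul_eq_mul_left hn0 hsum
  rw [Equiv.Perm.sign_of_cycleType, Equiv.Perm.sum_cycleType, hsupp, hcard]
  have h5 : Odd (n * m + m) := by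
    exact Even.add_odd (hne.mul_right m) hm
  exact h5.neg_one_pow

/-- A subgroup acted on fixed point freely, with non-square order: all Sylow subgroups of the acting
group are cyclic. -/
theorem sylow_cyclic {G : Type*} [Group G] [Finite G] {F H : Subgroup G} (hF : F ≠ ⊥)
    (hnorm : H ≤ Subgroup.normalizer (F : Set G))
    (hfpf : ∀ a ∈ H, a ≠ 1 → ∀ v ∈ F, a * v = v * a → v = 1)
    (hns : ¬ IsSquare (Nat.card F)) {r : ℕ} [Fact r.Prime] (P : Sylow r H) : IsCyclic P := by
  let P' : Subgroup G := (P : Subgroup H).map H.subtype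
  have hP'H : P' ≤ H := by
    rintro _ ⟨x, -, rfl⟩
    exact x.2
  let e : (P : Subgroup H) ≃* P' := Subgroup.equivMapOfInjective _ _ H.subtype_injective
  have hP' : IsPGroup r P' := IsPGroup.of_equiv P.isPGroup' e
  rcases Cfsg.Agent.Lib.Frobenius.SylowFpf.isCyclic_or_quaternion_of_fpf hF (hP'H.trans hnorm)
    (fun a ha => hfpf a (hP'H ha)) hP' with h | ⟨-, n, ⟨f⟩⟩
  · exact isCyclic_of_surjective e.symm.toMonoidHom e.symm.surjective
  · by_cases hn : n = 0
    · subst hn
      have h1 : IsCyclic (QuaternionGroup (2 ^ 0)) := QuaternionGroup.quaternionGroup_one_isCyclic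
      exact isCyclic_of_surjective (f.symm.trans e.symm).toMonoidHom
        (f.symm.trans e.symm).surjective
    exfalso
    obtain ⟨i, j, hi1, hij, hi4, hrel⟩ :=
      Cfsg.Agent.Lib.Frobenius.QuatComplement.exists_quat_elements (2 ^ n) (dvd_pow_self 2 hn)
        (by positivity)
    let g : QuaternionGroup (2 ^ n) →* G := P'.subtype.comp f.symm.toMonoidHom
    have hg : Function.Injective g := P'.subtype_injective.comp f.symm.injective
    have hgH : ∀ x, g x ∈ H := fun x => hP'H (f.symm x).2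
    obtain ⟨-, -, h3⟩ := Cfsg.Agent.Lib.Frobenius.QuatSquare.odd_isSquare_of_quaternion_elements
      hnorm hfpf (hgH i) (hgH j) (i := g i) (j := g j)
      (by
        rw [← map_mul]
        intro h
        exact hi1 (hg (by rw [h, map_one])))
      (by rw [← map_mul, ← map_mul, hij])
      (by rw [← map_mul, ← map_mul, hi4, map_one])
      (by rw [← map_inv, ← map_inv, ← map_mul, ← map_mul, hrel])
    exact hns h3

/-- An involutory endomorphism of a finite field of non-square order is the identity. -/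
theorem invol_eq_id {E : Type*} [Field E] [Finite E] (σ₀ : E →+* E) (hσ : ∀ x, σ₀ (σ₀ x) = x)
    (hns : ¬ IsSquare (Nat.card E)) (x : E) : σ₀ x = x := by
  classical
  by_contra hne
  let σ : E ≃+* E := RingEquiv.ofRingHom σ₀ σ₀ (RingHom.ext hσ) (RingHom.ext hσ)
  have hσ' : ∀ y, σ y = σ₀ y := fun _ => rfl
  haveI : Finite (E ≃+* E) := Finite.of_injective (fun τ : E ≃+* E => (τ : E → E))
    (fun a b hab => RingEquiv.ext (congrFun hab))
  let Γ : Subgroup (E ≃+* E) := Subgroup.zpowers σ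
  haveI : Fact (Nat.Prime 2) := ⟨Nat.prime_two⟩
  haveI : Fintype Γ := Fintype.ofFinite _
  have h1 : σ ^ 2 = 1 := by
    apply RingEquiv.ext
    intro y
    exact hσ y
  have h2 : σ ≠ 1 := by
    intro h
    apply hne
    have : σ x = x := by rw [h]; rfl
    exact this
  have hcard : Fintype.card Γ = 2 := by
    rw [← Nat.card_eq_fintype_card, Nat.card_zpowers]
    exact orderOf_eq_prime h1 h2
  have hfin := FixedPoints.finrank_eq_card Γ E
  let K := FixedPoints.subfield Γ E
  haveI : Finite K := inferInstance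
  haveI : Fintype E := Fintype.ofFinite E
  haveI : Fintype K := Fintype.ofFinite K
  have h4 := Module.card_eq_pow_finrank (K := K) (V := E)
  rw [hfin, hcard] at h4
  apply hns
  rw [Nat.card_eq_fintype_card, h4]
  exact ⟨Fintype.card K, by ring⟩

/-- A subgroup of more than half the order is everything. -/
theorem eq_top_of_large {A : Type*} [AddGroup A] [Finite A] (L : AddSubgroup A)
    (h : Nat.card A < 2 * Nat.card L) : L = ⊤ := by
  by_contra hne
  have h1 : L.index ≠ 1 := by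
    rw [Ne, AddSubgroup.index_eq_one]
    exact hne
  have h2 : L.index ≠ 0 := AddSubgroup.index_ne_zero_of_finite
  have h3 := AddSubgroup.card_mul_index L
  have h4 : 2 ≤ L.index := by omega
  have h5 : Nat.card L * 2 ≤ Nat.card L * L.index := Nat.mul_le_mul_left _ h4
  omega

/-- The field from a large commutative group acting freely on a commutative group. -/
theorem exists_field_large {G : Type*} [Group G] [Finite G] (F H : Subgroup G)
    (hFcomm : ∀ x ∈ F, ∀ y ∈ F, x * y = y * x) (hHcomm : ∀ x ∈ H, ∀ y ∈ H, x * y = y * x)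
    (hFn : ∀ h ∈ H, ∀ u ∈ F, h * u * h⁻¹ ∈ F)
    (hfree : ∀ h ∈ H, ∀ u ∈ F, h * u * h⁻¹ = u → h = 1 ∨ u = 1)
    (hcard : Nat.card F < 2 * (Nat.card H + 1))
    (u₁ : G) (hu₁ : u₁ ∈ F) (hu₁1 : u₁ ≠ 1) :
    ∃ (K : Type) (_ : Field K) (_ : Fintype K) (θ : K → G),
      (∀ r, θ r ∈ F) ∧ (∀ r s, θ (r + s) = θ r * θ s) ∧ Function.Injective θ ∧
      (∀ u ∈ F, ∃ r, θ r = u) ∧ θ 1 = u₁ ∧ ∀ h ∈ H, ∃ c : K, ∀ r, θ (c * r) = h * θ r * h⁻¹ := by
  classical
  letI : CommGroup F := { (inferInstance : Group F) with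
    mul_comm := fun x y => Subtype.ext (hFcomm x x.2 y y.2) }
  let ρ : H → AddMonoid.End (Additive F) := fun h =>
    { toFun := fun w => Additive.ofMul ⟨h.1 * w.toMul.1 * h.1⁻¹, hFn h.1 h.2 _ w.toMul.2⟩
      map_zero' := by
        apply Additive.toMul.injective
        apply Subtype.ext
        change h.1 * 1 * h.1⁻¹ = 1
        simp
      map_add' := fun u w => by
        apply Additive.toMul.injective
        apply Subtype.ext
        change h.1 * (u.toMul.1 * w.toMul.1) * h.1⁻¹ =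
          (h.1 * u.toMul.1 * h.1⁻¹) * (h.1 * w.toMul.1 * h.1⁻¹)
        group }
  have hρ : ∀ (h : H) (w : F), ((ρ h (Additive.ofMul w)).toMul : G) = h.1 * w * h.1⁻¹ :=
    fun _ _ => rfl
  have hcomm : ∀ s ∈ Set.range ρ, ∀ t ∈ Set.range ρ, s * t = t * s := by
    rintro _ ⟨h, rfl⟩ _ ⟨k, rfl⟩
    apply AddMonoidHom.ext
    intro w
    apply Additive.toMul.injective
    apply Subtype.ext
    change h.1 * (k.1 * w.toMul.1 * k.1⁻¹) * h.1⁻¹ = k.1 * (h.1 * w.toMul.1 * h.1⁻¹) * k.1⁻¹
    have h1 : h.1 * k.1 = k.1 * h.1 := hHcomm h.1 h.2 k.1 k.2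
    calc h.1 * (k.1 * w.toMul.1 * k.1⁻¹) * h.1⁻¹ = (h.1 * k.1) * w.toMul.1 * (h.1 * k.1)⁻¹ := by
          group
      _ = (k.1 * h.1) * w.toMul.1 * (k.1 * h.1)⁻¹ := by rw [h1]
      _ = k.1 * (h.1 * w.toMul.1 * h.1⁻¹) * k.1⁻¹ := by group
  have hne1 : ∀ x : Additive F, x ≠ 0 → (x.toMul : G) ≠ 1 := by
    intro x hx he
    apply hx
    apply Additive.toMul.injective
    exact Subtype.ext he
  have hirr : ∀ B : AddSubgroup (Additive F), (∀ t ∈ Set.range ρ, ∀ x ∈ B, t x ∈ B) →
      B = ⊥ ∨ B = ⊤ := by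
    intro B hB
    by_cases hB0 : B = ⊥
    · exact Or.inl hB0
    right
    obtain ⟨x, hxB, hx0⟩ := (AddSubgroup.bot_or_exists_ne_zero B).resolve_left hB0
    apply eq_top_of_large
    have hle : Nat.card H + 1 ≤ Nat.card B := by
      let g : Option H → B := fun o => o.elim 0 (fun h => ⟨ρ h x, hB _ ⟨h, rfl⟩ x hxB⟩)
      have hg : Function.Injective g := by
        have hρ0 : ∀ h : H, ρ h x ≠ 0 := by
          intro h he
          apply hne1 x hx0
          have h1 : h.1 * (x.toMul : G) * h.1⁻¹ = 1 :=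
            congrArg (fun w : Additive F => ((w.toMul : F) : G)) he
          have h2 : h.1⁻¹ * (h.1 * (x.toMul : G) * h.1⁻¹) * h.1 = h.1⁻¹ * 1 * h.1 := by rw [h1]
          simpa [mul_assoc] using h2
        rintro (_ | a) (_ | b) hab
        · rfl
        · exfalso
          have : (0 : Additive F) = ρ b x := congrArg Subtype.val hab
          exact hρ0 b this.symm
        · exfalso
          have : ρ a x = (0 : Additive F) := congrArg Subtype.val hab
          exact hρ0 a this
        · have h1 : ρ a x = ρ b x := congrArg Subtype.val hab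
          have h2 : a.1 * (x.toMul : G) * a.1⁻¹ = b.1 * (x.toMul : G) * b.1⁻¹ :=
            congrArg (fun w : Additive F => ((w.toMul : F) : G)) h1
          have h3 : (b.1⁻¹ * a.1) * (x.toMul : G) * (b.1⁻¹ * a.1)⁻¹ = (x.toMul : G) := by
            calc (b.1⁻¹ * a.1) * (x.toMul : G) * (b.1⁻¹ * a.1)⁻¹
                = b.1⁻¹ * (a.1 * (x.toMul : G) * a.1⁻¹) * b.1 := by group
              _ = (x.toMul : G) := by rw [h2]; group
          rcases hfree _ (H.mul_mem (H.inv_mem b.2) a.2) _ (x.toMul : F).2 h3 with h4 | h4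
          · rw [inv_mul_eq_one] at h4
            have : a = b := Subtype.ext h4.symm
            rw [this]
          · exact absurd h4 (hne1 x hx0)
      have h5 := Nat.card_le_card_of_injective g hg
      rwa [Finite.card_option] at h5
    have hcA : Nat.card (Additive F) = Nat.card F := rfl
    rw [hcA]
    omega
  have he0 : Additive.ofMul (⟨u₁, hu₁⟩ : F) ≠ 0 := by
    intro h
    apply hu₁1
    exact congrArg (fun w : Additive F => ((w.toMul : F) : G)) h
  obtain ⟨K, iF, iK, θ, ι, hθ1, hθι⟩ :=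
    Cfsg.Agent.Lib.Perm.ZassField.exists_field (Set.range ρ) hcomm hirr _ he0
  -- transport to `Type`
  let e : Cfsg.Agent.S0727.Carrier (Fintype.card K) ≃ K := (Fintype.equivFin K).symm
  letI iF' : Field (Cfsg.Agent.S0727.Carrier (Fintype.card K)) := e.field
  let er : Cfsg.Agent.S0727.Carrier (Fintype.card K) ≃+* K :=
    { toEquiv := e
      map_mul' := fun x y => by
        change e (e.symm (e x * e y)) = e x * e y
        rw [Equiv.apply_symm_apply]
      map_add' := fun x y => by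
        change e (e.symm (e x + e y)) = e x + e y
        rw [Equiv.apply_symm_apply] }
  refine ⟨Cfsg.Agent.S0727.Carrier (Fintype.card K), iF', inferInstance,
    fun r => ((θ (er r)).toMul : F).1, fun r => ((θ (er r)).toMul : F).2, ?_, ?_, ?_, ?_, ?_⟩
  · intro r s
    simp only [map_add]
    rfl
  · intro r s hrs
    apply er.injective
    apply θ.injective
    apply Additive.toMul.injective
    exact Subtype.ext hrs
  · intro u hu
    refine ⟨er.symm (θ.symm (Additive.ofMul ⟨u, hu⟩)), ?_⟩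
    simp
  · simp only [map_one, hθ1]
    rfl
  · intro h hh
    refine ⟨er.symm (ι (ρ ⟨h, hh⟩)), ?_⟩
    intro r
    simp only [map_mul, RingEquiv.apply_symm_apply]
    rw [hθι _ ⟨_, rfl⟩]
    rfl

/-- The coefficients of a large group generate the field additively. -/
theorem closure_top {G : Type*} [Group G] [Finite G] (F H : Subgroup G) {K : Type*} [Field K]
    [Fintype K] (θ : K → G) (hθF : ∀ r, θ r ∈ F) (hθinj : Function.Injective θ)
    (hθsurj : ∀ u ∈ F, ∃ r, θ r = u)
    (hθadd : ∀ r s, θ (r + s) = θ r * θ s)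
    (hfree : ∀ h ∈ H, ∀ u ∈ F, h * u * h⁻¹ = u → h = 1 ∨ u = 1)
    (hcard : Nat.card F < 2 * (Nat.card H + 1))
    (hθc : ∀ h ∈ H, ∃ c : K, ∀ r, θ (c * r) = h * θ r * h⁻¹) :
    AddSubgroup.closure {c : K | ∃ k ∈ H, ∀ r, θ (c * r) = k * θ r * k⁻¹} = ⊤ := by
  classical
  choose! c hc using hθc
  have hθ0 : θ 0 = 1 := by
    have h1 := hθadd 0 0
    rw [add_zero] at h1
    exact (mul_eq_left.mp h1.symm)
  have hθ1 : θ 1 ≠ 1 := by
    intro h
    have := hθinj (h.trans hθ0.symm)
    exact one_ne_zero this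
  apply eq_top_of_large
  have hcK : Nat.card K = Nat.card F := by
    apply Nat.card_congr
    exact Equiv.ofBijective (fun r => (⟨θ r, hθF r⟩ : F))
      ⟨fun a b hab => hθinj (congrArg Subtype.val hab), fun u => by
        obtain ⟨r, hr⟩ := hθsurj u.1 u.2
        exact ⟨r, Subtype.ext hr⟩⟩
  rw [hcK]
  refine lt_of_lt_of_le hcard (Nat.mul_le_mul_left _ ?_)
  let g : Option H → AddSubgroup.closure {c : K | ∃ k ∈ H, ∀ r, θ (c * r) = k * θ r * k⁻¹} :=
    fun o => o.elim 0 (fun h => ⟨c h.1, AddSubgroup.subset_closure ⟨h.1, h.2, hc h.1 h.2⟩⟩)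
  have hc0 : ∀ h : H, c h.1 ≠ 0 := by
    intro h he
    have h1 := hc h.1 h.2 1
    rw [he, zero_mul, hθ0] at h1
    apply hθ1
    have h2 : h.1⁻¹ * (h.1 * θ 1 * h.1⁻¹) * h.1 = h.1⁻¹ * 1 * h.1 := by rw [← h1]
    simpa [mul_assoc] using h2
  have hg : Function.Injective g := by
    rintro (_ | a) (_ | b) hab
    · rfl
    · exfalso
      have : (0 : K) = c b.1 := congrArg Subtype.val hab
      exact hc0 b this.symm
    · exfalso
      have : c a.1 = (0 : K) := congrArg Subtype.val hab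
      exact hc0 a this
    · have h1 : c a.1 = c b.1 := congrArg Subtype.val hab
      have h2 := hc a.1 a.2 1
      rw [h1, hc b.1 b.2] at h2
      have h3 : (b.1⁻¹ * a.1) * θ 1 * (b.1⁻¹ * a.1)⁻¹ = θ 1 := by
        calc (b.1⁻¹ * a.1) * θ 1 * (b.1⁻¹ * a.1)⁻¹
            = b.1⁻¹ * (a.1 * θ 1 * a.1⁻¹) * b.1 := by group
          _ = θ 1 := by rw [← h2]; group
      rcases hfree _ (H.mul_mem (H.inv_mem b.2) a.2) _ (hθF 1) h3 with h4 | h4
      · rw [inv_mul_eq_one] at h4
        have : a = b := Subtype.ext h4.symm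
        rw [this]
      · exact absurd h4 hθ1
  have h5 := Nat.card_le_card_of_injective g hg
  rwa [Finite.card_option] at h5

/-- Elements normalising a large commutative group act as scalars, when the field has non-square
order. -/
theorem all_mult {G : Type*} [Group G] [Finite G] (F H K₀ : Subgroup G) {K : Type*} [Field K]
    [Fintype K] (θ : K → G) (hθF : ∀ r, θ r ∈ F) (hθadd : ∀ r s, θ (r + s) = θ r * θ s)
    (hθinj : Function.Injective θ) (hθsurj : ∀ u ∈ F, ∃ r, θ r = u)
    (hHF : ∀ h ∈ H, ∀ u ∈ F, h * u * h⁻¹ ∈ F)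
    (hK₀n : ∀ u ∈ H, ∀ k ∈ K₀, u * k * u⁻¹ ∈ K₀) (hsq : ∀ u ∈ H, u * u ∈ K₀)
    (hK₀comm : ∀ x ∈ K₀, ∀ y ∈ K₀, x * y = y * x)
    (hθc : ∀ k ∈ K₀, ∃ c : K, ∀ r, θ (c * r) = k * θ r * k⁻¹)
    (hclosure : AddSubgroup.closure {c : K | ∃ k ∈ K₀, ∀ r, θ (c * r) = k * θ r * k⁻¹} = ⊤)
    (hns : ¬ IsSquare (Fintype.card K)) :
    ∀ u ∈ H, ∃ c : K, ∀ r, θ (c * r) = u * θ r * u⁻¹ := by
  classical
  intro u hu
  have hex : ∀ r : K, ∃ s : K, θ s = u * θ r * u⁻¹ := fun r => hθsurj _ (hHF u hu _ (hθF r))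
  choose U hU using hex
  have hθ0 : θ 0 = 1 := by
    have h1 := hθadd 0 0
    rw [add_zero] at h1
    exact (mul_eq_left.mp h1.symm)
  have hUadd : ∀ r s, U (r + s) = U r + U s := by
    intro r s
    apply hθinj
    rw [hU, hθadd, hθadd, hU, hU]
    group
  have hU0 : U 0 = 0 := by
    have h1 := hUadd 0 0
    rw [add_zero] at h1
    exact left_eq_add.mp h1
  have hUneg : ∀ r, U (-r) = -U r := by
    intro r
    have h1 := hUadd r (-r)
    rw [add_neg_cancel, hU0] at h1
    exact (neg_eq_of_add_eq_zero_right h1.symm).symm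
  have hUinj : Function.Injective U := by
    intro a b hab
    apply hθinj
    have h1 : u * θ a * u⁻¹ = u * θ b * u⁻¹ := by rw [← hU, ← hU, hab]
    simpa [mul_assoc] using h1
  have he0 : U 1 ≠ 0 := by
    intro h
    exact one_ne_zero (hUinj (h.trans hU0.symm))
  set e := U 1 with he
  -- the coefficient of a conjugate
  have hconj : ∀ c k, k ∈ K₀ → (∀ r, θ (c * r) = k * θ r * k⁻¹) →
      ∃ c', (∀ r, θ (c' * r) = (u * k * u⁻¹) * θ r * (u * k * u⁻¹)⁻¹) ∧ ∀ r, U (c * r) = c' * U r := by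
    intro c k hk hc
    obtain ⟨c', hc'⟩ := hθc _ (hK₀n u hu k hk)
    refine ⟨c', hc', ?_⟩
    intro r
    apply hθinj
    rw [hU, hc, hc', hU]
    group
  have hmain : ∀ c : K, ∀ r, U (c * r) * e = U c * U r := by
    intro c
    have hc : c ∈ AddSubgroup.closure {c : K | ∃ k ∈ K₀, ∀ r, θ (c * r) = k * θ r * k⁻¹} := by
      rw [hclosure]
      exact AddSubgroup.mem_top c
    induction hc using AddSubgroup.closure_induction with
    | mem c hc =>
      obtain ⟨k, hk, hck⟩ := hc
      obtain ⟨c', -, h1⟩ := hconj c k hk hck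
      intro r
      have h2 := h1 1
      rw [mul_one] at h2
      rw [h1, h2]
      ring
    | zero =>
      intro r
      rw [zero_mul, hU0, zero_mul, zero_mul]
    | add a b _ _ ha hb =>
      intro r
      rw [add_mul, hUadd, hUadd, add_mul, add_mul, ha, hb]
    | neg a _ ha =>
      intro r
      rw [neg_mul, hUneg, hUneg, neg_mul, neg_mul, ha]
  let σ₀ : K →+* K :=
    { toFun := fun c => U c / e
      map_one' := by
        change e / e = 1
        exact div_self he0
      map_mul' := fun a b => by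
        change U (a * b) / e = U a / e * (U b / e)
        have h1 := hmain a b
        field_simp
        rw [h1]
      map_zero' := by
        change U 0 / e = 0
        rw [hU0, zero_div]
      map_add' := fun a b => by
        change U (a + b) / e = U a / e + U b / e
        rw [hUadd, add_div] }
  have hσ₀ : ∀ c, σ₀ c = U c / e := fun _ => rfl
  have hinvol : ∀ c, σ₀ (σ₀ c) = c := by
    intro c
    have hc : c ∈ AddSubgroup.closure {c : K | ∃ k ∈ K₀, ∀ r, θ (c * r) = k * θ r * k⁻¹} := by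
      rw [hclosure]
      exact AddSubgroup.mem_top c
    induction hc using AddSubgroup.closure_induction with
    | mem c hc =>
      obtain ⟨k, hk, hck⟩ := hc
      obtain ⟨c', hc', h1⟩ := hconj c k hk hck
      have h2 := h1 1
      rw [mul_one] at h2
      have h3 : σ₀ c = c' := by
        rw [hσ₀, h2]
        exact mul_div_cancel_right₀ c' he0
      obtain ⟨c'', hc'', h4⟩ := hconj c' _ (hK₀n u hu k hk) hc'
      have h5 := h4 1
      rw [mul_one] at h5
      have h6 : σ₀ c' = c'' := by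
        rw [hσ₀, h5]
        exact mul_div_cancel_right₀ c'' he0
      rw [h3, h6]
      -- `c'' = c`
      have h7 : u * (u * k * u⁻¹) * u⁻¹ = k := by
        have h8 : (u * u) * k = k * (u * u) := hK₀comm _ (hsq u hu) _ hk
        calc u * (u * k * u⁻¹) * u⁻¹ = (u * u) * k * (u * u)⁻¹ := by group
          _ = k := by rw [h8]; group
      have h9 := hc'' 1
      rw [h7, ← hck 1] at h9
      have h10 := hθinj h9
      rwa [mul_one, mul_one] at h10
    | zero => simp
    | add a b _ _ ha hb => rw [map_add, map_add, ha, hb]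
    | neg a _ ha => rw [map_neg, map_neg, ha]
  have hid : ∀ c, σ₀ c = c := invol_eq_id σ₀ hinvol (by rwa [Nat.card_eq_fintype_card])
  refine ⟨e, ?_⟩
  intro r
  have h1 := hid r
  rw [hσ₀, div_eq_iff he0] at h1
  rw [← hU r, h1, mul_comm]

/-- The twisted form of the involution does not occur. -/
theorem twist_free {G α : Type*} [Group G] [MulAction G α] {K : Type*} [Field K] [Finite K]
    (hfix : ∀ (g : G) (a b c : α), a ≠ b → a ≠ c → b ≠ c → g • a = a → g • b = b → g • c = c → g = 1)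
    (pt : K → α) (inf : α) (hpt_inj : Function.Injective pt) (hpt_inf : ∀ r, pt r ≠ inf)
    (H K₀ : Subgroup G) (hK₀H : K₀ ≤ H)
    (hcoef : ∀ h ∈ H, ∃ c : K, c ≠ 0 ∧ ∀ r, h • pt r = pt (c * r))
    (hsurj : ∀ r : K, r ≠ 0 → ∃ h ∈ H, ∀ x, h • pt x = pt (r * x))
    (hHinf : ∀ h ∈ H, h • inf = inf)
    (hquot : ∀ a ∈ H, ∀ b ∈ H, a ∉ K₀ → b ∉ K₀ → a * b⁻¹ ∈ K₀) (hsq : ∀ h ∈ H, h * h ∈ K₀)
    (t : G) (ht1 : t • inf = pt 0) (ht2 : t • pt 0 = inf) (ht3 : t • pt 1 = pt 1)
    (htt : t * t = 1)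
    (htH : ∀ h ∈ H, t * h * t⁻¹ ∈ H) (htinv : ∀ k ∈ K₀, t * k * t⁻¹ = k⁻¹)
    (w : G) (hw1 : ∀ r, w • pt r = pt (1 + r)) (hw2 : w • inf = inf)
    (hclosure : AddSubgroup.closure {c : K | ∃ k ∈ K₀, ∀ r, k • pt r = pt (c * r)} = ⊤)
    (h2 : (2 : K) ≠ 0) :
    ∀ r : K, r ≠ 0 → t • pt r = pt r⁻¹ := by
  classical
  have h01 : (0 : K) ≠ 1 := zero_ne_one
  have hconjact : ∀ (h : G) (x : α), (t * h * t⁻¹) • (t • x) = t • (h • x) := by
    intro h x
    simp [mul_smul]
  have hT : ∀ r : K, r ≠ 0 → ∃ r' : K, r' ≠ 0 ∧ t • pt r = pt r' ∧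
      ∀ h ∈ H, (∀ x, h • pt x = pt (r * x)) → ∀ x, (t * h * t⁻¹) • pt x = pt (r' * x) := by
    intro r hr
    obtain ⟨h, hh, hhr⟩ := hsurj r hr
    obtain ⟨c', hc'0, hc'⟩ := hcoef _ (htH h hh)
    have h1 : t • pt r = pt c' := by
      have h3 := hhr 1
      rw [mul_one] at h3
      rw [← h3, ← hconjact, ht3, hc', mul_one]
    refine ⟨c', hc'0, h1, ?_⟩
    intro h' hh' hh'r x
    obtain ⟨c'', hc''0, hc''⟩ := hcoef _ (htH h' hh')
    have h3 : (t * h' * t⁻¹) • pt 1 = pt c' := by
      have h4 := hh'r 1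
      rw [mul_one] at h4
      rw [← ht3, hconjact, h4, h1]
    rw [hc'', mul_one] at h3
    have h4 := hpt_inj h3
    rw [hc'', h4]
  choose! T hT0 hT1 hT2 using hT
  have hTmul : ∀ a b : K, a ≠ 0 → b ≠ 0 → T (a * b) = T a * T b := by
    intro a b ha hb
    obtain ⟨h, hh, hha⟩ := hsurj a ha
    apply hpt_inj
    rw [← hT1 _ (mul_ne_zero ha hb), ← hha, ← hconjact, hT1 b hb, hT2 a ha h hh hha]
  have hT1' : T 1 = 1 := by
    apply hpt_inj
    rw [← hT1 1 one_ne_zero, ht3]
  -- the coefficients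
  let C₀ : Set K := {c : K | ∃ k ∈ K₀, ∀ r, k • pt r = pt (c * r)}
  have hC0 : ∀ c ∈ C₀, c ≠ 0 := by
    rintro c ⟨k, hk, hck⟩ rfl
    obtain ⟨c', hc'0, hc'⟩ := hcoef k (hK₀H hk)
    have h3 := hck 1
    have h4 := hck 0
    rw [zero_mul] at h3 h4
    have h6 : k • pt 1 = k • pt 0 := h3.trans h4.symm
    exact h01 (hpt_inj (MulAction.injective k h6)).symm
  have hCmul : ∀ a ∈ C₀, ∀ b ∈ C₀, a * b ∈ C₀ := by
    rintro a ⟨k, hk, hka⟩ b ⟨l, hl, hlb⟩
    refine ⟨k * l, K₀.mul_mem hk hl, fun r => ?_⟩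
    rw [mul_smul, hlb, hka, mul_assoc]
  have hCinv : ∀ a ∈ C₀, a⁻¹ ∈ C₀ := by
    intro a ha
    have ha0 := hC0 a ha
    obtain ⟨k, hk, hka⟩ := ha
    refine ⟨k⁻¹, K₀.inv_mem hk, fun r => ?_⟩
    rw [inv_smul_eq_iff, hka, mul_inv_cancel_left₀ ha0]
  have hTC : ∀ c ∈ C₀, T c = c⁻¹ := by
    intro c hc
    have hc0 := hC0 c hc
    obtain ⟨k, hk, hck⟩ := hc
    have h3 := hT2 c hc0 k (hK₀H hk) hck 1
    rw [htinv k hk, mul_one, inv_smul_eq_iff, hck] at h3
    have h4 := hpt_inj h3
    exact eq_inv_of_mul_eq_one_right h4.symm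
  have hTsq : ∀ r : K, r ≠ 0 → r * T r = 1 ∨ r * T r = -1 := by
    intro r hr
    obtain ⟨h, hh, hhr⟩ := hsurj r hr
    have h3 : r * r ∈ C₀ := by
      refine ⟨h * h, hsq h hh, fun x => ?_⟩
      rw [mul_smul, hhr, hhr, mul_assoc]
    have h4 := hTC _ h3
    rw [hTmul r r hr hr] at h4
    have h5 : (r * T r) * (r * T r) = 1 := by
      calc (r * T r) * (r * T r) = (r * r) * (T r * T r) := by ring
        _ = 1 := by rw [h4]; exact mul_inv_cancel₀ (mul_ne_zero hr hr)
    have h6 : (r * T r - 1) * (r * T r + 1) = 0 := by linear_combination h5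
    rcases mul_eq_zero.mp h6 with h7 | h7
    · exact Or.inl (sub_eq_zero.mp h7)
    · exact Or.inr (eq_neg_of_add_eq_zero_left h7)
  intro r₁ hr₁
  by_contra hne
  rw [hT1 r₁ hr₁] at hne
  -- `r₁` is in the bad coset
  have hr₁T : T r₁ ≠ r₁⁻¹ := fun h => hne (by rw [h])
  have hr₁C : r₁ ∉ C₀ := fun h => hr₁T (hTC r₁ h)
  have hr₁m : r₁ * T r₁ = -1 := by
    rcases hTsq r₁ hr₁ with h | h
    · exact absurd (eq_inv_of_mul_eq_one_right h) hr₁T
    · exact h
  obtain ⟨h₁, hh₁, hh₁r⟩ := hsurj r₁ hr₁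
  have hh₁K : h₁ ∉ K₀ := fun h => hr₁C ⟨h₁, h, hh₁r⟩
  have hTbad : ∀ r : K, r ≠ 0 → r ∉ C₀ → T r = -r⁻¹ := by
    intro r hr hrC
    obtain ⟨h, hh, hhr⟩ := hsurj r hr
    have hhK : h ∉ K₀ := fun h' => hrC ⟨h, h', hhr⟩
    have h3 := hquot h hh h₁ hh₁ hhK hh₁K
    have h4 : r * r₁⁻¹ ∈ C₀ := by
      refine ⟨_, h3, fun x => ?_⟩
      have h5 : h₁⁻¹ • pt x = pt (r₁⁻¹ * x) := by
        rw [inv_smul_eq_iff, hh₁r, mul_inv_cancel_left₀ hr₁]
      rw [mul_smul, h5, hhr, mul_assoc]
    have h5 := hTC _ h4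
    have h6 : T r = T (r * r₁⁻¹) * T r₁ := by
      rw [← hTmul _ _ (mul_ne_zero hr (inv_ne_zero hr₁)) hr₁, mul_assoc, inv_mul_cancel₀ hr₁,
        mul_one]
    rw [h6, h5]
    have h7 : T r₁ = -r₁⁻¹ := by
      field_simp
      linear_combination hr₁m
    rw [h7]
    field_simp
  -- a square followed by a nonsquare
  have hex : ∃ x ∈ C₀, x + 1 ≠ 0 ∧ x + 1 ∉ C₀ := by
    by_contra hno
    push Not at hno
    have hstep : ∀ x ∈ C₀, x + 1 = 0 ∨ x + 1 ∈ C₀ := by
      intro x hx
      by_cases h3 : x + 1 = 0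
      · exact Or.inl h3
      · exact Or.inr (hno x hx h3)
    have hadd : ∀ a b : K, (a = 0 ∨ a ∈ C₀) → (b = 0 ∨ b ∈ C₀) → (a + b = 0 ∨ a + b ∈ C₀) := by
      rintro a b (rfl | ha) (rfl | hb)
      · left; simp
      · right; simpa using hb
      · right; simpa using ha
      · have hb0 := hC0 b hb
        have h3 := hstep _ (hCmul a ha _ (hCinv b hb))
        have h4 : a + b = b * (a * b⁻¹ + 1) := by
          field_simp
        rw [h4]
        rcases h3 with h5 | h5
        · left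
          rw [h5, mul_zero]
        · right
          exact hCmul b hb _ h5
    have hnsmul : ∀ (m : ℕ) (a : K), (a = 0 ∨ a ∈ C₀) → (m • a = 0 ∨ m • a ∈ C₀) := by
      intro m a ha
      induction m with
      | zero => left; simp
      | succ m ih =>
        rw [succ_nsmul]
        exact hadd _ _ ih ha
    let A : AddSubgroup K :=
      { carrier := {y | y = 0 ∨ y ∈ C₀}
        add_mem' := fun {a b} ha hb => hadd a b ha hb
        zero_mem' := Or.inl rfl
        neg_mem' := fun {a} ha => by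
          have h3 : (Nat.card K) • a = 0 := card_nsmul_eq_zero'
          have h4 : 0 < Nat.card K := Nat.card_pos
          have h5 : -a = (Nat.card K - 1) • a := by
            have h6 : (Nat.card K - 1) • a + a = 0 := by
              rw [← succ_nsmul, Nat.sub_add_cancel h4, h3]
            exact (eq_neg_of_add_eq_zero_left h6).symm
          change -a = 0 ∨ -a ∈ C₀
          rw [h5]
          exact hnsmul _ a ha }
    have hle : AddSubgroup.closure C₀ ≤ A := by
      rw [AddSubgroup.closure_le]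
      intro x hx
      exact Or.inr hx
    have h3 : r₁ ∈ A := by
      apply hle
      rw [hclosure]
      exact AddSubgroup.mem_top r₁
    rcases h3 with h3 | h3
    · exact hr₁ h3
    · exact hr₁C h3
  obtain ⟨x, hxC, hx1, hx1C⟩ := hex
  have hx0 := hC0 x hxC
  -- the involution at `-1`
  have hm10 : (-1 : K) ≠ 0 := neg_ne_zero.mpr one_ne_zero
  have hm11 : (-1 : K) ≠ 1 := by
    intro h
    apply h2
    linear_combination -h
  have hTm1 : T (-1) = -1 := by
    have h3 := hTmul (-1) (-1) hm10 hm10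
    rw [neg_mul_neg, mul_one, hT1'] at h3
    have h4 : (T (-1) - 1) * (T (-1) + 1) = 0 := by linear_combination -h3
    rcases mul_eq_zero.mp h4 with h5 | h5
    · exfalso
      have h6 : T (-1) = 1 := sub_eq_zero.mp h5
      have h7 : t • pt (-1) = t • pt 1 := by rw [hT1 _ hm10, h6, ht3]
      exact hm11 (hpt_inj (MulAction.injective t h7))
    · exact eq_neg_of_add_eq_zero_left h5
  obtain ⟨z, hz, hzr⟩ := hsurj (-1) hm10
  have hwi : ∀ r, w⁻¹ • pt r = pt (-1 + r) := by
    intro r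
    rw [inv_smul_eq_iff, hw1]
    congr 1
    ring
  have hwi' : w⁻¹ • inf = inf := by
    rw [inv_smul_eq_iff, hw2]
  have hti : t⁻¹ = t := inv_eq_of_mul_eq_one_left htt
  have hk1 : (w⁻¹ * (t * w * t) * w⁻¹) • inf = pt 0 := by
    simp only [mul_smul]
    rw [hwi', ht1, hw1, add_zero, ht3, hwi]
    congr 1
    ring
  have hk2 : (w⁻¹ * (t * w * t) * w⁻¹) • pt 0 = inf := by
    simp only [mul_smul]
    rw [hwi, add_zero, hT1 _ hm10, hTm1, hw1, add_neg_cancel, ht2, hwi']
  have hk3 : (w⁻¹ * (t * w * t) * w⁻¹) • pt 1 = pt (-1) := by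
    simp only [mul_smul]
    rw [hwi, neg_add_cancel, ht2, hw2, ht1, hwi, add_zero]
  have hid : w⁻¹ * (t * w * t) * w⁻¹ = z * t := by
    have h3 : (z * t)⁻¹ * (w⁻¹ * (t * w * t) * w⁻¹) = 1 := by
      apply hfix _ inf (pt 0) (pt 1) (hpt_inf 0).symm (hpt_inf 1).symm
        (fun h => h01 (hpt_inj h))
      · rw [mul_smul, hk1, inv_smul_eq_iff, mul_smul, ht1, hzr, mul_zero]
      · rw [mul_smul, hk2, inv_smul_eq_iff, mul_smul, ht2, hHinf z hz]
      · rw [mul_smul, hk3, inv_smul_eq_iff, mul_smul, ht3, hzr, mul_one]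
    rw [inv_mul_eq_one] at h3
    exact h3.symm
  have hid' : t * w * t = w * (z * t) * w := by
    calc t * w * t = w * (w⁻¹ * (t * w * t) * w⁻¹) * w := by group
      _ = w * (z * t) * w := by rw [hid]
  have hxi : (1 : K) + x⁻¹ ≠ 0 := by
    intro h
    apply hx1
    have h3 : x + 1 = x * (1 + x⁻¹) := by
      field_simp
    rw [h3, h, mul_zero]
  have hxiC : (1 : K) + x⁻¹ ∉ C₀ := by
    intro h
    apply hx1C
    have h3 : x + 1 = x * (1 + x⁻¹) := by
      field_simp
    rw [h3]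
    exact hCmul x hxC _ h
  have hx1' : (1 : K) + x ≠ 0 := by rwa [add_comm]
  have hx1C' : (1 : K) + x ∉ C₀ := by rwa [add_comm]
  have hL : (t * w * t) • pt x = pt (T (1 + x⁻¹)) := by
    simp only [mul_smul]
    rw [hT1 x hx0, hTC x hxC, hw1, hT1 _ hxi]
  have hR : (w * (z * t) * w) • pt x = pt (1 + -1 * T (1 + x)) := by
    simp only [mul_smul]
    rw [hw1, hT1 _ hx1', hzr, hw1]
  rw [hid', hR] at hL
  have heq := hpt_inj hL
  rw [hTbad _ hxi hxiC, hTbad _ hx1' hx1C'] at heq
  apply hx1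
  have h3 : (1 + x⁻¹)⁻¹ = x * (1 + x)⁻¹ := by
    have h30 : 1 + x⁻¹ = (1 + x) * x⁻¹ := by
      field_simp
      ring
    rw [h30, mul_inv, inv_inv, mul_comm]
  rw [h3] at heq
  have h4 : (1 + x) * (1 + -1 * -(1 + x)⁻¹) = (1 + x) * (-(x * (1 + x)⁻¹)) := by rw [heq]
  have h5 : (1 + x) * (1 + x)⁻¹ = 1 := mul_inv_cancel₀ hx1'
  have h6 : (2 : K) * (x + 1) = 0 := by
    linear_combination h4 - (1 + x) * h5
  rcases mul_eq_zero.mp h6 with h7 | h7
  · exact absurd h7 h2
  · exact h7

/-- Recognition of `PGL(2, K)` from coordinates. -/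
theorem pgl_of_coords {G α : Type*} [Group G] [Finite G] [MulAction G α] [FaithfulSMul G α]
    [Fintype α]
    (htr : ∀ a b c a' b' c' : α, a ≠ b → a ≠ c → b ≠ c → a' ≠ b' → a' ≠ c' → b' ≠ c' →
      ∃ g : G, g • a = a' ∧ g • b = b' ∧ g • c = c')
    (hfix : ∀ (g : G) (a b c : α), a ≠ b → a ≠ c → b ≠ c → g • a = a → g • b = b → g • c = c → g = 1)
    (inf o one : α) (hio : inf ≠ o) (hi1 : inf ≠ one) (ho1 : o ≠ one)
    (F : Subgroup G) (hFinf : ∀ u ∈ F, u • inf = inf)
    (hFtrans : ∀ x y, x ≠ inf → y ≠ inf → ∃ u ∈ F, u • x = y)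
    {K : Type*} [Field K] [Fintype K] (θ : K → G) (hθF : ∀ r, θ r ∈ F)
    (hθadd : ∀ r s, θ (r + s) = θ r * θ s) (hθsurj : ∀ u ∈ F, ∃ r, θ r = u)
    (hθ1 : θ 1 • o = one) (hpt_inf : ∀ r, θ r • o ≠ inf)
    (hpt_inj : ∀ r s, θ r • o = θ s • o → r = s)
    (hθH : ∀ h : G, h • inf = inf → h • o = o → ∃ c : K, ∀ r, θ (c * r) = h * θ r * h⁻¹)
    (t : G) (ht1 : t • inf = o) (ht2 : t • o = inf)
    (htw : ∀ r : K, r ≠ 0 → t • (θ r • o) = θ r⁻¹ • o) :
    Nonempty (G ≃* Matrix.ProjGenLinGroup (Fin 2) K) := by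
  classical
  have hoi : o ≠ inf := hio.symm
  have hθ0 : θ 0 = 1 := by
    have h1 := hθadd 0 0
    rw [add_zero] at h1
    exact (mul_eq_left.mp h1.symm)
  let π₀ : OnePoint K → α := fun x => x.elim inf (fun r => θ r • o)
  have hπ₀bij : Function.Bijective π₀ := by
    constructor
    · intro x y hxy
      cases x with
      | infty =>
        cases y with
        | infty => rfl
        | coe s => exact absurd hxy.symm (hpt_inf s)
      | coe r =>
        cases y with
        | infty => exact absurd hxy (hpt_inf r)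
        | coe s => exact congrArg _ (hpt_inj r s hxy)
    · intro y
      by_cases hy : y = inf
      · exact ⟨∞, hy.symm⟩
      obtain ⟨u, hu, huo⟩ := hFtrans o y hoi hy
      obtain ⟨r, rfl⟩ := hθsurj u hu
      exact ⟨(r : OnePoint K), huo⟩
  let π : OnePoint K ≃ α := Equiv.ofBijective π₀ hπ₀bij
  have hπi : π ∞ = inf := rfl
  have hπr : ∀ r : K, π (r : OnePoint K) = θ r • o := fun _ => rfl
  let P : G → Prop := fun g => ∃ m : GL (Fin 2) K, ∀ x, g • π x = π (m • x)
  have hPmul : ∀ g g', P g → P g' → P (g * g') := by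
    rintro g g' ⟨m, hm⟩ ⟨m', hm'⟩
    refine ⟨m * m', fun x => ?_⟩
    rw [mul_smul, hm', hm, mul_smul]
  have hPF : ∀ u ∈ F, P u := by
    intro u hu
    obtain ⟨a, rfl⟩ := hθsurj u hu
    refine ⟨transM a, fun x => ?_⟩
    cases x with
    | infty =>
      rw [transM_infty, hπi]
      exact hFinf _ hu
    | coe k =>
      rw [transM_coe, hπr, hπr, hθadd, mul_smul]
  have hconj : ∀ x : G, x • o = o → ∀ n : G, (x * n * x⁻¹) • o = x • (n • o) := by
    intro x hx n
    have : x⁻¹ • o = o := by rw [inv_smul_eq_iff, hx]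
    rw [mul_smul, mul_smul, this]
  have hdil : ∀ h : G, h • inf = inf → h • o = o → ∃ (c : K) (hc : c ≠ 0),
      ∀ r : K, h • π (r : OnePoint K) = π ((c * r : K) : OnePoint K) := by
    intro h hh1 hh2
    obtain ⟨c, hc⟩ := hθH h hh1 hh2
    have hac : ∀ r : K, h • π (r : OnePoint K) = π ((c * r : K) : OnePoint K) := by
      intro r
      rw [hπr, hπr, hc, hconj h hh2]
    refine ⟨c, ?_, hac⟩
    rintro rfl
    have h1 := hac 1
    rw [zero_mul] at h1
    have h2 : π ((0 : K) : OnePoint K) = o := by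
      rw [hπr, hθ0, one_smul]
    rw [h2, hπr, hθ1] at h1
    apply ho1
    apply MulAction.injective h
    show h • o = h • one
    rw [h1, hh2]
  have hPH : ∀ h : G, h • inf = inf → h • o = o → P h := by
    intro h hh1 hh2
    obtain ⟨c, hc0, hc⟩ := hdil h hh1 hh2
    refine ⟨diagM c hc0, fun x => ?_⟩
    cases x with
    | infty =>
      rw [diagM_infty, hπi]
      exact hh1
    | coe k =>
      rw [diagM_coe, hc]
  have hπ0 : π ((0 : K) : OnePoint K) = o := by
    rw [hπr, hθ0, one_smul]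
  have hPt : P t := by
    refine ⟨swapM, fun x => ?_⟩
    cases x with
    | infty =>
      rw [swapM_infty, hπi, hπ0, ht1]
    | coe k =>
      by_cases hk : k = 0
      · rw [hk, swapM_zero, hπ0, hπi, ht2]
      rw [swapM_coe hk, hπr, hπr]
      exact htw k hk
  have hPM : ∀ g : G, g • inf = inf → P g := by
    intro g hg
    have hgo : g • o ≠ inf := by
      intro he
      exact hoi (MulAction.injective g (he.trans hg.symm))
    obtain ⟨u, hu, huo⟩ := hFtrans o (g • o) hoi hgo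
    have h2 := hPmul _ _ (hPF u hu) (hPH (u⁻¹ * g)
      (by
        rw [mul_smul, hg, inv_smul_eq_iff]
        exact (hFinf u hu).symm)
      (by
        rw [mul_smul, inv_smul_eq_iff]
        exact huo.symm))
    simpa using h2
  have hPall : ∀ g : G, P g := by
    intro g
    by_cases hg : g • inf = inf
    · exact hPM g hg
    obtain ⟨u, hu, huo⟩ := hFtrans o (g • inf) hoi hg
    have h1 : (t * u⁻¹ * g) • inf = inf := by
      rw [mul_smul, mul_smul, inv_smul_eq_iff.mpr huo.symm, ht2]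
    have h2 := hPmul _ _ (hPmul _ _ (hPF u hu) (hPt)) (hPM _ h1)
    -- `t` has square one on the coordinates
    have htt : t * t = 1 := by
      apply hfix _ inf o one hio hi1 ho1
      · rw [mul_smul, ht1, ht2]
      · rw [mul_smul, ht2, ht1]
      · have h3 := htw 1 one_ne_zero
        rw [hθ1, inv_one, hθ1] at h3
        rw [mul_smul, h3, h3]
    have h4 : u * t * (t * u⁻¹ * g) = g := by
      calc u * t * (t * u⁻¹ * g) = u * (t * t) * u⁻¹ * g := by group
        _ = g := by rw [htt]; group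
    rwa [h4] at h2
  have hcardα : Fintype.card K + 1 = Fintype.card α := by
    rw [← Fintype.card_congr π]
    exact (Fintype.card_option).symm
  have hcardG := Cfsg.Agent.S0727.card_sharp3 htr hfix inf o one hio hi1 ho1
  apply nonempty_equiv_pgl π hPall
  rw [Cfsg.Agent.Lib.PSL2.FieldEmbed.card_PGL, hcardG, ← hcardα]
  obtain ⟨q, hq⟩ : ∃ q, Fintype.card K = q + 1 := ⟨Fintype.card K - 1, by
    have := Fintype.one_lt_card (α := K)
    omega⟩
  rw [hq]
  simp only [Nat.add_sub_cancel]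
  have h5 : (q + 1) ^ 2 - 1 = (q + 2) * q := by
    have : (q + 1) ^ 2 = (q + 2) * q + 1 := by ring
    rw [this, Nat.add_sub_cancel]
  rw [h5, show q + 1 + 1 - 2 = q by omega]
  ring

/-- The count: if the commutators with `t` lie in a subgroup of index two and `t` centralises at most
two elements, then `t` inverts that subgroup. -/
theorem inverted_by_count {G : Type*} [Group G] [Finite G] (H K₀ : Subgroup G) (t : G)
    (htt : t * t = 1)
    (hcomm : ∀ h ∈ H, h * (t * h * t⁻¹)⁻¹ ∈ K₀) (hcard : Nat.card H = 2 * Nat.card K₀)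
    (hK₀H : K₀ ≤ H)
    (hC : ∀ A : Finset H, (∀ w ∈ A, t * (w : G) * t⁻¹ = w) → A.card ≤ 2) :
    ∀ k ∈ K₀, t * k * t⁻¹ = k⁻¹ := by
  classical
  haveI : Fintype H := Fintype.ofFinite H
  haveI : Fintype K₀ := Fintype.ofFinite K₀
  let f : H → K₀ := fun h => ⟨h.1 * (t * h.1 * t⁻¹)⁻¹, hcomm h.1 h.2⟩
  have hti : t⁻¹ = t := inv_eq_of_mul_eq_one_left htt
  have hfib : ∀ a ∈ (Finset.univ : Finset H).image f,
      ((Finset.univ : Finset H).filter (fun x => f x = a)).card ≤ 2 := by
    intro a ha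
    obtain ⟨h₀, -, rfl⟩ := Finset.mem_image.mp ha
    set B := (Finset.univ : Finset H).filter (fun x => f x = f h₀) with hB
    have hinj : Function.Injective (fun x : H => h₀⁻¹ * x) := mul_right_injective _
    rw [← Finset.card_image_of_injective B hinj]
    apply hC
    intro w hw
    obtain ⟨x, hx, rfl⟩ := Finset.mem_image.mp hw
    have hx' : f x = f h₀ := (Finset.mem_filter.mp hx).2
    have h1 : x.1 * (t * x.1 * t⁻¹)⁻¹ = h₀.1 * (t * h₀.1 * t⁻¹)⁻¹ := congrArg Subtype.val hx'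
    have h2 : h₀.1⁻¹ * x.1 = (t * h₀.1 * t⁻¹)⁻¹ * (t * x.1 * t⁻¹) := by
      have h3 : x.1 = h₀.1 * (t * h₀.1 * t⁻¹)⁻¹ * (t * x.1 * t⁻¹) := by
        rw [← h1]
        group
      calc h₀.1⁻¹ * x.1 = h₀.1⁻¹ * (h₀.1 * (t * h₀.1 * t⁻¹)⁻¹ * (t * x.1 * t⁻¹)) := by rw [← h3]
        _ = (t * h₀.1 * t⁻¹)⁻¹ * (t * x.1 * t⁻¹) := by group
    change t * (h₀.1⁻¹ * x.1) * t⁻¹ = h₀.1⁻¹ * x.1
    calc t * (h₀.1⁻¹ * x.1) * t⁻¹ = (t * h₀.1 * t⁻¹)⁻¹ * (t * x.1 * t⁻¹) := by group
      _ = h₀.1⁻¹ * x.1 := h2.symm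
  have h1 := Finset.card_le_mul_card_image (f := f) (Finset.univ : Finset H) 2 hfib
  have hsurjf : Function.Surjective f := by
    have h2 : ((Finset.univ : Finset H).image f).card = Fintype.card K₀ := by
      apply le_antisymm (Finset.card_le_univ _)
      rw [Finset.card_univ, ← Nat.card_eq_fintype_card, hcard] at h1
      rw [← Nat.card_eq_fintype_card]
      omega
    have h3 := Finset.eq_univ_of_card _ h2
    intro a
    have h4 := Finset.mem_univ a
    rw [← h3] at h4
    obtain ⟨x, -, hx⟩ := Finset.mem_image.mp h4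
    exact ⟨x, hx⟩
  intro k hk
  obtain ⟨h, hh⟩ := hsurjf ⟨k, hk⟩
  have h2 : h.1 * (t * h.1 * t⁻¹)⁻¹ = k := congrArg Subtype.val hh
  rw [← h2]
  calc t * (h.1 * (t * h.1 * t⁻¹)⁻¹) * t⁻¹
      = (t * h.1 * t⁻¹) * ((t * t) * h.1⁻¹ * (t⁻¹ * t⁻¹)) := by group
    _ = (t * h.1 * t⁻¹) * h.1⁻¹ := by
        rw [htt, show t⁻¹ * t⁻¹ = 1 by rw [hti, htt]]
        group
    _ = (h.1 * (t * h.1 * t⁻¹)⁻¹)⁻¹ := by group

/-- An odd power of a prime is not a square. -/
theorem not_isSquare_prime_pow {p f : ℕ} (hp : p.Prime) (hf : Odd f) : ¬ IsSquare (p ^ f) := by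
  rintro ⟨m, hm⟩
  have hm0 : m ≠ 0 := by
    rintro rfl
    simp at hm
    exact hp.ne_zero hm.1
  have h1 : (p ^ f).factorization p = f := by
    rw [hp.factorization_pow]
    simp
  have h2 : (m * m).factorization p = 2 * m.factorization p := by
    rw [Nat.factorization_mul hm0 hm0]
    simp only [Finsupp.add_apply]
    ring
  rw [hm, h2] at h1
  rcases hf with ⟨k, hk⟩
  omega

/-- The main theorem, for an abstract action. -/
theorem main_odd {G α : Type*} [Group G] [Finite G] [MulAction G α] [FaithfulSMul G α] [Fintype α]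
    (htr : ∀ a b c a' b' c' : α, a ≠ b → a ≠ c → b ≠ c → a' ≠ b' → a' ≠ c' → b' ≠ c' →
      ∃ g : G, g • a = a' ∧ g • b = b' ∧ g • c = c')
    (hfix : ∀ (g : G) (a b c : α), a ≠ b → a ≠ c → b ≠ c → g • a = a → g • b = b → g • c = c → g = 1)
    {p f : ℕ} (hp : p.Prime) (hp2 : p ≠ 2) (hfo : Odd f) (hα : Fintype.card α = p ^ f + 1) :
    ∃ (F : Type) (_ : Field F) (_ : Fintype F), Fintype.card F = p ^ f ∧
      Nonempty (G ≃* Matrix.ProjGenLinGroup (Fin 2) F) := by
  classical
  have hpodd : Odd p := hp.odd_of_ne_two hp2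
  have hqodd : Odd (p ^ f) := hpodd.pow
  have hp3 : 3 ≤ p := by
    have := hp.two_le
    omega
  have hq3 : 3 ≤ p ^ f := by
    have hf1 : f ≠ 0 := by
      rintro rfl
      simp at hfo
    calc 3 ≤ p := hp3
      _ = p ^ 1 := (pow_one p).symm
      _ ≤ p ^ f := Nat.pow_le_pow_right hp.pos (by omega)
  obtain ⟨inf, o, one, hio, hi1, ho1⟩ :=
    Fintype.two_lt_card_iff.mp (show 2 < Fintype.card α by omega)
  obtain ⟨F, hFinf, hFfree, hFcomm, hFtrans, hFnorm⟩ :=
    Cfsg.Agent.S0727.exists_translations htr hfix inf o one hio hi1 ho1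
  have hoi : o ≠ inf := hio.symm
  have hreg : ∀ u ∈ F, u • o = o → u = 1 := fun u hu h => hFfree u hu o hoi h
  have hinjF : ∀ u ∈ F, ∀ w ∈ F, u • o = w • o → u = w := by
    intro u hu w hw huw
    have h1 : (w⁻¹ * u) • o = o := by rw [mul_smul, huw, inv_smul_smul]
    have h2 := hreg _ (F.mul_mem (F.inv_mem hw) hu) h1
    rw [inv_mul_eq_one] at h2
    exact h2.symm
  have hFne : ∀ u ∈ F, ∀ x, x ≠ inf → u • x ≠ inf := by
    intro u hu x hx he
    apply hx
    exact MulAction.injective u (he.trans (hFinf u hu).symm)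
  -- the involution
  obtain ⟨t, ht1, ht2, ht3⟩ := htr inf o one o inf one hio hi1 ho1 hoi ho1 hi1
  have htt : t * t = 1 := by
    apply hfix _ inf o one hio hi1 ho1
    · rw [mul_smul, ht1, ht2]
    · rw [mul_smul, ht2, ht1]
    · rw [mul_smul, ht3, ht3]
  have htinv : t⁻¹ = t := inv_eq_of_mul_eq_one_left htt
  -- the two point stabiliser
  let H : Subgroup G := stabilizer G inf ⊓ stabilizer G o
  have hHmem : ∀ x, x ∈ H ↔ x • inf = inf ∧ x • o = o := fun x => by
    rw [Subgroup.mem_inf, mem_stabilizer_iff, mem_stabilizer_iff]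
  have htH : ∀ h ∈ H, t * h * t⁻¹ ∈ H := by
    intro h hh
    obtain ⟨h1, h2⟩ := (hHmem h).mp hh
    have hi : t⁻¹ = t := htinv
    refine (hHmem _).mpr ⟨?_, ?_⟩
    · simp only [mul_smul, hi]
      rw [ht1, h2, ht2]
    · simp only [mul_smul, hi]
      rw [ht2, h1, ht1]
  have hHtr : ∀ x y, x ≠ inf → x ≠ o → y ≠ inf → y ≠ o → ∃ h ∈ H, h • x = y := by
    intro x y hx1 hx2 hy1 hy2
    obtain ⟨h, h1, h2, h4⟩ := htr inf o x inf o y hio hx1.symm hx2.symm hio hy1.symm hy2.symm
    exact ⟨h, (hHmem h).mpr ⟨h1, h2⟩, h4⟩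
  have hFn : ∀ h ∈ H, ∀ u ∈ F, h * u * h⁻¹ ∈ F := fun h hh u hu =>
    hFnorm h ((hHmem h).mp hh).1 u hu
  have hne_o : ∀ u ∈ F, u ≠ 1 → u • o ≠ o := fun u hu hu1 he => hu1 (hreg u hu he)
  obtain ⟨u₁, hu₁, hu₁o⟩ := hFtrans o one hoi hi1.symm
  have hu₁1 : u₁ ≠ 1 := by
    rintro rfl
    rw [one_smul] at hu₁o
    exact ho1 hu₁o
  -- orders
  have hcardF : Nat.card F = p ^ f := by
    have e : F ≃ {z : α // z ≠ inf} := by
      refine Equiv.ofBijective (fun u => ⟨u.1 • o, hFne u.1 u.2 o hoi⟩) ⟨?_, ?_⟩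
      · intro u w huw
        exact Subtype.ext (hinjF u.1 u.2 w.1 w.2 (congrArg Subtype.val huw))
      · rintro ⟨z, hz⟩
        obtain ⟨u, hu, huc⟩ := hFtrans o z hoi hz
        exact ⟨⟨u, hu⟩, Subtype.ext huc⟩
    rw [Nat.card_congr e, Nat.card_eq_fintype_card, Fintype.card_subtype_compl,
      Fintype.card_subtype_eq, hα]
    omega
  have hcardH : Nat.card H + 1 = p ^ f := by
    have e : H ≃ {z : α // z ≠ inf ∧ z ≠ o} := by
      refine Equiv.ofBijective (fun u => ⟨u.1 • one, ?_, ?_⟩) ⟨?_, ?_⟩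
      · intro he
        have h1 := ((hHmem u.1).mp u.2).1
        exact hi1 (MulAction.injective u.1 (h1.trans he.symm))
      · intro he
        have h1 := ((hHmem u.1).mp u.2).2
        exact ho1 (MulAction.injective u.1 (h1.trans he.symm))
      · intro u w huw
        have h1 : u.1 • one = w.1 • one := congrArg Subtype.val huw
        have h2 : w.1⁻¹ * u.1 = 1 := by
          have h3 := (H.mul_mem (H.inv_mem w.2) u.2)
          obtain ⟨h4, h5⟩ := (hHmem _).mp h3
          apply hfix _ inf o one hio hi1 ho1 h4 h5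
          rw [mul_smul, h1, inv_smul_smul]
        rw [inv_mul_eq_one] at h2
        exact Subtype.ext h2.symm
      · rintro ⟨z, hz1, hz2⟩
        obtain ⟨u, hu, huc⟩ := hHtr one z hi1.symm ho1.symm hz1 hz2
        exact ⟨⟨u, hu⟩, Subtype.ext huc⟩
    have h1 : Fintype.card {z : α // z ≠ inf ∧ z ≠ o} + 2 = Fintype.card α := by
      have h2 : Fintype.card {z : α // z ≠ inf ∧ z ≠ o} =
          ((Finset.univ : Finset α).erase inf |>.erase o).card := by
        rw [Fintype.card_subtype]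
        congr 1
        ext z
        simp only [Finset.mem_filter, Finset.mem_univ, true_and, Finset.mem_erase, ne_eq, and_true]
        tauto
      rw [h2, Finset.card_erase_of_mem (by simp [hoi]), Finset.card_erase_of_mem (Finset.mem_univ _),
        Finset.card_univ]
      omega
    rw [Nat.card_congr e, Nat.card_eq_fintype_card]
    omega
  have hFbot : F ≠ ⊥ := by
    intro h
    rw [h, Subgroup.mem_bot] at hu₁
    exact hu₁1 hu₁
  have hnorm : H ≤ Subgroup.normalizer (F : Set G) := by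
    intro x hx
    rw [Subgroup.mem_normalizer_iff]
    intro y
    constructor
    · exact hFn x hx y
    · intro hy
      have := hFn x⁻¹ (H.inv_mem hx) _ hy
      simpa [mul_assoc] using this
  have hfpf : ∀ a ∈ H, a ≠ 1 → ∀ v ∈ F, a * v = v * a → v = 1 := by
    intro a ha ha1 v hv hcomm
    by_contra hv1
    obtain ⟨h1, h2⟩ := (hHmem a).mp ha
    apply ha1
    apply hfix a inf o (v • o) hio (hFne v hv o hoi).symm (hne_o v hv hv1).symm h1 h2
    rw [← mul_smul, hcomm, mul_smul, h2]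
  have hns : ¬ IsSquare (Nat.card F) := by
    rw [hcardF]
    exact not_isSquare_prime_pow hp hfo
  -- the Sylow `2`-subgroup
  haveI : Fact (Nat.Prime 2) := ⟨Nat.prime_two⟩
  obtain ⟨P⟩ : Nonempty (Sylow 2 H) := inferInstance
  haveI hPc : IsCyclic P := sylow_cyclic hFbot hnorm hfpf hns P
  obtain ⟨g, hg⟩ := IsCyclic.exists_generator (α := (P : Subgroup H))
  have hgord : orderOf ((g : H) : G) = Nat.card (P : Subgroup H) := by
    have h1 : orderOf g = Nat.card (P : Subgroup H) := orderOf_eq_card_of_forall_mem_zpowers hg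
    rw [← h1, Subgroup.orderOf_coe, Subgroup.orderOf_coe]
  set y : G := ((g : H) : G) with hy
  have hyH : y ∈ H := (g : H).2
  have hcard2 : Nat.card (P : Subgroup H) * (P : Subgroup H).index = Nat.card H :=
    Subgroup.card_mul_index _
  have hHeven : Even (Nat.card H) := by
    have h1 : Odd (Nat.card H + 1) := by rw [hcardH]; exact hqodd
    by_contra h2
    rw [Nat.not_even_iff_odd] at h2
    exact (Nat.not_even_iff_odd.mpr h1) h2.add_one
  have hmodd : Odd (P : Subgroup H).index := by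
    rw [← Nat.not_even_iff_odd, even_iff_two_dvd]
    exact P.not_dvd_index
  have hneven : Even (Nat.card (P : Subgroup H)) := by
    rw [← hcard2, Nat.even_mul] at hHeven
    rcases hHeven with h | h
    · exact h
    · exact absurd h (Nat.not_even_iff_odd.mpr hmodd)
  have hnpos : 0 < Nat.card (P : Subgroup H) := Nat.card_pos
  -- the sign
  let sg : G →* ℤˣ := Equiv.Perm.sign.comp (MulAction.toPermHom G α)
  have hyinf := ((hHmem y).mp hyH).1
  have hyo := ((hHmem y).mp hyH).2
  have hy1 : y ≠ 1 := by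
    intro h
    rw [h, orderOf_one] at hgord
    rw [← hgord] at hneven
    exact absurd hneven (by decide)
  have htoinj : Function.Injective (MulAction.toPermHom G α) :=
    fun a b hab => MulAction.toPerm_injective (β := α) hab
  have htopow : ∀ k : ℕ, (MulAction.toPerm y : Equiv.Perm α) ^ k = MulAction.toPerm (y ^ k) :=
    fun k => (map_pow (MulAction.toPermHom G α) y k).symm
  have hsgy : sg y = -1 := by
    refine sign_of_semiregular (n := Nat.card (P : Subgroup H)) (m := (P : Subgroup H).index)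
      (MulAction.toPerm y) ?_ ?_ ?_ hneven hmodd hnpos
    · intro k x hx hk
      have hxinf : x ≠ inf := by
        rintro rfl
        exact hx hyinf
      have hxo : x ≠ o := by
        rintro rfl
        exact hx hyo
      have h1 : (y ^ k) • x = x := by
        rw [htopow] at hk
        exact hk
      have h3 : y ^ k = 1 := by
        apply hfix _ inf o x hio hxinf.symm hxo.symm
        · exact (stabilizer G inf).pow_mem hyinf k
        · exact (stabilizer G o).pow_mem hyo k
        · exact h1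
      rw [htopow, h3]
      exact map_one (MulAction.toPermHom G α)
    · rw [← hgord]
      exact orderOf_injective (MulAction.toPermHom G α) htoinj y
    · rw [hcard2]
      have h1 : (MulAction.toPerm y : Equiv.Perm α).support =
          ((Finset.univ : Finset α).erase inf).erase o := by
        ext x
        simp only [Equiv.Perm.mem_support, Finset.mem_erase, Finset.mem_univ, and_true, ne_eq]
        constructor
        · intro hx
          constructor
          · rintro rfl
            exact hx hyo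
          · rintro rfl
            exact hx hyinf
        · rintro ⟨hx1, hx2⟩ hx3
          exact hy1 (hfix y inf o x hio (Ne.symm hx2) (Ne.symm hx1) hyinf hyo hx3)
      rw [h1, Finset.card_erase_of_mem (by simp [hoi]), Finset.card_erase_of_mem (Finset.mem_univ _),
        Finset.card_univ, hα]
      omega
  let K₁ : Subgroup H := (sg.comp H.subtype).ker
  let K₀ : Subgroup G := K₁.map H.subtype
  have hK₀mem : ∀ x, x ∈ K₀ ↔ x ∈ H ∧ sg x = 1 := by
    intro x
    constructor
    · rintro ⟨w, hw, rfl⟩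
      exact ⟨w.2, hw⟩
    · rintro ⟨h1, h2⟩
      exact ⟨⟨x, h1⟩, h2, rfl⟩
  have hK₀H : K₀ ≤ H := fun x hx => ((hK₀mem x).mp hx).1
  have hK₁idx : K₁.index = 2 := by
    rw [Subgroup.index_ker]
    have hsurj : Function.Surjective (sg.comp H.subtype) := by
      intro u
      rcases Int.units_eq_one_or u with rfl | rfl
      · exact ⟨1, map_one _⟩
      · exact ⟨⟨y, hyH⟩, hsgy⟩
    rw [MonoidHom.range_eq_top.mpr hsurj, Subgroup.card_top, Nat.card_eq_fintype_card,
      Fintype.card_units_int]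
  have hK₀card : Nat.card H = 2 * Nat.card K₀ := by
    have h1 : Nat.card K₀ = Nat.card K₁ :=
      (Nat.card_congr (Subgroup.equivMapOfInjective K₁ H.subtype H.subtype_injective).toEquiv).symm
    have h2 := Subgroup.card_mul_index K₁
    rw [hK₁idx] at h2
    rw [h1, ← h2, mul_comm]
  have hsgsq : ∀ u : ℤˣ, u * u = 1 := Int.units_mul_self
  have hcomm : ∀ h ∈ H, h * (t * h * t⁻¹)⁻¹ ∈ K₀ := by
    intro h hh
    refine (hK₀mem _).mpr ⟨H.mul_mem hh (H.inv_mem (htH h hh)), ?_⟩
    simp only [map_mul, map_inv]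
    rw [mul_inv_cancel_comm, mul_inv_cancel]
  have hC : ∀ A : Finset H, (∀ w ∈ A, t * (w : G) * t⁻¹ = w) → A.card ≤ 2 := by
    intro A hA
    by_contra hlt
    push Not at hlt
    obtain ⟨a, ha, b, hb, c, hc, hab, hac, hbc⟩ := Finset.two_lt_card.mp hlt
    have hfixed : ∀ w ∈ A, t • ((w : G) • one) = (w : G) • one := by
      intro w hw
      have h1 : t * (w : G) = w * t := by
        have := hA w hw
        rw [mul_inv_eq_iff_eq_mul] at this
        exact this
      rw [← mul_smul, h1, mul_smul, ht3]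
    have hinjH : ∀ u v : H, (u : G) • one = (v : G) • one → u = v := by
      intro u v huv
      have h3 := (H.mul_mem (H.inv_mem v.2) u.2)
      obtain ⟨h4, h5⟩ := (hHmem _).mp h3
      have h6 : (v : G)⁻¹ * u = 1 := by
        apply hfix _ inf o one hio hi1 ho1 h4 h5
        rw [mul_smul, huv, inv_smul_smul]
      rw [inv_mul_eq_one] at h6
      exact Subtype.ext h6.symm
    have h1 := hfix t _ _ _ (fun h => hab (hinjH a b h)) (fun h => hac (hinjH a c h))
      (fun h => hbc (hinjH b c h)) (hfixed a ha) (hfixed b hb) (hfixed c hc)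
    rw [h1, one_smul] at ht1
    exact hio ht1
  have hinv : ∀ k ∈ K₀, t * k * t⁻¹ = k⁻¹ :=
    inverted_by_count H K₀ t htt hcomm hK₀card hK₀H hC
  have hK₀comm : ∀ a ∈ K₀, ∀ b ∈ K₀, a * b = b * a := by
    intro a ha b hb
    have h1 := hinv _ (K₀.mul_mem ha hb)
    have h2 : t * (a * b) * t⁻¹ = (t * a * t⁻¹) * (t * b * t⁻¹) := by group
    rw [h2, hinv a ha, hinv b hb, ← mul_inv_rev, inv_inj] at h1
    exact h1.symm
  have hfreeK : ∀ h ∈ K₀, ∀ u ∈ F, h * u * h⁻¹ = u → h = 1 ∨ u = 1 := by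
    intro h hh u hu he
    by_cases h1 : h = 1
    · exact Or.inl h1
    right
    apply hfpf h (hK₀H hh) h1 u hu
    rw [mul_inv_eq_iff_eq_mul] at he
    exact he
  have hcardlt : Nat.card F < 2 * (Nat.card K₀ + 1) := by
    rw [hcardF]
    omega
  obtain ⟨K, iF, iK, θ, hθF, hθadd, hθinj, hθsurj, hθ1, hθc⟩ := exists_field_large F K₀ hFcomm
    hK₀comm (fun h hh => hFn h (hK₀H hh)) hfreeK hcardlt u₁ hu₁ hu₁1
  have hclosure := closure_top F K₀ θ hθF hθinj hθsurj hθadd hfreeK hcardlt hθc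
  have hcK : Fintype.card K = p ^ f := by
    rw [← Nat.card_eq_fintype_card, ← hcardF]
    apply Nat.card_congr
    exact Equiv.ofBijective (fun r => (⟨θ r, hθF r⟩ : F))
      ⟨fun a b hab => hθinj (congrArg Subtype.val hab), fun u => by
        obtain ⟨r, hr⟩ := hθsurj u.1 u.2
        exact ⟨r, Subtype.ext hr⟩⟩
  have hθH := all_mult F H K₀ θ hθF hθadd hθinj hθsurj hFn
    (fun u hu k hk => (hK₀mem _).mpr ⟨H.mul_mem (H.mul_mem hu (hK₀H hk)) (H.inv_mem hu), by
      have h1 := ((hK₀mem k).mp hk).2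
      simp only [map_mul, map_inv]
      rw [h1, mul_one, mul_inv_cancel]⟩)
    (fun u hu => (hK₀mem _).mpr ⟨H.mul_mem hu hu, by rw [map_mul]; exact hsgsq _⟩)
    hK₀comm hθc hclosure (by rw [hcK]; exact not_isSquare_prime_pow hp hfo)
  -- coordinates
  let pt : K → α := fun r => θ r • o
  have hpt : ∀ r, pt r = θ r • o := fun _ => rfl
  have hpt_inj : Function.Injective pt := fun r s hrs =>
    hθinj (hinjF _ (hθF r) _ (hθF s) hrs)
  have hpt_inf : ∀ r, pt r ≠ inf := fun r => hFne _ (hθF r) o hoi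
  have hθ0 : θ 0 = 1 := by
    have h1 := hθadd 0 0
    rw [add_zero] at h1
    exact (mul_eq_left.mp h1.symm)
  have hpt0 : pt 0 = o := by rw [hpt, hθ0, one_smul]
  have hpt1 : pt 1 = one := by rw [hpt, hθ1, hu₁o]
  have hconj : ∀ x : G, x • o = o → ∀ n : G, (x * n * x⁻¹) • o = x • (n • o) := by
    intro x hx n
    have : x⁻¹ • o = o := by rw [inv_smul_eq_iff, hx]
    rw [mul_smul, mul_smul, this]
  have hcoef : ∀ h ∈ H, ∃ c : K, c ≠ 0 ∧ ∀ r, h • pt r = pt (c * r) := by
    intro h hh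
    obtain ⟨c, hc⟩ := hθH h hh
    have hh2 := ((hHmem h).mp hh).2
    have hac : ∀ r, h • pt r = pt (c * r) := by
      intro r
      rw [hpt, hpt, hc, hconj h hh2]
    refine ⟨c, ?_, hac⟩
    rintro rfl
    have h1 := hac 1
    rw [zero_mul, hpt0, hpt1] at h1
    apply ho1
    apply MulAction.injective h
    show h • o = h • one
    rw [h1, hh2]
  have hsurj : ∀ r : K, r ≠ 0 → ∃ h ∈ H, ∀ x, h • pt x = pt (r * x) := by
    intro r hr
    have h1 : pt r ≠ o := by
      rw [← hpt0]
      exact fun h => hr (hpt_inj h)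
    obtain ⟨h, hh, hhe⟩ := hHtr one (pt r) hi1.symm ho1.symm (hpt_inf r) h1
    obtain ⟨c, -, hc⟩ := hcoef h hh
    have h2 := hc 1
    rw [hpt1, hhe, mul_one] at h2
    have h3 := hpt_inj h2
    refine ⟨h, hh, fun x => ?_⟩
    rw [hc, h3]
  have h2K : (2 : K) ≠ 0 := by
    intro h
    have h1 : addOrderOf (1 : K) = 2 := by
      apply addOrderOf_eq_prime
      · rw [two_nsmul]
        have h3 : (1 : K) + 1 = 2 := by norm_num
        rw [h3, h]
      · exact one_ne_zero
    have h3 : addOrderOf (1 : K) ∣ Nat.card K := addOrderOf_dvd_natCard _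
    rw [h1, Nat.card_eq_fintype_card, hcK] at h3
    exact (Nat.not_even_iff_odd.mpr hqodd) (even_iff_two_dvd.mpr h3)
  have hclosure' : AddSubgroup.closure {c : K | ∃ k ∈ K₀, ∀ r, k • pt r = pt (c * r)} = ⊤ := by
    rw [eq_top_iff, ← hclosure]
    apply AddSubgroup.closure_mono
    rintro c ⟨k, hk, hck⟩
    refine ⟨k, hk, fun r => ?_⟩
    rw [hpt, hpt, hck, hconj k ((hHmem k).mp (hK₀H hk)).2]
  have htw := twist_free hfix pt inf hpt_inj hpt_inf H K₀ hK₀H hcoef hsurj
    (fun h hh => ((hHmem h).mp hh).1)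
    (by
      intro a ha b hb hak hbk
      refine (hK₀mem _).mpr ⟨H.mul_mem ha (H.inv_mem hb), ?_⟩
      have h1 : sg a = -1 := by
        rcases Int.units_eq_one_or (sg a) with h | h
        · exact absurd ((hK₀mem a).mpr ⟨ha, h⟩) hak
        · exact h
      have h2 : sg b = -1 := by
        rcases Int.units_eq_one_or (sg b) with h | h
        · exact absurd ((hK₀mem b).mpr ⟨hb, h⟩) hbk
        · exact h
      rw [map_mul, map_inv, h1, h2]
      decide)
    (fun u hu => (hK₀mem _).mpr ⟨H.mul_mem hu hu, by rw [map_mul]; exact hsgsq _⟩)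
    t (by rw [hpt0, ht1]) (by rw [hpt0, ht2]) (by rw [hpt1, ht3]) htt htH hinv
    (θ 1)
    (fun r => by rw [hpt, hpt, hθadd, mul_smul])
    (hFinf _ (hθF 1)) hclosure' h2K
  refine ⟨K, iF, iK, hcK, ?_⟩
  exact pgl_of_coords htr hfix inf o one hio hi1 ho1 F hFinf hFtrans θ hθF hθadd hθsurj
    (by rw [hθ1, hu₁o]) hpt_inf (fun r s h => hpt_inj h)
    (fun h h1 h2 => hθH h ((hHmem h).mpr ⟨h1, h2⟩)) t ht1 ht2 htw

/-- A sharply triply transitive group of degree `p^f + 1`, `p` an odd prime and `f` odd, is isomorphic to the projective general linear group of degree 2 over the field with `p^f` elements (for even `f` there is a second, twisted, group). -/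
theorem result {α : Type*} [Fintype α] [DecidableEq α] {p f : ℕ} (hp : p.Prime) (hp2 : p ≠ 2) (hfo : Odd f) (hα : Fintype.card α = p ^ f + 1) (G : Subgroup (Equiv.Perm α)) (h3 : MulAction.IsMultiplyPretransitive G α 3) (hsharp : ∀ x : Fin 3 ↪ α, MulAction.stabilizer G x = ⊥) : ∃ (F : Type) (_ : Field F) (_ : Fintype F), Fintype.card F = p ^ f ∧ Nonempty (G ≃* Matrix.ProjGenLinGroup (Fin 2) F) := by
  classical
  have hemb : ∀ a b c : α, a ≠ b → a ≠ c → b ≠ c → ∃ x : Fin 3 ↪ α, x 0 = a ∧ x 1 = b ∧ x 2 = c := by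
    intro a b c hab hac hbc
    refine ⟨⟨![a, b, c], ?_⟩, rfl, rfl, rfl⟩
    intro i j hij
    fin_cases i <;> fin_cases j <;> simp_all
  have htr : ∀ a b c a' b' c' : α, a ≠ b → a ≠ c → b ≠ c → a' ≠ b' → a' ≠ c' → b' ≠ c' →
      ∃ g : G, g • a = a' ∧ g • b = b' ∧ g • c = c' := by
    intro a b c a' b' c' h1 h2 h4 h5 h6 h7
    obtain ⟨x, rfl, rfl, rfl⟩ := hemb a b c h1 h2 h4
    obtain ⟨y, rfl, rfl, rfl⟩ := hemb a' b' c' h5 h6 h7
    obtain ⟨g, hg⟩ := h3.exists_smul_eq x y
    refine ⟨g, ?_, ?_, ?_⟩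
    · rw [← hg]
      rfl
    · rw [← hg]
      rfl
    · rw [← hg]
      rfl
  have hfix : ∀ (g : G) (a b c : α), a ≠ b → a ≠ c → b ≠ c → g • a = a → g • b = b → g • c = c →
      g = 1 := by
    intro g a b c h1 h2 h4 h5 h6 h7
    obtain ⟨x, rfl, rfl, rfl⟩ := hemb a b c h1 h2 h4
    have : g ∈ stabilizer G x := by
      rw [mem_stabilizer_iff]
      ext i
      fin_cases i
      · exact h5
      · exact h6
      · exact h7
    rw [hsharp x, Subgroup.mem_bot] at this
    exact this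
  exact main_odd (G := G) htr hfix hp hp2 hfo hα

end Cfsg.Agent.S0730
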