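import Cfsg.Statements.S0732
import Mathlib
import Cfsg.Agent.Lib.Perm.PrimeDegReg
import Cfsg.Agent.S0731
import Cfsg.Agent.S0730
import Cfsg.Agent.S0727
import Cfsg.Agent.Lib.PSL2.DicksonCor
import Cfsg.Agent.Lib.PSL2.FieldEmbed

set_option autoImplicit false
set_option linter.style.haveILetI false
open Cfsg

namespace Cfsg.Agent.S0732

open MulAction Matrix Cfsg.Agent.Lib.Perm.PrimeDeg Cfsg.Agent.Lib.Perm.PrimeDegReg
open scoped MatrixGroups

/-- Isomorphic fields have isomorphic projective general linear groups. -/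
theorem pgl_equiv {K K' : Type*} [Field K] [Fintype K] [Field K'] [Fintype K']
    (hc : Fintype.card K = Fintype.card K') :
    Nonempty (ProjGenLinGroup (Fin 2) K ≃* ProjGenLinGroup (Fin 2) K') := by
  let r : K ≃+* K' := FiniteField.ringEquivOfCardEq hc
  let m : Matrix (Fin 2) (Fin 2) K ≃* Matrix (Fin 2) (Fin 2) K' := r.mapMatrix.toMulEquiv
  let u : GL (Fin 2) K ≃* GL (Fin 2) K' := Units.mapEquiv m
  have hu : (Subgroup.center (GL (Fin 2) K)).map u.toMonoidHom = Subgroup.center (GL (Fin 2) K') := by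
    ext y
    constructor
    · rintro ⟨z, hz, rfl⟩
      have hz' := Subgroup.mem_center_iff.mp hz
      rw [Subgroup.mem_center_iff]
      intro w
      obtain ⟨w', rfl⟩ := u.surjective w
      change u w' * u z = u z * u w'
      rw [← map_mul, ← map_mul, hz']
    · intro hy
      refine ⟨u.symm y, ?_, by simp⟩
      have hy' := Subgroup.mem_center_iff.mp hy
      rw [SetLike.mem_coe, Subgroup.mem_center_iff]
      intro w
      apply u.injective
      rw [map_mul, map_mul, MulEquiv.apply_symm_apply, hy']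
  exact ⟨QuotientGroup.congr _ _ u hu⟩

/-- Isomorphic fields have isomorphic projective special linear groups. -/
theorem psl_equiv {K K' : Type*} [Field K] [Fintype K] [Field K'] [Fintype K']
    (hc : Fintype.card K = Fintype.card K') : Nonempty (PSL(2, K) ≃* PSL(2, K')) := by
  let r : K ≃+* K' := FiniteField.ringEquivOfCardEq hc
  let f := Cfsg.Agent.Lib.PSL2.FieldEmbed.pslMap (r : K →+* K')
  have hf : Function.Injective f := Cfsg.Agent.Lib.PSL2.FieldEmbed.pslMap_injective
  have h1 := Cfsg.Agent.Lib.PSL2.DicksonCor.card_PSL2_mul_dd K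
  have h2 := Cfsg.Agent.Lib.PSL2.DicksonCor.card_PSL2_mul_dd K'
  have hdd : Cfsg.Agent.Lib.PSL2.DicksonCor.dd K = Cfsg.Agent.Lib.PSL2.DicksonCor.dd K' := by
    unfold Cfsg.Agent.Lib.PSL2.DicksonCor.dd
    rw [hc]
  have hcard : Nat.card PSL(2, K) = Nat.card PSL(2, K') := by
    rw [hc, ← h2, ← hdd] at h1
    exact Nat.eq_of_mul_eq_mul_right (Cfsg.Agent.Lib.PSL2.DicksonCor.dd_pos K) h1
  haveI : Finite PSL(2, K') := by
    haveI : Finite SL(2, K') := Finite.of_injective (fun A : SL(2, K') => A.1) Subtype.val_injective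
    exact Quotient.finite _
  have hb := (Nat.bijective_iff_injective_and_card f).2 ⟨hf, hcard⟩
  exact ⟨MulEquiv.ofBijective f hb⟩

/-- The arithmetic. -/
theorem arith_core {p d q ℓ f : ℕ} (hp : p.Prime) (hp2 : p ≠ 2) (hd0 : 0 < d) (hd : d < p)
    (hodd : q % 2 = 1) (hq2 : 2 ≤ q) (hℓ : ℓ.Prime) (hf : 0 < f) (hqf : q = ℓ ^ f)
    (h1 : (p + 1) * p * d * 2 = q * (q ^ 2 - 1)) : q = p ∧ 2 * d = p - 1 := by
  have hp3 : 3 ≤ p := by
    have := hp.two_le
    omega
  have hsq := Cfsg.Agent.Lib.PSL2.DicksonCor.sq_sub_one q (by omega)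
  rw [hsq] at h1
  have hnp1 : ¬ p ∣ p + 1 := by
    intro h
    have h2 : p ∣ 1 := (Nat.dvd_add_right (dvd_refl p)).mp h
    exact hp.one_lt.ne' (Nat.dvd_one.mp h2)
  have hnd : ¬ p ∣ d := fun h => absurd (Nat.le_of_dvd hd0 h) (by omega)
  have hn2 : ¬ p ∣ 2 := fun h => absurd (Nat.le_of_dvd (by norm_num) h) (by omega)
  have hdvd : p ∣ q * ((q - 1) * (q + 1)) := by
    rw [← h1]
    exact Dvd.dvd.mul_right (Dvd.dvd.mul_right (Dvd.intro_left _ rfl) _) _
  by_cases hpq : p ∣ q
  · -- the natural characteristic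
    have hpℓ : p = ℓ := by
      rw [hqf] at hpq
      exact (Nat.prime_dvd_prime_iff_eq hp hℓ).mp (hp.dvd_of_dvd_pow hpq)
    subst hpℓ
    have hf1 : f = 1 := by
      by_contra hne
      obtain ⟨g, rfl⟩ : ∃ g, f = g + 2 := ⟨f - 2, by omega⟩
      have h2 : p * p ∣ q := by
        rw [hqf, pow_add, pow_two]
        exact Dvd.intro_left _ rfl
      have h3 : p * p ∣ (p + 1) * p * d * 2 := by
        rw [h1]
        exact Dvd.dvd.mul_right h2 _
      have h4 : (p + 1) * p * d * 2 = p * ((p + 1) * d * 2) := by ring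
      rw [h4] at h3
      have h5 : p ∣ (p + 1) * d * 2 := Nat.dvd_of_mul_dvd_mul_left hp.pos h3
      rcases (Nat.Prime.dvd_mul hp).mp h5 with h6 | h6
      · rcases (Nat.Prime.dvd_mul hp).mp h6 with h7 | h7
        · exact hnp1 h7
        · exact hnd h7
      · exact hn2 h6
    subst hf1
    rw [pow_one] at hqf
    subst hqf
    refine ⟨rfl, ?_⟩
    have h2 : q * (q + 1) * (d * 2) = q * (q + 1) * (q - 1) := by
      calc q * (q + 1) * (d * 2) = (q + 1) * q * d * 2 := by ring
        _ = q * ((q - 1) * (q + 1)) := h1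
        _ = q * (q + 1) * (q - 1) := by ring
    have h3 := Nat.eq_of_mul_eq_mul_left (Nat.mul_pos (by omega) (by omega)) h2
    omega
  · exfalso
    have hq_big : 2 * p - 1 ≤ q := by
      rcases (Nat.Prime.dvd_mul hp).mp hdvd with h | h
      · exact absurd h hpq
      · rcases (Nat.Prime.dvd_mul hp).mp h with h | h
        · -- p ∣ q - 1
          obtain ⟨t, ht⟩ := h
          have hodd' : Odd p := hp.odd_of_ne_two hp2
          have ht0 : t ≠ 0 := by
            rintro rfl
            omega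
          have htev : 2 ∣ t := by
            have h2 : 2 ∣ p * t := by
              rw [← ht]
              omega
            rcases (Nat.Prime.dvd_mul Nat.prime_two).mp h2 with h3 | h3
            · exact absurd h3 (by
                rw [← even_iff_two_dvd, Nat.not_even_iff_odd]; exact hodd')
            · exact h3
          obtain ⟨s, rfl⟩ := htev
          have hs : 1 ≤ s := by omega
          have h5 : p * (2 * 1) ≤ p * (2 * s) := Nat.mul_le_mul_left _ (by omega)
          omega
        · -- p ∣ q + 1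
          obtain ⟨t, ht⟩ := h
          have hodd' : Odd p := hp.odd_of_ne_two hp2
          have ht0 : t ≠ 0 := by
            rintro rfl
            omega
          have htev : 2 ∣ t := by
            have h2 : 2 ∣ p * t := by
              rw [← ht]
              omega
            rcases (Nat.Prime.dvd_mul Nat.prime_two).mp h2 with h3 | h3
            · exact absurd h3 (by
                rw [← even_iff_two_dvd, Nat.not_even_iff_odd]; exact hodd')
            · exact h3
          obtain ⟨s, rfl⟩ := htev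
          have hs : 1 ≤ s := by omega
          have h5 : p * (2 * 1) ≤ p * (2 * s) := Nat.mul_le_mul_left _ (by omega)
          omega
    obtain ⟨k, rfl⟩ : ∃ k, p = k + 3 := ⟨p - 3, by omega⟩
    obtain ⟨r, rfl⟩ : ∃ r, q = r + 1 := ⟨q - 1, by omega⟩
    simp only [Nat.add_sub_cancel] at h1
    have hr : 2 * k + 4 ≤ r := by omega
    have e1 : (k + 3 + 1) * (k + 3) * d * 2 ≤ (k + 4) * (k + 3) * (k + 2) * 2 :=
      Nat.mul_le_mul_right _ (Nat.mul_le_mul_left _ (by omega))
    have e2 : (2 * k + 5) * ((2 * k + 4) * (2 * k + 6)) ≤ (r + 1) * (r * (r + 1 + 1)) :=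
      Nat.mul_le_mul (by omega) (Nat.mul_le_mul hr (by omega))
    have e3 : (k + 4) * (k + 3) * (k + 2) * 2 < (2 * k + 5) * ((2 * k + 4) * (2 * k + 6)) := by
      nlinarith [Nat.zero_le k, Nat.zero_le (k * k), Nat.zero_le (k * k * k)]
    omega

/-- The arithmetic of `PSL(2, K)`. -/
theorem psl_arith {K : Type*} [Field K] [Fintype K] (hK : ringChar K ≠ 2) {p d : ℕ} (hp : p.Prime)
    (hp2 : p ≠ 2) (hd0 : 0 < d) (hd : d < p) (hc : Nat.card PSL(2, K) = (p + 1) * p * d) :
    Fintype.card K = p ∧ 2 * d = p - 1 := by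
  have h1 := Cfsg.Agent.Lib.PSL2.DicksonCor.card_PSL2_mul_dd K
  have hodd := FiniteField.odd_card_of_char_ne_two hK
  set q := Fintype.card K with hq
  have hq2 : 2 ≤ q := Fintype.one_lt_card
  have hdd : Cfsg.Agent.Lib.PSL2.DicksonCor.dd K = 2 := by
    unfold Cfsg.Agent.Lib.PSL2.DicksonCor.dd
    rw [← hq]
    exact Nat.gcd_eq_left (by omega)
  rw [hc, hdd] at h1
  obtain ⟨ℓ, hℓc⟩ := CharP.exists K
  obtain ⟨n, hℓ, hqn⟩ := FiniteField.card K ℓ
  exact arith_core hp hp2 hd0 hd hodd hq2 hℓ n.pos hqn h1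

/-- A transitive permutation group on `p + 1` points (`p` prime) of order `(p+1) p d` with `d < p` is isomorphic to `PGL(2,p)` with `d = p - 1`, or to `PSL(2,p)` with `2d = p - 1`, or else `p + 1 = 2^q` for a prime `q`, `d = 1` or `d = q`, and the group is permutation-isomorphic to a group of semi-affine maps `x ↦ a φ(x) + b` of the field with `2^q` elements. -/
theorem result {α : Type*} [Fintype α] [DecidableEq α] {p d : ℕ} (hp : p.Prime) (hα : Fintype.card α = p + 1) (G : Subgroup (Equiv.Perm α)) [MulAction.IsPretransitive G α] (hG : Nat.card G = (p + 1) * p * d) (hd : d < p) : (d = p - 1 ∧ Nonempty (G ≃* Matrix.ProjGenLinGroup (Fin 2) (ZMod p))) ∨ (2 * d = p - 1 ∧ Nonempty (G ≃* Matrix.ProjectiveSpecialLinearGroup (Fin 2) (ZMod p))) ∨ (∃ q : ℕ, q.Prime ∧ p + 1 = 2 ^ q ∧ (d = 1 ∨ d = q) ∧ ∃ e : α ≃ GaloisField 2 q, ∀ g : G, (e.symm.trans (((g : Equiv.Perm α)).trans e)) ∈ Cfsg.semiaffineGroup (GaloisField 2 q)) := by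
  classical
  haveI : Fact p.Prime := ⟨hp⟩
  have hα' : Nat.card α = p + 1 := by rw [Nat.card_eq_fintype_card, hα]
  obtain ⟨x, a, S⟩ := exists_setup (G := G) (α := α) hp hα' hG hd
  have hd0 := S.d_pos
  by_cases hdp : d = p - 1
  · left
    refine ⟨hdp, ?_⟩
    obtain ⟨h3, hsharp⟩ := S.sharp hdp
    have hF : ∃ (F : Type) (_ : Field F) (_ : Fintype F), Fintype.card F = p ∧
        Nonempty (G ≃* ProjGenLinGroup (Fin 2) F) := by
      by_cases hp2 : p = 2
      · subst hp2
        simpa using Cfsg.Agent.S0727.result (f := 1) le_rfl (by rw [hα]; norm_num) G h3 hsharp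
      · simpa using Cfsg.Agent.S0730.result (f := 1) hp hp2 odd_one (by rw [hα, pow_one]) G h3 hsharp
    obtain ⟨F, _, _, hFc, ⟨φ⟩⟩ := hF
    obtain ⟨ψ⟩ := pgl_equiv (K := F) (K' := ZMod p) (by rw [hFc, ZMod.card])
    exact ⟨φ.trans ψ⟩
  right
  have hp2 : p ≠ 2 := by
    rintro rfl
    omega
  by_cases hregN : ∃ K : Subgroup G, K.Normal ∧ IsPretransitive K α ∧ ∀ b : α, stabilizer K b = ⊥
  · right
    obtain ⟨N, hN, htr, hreg⟩ := hregN
    obtain ⟨q, hq, hpq, hdq, e, he⟩ := third_of_regular S hp2 N hN htr hreg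
    refine ⟨q, hq, hpq, hdq, e, fun g => ?_⟩
    obtain ⟨c, b, φ, hφ⟩ := he g
    refine ⟨c, b, φ, fun y => ?_⟩
    have := hφ (e.symm y)
    rw [Equiv.apply_symm_apply] at this
    exact this
  · left
    have hd1 : d ≠ 1 := by
      rintro rfl
      exact hregN S.exists_regular_of_d_one
    have hnreg : ∀ N : Subgroup G, N.Normal → IsPretransitive N α → ∃ b : α, stabilizer N b ≠ ⊥ := by
      intro N hN htr
      by_contra hcon
      push Not at hcon
      exact hregN ⟨N, hN, htr, hcon⟩
    -- a point other than `a`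
    obtain ⟨b, hba⟩ : ∃ b : α, b ≠ a := by
      haveI := S.finite_α
      have : 1 < Nat.card α := by rw [hα']; have := hp.pos; omega
      haveI : Nontrivial α := Finite.one_lt_card_iff_nontrivial.mp this
      exact exists_ne a
    have hZass : Cfsg.IsZassenhausGroup G α := by
      refine ⟨inferInstance, S.twoTrans, ?_, ?_, hnreg⟩
      · intro g u v w huv hvw huw h1 h2 h3
        exact S.eq_one_of_fix3 huv hvw huw h1 h2 h3
      · have h1 := S.card_two hba
        have h2 : 1 < Nat.card ↥(stabilizer G a ⊓ stabilizer G b) := by omega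
        haveI := Finite.one_lt_card_iff_nontrivial.mp h2
        obtain ⟨g, hg⟩ := exists_ne (1 : ↥(stabilizer G a ⊓ stabilizer G b))
        refine ⟨g, fun h => hg (Subtype.ext h), a, b, hba.symm, g.2.1, g.2.2⟩
    have hFab : IsMulCommutative (Subgroup.zpowers x) := inferInstance
    rcases Cfsg.Agent.S0731.result hZass a (Subgroup.zpowers x) S.Z_le S.normal hFab S.hreg with
      ⟨h3, hs⟩ | ⟨K, _, _, hK, ⟨φ⟩⟩
    · exact absurd (S.d_of_sharp h3 hs) hdp
    · have hc : Nat.card PSL(2, K) = (p + 1) * p * d := by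
        rw [← hG]
        exact (Nat.card_congr φ.toEquiv).symm
      obtain ⟨h1, h2⟩ := psl_arith hK hp hp2 hd0 hd hc
      refine ⟨h2, ?_⟩
      obtain ⟨ψ⟩ := psl_equiv (K := K) (K' := ZMod p) (by rw [h1, ZMod.card])
      exact ⟨φ.trans ψ⟩

end Cfsg.Agent.S0732
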