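import Cfsg.Statements.S4836
import Mathlib
import Cfsg.Agent.Lib.Char.ClassMul
import Cfsg.Agent.Lib.Char.Burnside2
import Cfsg.Agent.Lib.Char.OrthoBasic

set_option autoImplicit false
open Cfsg

namespace Cfsg.Agent.S4836

open Cfsg.Agent.Lib.Char.Integrality Cfsg.Agent.Lib.Char.CompleteCor
open scoped ComplexConjugate

/-- Extract the non-identity class. -/
theorem exists_class {G : Type*} [Group G] [Finite G] (χ : Cfsg.IrrCharacter G)
    (hχ : Nat.card {C : ConjClasses G // ∃ g ∈ C.carrier, (χ : G → ℂ) g ≠ 0} = 2) :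
    ∃ c : G, c ≠ 1 ∧ (χ : G → ℂ) c ≠ 0 ∧ ∀ g, (χ : G → ℂ) g ≠ 0 → g = 1 ∨ IsConj c g := by
  classical
  obtain ⟨x, y, hxy, hu⟩ := Nat.card_eq_two_iff.1 hχ
  have hne1 : (χ : G → ℂ) 1 ≠ 0 := Cfsg.Agent.Lib.Char.Ortho.irr_apply_one_ne_zero χ.2
  have hmem : ∀ g : G, (χ : G → ℂ) g ≠ 0 → ∃ h : (∃ g' ∈ (ConjClasses.mk g).carrier, (χ : G → ℂ) g' ≠ 0),
      (⟨ConjClasses.mk g, h⟩ : {C : ConjClasses G // ∃ g ∈ C.carrier, (χ : G → ℂ) g ≠ 0}) = x ∨
      (⟨ConjClasses.mk g, h⟩ : {C : ConjClasses G // ∃ g ∈ C.carrier, (χ : G → ℂ) g ≠ 0}) = y := by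
    intro g hg
    have h : ∃ g' ∈ (ConjClasses.mk g).carrier, (χ : G → ℂ) g' ≠ 0 :=
      ⟨g, ConjClasses.mem_carrier_mk, hg⟩
    refine ⟨h, ?_⟩
    have : (⟨ConjClasses.mk g, h⟩ : {C : ConjClasses G // ∃ g ∈ C.carrier, (χ : G → ℂ) g ≠ 0}) ∈
        ({x, y} : Set _) := by rw [hu]; trivial
    simpa using this
  -- WLOG the class of `1` is `x`
  obtain ⟨h1, h1'⟩ := hmem 1 hne1
  have key : ∀ (u v : {C : ConjClasses G // ∃ g ∈ C.carrier, (χ : G → ℂ) g ≠ 0}), u ≠ v →
      ({u, v} : Set _) = Set.univ → (⟨ConjClasses.mk 1, h1⟩ : {C : ConjClasses G // ∃ g ∈ C.carrier, (χ : G → ℂ) g ≠ 0}) = u →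
      ∃ c : G, c ≠ 1 ∧ (χ : G → ℂ) c ≠ 0 ∧ ∀ g, (χ : G → ℂ) g ≠ 0 → g = 1 ∨ IsConj c g := by
    intro u v huv hu1 hone
    rcases hv : v with ⟨D, c, hcD, hc⟩
    have hD : D = ConjClasses.mk c := by
      have : ConjClasses.mk c = D := by
        rw [ConjClasses.mem_carrier_iff_mk_eq] at hcD
        exact hcD
      exact this.symm
    subst hD
    refine ⟨c, ?_, hc, ?_⟩
    · rintro rfl
      apply huv
      rw [← hone, hv]
    · intro g hg
      have h3 : ∃ g' ∈ (ConjClasses.mk g).carrier, (χ : G → ℂ) g' ≠ 0 :=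
        ⟨g, ConjClasses.mem_carrier_mk, hg⟩
      have h2 : (⟨ConjClasses.mk g, h3⟩ : {C : ConjClasses G // ∃ g ∈ C.carrier, (χ : G → ℂ) g ≠ 0}) ∈
          ({u, v} : Set _) := by rw [hu1]; trivial
      rcases h2 with h2 | h2
      · left
        rw [← hone] at h2
        have := congrArg Subtype.val h2
        have h4 : IsConj g 1 := ConjClasses.mk_eq_mk_iff_isConj.1 this
        exact isConj_one_right.1 h4.symm
      · right
        have h2' : (⟨ConjClasses.mk g, h3⟩ : {C : ConjClasses G // ∃ g ∈ C.carrier, (χ : G → ℂ) g ≠ 0}) = _ := h2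
        rw [hv] at h2'
        have := congrArg Subtype.val h2'
        exact (ConjClasses.mk_eq_mk_iff_isConj.1 this).symm
  rcases h1' with h1' | h1'
  · exact key x y hxy hu h1'
  · exact key y x hxy.symm (by rw [Set.pair_comm]; exact hu) h1'

/-- The sum over the group of a product reduces to `1` and the class of `c`. -/
theorem sum_eq {G : Type*} [Group G] [Fintype G] (χ : Cfsg.IrrCharacter G) (ψ : G → ℂ)
    (hψ : Cfsg.IsClassFunction G ψ) (c : G) (hc1 : c ≠ 1)
    (hχ : ∀ g, (χ : G → ℂ) g ≠ 0 → g = 1 ∨ IsConj c g) :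
    ∑ g : G, (χ : G → ℂ) g * ψ g = (χ : G → ℂ) 1 * ψ 1 +
      ((classFinset c).card : ℂ) * ((χ : G → ℂ) c * ψ c) := by
  classical
  have h1n : (1 : G) ∉ classFinset c := by
    rw [mem_classFinset]
    intro h
    exact hc1 (isConj_one_right.1 h.symm)
  have hsub : insert (1 : G) (classFinset c) ⊆ Finset.univ := Finset.subset_univ _
  rw [← Finset.sum_subset hsub, Finset.sum_insert h1n]
  · congr 1
    rw [← nsmul_eq_mul, ← Finset.sum_const]
    refine Finset.sum_congr rfl fun g hg => ?_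
    rw [mem_classFinset] at hg
    obtain ⟨h, rfl⟩ := isConj_iff.1 hg
    rw [hψ c h, isIrr_classFunction χ.2 c h]
  · intro g _ hg
    by_contra hne
    have hne2 : (χ : G → ℂ) g ≠ 0 := left_ne_zero_of_mul hne
    rcases hχ g hne2 with h | h
    · exact hg (by rw [h]; exact Finset.mem_insert_self _ _)
    · exact hg (Finset.mem_insert_of_mem ((mem_classFinset c g).2 h))

/-- The main computation. -/
theorem key {G : Type*} [Group G] [Finite G] (hG : 2 < Nat.card G) (χ : Cfsg.IrrCharacter G)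
    (hχ : Nat.card {C : ConjClasses G // ∃ g ∈ C.carrier, (χ : G → ℂ) g ≠ 0} = 2) :
    ∃ c : G, c ≠ 1 ∧ (∀ g : G, (χ : G → ℂ) g = (χ : G → ℂ) 1 → g = 1) ∧
      ∀ ψ : Cfsg.IrrCharacter G, ψ ≠ χ → (ψ : G → ℂ) c = (ψ : G → ℂ) 1 := by
  classical
  cases nonempty_fintype G
  obtain ⟨c, hc1, hc0, hsupp⟩ := exists_class χ hχ
  have hcG : (Nat.card G : ℂ) ≠ 0 := Nat.cast_ne_zero.mpr Nat.card_pos.ne'
  have hsum := fun (ψ : Cfsg.IrrCharacter G) => sum_eq χ (fun g => conj ((ψ : G → ℂ) g)) (fun g h => by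
    simp only [isIrr_classFunction ψ.2 g h]) c hc1 hsupp
  set m := (classFinset c).card with hm
  have hm0 : 0 < m := Finset.card_pos.2 ⟨c, (mem_classFinset c c).2 (IsConj.refl c)⟩
  have hmC : (m : ℂ) ≠ 0 := Nat.cast_ne_zero.mpr hm0.ne'
  let one : Cfsg.IrrCharacter G := ⟨fun _ => 1, Cfsg.Agent.Lib.Char.Burnside2.isIrrCharacter_one⟩
  have horth : ∀ ψ : Cfsg.IrrCharacter G, ψ ≠ χ → ∑ g : G, (χ : G → ℂ) g * conj ((ψ : G → ℂ) g) = 0 := by
    intro ψ hψ
    have h := Cfsg.Agent.Lib.Char.OrthoBasic.classInner_irr_irr χ.2 ψ.2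
    rw [if_neg (fun h => hψ (Subtype.ext h).symm)] at h
    unfold Cfsg.classInner at h
    exact (mul_eq_zero.1 h).resolve_left (inv_ne_zero hcG)
  have hone : χ ≠ one := by
    intro h
    have h0 := hsum one
    have h1 : ∑ g : G, (χ : G → ℂ) g * conj (((one : Cfsg.IrrCharacter G) : G → ℂ) g) = (Nat.card G : ℂ) := by
      rw [h]
      simp [one, Nat.card_eq_fintype_card]
    rw [h1] at h0
    rw [h] at h0
    have h2 : (Nat.card G : ℂ) = 1 + (m : ℂ) := by
      simpa [one] using h0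
    have h3 : Nat.card G = 1 + m := by exact_mod_cast h2
    have h4 : m ∣ Nat.card G := by
      rw [hm, card_classFinset]
      exact Subgroup.index_dvd_card _
    have h5 : m ∣ 1 := by
      rw [h3] at h4
      exact (Nat.dvd_add_left (dvd_refl m)).1 h4
    have h6 : m = 1 := Nat.dvd_one.1 h5
    omega
  have hval : (χ : G → ℂ) 1 + (m : ℂ) * (χ : G → ℂ) c = 0 := by
    have h := horth one hone.symm
    rw [hsum one] at h
    simpa [one] using h
  have hd : (χ : G → ℂ) 1 ≠ 0 := Cfsg.Agent.Lib.Char.Ortho.irr_apply_one_ne_zero χ.2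
  have hreal : conj ((χ : G → ℂ) 1) = (χ : G → ℂ) 1 := conj_apply_one χ.2
  refine ⟨c, hc1, ?_, ?_⟩
  · intro g hg
    have hg0 : (χ : G → ℂ) g ≠ 0 := by rw [hg]; exact hd
    rcases hsupp g hg0 with h | h
    · exact h
    · exfalso
      rw [irr_apply_of_isConj h.symm χ] at hg
      rw [hg] at hval
      have h7 : (1 + (m : ℂ)) * (χ : G → ℂ) 1 = 0 := by linear_combination hval
      rcases mul_eq_zero.1 h7 with h8 | h8
      · have : ((1 + m : ℕ) : ℂ) = 0 := by push_cast; exact h8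
        have h9 : 1 + m = 0 := by exact_mod_cast this
        omega
      · exact hd h8
  · intro ψ hψ
    have h1 : ∑ g : G, (ψ : G → ℂ) g * conj ((χ : G → ℂ) g) = 0 := by
      have h := Cfsg.Agent.Lib.Char.OrthoBasic.classInner_irr_irr ψ.2 χ.2
      rw [if_neg (fun h => hψ (Subtype.ext h))] at h
      unfold Cfsg.classInner at h
      exact (mul_eq_zero.1 h).resolve_left (inv_ne_zero hcG)
    -- transpose
    have h2 : ∑ g : G, (χ : G → ℂ) g * conj ((ψ : G → ℂ) g) = 0 := horth ψ hψ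
    rw [hsum ψ] at h2
    have hcc : (χ : G → ℂ) c = - (χ : G → ℂ) 1 / (m : ℂ) := by
      field_simp
      linear_combination hval
    rw [hcc] at h2
    have h3 : (χ : G → ℂ) 1 * (conj ((ψ : G → ℂ) 1) - conj ((ψ : G → ℂ) c)) = 0 := by
      have h4 : (m : ℂ) * (-(χ : G → ℂ) 1 / (m : ℂ) * conj ((ψ : G → ℂ) c)) =
          -((χ : G → ℂ) 1 * conj ((ψ : G → ℂ) c)) := by
        field_simp
      rw [h4] at h2
      linear_combination h2
    have h5 := sub_eq_zero.1 ((mul_eq_zero.1 h3).resolve_left hd)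
    have h6 := congrArg conj h5
    simp only [Complex.conj_conj] at h6
    exact h6.symm

/-- Let G be a finite group of order greater than 2 with an irreducible character χ that is nonzero on exactly two conjugacy classes. Then χ is faithful (it takes the value χ(1) only at the identity), it is the only faithful irreducible character of G, and it is the only irreducible character of G that is nonzero on exactly two conjugacy classes. -/
theorem result {G : Type*} [Group G] [Finite G] (hG : 2 < Nat.card G) (χ : Cfsg.IrrCharacter G) (hχ : Nat.card {C : ConjClasses G // ∃ g ∈ C.carrier, (χ : G → ℂ) g ≠ 0} = 2) :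
    (∀ g : G, (χ : G → ℂ) g = (χ : G → ℂ) 1 → g = 1) ∧
      (∀ ψ : Cfsg.IrrCharacter G, (∀ g : G, (ψ : G → ℂ) g = (ψ : G → ℂ) 1 → g = 1) → ψ = χ) ∧
      (∀ ψ : Cfsg.IrrCharacter G, Nat.card {C : ConjClasses G // ∃ g ∈ C.carrier, (ψ : G → ℂ) g ≠ 0} = 2 → ψ = χ) := by
  obtain ⟨c, hc1, hfaith, hother⟩ := key hG χ hχ
  refine ⟨hfaith, ?_, ?_⟩
  · intro ψ hψ
    by_contra hne
    exact hc1 (hψ c (hother ψ hne))
  · intro ψ hψ2
    obtain ⟨c', hc1', hfaith', hother'⟩ := key hG ψ hψ2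
    by_contra hne
    exact hc1 (hfaith' c (hother ψ hne))

end Cfsg.Agent.S4836
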