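import Cfsg.Statements.S2325
import Cfsg.Agent.Lib.PSL2.Macbeath
import Cfsg.Agent.Lib.PSL2.Unipotent
-- import your own Cfsg.Agent.* helpers here

set_option autoImplicit false
open Cfsg

namespace Cfsg.Agent.S2325

open Matrix Matrix.SpecialLinearGroup
open scoped MatrixGroups
open Cfsg.Agent.Lib.PSL2.Basic Cfsg.Agent.Lib.PSL2.Unipotent

variable {F : Type*} [Field F] [Fintype F]

/-- The trace on conjugacy classes. -/
def τ : ConjClasses SL(2, F) → F :=
  Quotient.lift (tr : SL(2, F) → F) (by
    rintro a b h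
    obtain ⟨g, hg⟩ := isConj_iff.1 h
    rw [← hg, tr_conj])

@[simp] lemma τ_mk (A : SL(2, F)) : τ (ConjClasses.mk A) = tr A := rfl

lemma isConj_neg {A B : SL(2, F)} (h : IsConj A B) : IsConj (-A) (-B) := by
  obtain ⟨g, hg⟩ := isConj_iff.1 h
  refine isConj_iff.2 ⟨g, ?_⟩
  rw [← hg]
  simp

/-- Negation on conjugacy classes. -/
def negC : ConjClasses SL(2, F) → ConjClasses SL(2, F) :=
  Quotient.map (fun A : SL(2, F) => -A) (fun _ _ h => isConj_neg h)

@[simp] lemma negC_mk (A : SL(2, F)) : negC (ConjClasses.mk A) = ConjClasses.mk (-A) := rfl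

lemma negC_negC (c : ConjClasses SL(2, F)) : negC (negC c) = c := by
  obtain ⟨A, rfl⟩ := ConjClasses.exists_rep c
  simp

lemma τ_negC (c : ConjClasses SL(2, F)) : τ (negC c) = - τ c := by
  obtain ⟨A, rfl⟩ := ConjClasses.exists_rep c
  simp

/-- An element with a given trace. -/
def comp (t : F) : SL(2, F) := sl2 0 1 (-1) t (by ring)

@[simp] lemma tr_comp (t : F) : tr (comp t) = t := by
  simp [tr, comp]

open Classical in
/-- The fibre of the trace map. -/
noncomputable def fib (t : F) : Finset (ConjClasses SL(2, F)) := Finset.univ.filter (fun c => τ c = t)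

lemma mem_fib {t : F} {c : ConjClasses SL(2, F)} : c ∈ fib t ↔ τ c = t := by
  simp [fib]

lemma card_fib_generic {t : F} (ht : t ^ 2 ≠ 4) : (fib t).card = 1 := by
  rw [Finset.card_eq_one]
  refine ⟨ConjClasses.mk (comp t), ?_⟩
  ext c
  rw [mem_fib, Finset.mem_singleton]
  constructor
  · intro h
    obtain ⟨A, rfl⟩ := ConjClasses.exists_rep c
    rw [τ_mk] at h
    rw [ConjClasses.mk_eq_mk_iff_isConj]
    subst h
    obtain ⟨g, hg⟩ := Cfsg.Agent.Lib.PSL2.Macbeath.exists_conj_of_tr_eq A (comp (tr A)) ht (by simp)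
    exact isConj_iff.2 ⟨g, hg⟩
  · rintro rfl
    simp

lemma exists_nonsq (hodd : Odd (Fintype.card F)) : ∃ ν : F, ν ≠ 0 ∧ ¬ IsSquare ν := by
  have hc : ringChar F ≠ 2 := by
    intro h
    have := FiniteField.even_card_iff_char_two.1 h
    rw [Nat.odd_iff] at hodd
    omega
  obtain ⟨ν, hν⟩ := FiniteField.exists_nonsquare hc
  refine ⟨ν, ?_, hν⟩
  rintro rfl
  exact hν IsSquare.zero

lemma x_ne_one {b : F} (hb : b ≠ 0) : x b ≠ 1 := by
  intro h
  have := congrArg (fun M : SL(2, F) => M.1 0 1) h
  simp only [x_01, one_01] at this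
  exact hb this

lemma card_fib_two (hodd : Odd (Fintype.card F)) : (fib (2 : F)).card = 3 := by
  classical
  obtain ⟨ν, hν0, hν⟩ := exists_nonsq hodd
  have h10 : (1 : F) ≠ 0 := one_ne_zero
  rw [Finset.card_eq_three]
  refine ⟨ConjClasses.mk 1, ConjClasses.mk (x 1), ConjClasses.mk (x ν), ?_, ?_, ?_, ?_⟩
  · rw [Ne, ConjClasses.mk_eq_mk_iff_isConj, isConj_one_right]
    exact x_ne_one h10
  · rw [Ne, ConjClasses.mk_eq_mk_iff_isConj, isConj_one_right]
    exact x_ne_one hν0
  · rw [Ne, ConjClasses.mk_eq_mk_iff_isConj, isConj_x_iff h10 hν0, one_mul]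
    exact hν
  · ext c
    rw [mem_fib]
    simp only [Finset.mem_insert, Finset.mem_singleton]
    constructor
    · intro h
      obtain ⟨A, rfl⟩ := ConjClasses.exists_rep c
      rw [τ_mk] at h
      by_cases hA : A = 1
      · left
        rw [hA]
      · right
        obtain ⟨g, b, hb, hg⟩ := exists_conj_x_ne_of_tr_eq_two A h hA
        have hAb : IsConj A (x b) := isConj_iff.2 ⟨g, hg⟩
        by_cases hsq : IsSquare b
        · left
          rw [ConjClasses.mk_eq_mk_iff_isConj]
          refine hAb.trans ((isConj_x_iff hb h10).2 ?_)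
          rwa [mul_one]
        · right
          rw [ConjClasses.mk_eq_mk_iff_isConj]
          refine hAb.trans ((isConj_x_iff hb hν0).2 ?_)
          have hχ1 := quadraticChar_neg_one_iff_not_isSquare.2 hsq
          have hχ2 := quadraticChar_neg_one_iff_not_isSquare.2 hν
          rw [← quadraticChar_one_iff_isSquare (mul_ne_zero hb hν0), map_mul, hχ1, hχ2]
          norm_num
    · rintro (rfl | rfl | rfl) <;> simp

lemma card_fib_neg_two (hodd : Odd (Fintype.card F)) : (fib (-2 : F)).card = 3 := by
  rw [← card_fib_two hodd]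
  apply Finset.card_nbij' negC negC
  · intro c hc
    have hc' : c ∈ fib (-2 : F) := hc
    show negC c ∈ fib (2 : F)
    rw [mem_fib] at hc' ⊢
    rw [τ_negC, hc', neg_neg]
  · intro c hc
    have hc' : c ∈ fib (2 : F) := hc
    show negC c ∈ fib (-2 : F)
    rw [mem_fib] at hc' ⊢
    rw [τ_negC, hc']
  · intro c _
    exact negC_negC c
  · intro c _
    exact negC_negC c

/-- Over a finite field with q elements, q odd, the special linear group SL₂ has exactly q + 4 conjugacy classes. -/
theorem result {F : Type*} [Field F] [Fintype F] (hodd : Odd (Fintype.card F)) :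
    Nat.card (ConjClasses (Matrix.SpecialLinearGroup (Fin 2) F)) = Fintype.card F + 4 := by
  classical
  have h2 : (2 : F) ≠ 0 := Cfsg.Agent.Lib.PSL2.TorusCore.two_ne_zero_of_odd_card hodd
  have hcard : ∀ t : F, (fib t).card = 1 + (if t = 2 then 2 else 0) + (if t = -2 then 2 else 0) := by
    intro t
    have hne : (2 : F) ≠ -2 := by
      intro h
      apply h2
      have : 2 * (2 : F) = 0 := by linear_combination h
      exact (mul_eq_zero.1 this).resolve_left h2
    by_cases ht : t = 2
    · rw [ht, card_fib_two hodd, if_pos rfl, if_neg hne]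
    · by_cases ht' : t = -2
      · rw [ht', card_fib_neg_two hodd, if_pos rfl, if_neg hne.symm]
      · rw [if_neg ht, if_neg ht', card_fib_generic]
        intro h
        have h1 : (t - 2) * (t + 2) = 0 := by linear_combination h
        rcases mul_eq_zero.1 h1 with h3 | h3
        · exact ht (sub_eq_zero.1 h3)
        · exact ht' (eq_neg_of_add_eq_zero_left h3)
  rw [Nat.card_eq_fintype_card, ← Finset.card_univ]
  rw [Finset.card_eq_sum_card_fiberwise (f := τ) (t := Finset.univ) (fun _ _ => Finset.mem_univ _)]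
  have : ∀ t : F, (Finset.univ.filter (fun c : ConjClasses SL(2, F) => τ c = t)).card = 1 + (if t = 2 then 2 else 0) + (if t = -2 then 2 else 0) := by
    intro t
    rw [← hcard t]
    congr 1
  simp only [this, Finset.sum_add_distrib, Finset.sum_ite_eq', Finset.mem_univ, if_true]
  simp

end Cfsg.Agent.S2325
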