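import Cfsg.Statements.S0188
import Mathlib
import Cfsg.Agent.Lib.Char.Ortho
import Cfsg.Agent.Lib.Char.CompleteCor

set_option autoImplicit false
open Cfsg

namespace Cfsg.Agent.S0188

section

variable {G : Type*} [Group G] [Fintype G] {H : Type*} [Group H] [Fintype H]

theorem inner_prod (φ φ' : G → ℂ) (ψ ψ' : H → ℂ) :
    classInner (fun x : G × H => φ x.1 * ψ x.2) (fun x : G × H => φ' x.1 * ψ' x.2) =
      classInner φ φ' * classInner ψ ψ' := by
  unfold classInner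
  rw [Nat.card_prod, Fintype.sum_prod_type]
  simp only [map_mul]
  push_cast
  rw [mul_inv, mul_mul_mul_comm, Finset.sum_mul_sum]
  congr 1
  refine Finset.sum_congr rfl fun g _ => Finset.sum_congr rfl fun h _ => ?_
  ring

theorem irr_prod {φ : G → ℂ} {ψ : H → ℂ} (hφ : IsIrrCharacter G φ) (hψ : IsIrrCharacter H ψ) :
    IsIrrCharacter (G × H) (fun x => φ x.1 * ψ x.2) := by
  have h1 : IsCharacter (G × H) (fun x => φ x.1) :=
    Cfsg.Agent.Lib.Char.Basic.isCharacter_comp_hom (Cfsg.Agent.Lib.Char.Basic.isCharacter_of_isIrrCharacter hφ) (MonoidHom.fst G H)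
  have h2 : IsCharacter (G × H) (fun x => ψ x.2) :=
    Cfsg.Agent.Lib.Char.Basic.isCharacter_comp_hom (Cfsg.Agent.Lib.Char.Basic.isCharacter_of_isIrrCharacter hψ) (MonoidHom.snd G H)
  refine Cfsg.Agent.Lib.Char.Ortho.isIrrCharacter_of_classInner_self_eq_one
    (Cfsg.Agent.Lib.Char.Basic.isCharacter_mul h1 h2) ?_
  have h3 := inner_prod φ φ ψ ψ
  rw [Cfsg.Agent.Lib.Char.Ortho.classInner_irr_self hφ, Cfsg.Agent.Lib.Char.Ortho.classInner_irr_self hψ, mul_one] at h3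
  exact h3

end


/-- The irreducible complex characters of G × H are precisely the functions (g, h) ↦ φ g * ψ h with φ, ψ irreducible characters of G and H. -/
theorem result {G : Type*} [Group G] [Finite G] {H : Type*} [Group H] [Finite H] (θ : G × H → ℂ) : Cfsg.IsIrrCharacter (G × H) θ ↔ ∃ (φ : G → ℂ) (ψ : H → ℂ), Cfsg.IsIrrCharacter G φ ∧ Cfsg.IsIrrCharacter H ψ ∧ θ = fun x => φ x.1 * ψ x.2 := by
  classical
  haveI := Fintype.ofFinite G
  haveI := Fintype.ofFinite H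
  constructor
  swap
  · rintro ⟨φ, ψ, hφ, hψ, rfl⟩
    exact irr_prod hφ hψ
  intro hθ
  -- the map on pairs
  let F : IrrCharacter G × IrrCharacter H → IrrCharacter (G × H) := fun p =>
    ⟨fun x => (p.1 : G → ℂ) x.1 * (p.2 : H → ℂ) x.2, irr_prod p.1.2 p.2.2⟩
  have hFinj : Function.Injective F := by
    rintro ⟨φ, ψ⟩ ⟨φ', ψ'⟩ h
    have h1 : ((F (φ, ψ) : IrrCharacter (G × H)) : G × H → ℂ) = (F (φ', ψ') : IrrCharacter (G × H)) :=
      congrArg Subtype.val h
    have h2 : classInner ((F (φ, ψ) : IrrCharacter (G × H)) : G × H → ℂ) (F (φ', ψ') : IrrCharacter (G × H))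
        = classInner (φ : G → ℂ) φ' * classInner (ψ : H → ℂ) ψ' := inner_prod _ _ _ _
    rw [h1, Cfsg.Agent.Lib.Char.Ortho.classInner_irr_self (F (φ', ψ')).2] at h2
    have h3 : classInner (φ : G → ℂ) φ' ≠ 0 := fun h0 => by
      rw [h0, zero_mul] at h2
      exact one_ne_zero h2
    have h4 : classInner (ψ : H → ℂ) ψ' ≠ 0 := fun h0 => by
      rw [h0, mul_zero] at h2
      exact one_ne_zero h2
    have h5 : (φ : G → ℂ) = φ' := by
      by_contra hne
      exact h3 (Cfsg.Agent.Lib.Char.Ortho.classInner_irr_of_ne φ.2 φ'.2 hne)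
    have h6 : (ψ : H → ℂ) = ψ' := by
      by_contra hne
      exact h4 (Cfsg.Agent.Lib.Char.Ortho.classInner_irr_of_ne ψ.2 ψ'.2 hne)
    exact Prod.ext (Subtype.ext h5) (Subtype.ext h6)
  -- degrees
  choose d₁ hd₁ hd₁' using fun χ : IrrCharacter G => Cfsg.Agent.Lib.Char.Ortho.irr_degree_pos χ.2
  choose d₂ hd₂ hd₂' using fun χ : IrrCharacter H => Cfsg.Agent.Lib.Char.Ortho.irr_degree_pos χ.2
  choose d hd hd' using fun χ : IrrCharacter (G × H) => Cfsg.Agent.Lib.Char.Ortho.irr_degree_pos χ.2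
  have hs₁ : ∑ χ, (d₁ χ) ^ 2 = Nat.card G := by
    have := Cfsg.Agent.Lib.Char.CompleteCor.sum_sq_degrees (G := G)
    simp_rw [hd₁'] at this
    exact_mod_cast this
  have hs₂ : ∑ χ, (d₂ χ) ^ 2 = Nat.card H := by
    have := Cfsg.Agent.Lib.Char.CompleteCor.sum_sq_degrees (G := H)
    simp_rw [hd₂'] at this
    exact_mod_cast this
  have hs : ∑ χ, (d χ) ^ 2 = Nat.card G * Nat.card H := by
    have := Cfsg.Agent.Lib.Char.CompleteCor.sum_sq_degrees (G := G × H)
    simp_rw [hd'] at this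
    rw [Nat.card_prod] at this
    exact_mod_cast this
  have hdF : ∀ p, d (F p) = d₁ p.1 * d₂ p.2 := by
    intro p
    have h1 := hd' (F p)
    have h2 : ((F p : IrrCharacter (G × H)) : G × H → ℂ) 1 = (p.1 : G → ℂ) 1 * (p.2 : H → ℂ) 1 := rfl
    rw [h2, hd₁', hd₂'] at h1
    exact_mod_cast h1.symm
  have himg : ∑ χ ∈ Finset.univ.image F, (d χ) ^ 2 = Nat.card G * Nat.card H := by
    rw [Finset.sum_image (fun a _ b _ h => hFinj h), Fintype.sum_prod_type, ← hs₁, ← hs₂,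
      Finset.sum_mul_sum]
    refine Finset.sum_congr rfl fun a _ => Finset.sum_congr rfl fun b _ => ?_
    rw [hdF, mul_pow]
  have hsurj : ∀ χ : IrrCharacter (G × H), χ ∈ Finset.univ.image F := by
    intro χ
    by_contra hχ
    have h1 : ∑ χ ∈ Finset.univ.image F, (d χ) ^ 2 < ∑ χ, (d χ) ^ 2 :=
      Finset.sum_lt_sum_of_subset (Finset.subset_univ _) (Finset.mem_univ χ) hχ
        (pow_pos (hd χ) 2) (fun _ _ _ => Nat.zero_le _)
    rw [himg, hs] at h1
    exact lt_irrefl _ h1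
  obtain ⟨⟨φ, ψ⟩, -, hp⟩ := Finset.mem_image.1 (hsurj ⟨θ, hθ⟩)
  exact ⟨φ, ψ, φ.2, ψ.2, (congrArg Subtype.val hp).symm⟩

end Cfsg.Agent.S0188
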