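import Cfsg.Statements.S4456
import Cfsg.Agent.Lib.Char.PResChars

set_option autoImplicit false
open Cfsg

namespace Cfsg.Agent.S4456

open Cfsg.Agent.Lib.Char.Basic Cfsg.Agent.Lib.Char.PResChars Cfsg.Agent.Lib.Char.LinearChars
  Cfsg.Agent.Lib.Transfer.Basic

/-- See the statement. -/
theorem result {G : Type*} [Group G] [Finite G] (p : ℕ) (hp : p.Prime) (hdeg : ∀ χ : Cfsg.IrrCharacter G, Cfsg.charDegree (χ : G → ℂ) ≠ 1 → p ∣ Cfsg.charDegree (χ : G → ℂ)) : ∃ N : Subgroup G, N.Normal ∧ (Nat.card N).Coprime p ∧ ∃ k : ℕ, N.index = p ^ k := by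
  classical
  haveI : Fact p.Prime := ⟨hp⟩
  let R := Cfsg.pResidual p G
  letI : Fintype (IrrCharacter R) := Fintype.ofFinite _
  haveI : Finite (R →* ℂˣ) := finite_hom R
  refine ⟨R, inferInstance, ?_, exists_index_eq p⟩
  have h0 := card_modEq_sum_inv R p (exists_index_eq p)
  -- invariant characters of degree prime to `p` are linear
  have hkey : ∀ φ : IrrCharacter R, IsInv R (φ : R → ℂ) → ¬ p ∣ charDegree (φ : R → ℂ) →
      charDegree (φ : R → ℂ) = 1 := by
    intro φ hinv hd
    obtain ⟨χ, -, hχ, hχN, -, -⟩ := exists_ext_of_inv p φ.2 hinv hd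
    by_contra hne
    have h1 : charDegree χ = charDegree (φ : R → ℂ) := by
      unfold charDegree
      have := hχN 1
      rw [OneMemClass.coe_one] at this
      rw [this]
    exact hd (h1 ▸ hdeg ⟨χ, hχ⟩ (by rw [show charDegree χ = charDegree (φ : R → ℂ) from h1]; exact hne))
  let B := Finset.univ.filter (fun φ : IrrCharacter R => IsInv R (φ : R → ℂ) ∧ charDegree (φ : R → ℂ) = 1)
  have h1 : ∑ φ ∈ Finset.univ.filter (fun φ : IrrCharacter R => IsInv R (φ : R → ℂ)),
      (charDegree (φ : R → ℂ)) ^ 2 ≡ B.card [MOD p] := by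
    have h2 : B.card = ∑ φ ∈ Finset.univ.filter (fun φ : IrrCharacter R => IsInv R (φ : R → ℂ)),
        (if charDegree (φ : R → ℂ) = 1 then 1 else 0) := by
      rw [Finset.sum_boole, Finset.filter_filter]
      simp only [Nat.cast_id]
      rfl
    rw [h2]
    refine Nat.ModEq.sum (fun φ hφ => ?_)
    have hinv := (Finset.mem_filter.mp hφ).2
    by_cases hd : charDegree (φ : R → ℂ) = 1
    · rw [if_pos hd, hd]
      rfl
    · rw [if_neg hd]
      have hdvd : p ∣ charDegree (φ : R → ℂ) := by
        by_contra h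
        exact hd (hkey φ hinv h)
      exact (Nat.modEq_zero_iff_dvd).mpr (hdvd.trans (dvd_pow_self _ two_ne_zero))
  have h2 := h0.trans h1
  -- the invariant homomorphisms
  let A : Subgroup (R →* ℂˣ) :=
    { carrier := {l | ∀ (g : G) (n : R), l ⟨g * n * g⁻¹, (inferInstance : R.Normal).conj_mem (n : G) n.2 g⟩ = l n}
      one_mem' := fun g n => rfl
      mul_mem' := fun {a b} ha hb g n => by
        simp only [MonoidHom.mul_apply]
        rw [ha g n, hb g n]
      inv_mem' := fun {a} ha g n => by
        simp only [MonoidHom.inv_apply]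
        rw [ha g n] }
  have hA : ¬ p ∣ Nat.card A := by
    intro hdvd
    obtain ⟨x, hx⟩ := exists_prime_orderOf_dvd_card' p hdvd
    have h3 := coprime_orderOf p x.1
    have h4 : orderOf x.1 = p := by
      rw [← hx]
      exact Subgroup.orderOf_coe x
    rw [h4] at h3
    exact hp.one_lt.ne' (Nat.coprime_self p |>.mp h3)
  have hcard : Nat.card A = B.card := by
    let e : A → {x // x ∈ B} := fun l => ⟨⟨fun n => ((l.1 n : ℂˣ) : ℂ), isIrr_of_hom l.1⟩, by
      simp only [B, Finset.mem_filter, Finset.mem_univ, true_and]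
      refine ⟨fun g n => ?_, ?_⟩
      · exact congrArg (fun u : ℂˣ => (u : ℂ)) (l.2 g n)
      · unfold charDegree
        simp⟩
    have he : Function.Bijective e := by
      constructor
      · intro a b h
        apply Subtype.ext
        ext n
        exact congrFun (congrArg (fun x : {x // x ∈ B} => ((x.1 : IrrCharacter R) : R → ℂ)) h) n
      · rintro ⟨φ, hφ⟩
        obtain ⟨hinv, hd⟩ := (Finset.mem_filter.mp hφ).2
        have hφ1 : (φ : R → ℂ) 1 = 1 := by
          rw [← Cfsg.Agent.Lib.Char.Values.IsCharacter.charDegree_cast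
            (isCharacter_of_isIrrCharacter φ.2), hd]
          simp
        obtain ⟨l, hl⟩ := exists_hom_of_isCharacter_one (isCharacter_of_isIrrCharacter φ.2) hφ1
        refine ⟨⟨l, fun g n => ?_⟩, ?_⟩
        · apply Units.ext
          have := hinv g n
          rw [hl] at this
          exact this
        · apply Subtype.ext
          apply Subtype.ext
          exact hl.symm
    rw [Nat.card_congr (Equiv.ofBijective e he), Nat.card_eq_fintype_card, Fintype.card_coe]
  rw [Nat.coprime_comm, Nat.Prime.coprime_iff_not_dvd hp]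
  intro hdvd
  apply hA
  rw [hcard]
  exact (Nat.ModEq.dvd_iff h2 (dvd_refl p)).mp hdvd

end Cfsg.Agent.S4456
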