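import Cfsg.Statements.S0855
import Cfsg.Agent.S4456
import Cfsg.Agent.Lib.Char.PResChars
import Cfsg.Agent.Lib.Char.AbelianQuot

set_option autoImplicit false
open Cfsg

namespace Cfsg.Agent.S0855

open Cfsg.Agent.Lib.Char.Basic Cfsg.Agent.Lib.Char.LinearChars
  Cfsg.Agent.Lib.Char.CliffordCorr Cfsg.Agent.Lib.Char.Ortho

open scoped commutatorElement

universe u

/-- A group all of whose irreducible characters are linear is commutative. -/
theorem commutative_of_all_linear {K : Type u} [Group K] [Finite K]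
    (h : ∀ χ : IrrCharacter K, (χ : K → ℂ) 1 = 1) (a b : K) : a * b = b * a := by
  classical
  letI : Fintype K := Fintype.ofFinite _
  letI : Fintype (IrrCharacter K) := Fintype.ofFinite _
  have h1 := Cfsg.Agent.Lib.Char.CompleteCor.sum_sq_degrees (G := K)
  rw [Finset.sum_congr rfl (fun χ _ => by rw [h χ, one_pow]), Finset.sum_const, Finset.card_univ,
    nsmul_eq_mul, mul_one] at h1
  have h2 : Fintype.card (IrrCharacter K) = Nat.card K := by exact_mod_cast h1
  have h3 : Nat.card {χ : IrrCharacter K // (χ : K → ℂ) 1 = 1} = Fintype.card (IrrCharacter K) := by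
    rw [Nat.card_eq_fintype_card]
    exact Fintype.card_congr (Equiv.subtypeUnivEquiv h)
  rw [card_linear_chars, h2] at h3
  have h4 := (commutator K).card_mul_index
  rw [h3] at h4
  have h5 : Nat.card (commutator K) = 1 :=
    Nat.eq_of_mul_eq_mul_right Nat.card_pos (by rw [h4, one_mul])
  have h6 : commutator K = ⊥ := (Subgroup.card_eq_one).mp h5
  have h7 : ⁅a, b⁆ ∈ commutator K := by
    rw [commutator_def]
    exact Subgroup.commutator_mem_commutator (Subgroup.mem_top a) (Subgroup.mem_top b)
  rw [h6, Subgroup.mem_bot, commutatorElement_eq_one_iff_mul_comm] at h7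
  exact h7

/-- See the statement. -/
theorem result {G : Type*} [Group G] [Finite G] (p : ℕ) (hp : p.Prime) : (∀ χ : Cfsg.IrrCharacter G, ∃ k : ℕ, (χ : G → ℂ) 1 = (p : ℂ) ^ k) ↔ ∃ A : Subgroup G, A.Normal ∧ (∀ a ∈ A, ∀ b ∈ A, a * b = b * a) ∧ Nat.Coprime (Nat.card A) p ∧ ∃ k : ℕ, A.index = p ^ k := by
  classical
  letI : Fintype G := Fintype.ofFinite _
  constructor
  · intro h
    have hdeg : ∀ χ : IrrCharacter G, charDegree (χ : G → ℂ) ≠ 1 → p ∣ charDegree (χ : G → ℂ) := by
      intro χ hne
      obtain ⟨k, hk⟩ := h χ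
      have h1 : charDegree (χ : G → ℂ) = p ^ k := by
        apply Cfsg.Agent.Lib.Char.Values.IsCharacter.charDegree_eq
          (isCharacter_of_isIrrCharacter χ.2)
        rw [hk]
        simp
      rw [h1] at hne ⊢
      rcases k with _ | k
      · simp at hne
      · exact dvd_pow_self p (Nat.succ_ne_zero k)
    obtain ⟨N, hN, hcop, hk⟩ := Cfsg.Agent.S4456.result p hp hdeg
    refine ⟨N, hN, ?_, hcop, hk⟩
    haveI := hN
    letI : Fintype N := Fintype.ofFinite _
    have hall : ∀ φ : IrrCharacter N, (φ : N → ℂ) 1 = 1 := by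
      intro φ
      have hc := isCharacter_of_isIrrCharacter φ.2
      -- a constituent of the induced character
      have hK : IsCharacter G (indFun N (φ : N → ℂ)) :=
        Cfsg.Agent.Lib.Char.IndRep.isCharacter_indFun N hc
      have hK1 : indFun N (φ : N → ℂ) 1 ≠ 0 := by
        rw [Cfsg.Agent.Lib.Char.Induced.indFun_one]
        have hI : (N.index : ℂ) ≠ 0 := by
          exact_mod_cast (Subgroup.index_ne_zero_of_finite (H := N))
        exact mul_ne_zero hI (irr_apply_one_ne_zero φ.2)
      obtain ⟨χ, hχ, hχc⟩ := exists_irr_constituent hK hK1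
      have hcl := isClassFunction_of_isCharacter (isCharacter_of_isIrrCharacter hχ)
      have hres : classInner (fun n : N => χ n) (φ : N → ℂ) ≠ 0 := by
        rw [Cfsg.Agent.Lib.Char.Induced.frobenius_reciprocity N _ χ hcl] at hχc
        intro h0
        apply hχc
        rw [← classInner_conj_symm, h0]
        simp
      obtain ⟨e, he, -⟩ := Cfsg.Agent.Lib.Char.DegreeDvd.exists_degree_ratio N hχ φ.2 hres
      obtain ⟨k', hk'⟩ := h ⟨χ, hχ⟩
      obtain ⟨d, hdpos, hd⟩ := irr_degree_pos φ.2
      rw [hd] at he ⊢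
      simp only at hk'
      have hnat : e * d = p ^ k' := by
        have : ((e * d : ℕ) : ℂ) = ((p ^ k' : ℕ) : ℂ) := by
          push_cast
          rw [← he, hk']
        exact_mod_cast this
      have hdvd1 : d ∣ p ^ k' := ⟨e, by rw [← hnat, mul_comm]⟩
      have hdvd2 : d ∣ Nat.card N := by
        obtain ⟨m, ρ, hρ, hρc⟩ := φ.2
        haveI := hρ
        have h2 := Cfsg.Agent.Lib.Char.Integrality.finrank_dvd_card ρ
        have h3 : Module.finrank ℂ (Fin m → ℂ) = d := by
          have h4 : (φ : N → ℂ) 1 = (m : ℂ) := by rw [← hρc]; simp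
          rw [h4] at hd
          simp only [Module.finrank_fin_fun]
          exact_mod_cast hd
        rwa [h3] at h2
      have hd1 : d = 1 := by
        have hc2 : Nat.Coprime (p ^ k') (Nat.card N) :=
          Nat.Coprime.pow_left k' hcop.symm
        exact Nat.eq_one_of_dvd_coprimes hc2 hdvd1 hdvd2
      rw [hd1]
      simp
    intro a ha b hb
    have := commutative_of_all_linear hall ⟨a, ha⟩ ⟨b, hb⟩
    exact congrArg Subtype.val this
  · rintro ⟨A, hA, hab, -, k, hk⟩ χ
    haveI := hA
    letI : Fintype A := Fintype.ofFinite _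
    have hres := isCharacter_restrict (isCharacter_of_isIrrCharacter χ.2) A
    have h1 : (fun n : A => (χ : G → ℂ) n) 1 ≠ 0 := by
      simpa using irr_apply_one_ne_zero χ.2
    obtain ⟨φ, hφ, hc⟩ := exists_irr_constituent hres h1
    obtain ⟨e, he, hdvd⟩ := Cfsg.Agent.Lib.Char.DegreeDvd.exists_degree_ratio A χ.2 hφ hc
    rw [hk] at hdvd
    obtain ⟨j, -, rfl⟩ := (Nat.dvd_prime_pow hp).mp hdvd
    have hφ1 : φ 1 = 1 := by
      obtain ⟨m, ρ, hρ, rfl⟩ := hφ
      haveI := hρ
      have hm := Cfsg.Agent.Lib.Char.AbelianQuot.finrank_eq_one_of_commuting ρ (fun x y => by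
        have h2 : x * y = y * x := Subtype.ext (hab x x.2 y y.2)
        rw [← Module.End.mul_eq_comp, ← Module.End.mul_eq_comp, ← map_mul, ← map_mul, h2])
      rw [Representation.char_one, hm]
      simp
    refine ⟨j, ?_⟩
    rw [he, hφ1]
    simp

end Cfsg.Agent.S0855
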