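import Mathlib
import Cfsg.Statements.S0175
import Cfsg.Agent.Lib.Char.Induced
import Cfsg.Agent.Lib.Char.IndRep
import Cfsg.Agent.Lib.Char.Ortho
import Cfsg.Agent.Lib.Char.Basic
import Cfsg.Agent.Lib.Char.Burnside2
import Cfsg.Agent.Lib.Char.CompleteCor
import Cfsg.Agent.Lib.Char.Values
-- import your own Cfsg.Agent.* helpers here

set_option autoImplicit false
open Cfsg

namespace Cfsg.Agent.S0175

open Cfsg.Agent.Lib.Char

universe u
variable {G : Type u} [Group G] [Fintype G]

/-- The value at `x` of the character induced from the trivial character of `H` equals the degree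
only if `x ∈ H`. -/
theorem mem_of_indFun_one_eq (H : Subgroup G) (x : G)
    (h : indFun H (fun _ => (1 : ℂ)) x = indFun H (fun _ => (1 : ℂ)) 1) : x ∈ H := by
  classical
  by_contra hx
  have hH : (Nat.card H : ℂ) ≠ 0 := Induced.natCard_ne_zero_complex
  rw [Induced.indFun_apply, Induced.indFun_apply] at h
  have h1 := mul_left_cancel₀ (inv_ne_zero hH) h
  -- the real parts: each term of the left side is at most one, and the term at `1` is zero
  have hval : ∀ g : G, extendByZero H (fun _ => (1 : ℂ)) g =
      if g ∈ H then (1 : ℂ) else 0 := by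
    intro g
    split_ifs with hg
    · rw [Induced.extendByZero_of_mem H _ hg]
    · rw [Induced.extendByZero_of_notMem H _ hg]
  simp only [hval] at h1
  have hone : ∀ y : G, y⁻¹ * 1 * y ∈ H := by
    intro y; simp [H.one_mem]
  simp only [hone, if_true] at h1
  have h2 : ∑ y : G, (if y⁻¹ * x * y ∈ H then (1 : ℝ) else 0) = ∑ _y : G, (1 : ℝ) := by
    have := congrArg Complex.re h1
    simpa [apply_ite Complex.re] using this
  have hlt : ∑ y : G, (if y⁻¹ * x * y ∈ H then (1 : ℝ) else 0) < ∑ _y : G, (1 : ℝ) := by
    refine Finset.sum_lt_sum (fun y _ => ?_) ⟨1, Finset.mem_univ _, ?_⟩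
    · split_ifs <;> norm_num
    · have : (1 : G)⁻¹ * x * 1 ∉ H := by simpa using hx
      rw [if_neg this]; norm_num
  exact absurd h2 hlt.ne

/-- Taketa's induction: the `i`-th derived subgroup lies in the kernel of every irreducible
character of degree at most `d`. -/
theorem exists_derived_le
    (hM : ∀ χ : G → ℂ, Cfsg.IsIrrCharacter G χ → ∃ (H : Subgroup G) (lam : H →* ℂˣ),
      χ = Cfsg.indFun H (fun h => (lam h : ℂ))) (d : ℕ) :
    ∃ i : ℕ, ∀ χ : IrrCharacter G, ∀ k : ℕ, (χ : G → ℂ) 1 = (k : ℂ) → k ≤ d →
      ∀ x ∈ derivedSeries G i, (χ : G → ℂ) x = (χ : G → ℂ) 1 := by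
  classical
  induction d with
  | zero =>
    refine ⟨0, fun χ k hk hk0 x _ => ?_⟩
    exfalso
    obtain ⟨n, ρ, hρ, hρc⟩ := χ.2
    have : k = 0 := by omega
    subst this
    have hn : n = 0 := by
      have h1 : ρ.character 1 = 0 := by rw [hρc]; simpa using hk
      rw [Representation.char_one] at h1
      simpa using h1
    subst hn
    have hnt := Cfsg.Agent.Lib.Char.Integrality.nontrivial_of_isIrreducible ρ
    exact not_subsingleton (Fin 0 → ℂ) inferInstance
  | succ d ih =>
    obtain ⟨i, hi⟩ := ih
    refine ⟨i + 1, fun χ k hk hkd x hx => ?_⟩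
    have hxi : x ∈ derivedSeries G i := derivedSeries_antitone G (Nat.le_succ i) hx
    rcases Nat.lt_or_ge d k with hlt | hge
    swap
    · exact hi χ k hk hge x hxi
    have hkeq : k = d + 1 := by omega
    obtain ⟨H, lam, hχH⟩ := hM χ χ.2
    -- the degree is the index
    have hdeg : (χ : G → ℂ) 1 = (H.index : ℂ) := by
      rw [hχH, Induced.indFun_one]
      simp
    have hidx : H.index = d + 1 := by
      have : (H.index : ℂ) = (k : ℂ) := by rw [← hdeg, hk]
      rw [hkeq] at this
      exact_mod_cast this
    -- the permutation character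
    set π : G → ℂ := indFun H (fun _ => (1 : ℂ)) with hπ
    have hπchar : IsCharacter G π :=
      IndRep.isCharacter_indFun H (Basic.isCharacter_one (G := H))
    obtain ⟨m, hm⟩ := Ortho.exists_nat_decomp hπchar
    let one : IrrCharacter G := ⟨fun _ => 1, Burnside2.isIrrCharacter_one⟩
    -- degrees of irreducibles
    choose deg hdegeq using fun ψ : IrrCharacter G =>
      Values.IsCharacter.exists_one_eq (Values.IsIrrCharacter.isCharacter ψ.2)
    have hdeg1 : deg one = 1 := by
      have h := hdegeq one
      have h2 : (one : G → ℂ) 1 = 1 := rfl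
      rw [h2] at h
      exact_mod_cast h.symm
    -- multiplicity of the trivial character is one
    have hm1 : m one = 1 := by
      have h1 : classInner π (one : G → ℂ) = 1 := by
        rw [hπ, Induced.frobenius_reciprocity H _ _ (fun _ _ => rfl)]
        rw [Induced.classInner_def]
        have h3 : ∀ h : H, (fun _ : H => (1 : ℂ)) h *
            (starRingEnd ℂ) ((one : G → ℂ) (h : G)) = 1 := by
          intro h; simp [one]
        rw [Finset.sum_congr rfl (fun h _ => h3 h)]
        simp only [Finset.sum_const, Finset.card_univ, nsmul_eq_mul, mul_one,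
          ← Nat.card_eq_fintype_card]
        exact inv_mul_cancel₀ Induced.natCard_ne_zero_complex
      have h2 : classInner π (one : G → ℂ) = (m one : ℂ) := by
        rw [hm]
        have := Ortho.classInner_sum_irr (fun χ => (m χ : ℂ)) one
        simpa only [Nat.cast_smul_eq_nsmul] using this
      rw [h1] at h2
      exact_mod_cast h2.symm
    -- the total degree
    have htot : ∑ ψ : IrrCharacter G, m ψ * deg ψ = d + 1 := by
      have h1 : π 1 = (H.index : ℂ) := by
        rw [hπ, Induced.indFun_one]; simp
      rw [hm] at h1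
      simp only [Finset.sum_apply, Pi.smul_apply] at h1
      simp only [hdegeq, nsmul_eq_mul] at h1
      rw [hidx] at h1
      exact_mod_cast h1
    -- nontrivial constituents have degree at most `d`
    have hsmall : ∀ ψ : IrrCharacter G, ψ ≠ one → m ψ ≠ 0 → deg ψ ≤ d := by
      intro ψ hψ hmψ
      have h1 : m one * deg one + m ψ * deg ψ ≤ ∑ ψ : IrrCharacter G, m ψ * deg ψ := by
        rw [← Finset.add_sum_erase _ _ (Finset.mem_univ one)]
        refine Nat.add_le_add_left ?_ _
        exact Finset.single_le_sum (f := fun ψ => m ψ * deg ψ) (fun _ _ => Nat.zero_le _)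
          (Finset.mem_erase.2 ⟨hψ, Finset.mem_univ _⟩)
      rw [hm1, hdeg1, htot] at h1
      have h2 : deg ψ ≤ m ψ * deg ψ := Nat.le_mul_of_pos_left _ (Nat.pos_of_ne_zero hmψ)
      omega
    -- hence `derivedSeries i ≤ H`
    have hDH : derivedSeries G i ≤ H := by
      intro y hy
      apply mem_of_indFun_one_eq H y
      show π y = π 1
      rw [hm]
      simp only [Finset.sum_apply, Pi.smul_apply]
      refine Finset.sum_congr rfl fun ψ _ => ?_
      by_cases hψ : ψ = one
      · subst hψ; rfl
      by_cases hmψ : m ψ = 0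
      · simp [hmψ]
      · rw [hi ψ (deg ψ) (hdegeq ψ) (hsmall ψ hψ hmψ) y hy]
    -- `lam` is trivial on the next term
    have hlam : ∀ y (hy : y ∈ derivedSeries G (i + 1)), (lam ⟨y, hDH (derivedSeries_antitone G
        (Nat.le_succ i) hy)⟩ : ℂˣ) = 1 := by
      have hle : derivedSeries G (i + 1) ≤ (lam.ker).map H.subtype := by
        rw [derivedSeries_succ, Subgroup.commutator_le]
        intro a ha b hb
        refine ⟨(⟨a, hDH ha⟩ : H) * (⟨b, hDH hb⟩ : H) * (⟨a, hDH ha⟩ : H)⁻¹ * (⟨b, hDH hb⟩ : H)⁻¹,
          ?_, rfl⟩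
        rw [SetLike.mem_coe, MonoidHom.mem_ker, map_mul, map_mul, map_mul, map_inv, map_inv]
        generalize lam (⟨a, hDH ha⟩ : H) = u
        generalize lam (⟨b, hDH hb⟩ : H) = v
        rw [mul_comm u v]; group
      intro y hy
      obtain ⟨z, hz, rfl⟩ := hle hy
      exact hz
    -- so the value at `x` is the degree
    have hnorm : (derivedSeries G (i + 1)).Normal := derivedSeries_normal G (i + 1)
    rw [hχH, Induced.indFun_apply, Induced.indFun_apply]
    congr 1
    refine Finset.sum_congr rfl fun y _ => ?_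
    have hy : y⁻¹ * x * y ∈ derivedSeries G (i + 1) := by
      have := hnorm.conj_mem x hx y⁻¹
      simpa using this
    have hy1 : y⁻¹ * 1 * y ∈ H := by simp [H.one_mem]
    rw [Induced.extendByZero_of_mem H _ (hDH (derivedSeries_antitone G (Nat.le_succ i) hy)),
      Induced.extendByZero_of_mem H _ hy1]
    have hlam1 : (lam ⟨y⁻¹ * 1 * y, hy1⟩ : ℂˣ) = 1 := by
      have : (⟨y⁻¹ * 1 * y, hy1⟩ : H) = 1 := Subtype.ext (by simp)
      rw [this, map_one]
    simp only [hlam _ hy, hlam1]

/-- Taketa's Theorem on M-groups: if every irreducible complex character of a finite group is induced from a linear character (a homomorphism to ℂˣ) of some subgroup, the group is solvable. -/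
theorem result {G : Type*} [Group G] [Fintype G] (hM : ∀ χ : G → ℂ, Cfsg.IsIrrCharacter G χ → ∃ (H : Subgroup G) (lam : H →* ℂˣ), χ = Cfsg.indFun H (fun h => (lam h : ℂ))) : Group.IsSolvable G := by
  classical
  have := Fintype.ofFinite (IrrCharacter G)
  choose deg hdegeq using fun ψ : IrrCharacter G =>
    Values.IsCharacter.exists_one_eq (Values.IsIrrCharacter.isCharacter ψ.2)
  obtain ⟨d, hd⟩ := Finite.exists_le deg
  obtain ⟨i, hi⟩ := exists_derived_le hM d
  rw [Group.isSolvable_def]
  refine ⟨i, (Subgroup.eq_bot_iff_forall _).2 fun x hx => ?_⟩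
  have hconj : IsConj x 1 :=
    CompleteCor.isConj_of_forall_irr fun χ => hi χ (deg χ) (hdegeq χ) (hd χ) x hx
  exact isConj_one_right.1 hconj.symm

end Cfsg.Agent.S0175
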