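import Cfsg.Statements.S4458
import Mathlib
import Cfsg.Agent.S4456
import Cfsg.Agent.S0175
import Cfsg.Agent.Lib.Char.Monomial
import Cfsg.Agent.Lib.Char.CompleteCor
import Cfsg.Agent.Lib.Char.CliffordCorr
import Cfsg.Agent.Lib.Char.Codegree
import Cfsg.Agent.Lib.Char.LinearChars

set_option autoImplicit false
open Cfsg

namespace Cfsg.Agent.S4458

open Cfsg.Agent.Lib.Char

universe u

section Aux

variable {G : Type u} [Group G] [Fintype G]

/-- If all irreducible degrees are `1` or `m`, a subgroup of index at most `m` contains `G'`. -/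
theorem commutator_le_of_index_le {m : ℕ}
    (hcd : ∀ χ : IrrCharacter G, charDegree (χ : G → ℂ) = 1 ∨ charDegree (χ : G → ℂ) = m)
    (T : Subgroup G) (hT : T.index ≤ m) : commutator G ≤ T := by
  classical
  intro x hx
  apply Cfsg.Agent.S0175.mem_of_indFun_one_eq
  set π : G → ℂ := indFun T (fun _ => (1 : ℂ)) with hπ
  have hπchar : IsCharacter G π :=
    IndRep.isCharacter_indFun T (Basic.isCharacter_one (G := T))
  obtain ⟨e, he⟩ := Ortho.exists_nat_decomp hπchar
  let one : IrrCharacter G := ⟨fun _ => 1, Burnside2.isIrrCharacter_one⟩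
  have hdeg : ∀ ψ : IrrCharacter G, ((charDegree (ψ : G → ℂ) : ℕ) : ℂ) = (ψ : G → ℂ) 1 := fun ψ =>
    Values.IsCharacter.charDegree_cast (Values.IsIrrCharacter.isCharacter ψ.2)
  have hdeg1 : charDegree (one : G → ℂ) = 1 := by
    have h := hdeg one
    have h2 : (one : G → ℂ) 1 = 1 := rfl
    rw [h2] at h
    exact_mod_cast h
  have he1 : e one = 1 := by
    have h1 : classInner π (one : G → ℂ) = 1 := by
      rw [hπ, Induced.frobenius_reciprocity T _ _ (fun _ _ => rfl)]
      rw [Induced.classInner_def]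
      have h3 : ∀ h : T, (fun _ : T => (1 : ℂ)) h *
          (starRingEnd ℂ) ((one : G → ℂ) (h : G)) = 1 := by
        intro h; simp [one]
      rw [Finset.sum_congr rfl (fun h _ => h3 h)]
      simp only [Finset.sum_const, Finset.card_univ, nsmul_eq_mul, mul_one]
      rw [← Nat.card_eq_fintype_card]
      exact inv_mul_cancel₀ Induced.natCard_ne_zero_complex
    have h2 := Ortho.classInner_sum_irr (G := G) (fun ψ => (e ψ : ℂ)) one
    have h3 : classInner π (one : G → ℂ) = (e one : ℂ) := by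
      rw [← h2]
      congr 1
      rw [he]
      exact Finset.sum_congr rfl (fun ψ _ => by rw [Nat.cast_smul_eq_nsmul])
    rw [h1] at h3
    exact_mod_cast h3.symm
  -- the degree formula
  have hsum : (T.index : ℕ) = ∑ ψ, e ψ * charDegree (ψ : G → ℂ) := by
    have h1 := congrFun he 1
    rw [hπ, Induced.indFun_one] at h1
    simp only [Finset.sum_apply, Pi.smul_apply, nsmul_eq_mul, mul_one] at h1
    have h2 : ((T.index : ℕ) : ℂ) = ((∑ ψ, e ψ * charDegree (ψ : G → ℂ) : ℕ) : ℂ) := by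
      rw [h1]
      push_cast
      exact Finset.sum_congr rfl (fun ψ _ => by rw [hdeg]; simp)
    exact_mod_cast h2
  -- constituents are linear
  have hlin : ∀ ψ : IrrCharacter G, e ψ ≠ 0 → charDegree (ψ : G → ℂ) = 1 := by
    intro ψ hψ
    by_cases hψ1 : ψ = one
    · rw [hψ1, hdeg1]
    rcases hcd ψ with h | h
    · exact h
    exfalso
    have h1 : e one * charDegree (one : G → ℂ) + e ψ * charDegree (ψ : G → ℂ)
        ≤ ∑ ψ, e ψ * charDegree (ψ : G → ℂ) := by
      have := Finset.add_le_sum (s := Finset.univ) (i := one) (j := ψ)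
        (f := fun ψ => e ψ * charDegree (ψ : G → ℂ)) (fun _ _ => Nat.zero_le _)
        (Finset.mem_univ _) (Finset.mem_univ _) (Ne.symm hψ1)
      exact this
    rw [he1, hdeg1, h, ← hsum] at h1
    have h2 : 1 * m ≤ e ψ * m := Nat.mul_le_mul_right m (Nat.one_le_iff_ne_zero.mpr hψ)
    omega
  have hval : ∀ ψ : IrrCharacter G, e ψ ≠ 0 → (ψ : G → ℂ) x = (ψ : G → ℂ) 1 := by
    intro ψ hψ
    have h1 : (ψ : G → ℂ) 1 = 1 := by
      rw [← hdeg, hlin ψ hψ]
      simp
    obtain ⟨φ, hφ⟩ := LinearChars.exists_hom_of_isCharacter_one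
      (Values.IsIrrCharacter.isCharacter ψ.2) h1
    have hker : x ∈ φ.ker := Abelianization.commutator_subset_ker φ hx
    rw [h1, hφ]
    simp only
    rw [MonoidHom.mem_ker.mp hker]
    simp
  rw [he]
  simp only [Finset.sum_apply, Pi.smul_apply]
  refine Finset.sum_congr rfl fun ψ _ => ?_
  by_cases hψ : e ψ = 0
  · simp [hψ]
  · rw [hval ψ hψ]

/-- If all irreducible characters are monomial with degrees `1` or `m` then `G'` is abelian. -/
theorem commutator_comm_of_monomial {m : ℕ}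
    (hcd : ∀ χ : IrrCharacter G, charDegree (χ : G → ℂ) = 1 ∨ charDegree (χ : G → ℂ) = m)
    (hM : ∀ χ : G → ℂ, IsIrrCharacter G χ → ∃ (H : Subgroup G) (lam : H →* ℂˣ),
      χ = indFun H (fun h => ((lam h : ℂˣ) : ℂ)))
    {a b : G} (ha : a ∈ commutator G) (hb : b ∈ commutator G) : a * b = b * a := by
  classical
  have hnorm : (commutator G).Normal := inferInstance
  have hdeg : ∀ ψ : IrrCharacter G, ((charDegree (ψ : G → ℂ) : ℕ) : ℂ) = (ψ : G → ℂ) 1 := fun ψ =>
    Values.IsCharacter.charDegree_cast (Values.IsIrrCharacter.isCharacter ψ.2)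
  have hval : ∀ χ : IrrCharacter G, (χ : G → ℂ) (a * b * a⁻¹ * b⁻¹) = (χ : G → ℂ) 1 := by
    intro χ
    obtain ⟨H, lam, hχH⟩ := hM χ χ.2
    have hχ1 : ((charDegree (χ : G → ℂ) : ℕ) : ℂ) = (H.index : ℂ) := by
      rw [hdeg, hχH, Induced.indFun_one]
      simp
    have hidx : H.index = charDegree (χ : G → ℂ) := by exact_mod_cast hχ1.symm
    have hH : H.index ≤ m ∨ H.index = 1 := by
      rcases hcd χ with h | h
      · right; rw [hidx, h]
      · left; rw [hidx, h]
    have hle : commutator G ≤ H := by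
      rcases hH with h | h
      · exact commutator_le_of_index_le hcd H h
      · rw [Subgroup.index_eq_one.mp h]
        exact le_top
    rw [hχH, Induced.indFun_apply, Induced.indFun_apply]
    congr 1
    refine Finset.sum_congr rfl fun y _ => ?_
    have hamem : y⁻¹ * a * y ∈ H := hle (by simpa using hnorm.conj_mem a ha y⁻¹)
    have hbmem : y⁻¹ * b * y ∈ H := hle (by simpa using hnorm.conj_mem b hb y⁻¹)
    have h1mem : y⁻¹ * 1 * y ∈ H := by simp [H.one_mem]
    have heq : y⁻¹ * (a * b * a⁻¹ * b⁻¹) * y = (y⁻¹ * a * y) * (y⁻¹ * b * y) * (y⁻¹ * a * y)⁻¹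
        * (y⁻¹ * b * y)⁻¹ := by group
    have hcmem : y⁻¹ * (a * b * a⁻¹ * b⁻¹) * y ∈ H := by
      rw [heq]
      exact H.mul_mem (H.mul_mem (H.mul_mem hamem hbmem) (H.inv_mem hamem)) (H.inv_mem hbmem)
    rw [Induced.extendByZero_of_mem H _ hcmem, Induced.extendByZero_of_mem H _ h1mem]
    have h2 : (⟨y⁻¹ * 1 * y, h1mem⟩ : H) = 1 := Subtype.ext (by simp)
    have h3 : (⟨y⁻¹ * (a * b * a⁻¹ * b⁻¹) * y, hcmem⟩ : H)
        = (⟨_, hamem⟩ : H) * ⟨_, hbmem⟩ * (⟨_, hamem⟩ : H)⁻¹ * (⟨_, hbmem⟩ : H)⁻¹ :=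
      Subtype.ext heq
    rw [h2, h3, map_mul, map_mul, map_mul, map_inv, map_inv, map_one, mul_comm (lam _) (lam _)]
    simp
  have h1 := (CompleteCor.isConj_of_forall_irr hval).symm
  rw [isConj_one_right] at h1
  have h2 : a * b * a⁻¹ = b := by
    rwa [mul_inv_eq_one] at h1
  rw [mul_inv_eq_iff_eq_mul] at h2
  exact h2

/-- An irreducible character of a normal subgroup lies under an irreducible character of `G`. -/
theorem exists_over (N : Subgroup G) [hN : N.Normal] [Fintype N] {θ : N → ℂ}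
    (hθ : IsIrrCharacter N θ) : ∃ (χ : IrrCharacter G) (e : ℕ), e ≠ 0 ∧
      (χ : G → ℂ) 1 = (e : ℂ) * ((Monomial.inertiaOf N θ).index * θ 1) := by
  classical
  have hind := IndRep.isCharacter_indFun N (Values.IsIrrCharacter.isCharacter hθ)
  have h1 : indFun N θ 1 ≠ 0 := by
    rw [Induced.indFun_one]
    refine mul_ne_zero ?_ (Ortho.irr_apply_one_ne_zero hθ)
    exact_mod_cast Subgroup.index_ne_zero_of_finite
  obtain ⟨χ, hχ, hne⟩ := CliffordCorr.exists_irr_constituent hind h1
  have hχc := Values.IsIrrCharacter.isCharacter hχ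
  rw [Induced.frobenius_reciprocity N θ χ (Basic.isClassFunction_of_isCharacter hχc)] at hne
  have hne2 : classInner (fun n : N => χ n) θ ≠ 0 := by
    intro h0
    apply hne
    rw [← Ortho.classInner_conj_symm, h0]
    simp
  obtain ⟨e, he⟩ := Ortho.exists_nat_classInner_of_isCharacter (Basic.isCharacter_restrict hχc N)
    (Values.IsIrrCharacter.isCharacter hθ)
  refine ⟨⟨χ, hχ⟩, e, ?_, ?_⟩
  · rintro rfl
    apply hne2
    rw [he]
    simp
  · have := CliffordCorr.apply_one_eq N θ (Monomial.inertiaOf N θ) hθ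
      (fun g => Monomial.mem_inertiaOf N θ g) hχ hne2
    rw [he] at this
    exact this

end Aux

/-- If a finite group has exactly two irreducible character degrees, 1 and m with m ≠ 1, then its commutator subgroup is abelian. -/
theorem result {G : Type*} [Group G] [Finite G] (m : ℕ) (hcd : ∀ χ : Cfsg.IrrCharacter G, Cfsg.charDegree (χ : G → ℂ) = 1 ∨ Cfsg.charDegree (χ : G → ℂ) = m) (hm : ∃ χ : Cfsg.IrrCharacter G, Cfsg.charDegree (χ : G → ℂ) = m) (hm1 : m ≠ 1) : ∀ a ∈ commutator G, ∀ b ∈ commutator G, a * b = b * a := by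
  classical
  haveI := Fintype.ofFinite G
  obtain ⟨χ₀, hχ₀⟩ := hm
  have hmpos : 0 < m := by
    rw [← hχ₀]
    exact Codegree.charDegree_pos χ₀.2
  have hthomp : ∀ p ∈ m.primeFactors, ∃ N : Subgroup G, N.Normal ∧ (Nat.card N).Coprime p ∧
      ∃ k : ℕ, N.index = p ^ k := by
    intro p hp
    refine Cfsg.Agent.S4456.result p (Nat.prime_of_mem_primeFactors hp) (fun χ hχ => ?_)
    rw [(hcd χ).resolve_left hχ]
    exact Nat.dvd_of_mem_primeFactors hp
  choose! L hLn hLc hLi using hthomp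
  let Λ : Subgroup G := ⨅ p ∈ m.primeFactors, L p
  have hmemΛ : ∀ x, x ∈ Λ ↔ ∀ p ∈ m.primeFactors, x ∈ L p := by
    intro x
    simp [Λ, Subgroup.mem_iInf]
  haveI hΛn : Λ.Normal := ⟨fun x hx g => (hmemΛ _).2 fun p hp =>
    (hLn p hp).conj_mem x ((hmemΛ x).1 hx p hp) g⟩
  have hΛc : ∀ p ∈ m.primeFactors, (Nat.card Λ).Coprime p := fun p hp =>
    Nat.Coprime.coprime_dvd_left (Subgroup.card_dvd_of_le (fun x hx => (hmemΛ x).1 hx p hp))
      (hLc p hp)
  have hΛm : (Nat.card Λ).Coprime m := by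
    apply Nat.coprime_of_dvd
    intro k hk h1 h2
    exact (Nat.Prime.coprime_iff_not_dvd hk).1
      (hΛc k (Nat.mem_primeFactors.2 ⟨hk, h2, hmpos.ne'⟩)).symm h1
  haveI : Fintype Λ := Fintype.ofFinite _
  have hdegG : ∀ ψ : IrrCharacter G, ((charDegree (ψ : G → ℂ) : ℕ) : ℂ) = (ψ : G → ℂ) 1 := fun ψ =>
    Values.IsCharacter.charDegree_cast (Values.IsIrrCharacter.isCharacter ψ.2)
  -- the characters of `Λ` are linear
  have hlin : ∀ θ : Λ → ℂ, IsIrrCharacter Λ θ → θ 1 = 1 := by
    intro θ hθ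
    obtain ⟨χ, e, -, hχe⟩ := exists_over Λ hθ
    obtain ⟨d, hd0, hd⟩ := Ortho.irr_degree_pos hθ
    have hdvd : d ∣ Nat.card Λ := by
      obtain ⟨n, ρ, hρ, rfl⟩ := hθ
      haveI := hρ
      have h1 := Integrality.finrank_dvd_card ρ
      rw [Representation.char_one] at hd
      have h2 : Module.finrank ℂ (Fin n → ℂ) = d := by exact_mod_cast hd
      rwa [h2] at h1
    have hnat : charDegree (χ : G → ℂ) = e * ((Monomial.inertiaOf Λ θ).index * d) := by
      have : ((charDegree (χ : G → ℂ) : ℕ) : ℂ)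
          = ((e * ((Monomial.inertiaOf Λ θ).index * d) : ℕ) : ℂ) := by
        rw [hdegG, hχe, hd]
        push_cast
        ring
      exact_mod_cast this
    have hdχ : d ∣ charDegree (χ : G → ℂ) := by
      rw [hnat]
      exact ⟨e * (Monomial.inertiaOf Λ θ).index, by ring⟩
    have hd1 : d = 1 := by
      rcases hcd χ with h | h
      · rw [h] at hdχ
        exact Nat.dvd_one.mp hdχ
      · rw [h] at hdχ
        exact Nat.eq_one_of_dvd_coprimes hΛm hdvd hdχ
    rw [hd, hd1]
    simp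
  -- `Λ` is abelian
  have hΛcomm : ∀ x y : Λ, x * y = y * x := by
    intro x y
    have hval : ∀ θ : IrrCharacter Λ, (θ : Λ → ℂ) (x * y * x⁻¹ * y⁻¹) = (θ : Λ → ℂ) 1 := by
      intro θ
      obtain ⟨φ, hφ⟩ := LinearChars.exists_hom_of_isCharacter_one
        (Values.IsIrrCharacter.isCharacter θ.2) (hlin θ θ.2)
      rw [hφ]
      simp only [map_mul, map_inv, map_one]
      rw [mul_comm (φ x) (φ y)]
      simp
    have h1 := (CompleteCor.isConj_of_forall_irr hval).symm
    rw [isConj_one_right, mul_inv_eq_one, mul_inv_eq_iff_eq_mul] at h1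
    exact h1
  -- `G'` centralizes `Λ`
  have hcent : ∀ g ∈ commutator G, ∀ x ∈ Λ, g * x * g⁻¹ = x := by
    intro g hg x hx
    have hval : ∀ θ : IrrCharacter Λ, (θ : Λ → ℂ) ⟨g * x * g⁻¹, hΛn.conj_mem x hx g⟩
        = (θ : Λ → ℂ) ⟨x, hx⟩ := by
      intro θ
      obtain ⟨χ, e, he0, hχe⟩ := exists_over Λ θ.2
      rw [hlin θ θ.2, mul_one] at hχe
      have hnat : charDegree (χ : G → ℂ) = e * (Monomial.inertiaOf Λ (θ : Λ → ℂ)).index := by
        have : ((charDegree (χ : G → ℂ) : ℕ) : ℂ)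
            = ((e * (Monomial.inertiaOf Λ (θ : Λ → ℂ)).index : ℕ) : ℂ) := by
          rw [hdegG, hχe]
          push_cast
          ring
        exact_mod_cast this
      have hle1 : (Monomial.inertiaOf Λ (θ : Λ → ℂ)).index ≤ charDegree (χ : G → ℂ) := by
        rw [hnat]
        exact Nat.le_mul_of_pos_left _ (Nat.pos_of_ne_zero he0)
      have hle2 : (Monomial.inertiaOf Λ (θ : Λ → ℂ)).index ≤ m := by
        rcases hcd χ with h | h
        · rw [h] at hle1
          omega
        · rwa [h] at hle1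
      have hgT := commutator_le_of_index_le hcd _ hle2 hg
      exact (Monomial.mem_inertiaOf Λ (θ : Λ → ℂ) g).mp hgT ⟨x, hx⟩
    obtain ⟨c, hc⟩ := isConj_iff.mp (CompleteCor.isConj_of_forall_irr hval)
    have h1 : c * (⟨g * x * g⁻¹, hΛn.conj_mem x hx g⟩ : Λ) * c⁻¹ = ⟨g * x * g⁻¹, hΛn.conj_mem x hx g⟩ := by
      rw [hΛcomm c, mul_inv_cancel_right]
    rw [h1] at hc
    exact congrArg Subtype.val hc
  -- `G''` lies in `Λ`
  have hcL : ∀ a ∈ commutator G, ∀ b ∈ commutator G, a * b * a⁻¹ * b⁻¹ ∈ Λ := by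
    intro a ha b hb
    rw [hmemΛ]
    intro p hp
    haveI := hLn p hp
    have hpp : p.Prime := Nat.prime_of_mem_primeFactors hp
    haveI := Fact.mk hpp
    obtain ⟨k, hk⟩ := hLi p hp
    haveI : Fintype (G ⧸ L p) := Fintype.ofFinite _
    have hQ : IsPGroup p (G ⧸ L p) := IsPGroup.of_card (n := k) (by rw [← hk]; rfl)
    haveI : Group.IsNilpotent (G ⧸ L p) := hQ.isNilpotent
    have hcdQ : ∀ χ : IrrCharacter (G ⧸ L p),
        charDegree (χ : G ⧸ L p → ℂ) = 1 ∨ charDegree (χ : G ⧸ L p → ℂ) = m := by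
      intro χ
      have h1 : IsIrrCharacter G (fun g => (χ : G ⧸ L p → ℂ) (QuotientGroup.mk' (L p) g)) :=
        Basic.isIrrCharacter_comp_surjective χ.2 (QuotientGroup.mk' (L p))
          (QuotientGroup.mk'_surjective _)
      have h2 := hcd ⟨_, h1⟩
      have h3 : charDegree (fun g => (χ : G ⧸ L p → ℂ) (QuotientGroup.mk' (L p) g))
          = charDegree (χ : G ⧸ L p → ℂ) := by
        unfold charDegree
        simp
      simpa only [h3] using h2
    have hmap : ∀ x ∈ commutator G, QuotientGroup.mk' (L p) x ∈ commutator (G ⧸ L p) := by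
      intro x hx
      have h1 := Subgroup.map_commutator (⊤ : Subgroup G) ⊤ (QuotientGroup.mk' (L p))
      have h2 : (⊤ : Subgroup G).map (QuotientGroup.mk' (L p)) = ⊤ :=
        Subgroup.map_top_of_surjective _ (QuotientGroup.mk'_surjective _)
      rw [h2] at h1
      show _ ∈ ⁅(⊤ : Subgroup (G ⧸ L p)), ⊤⁆
      rw [← h1]
      exact ⟨x, hx, rfl⟩
    have h4 := commutator_comm_of_monomial hcdQ
      (fun χ hχ => Monomial.exists_monomial_of_nilpotent _ (G ⧸ L p) rfl χ hχ)
      (hmap a ha) (hmap b hb)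
    have h5 : ((a * b * a⁻¹ * b⁻¹ : G) : G ⧸ L p) = 1 := by
      have h6 : (a : G ⧸ L p) * (b : G ⧸ L p) = (b : G ⧸ L p) * (a : G ⧸ L p) := h4
      rw [QuotientGroup.mk_mul, QuotientGroup.mk_mul, QuotientGroup.mk_mul, QuotientGroup.mk_inv,
        QuotientGroup.mk_inv, h6]
      group
    exact (QuotientGroup.eq_one_iff _).mp h5
  -- conclusion
  intro a ha b hb
  have hcΛ := hcL a ha b hb
  obtain ⟨c, hc⟩ : ∃ c, c = a * b * a⁻¹ * b⁻¹ := ⟨_, rfl⟩
  rw [← hc] at hcΛ
  have hca : a * c = c * a := by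
    have := hcent a ha c hcΛ
    rwa [mul_inv_eq_iff_eq_mul] at this
  have hab : a * b = c * b * a := by
    rw [hc]
    group
  have hpow : ∀ k : ℕ, a ^ k * b = c ^ k * b * a ^ k := by
    intro k
    induction k with
    | zero => simp
    | succ k ih =>
      have h1 : Commute a (c ^ k) := (show Commute a c from hca).pow_right k
      calc a ^ (k + 1) * b = a * (a ^ k * b) := by rw [pow_succ']; group
        _ = a * (c ^ k * b * a ^ k) := by rw [ih]
        _ = c ^ k * (a * b) * a ^ k := by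
          rw [← mul_assoc, ← mul_assoc, h1.eq]
          group
        _ = c ^ (k + 1) * b * a ^ (k + 1) := by
          rw [hab, pow_succ, pow_succ']
          group
  -- the exponent
  have hnmem : a ^ (∏ p ∈ m.primeFactors, (L p).index) ∈ Λ := by
    rw [hmemΛ]
    intro p hp
    haveI := hLn p hp
    obtain ⟨t, ht⟩ := Finset.dvd_prod_of_mem (fun p => (L p).index) hp
    rw [ht, pow_mul]
    exact (L p).pow_mem (Subgroup.pow_index_mem (L p) a) t
  have hcn : c ^ (∏ p ∈ m.primeFactors, (L p).index) = 1 := by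
    have h1 := hpow (∏ p ∈ m.primeFactors, (L p).index)
    have h2 := hcent b hb _ hnmem
    rw [mul_inv_eq_iff_eq_mul] at h2
    rw [← h2] at h1
    have h4 := mul_right_cancel h1
    simpa using h4.symm
  have hcop : Nat.Coprime (∏ p ∈ m.primeFactors, (L p).index) (Nat.card Λ) := by
    apply Nat.Coprime.prod_left
    intro p hp
    obtain ⟨k, hk⟩ := hLi p hp
    rw [hk]
    exact Nat.Coprime.pow_left k (hΛc p hp).symm
  have hcL1 : c ^ Nat.card Λ = 1 := by
    have := pow_card_eq_one' (x := (⟨c, hcΛ⟩ : Λ))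
    exact congrArg Subtype.val this
  have hc1 : c = 1 := by
    have h1 := orderOf_dvd_of_pow_eq_one hcn
    have h2 := orderOf_dvd_of_pow_eq_one hcL1
    have h3 := Nat.eq_one_of_dvd_coprimes hcop h1 h2
    exact orderOf_eq_one_iff.mp h3
  rw [hab, hc1, one_mul]

end Cfsg.Agent.S4458
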