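import Cfsg.Statements.S4035
import Mathlib
import Cfsg.Agent.Lib.Basic.JordanCover
import Cfsg.Agent.Lib.Basic.ConjCount
-- import your own Cfsg.Agent.* helpers here

set_option autoImplicit false
open Cfsg

namespace Cfsg.Agent.S4035

/-- A subgroup of index prime to `p` contains a conjugate of any Sylow `p`-subgroup. -/
theorem exists_conj_sylow_le {G : Type*} [Group G] [Finite G] {p : ℕ} [Fact p.Prime] (P : Sylow p G)
    (H : Subgroup G) (hH : ¬ p ∣ H.index) : ∃ g : G, ((g • P : Sylow p G) : Subgroup G) ≤ H := by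
  obtain ⟨Q⟩ : Nonempty (Sylow p H) := inferInstance
  set R : Subgroup G := (Q : Subgroup H).map H.subtype with hR
  have hRp : IsPGroup p R := Q.isPGroup'.map _
  have hRidx : ¬ p ∣ R.index := by
    have h1 : R.index = (Q : Subgroup H).index * H.index := by
      rw [hR, Subgroup.index_map_subtype]
    rw [h1]
    intro h2
    rcases (Nat.Prime.dvd_mul Fact.out).mp h2 with h3 | h3
    · exact Q.not_dvd_index h3
    · exact hH h3
  set R' : Sylow p G := hRp.toSylow hRidx with hR'
  obtain ⟨g, hg⟩ := MulAction.exists_smul_eq G P R'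
  refine ⟨g, ?_⟩
  rw [hg, hR', IsPGroup.toSylow_coe, hR]
  exact Subgroup.map_subtype_le _

/-- Decomposition of an element into commuting `p`- and `p'`-parts. -/
theorem exists_parts {G : Type*} [Group G] [Finite G] (p : ℕ) [Fact p.Prime] (g : G) :
    ∃ y z : G, g = y * z ∧ y * z = z * y ∧ (orderOf y).Coprime p ∧ ∃ a : ℕ, z ^ (p ^ a) = 1 := by
  have hn : orderOf g ≠ 0 := (orderOf_pos g).ne'
  obtain ⟨a, m, hm, hgm⟩ := Nat.exists_eq_pow_mul_and_not_dvd hn p (Nat.Prime.ne_one Fact.out)
  have hcop : Nat.Coprime (p ^ a) m :=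
    Nat.Coprime.pow_left a ((Nat.Prime.coprime_iff_not_dvd Fact.out).mpr hm)
  obtain ⟨u, v, huv⟩ := Nat.isCoprime_iff_coprime.mpr hcop
  have hone : g ^ ((p ^ a * m : ℕ) : ℤ) = 1 := by
    rw [zpow_natCast, ← hgm]; exact pow_orderOf_eq_one g
  refine ⟨g ^ (u * (p ^ a : ℕ)), g ^ (v * (m : ℤ)), ?_, ?_, ?_, a, ?_⟩
  · rw [← zpow_add, huv, zpow_one]
  · rw [← zpow_add, ← zpow_add, add_comm]
  · have h1 : (g ^ (u * (p ^ a : ℕ))) ^ m = 1 := by
      rw [← zpow_natCast, ← zpow_mul]
      have : u * ((p ^ a : ℕ) : ℤ) * (m : ℤ) = ((p ^ a * m : ℕ) : ℤ) * u := by push_cast; ring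
      rw [this, zpow_mul, hone, one_zpow]
    have h2 := orderOf_dvd_of_pow_eq_one h1
    exact Nat.Coprime.coprime_dvd_left h2 ((Nat.Prime.coprime_iff_not_dvd Fact.out).mpr hm).symm
  · rw [← zpow_natCast, ← zpow_mul]
    have : v * (m : ℤ) * ((p ^ a : ℕ) : ℤ) = ((p ^ a * m : ℕ) : ℤ) * v := by push_cast; ring
    rw [this, zpow_mul, hone, one_zpow]

/-- Let G be a finite group and p a prime such that p divides the size of no conjugacy class of p-regular elements (elements of order prime to p). Then G is the internal direct product of a Sylow p-subgroup P and a normal subgroup H of order prime to p: P is normal, P ⊓ H = 1 and PH = G. -/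
theorem result {G : Type*} [Group G] [Finite G] {p : ℕ} [Fact p.Prime]
    (h : ∀ x : G, (orderOf x).Coprime p → ¬ p ∣ (ConjClasses.mk x).carrier.ncard) (P : Sylow p G) :
    (P : Subgroup G).Normal ∧ ∃ H : Subgroup G, H.Normal ∧ ¬ p ∣ Nat.card H ∧
      (P : Subgroup G) ⊓ H = ⊥ ∧ (P : Subgroup G) ⊔ H = ⊤ := by
  -- Step 1: p'-elements commute with a conjugate of P
  have hstep1 : ∀ y : G, (orderOf y).Coprime p → ∃ x : G, x⁻¹ * y * x ∈ Subgroup.centralizer ((P : Subgroup G) : Set G) := by
    intro y hy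
    have hidx : ¬ p ∣ (Subgroup.centralizer ({y} : Set G)).index := by
      have h1 := h y hy
      have h2 := Cfsg.Agent.Lib.Basic.ConjCount.card_isConj_mul_card_centralizer y
      have h3 := (Subgroup.centralizer ({y} : Set G)).card_mul_index
      have h4 : (ConjClasses.mk y).carrier.ncard = Nat.card {z : G // IsConj y z} := by
        have : (ConjClasses.mk y).carrier = {z : G | IsConj y z} := by
          ext z
          rw [ConjClasses.mem_carrier_iff_mk_eq, ConjClasses.mk_eq_mk_iff_isConj]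
          exact isConj_comm
        rw [this]
        rfl
      rw [h4] at h1
      have h5 : (Subgroup.centralizer ({y} : Set G)).index = Nat.card {z : G // IsConj y z} := by
        have hpos : 0 < Nat.card (Subgroup.centralizer ({y} : Set G)) := Nat.card_pos
        apply Nat.eq_of_mul_eq_mul_left hpos
        rw [h3, mul_comm, h2]
      rwa [h5]
    obtain ⟨x, hx⟩ := exists_conj_sylow_le P _ hidx
    refine ⟨x, ?_⟩
    rw [Subgroup.mem_centralizer_iff]
    intro s hs
    have hmem : x * s * x⁻¹ ∈ ((x • P : Sylow p G) : Subgroup G) := by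
      rw [Sylow.coe_subgroup_smul]
      exact ⟨s, hs, rfl⟩
    have h1 := Subgroup.mem_centralizer_singleton_iff.mp (hx hmem)
    calc s * (x⁻¹ * y * x) = x⁻¹ * ((x * s * x⁻¹) * y) * x := by group
      _ = x⁻¹ * (y * (x * s * x⁻¹)) * x := by rw [h1]
      _ = x⁻¹ * y * x * s := by group
  set N := Subgroup.centralizer ((P : Subgroup G) : Set G) with hN
  -- Step 2: every element is conjugate into P ⊔ N
  have hstep2 : ∀ g : G, ∃ x : G, x * g * x⁻¹ ∈ (P : Subgroup G) ⊔ N := by
    intro g
    obtain ⟨y, z, hg, hyz, hy, a, hz⟩ := exists_parts p g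
    obtain ⟨x, hx⟩ := hstep1 y hy
    set y' := x⁻¹ * y * x with hy'
    set z' := x⁻¹ * z * x with hz'
    have hyz' : z' * y' = y' * z' := by
      rw [hy', hz']
      calc x⁻¹ * z * x * (x⁻¹ * y * x) = x⁻¹ * (z * y) * x := by group
        _ = x⁻¹ * (y * z) * x := by rw [hyz]
        _ = _ := by group
    set C := Subgroup.centralizer ({y'} : Set G) with hC
    have hPC : (P : Subgroup G) ≤ C := by
      intro s hs
      exact Subgroup.mem_centralizer_singleton_iff.mpr ((Subgroup.mem_centralizer_iff.mp hx s hs))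
    have hz'C : z' ∈ C := Subgroup.mem_centralizer_singleton_iff.mpr hyz'
    have hz'p : z' ^ (p ^ a) = 1 := by
      have h1 := conj_pow (a := x⁻¹) (b := z) (i := p ^ a)
      rw [inv_inv, hz, mul_one, inv_mul_cancel] at h1
      exact h1
    set z'' : C := ⟨z', hz'C⟩ with hz''
    have hpz : IsPGroup p (Subgroup.zpowers z'') := by
      rintro ⟨w, j, hj⟩
      refine ⟨a, ?_⟩
      obtain rfl : z'' ^ j = w := hj
      apply Subtype.ext
      show (z'' ^ j) ^ (p ^ a) = 1
      rw [← zpow_natCast, ← zpow_mul, mul_comm, zpow_mul, zpow_natCast]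
      have : z'' ^ (p ^ a) = 1 := Subtype.ext hz'p
      rw [this, one_zpow]
    obtain ⟨Q, hQ⟩ := hpz.exists_le_sylow
    obtain ⟨h, hh⟩ := MulAction.exists_smul_eq C Q (P.subtype hPC)
    have hzQ : z'' ∈ (Q : Subgroup C) := hQ (Subgroup.mem_zpowers z'')
    have hmem : h * z'' * h⁻¹ ∈ ((P.subtype hPC : Sylow p C) : Subgroup C) := by
      rw [← hh, Sylow.coe_subgroup_smul]
      exact ⟨z'', hzQ, rfl⟩
    have hmem' : (h : G) * z' * (h : G)⁻¹ ∈ (P : Subgroup G) := by
      rw [Sylow.coe_subtype] at hmem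
      exact hmem
    have hhy : (h : G) * y' = y' * (h : G) := Subgroup.mem_centralizer_singleton_iff.mp h.2
    refine ⟨(h : G) * x⁻¹, ?_⟩
    have heq : ((h : G) * x⁻¹) * g * ((h : G) * x⁻¹)⁻¹ = ((h : G) * z' * (h : G)⁻¹) * y' := by
      have hg' : g = x * (y' * z') * x⁻¹ := by
        rw [hg, hy', hz']; group
      have h5 : (h : G) * z' * (h : G)⁻¹ * y' = (h : G) * (z' * y') * (h : G)⁻¹ := by
        calc (h : G) * z' * (h : G)⁻¹ * y' = (h : G) * z' * ((h : G)⁻¹ * (y' * h)) * (h : G)⁻¹ := by group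
          _ = (h : G) * z' * ((h : G)⁻¹ * ((h : G) * y')) * (h : G)⁻¹ := by rw [hhy]
          _ = _ := by group
      rw [h5, hyz', hg']
      group
    rw [heq]
    exact Subgroup.mul_mem _ (Subgroup.mem_sup_left hmem') (Subgroup.mem_sup_right hx)
  have hT : (P : Subgroup G) ⊔ N = ⊤ := Cfsg.Agent.Lib.Basic.JordanCover.eq_top_of_forall_conj_mem _ hstep2
  have hPn : (P : Subgroup G).Normal := by
    rw [← Subgroup.normalizer_eq_top_iff, eq_top_iff, ← hT]
    exact sup_le Subgroup.le_normalizer (Subgroup.centralizer_le_normalizer _)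
  refine ⟨hPn, ?_⟩
  have hNn : N.Normal := by
    have := hPn
    exact Subgroup.normal_centralizer
  -- Schur-Zassenhaus inside N
  set Z' : Subgroup N := (P : Subgroup G).subgroupOf N with hZ'
  have hZ'n : Z'.Normal := inferInstance
  have hidx : Z'.index = (P : Subgroup G).index := by
    have h1 : (P : Subgroup G).relIndex (N ⊔ (P : Subgroup G)) = (P : Subgroup G).relIndex N :=
      Subgroup.relIndex_sup_right N (P : Subgroup G)
    rw [sup_comm, hT, Subgroup.relIndex_top_right] at h1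
    exact h1.symm
  have hZp : IsPGroup p Z' := P.isPGroup'.comap_of_injective N.subtype N.subtype_injective
  have hpidx : ¬ p ∣ Z'.index := by
    rw [hidx]
    exact P.not_dvd_index
  obtain ⟨k, hk⟩ := IsPGroup.iff_card.mp hZp
  have hcop : Nat.Coprime (Nat.card Z') Z'.index := by
    rw [hk]
    exact Nat.Coprime.pow_left k ((Nat.Prime.coprime_iff_not_dvd Fact.out).mpr hpidx)
  obtain ⟨H', hH'⟩ := Subgroup.exists_right_complement'_of_coprime hcop
  have hcardH' : Nat.card H' = Z'.index := by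
    have h1 := hH'.card_mul_card
    have h2 := Z'.card_mul_index
    have hpos : 0 < Nat.card Z' := Nat.card_pos
    exact Nat.eq_of_mul_eq_mul_left hpos (h1.trans h2.symm)
  -- central elements
  have hcentral : ∀ z ∈ Z', ∀ n : N, z * n = n * z := by
    intro z hz n
    apply Subtype.ext
    exact (Subgroup.mem_centralizer_iff.mp n.2) z hz
  set H : Subgroup G := H'.map N.subtype with hH
  have hcardH : Nat.card H = Nat.card H' := Subgroup.card_map_of_injective N.subtype_injective
  refine ⟨H, ?_, ?_, ?_, ?_⟩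
  · refine ⟨fun x hx g => ?_⟩
    obtain ⟨h, hh, rfl⟩ := hx
    have hgh : g * (h : G) * g⁻¹ ∈ N := hNn.conj_mem _ h.2 g
    obtain ⟨⟨z, h'⟩, he⟩ := hH'.2 ⟨g * (h : G) * g⁻¹, hgh⟩
    have hzmem : (z : N) ∈ Z' := z.2
    have hm : ∀ w : N, w ∈ H' → w ^ Nat.card H' = 1 := by
      intro w hw
      have := pow_card_eq_one' (x := (⟨w, hw⟩ : H'))
      exact congrArg Subtype.val this
    have h1 : ((h : N) : G) ^ Nat.card H' = 1 := by
      have := hm h hh
      exact congrArg Subtype.val this
    have he' : (z : N) * (h' : N) = ⟨g * (h : G) * g⁻¹, hgh⟩ := he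
    have hcomm : Commute (z : N) (h' : N) := hcentral _ z.2 _
    have hpow : (z : N) ^ Nat.card H' = 1 := by
      have h2 : ((z : N) * (h' : N)) ^ Nat.card H' = 1 := by
        rw [he']
        apply Subtype.ext
        show (g * (h : G) * g⁻¹) ^ Nat.card H' = 1
        rw [conj_pow, h1]
        group
      rw [hcomm.mul_pow, hm h' h'.2, mul_one] at h2
      exact h2
    obtain ⟨c, hc⟩ := hZp z
    have hpz : (z : N) ^ (p ^ c) = 1 := congrArg Subtype.val hc
    have hgcd : Nat.Coprime (Nat.card H') (p ^ c) := by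
      rw [hcardH']
      exact (Nat.Coprime.pow_left c ((Nat.Prime.coprime_iff_not_dvd Fact.out).mpr hpidx)).symm
    have hz1 : (z : N) = 1 := by
      have := pow_gcd_eq_one.mpr ⟨hpow, hpz⟩
      rwa [hgcd, pow_one] at this
    refine ⟨h', h'.2, ?_⟩
    have h3 : (h' : N) = ⟨g * (h : G) * g⁻¹, hgh⟩ := by
      rw [← he', hz1, one_mul]
    exact congrArg Subtype.val h3
  · rw [hcardH, hcardH']
    exact hpidx
  · rw [eq_bot_iff]
    rintro x ⟨hx1, h, hh, rfl⟩
    have h2 : (h : N) ∈ Z' := hx1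
    have h3 : (h : N) ∈ Z' ⊓ H' := ⟨h2, hh⟩
    rw [hH'.disjoint.eq_bot] at h3
    have h4 : (h : N) = 1 := h3
    rw [Subgroup.mem_bot, h4]
    rfl
  · rw [eq_top_iff, ← hT]
    apply sup_le le_sup_left
    intro n hn
    obtain ⟨⟨z, h'⟩, he⟩ := hH'.2 ⟨n, hn⟩
    have he' : (z : N) * (h' : N) = ⟨n, hn⟩ := he
    have : n = ((z : N) : G) * ((h' : N) : G) := by
      have := congrArg Subtype.val he'
      exact this.symm
    rw [this]
    exact Subgroup.mul_mem _ (Subgroup.mem_sup_left z.2) (Subgroup.mem_sup_right ⟨h', h'.2, rfl⟩)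

end Cfsg.Agent.S4035
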