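import Cfsg.Statements.S0253
import Mathlib
import Cfsg.Agent.Lib.Compute.SmallField
import Cfsg.Agent.Lib.PSL2.Basic

set_option autoImplicit false
open Cfsg

namespace Cfsg.Agent.S0253

open Matrix
open scoped MatrixGroups
open Cfsg.Agent.Lib.Compute.SmallField

private abbrev G := SpecialLinearGroup (Fin 2) (ZMod 5)

private instance fact5 : Fact (Nat.Prime 5) := ⟨by norm_num⟩

private def L : List (ZMod 5 × ZMod 5 × ZMod 5 × ZMod 5) :=
  [(0, 1, 4, 0), (0, 2, 2, 0), (0, 3, 3, 0), (0, 4, 1, 0), (1, 0, 0, 1), (1, 1, 2, 3), (1, 2, 1, 3),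
   (1, 3, 4, 3), (1, 4, 3, 3), (2, 0, 0, 3), (2, 1, 2, 4), (2, 2, 1, 4), (2, 3, 4, 4), (2, 4, 3, 4),
   (3, 0, 0, 2), (3, 1, 2, 1), (3, 2, 1, 1), (3, 3, 4, 1), (3, 4, 3, 1), (4, 0, 0, 4), (4, 1, 2, 2),
   (4, 2, 1, 2), (4, 3, 4, 2), (4, 4, 3, 2)]

private def p (A : G) : Prop := (A.1 0 0, A.1 0 1, A.1 1 0, A.1 1 1) ∈ L

private instance : DecidablePred p := fun A => by unfold p; infer_instance

private def H : Subgroup G where
  carrier := {A | p A}
  mul_mem' := by
    have : ∀ A : G, p A → ∀ B : G, p B → p (A * B) := by decide +kernel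
    exact fun {a b} ha hb => this a ha b hb
  one_mem' := by
    have : p (1 : G) := by decide +kernel
    exact this
  inv_mem' := by
    have : ∀ A : G, p A → p A⁻¹ := by decide +kernel
    exact fun {a} ha => this a ha

private theorem card_H : Nat.card H = 24 := by
  have h : Fintype.card {A : G // p A} = 24 := by decide +kernel
  rw [← h, ← Nat.card_eq_fintype_card]
  rfl

private theorem card_G : Nat.card G = 120 := by
  rw [Nat.card_eq_fintype_card]
  decide +kernel

private theorem center_le : Subgroup.center G ≤ H := by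
  intro A hA
  rcases Cfsg.Agent.Lib.PSL2.Basic.mem_center_iff₂.mp hA with rfl | rfl
  · exact H.one_mem
  · have : p (-1 : G) := by decide +kernel
    exact this

private theorem index_H : H.index = 5 := by
  have h := Subgroup.index_mul_card H
  rw [card_H, card_G] at h
  omega

/-- PSL_2(5) is isomorphic to A_5. -/
theorem result {F : Type*} [Field F] [Fintype F] (hF : Fintype.card F = 5) : Nonempty (Matrix.ProjectiveSpecialLinearGroup (Fin 2) F ≃* alternatingGroup (Fin 5)) := by
  have e : F ≃+* ZMod 5 := (ZMod.ringEquivOfPrime F (by norm_num) hF).symm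
  have hc5 : Nat.card (ZMod 5) = 5 := by simp
  have : IsSimpleGroup (ProjectiveSpecialLinearGroup (Fin 2) (ZMod 5)) :=
    Matrix.ProjectiveSpecialLinearGroup.rank_two_simple (by rw [hc5]; omega)
  refine psl_equiv_alternating_of_congr e H center_le 5 index_H (by norm_num) ?_
  rw [Cfsg.Agent.Lib.PSL2.Basic.card_PSL2_of_two_ne_zero (F := ZMod 5) (by decide), ZMod.card]
  rfl

end Cfsg.Agent.S0253
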