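import Cfsg.Statements.S0214
import Mathlib
import Cfsg.Agent.Lib.Basic.Conj
-- import your own Cfsg.Agent.* helpers here

set_option autoImplicit false
open Cfsg

namespace Cfsg.Agent.S0214

open Cfsg.Agent.Lib.Basic.Conj Subgroup
open scoped Pointwise

variable {G : Type*} [Group G] [Finite G]

theorem conj_into (H : Subgroup G) (P : Sylow 2 ↥H) (A : Subgroup G) (hA : A ≤ H) (hp : IsPGroup 2 A) :
    ∃ h ∈ H, MulAut.conj h • A ≤ (P : Subgroup ↥H).map H.subtype := by
  have hp' : IsPGroup 2 (A.subgroupOf H) := hp.comap_subtype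
  obtain ⟨R, hR⟩ := hp'.exists_le_sylow
  obtain ⟨h, hh⟩ := MulAction.exists_smul_eq (↥H) R P
  refine ⟨h, h.2, ?_⟩
  intro x hx
  rw [mem_conj_smul_iff] at hx
  have hxH : x ∈ H := by
    have h1 := hA hx
    have h2 : x = (h : G) * ((h : G)⁻¹ * x * h) * (h : G)⁻¹ := by group
    rw [h2]
    exact H.mul_mem (H.mul_mem h.2 h1) (H.inv_mem h.2)
  refine ⟨⟨x, hxH⟩, ?_, rfl⟩
  have h3 : (⟨(h : G)⁻¹ * x * h, hA hx⟩ : ↥H) ∈ (R : Subgroup ↥H) := hR hx
  rw [← hh]
  show _ ∈ (MulAut.conj h • (R : Subgroup ↥H) : Subgroup ↥H)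
  rw [mem_conj_smul_iff]
  convert h3 using 1
  exact Subtype.ext rfl

theorem two_dvd_card {Q : Subgroup G} (hp : IsPGroup 2 Q) (hQ : Q ≠ ⊥) : 2 ∣ Nat.card Q := by
  obtain ⟨n, hn⟩ := IsPGroup.iff_card.mp hp
  rcases n with _ | n
  · exfalso
    apply hQ
    exact Subgroup.eq_bot_of_card_eq Q (by simpa using hn)
  · rw [hn, pow_succ]
    exact Dvd.intro_left _ rfl

theorem step (H : Subgroup G) (P : Sylow 2 ↥H)
    (hN : ∀ X : Subgroup ↥H, X ≤ (P : Subgroup ↥H) → X ≠ ⊥ →
      Subgroup.normalizer ((X.map H.subtype : Subgroup G) : Set G) ≤ H)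
    (hP : (P : Subgroup ↥H) ≠ ⊥)
    (a : G) (ha : a ∉ H) (Q : Subgroup G) (hQ : IsPGroup 2 Q) (hQ1 : Q ≠ ⊥) (hQH : Q ≤ H)
    (hQa : Q ≤ MulAut.conj a • H) :
    ∃ a' : G, a' ∉ H ∧ ∃ Q' : Subgroup G, IsPGroup 2 Q' ∧ Q' ≤ H ∧ Q' ≤ MulAut.conj a' • H ∧
      Nat.card Q < Nat.card Q' := by
  set Pt : Subgroup G := (P : Subgroup ↥H).map H.subtype with hPt
  have hPtH : Pt ≤ H := Subgroup.map_subtype_le _
  have hPtp : IsPGroup 2 Pt := P.isPGroup'.map _
  obtain ⟨h, hh, hQ1P⟩ := conj_into H P Q hQH hQ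
  have hRH : MulAut.conj a⁻¹ • Q ≤ H := by
    intro x hx
    rw [mem_conj_smul_iff] at hx
    have := mem_conj_smul_iff.mp (hQa hx)
    have h2 : a⁻¹ * (a⁻¹⁻¹ * x * a⁻¹) * a = x := by group
    rwa [h2] at this
  have hRp : IsPGroup 2 (MulAut.conj a⁻¹ • Q : Subgroup G) := hQ.map _
  obtain ⟨k, hk, hR1P⟩ := conj_into H P (MulAut.conj a⁻¹ • Q) hRH hRp
  set Q1 : Subgroup G := MulAut.conj h • Q with hQ1def
  set R1 : Subgroup G := MulAut.conj k • MulAut.conj a⁻¹ • Q with hR1def
  set a' : G := h * a * k⁻¹ with ha'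
  have ha'H : a' ∉ H := by
    intro hmem
    apply ha
    have h2 : a = h⁻¹ * a' * k := by rw [ha']; group
    rw [h2]
    exact H.mul_mem (H.mul_mem (H.inv_mem hh) hmem) hk
  have hconj : MulAut.conj a' • R1 = Q1 := by
    rw [hR1def, hQ1def, ← conj_mul_smul, ← conj_mul_smul]
    congr 2
    rw [ha']
    group
  have hQ1ne : Q1 ≠ ⊥ := by
    intro h0
    apply hQ1
    have : MulAut.conj h⁻¹ • Q1 = Q := conj_inv_smul_smul h Q
    rw [← this, h0]
    simp
  have hcardR : Nat.card R1 = Nat.card Q := by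
    rw [hR1def, card_conj_smul, card_conj_smul]
  have hcardQ1 : Nat.card Q1 = Nat.card Q := by
    rw [hQ1def, card_conj_smul]
  by_cases hRP : R1 = Pt
  · exfalso
    apply ha'H
    have h1 : MulAut.conj a' • Pt ≤ Pt := by
      rw [← hRP, hconj, hRP]
      exact hQ1P
    have h2 := mem_normalizer_of_conj_smul_le h1
    exact hN P le_rfl hP h2
  · -- R1 < Pt
    have hlt : R1 < Pt := lt_of_le_of_ne hR1P hRP
    have hnil : Group.IsNilpotent ↥Pt := IsPGroup.isNilpotent hPtp
    have hcond := Group.normalizerCondition_of_isNilpotent (G := ↥Pt)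
    have hlt2 : R1.subgroupOf Pt < ⊤ := by
      rw [lt_top_iff_ne_top]
      intro htop
      apply hRP
      apply le_antisymm hR1P
      rw [Subgroup.subgroupOf_eq_top] at htop
      exact htop
    have h3 := hcond _ hlt2
    obtain ⟨t, ht1, ht2⟩ := SetLike.exists_of_lt h3
    set T : Subgroup G := Pt ⊓ normalizer (R1 : Set G) with hT
    have htT : (t : G) ∈ T := by
      refine ⟨t.2, ?_⟩
      show (t : G) ∈ normalizer (R1 : Set G)
      rw [Subgroup.mem_normalizer_iff] at ht1 ⊢
      intro x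
      constructor
      · intro hx
        by_cases hxPt : x ∈ Pt
        · have := (ht1 ⟨x, hxPt⟩).mp hx
          exact this
        · exact absurd (hR1P hx) hxPt
      · intro hx
        have hxPt : x ∈ Pt := by
          have h4 := hR1P hx
          have h5 : x = (t : G)⁻¹ * ((t : G) * x * (t : G)⁻¹) * t := by group
          rw [h5]
          exact Pt.mul_mem (Pt.mul_mem (Pt.inv_mem t.2) h4) t.2
        exact (ht1 ⟨x, hxPt⟩).mpr hx
    have hRT : R1 ≤ T := le_inf hR1P Subgroup.le_normalizer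
    have hRneT : R1 < T := by
      refine lt_of_le_of_ne hRT ?_
      intro he
      apply ht2
      rw [he] at *
      exact htT
    have hTp : IsPGroup 2 T := hPtp.to_le inf_le_left
    refine ⟨a', ha'H, MulAut.conj a' • T, hTp.map _, ?_, ?_, ?_⟩
    · have h1 : MulAut.conj a' • T ≤ MulAut.conj a' • normalizer (R1 : Set G) :=
        conj_smul_le_conj_smul.mpr inf_le_right
      rw [← normalizer_conj_smul, hconj] at h1
      refine h1.trans ?_
      have hX : (Q1.subgroupOf H).map H.subtype = Q1 := by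
        rw [Subgroup.map_subgroupOf_eq_of_le (hQ1P.trans hPtH)]
      rw [← hX]
      refine hN _ ?_ ?_
      · intro x hx
        have h5 : (x : G) ∈ Pt := hQ1P hx
        obtain ⟨y, hy, hyx⟩ := h5
        have : y = x := Subtype.ext hyx
        rwa [← this]
      · intro h0
        apply hQ1ne
        rw [← hX, h0]
        simp
    · exact conj_smul_le_conj_smul.mpr (inf_le_left.trans hPtH)
    · rw [card_conj_smul, ← hcardR]
      exact lt_of_not_ge fun hge => (ne_of_lt hRneT) (Subgroup.eq_of_le_of_card_ge hRneT.le hge)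

/-- Let H be a proper subgroup of the finite group G and P a nontrivial Sylow 2-subgroup of H. Then H is strongly embedded in G if and only if N_G(X) ≤ H for every nontrivial subgroup X of P. -/
theorem result {G : Type*} [Group G] [Finite G] (H : Subgroup G) (hH : H ≠ ⊤) (P : Sylow 2 ↥H) (hP : (P : Subgroup ↥H) ≠ ⊥) : Cfsg.IsStronglyEmbedded H ↔ (∀ X : Subgroup ↥H, X ≤ (P : Subgroup ↥H) → X ≠ ⊥ → Subgroup.normalizer ((X.map H.subtype : Subgroup G) : Set G) ≤ H) := by
  classical
  have hp2 : IsPGroup 2 ((P : Subgroup ↥H).map H.subtype) := P.isPGroup'.map _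
  have hPne : (P : Subgroup ↥H).map H.subtype ≠ ⊥ := by
    intro h0
    apply hP
    rw [Subgroup.map_eq_bot_iff_of_injective _ H.subtype_injective] at h0
    exact h0
  constructor
  · rintro ⟨-, -, hodd⟩ X hX hX1 g hg
    by_contra hgH
    have h1 := hodd g hgH
    set Xt : Subgroup G := X.map H.subtype with hXt
    have hXtH : Xt ≤ H := Subgroup.map_subtype_le _
    have hXp : IsPGroup 2 Xt := by
      have : IsPGroup 2 X := P.isPGroup'.to_le hX
      exact this.map _
    have hXne : Xt ≠ ⊥ := by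
      intro h0
      apply hX1
      rw [hXt, Subgroup.map_eq_bot_iff_of_injective _ H.subtype_injective] at h0
      exact h0
    have h2 := two_dvd_card hXp hXne
    have hle : Xt ≤ H ⊓ H.map (MulAut.conj g).toMonoidHom := by
      refine le_inf hXtH ?_
      have h3 : Xt = MulAut.conj g • Xt := (conj_smul_eq_self_iff.mpr hg).symm
      rw [h3]
      exact conj_smul_le_conj_smul.mpr hXtH
    have h4 : Nat.card Xt ∣ Nat.card ↥(H ⊓ H.map (MulAut.conj g).toMonoidHom) :=
      Subgroup.card_dvd_of_le hle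
    have h5 := h2.trans h4
    rw [Nat.odd_iff] at h1
    omega
  · intro hN
    refine ⟨hH, ?_, ?_⟩
    · have h1 := two_dvd_card hp2 hPne
      have h2 : Nat.card ((P : Subgroup ↥H).map H.subtype) ∣ Nat.card H :=
        Subgroup.card_dvd_of_le (Subgroup.map_subtype_le _)
      exact (even_iff_two_dvd.mpr (h1.trans h2))
    · intro g hg
      by_contra hodd
      rw [Nat.not_odd_iff_even] at hodd
      have hdvd : 2 ∣ Nat.card ↥(H ⊓ H.map (MulAut.conj g).toMonoidHom) := even_iff_two_dvd.mp hodd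
      obtain ⟨x, hx⟩ := exists_prime_orderOf_dvd_card' (G := ↥(H ⊓ H.map (MulAut.conj g).toMonoidHom)) 2 hdvd
      have hxo : orderOf (x : G) = 2 := by
        rw [Subgroup.orderOf_coe]
        exact hx
      have main : ∀ n : ℕ, ∀ (a : G) (Q : Subgroup G), Nat.card G - Nat.card Q = n → a ∉ H → IsPGroup 2 Q → Q ≠ ⊥ →
          Q ≤ H → Q ≤ MulAut.conj a • H → False := by
        intro n
        induction n using Nat.strong_induction_on with
        | _ n ih =>
          intro a Q hn ha hQ hQ1 hQH hQa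
          obtain ⟨a', ha', Q', hQ', hQ'H, hQ'a, hlt⟩ := step H P hN hP a ha Q hQ hQ1 hQH hQa
          have hle : Nat.card Q' ≤ Nat.card G := Subgroup.card_le_card_group Q'
          refine ih (Nat.card G - Nat.card Q') (by omega) a' Q' rfl ha' hQ' ?_ hQ'H hQ'a
          intro h0
          rw [h0, Subgroup.card_bot] at hlt
          have := Nat.card_pos (α := Q)
          omega
      have hzp : IsPGroup 2 (Subgroup.zpowers (x : G)) := by
        apply IsPGroup.of_card (n := 1)
        rw [Nat.card_zpowers, hxo, pow_one]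
      have hzne : Subgroup.zpowers (x : G) ≠ ⊥ := by
        intro h0
        rw [Subgroup.zpowers_eq_bot] at h0
        rw [h0] at hxo
        simp at hxo
      exact main _ g (Subgroup.zpowers (x : G)) rfl hg hzp hzne
        (Subgroup.zpowers_le.mpr x.2.1) (Subgroup.zpowers_le.mpr x.2.2)

end Cfsg.Agent.S0214
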