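import Cfsg.Statements.S1224
import Mathlib
-- import your own Cfsg.Agent.* helpers here

set_option autoImplicit false
open Cfsg

namespace Cfsg.Agent.S1224

theorem order_conj' {G : Type*} [Group G] (g t : G) : orderOf (g * t * g⁻¹) = orderOf t := by
  simpa using (MulEquiv.orderOf_eq (MulAut.conj g) t)

theorem mul_self_of_order {G : Type*} [Group G] {i : G} (hi : orderOf i = 2) : i * i = 1 := by
  rw [← pow_two, ← hi]; exact pow_orderOf_eq_one i

theorem inv_of_order {G : Type*} [Group G] {i : G} (hi : orderOf i = 2) : i⁻¹ = i := by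
  rw [inv_eq_iff_mul_eq_one]; exact mul_self_of_order hi

/-- An involution has at most one fixed point on the cosets of a strongly embedded subgroup. -/
theorem fix_unique {G : Type*} [Group G] [Finite G] (H : Subgroup G) (hH : Cfsg.IsStronglyEmbedded H)
    (z : G) (hz : orderOf z = 2) (x y : G ⧸ H) (hx : z • x = x) (hy : z • y = y) : x = y := by
  induction x using QuotientGroup.induction_on with
  | H a =>
  induction y using QuotientGroup.induction_on with
  | H b =>
  by_contra hne
  have hg : a⁻¹ * b ∉ H := by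
    intro hmem
    exact hne (QuotientGroup.eq.mpr hmem)
  have hodd := hH.2.2 _ hg
  rw [MulAction.Quotient.smul_coe, QuotientGroup.eq] at hx hy
  have hw1 : a⁻¹ * z * a ∈ H := by
    have : (z • a)⁻¹ * a ∈ H := hx
    have h2 : (z • a)⁻¹ * a = a⁻¹ * z⁻¹ * a := by simp [smul_eq_mul, mul_assoc]
    rw [h2, inv_of_order hz] at this
    exact this
  have hw2 : b⁻¹ * z * b ∈ H := by
    have : (z • b)⁻¹ * b ∈ H := hy
    have h2 : (z • b)⁻¹ * b = b⁻¹ * z⁻¹ * b := by simp [smul_eq_mul, mul_assoc]
    rw [h2, inv_of_order hz] at this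
    exact this
  have hw3 : a⁻¹ * z * a ∈ H.map (MulAut.conj (a⁻¹ * b)).toMonoidHom := by
    refine ⟨b⁻¹ * z * b, hw2, ?_⟩
    simp [MulAut.conj_apply, mul_assoc]
  let w : ↥(H ⊓ H.map (MulAut.conj (a⁻¹ * b)).toMonoidHom) := ⟨a⁻¹ * z * a, hw1, hw3⟩
  have hord : orderOf w = 2 := by
    rw [← Subgroup.orderOf_coe]
    show orderOf (a⁻¹ * z * a) = 2
    have := order_conj' a⁻¹ z
    simpa [hz] using this
  have h2 : 2 ∣ Nat.card ↥(H ⊓ H.map (MulAut.conj (a⁻¹ * b)).toMonoidHom) := by
    rw [← hord]; exact orderOf_dvd_natCard w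
  exact (Nat.not_even_iff_odd.mpr hodd) (even_iff_two_dvd.mpr h2)

/-- Two elements whose product has even order are centralised by an involution. -/
theorem exists_central_invol {G : Type*} [Group G] [Finite G] (i j : G) (hi : i * i = 1) (hj : j * j = 1)
    (h : Even (orderOf (i * j))) : ∃ z, orderOf z = 2 ∧ Commute z i ∧ Commute z j := by
  obtain ⟨r, hr⟩ := h
  have hpos : 0 < orderOf (i * j) := orderOf_pos _
  have hr0 : r ≠ 0 := by omega
  have hlt : r < orderOf (i * j) := by omega
  set a := i * j with ha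
  have hz1 : a ^ r ≠ 1 := pow_ne_one_of_lt_orderOf hr0 hlt
  have hz2 : (a ^ r) ^ 2 = 1 := by
    rw [← pow_mul, mul_two, ← hr]; exact pow_orderOf_eq_one a
  have hord : orderOf (a ^ r) = 2 := orderOf_eq_prime hz2 hz1
  have hinv : (a ^ r)⁻¹ = a ^ r := inv_of_order hord
  have hai : a⁻¹ = j * i := by
    rw [inv_eq_iff_mul_eq_one, ha]
    calc i * j * (j * i) = i * (j * j) * i := by group
      _ = 1 := by rw [hj, mul_one, hi]
  have hs1 : SemiconjBy i a a⁻¹ := by
    unfold SemiconjBy
    rw [hai, ha]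
    calc i * (i * j) = (i * i) * j := by group
      _ = j := by rw [hi, one_mul]
      _ = j * (i * i) := by rw [hi, mul_one]
      _ = j * i * i := by group
  have hs2 : SemiconjBy j a a⁻¹ := by
    unfold SemiconjBy
    rw [hai, ha]
    group
  refine ⟨a ^ r, hord, ?_, ?_⟩
  · have := hs1.pow_right r
    rw [inv_pow, hinv] at this
    exact this.eq.symm
  · have := hs2.pow_right r
    rw [inv_pow, hinv] at this
    exact this.eq.symm

theorem eq_of_sq_eq {G : Type*} [Group G] {u v : G} (hu : ¬ Even (orderOf u)) (hv : ¬ Even (orderOf v))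
    (h : u ^ 2 = v ^ 2) : u = v := by
  obtain ⟨m, hm⟩ := Nat.not_even_iff_odd.mp hu
  obtain ⟨m', hm'⟩ := Nat.not_even_iff_odd.mp hv
  have hu1 : u ^ (2 * m + 1) = 1 := by rw [← hm]; exact pow_orderOf_eq_one u
  have hv1 : v ^ (2 * m' + 1) = 1 := by rw [← hm']; exact pow_orderOf_eq_one v
  have hau : u = (v ^ 2) ^ (m + 1) := by
    rw [← h, ← pow_mul]
    have : 2 * (m + 1) = (2 * m + 1) + 1 := by omega
    rw [this, pow_succ, hu1, one_mul]
  have hu2 : u ^ (2 * m' + 1) = 1 := by
    rw [hau, ← pow_mul, ← pow_mul]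
    have : 2 * ((m + 1) * (2 * m' + 1)) = (2 * m' + 1) * (2 * (m + 1)) := by ring
    rw [this, pow_mul, hv1, one_pow]
  have h3 : u ^ (2 * m' + 1) = v ^ (2 * m') * u := by
    rw [pow_succ, pow_mul, h, ← pow_mul]
  have h4 : v ^ (2 * m' + 1) = v ^ (2 * m') * v := by rw [pow_succ]
  rw [h3] at hu2
  rw [h4] at hv1
  exact mul_left_cancel (hu2.trans hv1.symm)

/-- Let H be a strongly embedded subgroup of the finite group G and x ≠ y two cosets in G/H. Then the number of involutions i of G with i • x = y equals the number of involutions lying in H. -/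
theorem result {G : Type*} [Group G] [Finite G] (H : Subgroup G) (hH : Cfsg.IsStronglyEmbedded H) (x y : G ⧸ H) (hxy : x ≠ y) : Nat.card {i : G // orderOf i = 2 ∧ i • x = y} = Nat.card {t : G // orderOf t = 2 ∧ t ∈ H} := by
  classical
  have hfix : ∀ (z : G), orderOf z = 2 → ∀ u v : G ⧸ H, z • u = u → z • v = v → u = v :=
    fun z hz u v hu hv => fix_unique H hH z hz u v hu hv
  -- the number of involutions fixing a coset
  have hcard : ∀ w : G ⧸ H, Nat.card {i : G // orderOf i = 2 ∧ i • w = w} =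
      Nat.card {t : G // orderOf t = 2 ∧ t ∈ H} := by
    intro w
    induction w using QuotientGroup.induction_on with
    | H g =>
    symm
    refine Nat.card_congr (Equiv.subtypeEquiv (MulAut.conj g).toEquiv ?_)
    intro t
    simp only [MulEquiv.toEquiv_eq_coe, EquivLike.coe_coe, MulAut.conj_apply]
    rw [order_conj']
    refine and_congr_right fun _ => ?_
    rw [MulAction.Quotient.smul_coe, QuotientGroup.eq]
    have : ((g * t * g⁻¹) • g)⁻¹ * g = t⁻¹ := by
      simp [smul_eq_mul, mul_assoc]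
    rw [this]
    exact (Subgroup.inv_mem_iff H).symm
  -- an involution in H
  have hne : 0 < Nat.card {t : G // orderOf t = 2 ∧ t ∈ H} := by
    have h2 : 2 ∣ Nat.card H := even_iff_two_dvd.mp hH.2.1
    obtain ⟨t, ht⟩ := exists_prime_orderOf_dvd_card' (G := H) 2 h2
    haveI : Nonempty {t : G // orderOf t = 2 ∧ t ∈ H} :=
      ⟨⟨t, by rw [Subgroup.orderOf_coe]; exact ht, t.2⟩⟩
    exact Nat.card_pos
  -- the bijection
  let Ix := {i : G // orderOf i = 2 ∧ i • x = x}
  let Iy := {i : G // orderOf i = 2 ∧ i • y = y}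
  let Sw := {k : G // orderOf k = 2 ∧ k • x = y}
  have hswap : ∀ k : Sw, k.1 • y = x := by
    intro k
    have h : k.1 • x = y := k.2.2
    calc k.1 • y = k.1 • (k.1 • x) := by rw [h]
      _ = x := by rw [smul_smul, mul_self_of_order k.2.1, one_smul]
  let F : Ix × Sw → Ix × Iy := fun p =>
    (p.1, ⟨p.2.1 * p.1.1 * p.2.1⁻¹, by rw [order_conj']; exact p.1.2.1, by
      rw [inv_of_order p.2.2.1, mul_smul, mul_smul, hswap p.2, p.1.2.2]; exact p.2.2.2⟩)
  -- i k has odd order
  have hodd1 : ∀ (i : Ix) (k : Sw), ¬ Even (orderOf (i.1 * k.1)) := by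
    intro i k hev
    obtain ⟨z, hz, hzi, hzk⟩ := exists_central_invol i.1 k.1 (mul_self_of_order i.2.1)
      (mul_self_of_order k.2.1) hev
    have h1 : z • x = x := by
      apply hfix i.1 i.2.1 _ _ _ i.2.2
      rw [smul_smul, ← hzi.eq, mul_smul, i.2.2]
    have h2 : z • y = y := by
      have h3 := k.2.2
      rw [← h3, smul_smul, hzk.eq, mul_smul, h1]
    exact hxy (hfix z hz x y h1 h2)
  have hodd2 : ∀ (i : Ix) (j : Iy), ¬ Even (orderOf (i.1 * j.1)) := by
    intro i j hev
    obtain ⟨z, hz, hzi, hzk⟩ := exists_central_invol i.1 j.1 (mul_self_of_order i.2.1)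
      (mul_self_of_order j.2.1) hev
    have h1 : z • x = x := by
      apply hfix i.1 i.2.1 _ _ _ i.2.2
      rw [smul_smul, ← hzi.eq, mul_smul, i.2.2]
    have h2 : z • y = y := by
      apply hfix j.1 j.2.1 _ _ _ j.2.2
      rw [smul_smul, ← hzk.eq, mul_smul, j.2.2]
    exact hxy (hfix z hz x y h1 h2)
  -- square root of odd order elements
  have hsqrt : ∀ u : G, ¬ Even (orderOf u) → ∃ m : ℕ, u = (u ^ 2) ^ (m + 1) ∧ orderOf u = 2 * m + 1 := by
    intro u hu
    obtain ⟨m, hm⟩ := Nat.not_even_iff_odd.mp hu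
    refine ⟨m, ?_, hm⟩
    rw [← pow_mul]
    have : 2 * (m + 1) = orderOf u + 1 := by omega
    rw [this, pow_succ, pow_orderOf_eq_one, one_mul]
  have hbij : Function.Bijective F := by
    constructor
    · rintro ⟨i, k⟩ ⟨i', k'⟩ h
      have h1 : i = i' := congrArg Prod.fst h
      subst h1
      have h2 : k.1 * i.1 * k.1⁻¹ = k'.1 * i.1 * k'.1⁻¹ := congrArg (fun q => (q.2 : Iy).1) h
      rw [inv_of_order k.2.1, inv_of_order k'.2.1] at h2
      have hsq : ∀ k : Sw, (i.1 * k.1) ^ 2 = i.1 * (k.1 * i.1 * k.1) := by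
        intro k
        rw [pow_two]; group
      have hsq2 : (i.1 * k.1) ^ 2 = (i.1 * k'.1) ^ 2 := by rw [hsq, hsq, h2]
      have heq := eq_of_sq_eq (hodd1 i k) (hodd1 i k') hsq2
      have hkk : k = k' := Subtype.ext (mul_left_cancel heq)
      rw [hkk]
    · rintro ⟨i, j⟩
      obtain ⟨m, hm, hm1⟩ := hsqrt _ (hodd2 i j)
      set a := i.1 * j.1 with ha
      set b := a ^ (m + 1) with hb
      have hb2 : b * b = a := by
        rw [hb, ← pow_add]
        have : m + 1 + (m + 1) = 2 * m + 1 + 1 := by omega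
        rw [this, ← hm1, pow_succ, pow_orderOf_eq_one, one_mul]
      have hi2 : i.1 * i.1 = 1 := mul_self_of_order i.2.1
      have hj2 : j.1 * j.1 = 1 := mul_self_of_order j.2.1
      have hai : a⁻¹ = j.1 * i.1 := by
        rw [inv_eq_iff_mul_eq_one, ha]
        calc i.1 * j.1 * (j.1 * i.1) = i.1 * (j.1 * j.1) * i.1 := by group
          _ = 1 := by rw [hj2, mul_one, hi2]
      have hs1 : SemiconjBy i.1 a a⁻¹ := by
        unfold SemiconjBy
        rw [hai, ha]
        calc i.1 * (i.1 * j.1) = (i.1 * i.1) * j.1 := by group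
          _ = j.1 := by rw [hi2, one_mul]
          _ = j.1 * (i.1 * i.1) := by rw [hi2, mul_one]
          _ = j.1 * i.1 * i.1 := by group
      have hs2 : i.1 * b = b⁻¹ * i.1 := by
        have := (hs1.pow_right (m + 1)).eq
        rw [inv_pow] at this
        exact this
      have hkk : (i.1 * b) * (i.1 * b) = 1 := by
        calc (i.1 * b) * (i.1 * b) = (i.1 * b) * i.1 * b := by group
          _ = (b⁻¹ * i.1) * i.1 * b := by rw [hs2]
          _ = b⁻¹ * (i.1 * i.1) * b := by group
          _ = 1 := by rw [hi2]; group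
      have hk1 : i.1 * b ≠ 1 := by
        intro h1
        have hbi : b = i.1 := by
          have h3 : i.1⁻¹ = b := inv_eq_of_mul_eq_one_right h1
          rw [← h3, inv_of_order i.2.1]
        have ha1 : a = 1 := by rw [← hb2, hbi, hi2]
        have hji : j.1 = i.1 := by
          have h4 : i.1 * j.1 = 1 := ha1
          have h5 : i.1⁻¹ = j.1 := inv_eq_of_mul_eq_one_right h4
          rw [← h5, inv_of_order i.2.1]
        have hy' := j.2.2
        rw [hji] at hy'
        exact hxy (hfix i.1 i.2.1 x y i.2.2 hy')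
      have hk2 : orderOf (i.1 * b) = 2 := orderOf_eq_prime (by rw [pow_two]; exact hkk) hk1
      have hkik : (i.1 * b) * i.1 * (i.1 * b)⁻¹ = j.1 := by
        rw [inv_of_order hk2]
        calc (i.1 * b) * i.1 * (i.1 * b) = i.1 * b * (i.1 * i.1) * b := by group
          _ = i.1 * (b * b) := by rw [hi2]; group
          _ = i.1 * a := by rw [hb2]
          _ = (i.1 * i.1) * j.1 := by rw [ha]; group
          _ = j.1 := by rw [hi2, one_mul]
      have hkx : (i.1 * b) • x = y := by
        apply hfix j.1 j.2.1 _ _ _ j.2.2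
        rw [← hkik, smul_smul]
        have : (i.1 * b) * i.1 * (i.1 * b)⁻¹ * (i.1 * b) = (i.1 * b) * i.1 := by group
        rw [this, mul_smul, i.2.2]
      refine ⟨(i, ⟨i.1 * b, hk2, hkx⟩), ?_⟩
      exact Prod.ext rfl (Subtype.ext hkik)
  have hmul : Nat.card Ix * Nat.card Sw = Nat.card Ix * Nat.card Iy := by
    rw [← Nat.card_prod, ← Nat.card_prod]
    exact Nat.card_congr (Equiv.ofBijective F hbij)
  have hIx : 0 < Nat.card Ix := by
    show 0 < Nat.card {i : G // orderOf i = 2 ∧ i • x = x}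
    rw [hcard x]; exact hne
  have := Nat.eq_of_mul_eq_mul_left hIx hmul
  show Nat.card Sw = _
  rw [this]
  exact hcard y

end Cfsg.Agent.S1224
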