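import Cfsg.Statements.S1314
import Mathlib
-- import your own Cfsg.Agent.* helpers here

set_option autoImplicit false
open Cfsg

namespace Cfsg.Agent.S1314

/-- Let x be an involution of a group G and L a perfect subgroup with ⁅L, x L x⁻¹⁆ = 1. Then l ↦ l (x l x⁻¹) is a group homomorphism π from L to G whose kernel is central in L and whose image lies in C_G(x); and the commutator subgroup of C_{L ⊔ xLx⁻¹}(x) equals the image of π. -/
theorem result {G : Type*} [Group G] [Finite G] (x : G) (hx : orderOf x = 2) (L : Subgroup G) (hperf : ⁅L, L⁆ = L) (hcomm : ⁅L, L.map (MulAut.conj x).toMonoidHom⁆ = ⊥) : ∃ π : ↥L →* G, (∀ l : ↥L, π l = (l : G) * (x * (l : G) * x⁻¹)) ∧ π.ker ≤ Subgroup.center ↥L ∧ π.range ≤ Subgroup.centralizer ({x} : Set G) ∧ ⁅(L ⊔ L.map (MulAut.conj x).toMonoidHom) ⊓ Subgroup.centralizer ({x} : Set G), (L ⊔ L.map (MulAut.conj x).toMonoidHom) ⊓ Subgroup.centralizer ({x} : Set G)⁆ = π.range := by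
  have hxx : x * x = 1 := by
    have := pow_orderOf_eq_one x
    rwa [hx, pow_two] at this
  have hxinv : x⁻¹ = x := inv_eq_of_mul_eq_one_left hxx
  set Lx := L.map (MulAut.conj x).toMonoidHom with hLx
  have hmemLx : ∀ d ∈ L, x * d * x⁻¹ ∈ Lx := fun d hd => ⟨d, hd, rfl⟩
  have hLC : L ≤ Subgroup.centralizer (Lx : Set G) := Subgroup.commutator_eq_bot_iff_le_centralizer.mp hcomm
  have hc : ∀ a ∈ L, ∀ b ∈ Lx, a * b = b * a := by
    intro a ha b hb
    exact ((Subgroup.mem_centralizer_iff.mp (hLC ha)) b hb).symm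
  let π : L →* G := MonoidHom.mk' (fun l : L => (l : G) * (x * (l : G) * x⁻¹)) (by
    intro a b
    have h := hc b b.2 _ (hmemLx a a.2)
    calc ((a * b : L) : G) * (x * ((a * b : L) : G) * x⁻¹)
        = a * (b * (x * a * x⁻¹)) * (x * b * x⁻¹) := by push_cast; group
      _ = a * ((x * a * x⁻¹) * b) * (x * b * x⁻¹) := by rw [h]
      _ = _ := by group)
  have hπ : ∀ l : L, π l = (l : G) * (x * (l : G) * x⁻¹) := fun l => rfl
  refine ⟨π, hπ, ?_, ?_, ?_⟩
  · intro l hl
    rw [MonoidHom.mem_ker, hπ] at hl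
    rw [Subgroup.mem_center_iff]
    intro u
    apply Subtype.ext
    have h1 : x * (l : G) * x⁻¹ = (l : G)⁻¹ := eq_inv_of_mul_eq_one_right hl
    have h2 : (l : G)⁻¹ ∈ Lx := h1 ▸ hmemLx l l.2
    have h3 := hc u u.2 _ h2
    -- u * l⁻¹ = l⁻¹ * u
    show (u : G) * l = l * u
    calc (u : G) * l = l * ((l : G)⁻¹ * u) * l := by group
      _ = l * ((u : G) * (l : G)⁻¹) * l := by rw [h3]
      _ = l * u := by group
  · rintro _ ⟨l, rfl⟩
    rw [Subgroup.mem_centralizer_singleton_iff, hπ]
    have h := hc l l.2 _ (hmemLx l l.2)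
    -- x * (l * (x l x⁻¹)) = (l * (x l x⁻¹)) * x
    calc (l : G) * (x * l * x⁻¹) * x = (x * l * x⁻¹) * l * x := by rw [h]
      _ = x * l * (x⁻¹ * l * x) := by group
      _ = x * l * (x * l * x⁻¹) := by rw [hxinv]
      _ = x * (l * (x * l * x⁻¹)) := by group
  · set C := (L ⊔ Lx) ⊓ Subgroup.centralizer ({x} : Set G) with hC
    have hπC : ∀ l : L, π l ∈ C := by
      intro l
      refine Subgroup.mem_inf.mpr ⟨?_, ?_⟩
      · rw [hπ]
        exact Subgroup.mul_mem _ (Subgroup.mem_sup_left l.2) (Subgroup.mem_sup_right (hmemLx l l.2))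
      · rw [Subgroup.mem_centralizer_singleton_iff, hπ]
        have h := hc l l.2 _ (hmemLx l l.2)
        calc (l : G) * (x * l * x⁻¹) * x = (x * l * x⁻¹) * l * x := by rw [h]
          _ = x * l * (x⁻¹ * l * x) := by group
          _ = x * l * (x * l * x⁻¹) := by rw [hxinv]
          _ = x * (l * (x * l * x⁻¹)) := by group
    -- decomposition of elements of C
    have hform : ∀ c ∈ C, ∃ (d : L) (z : G), z ∈ L ∧ z ∈ Lx ∧ c = π d * z := by
      intro c hcC
      obtain ⟨hc1, hc2⟩ := Subgroup.mem_inf.mp hcC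
      have hsup :=
        Subgroup.coe_mul_of_left_le_normalizer_right L Lx (hLC.trans (Subgroup.centralizer_le_normalizer _))
      have hc1' : c ∈ ((L ⊔ Lx : Subgroup G) : Set G) := hc1
      rw [hsup] at hc1'
      obtain ⟨a, ha, b, hb, rfl⟩ := hc1'
      obtain ⟨d, hd, rfl⟩ := hb
      change a * (x * d * x⁻¹) ∈ _ at hc2
      have hcx : x * (a * (x * d * x⁻¹)) * x⁻¹ = a * (x * d * x⁻¹) := by
        have := Subgroup.mem_centralizer_singleton_iff.mp hc2
        rw [← this]
        group
      have h1 : (x * a * x⁻¹) * d = a * (x * d * x⁻¹) := by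
        have hxx' : x⁻¹ * x⁻¹ = 1 := by rw [hxinv]; exact hxx
        calc x * a * x⁻¹ * d = x * a * x⁻¹ * ((x * x) * d * (x⁻¹ * x⁻¹)) := by
              rw [hxx, hxx', one_mul, mul_one]
          _ = x * (a * (x * d * x⁻¹)) * x⁻¹ := by group
          _ = a * (x * d * x⁻¹) := hcx
      have h2 : d * (x * a * x⁻¹) = a * (x * d * x⁻¹) := by
        rw [hc d hd _ (hmemLx a ha), h1]
      set z := d⁻¹ * a with hz
      have hzL : z ∈ L := Subgroup.mul_mem _ (Subgroup.inv_mem _ hd) ha
      have hzLx : z ∈ Lx := by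
        have : z = x * (a * d⁻¹) * x⁻¹ := by
          have h3 : d⁻¹ * (a * (x * d * x⁻¹)) = x * a * x⁻¹ := by
            rw [← h2]; group
          calc z = d⁻¹ * a := rfl
            _ = (d⁻¹ * (a * (x * d * x⁻¹))) * (x * d * x⁻¹)⁻¹ := by group
            _ = (x * a * x⁻¹) * (x * d * x⁻¹)⁻¹ := by rw [h3]
            _ = x * (a * d⁻¹) * x⁻¹ := by group
        rw [this]
        exact hmemLx _ (Subgroup.mul_mem _ ha (Subgroup.inv_mem _ hd))
      refine ⟨⟨d, hd⟩, z, hzL, hzLx, ?_⟩
      rw [hπ]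
      have h4 : a = d * z := by rw [hz]; group
      have h5 := hc z hzL _ (hmemLx d hd)
      show a * (x * d * x⁻¹) = d * (x * d * x⁻¹) * z
      calc a * (x * d * x⁻¹) = d * z * (x * d * x⁻¹) := by rw [← h4]
        _ = d * (z * (x * d * x⁻¹)) := by group
        _ = d * ((x * d * x⁻¹) * z) := by rw [h5]
        _ = d * (x * d * x⁻¹) * z := by group
    apply le_antisymm
    · rw [Subgroup.commutator_le]
      intro c hcC c' hcC'
      obtain ⟨d, z, hz1, hz2, rfl⟩ := hform c hcC
      obtain ⟨d', z', hz1', hz2', rfl⟩ := hform c' hcC'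
      -- commutation facts
      have hzp : ∀ (w : G), w ∈ L → w ∈ Lx → ∀ e : L, w * π e = π e * w := by
        intro w hw1 hw2 e
        rw [hπ]
        have h6 := hc e e.2 w hw2
        have h7 := hc w hw1 _ (hmemLx e e.2)
        calc w * ((e : G) * (x * e * x⁻¹)) = (w * e) * (x * e * x⁻¹) := by group
          _ = (e * w) * (x * e * x⁻¹) := by rw [h6]
          _ = e * (w * (x * e * x⁻¹)) := by group
          _ = e * ((x * e * x⁻¹) * w) := by rw [h7]
          _ = _ := by group
      have hzz : z * z' = z' * z := hc z hz1 z' hz2'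
      refine ⟨d * d' * d⁻¹ * d'⁻¹, ?_⟩
      change π (d * d' * d⁻¹ * d'⁻¹) = (π d * z) * (π d' * z') * (π d * z)⁻¹ * (π d' * z')⁻¹
      simp only [map_mul, map_inv]
      have e1 : π d * z * (π d' * z') = π d * π d' * (z * z') := by
        rw [mul_assoc, ← mul_assoc z, hzp z hz1 hz2 d', mul_assoc, mul_assoc]
      have e2 : π d' * z' * (π d * z) = π d' * π d * (z' * z) := by
        rw [mul_assoc, ← mul_assoc z', hzp z' hz1' hz2' d, mul_assoc, mul_assoc]
      calc π d * π d' * (π d)⁻¹ * (π d')⁻¹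
          = (π d * π d' * (z * z')) * (π d' * π d * (z' * z))⁻¹ := by rw [hzz]; group
        _ = (π d * z * (π d' * z')) * (π d' * z' * (π d * z))⁻¹ := by rw [e1, e2]
        _ = _ := by group
    · -- range ≤ commutator
      have htop : commutator L = ⊤ := by
        apply Subgroup.map_injective L.subtype_injective
        rw [commutator_def, Subgroup.map_commutator]
        rw [← MonoidHom.range_eq_map, Subgroup.range_subtype]
        exact hperf
      rintro _ ⟨l, rfl⟩
      have hl : l ∈ commutator L := by rw [htop]; trivial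
      have hle : commutator L ≤ (⁅C, C⁆).comap π := by
        rw [commutator_def, Subgroup.commutator_le]
        intro a _ b _
        rw [Subgroup.mem_comap]
        change π (a * b * a⁻¹ * b⁻¹) ∈ _
        simp only [map_mul, map_inv]
        exact Subgroup.commutator_mem_commutator (hπC a) (hπC b)
      exact hle hl

end Cfsg.Agent.S1314
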