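import Cfsg.Statements.S1691
import Mathlib
import Cfsg.Agent.Lib.Basic.CoxAbel
-- import your own Cfsg.Agent.* helpers here

set_option autoImplicit false
open Cfsg

namespace Cfsg.Agent.S1691

open Cfsg.Agent.Lib.Basic.CoxAbel Cfsg.Spor

/-- The commutator subgroup of the presented group Fi₂₄ has index 2 (the presented group is Fi₂₄′:2 with Fi₂₄′ its derived subgroup). -/
theorem result : (commutator Cfsg.Spor.Fi24).index = 2 := by
  let rels := coxRelators Fi24.edges ∪ {r | r ∈ Fi24.extra}
  let g : Fi24.Gen → Cfsg.Spor.Fi24 := fun x => PresentedGroup.of x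
  have hinv : ∀ x : Fi24.Gen, x ∈ coxNodes Fi24.edges → g x * g x = 1 := by
    intro x hx
    have h : (FreeGroup.of x * FreeGroup.of x) ^ coxLabel Fi24.edges x x ∈ rels :=
      Or.inl ⟨x, hx, x, hx, rfl⟩
    have h1 := PresentedGroup.one_of_mem h
    have h2 : coxLabel Fi24.edges x x = 1 := by simp [coxLabel]
    rw [h2, pow_one, map_mul] at h1
    exact h1
  have hbraid : ∀ x y : Fi24.Gen, x ∈ coxNodes Fi24.edges → y ∈ coxNodes Fi24.edges →
      coxLabel Fi24.edges x y = 3 →
      (QuotientGroup.mk (g x) : Cfsg.Spor.Fi24 ⧸ commutator Cfsg.Spor.Fi24) = QuotientGroup.mk (g y) := by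
    intro x y hx hy hxy
    apply mk_eq_of_braid (hinv x hx) (hinv y hy)
    have h : (FreeGroup.of x * FreeGroup.of y) ^ coxLabel Fi24.edges x y ∈ rels :=
      Or.inl ⟨x, hx, y, hy, rfl⟩
    have h1 := PresentedGroup.one_of_mem h
    rw [hxy, map_pow, map_mul] at h1
    exact h1
  have hall : ∀ x : Fi24.Gen, (QuotientGroup.mk (g x) : Cfsg.Spor.Fi24 ⧸ commutator Cfsg.Spor.Fi24) = QuotientGroup.mk (g .d) := by
    have e1 := hbraid .l .k (by decide) (by decide) (by decide)
    have e2 := hbraid .k .a (by decide) (by decide) (by decide)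
    have e3 := hbraid .a .b (by decide) (by decide) (by decide)
    have e4 := hbraid .b .c (by decide) (by decide) (by decide)
    have e5 := hbraid .c .d (by decide) (by decide) (by decide)
    have e6 := hbraid .d .e (by decide) (by decide) (by decide)
    have e7 := hbraid .d .h (by decide) (by decide) (by decide)
    have e8 := hbraid .e .f (by decide) (by decide) (by decide)
    have e9 := hbraid .f .g (by decide) (by decide) (by decide)
    have e10 := hbraid .g .j (by decide) (by decide) (by decide)
    have e11 := hbraid .h .i (by decide) (by decide) (by decide)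
    intro x
    cases x
    · rw [e1, e2, e3, e4, e5]
    · rw [e2, e3, e4, e5]
    · rw [e3, e4, e5]
    · rw [e4, e5]
    · rw [e5]
    · rfl
    · rw [← e6]
    · rw [← e8, ← e6]
    · rw [← e9, ← e8, ← e6]
    · rw [← e10, ← e9, ← e8, ← e6]
    · rw [← e7]
    · rw [← e11, ← e7]
  have hrels : ∀ r ∈ rels, FreeGroup.lift (signGen Fi24.Gen) r = 1 := by
    intro r hr
    rcases hr with hr | hr
    · exact lift_signGen_cox _ r hr
    · have hr' : r ∈ Fi24.extra := hr
      simp only [Fi24.extra, List.mem_cons, List.not_mem_nil, or_false] at hr'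
      rcases hr' with rfl | rfl
      · simp only [map_mul, map_inv, map_pow, FreeGroup.lift_apply_of, signGen]
        decide
      · simp only [map_mul, map_pow, FreeGroup.lift_apply_of, signGen]
        decide
  let φ : Cfsg.Spor.Fi24 →* Multiplicative (ZMod 2) := PresentedGroup.toGroup hrels
  have hφ : φ (g .d) ≠ 1 := by
    show PresentedGroup.toGroup hrels (PresentedGroup.of Fi24.Gen.d) ≠ 1
    rw [PresentedGroup.toGroup.of]
    decide
  refine index_commutator_eq_two (S := Set.range g) (PresentedGroup.closure_range_of _) (g .d)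
    (hinv .d (by decide)) ?_ φ hφ
  rintro _ ⟨x, rfl⟩
  exact hall x

end Cfsg.Agent.S1691
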