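import Cfsg.Statements.S0358
import Cfsg.Agent.Lib.Compute.Golay
-- import your own Cfsg.Agent.* helpers here

set_option autoImplicit false
open Cfsg

namespace Cfsg.Agent.S0358

open Cfsg.Agent.Lib.Compute.Golay in
/-- The code has exactly 4096 words. -/
theorem card_golayCode : Nat.card Cfsg.golayCode = 4096 := by
  have hinj : Set.InjOn maskWord {m | m ∈ codeMasks} := fun a ha b hb h =>
    maskWord_injOn (codeMasks_lt a ha) (codeMasks_lt b hb) h
  have himg : (Cfsg.golayCode : Set (Cfsg.GolayPt → ZMod 2)) = maskWord '' {m | m ∈ codeMasks} := by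
    ext w
    constructor
    · intro hw
      obtain ⟨m, hm, rfl⟩ := exists_mask_of_mem_code hw
      exact ⟨m, hm, rfl⟩
    · rintro ⟨m, hm, rfl⟩
      exact mem_code_of_mem_codeMasks hm
  have h1 : Nat.card Cfsg.golayCode = (maskWord '' {m | m ∈ codeMasks}).ncard := by
    rw [← himg]
    rfl
  rw [h1, Set.ncard_image_of_injOn hinj]
  have h2 : {m | m ∈ codeMasks} = (codeMasks.toFinset : Set ℕ) := by
    ext; simp
  rw [h2, Set.ncard_coe_finset, List.toFinset_card_of_nodup codeMasks_nodup, codeMasks_length]

/-- The length-24 code built from the squares modulo 23 has dimension 12 over the field with two elements. -/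
theorem result : Module.finrank (ZMod 2) Cfsg.golayCode = 12 := by
  have hcard := Module.natCard_eq_pow_finrank (K := ZMod 2) (V := Cfsg.golayCode)
  rw [card_golayCode, Nat.card_zmod] at hcard
  have h4096 : (4096 : ℕ) = 2 ^ 12 := by norm_num
  rw [h4096] at hcard
  exact (Nat.pow_right_injective (le_refl 2) hcard).symm

end Cfsg.Agent.S0358
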