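import Cfsg.Statements.S2063
import Cfsg.Agent.Lib.Compute.M24Out

set_option autoImplicit false
open Cfsg

namespace Cfsg.Agent.S2063

open Cfsg.Agent.Lib.Compute.Golay Cfsg.Agent.Lib.Compute.GolayFast
open Cfsg.Agent.Lib.Compute.M24 Cfsg.Agent.Lib.Compute.M24Enum Cfsg.Agent.Lib.Compute.M24Norm
open Cfsg.Agent.Lib.Compute.OutCert Cfsg.Agent.Lib.Compute.M24Out

/-- The generators. -/
def gensT : List (List ℕ) := [aL, muL, dlL]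

/-- The candidates for the images of the generators. -/
def candsC : List (List (List ℕ)) := [[aL, powL aL 22], [muL], mu3acc]

/-- The relators. -/
def relsW : List (List ℕ) := [[2, 0, 2, 0, 2, 0, 2, 0, 2, 0, 2, 0], [2, 2, 0, 2, 2, 0, 2, 2, 0, 2, 2, 0, 2, 2, 0]]

/-- A stabilizer chain of the stabilizer of the point `23`. -/
def chainL : List Level := [⟨0,[[0,1,2,3,4,5,6,7,8,9,10,11,12,13,14,15,16,17,18,19,20,21,22,23],[1,2,3,4,5,6,7,8,9,10,11,12,13,14,15,16,17,18,19,20,21,22,0,23],[2,3,4,5,6,7,8,9,10,11,12,13,14,15,16,17,18,19,20,21,22,0,1,23],[3,4,5,6,7,8,9,10,11,12,13,14,15,16,17,18,19,20,21,22,0,1,2,23],[4,6,8,10,12,14,16,18,20,22,1,3,5,7,9,11,13,15,17,19,21,0,2,23],[5,7,9,11,13,15,17,19,21,0,2,4,6,8,10,12,14,16,18,20,22,1,3,23],[6,3,2,21,1,5,16,12,7,19,8,9,17,15,13,11,4,22,10,20,14,0,18,23],[7,4,3,22,2,6,17,13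,8,20,9,10,18,16,14,12,5,0,11,21,15,1,19,23],[8,12,16,20,1,5,9,13,17,21,2,6,10,14,18,22,3,7,11,15,19,0,4,23],[9,8,1,2,22,6,7,12,18,17,15,13,4,19,5,3,14,16,20,10,11,21,0,23],[10,14,18,22,3,7,11,15,19,0,4,8,12,16,20,1,5,9,13,17,21,2,6,23],[11,15,19,0,4,8,12,16,20,1,5,9,13,17,21,2,6,10,14,18,22,3,7,23],[12,6,4,19,2,10,9,1,14,15,16,18,11,7,3,22,8,21,20,17,5,0,13,23],[13,12,6,4,19,2,10,9,1,14,15,16,18,11,7,3,22,8,21,20,17,5,0,23],[14,13,7,5,20,3,11,10,2,15,16,17,19,12,8,4,0,9,22,21,18,6,1,23],[15,14,8,6,21,4,12,11,3,16,17,18,20,13,9,5,1,10,0,22,19,7,2,23],[16,1,9,17,2,10,18,3,11,19,4,12,20,5,13,21,6,14,22,7,15,0,8,23],[17,16,10,8,0,6,14,13,5,18,19,20,22,15,11,7,3,12,2,1,21,9,4,23],[18,6,3,2,21,1,5,16,12,7,19,8,9,17,15,13,11,4,22,10,20,14,0,23],[19,7,4,3,22,2,6,17,13,8,20,9,10,18,16,14,12,5,0,11,21,15,1,23],[20,8,5,4,0,3,7,18,14,9,21,10,11,19,17,15,13,6,1,12,22,16,2,23],[21,5,12,19,9,15,11,22,20,0,6,2,1,16,7,8,17,13,4,10,14,18,3,23],[22,5,2,3,14,6,1,11,9,16,10,12,7,4,13,17,8,21,0,19,20,15,18,23]],[]⟩,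
  ⟨1,[[0,1,2,3,4,5,6,7,8,9,10,11,12,13,14,15,16,17,18,19,20,21,22,23],[0,2,18,14,22,13,8,1,16,17,7,21,15,10,9,4,3,6,5,11,20,12,19,23],[0,3,8,20,12,18,11,5,4,10,1,2,9,19,15,13,7,14,21,16,6,22,17,23],[0,4,2,11,1,5,14,15,8,18,17,3,21,13,6,7,22,10,9,19,20,12,16,23],[0,5,16,19,14,12,17,6,21,3,22,18,2,4,10,8,9,1,15,7,11,13,20,23],[0,6,12,11,10,22,8,21,9,3,20,4,1,7,19,16,18,13,17,5,2,14,15,23],[0,7,19,13,17,4,22,20,18,1,21,5,11,8,9,2,12,10,14,16,6,15,3,23],[0,8,3,7,2,19,22,5,13,15,18,10,6,21,12,20,4,17,1,16,14,11,9,23],[0,9,14,1,5,19,18,6,3,17,7,11,10,16,22,15,4,8,12,13,21,2,20,23],[0,10,12,16,8,19,17,21,15,9,3,7,18,4,1,11,22,5,6,2,14,13,20,23],[0,11,6,22,21,19,1,15,10,9,7,2,5,17,12,8,18,13,4,14,20,16,3,23],[0,12,8,2,3,18,15,13,4,21,14,20,22,19,11,5,17,1,10,16,6,9,7,23],[0,13,18,6,11,14,5,4,17,21,7,19,1,16,2,8,20,9,15,12,22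,3,10,23],[0,14,22,17,4,16,1,9,5,21,2,13,10,3,12,20,7,18,15,8,11,19,6,23],[0,15,5,20,6,17,7,8,22,18,16,13,10,19,11,2,3,12,14,4,21,1,9,23],[0,16,13,15,22,8,21,3,5,10,18,7,6,2,12,11,4,9,17,19,20,14,1,23],[0,17,21,22,8,19,10,12,7,18,11,15,9,1,4,3,16,5,14,2,6,13,20,23],[0,18,17,8,3,10,16,22,19,7,4,15,1,6,5,2,21,9,13,14,20,12,11,23],[0,19,10,1,3,16,15,21,13,6,17,4,9,18,12,14,2,5,7,11,20,8,22,23],[0,20,4,6,9,21,2,18,12,1,3,8,10,16,13,19,5,15,22,7,11,17,14,23],[0,21,16,20,12,17,14,13,2,6,22,18,5,11,1,10,4,8,15,19,9,3,7,23],[0,22,18,21,2,13,9,4,16,5,6,14,12,10,8,1,19,7,17,11,20,15,3,23]],[]⟩,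
  ⟨2,[[0,1,2,3,4,5,6,7,8,9,10,11,12,13,14,15,16,17,18,19,20,21,22,23],[0,1,3,17,18,5,12,22,6,11,4,13,8,9,14,20,7,2,10,15,19,21,16,23],[0,1,4,7,9,5,14,21,13,19,20,16,22,12,15,11,6,8,2,18,3,10,17,23],[0,1,5,11,12,21,6,22,15,17,14,8,4,16,13,3,10,9,7,18,2,20,19,23],[0,1,6,4,19,9,5,22,8,16,15,3,10,7,17,14,2,12,13,20,11,18,21,23],[0,1,7,3,2,9,22,10,15,13,12,5,4,21,18,20,6,16,8,17,14,11,19,23],[0,1,8,3,5,13,19,9,11,16,20,2,12,4,6,21,7,10,18,14,17,22,15,23],[0,1,9,18,6,16,10,15,14,13,21,22,8,4,7,11,17,3,19,20,5,2,12,23],[0,1,10,8,12,3,9,15,22,4,14,11,17,19,13,21,5,6,7,2,18,20,16,23],[0,1,11,2,7,12,4,20,13,15,16,21,5,22,18,14,10,8,9,19,6,3,17,23],[0,1,12,15,4,3,13,20,19,2,18,5,16,17,21,11,9,22,10,7,8,14,6,23],[0,1,13,16,6,22,12,20,5,17,19,11,9,10,2,18,8,4,21,14,15,7,3,23],[0,1,14,22,17,8,4,21,16,12,13,11,6,2,19,20,3,9,15,10,7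,18,5,23],[0,1,15,8,10,4,16,14,21,19,17,3,12,20,7,18,9,5,22,6,13,11,2,23],[0,1,16,13,5,2,15,14,17,7,18,21,8,19,22,3,12,4,20,11,9,6,10,23],[0,1,17,21,12,8,19,18,2,10,7,3,5,6,20,11,4,16,14,15,22,13,9,23],[0,1,18,5,19,6,8,2,7,14,4,16,9,15,20,21,17,22,3,12,10,11,13,23],[0,1,19,5,9,16,17,18,3,6,2,11,4,14,10,7,22,12,20,13,21,15,8,23],[0,1,20,9,16,2,12,13,4,5,6,3,19,17,15,22,21,10,11,7,18,14,8,23],[0,1,21,6,22,19,4,14,9,16,17,5,13,12,7,8,15,2,11,18,20,10,3,23],[0,1,22,14,16,19,7,10,12,18,20,15,3,13,8,5,4,9,21,11,6,17,2,23]],[]⟩,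
  ⟨3,[[0,1,2,3,4,5,6,7,8,9,10,11,12,13,14,15,16,17,18,19,20,21,22,23],[0,1,2,4,11,13,7,21,5,10,15,3,17,8,16,9,18,22,14,19,20,6,12,23],[0,1,2,5,22,14,11,8,9,7,21,20,10,13,3,19,4,17,15,18,6,12,16,23],[0,1,2,6,14,7,10,20,13,18,8,16,4,3,19,12,5,21,22,15,11,9,17,23],[0,1,2,7,17,19,16,13,18,20,9,11,8,3,6,15,14,21,12,22,10,4,5,23],[0,1,2,8,17,18,4,13,15,6,7,20,9,5,11,19,3,12,10,16,21,22,14,23],[0,1,2,9,17,15,22,13,19,11,8,6,7,14,20,18,5,10,21,4,12,16,3,23],[0,1,2,10,6,9,14,17,4,11,18,13,16,21,20,12,7,15,22,3,8,5,19,23],[0,1,2,11,3,8,21,6,13,15,9,4,22,5,18,10,14,12,16,19,20,7,17,23],[0,1,2,12,20,8,5,17,16,6,19,13,22,10,11,21,9,18,4,14,7,3,15,23],[0,1,2,13,12,16,3,5,10,21,6,20,15,8,4,19,11,22,9,14,7,17,18,23],[0,1,2,14,16,3,20,9,7,8,12,6,21,13,5,18,22,17,19,15,11,10,4,23],[0,1,2,15,3,20,6,19,11,13,16,12,8,14,9,4,17,10,18,21,2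2,7,5,23],[0,1,2,16,18,4,20,10,21,5,17,7,6,8,13,14,12,22,19,9,3,15,11,23],[0,1,2,17,20,5,13,22,18,7,19,8,12,15,3,6,10,14,11,16,21,4,9,23],[0,1,2,18,14,11,20,15,6,13,22,21,7,5,8,16,17,12,19,10,4,9,3,23],[0,1,2,19,5,6,11,18,20,13,4,10,9,3,7,22,17,21,15,12,16,8,14,23],[0,1,2,20,5,9,12,11,13,19,7,22,16,14,15,21,3,10,4,18,6,8,17,23],[0,1,2,21,11,7,3,17,22,20,15,13,4,12,6,10,8,19,16,5,9,14,18,23],[0,1,2,22,20,13,8,12,14,21,19,5,17,9,4,7,15,16,3,18,6,11,10,23]],[]⟩,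
  ⟨4,[[0,1,2,3,4,5,6,7,8,9,10,11,12,13,14,15,16,17,18,19,20,21,22,23],[0,1,2,3,6,5,4,22,20,12,11,10,9,19,14,18,21,17,15,13,8,16,7,23],[0,1,2,3,7,17,20,10,11,13,4,18,12,19,5,22,6,14,8,9,16,15,21,23],[0,1,2,3,8,5,20,15,4,21,19,13,16,11,14,7,12,17,22,10,6,9,18,23],[0,1,2,3,9,14,13,22,8,21,6,18,11,10,17,19,15,5,12,16,7,4,20,23],[0,1,2,3,10,17,21,7,22,18,12,13,4,15,5,11,9,14,16,6,8,19,20,23],[0,1,2,3,11,17,16,22,7,15,9,19,6,18,5,10,12,14,21,4,20,13,8,23],[0,1,2,3,12,14,19,7,20,16,4,15,10,11,17,13,18,5,9,21,22,6,8,23],[0,1,2,3,13,17,12,18,15,7,21,10,20,22,5,19,16,14,9,8,6,11,4,23],[0,1,2,3,15,5,18,8,7,13,16,21,19,9,14,4,10,17,6,12,22,11,20,23],[0,1,2,3,16,17,11,8,20,6,19,9,15,4,5,21,13,14,10,18,7,12,22,23],[0,1,2,3,18,17,4,13,19,10,20,7,21,11,5,15,8,14,6,16,9,22,12,23],[0,1,2,3,19,14,12,8,22,10,15,4,16,21,17,9,6,5,13,11,20,18,7,23],[0,1,2,3,20,5,8,18,6,16,13,19,21,10,14,22,9,17,7,11,4,12,15,23],[0,1,2,3,21,14,11,18,4,9,20,22,13,19,17,10,7,5,16,12,15,8,6,23],[0,1,2,3,22,14,20,9,19,18,11,21,6,4,17,8,16,5,7,15,12,10,13,23]],[8536111]⟩,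
  ⟨5,[[0,1,2,3,4,5,6,7,8,9,10,11,12,13,14,15,16,17,18,19,20,21,22,23],[0,1,2,3,4,14,15,10,21,8,12,19,7,22,17,18,13,5,6,20,11,9,16,23],[0,1,2,3,4,17,18,12,9,21,7,20,10,16,5,6,22,14,15,11,19,8,13,23]],[8536111]⟩,
  ⟨6,[[0,1,2,3,4,5,6,7,8,9,10,11,12,13,14,15,16,17,18,19,20,21,22,23]],[2162811,8391797]⟩,
  ⟨7,[[0,1,2,3,4,5,6,7,8,9,10,11,12,13,14,15,16,17,18,19,20,21,22,23]],[262637,4325622]⟩,
  ⟨8,[[0,1,2,3,4,5,6,7,8,9,10,11,12,13,14,15,16,17,18,19,20,21,22,23]],[262637,525274]⟩,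
  ⟨9,[[0,1,2,3,4,5,6,7,8,9,10,11,12,13,14,15,16,17,18,19,20,21,22,23]],[525274,1050548]⟩,
  ⟨10,[[0,1,2,3,4,5,6,7,8,9,10,11,12,13,14,15,16,17,18,19,20,21,22,23]],[1050548,2101096]⟩,
  ⟨11,[[0,1,2,3,4,5,6,7,8,9,10,11,12,13,14,15,16,17,18,19,20,21,22,23]],[8391797]⟩,
  ⟨12,[[0,1,2,3,4,5,6,7,8,9,10,11,12,13,14,15,16,17,18,19,20,21,22,23]],[5279]⟩,
  ⟨13,[[0,1,2,3,4,5,6,7,8,9,10,11,12,13,14,15,16,17,18,19,20,21,22,23]],[10558]⟩,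
  ⟨14,[[0,1,2,3,4,5,6,7,8,9,10,11,12,13,14,15,16,17,18,19,20,21,22,23]],[18147]⟩,
  ⟨15,[[0,1,2,3,4,5,6,7,8,9,10,11,12,13,14,15,16,17,18,19,20,21,22,23]],[36294]⟩,
  ⟨16,[[0,1,2,3,4,5,6,7,8,9,10,11,12,13,14,15,16,17,18,19,20,21,22,23]],[69395]⟩,
  ⟨17,[[0,1,2,3,4,5,6,7,8,9,10,11,12,13,14,15,16,17,18,19,20,21,22,23]],[133817]⟩,
  ⟨18,[[0,1,2,3,4,5,6,7,8,9,10,11,12,13,14,15,16,17,18,19,20,21,22,23]],[262637]⟩,
  ⟨19,[[0,1,2,3,4,5,6,7,8,9,10,11,12,13,14,15,16,17,18,19,20,21,22,23]],[525274]⟩,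
  ⟨20,[[0,1,2,3,4,5,6,7,8,9,10,11,12,13,14,15,16,17,18,19,20,21,22,23]],[1050548]⟩,
  ⟨21,[[0,1,2,3,4,5,6,7,8,9,10,11,12,13,14,15,16,17,18,19,20,21,22,23]],[2101096]⟩,
  ⟨22,[[0,1,2,3,4,5,6,7,8,9,10,11,12,13,14,15,16,17,18,19,20,21,22,23]],[]⟩]

/-- A straight line program for the chain. -/
def progP : List (ℕ × ℕ) := [(1,1),(0,0),(1,0),(1,1),(0,0),(2,0),(8,8),(0,0),(0,0),(2,0),(13,13),(0,0),(6,6),(16,14),(8,2),(16,14),(3,10),(19,16),(21,17),(6,7),(21,6),(23,7),(7,12),(24,5),(26,6),(26,6),(6,20),(29,8),(29,7),(31,8),(33,9),(32,9),(35,10),(10,21),(36,10),(38,11),(38,11),(39,8),(39,3),(42,23),(23,0),(43,11),(15,0),(45,6),(10,0),(2,2),(1,1),(0,0),(0,0),(2,0),(5,9),(10,8),(7,9),(12,8),(11,9),(12,4),(11,5),(16,5),(17,12),(14,13),(14,10),(16,8),(17,7),(18,16),(21,8),(24,8),(25,7),(26,7),(7,0),(26,12),(9,0),(2,2),(0,0),(2,2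),(0,0),(1,0),(3,3),(6,8),(5,2),(10,8),(9,8),(12,3),(3,9),(12,5),(5,8),(16,5),(15,6),(18,13),(17,11),(20,7),(19,6),(6,15),(23,6),(22,6),(25,5),(26,1),(4,0),(26,24),(15,0),(2,2),(1,1),(2,4),(2,1),(6,4),(3,4),(6,5),(9,5),(8,5),(5,7),(10,5),(13,2),(2,11),(15,2),(14,3),(17,9),(11,15),(19,5),(20,4),(21,3),(18,3),(21,5),(9,0),(23,4),(21,0),(4,4),(3,3),(2,2),(5,7),(4,8),(9,7),(6,8),(9,6),(8,7),(11,5),(12,5),(13,8),(12,3),(7,0),(0,0)]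

theorem chain_ok : chainCheck inM24 [] [23] chainL = true := by decide +kernel

theorem slp_ok :
    chainL.all (fun lv => lv.T.all (fun L => (slpRun (idL :: gensT) progP).contains L)) = true := by decide +kernel

theorem gens_valid : ∀ L ∈ gensT, validL L = true := by decide +kernel

theorem mem_M23_iff (g : P) : g ∈ Spor.M23 ↔ g ∈ M24 ∧ g (idxPt 23) = idxPt 23 := by
  simp only [Spor.M23, Subgroup.mem_inf, MulAction.mem_stabilizer_iff, Equiv.Perm.smul_def]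
  rfl

theorem gens_mem : ∀ L ∈ gensT, ofL L ∈ Spor.M23 := by
  intro L hL
  have h1 : ∀ L ∈ gensT, inM24 L = true ∧ L.getD 23 0 = 23 := by decide +kernel
  rw [mem_M23_iff]
  refine ⟨mem_M24_of_inM24 (codes_ofL (gens_valid L hL)) (h1 L hL).1, ?_⟩
  rw [ofL_apply (gens_valid L hL) (by norm_num), (h1 L hL).2]

theorem rels_ok : ∀ w ∈ relsW, evalWord gensT w = idL := by decide +kernel

theorem sections_ok : sectionsOK gensT candsC relsW = true := by decide +kernel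

theorem gen_le : Spor.M23 ≤ Subgroup.closure (setOf gensT) := by
  intro g hg
  have h1 : g ∈ fixIn M24 [23] := by
    rw [mem_M23_iff] at hg
    refine ⟨hg.1, fun i hi => ?_⟩
    rw [List.mem_singleton.1 hi]
    exact hg.2
  exact chain_le_closure gens_valid progP chainL slp_ok (chain_gen ctxM24 [23] chainL chain_ok g h1)

theorem A_mem' : A ∈ Spor.M23 := gens_mem aL (by simp [gensT])
theorem Mu_mem' : Mu ∈ Spor.M23 := gens_mem muL (by simp [gensT])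
theorem Dl_mem' : Dl ∈ Spor.M23 := gens_mem dlL (by simp [gensT])

theorem M23_le : Spor.M23 ≤ M24 := fun _ hg => ((mem_M23_iff _).1 hg).1

theorem fixed (F : P → P) (hF : PHom Spor.M23 F) (e : ℕ) (he : e = 1 ∨ e = 23 - 1) (hA : F A = A ^ e)
    (hMu : F Mu = Mu) : ∀ x ∈ Spor.M23, F x = x := by
  have h3 : Dl * Mu = Mu ^ 3 * Dl :=
    mul_eq_pow_mul (by rw [toL_Dl, toL_Mu]; decide +kernel)
  have hδ := mu3_mem (M23_le (hF.mem Dl Dl_mem')) (rel_image hF Dl_mem' Mu_mem' h3 hMu)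
  refine finish hF gens_valid gens_mem gen_le rels_ok ?_ sections_ok
  refine .cons ?_ (.cons ?_ (.cons hδ .nil))
  · show toL (F A) ∈ _
    rw [hA]
    rcases he with rfl | rfl
    · simp [toL_A]
    · rw [toL_pow, toL_A]
      simp
  · show toL (F Mu) ∈ _
    rw [hMu, toL_Mu]
    simp

/-- The outer automorphism group of the Mathieu group M₂₃ is trivial: every automorphism is inner. -/
theorem result : Nat.card (Cfsg.Out ↥Cfsg.Spor.M23) = 1 := by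
  have : Fact (Nat.Prime 23) := ⟨by norm_num⟩
  refine card_out_eq_one fun φ => mem_inn_of_isInnerF ?_
  refine inner_of_rigid (π := A) (ρ := Mu) (p := 23) (r := 2) A_mem' Mu_mem'
    (not_sq_dvd_card M23_le (by norm_num)) (pow_eq_one_of (by rw [toL_A]; decide +kernel))
    (ne_one_of (by rw [toL_A]; decide +kernel))
    (mul_eq_pow_mul (by rw [toL_A, toL_Mu]; decide +kernel))
    (exp_of_check (by norm_num) (by decide +kernel)) ?_ fixed (pHom_ofAut φ)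
  intro x hx hr
  exact conj_form validL_aL validL_muL (by decide +kernel) a2acc_eq (a2_mem (M23_le hx) hr)

end Cfsg.Agent.S2063
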