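import Cfsg.Statements.S2061
import Cfsg.Agent.Lib.Compute.M12Data

set_option autoImplicit false
open Cfsg

namespace Cfsg.Agent.S2061

open Cfsg.Agent.Lib.Compute.Golay Cfsg.Agent.Lib.Compute.GolayFast
open Cfsg.Agent.Lib.Compute.M24 Cfsg.Agent.Lib.Compute.M24Enum Cfsg.Agent.Lib.Compute.M24Norm
open Cfsg.Agent.Lib.Compute.OutCert Cfsg.Agent.Lib.Compute.M24Out Cfsg.Agent.Lib.Compute.M12Data

/-- The table of an element normalising `δ` and fixing `0`. -/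
def faL : List ℕ := [0,1,18,3,6,11,2,14,16,13,19,20,12,8,10,23,9,5,4,7,17,22,21,15]

/-- The table of an element normalising `δ` and moving `0`. -/
def fbL : List ℕ := [3,8,16,0,12,5,9,10,2,6,21,17,18,4,11,15,1,22,13,19,7,20,14,23]

/-- The generators. -/
def gensT : List (List ℕ) := [muL, dlL, faL, fbL]

/-- The candidates for the images of the generators. -/
def candsC : List (List (List ℕ)) := [[muL], [dlL], dl12acc, dl12acc]

/-- The relators. -/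
def relsW : List (List ℕ) := [[3,1,3,2,2],[2,3,0,2,3,0,2,3,0],[0,3,1,1,0,3,1,1,0,3,1,1]]

/-- The first levels of a stabilizer chain. -/
def chainL : List Level := [⟨0,[[0,1,2,3,4,5,6,7,8,9,10,11,12,13,14,15,16,17,18,19,20,21,22,23],[1,13,12,0,18,7,4,10,2,8,22,19,9,16,14,5,6,20,3,15,17,11,21,23],[2,9,13,0,1,19,4,17,6,12,7,20,8,16,21,14,18,22,3,23,10,5,11,15],[3,8,16,0,12,5,9,10,2,6,21,17,18,4,11,15,1,22,13,19,7,20,14,23],[4,18,3,0,2,15,8,11,12,1,14,17,16,9,19,5,13,21,6,23,20,10,22,7],[6,16,9,0,1,10,18,20,4,12,19,11,13,8,22,7,2,21,3,15,14,17,5,23],[8,12,4,0,6,10,9,11,16,18,15,14,3,13,20,17,2,22,1,5,21,19,7,23],[9,1,6,3,8,21,13,7,12,18,19,17,4,2,14,10,16,20,0,15,11,22,5,23],[12,9,18,0,2,20,13,17,8,1,15,22,3,16,21,14,4,19,6,7,5,11,10,23],[13,1,2,3,16,22,8,14,12,4,7,5,6,18,10,19,9,17,0,23,20,21,11,15],[16,6,4,3,8,19,12,22,9,18,10,7,2,1,20,11,13,14,0,23,21,5,17,15],[18,6,13,3,16,7,4,22,2,8,15,14,0,1,20,11,12,19,9,10,5,17,21,23]],[340831]⟩,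
  ⟨1,[[0,1,2,3,4,5,6,7,8,9,10,11,12,13,14,15,16,17,18,19,20,21,22,23],[0,2,6,4,12,5,8,22,9,1,21,14,18,3,10,7,16,11,13,15,19,17,20,23],[0,3,16,12,2,15,18,20,4,8,23,21,6,13,14,22,9,7,1,19,11,17,10,5],[0,4,9,18,1,11,13,19,3,16,5,21,2,12,15,20,6,22,8,10,14,7,17,23],[0,6,4,3,2,22,9,19,16,18,17,10,13,8,7,5,1,23,12,21,15,11,20,14],[0,8,2,3,4,20,16,23,12,1,21,19,9,18,17,22,13,11,6,14,5,7,15,10],[0,9,13,8,18,21,6,11,2,4,19,5,3,12,14,7,1,20,16,17,23,15,22,10],[0,12,1,18,9,17,3,22,8,6,10,19,13,16,5,11,2,7,4,23,20,15,14,21],[0,13,2,12,16,10,4,7,1,9,19,20,18,8,23,15,6,17,3,5,22,14,11,21],[0,16,9,18,1,14,8,7,4,2,23,22,3,6,10,17,13,15,12,21,11,5,20,19],[0,18,4,3,2,15,12,11,6,13,14,23,16,1,21,20,9,7,8,10,22,17,5,19]],[340831]⟩,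
  ⟨2,[[0,1,2,3,4,5,6,7,8,9,10,11,12,13,14,15,16,17,18,19,20,21,22,23],[0,1,3,12,13,15,2,17,18,4,11,7,16,8,21,19,6,22,9,14,20,5,10,23],[0,1,4,2,18,17,6,19,13,8,5,14,9,12,11,23,16,21,3,22,7,10,20,15],[0,1,6,3,12,17,16,14,8,4,19,21,18,2,7,10,13,20,9,23,22,11,5,15],[0,1,8,4,18,5,9,22,6,16,17,10,3,12,15,20,2,7,13,14,21,19,11,23],[0,1,9,13,12,5,2,10,16,8,22,7,18,4,21,19,6,11,3,20,14,15,17,23],[0,1,12,6,2,11,3,15,4,18,5,19,13,16,10,17,9,20,8,23,7,22,14,21],[0,1,13,16,9,7,18,19,12,8,20,5,6,4,10,11,3,21,2,17,22,23,14,15],[0,1,16,6,18,14,12,10,4,8,17,22,2,9,15,21,3,11,13,5,20,19,7,23],[0,1,18,16,13,11,12,5,9,4,14,15,8,2,22,23,3,19,6,7,10,17,20,21]],[340831]⟩,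
  ⟨3,[[0,1,2,3,4,5,6,7,8,9,10,11,12,13,14,15,16,17,18,19,20,21,22,23],[0,1,2,4,3,15,13,10,18,16,7,23,12,6,21,5,9,17,8,19,20,14,22,11],[0,1,2,6,3,21,16,11,8,18,22,17,9,12,19,14,4,23,13,20,15,5,10,7],[0,1,2,8,13,5,18,7,3,12,17,11,9,4,21,19,16,10,6,15,20,14,23,22],[0,1,2,9,16,23,18,14,6,4,21,5,12,8,10,11,3,20,13,22,17,7,19,15],[0,1,2,12,8,20,3,23,16,4,11,10,18,13,19,21,9,22,6,14,15,5,7,17],[0,1,2,13,18,11,6,21,16,12,20,15,3,9,10,22,4,14,8,23,17,7,5,19],[0,1,2,16,9,11,8,21,13,3,14,15,12,18,7,23,4,20,6,22,17,10,19,5],[0,1,2,18,9,7,3,5,6,13,19,20,4,12,22,10,16,15,8,17,11,23,21,14]],[340831]⟩,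
  ⟨4,[[0,1,2,3,4,5,6,7,8,9,10,11,12,13,14,15,16,17,18,19,20,21,22,23],[0,1,2,3,6,14,12,22,13,4,11,7,9,16,5,21,18,23,8,20,15,19,10,17],[0,1,2,3,8,17,18,15,12,13,19,21,16,6,23,10,4,5,9,7,11,22,20,14],[0,1,2,3,9,14,4,11,18,12,22,10,6,8,5,20,13,23,16,21,19,15,7,17],[0,1,2,3,12,5,9,10,16,6,7,22,4,18,14,19,8,17,13,15,21,20,11,23],[0,1,2,3,13,23,8,21,9,16,20,19,18,12,17,11,6,14,4,22,7,10,15,5],[0,1,2,3,16,17,13,19,4,18,15,20,8,9,23,7,12,5,6,10,22,11,21,14],[0,1,2,3,18,23,16,20,6,8,21,15,13,4,17,22,9,14,12,11,10,7,19,5]],[340831]⟩]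

/-- A straight line program for the chain. -/
def progP : List (ℕ × ℕ) := [(1,1),(0,0),(0,0),(2,0),(7,7),(8,0),(10,10),(11,0),(9,12),(1,5),(11,1),(13,2),(15,3),(3,7),(18,5),(17,4),(20,5),(18,4),(22,5),(22,4),(21,8),(7,0),(26,6),(9,0),(2,2),(3,0),(1,1),(1,0),(4,4),(0,0),(6,0),(3,3),(8,10),(5,2),(12,10),(3,7),(12,11),(13,4),(14,3),(15,13),(8,0),(7,14),(18,13),(7,0),(3,3),(0,0),(4,4),(0,0),(4,4),(5,0),(6,9),(3,3),(8,10),(5,3),(12,10),(14,1),(4,0),(15,4),(12,0),(2,2),(3,0),(2,2),(3,0),(6,4),(7,2),(3,4),(7,1),(1,4),(11,1),(1,0),(11,10),(14,0),(2,2),(3,0),(2,1),(3,5),(2,1)]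

theorem chain_ok : prefixCheck inM12 [dM] [] chainL = true := by decide +kernel

theorem endF_eq : endF [] chainL = [4, 3, 2, 1, 0] := by decide +kernel

theorem slp_ok :
    chainL.all (fun lv => lv.T.all (fun L => (slpRun (idL :: gensT) progP).contains L)) = true := by decide +kernel

theorem gens_valid : ∀ L ∈ gensT, validL L = true := by decide +kernel

theorem gens_mem : ∀ L ∈ gensT, ofL L ∈ Spor.M12 := by
  intro L hL
  exact mem_M12_of_inM12 ((by decide +kernel : ∀ L ∈ gensT, inM12 L = true) L hL) (codes_ofL (gens_valid L hL))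

theorem rels_ok : ∀ w ∈ relsW, evalWord gensT w = idL := by decide +kernel

theorem sections_ok : sectionsOK gensT candsC relsW = true := by decide +kernel

theorem gen_le : Spor.M12 ≤ Subgroup.closure (setOf gensT) := by
  intro g hg
  have h1 : g ∈ fixIn Spor.M12 [] := by rwa [fixIn_nil]
  refine chain_le_closure gens_valid progP chainL slp_ok
    (chain_gen_term ctxM12 [] chainL chain_ok ?_ g h1)
  rw [endF_eq]
  exact fix5_trivial

theorem Mu_mem' : Mu ∈ Spor.M12 := gens_mem muL (by simp [gensT])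
theorem Dl_mem' : Dl ∈ Spor.M12 := gens_mem dlL (by simp [gensT])
theorem fa_mem' : ofL faL ∈ Spor.M12 := gens_mem faL (by simp [gensT])
theorem fb_mem' : ofL fbL ∈ Spor.M12 := gens_mem fbL (by simp [gensT])

theorem M12_le : Spor.M12 ≤ M24 := fun _ hg => ((mem_M12_iff _).1 hg).1

theorem validL_faL : validL faL = true := gens_valid faL (by simp [gensT])
theorem validL_fbL : validL fbL = true := gens_valid fbL (by simp [gensT])

theorem Tau_inv : Tau⁻¹ = Tau := by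
  rw [inv_eq_iff_mul_eq_one]
  apply eq_of_toL
  rw [toL_mul, toL_Tau, toL_one]
  decide +kernel

theorem Tau_flip (p : GolayPt) : dM.testBit (ptIdx (Tau p)) = !dM.testBit (ptIdx p) := by
  have h1 : ∀ i < 24, dM.testBit (tauL.getD i 0) = !dM.testBit i := by decide +kernel
  have h2 := h1 _ (ptIdx_lt p)
  rw [show Tau = ofL tauL from rfl, (codes_ofL validL_tauL).ptIdx_apply validL_tauL]
  exact h2

theorem norm_Tau : ∀ x ∈ Spor.M12, Tau * x * Tau⁻¹ ∈ Spor.M12 := by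
  intro x hx
  rw [mem_M12_iff] at hx ⊢
  rw [Tau_inv]
  refine ⟨M24.mul_mem (M24.mul_mem Tau_mem hx.1) Tau_mem, fun p => ?_⟩
  simp only [Equiv.Perm.mul_apply]
  rw [Tau_flip, hx.2, Tau_flip, Bool.not_not]

theorem norm_Tau' : ∀ x ∈ Spor.M12, Tau⁻¹ * x * Tau ∈ Spor.M12 := by
  intro x hx
  have := norm_Tau x hx
  rw [Tau_inv] at this ⊢
  exact this

theorem Tau_ne : ∀ h ∈ Spor.M12, (h⁻¹ * Tau) (idxPt 0) ≠ idxPt 0 := by
  intro h hh heq
  have h1 := (mem_M12_iff _).1 (Spor.M12.inv_mem hh)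
  have h2 := h1.2 (Tau (idxPt 0))
  rw [← Equiv.Perm.mul_apply, heq, Tau_flip] at h2
  rw [ptIdx_idxPt (by norm_num)] at h2
  revert h2
  decide

theorem fixed (F : P → P) (hF : PHom Spor.M12 F) (hMu : F Mu = Mu) (hDl : F Dl = Dl) :
    ∀ x ∈ Spor.M12, F x = x := by
  have h2a : ofL faL * Dl = Dl ^ 2 * ofL faL :=
    mul_eq_pow_mul (by rw [toL_ofL validL_faL, toL_Dl]; decide +kernel)
  have h2b : ofL fbL * Dl = Dl ^ 2 * ofL fbL :=
    mul_eq_pow_mul (by rw [toL_ofL validL_fbL, toL_Dl]; decide +kernel)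
  have hya := (mem_M12_iff _).1 (hF.mem _ fa_mem')
  have hyb := (mem_M12_iff _).1 (hF.mem _ fb_mem')
  have hfa := dl12_mem hya.1 (rel_image hF fa_mem' Dl_mem' h2a hDl) (by
    intro m hm p
    rw [List.mem_singleton.1 hm]
    exact hya.2 p)
  have hfb := dl12_mem hyb.1 (rel_image hF fb_mem' Dl_mem' h2b hDl) (by
    intro m hm p
    rw [List.mem_singleton.1 hm]
    exact hyb.2 p)
  refine finish hF gens_valid gens_mem gen_le rels_ok ?_ sections_ok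
  refine .cons ?_ (.cons ?_ (.cons hfa (.cons hfb .nil)))
  · show toL (F Mu) ∈ _
    rw [hMu, toL_Mu]
    simp
  · show toL (F Dl) ∈ _
    rw [hDl, toL_Dl]
    simp

/-- The outer automorphism group of the Mathieu group M₁₂ (the stabiliser of a dodecad in the automorphism group of the length-24 binary code) has order 2. -/
theorem result : Nat.card (Cfsg.Out ↥Cfsg.Spor.M12) = 2 :=
  card_out_two M12_le Mu_mem' Dl_mem' norm_Tau norm_Tau' Tau_ne fixed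

end Cfsg.Agent.S2061
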