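import Cfsg.Statements.S0945
import Mathlib
import Cfsg.Agent.Lib.Transfer.HomocyclicSylow

set_option autoImplicit false
open Cfsg

namespace Cfsg.Agent.S0945

open Cfsg.Agent.Lib.Transfer.HomocyclicSylow

/-- Let P be a Sylow 2-subgroup of the finite group G isomorphic to Z/2^m × Z/2^m with m ≥ 1. Then (i) the index of C_G(P) in N_G(P) is 1 or 3, and (ii) if it is not 1, then for every z ≠ 1 in P, C_G(z) ∩ N_G(P) = C_G(P). -/
theorem result {G : Type*} [Group G] [Finite G] (P : Sylow 2 G) (m : ℕ) (hm : 1 ≤ m) (e : (P : Subgroup G) ≃* Multiplicative (ZMod (2 ^ m) × ZMod (2 ^ m))) : ((Subgroup.centralizer (P : Set G)).relIndex (Subgroup.normalizer (P : Set G)) = 1 ∨ (Subgroup.centralizer (P : Set G)).relIndex (Subgroup.normalizer (P : Set G)) = 3) ∧ ((Subgroup.centralizer (P : Set G)).relIndex (Subgroup.normalizer (P : Set G)) ≠ 1 → ∀ z ∈ (P : Subgroup G), z ≠ 1 → Subgroup.centralizer ({z} : Set G) ⊓ Subgroup.normalizer (P : Set G) = Subgroup.centralizer (P : Set G)) := by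
  classical
  haveI : Fact (Nat.Prime 2) := ⟨Nat.prime_two⟩
  have hcard := omega_ncard_le (P : Subgroup G) hm e
  have hab : ∀ x ∈ (P : Subgroup G), ∀ y ∈ (P : Subgroup G), x * y = y * x := by
    intro x hx y hy
    have := e.injective (show e (⟨x, hx⟩ * ⟨y, hy⟩) = e (⟨y, hy⟩ * ⟨x, hx⟩) by
      rw [map_mul, map_mul, mul_comm])
    exact congrArg Subtype.val this
  -- reformulate membership in the centralizer
  have hcent : ∀ k : G, k ∈ Subgroup.centralizer (P : Set G) ↔
      ∀ x ∈ (P : Subgroup G), k * x * k⁻¹ = x := by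
    intro k
    rw [Subgroup.mem_centralizer_iff]
    constructor
    · intro h x hx
      have := h x hx
      rw [← this]; simp
    · intro h x hx
      have := h x hx
      rw [mul_inv_eq_iff_eq_mul] at this
      exact this.symm
  have hCN : Subgroup.centralizer (P : Set G) ≤ Subgroup.normalizer (P : Set G) := by
    intro k hk
    show k ∈ Subgroup.normalizer ((P : Subgroup G) : Set G)
    rw [Subgroup.mem_normalizer_iff]
    intro x
    constructor
    · intro hx
      rwa [(hcent k).1 hk x hx]
    · intro hx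
      have h1 := (hcent k).1 hk _ hx
      have h2 : k * x * k⁻¹ * k * x⁻¹ * k⁻¹ = 1 := by group
      have h3 : x = k⁻¹ * (k * x * k⁻¹) * k := by group
      have h4 : k⁻¹ * (k * x * k⁻¹) * k = k * x * k⁻¹ := by
        have := (hcent k).1 hk _ hx
        rw [eq_comm] at this
        calc k⁻¹ * (k * x * k⁻¹) * k = k⁻¹ * (k * (k * x * k⁻¹) * k⁻¹) * k := by rw [h1]
          _ = k * x * k⁻¹ := by group
      rw [h3, h4]
      exact hx
  -- (ii) holds unconditionally
  have hii : ∀ z ∈ (P : Subgroup G), z ≠ 1 →
      Subgroup.centralizer ({z} : Set G) ⊓ Subgroup.normalizer (P : Set G) =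
        Subgroup.centralizer (P : Set G) := by
    intro z hz hz1
    apply le_antisymm
    · rintro k ⟨hk1, hk2⟩
      rw [hcent]
      -- an involution among the powers of z
      have hpg := P.isPGroup'
      obtain ⟨j, hj⟩ := (IsPGroup.iff_orderOf.1 hpg) ⟨z, hz⟩
      have hj' : orderOf z = 2 ^ j := by
        rw [← hj]; exact (Subgroup.orderOf_mk z hz).symm
      have hj0 : j ≠ 0 := by
        rintro rfl
        rw [pow_zero, orderOf_eq_one_iff] at hj'
        exact hz1 hj'
      set w := z ^ (orderOf z / 2) with hw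
      have hword : orderOf w = 2 :=
        orderOf_pow_orderOf_div (orderOf_pos z).ne' (by rw [hj']; exact dvd_pow_self 2 hj0)
      have hwΩ : w ∈ omega (P : Subgroup G) := by
        refine ⟨Subgroup.pow_mem _ hz _, ?_, ?_⟩
        · intro h0
          rw [h0, orderOf_one] at hword
          omega
        · rw [← hword]; exact pow_orderOf_eq_one w
      have hkz : k * z * k⁻¹ = z := by
        have hk1' : k ∈ Subgroup.centralizer ({z} : Set G) := hk1
        rw [Subgroup.mem_centralizer_iff] at hk1'
        have := hk1' z (Set.mem_singleton z)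
        rw [mul_inv_eq_iff_eq_mul]
        exact this.symm
      have hkw : k * w * k⁻¹ = w := by
        rw [hw, ← conj_pow, hkz]
      exact fix_imp_centralizes P hab hcard k hk2 w hwΩ hkw
    · intro k hk
      refine ⟨?_, hCN hk⟩
      show k ∈ Subgroup.centralizer ({z} : Set G)
      rw [Subgroup.mem_centralizer_iff]
      intro y hy
      rw [Set.mem_singleton_iff] at hy
      subst hy
      exact (Subgroup.mem_centralizer_iff.1 hk) _ hz
  refine ⟨?_, fun _ => hii⟩
  by_cases h1 : (Subgroup.centralizer (P : Set G)).relIndex (Subgroup.normalizer (P : Set G)) = 1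
  · exact Or.inl h1
  right
  have hnle : ¬ Subgroup.normalizer (P : Set G) ≤ Subgroup.centralizer (P : Set G) := by
    intro h
    exact h1 (Subgroup.relIndex_eq_one.2 h)
  rw [SetLike.not_le_iff_exists] at hnle
  obtain ⟨g, hgN, hgC⟩ := hnle
  obtain ⟨h, y, rfl, hy, hh, n, hn, hpow⟩ := exists_odd_mul P g hgN
  -- h moves an involution
  have hexists : ∃ u ∈ omega (P : Subgroup G), h * u * h⁻¹ ≠ u := by
    by_contra hcon
    push Not at hcon
    have htriv : ∀ x ∈ (P : Subgroup G), x ^ 2 = 1 → h * x * h⁻¹ = x := by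
      intro u hu hu2
      by_cases hu1 : u = 1
      · simp [hu1]
      exact hcon u ⟨hu, hu1, hu2⟩
    have hc := centralizes_of_odd (P : Subgroup G) P.isPGroup' hab h hh n hn hpow htriv
    apply hgC
    rw [hcent]
    intro x hx
    have h1 : y * x * y⁻¹ = x := by
      rw [hab y hy x hx]; simp
    calc h * y * x * (h * y)⁻¹ = h * (y * x * y⁻¹) * h⁻¹ := by group
      _ = x := by rw [h1, hc x hx]
  obtain ⟨u, hu, hmove⟩ := hexists
  have h2 : h * (h * u * h⁻¹) * h⁻¹ ≠ u := square_moved h n hn hpow u hmove
  have hdist : ({u, h * u * h⁻¹, h * (h * u * h⁻¹) * h⁻¹} : Finset G).card = 3 := by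
    rw [Finset.card_eq_three]
    refine ⟨u, _, _, ?_, ?_, ?_, rfl⟩
    · exact fun h0 => hmove h0.symm
    · exact fun h0 => h2 h0.symm
    · intro h0
      apply hmove
      have : h * u * h⁻¹ = u := by
        have h3 := h0
        simpa using h3.symm
      exact this
  have hrel := relIndex_eq_ncard (Subgroup.normalizer (P : Set G)) (Subgroup.centralizer (P : Set G))
    u ((({u, h * u * h⁻¹, h * (h * u * h⁻¹) * h⁻¹} : Finset G) : Set G)) ?_ ?_ ?_
  · rw [hrel, Set.ncard_coe_finset, hdist]
  · intro k hk
    have h3 : k * u * k⁻¹ ∈ omega (P : Subgroup G) := conj_mem_omega _ k hk u hu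
    have h4 := orbit_of_moved (P : Subgroup G) hcard h hh n hn hpow u hu hmove _ h3
    simp only [Finset.coe_insert, Finset.coe_singleton, Set.mem_insert_iff, Set.mem_singleton_iff]
    exact h4
  · intro v hv
    simp only [Finset.coe_insert, Finset.coe_singleton, Set.mem_insert_iff,
      Set.mem_singleton_iff] at hv
    rcases hv with rfl | rfl | rfl
    · exact ⟨1, Subgroup.one_mem _, by simp⟩
    · exact ⟨h, hh, rfl⟩
    · exact ⟨h * h, Subgroup.mul_mem _ hh hh, by group⟩
  · intro k hk
    constructor
    · intro hfix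
      rw [hcent]
      exact fix_imp_centralizes P hab hcard k hk u hu hfix
    · intro hkC
      exact (hcent k).1 hkC u hu.1

end Cfsg.Agent.S0945
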