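import Cfsg.Statements.S0265
import Mathlib
import Cfsg.Agent.Lib.Linalg.Basic
-- import your own Cfsg.Agent.* helpers here

set_option autoImplicit false
open Cfsg

namespace Cfsg.Agent.S0265

/-- |PGL_n(q)| = |SL_n(q)|: GL_n modulo its centre (the q-1 non-zero scalars) has the same order as the kernel of det. -/
theorem result {F : Type*} [Field F] [Fintype F] (n : ℕ) : Nat.card (Matrix.ProjGenLinGroup (Fin n) F) = Nat.card (Matrix.SpecialLinearGroup (Fin n) F) := by
  classical
  rcases isEmpty_or_nonempty (Fin n) with hn | hn
  · -- n = 0
    have h1 : Subsingleton (Matrix.GeneralLinearGroup (Fin n) F) := by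
      constructor
      intro a b
      apply Units.ext
      exact Subsingleton.elim _ _
    have h2 : Subsingleton (Matrix.SpecialLinearGroup (Fin n) F) := by
      constructor
      intro a b
      apply Subtype.ext
      exact Subsingleton.elim _ _
    have h3 : Subsingleton (Matrix.ProjGenLinGroup (Fin n) F) := by
      unfold Matrix.ProjGenLinGroup
      infer_instance
    rw [Nat.card_of_subsingleton (1 : Matrix.ProjGenLinGroup (Fin n) F),
      Nat.card_of_subsingleton (1 : Matrix.SpecialLinearGroup (Fin n) F)]
  · have h1 := Cfsg.Agent.Lib.Linalg.Basic.card_GL_eq_mul_card_SL (F := F) (ι := Fin n)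
    have h2 : Nat.card (Matrix.GeneralLinearGroup (Fin n) F) =
        Nat.card (Matrix.ProjGenLinGroup (Fin n) F) *
          Nat.card (Subgroup.center (Matrix.GeneralLinearGroup (Fin n) F)) :=
      Subgroup.card_eq_card_quotient_mul_card_subgroup _
    have h3 : Nat.card (Subgroup.center (Matrix.GeneralLinearGroup (Fin n) F)) = Nat.card Fˣ := by
      rw [Matrix.GeneralLinearGroup.center_eq_range_scalar]
      have hinj : Function.Injective (Matrix.GeneralLinearGroup.scalar (Fin n) : Fˣ →* _) := by
        intro a b hab
        apply Units.ext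
        have h := congrArg (fun g : Matrix.GeneralLinearGroup (Fin n) F => (g : Matrix (Fin n) (Fin n) F)) hab
        have i0 : Fin n := hn.some
        have := congrFun (congrFun h i0) i0
        simpa using this
      exact Nat.card_congr (MonoidHom.ofInjective hinj).symm.toEquiv
    rw [h3] at h2
    have hpos : 0 < Nat.card Fˣ := Nat.card_pos
    have h4 : Nat.card Fˣ = Nat.card F - 1 := Nat.card_units F
    rw [h4] at h2 hpos
    rw [h2, mul_comm] at h1
    exact Nat.eq_of_mul_eq_mul_left hpos h1

end Cfsg.Agent.S0265
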