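import Cfsg.Statements.S0115
import Mathlib
import Cfsg.Agent.Lib.PGroup.Taussky
-- import your own Cfsg.Agent.* helpers here

set_option autoImplicit false
open Cfsg

namespace Cfsg.Agent.S0115

/-- A 2-group of order 2^n, n ≥ 3, is of maximal class exactly when its commutator quotient is a Klein four-group. -/
theorem result {X : Type*} [Group X] [Finite X] (n : ℕ) (hn : 3 ≤ n) (hX : Nat.card X = 2 ^ n) : Group.nilpotencyClass X = n - 1 ↔ IsKleinFour (X ⧸ commutator X) := by
  obtain ⟨m, rfl⟩ : ∃ m, n = m + 1 := ⟨n - 1, by omega⟩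
  constructor
  · intro hc
    have hl := Cfsg.Agent.Lib.PGroup.Taussky.lcs_ne_bot_of_class hn hX hc
    obtain ⟨u, b, h⟩ := Cfsg.Agent.Lib.PGroup.Taussky.MC_of_lcs_ne_bot (m := m) (by omega) hX hl
    have h4 := h.index_commutator
    have hs := h.sq_mem_commutator
    have hc4 : Nat.card (X ⧸ commutator X) = 4 := h4
    haveI : Fact (Nat.Prime 2) := ⟨Nat.prime_two⟩
    refine ⟨hc4, ?_⟩
    haveI : Nontrivial (X ⧸ commutator X) := by
      rw [← Finite.one_lt_card_iff_nontrivial]; omega
    rw [Monoid.exponent_eq_prime_iff Nat.prime_two]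
    intro g hg
    obtain ⟨x, rfl⟩ := QuotientGroup.mk_surjective g
    apply orderOf_eq_prime
    · rw [← QuotientGroup.mk_pow, QuotientGroup.eq_one_iff]
      exact hs x
    · exact hg
  · intro hK
    have hc4 : Nat.card (X ⧸ commutator X) = 4 := hK.card_four
    have h4 : (commutator X).index = 4 := hc4
    have hs : ∀ x : X, x ^ 2 ∈ commutator X := by
      intro x
      rw [← QuotientGroup.eq_one_iff, QuotientGroup.mk_pow]
      have := Monoid.pow_exponent_eq_one (x : X ⧸ commutator X)
      rwa [hK.exponent_two] at this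
    obtain ⟨u, b, h⟩ := Cfsg.Agent.Lib.PGroup.Taussky.exists_MC (m := m) (by omega) hX h4 hs
    rw [h.nilpotencyClass_eq]
    simp

end Cfsg.Agent.S0115
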