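import Cfsg.Statements.S4399
import Mathlib
import Cfsg.Agent.Lib.PGroup.Taussky
-- import your own Cfsg.Agent.* helpers here

set_option autoImplicit false
open Cfsg

namespace Cfsg.Agent.S4399

/-- Let S be a finite 2-group whose commutator quotient S/[S,S] is a Klein four-group (order 4 and exponent 2). Then S itself has order 4, or S is dihedral of order at least 8, semidihedral of order at least 16 (order 2^(k+4) with an element a of order 2^(k+3) and an involution b with b a b⁻¹ = a^(2^(k+2)−1)), or generalized quaternion of order at least 8. -/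
theorem result {S : Type*} [Group S] [Finite S] (h2 : IsPGroup 2 S) (hab : Nat.card (Abelianization S) = 4)
    (hexp : ∀ x : Abelianization S, x ^ 2 = 1) :
    Nat.card S = 4 ∨
    ((∃ k : ℕ, Nonempty (S ≃* DihedralGroup (2 ^ (k + 2)))) ∨
      (∃ k : ℕ, Nat.card S = 2 ^ (k + 4) ∧ ∃ a b : S, orderOf a = 2 ^ (k + 3) ∧ orderOf b = 2 ∧ b * a * b⁻¹ = a ^ (2 ^ (k + 2) - 1)) ∨
      (∃ k : ℕ, Nonempty (S ≃* QuaternionGroup (2 ^ (k + 1))))) := by
  have h4 : (commutator S).index = 4 := hab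
  have hs : ∀ x : S, x ^ 2 ∈ commutator S := by
    intro x
    have := hexp (Abelianization.of x)
    rw [← QuotientGroup.eq_one_iff]
    exact this
  obtain ⟨k, hk⟩ := IsPGroup.iff_card.mp h2
  by_cases hc : Nat.card S = 4
  · exact Or.inl hc
  right
  have hk3 : 3 ≤ k := by
    by_contra hcon
    have hk2 : k ≤ 2 := by omega
    have h5 : Nat.card S = Nat.card (commutator S) * (commutator S).index :=
      (Subgroup.card_mul_index _).symm
    rw [h4] at h5
    have h6 : 0 < Nat.card (commutator S) := Nat.card_pos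
    interval_cases k
    all_goals omega
  obtain ⟨m, rfl⟩ : ∃ m, k = m + 1 := ⟨k - 1, by omega⟩
  obtain ⟨u, b, h⟩ := Cfsg.Agent.Lib.PGroup.Taussky.exists_MC (m := m) (by omega) hk h4 hs
  rcases h.hform with ⟨hbu, hb2 | hb2⟩ | ⟨hm3, hbu, hb2⟩
  · left
    obtain ⟨r, rfl⟩ : ∃ r, m = r + 2 := ⟨m - 2, by omega⟩
    exact ⟨r, Cfsg.Agent.Lib.PGroup.CyclicMax2.dihedral_of_data h.sc.hu h.hcard h.hb hbu hb2⟩
  · right; right
    obtain ⟨r, rfl⟩ : ∃ r, m = r + 2 := ⟨m - 2, by omega⟩
    exact ⟨r, Cfsg.Agent.Lib.PGroup.CyclicMax2.quaternion_of_data (n := r + 2) (by omega) h.sc.hu h.hcard h.hb hbu hb2⟩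
  · right; left
    obtain ⟨r, rfl⟩ : ∃ r, m = r + 3 := ⟨m - 3, by omega⟩
    refine ⟨r, h.hcard, u, b, h.sc.hu, ?_, hbu⟩
    apply orderOf_eq_prime hb2
    rintro rfl
    exact h.hb (Subgroup.one_mem _)

end Cfsg.Agent.S4399
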