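import Cfsg.Statements.S4145
import Mathlib
import Cfsg.Agent.Lib.Transfer.Tate
import Cfsg.Agent.Lib.Transfer.Basic
import Cfsg.Agent.Lib.Transfer.Frobenius
import Cfsg.Agent.Lib.Basic.PCore
import Cfsg.Agent.Lib.Solvable.PSeries
import Cfsg.Agent.Lib.Coprime.PSolvable
-- import your own Cfsg.Agent.* helpers here

set_option autoImplicit false
open Cfsg

namespace Cfsg.Agent.S4145

open Subgroup MonoidHom
open scoped IsMulCommutative

/-- Subgroups of a cyclic `p`-group are totally ordered. -/
theorem cyc_le_total {T : Type*} [Group T] [Finite T] [IsCyclic T] {p : ℕ} [hp : Fact p.Prime]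
    (hT : IsPGroup p T) (A B : Subgroup T) : A ≤ B ∨ B ≤ A := by
  classical
  have key : ∀ A B : Subgroup T, ∀ a b : ℕ, Nat.card A = p ^ a → Nat.card B = p ^ b → a ≤ b →
      A ≤ B := by
    intro A B a b ha hb hab x hx
    haveI := Fintype.ofFinite T
    have hxa : x ^ p ^ a = 1 := by
      have := pow_card_eq_one' (x := (⟨x, hx⟩ : A))
      rw [ha] at this
      simpa using congrArg Subtype.val this
    have hxb : x ^ p ^ b = 1 := by
      obtain ⟨c, rfl⟩ := Nat.exists_eq_add_of_le hab
      rw [pow_add, pow_mul, hxa, one_pow]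
    by_contra hxB
    have hpos : 0 < p ^ b := pow_pos hp.out.pos b
    have hle := IsCyclic.card_pow_eq_one_le (α := T) hpos
    have hsub : (Finset.univ.filter (fun y : T => y ∈ B)) ∪ {x} ⊆
        Finset.univ.filter (fun y : T => y ^ p ^ b = 1) := by
      intro y hy
      simp only [Finset.mem_union, Finset.mem_filter, Finset.mem_univ, true_and,
        Finset.mem_singleton] at hy ⊢
      rcases hy with hy | rfl
      · have := pow_card_eq_one' (x := (⟨y, hy⟩ : B))
        rw [hb] at this
        simpa using congrArg Subtype.val this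
      · exact hxb
    have hcardB : (Finset.univ.filter (fun y : T => y ∈ B)).card = p ^ b := by
      rw [← hb, Nat.card_eq_fintype_card, Fintype.card_subtype]
    have hcard2 := Finset.card_le_card hsub
    rw [Finset.card_union_of_disjoint (by simpa using hxB), hcardB] at hcard2
    simp only [Finset.card_singleton] at hcard2
    omega
  obtain ⟨a, ha⟩ := IsPGroup.iff_card.mp (hT.to_subgroup A)
  obtain ⟨b, hb⟩ := IsPGroup.iff_card.mp (hT.to_subgroup B)
  rcases le_total a b with h | h
  · exact Or.inl (key A B a b ha hb h)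
  · exact Or.inr (key B A b a hb ha h)

/-- Central elements of a cyclic Sylow subgroup force the commutator subgroup to be `p'`. -/
theorem commutator_coprime {X : Type*} [Group X] [Finite X] {p : ℕ} [hp : Fact p.Prime]
    (P : Sylow p X) (hc : IsCyclic (P : Subgroup X)) (x : X) (hx : x ∈ center X)
    (hxP : x ∈ (P : Subgroup X)) (hx1 : x ≠ 1) : (Nat.card (commutator X)).Coprime p := by
  classical
  haveI : IsMulCommutative (P : Subgroup X) :=
    ⟨⟨fun a b => by
      obtain ⟨g, hg⟩ := hc.exists_generator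
      obtain ⟨i, hi⟩ := Subgroup.mem_zpowers_iff.mp (hg a)
      obtain ⟨j, hj⟩ := Subgroup.mem_zpowers_iff.mp (hg b)
      rw [← hi, ← hj, ← zpow_add, ← zpow_add, add_comm]⟩⟩
  -- the commutator subgroup misses the central element
  have hV : ∀ y ∈ commutator X, y ∈ (P : Subgroup X) → y ∈ center X → y = 1 := by
    intro y hy hyP hyZ
    have h1 := Cfsg.Agent.Lib.Transfer.Basic.commutator_le_ker_transfer (A := (P : Subgroup X))
      (P : Subgroup X) (MonoidHom.id (P : Subgroup X)) hy
    rw [MonoidHom.mem_ker] at h1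
    have h2 := Cfsg.Agent.Lib.Transfer.Basic.transfer_eq_pow_of_fusion (A := (P : Subgroup X)) (P : Subgroup X)
      (MonoidHom.id (P : Subgroup X)) ⟨y, hyP⟩ (by
        intro k g₀ h
        apply Subtype.ext
        have hz : ∀ w : X, w * y ^ k = y ^ k * w := by
          intro w
          have := (Subgroup.pow_mem _ hyZ k)
          exact (Subgroup.mem_center_iff.mp this w)
        simp only [MonoidHom.id_apply, SubgroupClass.coe_pow]
        rw [mul_assoc, ← hz g₀]
        group)
    have h3 : ((⟨y, hyP⟩ : (P : Subgroup X)) ^ (P : Subgroup X).index) = 1 := by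
      have h2' := h2
      change MonoidHom.transfer (MonoidHom.id (P : Subgroup X)) y = _ at h2'
      rw [h1] at h2'
      exact h2'.symm
    have h4 : y ^ (P : Subgroup X).index = 1 := by
      simpa using congrArg Subtype.val h3
    have h5 : orderOf y ∣ (P : Subgroup X).index := orderOf_dvd_of_pow_eq_one h4
    obtain ⟨k, hk⟩ := (P.isPGroup' ⟨y, hyP⟩)
    have h6 : y ^ p ^ k = 1 := by simpa using congrArg Subtype.val hk
    have h7 : orderOf y ∣ p ^ k := orderOf_dvd_of_pow_eq_one h6
    have h8 : Nat.Coprime (p ^ k) (P : Subgroup X).index :=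
      Nat.Coprime.pow_left k ((Nat.Prime.coprime_iff_not_dvd hp.out).mpr P.not_dvd_index)
    have h9 : orderOf y = 1 := Nat.eq_one_of_dvd_coprimes h8 h7 h5
    exact orderOf_eq_one_iff.mp h9
  -- hence commutator meets `P` trivially
  haveI hcP : IsCyclic (P : Subgroup X) := hc
  have hT : IsPGroup p (P : Subgroup X) := P.isPGroup'
  have htriv : ∀ y ∈ commutator X, y ∈ (P : Subgroup X) → y = 1 := by
    intro y hy hyP
    let A : Subgroup (P : Subgroup X) := (commutator X).subgroupOf (P : Subgroup X)
    let B : Subgroup (P : Subgroup X) := Subgroup.zpowers ⟨x, hxP⟩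
    rcases cyc_le_total hT A B with h | h
    · have h1 : (⟨y, hyP⟩ : (P : Subgroup X)) ∈ B := h (by
        show _ ∈ (commutator X).subgroupOf (P : Subgroup X)
        rw [mem_subgroupOf]
        exact hy)
      obtain ⟨i, hi⟩ := Subgroup.mem_zpowers_iff.mp h1
      have h2 : y = x ^ i := by
        have := congrArg Subtype.val hi
        simpa using this.symm
      apply hV y hy hyP
      rw [h2]
      exact Subgroup.zpow_mem _ hx i
    · have h1 : (⟨x, hxP⟩ : (P : Subgroup X)) ∈ A := h (Subgroup.mem_zpowers _)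
      have h2 : x ∈ commutator X := mem_subgroupOf.mp h1
      exact absurd (hV x h2 hxP hx) hx1
  -- `p ∤ |X'|`
  rw [Nat.coprime_comm, Nat.Prime.coprime_iff_not_dvd hp.out]
  intro hd
  obtain ⟨y, hy⟩ := exists_prime_orderOf_dvd_card' (G := commutator X) p hd
  have hy1 : (y : X) ≠ 1 := by
    intro h
    have : y = 1 := Subtype.ext h
    rw [this, orderOf_one] at hy
    exact hp.out.one_lt.ne hy
  have hyp : IsPGroup p (Subgroup.zpowers (y : X)) := by
    apply IsPGroup.of_card (n := 1)
    rw [Nat.card_zpowers, pow_one, Subgroup.orderOf_coe, hy]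
  obtain ⟨g, hg⟩ := Cfsg.Agent.Lib.Transfer.Frobenius.exists_conj_mem_of_isPGroup P hyp
  have hconj : g * (y : X) * g⁻¹ ∈ (P : Subgroup X) := hg _ (Subgroup.mem_zpowers _)
  have hconj2 : g * (y : X) * g⁻¹ ∈ commutator X :=
    (inferInstance : (commutator X).Normal).conj_mem _ y.2 g
  have h1 := htriv _ hconj2 hconj
  apply hy1
  have h2 : (y : X) = g⁻¹ * (g * (y : X) * g⁻¹) * g := by group
  rw [h2, h1]
  group

/-- Central case of `p`-solubility. -/
theorem psolv_central {X : Type*} [Group X] [Finite X] {p : ℕ} [hp : Fact p.Prime]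
    (P : Sylow p X) (hc : IsCyclic (P : Subgroup X)) (x : X) (hx : x ∈ center X)
    (hxP : x ∈ (P : Subgroup X)) (hx1 : x ≠ 1) : Cfsg.IsPSolvable p X := by
  have h := commutator_coprime P hc x hx hxP hx1
  refine Cfsg.Agent.Lib.Coprime.PSolvable.isPSolvable_of_normal_good (commutator X) (Or.inr h) ?_
  refine Cfsg.Agent.Lib.Coprime.PSolvable.isPSolvable_of_isSolvable hp.out ?_
  exact Group.isSolvable_of_comm (fun a b => mul_comm (G := Abelianization X) a b)

/-- A cyclic Sylow subgroup containing a nontrivial normal subgroup: `p`-solubility. -/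
theorem psolv_normal {Y : Type*} [Group Y] [Finite Y] {p : ℕ} [hp : Fact p.Prime]
    (P : Sylow p Y) (hc : IsCyclic (P : Subgroup Y)) (R : Subgroup Y) [hR : R.Normal]
    (hRP : R ≤ (P : Subgroup Y)) (hR1 : R ≠ ⊥) : Cfsg.IsPSolvable p Y := by
  classical
  let C : Subgroup Y := centralizer (R : Set Y)
  haveI hCn : C.Normal := Subgroup.normal_centralizer
  have hcomm : ∀ a b : (P : Subgroup Y), a * b = b * a := by
    intro a b
    obtain ⟨g, hg⟩ := hc.exists_generator
    obtain ⟨i, hi⟩ := Subgroup.mem_zpowers_iff.mp (hg a)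
    obtain ⟨j, hj⟩ := Subgroup.mem_zpowers_iff.mp (hg b)
    rw [← hi, ← hj, ← zpow_add, ← zpow_add, add_comm]
  have hPC : (P : Subgroup Y) ≤ C := by
    intro y hy
    rw [mem_centralizer_iff]
    intro r hr
    have := hcomm ⟨r, hRP hr⟩ ⟨y, hy⟩
    exact congrArg Subtype.val this
  refine Cfsg.Agent.Lib.Solvable.PSeries.isPSolvable_of_normal_quotient C ?_ ?_
  · obtain ⟨a, ha⟩ := (Subgroup.ne_bot_iff_exists_ne_one).mp hR1
    obtain ⟨x, hx, hx1⟩ : ∃ x : Y, x ∈ R ∧ x ≠ 1 := ⟨(a : Y), a.2, fun h => ha (Subtype.ext h)⟩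
    let PC : Sylow p C := P.subtype hPC
    have hPCc : IsCyclic (PC : Subgroup C) :=
      isCyclic_of_injective (G' := (P : Subgroup Y))
        (Subgroup.subgroupOfEquivOfLe hPC).toMonoidHom (Subgroup.subgroupOfEquivOfLe hPC).injective
    refine psolv_central PC hPCc ⟨x, hPC (hRP hx)⟩ ?_ ?_ ?_
    · rw [Subgroup.mem_center_iff]
      intro c
      apply Subtype.ext
      have := (mem_centralizer_iff.mp c.2) x hx
      simpa using this.symm
    · show _ ∈ (P : Subgroup Y).subgroupOf C
      rw [mem_subgroupOf]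
      exact hRP hx
    · intro h
      exact hx1 (congrArg Subtype.val h)
  · refine Cfsg.Agent.Lib.Coprime.PSolvable.isPSolvable_of_isSolvable hp.out ?_
    haveI hRc : IsCyclic R := by
      have hPc : IsCyclic (P : Subgroup Y) := hc
      exact isCyclic_of_injective (G' := (P : Subgroup Y)) (Subgroup.inclusion hRP)
        (Subgroup.inclusion_injective hRP)
    have hAut : ∀ f g : MulAut R, f * g = g * f := by
      intro f g
      apply (IsCyclic.mulAutMulEquiv R).injective
      rw [map_mul, map_mul, mul_comm]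
    apply Group.isSolvable_of_comm
    intro a b
    induction a using QuotientGroup.induction_on with
    | H a =>
    induction b using QuotientGroup.induction_on with
    | H b =>
    rw [← QuotientGroup.mk_mul, ← QuotientGroup.mk_mul, QuotientGroup.eq]
    rw [mem_centralizer_iff]
    intro r hr
    have h1 := hAut (MulAut.conjNormal a) (MulAut.conjNormal b)
    rw [← map_mul, ← map_mul] at h1
    have h2 := congrArg (fun f : MulAut R => ((f ⟨r, hr⟩ : R) : Y)) h1
    simp only [MulAut.conjNormal_apply] at h2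
    have h3 : (a * b) * r * (a * b)⁻¹ = (b * a) * r * (b * a)⁻¹ := h2
    have h4 : (a * b)⁻¹ * (b * a) * r = r * ((a * b)⁻¹ * (b * a)) := by
      have h5 : (b * a) * r = ((a * b) * r * (a * b)⁻¹) * (b * a) := by
        rw [h3]; group
      calc (a * b)⁻¹ * (b * a) * r = (a * b)⁻¹ * ((b * a) * r) := by group
        _ = (a * b)⁻¹ * (((a * b) * r * (a * b)⁻¹) * (b * a)) := by rw [h5]
        _ = r * ((a * b)⁻¹ * (b * a)) := by group
    exact h4.symm


/-- Let G be a finite group with a cyclic Sylow p-subgroup and H a normal subgroup such that p divides both the order of H and the index of H. Then H has a normal p-complement and G is p-solvable. -/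
theorem result {G : Type*} [Group G] [Finite G] (p : ℕ) [Fact p.Prime]
    (P : Sylow p G) (hP : IsCyclic (P : Subgroup G)) (H : Subgroup G) [H.Normal] (h1 : p ∣ Nat.card H) (h2 : p ∣ H.index) :
    Cfsg.HasNormalPComplement p H ∧ Cfsg.IsPSolvable p G := by
  classical
  have hnp : Cfsg.HasNormalPComplement p H := by
    have hHX : H ≤ H ⊔ (P : Subgroup G) := le_sup_left
    have hPX : (P : Subgroup G) ≤ H ⊔ (P : Subgroup G) := le_sup_right
    let X : Subgroup G := H ⊔ (P : Subgroup G)
    let PX : Sylow p X := P.subtype hPX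
    let LX : Subgroup X := H.subgroupOf X
    haveI hLX : LX.Normal := inferInstance
    have hPXc : IsCyclic (PX : Subgroup X) :=
      isCyclic_of_injective (G' := (P : Subgroup G))
        (Subgroup.subgroupOfEquivOfLe hPX).toMonoidHom (Subgroup.subgroupOfEquivOfLe hPX).injective
    have hmemPX : ∀ u : X, u ∈ (PX : Subgroup X) ↔ (u : G) ∈ (P : Subgroup G) := by
      intro u
      show u ∈ (P : Subgroup G).subgroupOf X ↔ _
      rw [mem_subgroupOf]
    have h3 : Cfsg.HasNormalPComplement p X := by
      refine Cfsg.Agent.Lib.Transfer.Tate.hasNormalPComplement_of_nongenerating (p := p)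
        (PX : Subgroup X) PX.isPGroup' PX.not_dvd_index LX ?_ ?_
      · rw [eq_top_iff]
        rintro ⟨x, hx⟩ _
        have hx2 : x ∈ (↑(H ⊔ (P : Subgroup G)) : Set G) := hx
        rw [Subgroup.normal_mul] at hx2
        obtain ⟨h, hh, y, hy, rfl⟩ := Set.mem_mul.mp hx2
        have : (⟨h * y, hx⟩ : X) = ⟨h, hHX hh⟩ * ⟨y, hPX hy⟩ := rfl
        rw [this]
        refine Subgroup.mul_mem_sup ?_ ((hmemPX _).mpr hy)
        exact mem_subgroupOf.mpr hh
      · intro M hM
        haveI := hPXc
        rcases cyc_le_total PX.isPGroup' M (LX.subgroupOf (PX : Subgroup X)) with h | h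
        · exfalso
          rw [sup_eq_right.mpr h] at hM
          have hle : (P : Subgroup G) ≤ H := by
            intro y hy
            have hy2 : (⟨⟨y, hPX hy⟩, (hmemPX _).mpr hy⟩ : (PX : Subgroup X)) ∈
                LX.subgroupOf (PX : Subgroup X) := by rw [hM]; trivial
            exact mem_subgroupOf.mp (mem_subgroupOf.mp hy2)
          exact P.not_dvd_index (h2.trans (Subgroup.index_dvd_of_le hle))
        · rwa [sup_eq_left.mpr h] at hM
    have h4 := Cfsg.Agent.Lib.Transfer.Basic.HasNormalPComplement_subgroup h3 LX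
    exact (Cfsg.Agent.Lib.Transfer.Basic.HasNormalPComplement_congr
      (Subgroup.subgroupOfEquivOfLe hHX)).mp h4
  refine ⟨hnp, ?_⟩
  obtain ⟨N, hNn, hcop, hq⟩ := Cfsg.Agent.Lib.Transfer.Basic.hasNormalPComplement_iff.mp hnp
  let K : Subgroup G := N.map H.subtype
  have hKmem : ∀ x : G, x ∈ K ↔ ∃ hx : x ∈ H, Nat.Coprime (orderOf x) p := by
    intro x
    constructor
    · rintro ⟨y, hy, rfl⟩
      refine ⟨y.2, ?_⟩
      have := (Cfsg.Agent.Lib.Transfer.Basic.mem_iff_coprime_of_normal N hcop hq y).mp hy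
      simpa [Subgroup.orderOf_coe] using this
    · rintro ⟨hx, hc⟩
      refine ⟨⟨x, hx⟩, ?_, rfl⟩
      show (⟨x, hx⟩ : H) ∈ N
      rw [Cfsg.Agent.Lib.Transfer.Basic.mem_iff_coprime_of_normal N hcop hq]
      simpa [Subgroup.orderOf_mk] using hc
  haveI hKn : K.Normal := by
    constructor
    intro x hx g
    obtain ⟨hx1, hx2⟩ := (hKmem x).mp hx
    refine (hKmem _).mpr ⟨(inferInstance : H.Normal).conj_mem x hx1 g, ?_⟩
    rwa [Cfsg.Agent.Lib.Transfer.Basic.orderOf_conj_eq]
  have hKcard : (Nat.card K).Coprime p := by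
    have : Nat.card K = Nat.card N := Subgroup.card_map_of_injective H.subtype_injective
    rwa [this]
  refine Cfsg.Agent.Lib.Coprime.PSolvable.isPSolvable_of_normal_good K (Or.inr hKcard) ?_
  let π : G →* G ⧸ K := QuotientGroup.mk' K
  have hsurj : Function.Surjective π := QuotientGroup.mk'_surjective K
  let Pb : Sylow p (G ⧸ K) := P.mapSurjective hsurj
  have hPbc : IsCyclic (Pb : Subgroup (G ⧸ K)) :=
    isCyclic_of_surjective (π.subgroupMap (P : Subgroup G)) (π.subgroupMap_surjective _)
  let R : Subgroup (G ⧸ K) := H.map π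
  haveI hRn : R.Normal := Subgroup.Normal.map inferInstance π hsurj
  have hRp : IsPGroup p R := by
    rintro ⟨r, h0, hh, rfl⟩
    obtain ⟨k, hk⟩ := hq (QuotientGroup.mk ⟨h0, hh⟩)
    refine ⟨k, ?_⟩
    apply Subtype.ext
    have h1 : (⟨h0, hh⟩ : H) ^ p ^ k ∈ N := by
      rw [← QuotientGroup.eq_one_iff, QuotientGroup.mk_pow]
      exact hk
    have h2 : h0 ^ p ^ k ∈ K := ⟨_, h1, by simp⟩
    have h3 : π (h0 ^ p ^ k) = 1 := (QuotientGroup.eq_one_iff _).mpr h2
    simpa using h3
  have hRP : R ≤ (Pb : Subgroup (G ⧸ K)) :=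
    (Cfsg.Agent.Lib.Basic.PCore.le_pCore hRn hRp).trans
      (Cfsg.Agent.Lib.Basic.PCore.pCore_le_sylow Pb)
  have hR1 : R ≠ ⊥ := by
    intro hR
    have hNtop : N = ⊤ := by
      rw [eq_top_iff]
      intro x _
      have h1 : π (x : G) ∈ R := ⟨x, x.2, rfl⟩
      rw [hR, Subgroup.mem_bot] at h1
      have h2 : (x : G) ∈ K := (QuotientGroup.eq_one_iff _).mp h1
      obtain ⟨y, hy, hyx⟩ := h2
      have : y = x := Subtype.ext hyx
      rwa [← this]
    rw [hNtop, Subgroup.card_top] at hcop
    exact ((Nat.Prime.coprime_iff_not_dvd (Fact.out : p.Prime)).mp hcop.symm) h1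
  exact psolv_normal Pb hPbc R hRP hR1

end Cfsg.Agent.S4145
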