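import Cfsg.Statements.S0664
import Mathlib
import Cfsg.Agent.Lib.PGroup.QuadG
import Cfsg.Agent.S0274
import Cfsg.Agent.S0653
-- import your own Cfsg.Agent.* helpers here

set_option autoImplicit false
open Cfsg

namespace Cfsg.Agent.S0664

/-- Glauberman's ZJ-Theorem in its section-free form: for odd p, a finite group with no section isomorphic to Qd(p) whose largest normal p-subgroup contains its centralizer has Z(J(S)) normal, J(S) the abelian-version Thompson subgroup of a Sylow p-subgroup S. -/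
theorem result {G : Type*} [Group G] [Finite G] {p : ℕ} [Fact p.Prime] (hp : p ≠ 2) (hfree : ¬ ∃ (K R : Subgroup G) (hR : (R.subgroupOf K).Normal), Nonempty ((K ⧸ R.subgroupOf K) ≃* ↥(Cfsg.qd p))) (hc : Subgroup.centralizer (Cfsg.pCore p G : Set G) ≤ Cfsg.pCore p G) (S : Sylow p G) : (Cfsg.centerThompsonAOf ((S : Subgroup G))).Normal := by
  have hst : ∀ (P : Subgroup G) [P.Normal], IsPGroup p P → Cfsg.IsPStableOn p P := by
    intro P _ hP
    by_contra hns
    have h1 := Cfsg.Agent.Lib.PGroup.QuadG.sec_qd_of_not_stable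
      (fun F _ _ _ H hH => Cfsg.Agent.S0274.result p hp H hH) hp P hP hns
    obtain ⟨K, Φ, hΦ⟩ := h1
    obtain ⟨R, hR, ⟨e⟩⟩ := Cfsg.Agent.Lib.PGroup.QdSplit.quotient_form hΦ
    exact hfree ⟨K, R, hR, ⟨e⟩⟩
  haveI := Cfsg.Agent.S0653.result hp hc hst S
  exact Subgroup.normal_of_characteristic _

end Cfsg.Agent.S0664
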