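import Cfsg.Statements.S0602
import Mathlib
-- import your own Cfsg.Agent.* helpers here

set_option autoImplicit false
open Cfsg

namespace Cfsg.Agent.S0602

/-- The Thompson subgroup is characteristic, and nontrivial as soon as p divides the group order. -/
theorem result {G : Type*} [Group G] [Finite G] {p : ℕ} [Fact p.Prime] : (Cfsg.thompsonSubgroup p G).Characteristic ∧ (p ∣ Nat.card G → Cfsg.thompsonSubgroup p G ≠ ⊥) := by
  classical
  have hEA : ∀ (φ : G ≃* G) (A : Subgroup G), Cfsg.IsElementaryAbelian p A →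
      Cfsg.IsElementaryAbelian p (A.map φ.toMonoidHom) := by
    rintro φ A ⟨hc, hp⟩
    refine ⟨⟨⟨?_⟩⟩, ?_⟩
    · rintro ⟨_, a, ha, rfl⟩ ⟨_, b, hb, rfl⟩
      apply Subtype.ext
      have : a * b = b * a := congrArg Subtype.val (hc.is_comm.comm ⟨a, ha⟩ ⟨b, hb⟩)
      simp only [Subgroup.coe_mul, MulEquiv.coe_toMonoidHom]
      rw [← map_mul, ← map_mul, this]
    · rintro _ ⟨a, ha, rfl⟩
      simp only [MulEquiv.coe_toMonoidHom]
      rw [← map_pow, hp a ha, map_one]
  have hcardmap : ∀ (φ : G ≃* G) (A : Subgroup G), Nat.card (A.map φ.toMonoidHom) = Nat.card A := by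
    intro φ A
    exact Nat.card_congr (A.equivMapOfInjective φ.toMonoidHom φ.injective).toEquiv.symm
  have hmax : ∀ (φ : G ≃* G) (A : Subgroup G), A ∈ Cfsg.maxElementaryAbelianSubgroups p G →
      A.map φ.toMonoidHom ∈ Cfsg.maxElementaryAbelianSubgroups p G := by
    rintro φ A ⟨hA, hAm⟩
    refine ⟨hEA φ A hA, fun B hB => ?_⟩
    rw [hcardmap]
    have h1 := hAm (B.map φ.symm.toMonoidHom) (hEA φ.symm B hB)
    rwa [hcardmap] at h1
  have hchar : ∀ φ : G ≃* G, Cfsg.thompsonSubgroup p G ≤ (Cfsg.thompsonSubgroup p G).comap φ.toMonoidHom := by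
    intro φ
    rw [Cfsg.thompsonSubgroup]
    refine sSup_le fun A hA x hx => ?_
    exact (le_sSup (hmax φ A hA) : A.map φ.toMonoidHom ≤ _) ⟨x, hx, rfl⟩
  refine ⟨Subgroup.characteristic_iff_le_comap.mpr hchar, fun hdvd => ?_⟩
  obtain ⟨x, hx⟩ := exists_prime_orderOf_dvd_card' p hdvd
  have hp1 : p ≠ 1 := (Fact.out : p.Prime).ne_one
  -- the cyclic subgroup generated by `x` is elementary abelian of order `p`
  have hzEA : Cfsg.IsElementaryAbelian p (Subgroup.zpowers x) := by
    refine ⟨inferInstance, ?_⟩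
    rintro _ ⟨m, rfl⟩
    simp only
    rw [← zpow_natCast, ← zpow_mul, mul_comm, zpow_mul, zpow_natCast, ← hx, pow_orderOf_eq_one, one_zpow]
  -- take a subgroup of maximal order among the elementary abelian ones
  have hfin : (Set.range (fun A : {A : Subgroup G // Cfsg.IsElementaryAbelian p A} => Nat.card A.1)).Finite :=
    Set.finite_range _
  obtain ⟨A, hA⟩ : ∃ A : {A : Subgroup G // Cfsg.IsElementaryAbelian p A},
      ∀ B : {A : Subgroup G // Cfsg.IsElementaryAbelian p A}, Nat.card B.1 ≤ Nat.card A.1 := by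
    have hne : Nonempty {A : Subgroup G // Cfsg.IsElementaryAbelian p A} := ⟨⟨_, hzEA⟩⟩
    exact Finite.exists_max _
  have hAmax : A.1 ∈ Cfsg.maxElementaryAbelianSubgroups p G :=
    ⟨A.2, fun B hB => hA ⟨B, hB⟩⟩
  intro hbot
  have hle : A.1 ≤ Cfsg.thompsonSubgroup p G := le_sSup hAmax
  rw [hbot] at hle
  have hAbot : A.1 = ⊥ := le_bot_iff.mp hle
  have h1 := hA ⟨_, hzEA⟩
  rw [hAbot, Nat.card_zpowers, hx] at h1
  simp only [Subgroup.card_bot] at h1
  have := (Fact.out : p.Prime).one_lt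
  omega

end Cfsg.Agent.S0602
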