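import Cfsg.Statements.S5148
import Mathlib
import Cfsg.Agent.Lib.Fusion.Abelian
import Cfsg.Agent.Lib.Fusion.Factor
import Cfsg.Agent.Lib.Fusion.Joins
-- import your own Cfsg.Agent.* helpers here

set_option autoImplicit false
open Cfsg

namespace Cfsg.Agent.S5148

/-- A quasisimple fusion system over a finite p-group S (saturated, equal to its p-residual subsystem, with simple — in particular nontrivial — factor system modulo its centre) has S nonabelian. -/
theorem result {Ω : Type*} [Group Ω] {S : Subgroup Ω} [Finite S] (p : ℕ) [Fact p.Prime] (hS : IsPGroup p S) (F : Cfsg.FusionSystem S) (hq : F.Quasisimple p) : ¬ IsMulCommutative S := by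
  intro hcomm
  have hab : ∀ x ∈ S, ∀ y ∈ S, x * y = y * x := by
    intro x hx y hy
    have := hcomm.is_comm.comm ⟨x, hx⟩ ⟨y, hy⟩
    exact congrArg Subtype.val this
  obtain ⟨hF, hhyp, hsimp⟩ := hq
  have hcent := Cfsg.Agent.Lib.Fusion.Joins.isCentral_center F
  set Z := F.center with hZ
  have hZS : Z ≤ S := hcent.1
  have hSC : F.StronglyClosed Z := by
    refine ⟨hZS, fun R hR φ hφ x => ?_⟩
    obtain ⟨ψ, -, h1, h2⟩ := hcent.2 R φ hφ
    rw [← h1 x]
    have e : Subgroup.inclusion (le_sup_left : R ≤ R ⊔ Z) x =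
        Subgroup.inclusion (le_sup_right : Z ≤ R ⊔ Z) ⟨x, hR x.2⟩ := rfl
    rw [e, h2]
    exact hR x.2
  set K := Z.subgroupOf S with hK
  let θ : S →* S ⧸ K := QuotientGroup.mk' K
  have hker : ∀ s : S, θ s = 1 ↔ (s : Ω) ∈ Z := by
    intro s
    rw [show θ s = (s : S ⧸ K) from rfl, QuotientGroup.eq_one_iff]
    exact Subgroup.mem_subgroupOf
  have hrange : θ.range = ⊤ := MonoidHom.range_eq_top.2 (QuotientGroup.mk'_surjective K)
  obtain ⟨E, hE⟩ := Cfsg.Agent.Lib.Fusion.Factor.exists_isFactorSystem F hSC θ hker hrange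
  have hEs := hsimp E hE
  have hab' : ∀ x ∈ (⊤ : Subgroup (S ⧸ K)), ∀ y ∈ (⊤ : Subgroup (S ⧸ K)), x * y = y * x := by
    intro x _ y _
    induction x using QuotientGroup.induction_on with
    | H a =>
      induction y using QuotientGroup.induction_on with
      | H b =>
        rw [← QuotientGroup.mk_mul, ← QuotientGroup.mk_mul]
        have : a * b = b * a := Subtype.ext (hab a a.2 b b.2)
        rw [this]
  have hpS : IsPGroup p (⊤ : Subgroup (S ⧸ K)) :=
    IsPGroup.of_equiv (hS.to_quotient K) (Subgroup.topEquiv).symm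
  obtain ⟨-, hinner⟩ := (Cfsg.Agent.Lib.Fusion.Abelian.isSimple_iff hpS hEs.1 hab').1 hEs
  have hPre : Cfsg.FusionSystem.preimageAlong θ (⊤ : Subgroup (S ⧸ K)) = S := by
    unfold Cfsg.FusionSystem.preimageAlong
    rw [Subgroup.comap_top, ← MonoidHom.range_eq_map, Subgroup.range_subtype]
  have key : ∀ (β : S →* Ω), β ∈ F.Hom S → ∀ x : S, (x : Ω)⁻¹ * β x ∈ Z := by
    intro β hβ x
    have hv := Cfsg.Agent.Lib.Fusion.Basic.map_mem_S hβ
    let β' : S →* S := β.codRestrict S hv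
    have hKβ : K ≤ K.comap β' := by
      intro z hz
      have hz' : (z : Ω) ∈ Z := hz
      have h1 := Cfsg.Agent.Lib.Fusion.Factor.map_mem_of_stronglyClosed F hSC hZS hβ hz'
      exact h1
    let φ₀ : S ⧸ K →* S ⧸ K := QuotientGroup.map K K β' hKβ
    let φ' : (⊤ : Subgroup (S ⧸ K)) →* S ⧸ K := φ₀.comp (⊤ : Subgroup (S ⧸ K)).subtype
    obtain ⟨β₁, hβ₁, hβ₁e⟩ := Cfsg.Agent.Lib.Fusion.Joins.exists_hom_of_eq F hPre.symm β hβ
    have hP₁ : Cfsg.FusionSystem.preimageAlong θ (⊤ : Subgroup (S ⧸ K)) ≤ S := le_of_eq hPre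
    have hφ' : φ' ∈ E.Hom ⊤ := by
      refine (hE.2.2.2 ⊤ φ').2 ⟨le_rfl, β₁, hβ₁, hP₁, Cfsg.Agent.Lib.Fusion.Basic.map_mem_S hβ₁,
        fun _ => Subgroup.mem_top _, ?_⟩
      intro y
      have e1 : β₁ y = β ⟨y, hP₁ y.2⟩ := hβ₁e y (hP₁ y.2) y.2
      have e2 : (⟨β₁ y, Cfsg.Agent.Lib.Fusion.Basic.map_mem_S hβ₁ y⟩ : S) = β' ⟨y, hP₁ y.2⟩ :=
        Subtype.ext e1
      rw [e2]
      rfl
    have hin := hinner ⊤
    have hφ'' : φ' ∈ (Cfsg.innerFusionSystem (⊤ : Subgroup (S ⧸ K))).Hom ⊤ := hin ▸ hφ'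
    obtain ⟨-, g, -, hg⟩ := hφ''
    have h1 := hg ⟨(x : S ⧸ K), Subgroup.mem_top _⟩
    have h2 : φ' ⟨(x : S ⧸ K), Subgroup.mem_top _⟩ = ((β' x : S) : S ⧸ K) := rfl
    rw [h2] at h1
    have h3 : g * (x : S ⧸ K) * g⁻¹ = (x : S ⧸ K) := by
      rw [hab' g (Subgroup.mem_top _) _ (Subgroup.mem_top _)]
      simp
    have h4 := h1.trans h3
    have h5 : ((x : S ⧸ K)) = ((β' x : S) : S ⧸ K) := h4.symm
    rw [QuotientGroup.eq] at h5
    exact h5
  have hfoc : F.focalSubgroup ≤ Z := by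
    refine (Subgroup.closure_le _).2 ?_
    rintro y ⟨P, φ, x, hφ, rfl⟩
    obtain ⟨β, hβ, hag⟩ := Cfsg.Agent.Lib.Fusion.Abelian.exists_extension hF hab hφ
    have hxS : (x : Ω) ∈ S := Cfsg.Agent.Lib.Fusion.Basic.source_le hφ x.2
    have h1 := key β hβ ⟨x, hxS⟩
    rw [hag x x.2 hxS] at h1
    exact h1
  have hfb : F.focalSubgroup = ⊥ := by
    have h1 := (Cfsg.Agent.Lib.Fusion.Abelian.center_focal hS hF hab).1
    rw [eq_bot_iff, ← h1]
    exact le_inf hfoc le_rfl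
  have hhf : F.hyperfocalSubgroup p ≤ F.focalSubgroup := by
    refine (Subgroup.closure_le _).2 ?_
    rintro y ⟨P, α, x, hP, -, rfl⟩
    apply Subgroup.subset_closure
    exact ⟨P, P.subtype.comp (α : MulAut P).toMonoidHom, x,
      Cfsg.Agent.Lib.Fusion.Basic.autGroup_mem_hom hP α.2, rfl⟩
  have hSbot : S = ⊥ := by
    rw [← hhyp, eq_bot_iff, ← hfb]
    exact hhf
  apply hEs.2.1
  rw [eq_bot_iff]
  intro x _
  induction x using QuotientGroup.induction_on with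
  | H a =>
    have ha : (a : Ω) ∈ (⊥ : Subgroup Ω) := hSbot ▸ a.2
    have : a = 1 := Subtype.ext ha
    rw [this]
    exact Subgroup.one_mem _

end Cfsg.Agent.S5148
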