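import Cfsg.Statements.S5246
import Mathlib
import Cfsg.Agent.Lib.Fusion.PStable
import Cfsg.Agent.Lib.Fusion.GroupSylow
-- import your own Cfsg.Agent.* helpers here

set_option autoImplicit false
open Cfsg

namespace Cfsg.Agent.S5246

open Cfsg.FusionSystem Cfsg.Agent.Lib.Fusion.Basic Cfsg.Agent.Lib.Fusion.Saturated
open Cfsg.Agent.Lib.Fusion.PStable Cfsg.Agent.Lib.Fusion.GroupSylow
open scoped commutatorElement

section aux

variable {Ω : Type*} [Group Ω] {p : ℕ} [Fact p.Prime]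

/-- The image of `g` in `N_G(Q)/C_G(Q)` lies in `O_p` iff `c_g` lies in `O_p(Aut_G(Q))`. -/
theorem mk_mem_pCore_iff [Finite Ω] {Q : Subgroup Ω} (g : Ω) (hg : g ∈ Subgroup.normalizer (Q : Set Ω)) :
    (QuotientGroup.mk (s := (Subgroup.centralizer (Q : Set Ω)).subgroupOf (Subgroup.normalizer (Q : Set Ω)))
          (⟨g, hg⟩ : ↥(Subgroup.normalizer (Q : Set Ω)))) ∈
        Cfsg.pCore p (↥(Subgroup.normalizer (Q : Set Ω)) ⧸
          (Subgroup.centralizer (Q : Set Ω)).subgroupOf (Subgroup.normalizer (Q : Set Ω))) ↔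
    normConj g hg ∈ ((Cfsg.pCore p (autInducedBy ⊤ Q)).map (autInducedBy ⊤ Q).subtype : Subgroup (MulAut Q)) := by
  let θ : Subgroup.normalizer (Q : Set Ω) →* autInducedBy ⊤ Q :=
    MonoidHom.mk' (fun y => ⟨normConj (y : Ω) y.2, normConj_mem_autInducedBy (Subgroup.mem_top _) y.2⟩)
      (fun a b => Subtype.ext (normConj_mul a.2 b.2))
  have hθ : ∀ y ∈ (Subgroup.centralizer (Q : Set Ω)).subgroupOf (Subgroup.normalizer (Q : Set Ω)), θ y = 1 := by
    intro y hy
    apply Subtype.ext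
    ext x
    have h1 := Subgroup.mem_centralizer_iff.1 (Subgroup.mem_subgroupOf.1 hy) x x.2
    show (y : Ω) * x * (y : Ω)⁻¹ = x
    rw [← h1]
    simp
  let π := QuotientGroup.lift _ θ hθ
  have hπmk : ∀ y, π (QuotientGroup.mk y) = θ y := fun y => rfl
  have hπi : Function.Injective π := by
    rw [injective_iff_map_eq_one]
    intro x
    induction x using QuotientGroup.induction_on with
    | H y =>
      intro hy
      rw [hπmk] at hy
      rw [QuotientGroup.eq_one_iff]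
      apply Subgroup.mem_subgroupOf.2
      rw [Subgroup.mem_centralizer_iff]
      intro a ha
      have h1 := congrArg (fun z : autInducedBy ⊤ Q => (((z : MulAut Q) ⟨a, ha⟩ : Q) : Ω)) hy
      have h2 : (y : Ω) * a * (y : Ω)⁻¹ = a := h1
      calc a * (y : Ω) = ((y : Ω) * a * (y : Ω)⁻¹) * (y : Ω) := by rw [h2]
        _ = (y : Ω) * a := by group
  have hπs : Function.Surjective π := by
    rintro ⟨α, hα⟩
    obtain ⟨y, -, hval⟩ := Cfsg.Agent.Lib.Fusion.Basic.mem_autInducedBy_iff.1 hα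
    refine ⟨QuotientGroup.mk ⟨y, mem_normalizer_of_aut hval⟩, ?_⟩
    rw [hπmk]
    apply Subtype.ext
    ext x
    exact (hval x).symm
  let e := MulEquiv.ofBijective π ⟨hπi, hπs⟩
  have he : ∀ y, e (QuotientGroup.mk y) = θ y := fun y => rfl
  have h1 := Cfsg.Agent.Lib.Transfer.SectionBasic.map_pCore_equiv (p := p) e
  constructor
  · intro h
    have h2 : e (QuotientGroup.mk ⟨g, hg⟩) ∈ Cfsg.pCore p (autInducedBy ⊤ Q) := by
      rw [← h1]
      exact ⟨_, h, rfl⟩
    exact ⟨_, h2, rfl⟩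
  · rintro ⟨a, ha, hav⟩
    have h2 : a = e (QuotientGroup.mk ⟨g, hg⟩) := Subtype.ext hav
    rw [h2, ← h1] at ha
    obtain ⟨x, hx, hxa⟩ := ha
    have := e.injective hxa
    rwa [← this]

theorem quad_iff_commutator {Q : Subgroup Ω} [Finite Ω] (g : Ω) (hg : g ∈ Subgroup.normalizer (Q : Set Ω)) :
    ⁅⁅Q, Subgroup.zpowers g⁆, Subgroup.zpowers g⁆ = ⊥ ↔ Quad (normConj g hg) := by
  constructor
  · intro h a
    have h0 : ∀ x ∈ Q, ⁅⁅x, g⁆, g⁆ = 1 := by
      intro x hx
      have h1 : ⁅⁅x, g⁆, g⁆ ∈ ⁅⁅Q, Subgroup.zpowers g⁆, Subgroup.zpowers g⁆ :=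
        Subgroup.commutator_mem_commutator (Subgroup.commutator_mem_commutator hx (Subgroup.mem_zpowers g))
          (Subgroup.mem_zpowers g)
      rw [h] at h1
      exact h1
    apply Subtype.ext
    have h1 := h0 (a : Ω)⁻¹ (Subgroup.inv_mem _ a.2)
    rw [commutatorElement_eq_one_iff_commute] at h1
    have h2 : (a : Ω)⁻¹ * g * a = g * (a : Ω)⁻¹ * g * a * g⁻¹ := by
      have h3 := h1.eq
      rw [commutatorElement_def] at h3
      simp only [inv_inv] at h3
      calc (a : Ω)⁻¹ * g * a = (a : Ω)⁻¹ * g * a * g⁻¹ * g := by group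
        _ = g * ((a : Ω)⁻¹ * g * a * g⁻¹) := h3
        _ = g * (a : Ω)⁻¹ * g * a * g⁻¹ := by group
    have e : ((normConj g hg a⁻¹ * a * normConj g hg a⁻¹ * normConj g hg (normConj g hg a) : Q) : Ω) =
        g * (a : Ω)⁻¹ * g⁻¹ * a * (g * (a : Ω)⁻¹ * g * a * g⁻¹) * g⁻¹ := by
      simp only [Subgroup.coe_mul, normConj_apply, Subgroup.coe_inv]
      group
    rw [e, ← h2]
    simp only [OneMemClass.coe_one]
    group
  · intro hq
    rw [Subgroup.commutator_eq_bot_iff_le_centralizer, Subgroup.commutator_le]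
    intro a ha z hz
    have hz' : z ∈ Submonoid.powers g := mem_powers_iff_mem_zpowers.2 hz
    obtain ⟨k, rfl⟩ := hz'
    have hpow : ∀ (k : ℕ) (y : Q), ((((normConj g hg) ^ k) y : Q) : Ω) = g ^ k * y * (g ^ k)⁻¹ := by
      intro k
      induction k with
      | zero => simp
      | succ k ih =>
        intro y
        rw [pow_succ', MulAut.mul_apply, normConj_apply, ih, pow_succ']
        group
    -- `b = a χ(a⁻¹)` commutes with `g`
    let b : Ω := a * g * a⁻¹ * g⁻¹
    have hb : g * b * g⁻¹ = b := by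
      have h1 := hq.fixed (⟨a, ha⟩ : Q)⁻¹
      have h2 := congrArg (Subtype.val) h1
      simp only [normConj_apply, Subgroup.coe_mul, Subgroup.coe_inv, inv_inv, MulAut.mul_apply] at h2
      have h3 : g * (a * (g * a⁻¹ * g⁻¹)) * g⁻¹ = a * (g * a⁻¹ * g⁻¹) := h2
      show g * (a * g * a⁻¹ * g⁻¹) * g⁻¹ = a * g * a⁻¹ * g⁻¹
      simpa [mul_assoc] using h3
    have hbc : Commute g b := by
      show g * b = b * g
      calc g * b = g * b * g⁻¹ * g := by group
        _ = b * g := by rw [hb]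
    have hcomm : ⁅a, g ^ k⁆ = b ^ k := by
      have h1 := hq.pow_apply (⟨a, ha⟩ : Q)⁻¹ k
      have h2 := congrArg (Subtype.val) h1
      rw [hpow] at h2
      simp only [normConj_apply, Subgroup.coe_mul, Subgroup.coe_inv, inv_inv, Subgroup.coe_pow, MulAut.mul_apply] at h2
      have h3 : b = a * (g * a⁻¹ * g⁻¹) := by simp [b, mul_assoc]
      rw [commutatorElement_def, h3]
      have h4 : g ^ k * a⁻¹ * (g ^ k)⁻¹ = a⁻¹ * (a * (g * a⁻¹ * g⁻¹)) ^ k := h2
      calc a * g ^ k * a⁻¹ * (g ^ k)⁻¹ = a * (g ^ k * a⁻¹ * (g ^ k)⁻¹) := by group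
        _ = _ := by rw [h4]; group
    rw [hcomm]
    apply Subgroup.pow_mem
    rw [Subgroup.mem_centralizer_iff]
    intro h hh
    obtain ⟨m, rfl⟩ := Subgroup.mem_zpowers_iff.1 hh
    exact (hbc.zpow_left m).eq

end aux

/-- Let p be an odd prime, G a finite group and P a Sylow p-subgroup. Call a fusion system F p-stable when, for every fully normalized subgroup Q and every χ ∈ Aut_F(Q) acting quadratically on Q (that is, χ fixes a⁻¹χ(a) for every a ∈ Q; equivalently χ(a⁻¹)·a·χ(a⁻¹)·χ(χ(a)) = 1), χ lies in O_p(Aut_F(Q)). Then G is p-stable in the normalizer form (for every p-subgroup Q and x ∈ N_G(Q) with [Q, x, x] = 1, the image of x lies in O_p(N_G(Q)/C_G(Q))) if and only if the fusion system of G on P is p-stable. -/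
theorem result {Ω : Type*} [Group Ω] [Finite Ω] {p : ℕ} [Fact p.Prime] (hp : p ≠ 2) (P : Sylow p Ω) : Cfsg.IsNormalizerPStable p Ω ↔ (∀ Q : Subgroup Ω, (Cfsg.groupFusionSystem (P : Subgroup Ω)).IsFullyNormalized Q → ∀ χ : MulAut ↥Q, χ ∈ (Cfsg.groupFusionSystem (P : Subgroup Ω)).autGroup Q → (∀ a : ↥Q, (χ a⁻¹) * a * (χ a⁻¹) * (χ (χ a)) = 1) → χ ∈ ((Cfsg.pCore p ↥((Cfsg.groupFusionSystem (P : Subgroup Ω)).autGroup Q)).map ((Cfsg.groupFusionSystem (P : Subgroup Ω)).autGroup Q).subtype : Subgroup (MulAut ↥Q))) := by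
  classical
  constructor
  · intro h Q hQ χ hχ hq
    have hQP := hQ.1
    rw [autGroup_groupFusionSystem _ hQP] at hχ
    obtain ⟨g, -, hval⟩ := Cfsg.Agent.Lib.Fusion.Basic.mem_autInducedBy_iff.1 hχ
    have hgN := mem_normalizer_of_aut hval
    have hχe : χ = normConj g hgN := by
      ext x
      exact hval x
    subst hχe
    have hQp : IsPGroup p Q := P.isPGroup'.to_le hQP
    have h1 := h Q hQp g hgN ((quad_iff_commutator g hgN).2 hq)
    rw [mk_mem_pCore_iff] at h1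
    rwa [pCore_map_congr (autGroup_groupFusionSystem _ hQP)]
  · intro h Q hQp g hg hcomm
    rw [mk_mem_pCore_iff]
    have hq := (quad_iff_commutator g hg).1 hcomm
    obtain ⟨a, ha⟩ := Cfsg.Agent.Lib.Fusion.Saturated.exists_conj_le_sylow P hQp
    -- the conjugate inside `P`
    let Q₁ : Subgroup Ω := Q.map (MulAut.conj a).toMonoidHom
    have hQ₁ : Q₁ ≤ (P : Subgroup Ω) := by
      rintro _ ⟨t, ht, rfl⟩
      exact ha t ht
    obtain ⟨Q', ⟨ψ, hψ, hψr⟩, hQ'⟩ := exists_fullyNormalized (F := Cfsg.groupFusionSystem (P : Subgroup Ω)) hQ₁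
    obtain ⟨-, -, b, hb⟩ := hψ
    -- the conjugating element
    let w : Ω := b * a
    let T := Cfsg.groupFusionSystem (⊤ : Subgroup Ω)
    have hφ : conjHom Q w ∈ T.Hom Q := T.conj_mem le_top (Subgroup.mem_top _)
    have hr : (conjHom Q w).range = Q' := by
      rw [← hψr]
      ext y
      constructor
      · rintro ⟨x, rfl⟩
        refine ⟨⟨a * x * a⁻¹, ⟨x, x.2, rfl⟩⟩, ?_⟩
        rw [hb]
        simp [conjHom, w, MulAut.conj_apply, mul_assoc]
      · rintro ⟨⟨_, t, ht, rfl⟩, rfl⟩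
        refine ⟨⟨t, ht⟩, ?_⟩
        rw [hb]
        simp [conjHom, w, MulAut.conj_apply, mul_assoc]
    obtain ⟨e, he⟩ : ∃ e : Q ≃* Q', ∀ x : Q, ((e x : Q') : Ω) = conjHom Q w x :=
      ⟨isoOfRange (T.injective_of_mem hφ) hr, fun _ => rfl⟩
    have hQ'P : Q' ≤ (P : Subgroup Ω) := hQ'.1
    have hT : ∀ Y : Subgroup Ω, T.autGroup Y = autInducedBy ⊤ Y :=
      fun Y => autGroup_groupFusionSystem _ le_top
    have hχ : normConj g hg ∈ T.autGroup Q := by
      rw [hT]
      exact normConj_mem_autInducedBy (Subgroup.mem_top _) hg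
    have hχ' := congr_mem_autGroup hφ e he hχ
    have hmem : MulAut.congr e (normConj g hg) ∈ (Cfsg.groupFusionSystem (P : Subgroup Ω)).autGroup Q' := by
      rw [autGroup_groupFusionSystem _ hQ'P, ← hT]
      exact hχ'
    have h2 := h Q' hQ' _ hmem (hq.congr e)
    rw [pCore_map_congr (autGroup_groupFusionSystem _ hQ'P), ← pCore_map_congr (hT Q')] at h2
    have h3 := mem_pCore_of_conj hφ e he h2
    rwa [pCore_map_congr (hT Q)] at h3

end Cfsg.Agent.S5246
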