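import Cfsg.Statements.S2420
import Cfsg.Agent.Lib.Linalg.Count
import Mathlib

set_option autoImplicit false
open Cfsg

open scoped MatrixGroups

namespace Cfsg.Agent.S2420

open Cfsg.Agent.Lib.Linalg.Count

/-- Partial sums. -/
def T {n : ℕ} (μ : Fin n → ℕ) (a : ℕ) : ℕ :=
  ∑ k ∈ Finset.univ.filter (fun k : Fin n => k.val < a), μ k

theorem T_zero {n : ℕ} (μ : Fin n → ℕ) : T μ 0 = 0 := by
  simp [T]

theorem T_n {n : ℕ} (μ : Fin n → ℕ) : T μ n = ∑ i, μ i := by
  simp [T]

theorem T_mono {n : ℕ} (μ : Fin n → ℕ) {a b : ℕ} (h : a ≤ b) : T μ a ≤ T μ b := by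
  apply Finset.sum_le_sum_of_subset
  intro k hk
  simp only [Finset.mem_filter, Finset.mem_univ, true_and] at hk ⊢
  omega

theorem T_succ {n : ℕ} (μ : Fin n → ℕ) (a : Fin n) : T μ (a + 1) = T μ a + μ a := by
  have : Finset.univ.filter (fun k : Fin n => k.val < a.val + 1) =
      insert a (Finset.univ.filter (fun k : Fin n => k.val < a.val)) := by
    ext k
    simp only [Finset.mem_filter, Finset.mem_univ, true_and, Finset.mem_insert, Fin.ext_iff]
    omega
  rw [T, this, Finset.sum_insert (by simp), add_comm]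
  rfl

/-- The defining partial sum in the label is `T (j + 1)`. -/
theorem sum_le_eq {n : ℕ} (μ : Fin n → ℕ) (j : Fin n) :
    ∑ k ∈ Finset.univ.filter (fun k : Fin n => k ≤ j), μ k = T μ (j + 1) := by
  unfold T
  congr 1
  ext k
  simp only [Finset.mem_filter, Finset.mem_univ, true_and, Fin.le_def]
  omega

theorem compLabel_eq_of {n : ℕ} (μ : Fin n → ℕ) (i : Fin n) (a : Fin n)
    (h1 : T μ a ≤ i) (h2 : (i : ℕ) < T μ (a + 1)) : compLabel μ i = a := by
  unfold compLabel
  have : (Finset.univ.filter fun j : Fin n =>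
      (∑ k ∈ Finset.univ.filter (fun k : Fin n => k ≤ j), μ k) ≤ i.val) =
      Finset.univ.filter (fun j : Fin n => j.val < a.val) := by
    ext j
    simp only [Finset.mem_filter, Finset.mem_univ, true_and, sum_le_eq]
    constructor
    · intro h
      by_contra hj
      have : T μ (a + 1) ≤ T μ (j + 1) := T_mono μ (by omega)
      omega
    · intro h
      have : T μ (j + 1) ≤ T μ a := T_mono μ (by omega)
      omega
  rw [this]
  have h3 : (Finset.univ.filter (fun j : Fin n => j.val < a.val)).map Fin.valEmbedding =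
      Finset.range a := by
    ext x
    simp only [Finset.mem_map, Finset.mem_filter, Finset.mem_univ, true_and, Fin.valEmbedding_apply,
      Finset.mem_range]
    constructor
    · rintro ⟨j, hj, rfl⟩
      exact hj
    · intro hx
      exact ⟨⟨x, hx.trans a.2⟩, hx, rfl⟩
  rw [← Finset.card_map Fin.valEmbedding, h3, Finset.card_range]

theorem exists_label {n : ℕ} (μ : Fin n → ℕ) (hμ : ∑ i, μ i = n) (i : Fin n) :
    ∃ a : Fin n, T μ a ≤ i ∧ (i : ℕ) < T μ (a + 1) := by
  have hex : ∃ c, (i : ℕ) < T μ c := ⟨n, by rw [T_n, hμ]; exact i.2⟩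
  classical
  let c := Nat.find hex
  have hc : (i : ℕ) < T μ c := Nat.find_spec hex
  have hc0 : c ≠ 0 := by
    intro h0
    rw [h0, T_zero] at hc
    omega
  have hcn : c ≤ n := Nat.find_min' hex (by rw [T_n, hμ]; exact i.2)
  obtain ⟨d, hd⟩ : ∃ d, c = d + 1 := ⟨c - 1, by omega⟩
  have hmin : ¬ (i : ℕ) < T μ d := Nat.find_min hex (by omega)
  refine ⟨⟨d, by omega⟩, by simpa using not_lt.1 hmin, ?_⟩
  show (i : ℕ) < T μ (d + 1)
  rw [← hd]
  exact hc

theorem compLabel_lt {n : ℕ} (μ : Fin n → ℕ) (hμ : ∑ i, μ i = n) (i : Fin n) : compLabel μ i < n := by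
  obtain ⟨a, h1, h2⟩ := exists_label μ hμ i
  rw [compLabel_eq_of μ i a h1 h2]
  exact a.2

theorem compLabel_eq_iff {n : ℕ} (μ : Fin n → ℕ) (hμ : ∑ i, μ i = n) (i a : Fin n) :
    compLabel μ i = a ↔ T μ a ≤ i ∧ (i : ℕ) < T μ (a + 1) := by
  constructor
  · intro h
    obtain ⟨a', h1, h2⟩ := exists_label μ hμ i
    have h3 := compLabel_eq_of μ i a' h1 h2
    have h4 : a' = a := Fin.ext (h3.symm.trans h)
    subst h4
    exact ⟨h1, h2⟩
  · rintro ⟨h1, h2⟩
    exact compLabel_eq_of μ i a h1 h2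

/-- The label function with values in `Fin n`. -/
def lab {n : ℕ} (μ : Fin n → ℕ) (hμ : ∑ i, μ i = n) (i : Fin n) : Fin n :=
  ⟨compLabel μ i, compLabel_lt μ hμ i⟩

theorem card_fiber {n : ℕ} (μ : Fin n → ℕ) (hμ : ∑ i, μ i = n) (a : Fin n) :
    Fintype.card {i // lab μ hμ i = a} = μ a := by
  classical
  rw [Fintype.card_subtype]
  have h1 : (Finset.univ.filter fun i => lab μ hμ i = a).map Fin.valEmbedding =
      Finset.Ico (T μ a) (T μ (a + 1)) := by
    ext x
    simp only [Finset.mem_map, Finset.mem_filter, Finset.mem_univ, true_and, Fin.valEmbedding_apply,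
      Finset.mem_Ico]
    constructor
    · rintro ⟨i, hi, rfl⟩
      have : compLabel μ i = a := congrArg Fin.val hi
      exact (compLabel_eq_iff μ hμ i a).1 this
    · rintro ⟨h1, h2⟩
      have hle : T μ (a + 1) ≤ n := by
        have := T_mono μ (show (a : ℕ) + 1 ≤ n from a.2)
        rwa [T_n, hμ] at this
      refine ⟨⟨x, by omega⟩, ?_, rfl⟩
      apply Fin.ext
      exact (compLabel_eq_iff μ hμ ⟨x, by omega⟩ a).2 ⟨h1, h2⟩
  rw [← Finset.card_map Fin.valEmbedding, h1, Nat.card_Ico, T_succ]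
  omega

/-- The number of partial flags of a given type: for a composition `μ` of `n` (with `n` parts, zeros allowed) and a field with `q` elements, the index of the standard parabolic subgroup `P_μ` in `GL_n(q)` times `∏_i {μ_i}` equals `{n}`, where `{r}` denotes the product over `k = 1, …, r` of the q-integers `1 + q + ⋯ + q^(k−1)`. -/
theorem result {F : Type*} [Field F] [Fintype F] {q : ℕ} (hq : Fintype.card F = q) {n : ℕ} (μ : Fin n → ℕ) (hμ : ∑ i, μ i = n) :
    Nat.card (GL (Fin n) F ⧸ Cfsg.parabolicGL n F μ) * ∏ i : Fin n, ∏ j ∈ Finset.range (μ i), ∑ l ∈ Finset.range (j + 1), q ^ l =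
      ∏ j ∈ Finset.range n, ∑ l ∈ Finset.range (j + 1), q ^ l := by
  subst hq
  have h := index_mul_qf (F := F) (lab μ hμ) (Cfsg.parabolicGL n F μ) (fun g => by
    show (g : Matrix (Fin n) (Fin n) F).BlockTriangular (compLabel μ) ↔ _
    rfl)
  simp only [card_fiber, Fintype.card_fin] at h
  exact h

end Cfsg.Agent.S2420
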