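import Cfsg.Statements.S0457
import Cfsg.Agent.Lib.Compute.SimpleSpec
import Cfsg.Agent.Lib.Sporadic.J1.Basic

set_option autoImplicit false
open Cfsg

namespace Cfsg.Agent.S0457

open Cfsg.Spor Cfsg.Agent.Lib.Compute.SimpleSpec
open Cfsg.Agent.Lib.Sporadic.J1 Cfsg.Agent.Lib.Sporadic.J1.PackedMat Cfsg.Agent.Lib.Sporadic.J1.Cert
open Cfsg.Agent.Lib.Sporadic.J1.Orders Cfsg.Agent.Lib.Sporadic.J1.Basic

theorem pow_word {p : ℕ} (w : List Bool) (h : powN (wP w) p = oneP) : wG w ^ p = 1 :=
  (pow_eq_one_iff (wP_reduced w) (wG_val w) p).mpr h

/-- An element of `J₁` written as a product of two words of exponent `p` is in the subgroup generated by the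
elements of exponent `p`. -/
theorem mem_of_words {p : ℕ} (w1 w2 : List Bool) (h1 : powN (wP w1) p = oneP) (h2 : powN (wP w2) p = oneP) :
    wG (w1 ++ w2) ∈ (Subgroup.closure {g : J1 | g ^ p = 1}).map J1.subtype := by
  rw [wG_append]
  refine mul_mem ?_ ?_
  · refine ⟨⟨wG w1, wG_mem w1⟩, Subgroup.subset_closure ?_, rfl⟩
    apply Subtype.ext
    exact pow_word w1 h1
  · refine ⟨⟨wG w2, wG_mem w2⟩, Subgroup.subset_closure ?_, rfl⟩
    apply Subtype.ext
    exact pow_word w2 h2

theorem top_of_mem {p : ℕ} (hx : jankoX ∈ (Subgroup.closure {g : J1 | g ^ p = 1}).map J1.subtype)
    (hy : jankoY ∈ (Subgroup.closure {g : J1 | g ^ p = 1}).map J1.subtype) :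
    Subgroup.closure {g : J1 | g ^ p = 1} = ⊤ := by
  have hle : J1 ≤ (Subgroup.closure {g : J1 | g ^ p = 1}).map J1.subtype := by
    refine (Subgroup.closure_le _).mpr ?_
    rintro g (rfl | hg)
    · exact hx
    · rw [Set.mem_singleton_iff] at hg
      rw [hg]
      exact hy
  rw [eq_top_iff]
  rintro ⟨g, hg⟩ -
  obtain ⟨z, hz, hzg⟩ := hle hg
  have : z = ⟨g, hg⟩ := Subtype.ext hzg
  rwa [← this]

theorem wX_eq : wG [true] = jankoX := mul_one _
theorem wY_eq : wG [false] = jankoY := mul_one _

/-- first word for `7` and `X` -/
def a7x : List Bool := [true, true]
/-- second word for `7` and `X` -/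
def b7x : List Bool := [true, true, true, true, true, true, true, true, true, true, true, true, true]
/-- first word for `7` and `Y` -/
def a7y : List Bool := [true, true, true, false, true, false, true, false, true]
/-- second word for `7` and `Y` -/
def b7y : List Bool := [true, true, true, true, true, true, false, false, false, false, true, true, true, true, true, true, false, false, false, false, true, true, true, true, true, true, false, false, false, false, true, true, true, true, true, true, true, true, true, true, true, true, true, true, true, true, true, true, false]

theorem gen7 : Subgroup.closure {g : J1 | g ^ 7 = 1} = ⊤ := by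
  apply top_of_mem
  · have h := mem_of_words (p := 7) a7x b7x (by decide +kernel) (by decide +kernel)
    have e : wG (a7x ++ b7x) = wG [true] := wG_eq_of (by decide +kernel)
    rwa [e, wX_eq] at h
  · have h := mem_of_words (p := 7) a7y b7y (by decide +kernel) (by decide +kernel)
    have e : wG (a7y ++ b7y) = wG [false] := wG_eq_of (by decide +kernel)
    rwa [e, wY_eq] at h

/-- first word for `11` and `X` -/
def a11x : List Bool := [true, true, false, false]
/-- second word for `11` and `X` -/
def b11x : List Bool := [false, false, false, false, false, false, false, false, true, true, true, true, true, true, true, true, true, true, true, true, true]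
/-- first word for `11` and `Y` -/
def a11y : List Bool := [true, true, false, false, false, true, true, false, false, true]
/-- second word for `11` and `Y` -/
def b11y : List Bool := [true, true, true, true, true, true, false, false, false, false, false, false, false, false, true, true, true, true, true, true, true, true, true, true, true, true, false, false, false, false, false, false, false, false, false, false, false, false, true, true, true, true, true, true, true, true, true, true, true, true, false]

theorem gen11 : Subgroup.closure {g : J1 | g ^ 11 = 1} = ⊤ := by
  apply top_of_mem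
  · have h := mem_of_words (p := 11) a11x b11x (by decide +kernel) (by decide +kernel)
    have e : wG (a11x ++ b11x) = wG [true] := wG_eq_of (by decide +kernel)
    rwa [e, wX_eq] at h
  · have h := mem_of_words (p := 11) a11y b11y (by decide +kernel) (by decide +kernel)
    have e : wG (a11y ++ b11y) = wG [false] := wG_eq_of (by decide +kernel)
    rwa [e, wY_eq] at h

/-- first word for `19` and `X` -/
def a19x : List Bool := [false, false, false, true, true, false]
/-- second word for `19` and `X` -/
def b19x : List Bool := [false, false, false, false, true, true, true, true, true, true, true, true, true, true, true, true, false, false, false, false, false, false, false, false, false, false, false, false, true]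
/-- first word for `19` and `Y` -/
def a19y : List Bool := [false, false, false, false, true, true, false, false, false, true]
/-- second word for `19` and `Y` -/
def b19y : List Bool := [true, true, true, true, true, true, false, false, false, false, false, false, false, false, false, false, false, false, true, true, true, true, true, true, true, true, true, true, true, true, false, false, false, false, false, false, false, false, false, false, false, false, false, false, false, false, false]

theorem gen19 : Subgroup.closure {g : J1 | g ^ 19 = 1} = ⊤ := by
  apply top_of_mem
  · have h := mem_of_words (p := 19) a19x b19x (by decide +kernel) (by decide +kernel)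
    have e : wG (a19x ++ b19x) = wG [true] := wG_eq_of (by decide +kernel)
    rwa [e, wX_eq] at h
  · have h := mem_of_words (p := 19) a19y b19y (by decide +kernel) (by decide +kernel)
    have e : wG (a19y ++ b19y) = wG [false] := wG_eq_of (by decide +kernel)
    rwa [e, wY_eq] at h

instance : Nontrivial J1 := by
  rw [← Finite.one_lt_card_iff_nontrivial, card_J1]
  norm_num

theorem simple_J1 : IsSimpleGroup J1 := by
  refine isSimpleGroup_of_isolated ({7, 11, 19} : Finset ℕ) ?_ ?_ ?_ ?_ ?_ ?_
  · intro p hp
    simp only [Finset.mem_insert, Finset.mem_singleton] at hp
    rcases hp with rfl | rfl | rfl <;> norm_num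
  · intro p hp
    simp only [Finset.mem_insert, Finset.mem_singleton] at hp
    rw [card_J1]
    rcases hp with rfl | rfl | rfl <;> norm_num
  · intro p hp
    simp only [Finset.mem_insert, Finset.mem_singleton] at hp
    rw [card_J1]
    rcases hp with rfl | rfl | rfl <;> norm_num
  · intro p hp
    simp only [Finset.mem_insert, Finset.mem_singleton] at hp
    rcases hp with rfl | rfl | rfl
    · exact gen7
    · exact gen11
    · exact gen19
  · intro p hp g hg
    have hs := orderOf_mem_spectrum g
    have key : ∀ p ∈ ({7, 11, 19} : Finset ℕ), ∀ m ∈ Orders.spectrum, p ∣ m → m = p := by decide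
    exact key p hp _ hs hg
  · rw [card_J1]
    decide

/-- The two explicit `7 × 7` matrices over the integers modulo 11 generate a simple group of order 175560. -/
theorem result : ∃ x y : GL (Fin 7) (ZMod 11), (x : Matrix (Fin 7) (Fin 7) (ZMod 11)) = Cfsg.jankoMatrixX ∧ (y : Matrix (Fin 7) (Fin 7) (ZMod 11)) = Cfsg.jankoMatrixY ∧ Cfsg.IsJ1 (Subgroup.closure ({x, y} : Set (GL (Fin 7) (ZMod 11)))) :=
  ⟨jankoX, jankoY, rfl, rfl, simple_J1, card_J1⟩

end Cfsg.Agent.S0457
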