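import Cfsg.Statements.S2840
import Cfsg.Agent.Lib.PGroup.WeaklyClosed

set_option autoImplicit false
open Cfsg

namespace Cfsg.Agent.S2840

open Cfsg.Agent.Lib.PGroup.WeaklyClosed

variable {H : Type*} [Group H] [Finite H] {p : ℕ} [Fact p.Prime]

theorem eq_iSup (Q : Subgroup H) (hQp : IsPGroup p ↥Q) (hwc : Cfsg.IsWeaklyClosedSubgroup p Q)
    (K : Subgroup H) (hQK : Q ≤ K) :
    Cfsg.weakClosure Q K = ⨆ k : ↥K, cj (k : H) Q := by
  apply le_antisymm
  · refine iSup_le fun g => ?_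
    obtain ⟨k, hk, heq⟩ := exists_conj_in_overgroup hwc hQp hQK g.2
    change cj (g : H) Q ≤ _
    rw [heq]
    exact le_iSup (fun k : ↥K => cj (k : H) Q) ⟨k, hk⟩
  · refine iSup_le fun k => ?_
    exact le_iSup (fun g : {g : H // Q.map (MulAut.conj g).toMonoidHom ≤ K} =>
      Q.map (MulAut.conj (g : H)).toMonoidHom) ⟨k, cj_le_of_mem k.2 hQK⟩

/-- Subnormal overgroups contain all conjugates. -/
theorem conj_le_of_isSubnormal (Q : Subgroup H) (hQp : IsPGroup p ↥Q)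
    (hwc : Cfsg.IsWeaklyClosedSubgroup p Q) (K : Subgroup H) (hQK : Q ≤ K)
    (L : Subgroup K) (hL : L.IsSubnormal) (hQL : Q.subgroupOf K ≤ L) (k : K) :
    cj (k : H) Q ≤ L.map K.subtype := by
  induction hL with
  | top =>
    have : cj (k : H) Q ≤ K := cj_le_of_mem k.2 hQK
    intro x hx
    exact ⟨⟨x, this hx⟩, Subgroup.mem_top _, rfl⟩
  | step A B hAB hB hN ih =>
    have h1 := ih (hQL.trans hAB)
    have hQB : Q ≤ B.map K.subtype := by
      intro x hx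
      exact ⟨⟨x, hQK hx⟩, hAB (hQL hx), rfl⟩
    obtain ⟨l, hl, heq⟩ := exists_conj_in_overgroup hwc hQp hQB h1
    rw [heq]
    obtain ⟨l', hl', rfl⟩ := hl
    intro x hx
    obtain ⟨q, hq, rfl⟩ := hx
    have hqK : q ∈ K := hQK hq
    have h2 : (⟨q, hqK⟩ : K) ∈ A := hQL hq
    have h3 := hN.conj_mem (⟨⟨q, hqK⟩, hAB h2⟩ : B) h2 ⟨l', hl'⟩
    refine ⟨l' * ⟨q, hqK⟩ * l'⁻¹, h3, ?_⟩
    simp

theorem result {H : Type*} [Group H] [Finite H] {p : ℕ} [Fact p.Prime] (Q : Subgroup H) (hQp : IsPGroup p ↥Q) (hQ1 : Q ≠ ⊥) (hwc : Cfsg.IsWeaklyClosedSubgroup p Q) (K : Subgroup H) (hQK : Q ≤ K) (Kc : Subgroup H) (hKc : Kc = Cfsg.weakClosure Q K) : Kc = ⨆ k : ↥K, ((Q : Subgroup H).map (MulAut.conj ((k : H) : H)).toMonoidHom) ∧ Kc = (Cfsg.subnormalClosure (Q.subgroupOf K)).map K.subtype := by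
  have h1 : Kc = ⨆ k : ↥K, cj (k : H) Q := hKc.trans (eq_iSup Q hQp hwc K hQK)
  refine ⟨h1, ?_⟩
  have hKcK : Kc ≤ K := by
    rw [h1]
    exact iSup_le fun k => cj_le_of_mem k.2 hQK
  have hQKc : Q ≤ Kc := by
    rw [h1]
    have := le_iSup (fun k : ↥K => cj (k : H) Q) 1
    simpa using this
  apply le_antisymm
  · -- `Kc ≤` closure
    rw [h1]
    refine iSup_le fun k => ?_
    intro x hx
    have hxK : x ∈ K := cj_le_of_mem k.2 hQK hx
    refine ⟨⟨x, hxK⟩, ?_, rfl⟩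
    refine (Subgroup.mem_sInf).2 fun L hL => ?_
    obtain ⟨y, hy, hyx⟩ := conj_le_of_isSubnormal Q hQp hwc K hQK L hL.2 hL.1 k hx
    have : y = ⟨x, hxK⟩ := Subtype.ext hyx
    exact this ▸ hy
  · -- closure `≤ Kc`
    have hconj : ∀ g : K, cj (g : H) Kc ≤ Kc := by
      intro g
      have : cj (g : H) Kc = ⨆ k : ↥K, cj (g : H) (cj (k : H) Q) := by
        rw [h1]
        exact Subgroup.map_iSup _ _
      rw [this]
      refine iSup_le fun k => ?_
      rw [← cj_mul, h1]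
      exact le_iSup (fun k : ↥K => cj (k : H) Q) (g * k)
    have hn : (Kc.subgroupOf K).Normal := by
      refine ⟨fun x hx g => ?_⟩
      have hx' : (x : H) ∈ Kc := hx
      exact hconj g (conj_mem_cj hx')
    have hle : Cfsg.subnormalClosure (Q.subgroupOf K) ≤ Kc.subgroupOf K :=
      sInf_le ⟨fun x hx => hQKc hx, hn.isSubnormal⟩
    rintro _ ⟨y, hy, rfl⟩
    exact hle hy

end Cfsg.Agent.S2840
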