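import Cfsg.Statements.S2842
import Mathlib
import Cfsg.Agent.Lib.PGroup.WeaklyClosed
import Cfsg.Agent.Lib.PGroup.Basic
import Cfsg.Agent.Lib.Basic.PCore
import Cfsg.Agent.Lib.Amalgam.Vertex
import Cfsg.Agent.Lib.Amalgam.JComp
import Cfsg.Agent.Lib.Components.LocalFStar
import Cfsg.Agent.Lib.Coprime.Stability
import Cfsg.Agent.Lib.Coprime.StabilityElem
import Cfsg.Agent.Lib.Coprime.Three
import Cfsg.Agent.Lib.Coprime.Coset
import Cfsg.Agent.Lib.Solvable.AxB

set_option autoImplicit false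
open Cfsg

namespace Cfsg.Agent.S2842

open Subgroup
open scoped commutatorElement
open Cfsg.Agent.Lib.Amalgam.Vertex (pCoreOf_le conj_mem_pCoreOf le_normalizer_pCoreOf)
open Cfsg.Agent.Lib.Amalgam.JComp (normalizer_pCoreOf)
open Cfsg.Agent.Lib.Coprime.Three (centralizer_mem_normalizer inf_mem_normalizer mem_normalizer_of_conj_mem)
open Cfsg.Agent.Lib.Coprime.Stability (isPGroup_of_forall_coprime eq_one_of_mem_of_coprime)
open Cfsg.Agent.Lib.Coprime.StabilityElem (comm_of_mem_centralized)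

section Lemmas

variable {H : Type*} [Group H] [Finite H] {p : ℕ} [hp : Fact p.Prime]

/-- Characteristic `p` for a subgroup, in the language of the ambient group. -/
def CharPIn (p : ℕ) (M : Subgroup H) : Prop :=
  ∀ x ∈ M, (∀ b ∈ Cfsg.pCoreOf p M, x * b = b * x) → x ∈ Cfsg.pCoreOf p M

omit [Finite H] hp in
lemma charPIn_of {M : Subgroup H}
    (h : centralizer (Cfsg.pCore p ↥M : Set ↥M) ≤ Cfsg.pCore p ↥M) : CharPIn p M := by
  intro x hx hc
  refine ⟨⟨x, hx⟩, h ?_, rfl⟩
  rw [mem_centralizer_iff]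
  intro b hb
  apply Subtype.ext
  exact (hc b.1 ⟨b, hb, rfl⟩).symm

omit [Finite H] hp in
lemma of_charPIn {M : Subgroup H} (h : CharPIn p M) :
    centralizer (Cfsg.pCore p ↥M : Set ↥M) ≤ Cfsg.pCore p ↥M := by
  intro x hx
  have h1 := h x.1 x.2 (fun b hb => by
    obtain ⟨b', hb', rfl⟩ := hb
    have := mem_centralizer_iff.1 hx b' hb'
    exact (congrArg Subtype.val this).symm)
  obtain ⟨y, hy, hyx⟩ := h1
  have : y = x := Subtype.ext hyx
  exact this ▸ hy

lemma isPGroup_pCoreOf (M : Subgroup H) : IsPGroup p (Cfsg.pCoreOf p M) :=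
  (Cfsg.Agent.Lib.Basic.PCore.pCore_isPGroup p).map M.subtype

omit [Finite H] hp in
lemma mem_centralizer_zpowers {u d : H} (h : u * d = d * u) :
    u ∈ centralizer ((zpowers d : Subgroup H) : Set H) := by
  rw [mem_centralizer_iff]
  rintro _ ⟨k, rfl⟩
  exact ((show Commute u d from h).zpow_right k).symm.eq

/-- Centralizers of `p`-subgroups in groups of characteristic `p` have characteristic `p`. -/
theorem charPIn_inf_centralizer {M W : Subgroup H} (hW : IsPGroup p W) (hWM : W ≤ M)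
    (hM : CharPIn p M) : CharPIn p (M ⊓ centralizer (W : Set H)) := by
  set E := M ⊓ centralizer (W : Set H) with hE
  set B := Cfsg.pCoreOf p M with hB
  have hBp : IsPGroup p B := isPGroup_pCoreOf M
  have hMB : M ≤ normalizer (B : Set H) := le_normalizer_pCoreOf
  have hEO : E ≤ normalizer ((Cfsg.pCoreOf p E : Subgroup H) : Set H) := le_normalizer_pCoreOf
  intro x hxE hx
  set X := E ⊓ centralizer ((Cfsg.pCoreOf p E : Subgroup H) : Set H) with hX
  have hXp : IsPGroup p X := by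
    apply isPGroup_of_forall_coprime hp.out
    intro d hd hc
    have hdE : d ∈ E := hd.1
    have hdc : ∀ b ∈ Cfsg.pCoreOf p E, b * d = d * b := fun b hb =>
      mem_centralizer_iff.1 hd.2 b hb
    have h1 : B ≤ centralizer ((zpowers d : Subgroup H) : Set H) := by
      apply Cfsg.Agent.Lib.Solvable.AxB.ab_lemma (A := zpowers d) (B := W) (P := B) hBp hW
      · rw [Nat.card_zpowers]; exact hc
      · rw [zpowers_le]; exact hdE.2
      · rw [zpowers_le]; exact hMB hdE.1
      · exact hWM.trans hMB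
      · intro u hu
        have hPp : IsPGroup p ↥(B ⊓ centralizer (W : Set H)) := hBp.to_le inf_le_left
        have hEN : E ≤ normalizer ((B ⊓ centralizer (W : Set H) : Subgroup H) : Set H) :=
          fun e he => inf_mem_normalizer (hMB he.1) (le_normalizer he.2)
        have huE : u ∈ E := ⟨pCoreOf_le hu.1, hu.2⟩
        have hu' : u ∈ Cfsg.pCoreOf p E :=
          Cfsg.Agent.Lib.Components.LocalFStar.le_map_pCore hPp hEN ⟨hu, huE⟩
        exact mem_centralizer_zpowers (hdc u hu')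
    have h2 : d ∈ B := by
      apply hM d hdE.1
      intro b hb
      have := mem_centralizer_iff.1 (h1 hb) d (mem_zpowers d)
      exact this
    exact eq_one_of_mem_of_coprime hBp h2 hc
  have hEX : E ≤ normalizer (X : Set H) :=
    fun e he => inf_mem_normalizer (le_normalizer he) (centralizer_mem_normalizer (hEO he))
  exact Cfsg.Agent.Lib.Components.LocalFStar.le_map_pCore hXp hEX
    ⟨⟨hxE, mem_centralizer_iff.2 (fun b hb => (hx b hb).symm)⟩, hxE⟩

omit hp in
/-- A coprime element of `A Q`, with `Q` a `p`-group normalizing `A`, lies in `A`. -/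
lemma mem_of_coprime_of_mem_sup {A Q : Subgroup H} (hQA : Q ≤ normalizer (A : Set H))
    (hQp : IsPGroup p Q) {d : H} (hd : d ∈ A ⊔ Q) (hc : (orderOf d).Coprime p) : d ∈ A := by
  obtain ⟨a, ha, q, hq, rfl⟩ := (Cfsg.Agent.Lib.Coprime.Coset.mem_sup_iff_of_le_normalizer hQA d).1 hd
  have hk : ∀ k : ℕ, ∃ a' ∈ A, (a * q) ^ k = a' * q ^ k := by
    intro k
    induction k with
    | zero => exact ⟨1, A.one_mem, by simp⟩
    | succ k ih =>
      obtain ⟨a', ha', h⟩ := ih
      have hqk : q ^ k ∈ Q := Q.pow_mem hq k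
      have hconj : q ^ k * a * (q ^ k)⁻¹ ∈ A := (mem_normalizer_iff.1 (hQA hqk) a).1 ha
      refine ⟨a' * (q ^ k * a * (q ^ k)⁻¹), A.mul_mem ha' hconj, ?_⟩
      rw [pow_succ, h, pow_succ]
      group
  obtain ⟨e, he⟩ := Cfsg.Agent.Lib.Coprime.Stability.exists_pow_eq_one_of_mem hQp hq
  obtain ⟨a', ha', h⟩ := hk (p ^ e)
  rw [he, mul_one] at h
  obtain ⟨m, hm⟩ := exists_pow_eq_self_of_coprime (x := a * q) (n := p ^ e)
    ((hc.symm).pow_left e)
  rw [← hm, h]
  exact A.pow_mem ha' m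

/-- A `p`-subgroup normalized by the weakly closed subgroup `Q` normalizes `Q`. -/
lemma le_normalizer_of_normalized {Q X : Subgroup H} (hQp : IsPGroup p Q)
    (hwc : Cfsg.IsWeaklyClosedSubgroup p Q) (hX : IsPGroup p X)
    (hQX : Q ≤ normalizer (X : Set H)) : X ≤ normalizer (Q : Set H) :=
  (le_sup_left : X ≤ X ⊔ Q).trans
    (Cfsg.Agent.Lib.PGroup.WeaklyClosed.normalizes hwc (hX.to_sup_of_normal_left' hQp hQX)
      le_sup_right)

/-- The main argument. -/
theorem main {Q L : Subgroup H} (hQp : IsPGroup p Q) (hwc : Cfsg.IsWeaklyClosedSubgroup p Q)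
    (hCQ : centralizer (Q : Set H) ≤ Q) (hQL : Q ≤ L) {y : H}
    (hyR : y ∈ Cfsg.pCoreOf p L) (hyC : y ∈ centralizer (Q : Set H))
    (hM₀ : CharPIn p (centralizer ({y} : Set H))) :
    centralizer ((Cfsg.pCoreOf p L : Subgroup H) : Set H) ≤ normalizer (Q : Set H) ∧
      Q ⊓ centralizer ((Cfsg.pCoreOf p L : Subgroup H) : Set H) ≤ Cfsg.pCoreOf p L ∧
      IsPGroup p ↥(centralizer ((Cfsg.pCoreOf p L : Subgroup H) : Set H)) := by
  classical
  set R := Cfsg.pCoreOf p L with hR
  set A := centralizer (R : Set H) with hA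
  have hRp : IsPGroup p R := isPGroup_pCoreOf L
  have hRL : R ≤ L := pCoreOf_le
  have hLR : L ≤ normalizer (R : Set H) := le_normalizer_pCoreOf
  have hLA : L ≤ normalizer (A : Set H) := fun l hl => centralizer_mem_normalizer (hLR hl)
  have hQA : Q ≤ normalizer (A : Set H) := hQL.trans hLA
  have hRQ : R ≤ normalizer (Q : Set H) :=
    le_normalizer_of_normalized hQp hwc hRp (hQL.trans hLR)
  -- the subgroup `W`
  set W := R ⊓ centralizer (Q : Set H) with hW
  have hWp : IsPGroup p W := hRp.to_le inf_le_left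
  have hyW : y ∈ W := ⟨hyR, hyC⟩
  have hWQ : W ≤ Q := inf_le_right.trans hCQ
  have hQCW : Q ≤ centralizer (W : Set H) := by
    intro q hq
    rw [mem_centralizer_iff]
    intro w hw
    exact (mem_centralizer_iff.1 hw.2 q hq).symm
  have hWC : W ≤ centralizer ({y} : Set H) := by
    intro w hw
    rw [mem_centralizer_iff]
    intro z hz
    rw [Set.mem_singleton_iff] at hz
    subst hz
    exact (mem_centralizer_iff.1 hyC w (hWQ hw)).symm
  have hAW : A ≤ centralizer (W : Set H) := centralizer_le (inf_le_left : W ≤ R)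
  have hRW : R ≤ normalizer (W : Set H) := fun r hr =>
    inf_mem_normalizer (le_normalizer hr) (centralizer_mem_normalizer (hRQ hr))
  set M := centralizer (W : Set H) with hMdef
  have hMchar : CharPIn p M := by
    have h1 := charPIn_inf_centralizer hWp hWC hM₀
    have e : centralizer ({y} : Set H) ⊓ centralizer (W : Set H) = centralizer (W : Set H) := by
      apply inf_eq_right.2
      apply centralizer_le
      intro z hz
      rw [Set.mem_singleton_iff] at hz
      subst hz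
      exact hyW
    rwa [e] at h1
  have hRM : R ≤ normalizer (M : Set H) := fun r hr => centralizer_mem_normalizer (hRW hr)
  set B := Cfsg.pCoreOf p M with hB
  have hBp : IsPGroup p B := isPGroup_pCoreOf M
  have hMB : M ≤ normalizer (B : Set H) := le_normalizer_pCoreOf
  have hRB : R ≤ normalizer (B : Set H) := fun r hr => normalizer_pCoreOf (hRM hr)
  set I := Cfsg.pCoreOf p A with hI
  have hIp : IsPGroup p I := isPGroup_pCoreOf A
  have hIA : I ≤ A := pCoreOf_le
  have hAI : A ≤ normalizer (I : Set H) := le_normalizer_pCoreOf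
  have hLI : L ≤ normalizer (I : Set H) := fun l hl => normalizer_pCoreOf (hLA hl)
  have hQI : Q ≤ normalizer (I : Set H) := hQL.trans hLI
  have hIQ : I ≤ normalizer (Q : Set H) := le_normalizer_of_normalized hQp hwc hIp hQI
  set V := I ⊓ Q with hV
  have hVp : IsPGroup p V := hIp.to_le inf_le_left
  have hVR : V ≤ R := by
    intro v hv
    exact Cfsg.Agent.Lib.Components.LocalFStar.le_map_pCore hIp hLI ⟨hv.1, hQL hv.2⟩
  have hAV : ∀ c ∈ A, ∀ v ∈ V, c * v = v * c := fun c hc v hv =>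
    (mem_centralizer_iff.1 hc v (hVR hv)).symm
  have hAVN : A ≤ normalizer (V : Set H) := by
    intro c hc
    apply mem_normalizer_of_conj_mem
    intro v hv
    rw [hAV c hc v hv]
    simpa using hv
  have hQV : Q ≤ normalizer (V : Set H) := fun q hq =>
    inf_mem_normalizer (hQI hq) (le_normalizer hq)
  -- the stabilizer of the chain `V ≤ I`
  let T : Subgroup H :=
    { carrier := {g | g ∈ normalizer (I : Set H) ∧ g ∈ normalizer (V : Set H) ∧
        ∀ u ∈ I, u⁻¹ * g * u * g⁻¹ ∈ V}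
      mul_mem' := by
        rintro g h ⟨hg1, hg2, hg3⟩ ⟨hh1, hh2, hh3⟩
        refine ⟨mul_mem hg1 hh1, mul_mem hg2 hh2, fun u hu => ?_⟩
        have h1 := V.mul_mem (hg3 u hu) ((mem_normalizer_iff.1 hg2 _).1 (hh3 u hu))
        have e : u⁻¹ * (g * h) * u * (g * h)⁻¹ =
            u⁻¹ * g * u * g⁻¹ * (g * (u⁻¹ * h * u * h⁻¹) * g⁻¹) := by group
        rw [e]
        exact h1
      one_mem' := ⟨one_mem _, one_mem _, fun u _ => by simp⟩
      inv_mem' := by
        rintro g ⟨hg1, hg2, hg3⟩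
        refine ⟨inv_mem hg1, inv_mem hg2, fun u hu => ?_⟩
        have h1 := (mem_normalizer_iff.1 (inv_mem hg2) _).1 (V.inv_mem (hg3 u hu))
        have e : u⁻¹ * g⁻¹ * u * g⁻¹⁻¹ = g⁻¹ * (u⁻¹ * g * u * g⁻¹)⁻¹ * g⁻¹⁻¹ := by group
        rw [e]
        exact h1 }
  -- the closure of the conjugates of `Q` under `A`
  let D : Subgroup H := closure {x | ∃ c ∈ A, ∃ q ∈ Q, x = c * q * c⁻¹}
  have hDT : D ≤ T := by
    rw [closure_le]
    rintro _ ⟨c, hc, q, hq, rfl⟩
    refine ⟨mul_mem (mul_mem (hAI hc) (hQI hq)) (inv_mem (hAI hc)),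
      mul_mem (mul_mem (hAVN hc) (hQV hq)) (inv_mem (hAVN hc)), fun u hu => ?_⟩
    set u₀ := c⁻¹ * u * c with hu₀
    have hu₀I : u₀ ∈ I := by
      have := (mem_normalizer_iff.1 (inv_mem (hAI hc)) u).1 hu
      simpa [hu₀] using this
    set n := u₀⁻¹ * q * u₀ * q⁻¹ with hn
    have hnI : n ∈ I := by
      have h1 := (mem_normalizer_iff.1 (hQI hq) u₀).1 hu₀I
      have h2 := I.mul_mem (I.inv_mem hu₀I) h1
      have e : n = u₀⁻¹ * (q * u₀ * q⁻¹) := by rw [hn]; group
      rw [e]; exact h2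
    have hnQ : n ∈ Q := by
      have h1 := (mem_normalizer_iff.1 (inv_mem (hIQ hu₀I)) q).1 hq
      have h2 := Q.mul_mem h1 (Q.inv_mem hq)
      have e : n = u₀⁻¹ * q * u₀⁻¹⁻¹ * q⁻¹ := by rw [hn]; group
      rw [e]; exact h2
    have hnV : n ∈ V := ⟨hnI, hnQ⟩
    have e : u⁻¹ * (c * q * c⁻¹) * u * (c * q * c⁻¹)⁻¹ = c * n * c⁻¹ := by
      rw [hn, hu₀]; group
    rw [e, hAV c hc n hnV]
    simpa using hnV
  have hDsup : D ≤ A ⊔ Q := by
    rw [closure_le]
    rintro _ ⟨c, hc, q, hq, rfl⟩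
    have h1 : c ∈ A ⊔ Q := (le_sup_left : A ≤ A ⊔ Q) hc
    have h2 : q ∈ A ⊔ Q := (le_sup_right : Q ≤ A ⊔ Q) hq
    exact mul_mem (mul_mem h1 h2) (inv_mem h1)
  have hQD : Q ≤ D := by
    intro q hq
    exact subset_closure ⟨1, A.one_mem, q, hq, by simp⟩
  have hDp : IsPGroup p D := by
    apply isPGroup_of_forall_coprime hp.out
    intro d hd hc
    have hdA : d ∈ A := mem_of_coprime_of_mem_sup hQA hQp (hDsup hd) hc
    have hdT : d ∈ T := hDT hd
    -- `d` centralizes `I`
    have hdI : ∀ u ∈ I, d * u = u * d := by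
      intro u hu
      apply comm_of_mem_centralized (N := V) (m := orderOf d) (hdT.2.2 u hu) (hAV d hdA)
      · obtain ⟨k, hk⟩ := IsPGroup.iff_card.1 hVp
        rw [hk]
        exact (hc.symm.pow_left k)
      · simp [pow_orderOf_eq_one]
    -- hence `d` centralizes `O_p(M)`
    have hdM : d ∈ M := hAW hdA
    have h1 : B ≤ centralizer ((zpowers d : Subgroup H) : Set H) := by
      apply Cfsg.Agent.Lib.Solvable.AxB.ab_lemma (A := zpowers d) (B := R) (P := B) hBp hRp
      · rw [Nat.card_zpowers]; exact hc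
      · rw [zpowers_le]; exact hdA
      · rw [zpowers_le]; exact hMB hdM
      · exact hRB
      · intro u hu
        have hu' : u ∈ I := Cfsg.Agent.Lib.Components.LocalFStar.le_map_pCore hBp
          (hAW.trans hMB) ⟨hu.1, hu.2⟩
        exact mem_centralizer_zpowers (hdI u hu').symm
    have h2 : d ∈ B := by
      apply hMchar d hdM
      intro b hb
      exact mem_centralizer_iff.1 (h1 hb) d (mem_zpowers d)
    exact eq_one_of_mem_of_coprime hBp h2 hc
  have hAN : A ≤ normalizer (Q : Set H) := by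
    intro c hc
    have hcj : Cfsg.Agent.Lib.PGroup.WeaklyClosed.cj c Q ≤ D := by
      rintro _ ⟨q, hq, rfl⟩
      exact subset_closure ⟨c, hc, q, hq, by simp [MulAut.conj_apply]⟩
    exact Cfsg.Agent.Lib.PGroup.WeaklyClosed.cj_eq_self_iff.1
      (Cfsg.Agent.Lib.PGroup.WeaklyClosed.eq_of_le hwc hDp hQD hcj)
  -- `Q ∩ A` lies in `R`
  set K := A ⊓ L with hK
  have hLK : L ≤ normalizer (K : Set H) := fun l hl =>
    inf_mem_normalizer (hLA hl) (le_normalizer hl)
  have hQAR : Q ⊓ A ≤ R := by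
    have hPp : IsPGroup p ↥(Q ⊓ A) := hQp.to_le inf_le_left
    have hKN : K ≤ normalizer ((Q ⊓ A : Subgroup H) : Set H) := fun k hk =>
      inf_mem_normalizer (hAN hk.1) (le_normalizer hk.1)
    have h1 : Q ⊓ A ≤ Cfsg.pCoreOf p K := fun x hx =>
      Cfsg.Agent.Lib.Components.LocalFStar.le_map_pCore hPp hKN ⟨hx, hx.2, hQL hx.1⟩
    have hLO : L ≤ normalizer ((Cfsg.pCoreOf p K : Subgroup H) : Set H) := fun l hl =>
      normalizer_pCoreOf (hLK hl)
    have h2 : Cfsg.pCoreOf p K ≤ R := fun x hx =>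
      Cfsg.Agent.Lib.Components.LocalFStar.le_map_pCore (isPGroup_pCoreOf K) hLO
        ⟨hx, (pCoreOf_le hx).2⟩
    exact h1.trans h2
  refine ⟨hAN, hQAR, ?_⟩
  -- `A` is a `p`-group
  apply isPGroup_of_forall_coprime hp.out
  intro a ha hc
  have hcomm : ∀ q ∈ Q, a * q = q * a := by
    intro q hq
    apply comm_of_mem_centralized (N := Q ⊓ A) (m := orderOf a)
    · refine ⟨?_, ?_⟩
      · have h1 := (mem_normalizer_iff.1 (hAN ha) q).1 hq
        have h2 := Q.mul_mem (Q.inv_mem hq) h1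
        have e : q⁻¹ * a * q * a⁻¹ = q⁻¹ * (a * q * a⁻¹) := by group
        rw [e]; exact h2
      · have h1 := (mem_normalizer_iff.1 (hQA (Q.inv_mem hq)) a).1 ha
        have h2 := A.mul_mem h1 (A.inv_mem ha)
        have e : q⁻¹ * a * q * a⁻¹ = q⁻¹ * a * q⁻¹⁻¹ * a⁻¹ := by group
        rw [e]; exact h2
    · intro n hn
      exact (mem_centralizer_iff.1 ha n (hQAR hn)).symm
    · obtain ⟨k, hk⟩ := IsPGroup.iff_card.1 (hQp.to_le (inf_le_left : Q ⊓ A ≤ Q))
      rw [hk]
      exact (hc.symm.pow_left k)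
    · simp [pow_orderOf_eq_one]
  have haQ : a ∈ Q := hCQ (mem_centralizer_iff.2 (fun q hq => (hcomm q hq).symm))
  exact eq_one_of_mem_of_coprime hQp haQ hc

/-- Existence of `y` when `H` has characteristic `p`. -/
theorem exists_y {Q L : Subgroup H} (hQp : IsPGroup p Q) (hQ1 : Q ≠ ⊥)
    (hwc : Cfsg.IsWeaklyClosedSubgroup p Q) (hCQ : centralizer (Q : Set H) ≤ Q) (hQL : Q ≤ L)
    (hchar : centralizer (Cfsg.pCore p H : Set H) ≤ Cfsg.pCore p H) :
    ∃ y : H, y ∈ Cfsg.pCoreOf p L ∧ y ∈ centralizer (Q : Set H) ∧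
      CharPIn p (centralizer ({y} : Set H)) := by
  classical
  set P := Cfsg.pCore p H with hP
  have hPp : IsPGroup p P := Cfsg.Agent.Lib.Basic.PCore.pCore_isPGroup p
  haveI hPn : P.Normal := Cfsg.Agent.Lib.Basic.PCore.pCore_normal p H
  have hnorm : ∀ g : H, g ∈ normalizer (P : Set H) := fun g => by
    rw [normalizer_eq_top_iff.2 hPn]; trivial
  have hPQ : P ≤ normalizer (Q : Set H) :=
    le_normalizer_of_normalized hQp hwc hPp (fun q _ => hnorm q)
  have hU : P ⊓ Q ≠ ⊥ := by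
    intro h
    have hPC : P ≤ centralizer (Q : Set H) := by
      intro u hu
      rw [mem_centralizer_iff]
      intro q hq
      have hc : ⁅u, q⁆ ∈ P ⊓ Q := by
        refine ⟨?_, ?_⟩
        · have h1 := (mem_normalizer_iff.1 (hnorm q) u⁻¹).1 (P.inv_mem hu)
          have h2 := P.mul_mem hu h1
          have e : ⁅u, q⁆ = u * (q * u⁻¹ * q⁻¹) := by
            rw [commutatorElement_def]; group
          rw [e]; exact h2
        · have h1 := (mem_normalizer_iff.1 (hPQ hu) q).1 hq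
          have h2 := Q.mul_mem h1 (Q.inv_mem hq)
          rw [commutatorElement_def]; exact h2
      rw [h, mem_bot, commutatorElement_eq_one_iff_mul_comm] at hc
      exact hc.symm
    have hP0 : P = ⊥ := by
      rw [eq_bot_iff, ← h]
      exact le_inf le_rfl (hPC.trans hCQ)
    apply hQ1
    rw [eq_bot_iff]
    intro q _
    have hq : q ∈ centralizer (P : Set H) := by
      rw [mem_centralizer_iff]
      intro b hb
      have hb' : b ∈ (⊥ : Subgroup H) := hP0 ▸ hb
      rw [mem_bot] at hb'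
      simp [hb']
    have := hchar hq
    rwa [hP0] at this
  -- an element of `R ⊓ Z(Q)`
  set R := Cfsg.pCoreOf p L with hR
  have hPL : P ⊓ L ≤ R :=
    Cfsg.Agent.Lib.Components.LocalFStar.le_map_pCore hPp (fun l _ => hnorm l)
  have hN : ((R ⊓ Q).subgroupOf Q).Normal := by
    refine ⟨fun n hn g => ?_⟩
    rw [mem_subgroupOf] at hn ⊢
    refine ⟨?_, (Q.mul_mem (Q.mul_mem g.2 hn.2) (Q.inv_mem g.2))⟩
    exact (mem_normalizer_iff.1 (le_normalizer_pCoreOf (hQL g.2)) _).1 hn.1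
  have hne : (R ⊓ Q).subgroupOf Q ≠ ⊥ := by
    intro h
    apply hU
    rw [eq_bot_iff]
    rintro x ⟨hxP, hxQ⟩
    have h1 : (⟨x, hxQ⟩ : Q) ∈ (R ⊓ Q).subgroupOf Q :=
      mem_subgroupOf.2 ⟨hPL ⟨hxP, hQL hxQ⟩, hxQ⟩
    rw [h, mem_bot] at h1
    rw [mem_bot]
    exact congrArg Subtype.val h1
  have hcen := Cfsg.Agent.Lib.PGroup.Basic.inf_center_ne_bot hQp hne
  rcases Subgroup.bot_or_exists_ne_one ((R ⊓ Q).subgroupOf Q ⊓ center Q) with h0 | ⟨y, hy, hy1⟩
  · exact absurd h0 hcen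
  have hyR : (y : H) ∈ R := (mem_subgroupOf.1 hy.1).1
  have hyC : (y : H) ∈ centralizer (Q : Set H) := by
    rw [mem_centralizer_iff]
    intro q hq
    have h1 := mem_center_iff.1 hy.2 ⟨q, hq⟩
    exact congrArg Subtype.val h1
  refine ⟨y, hyR, hyC, ?_⟩
  -- `H` has characteristic `p` in the ambient form
  have hchar' : CharPIn p (⊤ : Subgroup H) := by
    intro x _ hx
    have hle : P ≤ Cfsg.pCoreOf p (⊤ : Subgroup H) := fun z hz =>
      Cfsg.Agent.Lib.Components.LocalFStar.le_map_pCore hPp (fun l _ => hnorm l) ⟨hz, mem_top z⟩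
    have hxP : x ∈ P := hchar (mem_centralizer_iff.2 (fun b hb => (hx b (hle hb)).symm))
    exact hle hxP
  have hzp : IsPGroup p (zpowers (y : H)) :=
    hQp.to_le (by rw [zpowers_le]; exact y.2)
  have h2 := charPIn_inf_centralizer hzp le_top hchar'
  have e : (⊤ : Subgroup H) ⊓ centralizer ((zpowers (y : H) : Subgroup H) : Set H) =
      centralizer ({(y : H)} : Set H) := by
    rw [top_inf_eq]
    apply le_antisymm
    · apply centralizer_le
      intro z hz
      rw [Set.mem_singleton_iff] at hz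
      subst hz
      exact mem_zpowers _
    · intro u hu
      apply mem_centralizer_zpowers
      exact (mem_centralizer_iff.1 hu y rfl).symm
  rwa [e] at h2

end Lemmas

/-- Let Q be a nontrivial p-subgroup of the finite group H that is a weakly closed subgroup with C_H(Q) ≤ Q, and Q ≤ L ≤ H. Suppose H has characteristic p, or more generally that C_H(y) has characteristic p for some nonidentity y ∈ C_{O_p(L)}(Q). Then [Q, C_H(O_p(L))] ≤ Q ∩ O_p(L), C_H(O_p(L)) is a p-group, and L has characteristic p. -/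
theorem result {H : Type*} [Group H] [Finite H] {p : ℕ} [Fact p.Prime] (Q : Subgroup H) (hQp : IsPGroup p ↥Q) (hQ1 : Q ≠ ⊥) (hwc : Cfsg.IsWeaklyClosedSubgroup p Q) (hCQ : Subgroup.centralizer ((Q : Subgroup H) : Set H) ≤ Q) (L : Subgroup H) (hQL : Q ≤ L) (hyp : Subgroup.centralizer (Cfsg.pCore p H : Set H) ≤ Cfsg.pCore p H ∨ ∃ y : H, y ≠ 1 ∧ y ∈ (Cfsg.pCoreOf p L) ⊓ Subgroup.centralizer ((Q : Subgroup H) : Set H) ∧ Subgroup.centralizer (Cfsg.pCore p ↥(Subgroup.centralizer ({y} : Set H)) : Set ↥(Subgroup.centralizer ({y} : Set H))) ≤ Cfsg.pCore p ↥(Subgroup.centralizer ({y} : Set H))) : ⁅Q, Subgroup.centralizer (((Cfsg.pCoreOf p L) : Subgroup H) : Set H)⁆ ≤ Q ⊓ (Cfsg.pCoreOf p L) ∧ IsPGroup p ↥(Subgroup.centralizer (((Cfsg.pCoreOf p L) : Subgroup H) : Set H)) ∧ Subgroup.centralizer (Cfsg.pCore p ↥L : Set ↥L) ≤ Cfsg.pCore p ↥L := by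
  have hkey : ∃ y : H, y ∈ Cfsg.pCoreOf p L ∧ y ∈ Subgroup.centralizer ((Q : Subgroup H) : Set H) ∧
      CharPIn p (Subgroup.centralizer ({y} : Set H)) := by
    rcases hyp with hchar | ⟨y, -, hy, hM⟩
    · exact exists_y hQp hQ1 hwc hCQ hQL hchar
    · exact ⟨y, hy.1, hy.2, charPIn_of hM⟩
  obtain ⟨y, hyR, hyC, hM₀⟩ := hkey
  obtain ⟨hAN, hQAR, hAp⟩ := main hQp hwc hCQ hQL hyR hyC hM₀
  have hLR : L ≤ Subgroup.normalizer ((Cfsg.pCoreOf p L : Subgroup H) : Set H) :=
    le_normalizer_pCoreOf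
  have hLA : L ≤ Subgroup.normalizer
      ((Subgroup.centralizer ((Cfsg.pCoreOf p L : Subgroup H) : Set H) : Subgroup H) : Set H) :=
    fun l hl => centralizer_mem_normalizer (hLR hl)
  refine ⟨?_, hAp, of_charPIn ?_⟩
  · have h1 := Cfsg.Agent.Lib.PGroup.WeaklyClosed.commutator_le_inf_of_normalize
      (hQL.trans hLA) hAN
    intro x hx
    have h2 : x ∈ Q ⊓ Subgroup.centralizer ((Cfsg.pCoreOf p L : Subgroup H) : Set H) := h1 hx
    exact ⟨h2.1, hQAR h2⟩
  · intro x hx hc
    exact Cfsg.Agent.Lib.Components.LocalFStar.le_map_pCore hAp hLA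
      ⟨Subgroup.mem_centralizer_iff.2 (fun b hb => (hc b hb).symm), hx⟩

end Cfsg.Agent.S2842
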