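import Cfsg.Statements.S2845
import Cfsg.Agent.Lib.PGroup.LargeSub2
import Cfsg.Agent.S2840
import Cfsg.Agent.S2842

set_option autoImplicit false
open Cfsg

namespace Cfsg.Agent.S2845

open Cfsg.Agent.Lib.PGroup.WeaklyClosed Cfsg.Agent.Lib.PGroup.LargeSub Cfsg.Agent.Lib.PGroup.LargeSub2

variable {H : Type*} [Group H] [Finite H] {p : ℕ} [Fact p.Prime]

theorem pCoreOf_ne_bot {L : Subgroup H} (h : Cfsg.pCore p ↥L ≠ ⊥) : Cfsg.pCoreOf p L ≠ ⊥ := by
  intro h0
  apply h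
  rw [Cfsg.pCoreOf] at h0
  exact (Subgroup.map_eq_bot_iff_of_injective _ L.subtype_injective).1 h0

theorem partA (Q : Subgroup H) (hQp : IsPGroup p ↥Q) (hQ1 : Q ≠ ⊥) (hL : Cfsg.IsLarge Q)
    (L : Subgroup H) (hQL : Q ≤ L) (hne : Cfsg.pCore p ↥L ≠ ⊥) :
    IsPGroup p ↥(Subgroup.centralizer (((Cfsg.pCoreOf p L) : Subgroup H) : Set H)) ∧
    Subgroup.centralizer (Cfsg.pCore p ↥L : Set ↥L) ≤ Cfsg.pCore p ↥L ∧
    (Cfsg.weakClosure Q L = Q ∨ Subgroup.centralizer (((Cfsg.weakClosure Q L) : Subgroup H) : Set H) = ⊥) := by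
  have hwc := isWeaklyClosedSubgroup hQp hQ1 hL
  set Y := Cfsg.pCoreOf p L with hY
  have hLY : L ≤ Subgroup.normalizer (Y : Set H) := le_normalizer_of_conj_mem fun l hl u hu =>
    conj_mem_pCoreOf hl hu
  obtain ⟨z, hzY, hz1, hzC⟩ := exists_mem_centralizer hQp (isPGroup_pCoreOf L) (hQL.trans hLY)
    (pCoreOf_ne_bot hne)
  set E : Subgroup H := Subgroup.centralizer ({z} : Set H) with hE
  have hU : Subgroup.zpowers z ≤ Subgroup.centralizer (Q : Set H) :=
    (Subgroup.zpowers_le).2 hzC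
  have hU1 : Subgroup.zpowers z ≠ ⊥ := by
    intro h
    rw [Subgroup.zpowers_eq_bot] at h
    exact hz1 h
  have hEN : E ≤ Subgroup.normalizer (Q : Set H) := by
    refine le_trans ?_ (hL.2 _ hU hU1)
    intro g hg
    rw [Subgroup.mem_centralizer_singleton_iff] at hg
    have hcomm : Commute g z := hg
    apply le_normalizer_of_conj_mem (A := E) ?_ (show g ∈ E from by
      rw [hE, Subgroup.mem_centralizer_singleton_iff]; exact hg)
    rintro y hy _ ⟨n, rfl⟩
    rw [Subgroup.mem_centralizer_singleton_iff] at hy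
    refine ⟨n, ?_⟩
    have hc : Commute y z := hy
    change z ^ n = y * z ^ n * y⁻¹
    rw [(hc.zpow_right n).eq, mul_assoc, mul_inv_cancel, mul_one]
  have hQE : Q ≤ E := by
    intro q hq
    rw [hE, Subgroup.mem_centralizer_singleton_iff]
    exact Subgroup.mem_centralizer_iff.1 hzC q hq
  have hchar : Subgroup.centralizer (Cfsg.pCore p ↥E : Set ↥E) ≤ Cfsg.pCore p ↥E := by
    have hle : Q.subgroupOf E ≤ Cfsg.pCore p ↥E := by
      have hN : (Q.subgroupOf E).Normal := by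
        refine ⟨fun a ha g => ?_⟩
        exact (Subgroup.mem_normalizer_iff.1 (hEN g.2) a).1 ha
      exact Cfsg.Agent.Lib.Basic.PCore.le_pCore hN hQp.comap_subtype
    intro x hx
    apply hle
    apply hL.1
    rw [Subgroup.mem_centralizer_iff]
    intro q hq
    have := Subgroup.mem_centralizer_iff.1 hx ⟨q, hQE hq⟩ (hle hq)
    exact congrArg Subtype.val this
  obtain ⟨-, h2, h3⟩ := Cfsg.Agent.S2842.result Q hQp hQ1 hwc hL.1 L hQL
    (Or.inr ⟨z, hz1, Subgroup.mem_inf.2 ⟨hzY, hzC⟩, hchar⟩)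
  refine ⟨h2, h3, ?_⟩
  by_cases hC : Subgroup.centralizer ((Cfsg.weakClosure Q L : Subgroup H) : Set H) = ⊥
  · exact Or.inr hC
  left
  set Lc := Cfsg.weakClosure Q L with hLc
  have hLc' : Lc = ⨆ k : ↥L, cj (k : H) Q := Cfsg.Agent.S2840.eq_iSup Q hQp hwc L hQL
  have hcjLc : ∀ l : ↥L, cj (l : H) Q ≤ Lc := fun l => by
    rw [hLc']
    exact le_iSup (fun k : ↥L => cj (k : H) Q) l
  have hQLc : Q ≤ Lc := by
    have := hcjLc 1
    simpa using this
  set U := Subgroup.centralizer ((Lc : Subgroup H) : Set H) with hU'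
  have hLcU : Lc ≤ Subgroup.normalizer (U : Set H) := by
    refine le_trans ?_ (Subgroup.centralizer_le_normalizer _)
    rw [Subgroup.le_centralizer_iff]
  have hn : ∀ l : ↥L, Lc ≤ Subgroup.normalizer (cj (l : H) Q : Set H) := by
    intro l
    refine hLcU.trans ((isLarge_cj hL (l : H)).2 U (Subgroup.centralizer_le (hcjLc l)) hC)
  have hLcp : IsPGroup p Lc := by
    have hle : Lc ≤ Cfsg.pCoreOf p Lc := by
      conv_lhs => rw [hLc']
      refine iSup_le fun l => ?_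
      exact le_pCoreOf (hcjLc l) (isPGroup_cj hQp) (hn l)
    exact (isPGroup_pCoreOf Lc).to_le hle
  apply le_antisymm _ hQLc
  rw [hLc']
  refine iSup_le fun l => ?_
  exact (eq_of_le hwc hLcp hQLc (hcjLc l)).le

theorem partB (Q : Subgroup H) (hQp : IsPGroup p ↥Q) (hQ1 : Q ≠ ⊥) (hL : Cfsg.IsLarge Q)
    (R : Subgroup H) (hR : Cfsg.IsParabolic p R) (hne : Cfsg.pCore p ↥R ≠ ⊥) :
    Subgroup.centralizer (((Cfsg.pCoreOf p R) : Subgroup H) : Set H) ≤ (Cfsg.pCoreOf p R) := by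
  obtain ⟨T, hT⟩ := hR
  obtain ⟨T', hT'⟩ := hQp.exists_le_sylow
  obtain ⟨g, hg⟩ := MulAction.exists_smul_eq H T' T
  have hQT : cj g Q ≤ (T : Subgroup H) := by
    rw [← hg, coe_sylow_smul]
    exact cj_mono hT'
  have hA := partA (cj g Q) (isPGroup_cj hQp) (fun h => hQ1 (cj_eq_bot_iff.1 h)) (isLarge_cj hL g) R
    (hQT.trans hT) hne
  set Y := Cfsg.pCoreOf p R with hY
  set X := Subgroup.centralizer (Y : Set H) with hX
  have hRY : R ≤ Subgroup.normalizer (Y : Set H) := le_normalizer_of_conj_mem fun l hl u hu =>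
    conj_mem_pCoreOf hl hu
  have hRX : R ≤ Subgroup.normalizer (X : Set H) := by
    intro l hl
    rw [← cj_eq_self_iff]
    have h1 := centralizer_cj l Y
    rw [cj_eq_self_iff.2 (hRY hl)] at h1
    exact h1.symm
  have hXT : X ≤ (T : Subgroup H) := by
    have hp : IsPGroup p ((T : Subgroup H) ⊔ X : Subgroup H) :=
      T.isPGroup'.to_sup_of_normal_right' hA.1 (hT.trans hRX)
    have h1 := T.is_maximal' hp le_sup_left
    have h2 : X ≤ (T : Subgroup H) ⊔ X := le_sup_right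
    rw [h1] at h2
    exact h2
  intro x hx
  have hxR : x ∈ R := hT (hXT hx)
  have h2 : (⟨x, hxR⟩ : R) ∈ Cfsg.pCore p ↥R := by
    apply hA.2.1
    rw [Subgroup.mem_centralizer_iff]
    intro u hu
    apply Subtype.ext
    exact Subgroup.mem_centralizer_iff.1 hx _ ⟨u, hu, rfl⟩
  exact ⟨_, h2, rfl⟩

theorem result {H : Type*} [Group H] [Finite H] {p : ℕ} [Fact p.Prime] (Q : Subgroup H) (hQp : IsPGroup p ↥Q) (hQ1 : Q ≠ ⊥) (hL : Cfsg.IsLarge Q) : (∀ L : Subgroup H, Q ≤ L → Cfsg.pCore p ↥L ≠ ⊥ → IsPGroup p ↥(Subgroup.centralizer (((Cfsg.pCoreOf p L) : Subgroup H) : Set H)) ∧ Subgroup.centralizer (Cfsg.pCore p ↥L : Set ↥L) ≤ Cfsg.pCore p ↥L ∧ (Cfsg.weakClosure Q L = Q ∨ Subgroup.centralizer (((Cfsg.weakClosure Q L) : Subgroup H) : Set H) = ⊥)) ∧ (∀ R : Subgroup H, Cfsg.IsParabolic p R → Cfsg.pCore p ↥R ≠ ⊥ → Subgroup.centralizer (((Cfsg.pCoreOf p R) : Subgroup H) : Set H) ≤ (Cfsg.pCoreOf p R)) ∧ Cfsg.IsOfParabolicCharacteristic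 p H := by
  refine ⟨fun L hQL hne => partA Q hQp hQ1 hL L hQL hne, fun R hR hne => partB Q hQp hQ1 hL R hR hne, ?_⟩
  intro R hRp hR1 hpar
  set N := Subgroup.normalizer (R : Set H) with hN
  have hne : Cfsg.pCore p ↥N ≠ ⊥ := by
    intro h
    have hle : R.subgroupOf N ≤ Cfsg.pCore p ↥N :=
      Cfsg.Agent.Lib.Basic.PCore.le_pCore Subgroup.normal_in_normalizer hRp.comap_subtype
    rw [h] at hle
    apply hR1
    rw [eq_bot_iff]
    intro x hx
    have := hle (show (⟨x, Subgroup.le_normalizer hx⟩ : N) ∈ R.subgroupOf N from hx)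
    rw [Subgroup.mem_bot] at this
    have h2 := congrArg Subtype.val this
    simpa using h2
  have hB := partB Q hQp hQ1 hL N hpar hne
  intro z hz
  have h1 : (z : H) ∈ Cfsg.pCoreOf p N := by
    apply hB
    rw [Subgroup.mem_centralizer_iff]
    rintro _ ⟨u, hu, rfl⟩
    exact congrArg Subtype.val (Subgroup.mem_centralizer_iff.1 hz u hu)
  obtain ⟨w, hw, hwz⟩ := h1
  have : w = z := Subtype.ext hwz
  exact this ▸ hw

end Cfsg.Agent.S2845
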