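import Cfsg.Statements.S2848
import Mathlib
import Cfsg.Agent.Lib.LocalY.Kieler
-- import your own Cfsg.Agent.* helpers here

set_option autoImplicit false
open Cfsg

namespace Cfsg.Agent.S2848

open Subgroup Cfsg.Agent.Lib.LocalY.Kieler Cfsg.Agent.Lib.LocalY.NoChar Cfsg.Agent.Lib.LocalY.Transfer
open Cfsg.Agent.Lib.LocalY.Basic

/-- A normal Sylow `p`-subgroup contains every element of `p`-power exponent. -/
theorem mem_of_normal_sylow {X : Type*} [Group X] [Finite X] {p : ℕ} [Fact p.Prime] (P : Sylow p X)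
    (hP : (P : Subgroup X).Normal) {x : X} {k : ℕ} (hx : x ^ p ^ k = 1) : x ∈ (P : Subgroup X) := by
  have h1 : IsPGroup p (Subgroup.zpowers x) := by
    have hord : orderOf x ∣ p ^ k := orderOf_dvd_of_pow_eq_one hx
    rintro ⟨_, n, rfl⟩
    refine ⟨k, Subtype.ext ?_⟩
    show (x ^ n) ^ p ^ k = 1
    rw [← zpow_natCast, ← zpow_mul, mul_comm, zpow_mul, zpow_natCast, hx, one_zpow]
  obtain ⟨Q, hQ⟩ := h1.exists_le_sylow
  have h2 : (P : Subgroup X) ≤ Q := P.isPGroup'.le_sylow_of_normal Q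
  have h3 : (Q : Subgroup X) = P := P.is_maximal' Q.isPGroup' h2
  rw [← h3]
  exact hQ (Subgroup.mem_zpowers x)

/-- Under `p`-closedness of `C_M(Y)`: a Sylow subgroup of `M` meets `C(Y)` inside `O_p(M)`. -/
theorem inf_centralizer_le_pCoreOf {G : Type*} [Group G] [Finite G] {p : ℕ} [Fact p.Prime] (M Y S : Subgroup G)
    (hYM : Y ≤ M) (hYn : (Y.subgroupOf M).Normal) (hSM : S ≤ M) (hSp : IsPGroup p S) (hSi : ¬ p ∣ S.relIndex M)
    (hcl : IsPClosed p ↥(M ⊓ centralizer (Y : Set G))) :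
    S ⊓ centralizer (Y : Set G) ≤ pCoreOf p M := by
  set C₀ : Subgroup G := M ⊓ centralizer (Y : Set G) with hC₀
  have hC₀n : (C₀.subgroupOf M).Normal :=
    Cfsg.Agent.Lib.LocalY.Subnormal.inf_centralizer_normal
      (fun l hl w hw => conj_mem_of_normal hYM hYn hl hw)
  have hi := not_dvd_relIndex_inf (inf_le_left : C₀ ≤ M) hC₀n hSp hSi
  have hp1 : IsPGroup p ↥((S ⊓ C₀).subgroupOf C₀) :=
    (hSp.to_le (inf_le_left : S ⊓ C₀ ≤ S)).comap_subtype
  let P : Sylow p ↥C₀ := hp1.toSylow hi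
  have hPn : (P : Subgroup ↥C₀).Normal := hcl P
  have hcoe : (P : Subgroup ↥C₀) = (S ⊓ C₀).subgroupOf C₀ := rfl
  have hinf : S ⊓ C₀ = S ⊓ centralizer (Y : Set G) := by
    rw [hC₀, ← inf_assoc, inf_eq_left.mpr hSM]
  -- `S ∩ C(Y)` is a normal `p`-subgroup of `M`
  set T₀ : Subgroup G := S ⊓ centralizer (Y : Set G) with hT₀
  have hT₀M : T₀ ≤ M := inf_le_left.trans hSM
  have hT₀p : IsPGroup p ↥T₀ := hSp.to_le inf_le_left
  have hT₀n : (T₀.subgroupOf M).Normal := by
    constructor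
    rintro ⟨t, htM⟩ ht ⟨m, hm⟩
    rw [Subgroup.mem_subgroupOf] at ht ⊢
    show m * t * m⁻¹ ∈ T₀
    have hC : m * t * m⁻¹ ∈ C₀ :=
      conj_mem_of_normal (inf_le_left : C₀ ≤ M) hC₀n hm ⟨htM, ht.2⟩
    obtain ⟨k, hk⟩ := hT₀p ⟨t, ht⟩
    have hk' : t ^ p ^ k = 1 := congrArg Subtype.val hk
    have hk2 : ((⟨m * t * m⁻¹, hC⟩ : ↥C₀)) ^ p ^ k = 1 := by
      apply Subtype.ext
      show (m * t * m⁻¹) ^ p ^ k = 1
      rw [conj_pow, hk']
      simp
    have h3 := mem_of_normal_sylow P hPn hk2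
    rw [hcoe, Subgroup.mem_subgroupOf] at h3
    rw [← hinf]
    exact h3
  intro x hx
  have h4 : T₀.subgroupOf M ≤ pCore p ↥M :=
    Cfsg.Agent.Lib.Basic.PCore.le_pCore hT₀n hT₀p.comap_subtype
  exact ⟨⟨x, hT₀M hx⟩, h4 (Subgroup.mem_subgroupOf.mpr hx), rfl⟩


/-- Standing hypotheses: G a finite group, S a Sylow p-subgroup, Q a nontrivial large p-subgroup of G contained in S (C_G(Q) ≤ Q and N_G(U) ≤ N_G(Q) for all nontrivial U ≤ C_G(Q)), and M a subgroup containing S with the basic property (M ∈ 𝔐_G(S)); Y_M denotes the largest p-reduced normal subgroup of M and M† = M·C_G(Y_M). Then O_p(M) is a weakly closed subgroup of M† (for p): it is the only M†-conjugate of itself inside some Sylow p-subgroup of M† containing it. -/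
theorem result {G : Type*} [Group G] [Finite G] {p : ℕ} [Fact p.Prime] (S : Sylow p G) (Q : Subgroup G) (hQp : IsPGroup p ↥Q) (hQ1 : Q ≠ ⊥) (hQS : Q ≤ (S : Subgroup G)) (hQ : Cfsg.IsLarge Q) (M : Subgroup G) (hSM : (S : Subgroup G) ≤ M) (hM : Cfsg.IsInFrakM p M) : Cfsg.IsWeaklyClosedSubgroup p (((Cfsg.pCoreOf p M)).subgroupOf (M ⊔ Subgroup.centralizer (((Cfsg.largestPReducedOf p M) : Subgroup G) : Set G))) := by
  set Y : Subgroup G := largestPReducedOf p M with hYdef
  set O : Subgroup G := pCoreOf p M with hOdef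
  have hY : IsPReducedNormal p (largestPReduced p ↥M) := isPReducedNormal_largest'
  have hYM : Y ≤ M := Subgroup.map_subtype_le _
  have hYsub : Y.subgroupOf M = largestPReduced p ↥M :=
    Subgroup.comap_map_eq_self_of_injective M.subtype_injective _
  have hYnM : (Y.subgroupOf M).Normal := by
    rw [hYsub]
    exact hY.1
  have hSi : ¬ p ∣ (S : Subgroup G).relIndex M := by
    intro h
    apply S.not_dvd_index
    rw [← Subgroup.relIndex_mul_index hSM]
    exact Dvd.dvd.mul_right h _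
  have hOS : O ≤ (S : Subgroup G) := pCoreOf_le_of_not_dvd hSM S.isPGroup' hSi
  have hOC : O ≤ centralizer (Y : Set G) := by
    rintro _ ⟨o, ho, rfl⟩
    have h1 : pCore p ↥M ≤ centralizer (largestPReduced p ↥M : Set ↥M) := by
      apply le_centralizer_of_pElements hY (Cfsg.Agent.Lib.Basic.PCore.pCore_normal p _)
      intro m hm
      obtain ⟨k, hk⟩ := Cfsg.Agent.Lib.Basic.PCore.pCore_isPGroup (G := ↥M) p ⟨m, hm⟩
      refine ⟨k, ?_⟩
      have h2 : m ^ p ^ k = 1 := congrArg Subtype.val hk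
      rw [h2]
      exact one_mem _
    have h3 := h1 ho
    rw [← hYsub, mem_centralizer_subgroupOf hYM] at h3
    exact h3
  have hcl : IsPClosed p ↥(M ⊓ centralizer (Y : Set G)) := hM.2.2.2.2.1
  have hSC := inf_centralizer_le_pCoreOf M Y S hYM hYnM hSM S.isPGroup' hSi hcl
  set D : Subgroup G := M ⊔ centralizer (Y : Set G) with hD
  have hMD : M ≤ D := le_sup_left
  have hCD : centralizer (Y : Set G) ≤ D := le_sup_right
  have hSD : (S : Subgroup G) ≤ D := hSM.trans hMD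
  have hMN : M ≤ normalizer ((centralizer (Y : Set G) : Subgroup G) : Set G) :=
    (le_normalizer_of_normal hYM hYnM).trans (normalizer_le_normalizer_centralizer Y)
  have hON : ∀ m ∈ M, ∀ x ∈ O, m * x * m⁻¹ ∈ O := fun m hm x hx => conj_mem_pCoreOf hm hx
  refine ⟨S.subtype hSD, ?_, ?_⟩
  · intro x hx
    rw [Sylow.coe_subtype]
    exact Subgroup.mem_subgroupOf.mpr (hOS (Subgroup.mem_subgroupOf.mp hx))
  · intro g hg
    rw [Sylow.coe_subtype] at hg
    apply Subgroup.eq_of_le_of_card_ge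
    · rintro _ ⟨x, hx, rfl⟩
      have hxO : (x : G) ∈ O := Subgroup.mem_subgroupOf.mp hx
      -- factor `g⁻¹`
      obtain ⟨a, ha, c, hc, hac⟩ := mem_sup_of_le_normalizer hMN (D.inv_mem g.2)
      have hgf : (g : G) = c⁻¹ * a⁻¹ := by
        have h1 : (g : G) = ((g : G)⁻¹)⁻¹ := by simp
        rw [h1, hac]
        group
      rw [Subgroup.mem_subgroupOf]
      show (g : G) * x * (g : G)⁻¹ ∈ O
      apply hSC
      constructor
      · have h2 := hg ⟨x, hx, rfl⟩
        rw [Subgroup.mem_subgroupOf] at h2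
        exact h2
      · rw [hgf]
        have h3 : a⁻¹ * (x : G) * a⁻¹⁻¹ ∈ O := hON _ (M.inv_mem ha) _ hxO
        have h4 : c⁻¹ * a⁻¹ * (x : G) * (c⁻¹ * a⁻¹)⁻¹ = c⁻¹ * (a⁻¹ * (x : G) * a⁻¹⁻¹) * c⁻¹⁻¹ := by group
        rw [h4]
        have hc' := (centralizer (Y : Set G)).inv_mem hc
        exact Subgroup.mul_mem _ (Subgroup.mul_mem _ hc' (hOC h3)) ((centralizer (Y : Set G)).inv_mem hc')
    · exact (Nat.card_congr (Subgroup.equivMapOfInjective _ _ (MulAut.conj g).injective).toEquiv).le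

end Cfsg.Agent.S2848
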