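import Cfsg.Statements.S3937
import Mathlib
import Cfsg.Agent.Lib.Nilpotent.Fitting
import Cfsg.Agent.Lib.Nilpotent.Subnormal
import Cfsg.Agent.Lib.Nilpotent.SubnormalRadical
-- import your own Cfsg.Agent.* helpers here

set_option autoImplicit false
open Cfsg

namespace Cfsg.Agent.S3937

open Cfsg.Agent.Lib.Nilpotent.Subnormal

/-- Left Engel elements generate subnormal cyclic subgroups: relative version, using the zipper
lemma. -/
theorem sn_zpowers_of_engel {G : Type*} [Group G] [Finite G] (g : G)
    (hg : ∀ x : G, ∃ n : ℕ, (List.replicate n g).foldl (fun a b => a * b * a⁻¹ * b⁻¹) x = 1)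
    (Y : Subgroup G) (hgY : g ∈ Y) : SN (Subgroup.zpowers g) Y := by
  induction Y using WellFoundedLT.induction with
  | ind Y ih =>
    have hle : Subgroup.zpowers g ≤ Y := by
      rw [Subgroup.zpowers_le]; exact hgY
    by_contra hnot
    have hbelow : SNBelow (Subgroup.zpowers g) Y := by
      intro X hX hXY
      exact ih X hXY (hX (Subgroup.mem_zpowers g))
    have hne : Subgroup.zpowers g ≠ Y := by
      rintro rfl
      exact hnot (SN.refl _)
    obtain ⟨M, hM, hgM⟩ := exists_isMaxIn_ge (lt_of_le_of_ne hle hne)
    have hgM' : g ∈ M := hgM (Subgroup.mem_zpowers g)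
    -- `M` is not normal in `Y`
    have hMnotn : ¬ NormalIn M Y := by
      intro hn
      exact hnot ((ih M hM.1 hgM').trans hn.sn)
    -- the key step
    have hstep : ∀ x ∈ Y, x * g * x⁻¹ * g⁻¹ ∈ M → x ∈ M := by
      intro x hxY hxM
      have hconj : x * g * x⁻¹ ∈ M := by
        have := M.mul_mem hxM hgM'
        simpa using this
      -- `x⁻¹ • M` is also a maximal subgroup of `Y` containing `g`
      have hmax : IsMaxIn (cj x⁻¹ M) Y := by
        refine ⟨lt_of_le_of_ne ?_ ?_, ?_⟩
        · rw [cj_le_iff, inv_inv, cj_eq_self_of_mem hxY]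
          exact hM.1.le
        · intro hEq
          apply hM.1.ne
          have := congrArg (cj x) hEq
          rwa [← cj_mul, mul_inv_cancel, cj_one, cj_eq_self_of_mem hxY] at this
        · intro X hX hXY
          have h1 : M ≤ cj x X := by
            rw [show M = cj x (cj x⁻¹ M) by rw [← cj_mul, mul_inv_cancel, cj_one]]
            exact cj_mono x hX
          have h2 : cj x X < Y := by
            refine lt_of_le_of_ne ?_ ?_
            · rw [← cj_eq_self_of_mem hxY]
              exact cj_mono x hXY.le
            · intro hEq
              apply hXY.ne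
              have := congrArg (cj x⁻¹) hEq
              rwa [← cj_mul, inv_mul_cancel, cj_one, cj_eq_self_of_mem (Y.inv_mem hxY)] at this
          have h3 := hM.2 _ h1 h2
          rw [← h3, ← cj_mul, inv_mul_cancel, cj_one]
      have hgx : g ∈ cj x⁻¹ M := by
        rw [mem_cj]
        simpa using hconj
      have hEq : M = cj x⁻¹ M :=
        zipperIn Y _ hle hbelow hnot M _ hM hmax hgM (by
          rw [Subgroup.zpowers_le]; exact hgx)
      -- so `x` normalizes `M`
      have hxN : x⁻¹ ∈ Subgroup.normalizer (M : Set G) :=
        mem_normalizer_of_cj_eq hEq.symm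
      have hxN' : x ∈ Y ⊓ Subgroup.normalizer (M : Set G) :=
        ⟨hxY, by simpa using Subgroup.inv_mem _ hxN⟩
      by_contra hxnot
      -- the normalizer of `M` in `Y` is `Y`
      have hMle : M ≤ Y ⊓ Subgroup.normalizer (M : Set G) :=
        le_inf hM.1.le Subgroup.le_normalizer
      have hYN : Y ⊓ Subgroup.normalizer (M : Set G) = Y := by
        by_contra hne2
        have hlt : Y ⊓ Subgroup.normalizer (M : Set G) < Y := lt_of_le_of_ne inf_le_left hne2
        have := hM.2 _ hMle hlt
        rw [this] at hxN'
        exact hxnot hxN'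
      apply hMnotn
      exact normalIn_of_le_normalizer hM.1.le (inf_eq_left.mp hYN)
    -- downward induction along the Engel chain
    have hchain : ∀ (n : ℕ) (x : G), x ∈ Y →
        (List.replicate n g).foldl (fun a b => a * b * a⁻¹ * b⁻¹) x = 1 → x ∈ M := by
      intro n
      induction n with
      | zero =>
        intro x _ hx
        simp only [List.replicate_zero, List.foldl_nil] at hx
        rw [hx]
        exact M.one_mem
      | succ n ihn =>
        intro x hxY hx
        rw [List.replicate_succ, List.foldl_cons] at hx
        have h1 : x * g * x⁻¹ * g⁻¹ ∈ Y :=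
          Y.mul_mem (Y.mul_mem (Y.mul_mem hxY hgY) (Y.inv_mem hxY)) (Y.inv_mem hgY)
        exact hstep x hxY (ihn _ h1 hx)
    have hYM : Y ≤ M := by
      intro x hx
      obtain ⟨n, hn⟩ := hg x
      exact hchain n x hx hn
    exact absurd hM.1 (not_lt_of_ge hYM)

/-- Baer's characterization of the Fitting subgroup: in a finite group G, an element g lies in the Fitting subgroup if and only if g is a left Engel element, that is, for every x there is n with [x, g, g, …, g] = 1 (n entries g, [a, b] = aba⁻¹b⁻¹). -/
theorem result {G : Type*} [Group G] [Finite G] (g : G) :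
    g ∈ Cfsg.fittingSubgroup G ↔ ∀ x : G, ∃ n : ℕ, (List.replicate n g).foldl (fun a b => a * b * a⁻¹ * b⁻¹) x = 1 := by
  constructor
  · intro hgF x
    have hFn : (Cfsg.fittingSubgroup G).Normal :=
      Cfsg.Agent.Lib.Nilpotent.Fitting.fittingSubgroup_normal
    have hnil : Group.IsNilpotent (Cfsg.fittingSubgroup G) :=
      Cfsg.Agent.Lib.Nilpotent.Fitting.isNilpotent_fittingSubgroup
    have hchain : ∀ k : ℕ, (List.replicate (k + 1) g).foldl (fun a b => a * b * a⁻¹ * b⁻¹) x ∈
        (Cfsg.fittingSubgroup G).lowerCentralSeries k := by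
      intro k
      induction k with
      | zero =>
        simp only [zero_add, List.replicate_one, List.foldl_cons, List.foldl_nil,
          Subgroup.lowerCentralSeries_zero]
        have h1 := hFn.conj_mem g hgF x
        exact Subgroup.mul_mem _ h1 (Subgroup.inv_mem _ hgF)
      | succ k ih =>
        rw [List.replicate_succ', List.foldl_append]
        simp only [List.foldl_cons, List.foldl_nil]
        rw [Subgroup.lowerCentralSeries_succ]
        exact Subgroup.commutator_mem_commutator ih hgF
    have hbot := Subgroup.lowerCentralSeries_eq_bot_of_nilpotencyClass_le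
      (S := Cfsg.fittingSubgroup G) (le_refl _)
    refine ⟨Group.nilpotencyClass (Cfsg.fittingSubgroup G) + 1, ?_⟩
    have h2 := hchain (Group.nilpotencyClass (Cfsg.fittingSubgroup G))
    rw [hbot, Subgroup.mem_bot] at h2
    exact h2
  · intro hg
    have hsn := sn_zpowers_of_engel g hg ⊤ (Subgroup.mem_top g)
    have hsub : (Subgroup.zpowers g).IsSubnormal := SN.isSubnormal_top hsn
    have hnil : Group.IsNilpotent (Subgroup.zpowers g) := by
      have hc : IsMulCommutative (Subgroup.zpowers g) := inferInstance
      let _ : CommGroup (Subgroup.zpowers g) :=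
        { (inferInstance : Group (Subgroup.zpowers g)) with mul_comm := hc.is_comm.comm }
      exact CommGroup.isNilpotent
    exact Cfsg.Agent.Lib.Nilpotent.SubnormalRadical.le_fittingSubgroup_of_isSubnormal hsub hnil
      (Subgroup.mem_zpowers g)

end Cfsg.Agent.S3937
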