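import Cfsg.Statements.S0580
import Mathlib
-- import your own Cfsg.Agent.* helpers here

set_option autoImplicit false
open Cfsg

namespace Cfsg.Agent.S0580

universe u

/-- The index of a subgroup containing the normalizer of a Sylow `p`-subgroup is `≡ 1 mod p`. -/
theorem index_modEq_one {G : Type u} [Group G] [Finite G] {p : ℕ} [Fact p.Prime] (P : Sylow p G)
    (M : Subgroup G) (hM : Subgroup.normalizer ((P : Subgroup G) : Set G) ≤ M) :
    M.index ≡ 1 [MOD p] := by
  have hPM : (P : Subgroup G) ≤ M := le_trans Subgroup.le_normalizer hM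
  have h1 : Nat.card (Sylow p G) ≡ 1 [MOD p] := card_sylow_modEq_one p G
  have h2 : Nat.card (Sylow p M) ≡ 1 [MOD p] := card_sylow_modEq_one p M
  have h3 : Nat.card (Sylow p G) = (Subgroup.normalizer ((P : Subgroup G) : Set G)).index :=
    Sylow.card_eq_index_normalizer P
  have h4 : Nat.card (Sylow p M) =
      (Subgroup.normalizer (((P.subtype hPM : Sylow p M) : Subgroup M) : Set M)).index :=
    Sylow.card_eq_index_normalizer (P.subtype hPM)
  have h5 : Subgroup.normalizer (((P.subtype hPM : Sylow p M) : Subgroup M) : Set M) =
      (Subgroup.normalizer ((P : Subgroup G) : Set G)).subgroupOf M := by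
    rw [Sylow.coe_subtype]
    exact (Subgroup.subgroupOf_normalizer_eq hPM).symm
  rw [h5] at h4
  have h6 : (Subgroup.normalizer ((P : Subgroup G) : Set G)).relIndex M * M.index =
      (Subgroup.normalizer ((P : Subgroup G) : Set G)).index := Subgroup.relIndex_mul_index hM
  have h7 : Nat.card (Sylow p M) * M.index = Nat.card (Sylow p G) := by
    rw [h3, h4]
    exact h6
  have h8 : Nat.card (Sylow p M) * M.index ≡ 1 * M.index [MOD p] := h2.mul_right _
  rw [h7, one_mul] at h8
  exact h8.symm.trans h1

theorem isCoatom_comap_mk {G : Type u} [Group G] (N : Subgroup G) [N.Normal]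
    (M : Subgroup (G ⧸ N)) (hM : IsCoatom M) : IsCoatom (M.comap (QuotientGroup.mk' N)) := by
  have hf := QuotientGroup.mk'_surjective N
  constructor
  · intro h
    apply hM.1
    have := Subgroup.map_comap_eq_self_of_surjective hf M
    rw [h, Subgroup.map_top_of_surjective _ hf] at this
    exact this.symm
  · intro X hX
    have hle : M ≤ X.map (QuotientGroup.mk' N) := by
      rw [← Subgroup.map_comap_eq_self_of_surjective hf M]
      exact Subgroup.map_mono hX.le
    have hkerX : (QuotientGroup.mk' N).ker ≤ X := by
      refine le_trans ?_ hX.le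
      rw [← MonoidHom.comap_bot]
      exact Subgroup.comap_mono bot_le
    rcases hle.lt_or_eq with hlt | heq
    · have htop := hM.2 _ hlt
      have := Subgroup.comap_map_eq_self hkerX
      rw [htop, Subgroup.comap_top] at this
      exact this.symm
    · exfalso
      apply hX.not_ge
      have := Subgroup.comap_map_eq_self hkerX
      rw [← this, ← heq]

theorem aux : ∀ (c : ℕ) (G : Type u) [Group G] [Finite G], Nat.card G = c →
    (∀ M : Subgroup G, IsCoatom M → M.index.Prime) → Group.IsSolvable G := by
  intro c
  induction c using Nat.strong_induction_on with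
  | _ c ih =>
  intro G _ _ hc h
  by_cases hnt : Nontrivial G
  swap
  · rw [not_nontrivial_iff_subsingleton] at hnt
    infer_instance
  classical
  have hcne : Nat.card G ≠ 0 := Nat.card_pos.ne'
  have hone : 1 < Nat.card G := Finite.one_lt_card
  have hne : (Nat.card G).primeFactors.Nonempty :=
    Nat.nonempty_primeFactors.mpr hone
  set p := (Nat.card G).primeFactors.max' hne with hp
  have hpmem : p ∈ (Nat.card G).primeFactors := Finset.max'_mem _ _
  have hpprime : p.Prime := Nat.prime_of_mem_primeFactors hpmem
  have hpdvd : p ∣ Nat.card G := Nat.dvd_of_mem_primeFactors hpmem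
  have : Fact p.Prime := ⟨hpprime⟩
  obtain ⟨P⟩ : Nonempty (Sylow p G) := inferInstance
  have hnorm : (P : Subgroup G).Normal := by
    by_contra hnn
    have hntop : Subgroup.normalizer ((P : Subgroup G) : Set G) ≠ ⊤ := by
      intro ht
      exact hnn (Subgroup.normalizer_eq_top_iff.mp ht)
    obtain ⟨M, hM, hle⟩ := (eq_top_or_exists_le_coatom
      (Subgroup.normalizer ((P : Subgroup G) : Set G))).resolve_left hntop
    have hr := h M hM
    have hmod := index_modEq_one P M hle
    have hrdvd : M.index ∣ Nat.card G := M.index_dvd_card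
    have hrle : M.index ≤ p := Finset.le_max' _ _
      (Nat.mem_primeFactors.mpr ⟨hr, hrdvd, hcne⟩)
    have hdvd : p ∣ M.index - 1 := (Nat.modEq_iff_dvd' hr.one_le).mp hmod.symm
    have hpos : 0 < M.index - 1 := Nat.sub_pos_of_lt hr.one_lt
    have := Nat.le_of_dvd hpos hdvd
    omega
  have hPne : Nat.card (P : Subgroup G) ≠ 1 := by
    rw [P.card_eq_multiplicity]
    have hv : (Nat.card G).factorization p ≠ 0 := by
      rw [← Finsupp.mem_support_iff, Nat.support_factorization]
      exact hpmem
    exact (Nat.one_lt_pow hv hpprime.one_lt).ne'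
  have hPpos : 1 < Nat.card (P : Subgroup G) :=
    lt_of_le_of_ne Nat.card_pos (Ne.symm hPne)
  have hlt : Nat.card (G ⧸ (P : Subgroup G)) < c := by
    rw [← hc, Subgroup.card_eq_card_quotient_mul_card_subgroup (P : Subgroup G)]
    exact lt_mul_of_one_lt_right Nat.card_pos hPpos
  have hsol : Group.IsSolvable (G ⧸ (P : Subgroup G)) := by
    apply ih _ hlt _ rfl
    intro M hM
    have := h _ (isCoatom_comap_mk (P : Subgroup G) M hM)
    rwa [Subgroup.index_comap_of_surjective M (QuotientGroup.mk'_surjective _)] at this
  have : Group.IsNilpotent (P : Subgroup G) := P.isPGroup'.isNilpotent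
  have : Group.IsSolvable (P : Subgroup G) := inferInstance
  exact Group.isSolvable_of_ker_le_range (P : Subgroup G).subtype (QuotientGroup.mk' (P : Subgroup G))
    (by simp)


/-- If every maximal subgroup of a finite group has prime index, then the group is solvable. -/
theorem result {G : Type*} [Group G] [Finite G] (h : ∀ M : Subgroup G, IsCoatom M → M.index.Prime) : Group.IsSolvable G := by
  exact aux _ G rfl h

end Cfsg.Agent.S0580
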