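import Cfsg.Statements.S0579
import Cfsg.Agent.Lib.Solvable.Supersolvable2
import Cfsg.Agent.Lib.Coprime.StabilityElem
import Cfsg.Agent.Lib.PGroup.Basic
import Cfsg.Agent.Lib.Solvable.MinimalNormal
import Cfsg.Agent.Lib.Coprime.Coset
import Cfsg.Agent.S0580

set_option autoImplicit false
set_option linter.style.haveILetI false
open Cfsg Cfsg.Agent.Lib.Solvable.Supersolvable Cfsg.Agent.Lib.Solvable.Supersolvable2
open Cfsg.Agent.Lib.PGroup.Basic
open scoped commutatorElement Polynomial

namespace Cfsg.Agent.S0579

/-- If `g` normalises the cyclic group of prime order `r` generated by `a` then `g ^ (r - 1)`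
centralises `a`. -/
theorem pow_pred_comm (r : ℕ) (hr : r.Prime) {G : Type*} [Group G] (g a : G) (ha : orderOf a = r)
    (h : g * a * g⁻¹ ∈ Subgroup.zpowers a) : g ^ (r - 1) * a = a * g ^ (r - 1) := by
  obtain ⟨k, hk⟩ := Subgroup.mem_zpowers_iff.mp h
  have key : ∀ j : ℕ, g ^ j * a * (g ^ j)⁻¹ = a ^ (k ^ j) := by
    intro j
    induction j with
    | zero => simp
    | succ j ih =>
      have : g ^ (j + 1) * a * (g ^ (j + 1))⁻¹ = g ^ j * (g * a * g⁻¹) * (g ^ j)⁻¹ := by
        rw [pow_succ]; group
      rw [this, ← hk, ← conj_zpow, ih, ← zpow_mul, pow_succ]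
  have hcop : IsCoprime k (r : ℤ) := by
    have hrz : Prime (r : ℤ) := Nat.prime_iff_prime_int.mp hr
    rw [isCoprime_comm, hrz.coprime_iff_not_dvd]
    intro hd
    have h1 : a ^ k = 1 := by
      obtain ⟨m, rfl⟩ := hd
      rw [zpow_mul, zpow_natCast, ← ha, pow_orderOf_eq_one, one_zpow]
    rw [h1] at hk
    have h2 : a = 1 := by
      have : g * a * g⁻¹ = 1 := hk.symm
      have h3 : g * a = g := by rw [mul_inv_eq_one] at this; exact this
      simpa using h3
    rw [h2, orderOf_one] at ha
    exact hr.one_lt.ne ha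
  have h2 := Int.ModEq.pow_card_sub_one_eq_one hr hcop
  have h3 : a ^ (k ^ (r - 1)) = a := by
    have h4 : ((orderOf a : ℕ) : ℤ) ∣ k ^ (r - 1) - 1 := by
      rw [ha]
      exact (Int.modEq_iff_dvd.mp h2.symm)
    have h5 := (zpow_eq_one_iff_modEq (x := a) (n := k ^ (r - 1) - 1))
    have h6 : a ^ (k ^ (r - 1) - 1) = 1 := by
      obtain ⟨m, hm⟩ := h4
      rw [hm, zpow_mul, zpow_natCast, pow_orderOf_eq_one, one_zpow]
    have h7 : k ^ (r - 1) = (k ^ (r - 1) - 1) + 1 := by ring
    rw [h7, zpow_add, h6, one_mul, zpow_one]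
  have h4 := key (r - 1)
  rw [h3] at h4
  rw [mul_inv_eq_iff_eq_mul] at h4
  exact h4

/-- `powCommutator` maps into `powCommutator` under quotient-type homomorphisms. -/
theorem powCommutator_map_le {G Q : Type*} [Group G] [Group Q] (f : G →* Q) (p : ℕ) {c : G}
    (hc : c ∈ powCommutator p G) : f c ∈ powCommutator p Q := by
  have : powCommutator p G ≤ (powCommutator p Q).comap f := by
    rw [powCommutator_le_iff]
    refine ⟨fun x => ?_, fun x y => ?_⟩
    · rw [Subgroup.mem_comap, map_pow]
      exact pow_mem_powCommutator p (f x)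
    · rw [Subgroup.mem_comap, map_commutatorElement]
      exact commutatorElement_mem_powCommutator p _ _
  exact this hc

/-- The key fact on a normal subgroup of prime order `r`: it is centralised by
`(r-1)`-th powers and commutators. -/
theorem powCommutator_le_centralizer_of_prime {G : Type*} [Group G] [Finite G] (r : ℕ) (hr : r.Prime)
    (A : Subgroup G) [hA : A.Normal] (hc : Nat.card A = r) :
    powCommutator (r - 1) G ≤ Subgroup.centralizer (A : Set G) := by
  haveI : Fact r.Prime := ⟨hr⟩
  haveI : Fact (Nat.card A).Prime := ⟨hc ▸ hr⟩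
  haveI : IsCyclic A := isCyclic_of_prime_card rfl
  obtain ⟨⟨a, haA⟩, hgen⟩ := IsCyclic.exists_generator (α := A)
  have hAa : A = Subgroup.zpowers a := by
    apply le_antisymm
    · intro x hx
      obtain ⟨k, hk⟩ := Subgroup.mem_zpowers_iff.mp (hgen ⟨x, hx⟩)
      exact Subgroup.mem_zpowers_iff.mpr ⟨k, by simpa using congrArg Subtype.val hk⟩
    · rwa [Subgroup.zpowers_le]
  have hoa : orderOf a = r := by
    rw [← Nat.card_zpowers, ← hAa, hc]
  have hcent : ∀ g : G, g ∈ Subgroup.centralizer (A : Set G) ↔ g * a = a * g := by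
    intro g
    constructor
    · intro h
      exact (Subgroup.mem_centralizer_iff.mp h a haA).symm
    · intro h
      rw [Subgroup.mem_centralizer_iff]
      intro x hx
      obtain ⟨k, rfl⟩ := Subgroup.mem_zpowers_iff.mp (hAa ▸ hx : x ∈ Subgroup.zpowers a)
      exact ((Commute.zpow_left (show Commute a g from h.symm) k)).eq
  rw [powCommutator_le_iff]
  constructor
  · intro x
    rw [hcent]
    apply pow_pred_comm r hr x a hoa
    rw [← hAa]
    exact hA.conj_mem a haA x
  · intro x y
    have hn : (Subgroup.zpowers a).Normal := hAa ▸ hA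
    have h1 := commutator_le_centralizer_of_normal_cyclic a hn
    have h2 : ⁅x, y⁆ ∈ commutator G := by
      rw [commutator_def]
      exact Subgroup.commutator_mem_commutator (Subgroup.mem_top x) (Subgroup.mem_top y)
    have h3 := h1 h2
    rw [hcent]
    exact (Subgroup.mem_centralizer_iff.mp h3 a (Subgroup.mem_zpowers a)).symm

/-- **Lemma A.** In a finite supersolvable group `Q`, an element of `Q^(r-1)[Q,Q]` of order prime
to `r` centralises every normal `r`-subgroup. -/
theorem comm_of_mem_powCommutator : ∀ (n : ℕ) (Q : Type _) [Group Q] [Finite Q], Nat.card Q = n →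
    IsSupersolvable Q → ∀ (r : ℕ), r.Prime → ∀ (X : Subgroup Q), X.Normal → IsPGroup r X →
    ∀ c : Q, c ∈ powCommutator (r - 1) Q → (orderOf c).Coprime r → ∀ x ∈ X, c * x = x * c := by
  intro n
  induction n using Nat.strong_induction_on with
  | _ n ih =>
    intro Q _ _ hn hQ r hr X hXn hX c hc hcop x hx
    haveI := hXn
    haveI : Fact r.Prime := ⟨hr⟩
    by_cases hXb : X = ⊥
    · subst hXb
      rw [Subgroup.mem_bot] at hx
      simp [hx]
    obtain ⟨A, hAn, hAX, hAp⟩ := exists_normal_prime_le hQ X hXb
    haveI := hAn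
    have hAcard : Nat.card A = r := by
      have hAg : IsPGroup r A := hX.to_le hAX
      obtain ⟨k, hk⟩ := hAg.exists_card_eq
      exact ((Nat.Prime.pow_eq_iff hAp).mp hk.symm).1.symm
    have hAb : A ≠ ⊥ := ne_bot_of_card_prime hAp
    -- `c` centralises `A`
    have hcA : ∀ a ∈ A, c * a = a * c := fun a ha =>
      (Subgroup.mem_centralizer_iff.mp (powCommutator_le_centralizer_of_prime r hr A hAcard hc) a ha).symm
    -- pass to the quotient
    let φ := QuotientGroup.mk' A
    have hφs : Function.Surjective φ := QuotientGroup.mk'_surjective A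
    have hXn' : (X.map φ).Normal := Subgroup.Normal.map hXn φ hφs
    have hXp' : IsPGroup r (X.map φ) := hX.map φ
    have hc' : φ c ∈ powCommutator (r - 1) (Q ⧸ A) := powCommutator_map_le φ _ hc
    have hcop' : (orderOf (φ c)).Coprime r :=
      Nat.Coprime.coprime_dvd_left (orderOf_map_dvd φ c) hcop
    have hlt : Nat.card (Q ⧸ A) < n := hn ▸ card_quotient_lt A hAb
    have h1 := ih _ hlt (Q ⧸ A) rfl (IsSupersolvable.quotient A hQ) r hr (X.map φ) hXn' hXp' (φ c) hc' hcop' (φ x)
      (Subgroup.mem_map_of_mem φ hx)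
    -- stability
    have hxA : x⁻¹ * c * x * c⁻¹ ∈ A := by
      have h2 : φ (x⁻¹ * c * x * c⁻¹) = 1 := by
        simp only [map_mul, map_inv]
        rw [mul_assoc (φ x)⁻¹, h1]
        group
      have h3 : x⁻¹ * c * x * c⁻¹ ∈ φ.ker := h2
      rwa [QuotientGroup.ker_mk'] at h3
    refine Cfsg.Agent.Lib.Coprime.StabilityElem.comm_of_mem_centralized hxA hcA (m := orderOf c) ?_ ?_
    · rw [hAcard]; exact hcop.symm
    · rw [pow_orderOf_eq_one]; simp

theorem exists_eig {M : Type*} [AddCommGroup M] [Finite M] [Nontrivial M] (r : ℕ) [hr : Fact r.Prime] [Module (ZMod r) M]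
    (f : M →ₗ[ZMod r] M) (hf : f ^ r = f) : ∃ (a : ZMod r) (v : M), v ≠ 0 ∧ f v = a • v := by
  classical
  haveI : FiniteDimensional (ZMod r) M := Module.Finite.of_finite
  have hcard : Fintype.card (ZMod r) = r := ZMod.card r
  have h0 : Polynomial.aeval f (Polynomial.X ^ r - Polynomial.X : (ZMod r)[X]) = 0 := by
    simp [hf]
  have hd : minpoly (ZMod r) f ∣ (Polynomial.X ^ r - Polynomial.X : (ZMod r)[X]) := minpoly.dvd _ _ h0
  have hs : (Polynomial.X ^ r - Polynomial.X : (ZMod r)[X]).Splits := by
    rw [Polynomial.splits_iff_card_roots]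
    have h1 := FiniteField.roots_X_pow_card_sub_X (ZMod r)
    rw [hcard] at h1
    rw [h1, FiniteField.X_pow_card_sub_X_natDegree_eq (ZMod r) hr.out.one_lt]
    simp
  have hne : (Polynomial.X ^ r - Polynomial.X : (ZMod r)[X]) ≠ 0 := FiniteField.X_pow_card_sub_X_ne_zero (ZMod r) hr.out.one_lt
  have hs' : (minpoly (ZMod r) f).Splits := hs.of_dvd hne hd
  have hint : IsIntegral (ZMod r) f := Algebra.IsIntegral.isIntegral f
  have hdeg : (minpoly (ZMod r) f).degree ≠ 0 := (minpoly.degree_pos hint).ne'
  obtain ⟨μ, hμ⟩ := hs'.exists_eval_eq_zero hdeg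
  have hev : Module.End.HasEigenvalue f μ := Module.End.hasEigenvalue_of_isRoot hμ
  obtain ⟨v, hv⟩ := hev.exists_hasEigenvector
  exact ⟨μ, v, hv.2, hv.apply_eq_smul⟩

theorem exists_eig_add_aux {M : Type*} [AddCommGroup M] [Finite M] [Nontrivial M] (r : ℕ) [hr' : Fact r.Prime]
    [Module (ZMod r) M] (f : M →+ M) (hf : ∀ a : M, f^[r] a = f a) :
    ∃ (k : ℕ) (v : M), v ≠ 0 ∧ f v = k • v := by
  classical
  let F : M →ₗ[ZMod r] M := AddMonoidHom.toZModLinearMap r f
  have hFa : ∀ v : M, F v = f v := fun v => rfl
  have hFit : ∀ (j : ℕ) (v : M), (F ^ j) v = f^[j] v := by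
    intro j
    induction j with
    | zero => intro v; simp
    | succ j ih =>
      intro v
      rw [pow_succ', Module.End.mul_apply, ih, hFa, Function.iterate_succ_apply']
  have hFr : F ^ r = F := by
    ext v
    rw [hFit, hf]; rfl
  obtain ⟨μ, v, hv, h1⟩ := exists_eig r F hFr
  refine ⟨μ.val, v, hv, ?_⟩
  have h2 : μ • v = μ.val • v := by
    conv_lhs => rw [← ZMod.natCast_zmod_val μ]
    exact Nat.cast_smul_eq_nsmul _ _ _
  rw [h2, hFa] at h1
  exact h1

theorem exists_eig_add {M : Type*} [AddCommGroup M] [Finite M] [Nontrivial M] (r : ℕ) (hr : r.Prime)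
    (hexp : ∀ a : M, r • a = 0) (f : M →+ M) (hf : ∀ a : M, f^[r] a = f a) :
    ∃ (k : ℕ) (v : M), v ≠ 0 ∧ f v = k • v := by
  haveI hr' : Fact r.Prime := ⟨hr⟩
  letI : Module (ZMod r) M := AddCommGroup.zmodModule hexp
  exact exists_eig_add_aux r f hf

theorem exists_eigen_comm {A : Type*} [CommGroup A] [Finite A] [Nontrivial A]
    (r : ℕ) (hr : r.Prime) (hexp : ∀ a : A, a ^ r = 1) (f : A →* A) (hf : ∀ a : A, f^[r] a = f a) :
    ∃ (k : ℕ) (v : A), v ≠ 1 ∧ f v = v ^ k := by
  have hit : ∀ (j : ℕ) (v : A), (f.toAdditive)^[j] (Additive.ofMul v) = Additive.ofMul (f^[j] v) := by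
    intro j
    induction j with
    | zero => intro v; simp
    | succ j ih =>
      intro v
      rw [Function.iterate_succ_apply', ih, Function.iterate_succ_apply']
      rfl
  obtain ⟨k, v, hv, h⟩ := exists_eig_add (M := Additive A) r hr
    (fun a => by
      show Additive.ofMul ((Additive.toMul a) ^ r) = 0
      rw [hexp]; rfl) f.toAdditive
    (fun a => by
      have := hit r (Additive.toMul a)
      rw [ofMul_toMul] at this
      rw [this, hf]
      rfl)
  exact ⟨k, Additive.toMul v, hv, h⟩

theorem exists_eigen {A : Type*} [Group A] [Finite A] [Nontrivial A] (hcomm : ∀ a b : A, a * b = b * a)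
    (r : ℕ) (hr : r.Prime) (hexp : ∀ a : A, a ^ r = 1) (f : A →* A) (hf : ∀ a : A, f^[r] a = f a) :
    ∃ (k : ℕ) (v : A), v ≠ 1 ∧ f v = v ^ k := by
  letI : CommGroup A := { ‹Group A› with mul_comm := hcomm }
  exact exists_eigen_comm r hr hexp f hf


theorem le_normalizer_of_conj {G : Type*} [Group G] {A E : Subgroup G}
    (h : ∀ a ∈ A, ∀ y ∈ E, a * y * a⁻¹ ∈ E) : A ≤ Subgroup.normalizer (E : Set G) := by
  intro a ha
  rw [Subgroup.mem_normalizer_iff]
  intro y
  refine ⟨h a ha y, fun hy => ?_⟩
  have := h a⁻¹ (A.inv_mem ha) _ hy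
  simpa [mul_assoc] using this

theorem normal_of_le_normalizer {G : Type*} [Group G] {A B E : Subgroup G} (hAB : A ⊔ B = ⊤)
    (hA : A ≤ Subgroup.normalizer (E : Set G)) (hB : B ≤ Subgroup.normalizer (E : Set G)) : E.Normal := by
  apply Subgroup.normalizer_eq_top_iff.mp
  rw [eq_top_iff, ← hAB]
  exact sup_le hA hB

/-- A Sylow `p`-subgroup together with a normal subgroup with `p`-group quotient generates. -/
theorem sylow_sup_eq_top {P : Type*} [Group P] [Finite P] {p : ℕ} [hp : Fact p.Prime] (S : Sylow p P)
    (N : Subgroup P) [N.Normal] (hN : IsPGroup p (P ⧸ N)) : (S : Subgroup P) ⊔ N = ⊤ := by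
  have h1 : ((S : Subgroup P) ⊔ N).index ∣ (S : Subgroup P).index :=
    Subgroup.index_dvd_of_le le_sup_left
  have h2 : ((S : Subgroup P) ⊔ N).index ∣ N.index :=
    Subgroup.index_dvd_of_le le_sup_right
  have h3 : ¬ p ∣ (S : Subgroup P).index := S.not_dvd_index
  obtain ⟨k, hk⟩ := hN.exists_card_eq
  have h4 : N.index = p ^ k := by rw [Subgroup.index, hk]
  rw [h4] at h2
  obtain ⟨j, hj, hj'⟩ := (Nat.dvd_prime_pow hp.out).mp h2
  rw [← Subgroup.index_eq_one, hj']
  rcases j with _ | j
  · simp
  · exfalso
    apply h3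
    rw [hj'] at h1
    exact dvd_trans (dvd_pow_self p (Nat.succ_ne_zero j)) h1

open Cfsg.Agent.Lib.Solvable.MinimalNormal in
/-- The heart of Huppert's theorem. -/
theorem core {G : Type*} [Group G] [Finite G] [hsol : Group.IsSolvable G] (N : Subgroup G)
    [hNn : N.Normal] (hN : IsMinNormal N) (hΦ : ∀ M : Subgroup G, IsCoatom M → N ≤ M)
    (huniq : ∀ K : Subgroup G, K.Normal → K ≠ ⊥ → N ≤ K)
    (hQ : IsSupersolvable (G ⧸ N)) : (Nat.card N).Prime := by
  classical
  obtain ⟨r, hr, hNp, hcomm, hexp⟩ := hN.exists_isPGroup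
  haveI hr' : Fact r.Prime := ⟨hr⟩
  have htop : ∀ L : Subgroup G, L ⊔ N = ⊤ → L = ⊤ := by
    intro L hL
    by_contra hne
    obtain ⟨M, hM, hLM⟩ := (eq_top_or_exists_le_coatom L).resolve_left hne
    exact hM.1 (top_le_iff.mp (hL ▸ sup_le hLM (hΦ M hM)))
  have hNtop : N ≠ ⊤ := by
    intro h
    have := htop ⊥ (by rw [h]; simp)
    rw [← h] at this
    exact hN.ne_bot this.symm
  let φ := QuotientGroup.mk' N
  have hφs : Function.Surjective φ := QuotientGroup.mk'_surjective N
  have hφk : φ.ker = N := QuotientGroup.ker_mk' N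
  haveI hQnt : Nontrivial (G ⧸ N) := by
    rw [← not_subsingleton_iff_nontrivial]
    intro hs
    apply hNtop
    rw [eq_top_iff]
    intro x _
    rw [← hφk]
    exact Subsingleton.elim (φ x) 1
  -- the largest prime dividing the order of the quotient
  have hcardQ : 1 < Nat.card (G ⧸ N) := Finite.one_lt_card
  have hsne : (Nat.card (G ⧸ N)).primeFactors.Nonempty :=
    Nat.nonempty_primeFactors.mpr hcardQ
  set p := (Nat.card (G ⧸ N)).primeFactors.max' hsne with hpdef
  have hpmem : p ∈ (Nat.card (G ⧸ N)).primeFactors := Finset.max'_mem _ hsne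
  have hpp : p.Prime := Nat.prime_of_mem_primeFactors hpmem
  haveI hp' : Fact p.Prime := ⟨hpp⟩
  have hpd : p ∣ Nat.card (G ⧸ N) := Nat.dvd_of_mem_primeFactors hpmem
  have hmax : ∀ q : ℕ, q.Prime → q ∣ Nat.card (G ⧸ N) → q ≤ p := fun q hq hd =>
    Finset.le_max' _ _ (Nat.mem_primeFactors.mpr ⟨hq, hd, Nat.card_pos.ne'⟩)
  obtain ⟨X, hXn, hXp, hXi⟩ := exists_normal_sylow_largest _ (G ⧸ N) rfl hQ p hpd hmax
  haveI := hXn
  let P : Subgroup G := X.comap φ
  haveI hPn : P.Normal := Subgroup.Normal.comap hXn φ
  have hNP : N ≤ P := by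
    intro n hn
    show φ n ∈ X
    rw [← hφk] at hn
    rw [show φ n = 1 from hn]
    exact X.one_mem
  have hPindex : P.index = X.index := Subgroup.index_comap_of_surjective X hφs
  by_cases hpr : p = r
  swap
  · -- `p ≠ r`: Frattini argument
    exfalso
    let S : Sylow p P := default
    have hS : IsPGroup p ((S : Subgroup P).map P.subtype) := S.isPGroup'.map _
    haveI : (N.subgroupOf P).Normal := inferInstance
    have hq : IsPGroup p (P ⧸ N.subgroupOf P) := by
      intro y
      obtain ⟨y, rfl⟩ := QuotientGroup.mk_surjective y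
      obtain ⟨k, hk⟩ := hXp ⟨φ y, y.2⟩
      refine ⟨k, ?_⟩
      rw [← QuotientGroup.mk_pow, QuotientGroup.eq_one_iff, Subgroup.mem_subgroupOf, ← hφk]
      have h1 : (φ y) ^ p ^ k = 1 := by simpa using congrArg Subtype.val hk
      show φ _ = 1
      simpa using h1
    have hsup := sylow_sup_eq_top S (N.subgroupOf P) hq
    have hfr : Subgroup.normalizer (((S : Subgroup P).map P.subtype : Subgroup G) : Set G) ⊔ P = ⊤ :=
      Sylow.normalizer_sup_eq_top S
    have hPle : P ≤ (S : Subgroup P).map P.subtype ⊔ N := by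
      intro x hx
      have h1 : (⟨x, hx⟩ : P) ∈ (S : Subgroup P) ⊔ N.subgroupOf P := by rw [hsup]; trivial
      have h2 := Subgroup.mem_map_of_mem P.subtype h1
      rw [Subgroup.map_sup] at h2
      have hle : (N.subgroupOf P).map P.subtype ≤ N := by
        rintro _ ⟨z, hz, rfl⟩
        exact hz
      have h3 := sup_le_sup_left hle ((S : Subgroup P).map P.subtype)
      exact h3 h2
    have hnt := htop (Subgroup.normalizer (((S : Subgroup P).map P.subtype : Subgroup G) : Set G)) (by
      rw [eq_top_iff, ← hfr]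
      refine sup_le le_sup_left (hPle.trans ?_)
      exact sup_le_sup_right Subgroup.le_normalizer _)
    have hSn : ((S : Subgroup P).map P.subtype).Normal := Subgroup.normalizer_eq_top_iff.mp hnt
    have hSb : (S : Subgroup P).map P.subtype ≠ ⊥ := by
      intro hb
      have hPN : P ≤ N := by
        rw [hb, bot_sup_eq] at hPle; exact hPle
      have hXb : X = ⊥ := by
        rw [eq_bot_iff]
        intro y hy
        obtain ⟨y, rfl⟩ := hφs y
        have : y ∈ P := hy
        have h2 : y ∈ φ.ker := by rw [hφk]; exact hPN this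
        rw [Subgroup.mem_bot]
        exact h2
      rw [hXb, Subgroup.index_bot] at hXi
      exact hXi hpd
    have hNS := huniq _ hSn hSb
    have hd := IsPGroup.disjoint_of_ne p r hpr _ _ (hS.to_le hNS) hNp
    exact hN.ne_bot (disjoint_self.mp hd)
  · subst hpr
    have hPp : IsPGroup p P := by
      apply IsPGroup.comap_of_ker_isPGroup hXp
      rw [hφk]; exact hNp
    have hPi : ¬ p ∣ P.index := by rw [hPindex]; exact hXi
    have hcop : (Nat.card P).Coprime P.index := by
      obtain ⟨k, hk⟩ := hPp.exists_card_eq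
      rw [hk]
      exact Nat.Coprime.pow_left k ((Nat.Prime.coprime_iff_not_dvd hpp).mpr hPi)
    obtain ⟨H, hH⟩ := Subgroup.exists_right_complement'_of_coprime hcop
    have hPH : P ⊔ H = ⊤ := hH.sup_eq_top
    have hdisj : Disjoint P H := hH.disjoint
    have hHcard : Nat.card H = P.index := hH.symm.index_eq_card.symm
    have hcopH : (Nat.card H).Coprime p := by
      rw [hHcard]
      exact ((Nat.Prime.coprime_iff_not_dvd hpp).mpr hPi).symm
    have hordH : ∀ c ∈ H, (orderOf c).Coprime p := fun c hc =>
      Nat.Coprime.coprime_dvd_left (Subgroup.orderOf_dvd_natCard H hc) hcopH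
    -- `N` is central in `P`
    have hNcentral : N ≤ Subgroup.centralizer (P : Set G) := by
      have hne : N.subgroupOf P ≠ ⊥ := by
        intro hb
        rw [Subgroup.subgroupOf_eq_bot] at hb
        have : N ≤ N ⊓ P := le_inf le_rfl hNP
        exact hN.ne_bot (eq_bot_iff.mpr (this.trans (hb.le_bot)))
      have h1 := Cfsg.Agent.Lib.PGroup.Basic.inf_center_ne_bot hPp (N := N.subgroupOf P) hne
      haveI := (Subgroup.nontrivial_iff_ne_bot _).mpr h1
      obtain ⟨z, hz, hz1⟩ := Subgroup.exists_ne_one_of_nontrivial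
        (N.subgroupOf P ⊓ Subgroup.center P)
      have hK : (N ⊓ Subgroup.centralizer (P : Set G)).Normal := inferInstance
      have hKb : N ⊓ Subgroup.centralizer (P : Set G) ≠ ⊥ := by
        intro hb
        have h2 : (z : G) ∈ N ⊓ Subgroup.centralizer (P : Set G) := by
          refine ⟨hz.1, ?_⟩
          show (z : G) ∈ Subgroup.centralizer (P : Set G)
          rw [Subgroup.mem_centralizer_iff]
          intro y hy
          have := Subgroup.mem_center_iff.mp hz.2 ⟨y, hy⟩
          exact congrArg Subtype.val this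
        rw [hb, Subgroup.mem_bot] at h2
        exact hz1 (Subtype.ext h2)
      rcases hN.eq_bot_or_eq _ hK inf_le_left with hb | he
      · exact absurd hb hKb
      · exact inf_eq_left.mp he
    -- `T`: the elements of `H` acting trivially on `P / N`.
    have hCn : ((Subgroup.centralizer (X : Set (G ⧸ N))).comap φ).Normal :=
      Subgroup.Normal.comap inferInstance φ
    let T : Subgroup G := H ⊓ (Subgroup.centralizer (X : Set (G ⧸ N))).comap φ
    have hTH : T ≤ H := inf_le_left
    have hsolT : Group.IsSolvable T :=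
      Group.isSolvable_of_isSolvable_injective (f := T.subtype) T.subtype_injective
    have hcopT : (Nat.card T).Coprime (Nat.card P) := by
      refine Nat.Coprime.coprime_dvd_left (Subgroup.card_dvd_of_le hTH) ?_
      rw [hHcard]
      exact hcop.symm
    have hTP : T ≤ Subgroup.normalizer (P : Set G) := by
      rw [Subgroup.normalizer_eq_top]; exact le_top
    have hTN : T ≤ Subgroup.normalizer (N : Set G) := by
      rw [Subgroup.normalizer_eq_top]; exact le_top
    have hcoset : ∀ x ∈ P, ∃ c ∈ P ⊓ Subgroup.centralizer (T : Set G), x⁻¹ * c ∈ N := by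
      intro x hx
      apply Cfsg.Agent.Lib.Coprime.Coset.exists_centralizer_mem_coset hTP hcopT (Or.inl hsolT) hNP hTN x hx
      intro a ha
      rw [← hφk]
      have h1 : φ a ∈ Subgroup.centralizer (X : Set (G ⧸ N)) := ha.2
      have h2 := Subgroup.mem_centralizer_iff.mp h1 (φ x) hx
      show φ _ = 1
      simp only [map_mul, map_inv]
      rw [← h2]
      group
    have hLtop : (P ⊓ Subgroup.centralizer (T : Set G)) ⊔ H = ⊤ := by
      apply htop
      rw [eq_top_iff, ← hPH]
      refine sup_le ?_ (le_sup_right.trans le_sup_left)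
      intro x hx
      obtain ⟨c, hc, hcx⟩ := hcoset x hx
      have h1 : c ∈ ((P ⊓ Subgroup.centralizer (T : Set G)) ⊔ H) ⊔ N :=
        (le_sup_left.trans le_sup_left : _ ≤ ((P ⊓ Subgroup.centralizer (T : Set G)) ⊔ H) ⊔ N) hc
      have h2 : x⁻¹ * c ∈ ((P ⊓ Subgroup.centralizer (T : Set G)) ⊔ H) ⊔ N :=
        (le_sup_right : _ ≤ ((P ⊓ Subgroup.centralizer (T : Set G)) ⊔ H) ⊔ N) hcx
      have h3 := Subgroup.mul_mem _ h1 (Subgroup.inv_mem _ h2)
      simpa using h3
    have hTnorm : T.Normal := by
      apply normal_of_le_normalizer hLtop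
      · refine le_normalizer_of_conj ?_
        intro a ha y hy
        have h1 := Subgroup.mem_centralizer_iff.mp ha.2 y hy
        rw [← h1]
        simpa using hy
      · refine le_normalizer_of_conj ?_
        intro a ha y hy
        exact ⟨H.mul_mem (H.mul_mem ha hy.1) (H.inv_mem ha), hCn.conj_mem y hy.2 a⟩
    have hTb : T = ⊥ := by
      by_contra hne
      have h1 := huniq T hTnorm hne
      have h2 : N ≤ P ⊓ H := le_inf hNP (h1.trans hTH)
      rw [hdisj.eq_bot] at h2
      exact hN.ne_bot (eq_bot_iff.mpr h2)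
    have hkey : ∀ c ∈ H, φ c ∈ Cfsg.Agent.Lib.PGroup.Basic.powCommutator (p - 1) (G ⧸ N) → c = 1 := by
      intro c hc hmem
      have h1 := comm_of_mem_powCommutator _ (G ⧸ N) rfl hQ p hpp X hXn hXp (φ c) hmem
        (Nat.Coprime.coprime_dvd_left (orderOf_map_dvd φ c) (hordH c hc))
      have h2 : c ∈ T := by
        refine ⟨hc, ?_⟩
        have h3 : φ c ∈ Subgroup.centralizer (X : Set (G ⧸ N)) := by
          rw [Subgroup.mem_centralizer_iff]
          intro y hy
          exact (h1 y hy).symm
        exact h3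
      rw [hTb] at h2
      exact h2
    have hHab : ∀ a ∈ H, ∀ b ∈ H, a * b = b * a := by
      intro a ha b hb
      have h1 : ⁅a, b⁆ = 1 := by
        apply hkey
        · rw [commutatorElement_def]
          exact H.mul_mem (H.mul_mem (H.mul_mem ha hb) (H.inv_mem ha)) (H.inv_mem hb)
        · rw [map_commutatorElement]
          exact Cfsg.Agent.Lib.PGroup.Basic.commutatorElement_mem_powCommutator _ _ _
      exact commutatorElement_eq_one_iff_mul_comm.mp h1
    have hHexp : ∀ a ∈ H, a ^ (p - 1) = 1 := by
      intro a ha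
      apply hkey _ (H.pow_mem ha _)
      rw [map_pow]
      exact Cfsg.Agent.Lib.PGroup.Basic.pow_mem_powCommutator _ _
    -- each element of `H` acts as a power map
    haveI hNnt : Nontrivial N := (Subgroup.nontrivial_iff_ne_bot N).mpr hN.ne_bot
    have hNc : ∀ a ∈ N, ∀ b ∈ N, a * b = b * a := by
      intro a ha b hb
      have := hcomm.is_comm.comm ⟨a, ha⟩ ⟨b, hb⟩
      exact congrArg Subtype.val this
    have hPc : ∀ x ∈ P, ∀ w ∈ N, x * w * x⁻¹ = w := by
      intro x hx w hw
      have := Subgroup.mem_centralizer_iff.mp (hNcentral hw) x hx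
      rw [this]
      group
    have hpow : ∀ h ∈ H, ∃ k : ℕ, ∀ w ∈ N, h * w * h⁻¹ = w ^ k := by
      intro h hh
      let f : N →* N := (MulAut.conjNormal h).toMonoidHom
      have hfa : ∀ a : N, ((f a : N) : G) = h * a * h⁻¹ := fun a => MulAut.conjNormal_apply h a
      have hit : ∀ (j : ℕ) (a : N), ((f^[j] a : N) : G) = h ^ j * a * (h ^ j)⁻¹ := by
        intro j
        induction j with
        | zero => intro a; simp
        | succ j ih =>
          intro a
          rw [Function.iterate_succ_apply', hfa, ih, pow_succ']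
          group
      have hhp : h ^ p = h := by
        have h1 : p = (p - 1) + 1 := (Nat.sub_add_cancel hpp.one_lt.le).symm
        conv_lhs => rw [h1, pow_succ, hHexp h hh, one_mul]
      obtain ⟨k, v, hv, hvk⟩ := exists_eigen (A := N)
        (fun a b => Subtype.ext (hNc a a.2 b b.2)) p hpp
        (fun a => Subtype.ext (by simpa using hexp a a.2)) f
        (fun a => Subtype.ext (by rw [hit, hhp, hfa]))
      refine ⟨k, ?_⟩
      let E : Subgroup G :=
        { carrier := {w | w ∈ N ∧ h * w * h⁻¹ = w ^ k}
          one_mem' := ⟨N.one_mem, by simp⟩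
          mul_mem' := by
            rintro a b ⟨ha, ha'⟩ ⟨hb, hb'⟩
            refine ⟨N.mul_mem ha hb, ?_⟩
            have h1 : h * (a * b) * h⁻¹ = (h * a * h⁻¹) * (h * b * h⁻¹) := by group
            rw [h1, ha', hb', (show Commute a b from hNc a ha b hb).mul_pow]
          inv_mem' := by
            rintro a ⟨ha, ha'⟩
            refine ⟨N.inv_mem ha, ?_⟩
            have h1 : h * a⁻¹ * h⁻¹ = (h * a * h⁻¹)⁻¹ := by group
            rw [h1, ha', inv_pow] }
      have hEn : E.Normal := by
        apply normal_of_le_normalizer hPH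
        · refine le_normalizer_of_conj ?_
          intro x hx y hy
          rw [hPc x hx y hy.1]
          exact hy
        · refine le_normalizer_of_conj ?_
          intro x hx y hy
          refine ⟨hNn.conj_mem y hy.1 x, ?_⟩
          have h1 : h * (x * y * x⁻¹) * h⁻¹ = x * (h * y * h⁻¹) * x⁻¹ := by
            have h2 : h * x = x * h := hHab h hh x hx
            calc h * (x * y * x⁻¹) * h⁻¹ = (h * x) * y * (h * x)⁻¹ := by group
              _ = (x * h) * y * (x * h)⁻¹ := by rw [h2]
              _ = _ := by group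
          rw [h1, hy.2, conj_pow]
      have hEb : E ≠ ⊥ := by
        intro hb
        have h1 : (v : G) ∈ E := ⟨v.2, by
          have := hfa v
          rw [hvk] at this
          simpa using this.symm⟩
        rw [hb, Subgroup.mem_bot] at h1
        exact hv (Subtype.ext h1)
      rcases hN.eq_bot_or_eq E hEn (fun w hw => hw.1) with hb | he
      · exact absurd hb hEb
      · intro w hw
        rw [← he] at hw
        exact hw.2
    -- so every cyclic subgroup of `N` is normal
    obtain ⟨⟨v, hvN⟩, hv1⟩ := exists_ne (1 : N)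
    have hv1' : v ≠ 1 := fun h => hv1 (Subtype.ext h)
    have hZN : Subgroup.zpowers v ≤ N := by rwa [Subgroup.zpowers_le]
    have hZn : (Subgroup.zpowers v).Normal := by
      apply normal_of_le_normalizer hPH
      · refine le_normalizer_of_conj ?_
        intro x hx y hy
        rw [hPc x hx y (hZN hy)]
        exact hy
      · refine le_normalizer_of_conj ?_
        intro x hx y hy
        obtain ⟨k, hk⟩ := hpow x hx
        rw [hk y (hZN hy)]
        exact Subgroup.pow_mem _ hy _
    have hZb : Subgroup.zpowers v ≠ ⊥ := by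
      intro h
      exact hv1' (Subgroup.zpowers_eq_bot.mp h)
    rcases hN.eq_bot_or_eq _ hZn hZN with hb | he
    · exact absurd hb hZb
    · rw [← he, Nat.card_zpowers, orderOf_eq_prime (hexp v hvN) hv1']
      exact hpp

universe u

open Cfsg.Agent.Lib.Solvable.MinimalNormal in
theorem main : ∀ (n : ℕ) (G : Type u) [Group G] [Finite G], Nat.card G = n →
    (∀ M : Subgroup G, IsCoatom M → M.index.Prime) → IsSupersolvable G := by
  intro n
  induction n using Nat.strong_induction_on with
  | _ n ih =>
    intro G _ _ hn h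
    by_cases hnt : Nontrivial G
    swap
    · rw [isSupersolvable_iff]
      rw [not_nontrivial_iff_subsingleton] at hnt
      have : (⊤ : Subgroup G) = ⊥ := Subsingleton.elim _ _
      rw [this]
      exact Reach.bot
    haveI hsol : Group.IsSolvable G := Cfsg.Agent.S0580.result h
    obtain ⟨N, hN⟩ := exists_isMinNormal (G := G)
    haveI hNn := hN.normal
    obtain ⟨r, hr, hNp, hcomm, hexp⟩ := hN.exists_isPGroup
    have hquot : ∀ K : Subgroup G, ∀ _ : K.Normal, K ≠ ⊥ → IsSupersolvable (G ⧸ K) := by
      intro K hK hKb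
      refine ih _ (hn ▸ Lib.Solvable.Supersolvable2.card_quotient_lt K hKb) (G ⧸ K) rfl ?_
      intro M hM
      have hs : Function.Surjective (QuotientGroup.mk' K) := QuotientGroup.mk'_surjective K
      have hc : IsCoatom (M.comap (QuotientGroup.mk' K)) := by
        refine ⟨?_, ?_⟩
        · intro htop
          apply hM.1
          have := congrArg (Subgroup.map (QuotientGroup.mk' K)) htop
          rwa [Subgroup.map_comap_eq_self_of_surjective hs,
            Subgroup.map_top_of_surjective _ hs] at this
        · intro L hL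
          have hle : M ≤ L.map (QuotientGroup.mk' K) := by
            have : M = (M.comap (QuotientGroup.mk' K)).map (QuotientGroup.mk' K) :=
              (Subgroup.map_comap_eq_self_of_surjective hs M).symm
            rw [this]
            exact Subgroup.map_mono hL.le
          have hKL : K ≤ L := by
            intro k hk
            apply hL.le
            show QuotientGroup.mk' K k ∈ M
            have : QuotientGroup.mk' K k = 1 := by
              have h2 : k ∈ (QuotientGroup.mk' K).ker := by rwa [QuotientGroup.ker_mk']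
              exact h2
            rw [this]
            exact M.one_mem
          have hne : M ≠ L.map (QuotientGroup.mk' K) := by
            intro he
            apply hL.ne
            rw [he, Subgroup.comap_map_eq, QuotientGroup.ker_mk', sup_eq_left.mpr hKL]
          have htop := hM.2 _ (lt_of_le_of_ne hle hne)
          have h3 := congrArg (Subgroup.comap (QuotientGroup.mk' K)) htop
          rwa [Subgroup.comap_map_eq, QuotientGroup.ker_mk', sup_eq_left.mpr hKL,
            Subgroup.comap_top] at h3
      have := h _ hc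
      rwa [Subgroup.index_comap_of_surjective _ hs] at this
    have hQ := hquot N hNn hN.ne_bot
    by_cases hΦ : ∀ M : Subgroup G, IsCoatom M → N ≤ M
    · by_cases huniq : ∀ K : Subgroup G, K.Normal → K ≠ ⊥ → N ≤ K
      · exact isSupersolvable_of_normal_prime N (core N hN hΦ huniq hQ) hQ
      · push Not at huniq
        obtain ⟨K, hKn, hKb, hNK⟩ := huniq
        haveI := hKn
        have hinf : N ⊓ K = ⊥ := (hN.eq_bot_or_eq _ inferInstance inf_le_left).resolve_right
          (fun he => hNK (inf_eq_left.mp he))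
        have hprod := IsSupersolvable.prod hQ (hquot K hKn hKb)
        let f : G →* (G ⧸ N) × (G ⧸ K) := (QuotientGroup.mk' N).prod (QuotientGroup.mk' K)
        have hinj : Function.Injective f := by
          rw [injective_iff_map_eq_one]
          intro x hx
          have h1 : x ∈ (QuotientGroup.mk' N).ker := congrArg Prod.fst hx
          have h2 : x ∈ (QuotientGroup.mk' K).ker := congrArg Prod.snd hx
          rw [QuotientGroup.ker_mk'] at h1 h2
          have : x ∈ N ⊓ K := ⟨h1, h2⟩
          rwa [hinf] at this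
        exact IsSupersolvable.of_mulEquiv (MonoidHom.ofInjective hinj).symm
          (IsSupersolvable.subgroup hprod f.range)
    · push Not at hΦ
      obtain ⟨M, hM, hNM⟩ := hΦ
      have hsup : M ⊔ N = ⊤ := (le_or_sup_eq_top_of_isCoatom hM N).resolve_left hNM
      have hNc : ∀ a ∈ N, ∀ b ∈ N, a * b = b * a := by
        intro a ha b hb
        have := hcomm.is_comm.comm ⟨a, ha⟩ ⟨b, hb⟩
        exact congrArg Subtype.val this
      have hinfn : (M ⊓ N).Normal := by
        apply normal_of_le_normalizer hsup
        · refine le_normalizer_of_conj ?_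
          intro a ha y hy
          exact ⟨M.mul_mem (M.mul_mem ha hy.1) (M.inv_mem ha), hNn.conj_mem y hy.2 a⟩
        · refine le_normalizer_of_conj ?_
          intro a ha y hy
          have : a * y * a⁻¹ = y := by
            rw [hNc a ha y hy.2]; group
          rw [this]; exact hy
      have hinf : M ⊓ N = ⊥ := (hN.eq_bot_or_eq _ hinfn inf_le_right).resolve_right
        (fun he => hNM (inf_eq_right.mp he))
      have hindex : M.index = Nat.card N := by
        rw [index_eq_relIndex_of_sup_eq_top hsup, Subgroup.relIndex]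
        have : M.subgroupOf N = ⊥ := by
          rw [Subgroup.subgroupOf_eq_bot, disjoint_iff]
          exact hinf
        rw [this, Subgroup.index_bot]
      exact isSupersolvable_of_normal_prime N (hindex ▸ h M hM) hQ

/-- Huppert's supersolvability criterion: if every maximal subgroup of a finite group has prime index, then the group is supersolvable. -/
theorem result {G : Type*} [Group G] [Finite G] (h : ∀ M : Subgroup G, IsCoatom M → M.index.Prime) : Cfsg.IsSupersolvable G :=
  main _ G rfl h

end Cfsg.Agent.S0579
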