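import Cfsg.Statements.S4071
import Mathlib
import Cfsg.Agent.S0579
import Cfsg.Agent.Lib.Transfer.Frobenius
import Cfsg.Agent.Lib.Coprime.Averaging
import Cfsg.Agent.Lib.Coprime.Coset

set_option autoImplicit false
set_option linter.style.haveILetI false
open Cfsg
open Cfsg.Agent.Lib.Coprime.Coset Cfsg.Agent.Lib.Coprime.Averaging
open Cfsg.Agent.Lib.Transfer.Frobenius (lt_inf_normalizer mem_normalizer_of_conj_mem)
open Cfsg.Agent.S0579 (le_normalizer_of_conj normal_of_le_normalizer)
open scoped commutatorElement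

namespace Cfsg.Agent.S4071

/-- The Hall `p'`-part of a normal abelian subgroup. -/
theorem exists_hall_of_abelian {G : Type*} [Group G] [Finite G] (M : Subgroup G) [hMn : M.Normal]
    (hM : IsMulCommutative M) (p : ℕ) [hp : Fact p.Prime] :
    ∃ A : Subgroup G, A.Normal ∧ A ≤ M ∧ ¬ p ∣ Nat.card A ∧ ∃ e : ℕ, Nat.card M = Nat.card A * p ^ e := by
  classical
  let T : Sylow p M := default
  have hcomm : ∀ a b : M, a * b = b * a := fun a b => hM.is_comm.comm a b
  have hP : Subgroup.normalizer (T : Set M) ≤ Subgroup.centralizer (T : Set M) := by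
    intro g _
    exact Subgroup.mem_centralizer_iff.mpr (fun b _ => hcomm b g)
  have hc := MonoidHom.ker_transferSylow_isComplement' T hP
  have hnd := MonoidHom.not_dvd_card_ker_transferSylow T hP
  set A₁ := (MonoidHom.transferSylow T hP).ker with hA₁
  obtain ⟨e, he⟩ := T.isPGroup'.exists_card_eq
  have hcardA : Nat.card (A₁.map M.subtype) = Nat.card A₁ :=
    (Nat.card_congr (A₁.equivMapOfInjective M.subtype M.subtype_injective).toEquiv).symm
  have hmem : ∀ a : G, a ∈ A₁.map M.subtype ↔ a ∈ M ∧ (orderOf a).Coprime p := by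
    intro a
    constructor
    · rintro ⟨k, hk, rfl⟩
      refine ⟨k.2, ?_⟩
      have h1 : orderOf (M.subtype k) = orderOf k := orderOf_injective _ M.subtype_injective k
      rw [h1]
      have h2 : orderOf k ∣ Nat.card A₁ := Subgroup.orderOf_dvd_natCard A₁ hk
      refine Nat.Coprime.coprime_dvd_left h2 ?_
      exact ((Nat.Prime.coprime_iff_not_dvd hp.out).mpr hnd).symm
    · rintro ⟨haM, hco⟩
      have h1 : (⟨a, haM⟩ : M) ∈ A₁ ⊔ (T : Subgroup M) := by
        rw [hc.sup_eq_top]; trivial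
      obtain ⟨k, hk, t, ht, hkt⟩ := Subgroup.mem_sup_of_normal_left.mp h1
      have hoa : orderOf (⟨a, haM⟩ : M) = orderOf a := Subgroup.orderOf_mk a haM
      have htk : t = k⁻¹ * ⟨a, haM⟩ := by rw [← hkt]; group
      have hcopk : (Nat.card A₁).Coprime p := ((Nat.Prime.coprime_iff_not_dvd hp.out).mpr hnd).symm
      have ht1 : t ^ (orderOf a * Nat.card A₁) = 1 := by
        have hcm : Commute k⁻¹ (⟨a, haM⟩ : M) := hcomm _ _
        rw [htk, hcm.mul_pow, inv_pow, pow_mul', pow_mul (⟨a, haM⟩ : M), ← hoa, pow_orderOf_eq_one, one_pow,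
          mul_one, inv_eq_one]
        have : (⟨k, hk⟩ : A₁) ^ Nat.card A₁ = 1 := pow_card_eq_one'
        have h3 : k ^ Nat.card A₁ = 1 := by
          have h4 := congrArg Subtype.val this
          rwa [Subgroup.coe_pow, Subgroup.coe_one] at h4
        rw [h3, one_pow]
      obtain ⟨s, hs⟩ := (T.isPGroup'.exists_card_eq)
      have ht2 : orderOf t ∣ p ^ s := by
        rw [← hs]; exact Subgroup.orderOf_dvd_natCard _ ht
      have ht3 : orderOf t ∣ orderOf a * Nat.card A₁ := orderOf_dvd_of_pow_eq_one ht1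
      have hcop3 : (orderOf a * Nat.card A₁).Coprime (p ^ s) :=
        Nat.Coprime.pow_right s (Nat.Coprime.mul_left hco hcopk)
      have ht4 : t = 1 := orderOf_eq_one_iff.mp (Nat.eq_one_of_dvd_coprimes hcop3 ht3 ht2)
      refine ⟨⟨a, haM⟩, ?_, rfl⟩
      rw [← hkt, ht4, mul_one]
      exact hk
  refine ⟨A₁.map M.subtype, ?_, Subgroup.map_subtype_le _, ?_, e, ?_⟩
  · constructor
    intro a ha g
    rw [hmem] at ha ⊢
    refine ⟨hMn.conj_mem a ha.1 g, ?_⟩
    have : orderOf (g * a * g⁻¹) = orderOf a := by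
      rw [← MulAut.conj_apply, MulEquiv.orderOf_eq]
    rw [this]
    exact ha.2
  · rw [hcardA]; exact hnd
  · rw [hcardA, ← he]
    exact hc.card_mul_card.symm

/-- The converse direction: the structure forces every non-abelian subgroup to be self-normalizing. -/
theorem self_normalizing_of_structure {G : Type*} [Group G] [Finite G] (x : G) (A : Subgroup G) (p : ℕ)
    (hp : p.Prime) (hAn : A.Normal) (hAc : IsMulCommutative A) (hox : ∃ k : ℕ, orderOf x = p ^ k)
    (hpA : ¬ p ∣ Nat.card A) (hcompl : (Subgroup.zpowers x).IsComplement' A)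
    (hxc : x ^ p ∈ Subgroup.center G) (hfpf : ∀ a : G, a ∈ A → a ≠ 1 → x * a * x⁻¹ ≠ a)
    (H : Subgroup G) (hH : ¬ IsMulCommutative H) : Subgroup.normalizer (H : Set G) = H := by
  classical
  haveI := hAn
  have hzc : ∀ z ∈ Subgroup.zpowers (x ^ p), ∀ g : G, g * z = z * g := by
    intro z hz g
    obtain ⟨k, rfl⟩ := Subgroup.mem_zpowers_iff.mp hz
    have h1 : (x ^ p) ^ k ∈ Subgroup.center G := Subgroup.zpow_mem _ hxc k
    exact Subgroup.mem_center_iff.mp h1 g
  have hAcomm : ∀ a ∈ A, ∀ b ∈ A, a * b = b * a := by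
    intro a ha b hb
    exact congrArg Subtype.val (hAc.is_comm.comm ⟨a, ha⟩ ⟨b, hb⟩)
  let M : Subgroup G := A ⊔ Subgroup.zpowers (x ^ p)
  have hZn : (Subgroup.zpowers (x ^ p)).Normal := by
    constructor
    intro z hz g
    rw [hzc z hz g, mul_inv_cancel_right]
    exact hz
  haveI := hZn
  have hMn : M.Normal := inferInstance
  have hMcomm : ∀ a ∈ M, ∀ b ∈ M, a * b = b * a := by
    intro a ha b hb
    obtain ⟨a₁, ha₁, z₁, hz₁, rfl⟩ := Subgroup.mem_sup_of_normal_left.mp ha
    obtain ⟨b₁, hb₁, z₂, hz₂, rfl⟩ := Subgroup.mem_sup_of_normal_left.mp hb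
    calc a₁ * z₁ * (b₁ * z₂) = a₁ * (z₁ * (b₁ * z₂)) := by group
      _ = a₁ * ((b₁ * z₂) * z₁) := by rw [hzc z₁ hz₁ (b₁ * z₂)]
      _ = (a₁ * b₁) * (z₂ * z₁) := by group
      _ = (b₁ * a₁) * (z₂ * z₁) := by rw [hAcomm a₁ ha₁ b₁ hb₁]
      _ = b₁ * (a₁ * z₂) * z₁ := by group
      _ = b₁ * (z₂ * a₁) * z₁ := by rw [hzc z₂ hz₂ a₁]
      _ = b₁ * z₂ * (a₁ * z₁) := by group
  have hHM : ¬ H ≤ M := by
    intro hle
    apply hH
    refine ⟨⟨fun a b => Subtype.ext (hMcomm a (hle a.2) b (hle b.2))⟩⟩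
  obtain ⟨y, hyH, hyM⟩ := SetLike.not_le_iff_exists.mp hHM
  have hy_top : y ∈ Subgroup.zpowers x ⊔ A := by rw [hcompl.sup_eq_top]; trivial
  obtain ⟨u, hu, a, ha, hua⟩ := Subgroup.mem_sup_of_normal_right.mp hy_top
  obtain ⟨i, rfl⟩ := Subgroup.mem_zpowers_iff.mp hu
  have hpi : ¬ (p : ℤ) ∣ i := by
    rintro ⟨t, rfl⟩
    apply hyM
    rw [← hua]
    refine Subgroup.mul_mem _ (Subgroup.mem_sup_right ?_) (Subgroup.mem_sup_left ha)
    rw [zpow_mul, zpow_natCast]
    exact Subgroup.zpow_mem_zpowers _ _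
  have hpz : Prime (p : ℤ) := Nat.prime_iff_prime_int.mp hp
  have hcopi : IsCoprime (p : ℤ) i := (hpz.coprime_iff_not_dvd).mpr hpi
  have hcopi' := hcopi
  obtain ⟨u₁, v₁, huv⟩ := hcopi
  have hxe : x = (x ^ p) ^ u₁ * (x ^ i) ^ v₁ := by
    rw [← zpow_natCast x p, ← zpow_mul, ← zpow_mul, ← zpow_add]
    have : (p : ℤ) * u₁ + i * v₁ = 1 := by linear_combination huv
    rw [this, zpow_one]
  have hCy : ∀ b ∈ A, y * b = b * y → b = 1 := by
    intro b hb hby
    have h1 : x ^ i * b = b * x ^ i := by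
      have h2 : (x ^ i * a) * b = b * (x ^ i * a) := by rw [hua]; exact hby
      have h3 : a * b = b * a := hAcomm a ha b hb
      have h4 : (x ^ i * b) * a = (b * x ^ i) * a := by
        calc (x ^ i * b) * a = x ^ i * (b * a) := by group
          _ = x ^ i * (a * b) := by rw [h3]
          _ = (x ^ i * a) * b := by group
          _ = b * (x ^ i * a) := h2
          _ = (b * x ^ i) * a := by group
      exact mul_right_cancel h4
    have h5 : x * b = b * x := by
      rw [hxe]
      have h6 : Commute ((x ^ i) ^ v₁) b := Commute.zpow_left h1 v₁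
      have h7 : Commute ((x ^ p) ^ u₁) b :=
        (hzc _ (Subgroup.zpow_mem_zpowers _ _) b).symm
      exact (h7.mul_left h6).eq
    by_contra hb1
    apply hfpf b hb hb1
    rw [h5]; group
  let φ := QuotientGroup.mk' A
  have hφk : φ.ker = A := QuotientGroup.ker_mk' A
  have hφa : φ a = 1 := by
    have : a ∈ φ.ker := by rwa [hφk]
    exact this
  have hyp : y ^ p = (x ^ p) ^ i := by
    have h1 : ((x ^ p) ^ i)⁻¹ * y ^ p ∈ φ.ker := by
      show φ _ = 1
      rw [map_mul, map_inv, map_pow φ y, ← hua, map_mul, hφa, mul_one]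
      have : φ ((x ^ p) ^ i) = (φ (x ^ i)) ^ p := by
        rw [← map_pow, ← zpow_natCast x p, ← zpow_natCast (x ^ i) p, ← zpow_mul, ← zpow_mul, mul_comm]
      rw [this, inv_mul_cancel]
    rw [hφk] at h1
    have h2 : y * (((x ^ p) ^ i)⁻¹ * y ^ p) = (((x ^ p) ^ i)⁻¹ * y ^ p) * y := by
      have hz : Commute y ((x ^ p) ^ i)⁻¹ :=
        ((hzc _ (Subgroup.inv_mem _ (Subgroup.zpow_mem_zpowers _ _)) y))
      have hy : Commute y (y ^ p) := (Commute.refl y).pow_right p
      exact (hz.mul_right hy).eq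
    have h3 := hCy _ h1 h2
    rw [inv_mul_eq_one] at h3
    exact h3.symm
  obtain ⟨k, hk⟩ := hox
  have hxpH : x ^ p ∈ H := by
    have hcop2 : IsCoprime i ((p : ℤ) ^ k) := (hcopi'.symm).pow_right
    obtain ⟨u₂, v₂, huv₂⟩ := hcop2
    have h1 : (x ^ p) ^ ((p : ℤ) ^ k) = 1 := by
      have : ((p : ℤ) ^ k) = ((p ^ k : ℕ) : ℤ) := by push_cast; rfl
      rw [this, zpow_natCast, ← pow_mul, mul_comm, pow_mul, ← hk, pow_orderOf_eq_one, one_pow]
    have h2 : x ^ p = ((x ^ p) ^ i) ^ u₂ := by
      have h3 : (x ^ p) ^ (u₂ * i + v₂ * (p : ℤ) ^ k) = x ^ p := by rw [huv₂, zpow_one]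
      rw [zpow_add, mul_comm v₂, zpow_mul (x ^ p) _ v₂, h1, one_zpow, mul_one, mul_comm u₂, zpow_mul] at h3
      exact h3.symm
    rw [h2, ← hyp]
    exact Subgroup.zpow_mem _ (H.pow_mem hyH p) _
  have hZH : Subgroup.zpowers (x ^ p) ≤ H := by rwa [Subgroup.zpowers_le]
  -- elements of `A` normalising `H` lie in `H`
  have hbH : ∀ b ∈ A, b ∈ Subgroup.normalizer (H : Set G) → b ∈ H := by
    intro b hb hbN
    let τ : (H ⊓ A : Subgroup G) → (H ⊓ A : Subgroup G) := fun c => ⟨c * y * (c : G)⁻¹ * y⁻¹, by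
      refine ⟨H.mul_mem (H.mul_mem (H.mul_mem c.2.1 hyH) (H.inv_mem c.2.1)) (H.inv_mem hyH), ?_⟩
      have e : (c : G) * y * (c : G)⁻¹ * y⁻¹ = c * (y * (c : G)⁻¹ * y⁻¹) := by group
      rw [e]
      exact A.mul_mem c.2.2 (hAn.conj_mem _ (A.inv_mem c.2.2) y)⟩
    have hτeq : ∀ c d : G, c ∈ A → d ∈ A → c * y * c⁻¹ * y⁻¹ = d * y * d⁻¹ * y⁻¹ → c = d := by
      intro c d hc hd h
      have h1 : c * y * c⁻¹ = d * y * d⁻¹ := mul_right_cancel h
      have h2 : y * (d⁻¹ * c) = (d⁻¹ * c) * y := by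
        have h3 : d⁻¹ * (c * y * c⁻¹) * d = y := by rw [h1]; group
        calc y * (d⁻¹ * c) = (d⁻¹ * (c * y * c⁻¹) * d) * (d⁻¹ * c) := by rw [h3]
          _ = d⁻¹ * c * y := by group
      have h4 := hCy _ (A.mul_mem (A.inv_mem hd) hc) h2
      rw [inv_mul_eq_one] at h4
      exact h4.symm
    have hτi : Function.Injective τ := by
      intro c d h
      apply Subtype.ext
      exact hτeq _ _ c.2.2 d.2.2 (congrArg Subtype.val h)
    have hτs : Function.Surjective τ := Finite.injective_iff_surjective.mp hτi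
    have he : b * y * b⁻¹ * y⁻¹ ∈ (H ⊓ A : Subgroup G) := by
      refine ⟨H.mul_mem ((Subgroup.mem_normalizer_iff.mp hbN y).mp hyH) (H.inv_mem hyH), ?_⟩
      have e : b * y * b⁻¹ * y⁻¹ = b * (y * b⁻¹ * y⁻¹) := by group
      rw [e]
      exact A.mul_mem hb (hAn.conj_mem _ (A.inv_mem hb) y)
    obtain ⟨c, hc⟩ := hτs ⟨_, he⟩
    have h1 := hτeq _ _ c.2.2 hb (congrArg Subtype.val hc)
    rw [← h1]
    exact c.2.1
  -- generation
  have hWtop : Subgroup.zpowers y ⊔ M = ⊤ := by
    rw [eq_top_iff, ← hcompl.sup_eq_top]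
    refine sup_le ?_ (le_sup_of_le_right le_sup_left)
    rw [Subgroup.zpowers_le]
    have h1 : x ^ i ∈ Subgroup.zpowers y ⊔ M := by
      have e : x ^ i = y * a⁻¹ := by rw [← hua]; group
      rw [e]
      exact Subgroup.mul_mem _ (Subgroup.mem_sup_left (Subgroup.mem_zpowers y))
        (Subgroup.mem_sup_right (Subgroup.mem_sup_left (A.inv_mem ha)))
    rw [hxe]
    refine Subgroup.mul_mem _ (Subgroup.mem_sup_right (Subgroup.mem_sup_right ?_)) (Subgroup.zpow_mem _ h1 _)
    exact Subgroup.zpow_mem_zpowers _ _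
  apply le_antisymm
  · intro g hg
    have hg' : g ∈ Subgroup.zpowers y ⊔ M := by rw [hWtop]; trivial
    obtain ⟨w, hw, m, hm, rfl⟩ := Subgroup.mem_sup_of_normal_right.mp hg'
    obtain ⟨b, hb, z, hz, rfl⟩ := Subgroup.mem_sup_of_normal_left.mp hm
    have hwH : w ∈ H := (Subgroup.zpowers_le.mpr hyH) hw
    have hzH : z ∈ H := hZH hz
    have hbN : b ∈ Subgroup.normalizer (H : Set G) := by
      have e : b = w⁻¹ * (w * (b * z)) * z⁻¹ := by group
      rw [e]
      refine Subgroup.mul_mem _ (Subgroup.mul_mem _ ?_ hg) ?_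
      · exact Subgroup.le_normalizer (H.inv_mem hwH)
      · exact Subgroup.le_normalizer (H.inv_mem hzH)
    exact H.mul_mem hwH (H.mul_mem (hbH b hb hbN) hzH)
  · exact Subgroup.le_normalizer


/-- A normal maximal subgroup has prime index. -/
theorem index_prime_of_isCoatom {G : Type*} [Group G] [Finite G] (M : Subgroup G) [hMn : M.Normal]
    (hM : IsCoatom M) : M.index.Prime := by
  classical
  have hntop : M.index ≠ 1 := by
    intro h
    exact hM.1 (Subgroup.index_eq_one.mp h)
  have hpos : M.index ≠ 0 := Subgroup.index_ne_zero_of_finite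
  obtain ⟨p, hp, hd⟩ := Nat.exists_prime_and_dvd hntop
  haveI : Fact p.Prime := ⟨hp⟩
  have hd' : p ∣ Nat.card (G ⧸ M) := by rwa [← Subgroup.index_eq_card]
  obtain ⟨q, hq⟩ := exists_prime_orderOf_dvd_card' p hd'
  have hq1 : q ≠ 1 := by
    rintro rfl
    rw [orderOf_one] at hq
    exact hp.one_lt.ne hq
  have hcm : (Subgroup.zpowers q).comap (QuotientGroup.mk' M) = ⊤ := by
    apply hM.2
    constructor
    · intro m hm
      have : (QuotientGroup.mk' M) m = 1 := (QuotientGroup.eq_one_iff m).mpr hm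
      show (QuotientGroup.mk' M) m ∈ Subgroup.zpowers q
      rw [this]
      exact Subgroup.one_mem _
    · intro h
      obtain ⟨t, rfl⟩ := QuotientGroup.mk'_surjective M q
      apply hq1
      have h1 : t ∈ M := h (Subgroup.mem_comap.mpr (Subgroup.mem_zpowers _))
      exact (QuotientGroup.eq_one_iff t).mpr h1
  have hz : Subgroup.zpowers q = ⊤ := by
    rw [eq_top_iff]
    intro r _
    obtain ⟨t, rfl⟩ := QuotientGroup.mk'_surjective M r
    have : t ∈ (Subgroup.zpowers q).comap (QuotientGroup.mk' M) := by rw [hcm]; trivial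
    exact this
  have hc : Nat.card (G ⧸ M) = p := by
    rw [← hq, ← Nat.card_zpowers, hz, Subgroup.card_top]
  rw [Subgroup.index_eq_card, hc]
  exact hp

/-- The forward direction. -/
theorem structure_of_self_normalizing {G : Type*} [Group G] [Finite G]
    [Group.IsSolvable G] (hnn : ¬ Group.IsNilpotent G)
    (hsn : ∀ H : Subgroup G, ¬ IsMulCommutative H → Subgroup.normalizer (H : Set G) = H) :
    ∃ (x : G) (A : Subgroup G) (p : ℕ), p.Prime ∧ A.Normal ∧ IsMulCommutative A ∧ (∃ k : ℕ, orderOf x = p ^ k) ∧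
      ¬ p ∣ Nat.card A ∧ (Subgroup.zpowers x).IsComplement' A ∧ x ^ p ∈ Subgroup.center G ∧
      ∀ a : G, a ∈ A → a ≠ 1 → x * a * x⁻¹ ≠ a := by
  classical
  -- abelian proper normal subgroups
  have hnab : ∀ N : Subgroup G, N.Normal → N ≠ ⊤ → IsMulCommutative N := by
    intro N hN hNt
    by_contra hc
    apply hNt
    have h := hsn N hc
    rw [Subgroup.normalizer_eq_top] at h
    exact h.symm
  -- commuting in abelian subgroups
  haveI hnt : Nontrivial G := by
    by_contra hnt
    rw [not_nontrivial_iff_subsingleton] at hnt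
    apply hnn
    infer_instance
  have hcomm_lt : commutator G ≠ ⊤ := by
    intro h
    have hdt : ∀ n : ℕ, derivedSeries G n = ⊤ := by
      intro n
      induction n with
      | zero => rfl
      | succ n ih =>
        rw [derivedSeries_succ, ih]
        exact h
    obtain ⟨n, hn⟩ := (Group.isSolvable_def G).mp inferInstance
    rw [hdt n] at hn
    exact top_ne_bot hn
  obtain ⟨M, hMc, hMle⟩ : ∃ M : Subgroup G, IsCoatom M ∧ commutator G ≤ M :=
    (eq_top_or_exists_le_coatom (commutator G)).resolve_left hcomm_lt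
  haveI hMn : M.Normal := by
    constructor
    intro a ha g
    have e : g * a * g⁻¹ = ⁅g, a⁆ * a := by simp [commutatorElement_def]
    rw [e]
    refine M.mul_mem (hMle ?_) ha
    exact Subgroup.commutator_mem_commutator trivial trivial
  have hMab := hnab M hMn hMc.1
  have hMcomm : ∀ a ∈ M, ∀ b ∈ M, a * b = b * a := by
    intro a ha b hb
    exact congrArg Subtype.val (hMab.is_comm.comm ⟨a, ha⟩ ⟨b, hb⟩)
  have hindex := index_prime_of_isCoatom M hMc
  set p := M.index with hpdef
  haveI hpf : Fact p.Prime := ⟨hindex⟩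
  obtain ⟨A, hAn, hAM, hpA, e, hcardM⟩ := exists_hall_of_abelian M hMab p
  haveI := hAn
  have hAcomm : ∀ a ∈ A, ∀ b ∈ A, a * b = b * a := fun a ha b hb => hMcomm a (hAM ha) b (hAM hb)
  have hAab : IsMulCommutative A := ⟨⟨fun a b => Subtype.ext (hAcomm a a.2 b b.2)⟩⟩
  have hcardG : Nat.card G = Nat.card A * p ^ (e + 1) := by
    have h1 := M.card_mul_index
    rw [hcardM, ← hpdef] at h1
    rw [← h1, pow_succ]
    ring
  let S : Sylow p G := default
  have hcardS : Nat.card S = p ^ (e + 1) := by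
    have h1 : Nat.card S = p ^ (Nat.card G).factorization p := S.card_eq_multiplicity
    have hAne : Nat.card A ≠ 0 := Nat.card_pos.ne'
    rw [h1, hcardG, Nat.factorization_mul hAne (pow_ne_zero _ hindex.ne_zero)]
    rw [Finsupp.add_apply, Nat.factorization_eq_zero_of_not_dvd hpA, zero_add,
      Nat.Prime.factorization_pow hindex]
    simp
  have hcop_AS : (Nat.card A).Coprime (Nat.card S) := by
    rw [hcardS]
    exact Nat.Coprime.pow_right _ ((Nat.Prime.coprime_iff_not_dvd hindex).mpr hpA).symm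
  have hSA : (S : Subgroup G) ⊓ A = ⊥ := inf_eq_bot_of_coprime hcop_AS.symm
  -- an element outside `M`
  obtain ⟨y, hyS, hyM⟩ : ∃ y ∈ (S : Subgroup G), y ∉ M := by
    by_contra hall
    push Not at hall
    have h1 : Nat.card S ∣ Nat.card M := Subgroup.card_dvd_of_le hall
    rw [hcardS, hcardM, pow_succ] at h1
    have h2 : p ^ e * p ∣ p ^ e * Nat.card A := by rwa [mul_comm (Nat.card A)] at h1
    exact hpA (Nat.dvd_of_mul_dvd_mul_left (pow_pos hindex.pos e) h2)
  set Y : Subgroup G := Subgroup.zpowers y with hY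
  have hYS : Y ≤ S := by rw [hY, Subgroup.zpowers_le]; exact hyS
  have hcop_AY : (Nat.card Y).Coprime (Nat.card A) :=
    Nat.Coprime.coprime_dvd_left (Subgroup.card_dvd_of_le hYS) hcop_AS.symm
  have hYA : Y ⊓ A = ⊥ := inf_eq_bot_of_coprime hcop_AY
  have hMY : M ⊔ Y = ⊤ := by
    apply hMc.2
    refine lt_of_le_of_ne le_sup_left ?_
    intro h
    apply hyM
    rw [h]
    exact Subgroup.mem_sup_right (Subgroup.mem_zpowers y)
  have hYN : Y ≤ Subgroup.normalizer (A : Set G) := by
    rw [Subgroup.normalizer_eq_top]; exact le_top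
  obtain ⟨hCD, hCDsup⟩ := centralizer_inf_commutator_and_sup Y A hYN hcop_AY
  set D : Subgroup G := ⁅A, Y⁆ with hD
  have hDA : D ≤ A := commutator_le_left_of_le_normalizer hYN
  -- `A` is not central
  have hDne : D ≠ ⊥ := by
    intro hDb
    have hAC : A ≤ Subgroup.center G := by
      intro a ha
      have hay : a ∈ Subgroup.centralizer (Y : Set G) := by
        have h1 : a ∈ (A ⊓ Subgroup.centralizer (Y : Set G)) ⊔ D := by rw [hCDsup]; exact ha
        rw [hDb, sup_bot_eq] at h1
        exact h1.2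
      have hle : M ⊔ Y ≤ Subgroup.centralizer ({a} : Set G) := by
        refine sup_le ?_ ?_
        · intro m hm
          rw [Subgroup.mem_centralizer_singleton_iff]
          exact hMcomm m hm a (hAM ha)
        · intro w hw
          rw [Subgroup.mem_centralizer_singleton_iff]
          exact (Subgroup.mem_centralizer_iff.mp hay w hw)
      rw [hMY] at hle
      rw [Subgroup.mem_center_iff]
      intro g
      have := hle (Subgroup.mem_top g)
      rw [Subgroup.mem_centralizer_singleton_iff] at this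
      exact this
    apply hnn
    have hpq : IsPGroup p (G ⧸ A) := by
      apply IsPGroup.of_card (n := e + 1)
      have h1 := A.card_mul_index
      rw [hcardG, Subgroup.index_eq_card] at h1
      exact Nat.eq_of_mul_eq_mul_left Nat.card_pos h1
    haveI : Group.IsNilpotent (G ⧸ A) := hpq.isNilpotent
    refine Subgroup.isNilpotent_of_ker_le_center (QuotientGroup.mk' A) ?_
    rwa [QuotientGroup.ker_mk']
  -- fixed points of `Y` on `A` are trivial
  have hDn : D.Normal := by
    refine normal_of_le_normalizer hMY (le_normalizer_of_conj ?_) (commutator_le_normalizer_right hYN)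
    intro m hm d hd
    have : m * d * m⁻¹ = d := by
      rw [hMcomm m hm d (hAM (hDA hd))]; group
    rw [this]; exact hd
  haveI := hDn
  have hYsolv : Group.IsSolvable Y := by
    rw [hY]
    infer_instance
  have hDY : ⁅D, Y⁆ = D := commutator_commutator_eq hYN hcop_AY (Or.inl hYsolv)
  have hHnab : ¬ IsMulCommutative (D ⊔ Y : Subgroup G) := by
    intro hab
    apply hDne
    rw [← hDY, Subgroup.commutator_eq_bot_iff_le_centralizer]
    intro d hd
    rw [Subgroup.mem_centralizer_iff]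
    intro w hw
    exact congrArg Subtype.val (hab.is_comm.comm ⟨w, (le_sup_right : Y ≤ D ⊔ Y) hw⟩ ⟨d, (le_sup_left : D ≤ D ⊔ Y) hd⟩)
  have hC : ∀ c ∈ A, y * c = c * y → c = 1 := by
    intro c hc hcy
    have hcYc : c ∈ Subgroup.centralizer (Y : Set G) := by
      rw [Subgroup.mem_centralizer_iff]
      intro w hw
      obtain ⟨i, rfl⟩ := Subgroup.mem_zpowers_iff.mp hw
      exact (Commute.zpow_left (show Commute y c from hcy) i).eq
    have hkey : ∀ h ∈ D ⊔ Y, c * h = h * c := by
      intro h hh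
      have hle : D ⊔ Y ≤ Subgroup.centralizer ({c} : Set G) := by
        refine sup_le ?_ ?_
        · intro d hd
          rw [Subgroup.mem_centralizer_singleton_iff]
          exact hAcomm d (hDA hd) c hc
        · intro w hw
          rw [Subgroup.mem_centralizer_singleton_iff]
          exact Subgroup.mem_centralizer_iff.mp hcYc w hw
      have := hle hh
      rw [Subgroup.mem_centralizer_singleton_iff] at this
      exact this.symm
    have hcN : c ∈ Subgroup.normalizer ((D ⊔ Y : Subgroup G) : Set G) := by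
      rw [Subgroup.mem_normalizer_iff]
      intro h
      constructor
      · intro hh
        have e : c * h * c⁻¹ = h := by rw [hkey h hh]; group
        rw [e]; exact hh
      · intro hh
        have h1 := hkey _ hh
        have e : c * h * c⁻¹ = h := by
          have h2 : c * (c * h * c⁻¹) = c * h := by
            rw [h1]; group
          exact mul_left_cancel h2
        rwa [e] at hh
    rw [hsn _ hHnab] at hcN
    obtain ⟨d, hd, w, hw, hdw⟩ := Subgroup.mem_sup_of_normal_left.mp hcN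
    have hwA : w ∈ A := by
      have e : w = d⁻¹ * c := by rw [← hdw]; group
      rw [e]
      exact A.mul_mem (A.inv_mem (hDA hd)) hc
    have hw1 : w = 1 := by
      have : w ∈ Y ⊓ A := ⟨hw, hwA⟩
      rw [hYA] at this
      exact this
    have hcd : c = d := by rw [← hdw, hw1, mul_one]
    have : c ∈ (A ⊓ Subgroup.centralizer (Y : Set G)) ⊓ D := ⟨⟨hc, hcYc⟩, hcd ▸ hd⟩
    rw [hCD] at this
    exact this
  -- `A ⊔ Y` is not abelian
  obtain ⟨a₀, ha₀D, ha₀⟩ := (Subgroup.bot_or_exists_ne_one D).resolve_left hDne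
  have hANab : ¬ IsMulCommutative (A ⊔ Y : Subgroup G) := by
    intro hab
    apply ha₀
    apply hC a₀ (hDA ha₀D)
    exact congrArg Subtype.val (hab.is_comm.comm ⟨y, (le_sup_right : Y ≤ A ⊔ Y) (Subgroup.mem_zpowers y)⟩
      ⟨a₀, (le_sup_left : A ≤ A ⊔ Y) (hDA ha₀D)⟩)
  have hYeq : Y = S := by
    by_contra hne
    have hlt : Y < S := lt_of_le_of_ne hYS hne
    obtain ⟨u, ⟨huS, huN⟩, huY⟩ := SetLike.exists_of_lt (lt_inf_normalizer S.isPGroup' hlt)
    have huH : u ∈ Subgroup.normalizer ((A ⊔ Y : Subgroup G) : Set G) := by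
      have huN' : u ∈ Subgroup.normalizer (Y : Set G) := huN
      rw [Subgroup.mem_normalizer_iff_map_conj_eq] at huN' ⊢
      rw [Subgroup.map_sup, huN', Subgroup.Normal.map_conj_eq]
    rw [hsn _ hANab] at huH
    obtain ⟨a, ha, w, hw, haw⟩ := Subgroup.mem_sup_of_normal_left.mp huH
    have haS : a ∈ (S : Subgroup G) := by
      have e : a = u * w⁻¹ := by rw [← haw]; group
      rw [e]
      exact Subgroup.mul_mem _ huS (Subgroup.inv_mem _ (hYS hw))
    have ha1 : a = 1 := by
      have : a ∈ (S : Subgroup G) ⊓ A := ⟨haS, ha⟩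
      rw [hSA] at this
      exact this
    apply huY
    rw [← haw, ha1, one_mul]
    exact hw
  have hcardY : Nat.card Y = p ^ (e + 1) := by rw [hYeq]; exact hcardS
  refine ⟨y, A, p, hindex, hAn, hAab, ⟨e + 1, ?_⟩, hpA, ?_, ?_, ?_⟩
  · rw [← Nat.card_zpowers]; exact hcardY
  · apply Subgroup.isComplement'_of_coprime
    · rw [hcardY, hcardG, mul_comm]
    · exact hcop_AY
  · rw [Subgroup.mem_center_iff]
    intro g
    have hle : M ⊔ Y ≤ Subgroup.centralizer ({y ^ p} : Set G) := by
      refine sup_le ?_ ?_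
      · intro m hm
        rw [Subgroup.mem_centralizer_singleton_iff]
        exact hMcomm m hm _ (by rw [hpdef]; exact Subgroup.pow_index_mem M y)
      · intro w hw
        rw [Subgroup.mem_centralizer_singleton_iff]
        obtain ⟨i, rfl⟩ := Subgroup.mem_zpowers_iff.mp hw
        exact ((Commute.refl y).pow_right p |>.zpow_left i).eq
    rw [hMY] at hle
    have := hle (Subgroup.mem_top g)
    rw [Subgroup.mem_centralizer_singleton_iff] at this
    exact this
  · intro a ha ha1 h
    apply ha1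
    apply hC a ha
    have h2 : y * a * y⁻¹ * y = a * y := by rw [h]
    rwa [inv_mul_cancel_right] at h2

/-- The statement. -/
theorem result {G : Type*} [Group G] [Finite G]
    [Group.IsSolvable G] (hnn : ¬ Group.IsNilpotent G) :
    (∀ H : Subgroup G, ¬ IsMulCommutative H → Subgroup.normalizer (H : Set G) = H) ↔
    ∃ (x : G) (A : Subgroup G) (p : ℕ), p.Prime ∧ A.Normal ∧ IsMulCommutative A ∧ (∃ k : ℕ, orderOf x = p ^ k) ∧
      ¬ p ∣ Nat.card A ∧ (Subgroup.zpowers x).IsComplement' A ∧ x ^ p ∈ Subgroup.center G ∧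
      ∀ a : G, a ∈ A → a ≠ 1 → x * a * x⁻¹ ≠ a := by
  constructor
  · exact structure_of_self_normalizing hnn
  · rintro ⟨x, A, p, hp, hAn, hAc, hox, hpA, hcompl, hxc, hfpf⟩ H hH
    exact self_normalizing_of_structure x A p hp hAn hAc hox hpA hcompl hxc hfpf H hH

end Cfsg.Agent.S4071
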