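import Cfsg.Statements.S4314
import Mathlib
import Cfsg.Agent.Lib.Transfer.Frobenius

set_option autoImplicit false
set_option linter.style.haveILetI false

namespace Cfsg.Agent.S4314

/-- Decomposition into `p`-part and `p'`-part. -/
theorem exists_decomp {G : Type*} [Group G] [Finite G] (u : G) (p : ℕ) [hp : Fact p.Prime] :
    ∃ a b : G, u = a * b ∧ a ∈ Subgroup.zpowers u ∧ b ∈ Subgroup.zpowers u ∧ (∃ k : ℕ, orderOf a ∣ p ^ k) ∧
      (orderOf b).Coprime p := by
  have hn : orderOf u ≠ 0 := (orderOf_pos u).ne'
  obtain ⟨k, m, hm, hnm⟩ := Nat.exists_eq_pow_mul_and_not_dvd hn p hp.out.ne_one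
  have hcop : Nat.Coprime (p ^ k) m := Nat.Coprime.pow_left k ((Nat.Prime.coprime_iff_not_dvd hp.out).mpr hm)
  have hcopz : IsCoprime ((p ^ k : ℕ) : ℤ) (m : ℤ) := Nat.isCoprime_iff_coprime.mpr hcop
  obtain ⟨s, t, hst⟩ := hcopz
  refine ⟨u ^ (t * m), u ^ (s * ((p ^ k : ℕ) : ℤ)), ?_, Subgroup.zpow_mem_zpowers _ _, Subgroup.zpow_mem_zpowers _ _,
    ⟨k, ?_⟩, ?_⟩
  · rw [← zpow_add]
    have : t * (m : ℤ) + s * ((p ^ k : ℕ) : ℤ) = 1 := by linarith
    rw [this, zpow_one]
  · apply orderOf_dvd_of_pow_eq_one
    rw [← zpow_natCast, ← zpow_mul]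
    have : t * (m : ℤ) * ((p ^ k : ℕ) : ℤ) = (orderOf u : ℤ) * t := by
      rw [hnm]; push_cast; ring
    rw [this, zpow_mul, zpow_natCast, pow_orderOf_eq_one, one_zpow]
  · have h1 : orderOf (u ^ (s * ((p ^ k : ℕ) : ℤ))) ∣ m := by
      apply orderOf_dvd_of_pow_eq_one
      rw [← zpow_natCast, ← zpow_mul]
      have : s * ((p ^ k : ℕ) : ℤ) * (m : ℤ) = (orderOf u : ℤ) * s := by
        rw [hnm]; push_cast; ring
      rw [this, zpow_mul, zpow_natCast, pow_orderOf_eq_one, one_zpow]
    have h2 : m.Coprime p := ((Nat.Prime.coprime_iff_not_dvd hp.out).mpr hm).symm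
    exact Nat.Coprime.coprime_dvd_left h1 h2

variable {G : Type*} [Group G] [Finite G]

local notation "C" x => Subgroup.centralizer ({x} : Set G)

theorem mem_C {g x : G} : g ∈ (C x) ↔ g * x = x * g := Subgroup.mem_centralizer_singleton_iff

/-- An element of `zpowers u` has centralizer containing `C(u)`. -/
theorem C_le_of_mem_zpowers {u a : G} (ha : a ∈ Subgroup.zpowers u) : (C u) ≤ (C a) := by
  intro g hg
  rw [mem_C] at hg ⊢
  obtain ⟨k, rfl⟩ := Subgroup.mem_zpowers_iff.mp ha
  exact (Commute.zpow_right (show Commute g u from hg) k).eq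

theorem mem_center_iff_C {x : G} : x ∈ Subgroup.center G ↔ (C x) = ⊤ := by
  rw [Subgroup.mem_center_iff, eq_top_iff]
  constructor
  · intro h g _
    rw [mem_C]; exact h g
  · intro h g
    have := h (Subgroup.mem_top g)
    rwa [mem_C] at this

/-- Commuting noncentral elements of coprime orders have the same centralizer. -/
theorem C_eq_of_commute
    (h : ∀ x : G, (Subgroup.centralizer ({x} : Set G)).index = 1 ∨ ((Subgroup.centralizer ({x} : Set G)).index).Prime)
    {u v : G} (huv : Commute u v) (hcop : (orderOf u).Coprime (orderOf v))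
    (hu : u ∉ Subgroup.center G) (hv : v ∉ Subgroup.center G) : (C u) = (C v) := by
  have hcopz : IsCoprime ((orderOf u : ℕ) : ℤ) ((orderOf v : ℕ) : ℤ) := Nat.isCoprime_iff_coprime.mpr hcop
  obtain ⟨s, t, hst⟩ := hcopz
  have hu1 : u ^ (s * (orderOf u : ℤ)) = 1 := by
    rw [mul_comm, zpow_mul, zpow_natCast, pow_orderOf_eq_one, one_zpow]
  have hv1 : v ^ (t * (orderOf v : ℤ)) = 1 := by
    rw [mul_comm, zpow_mul, zpow_natCast, pow_orderOf_eq_one, one_zpow]
  have hu' : u ∈ Subgroup.zpowers (u * v) := by
    have e : (u * v) ^ (t * (orderOf v : ℤ)) = u := by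
      rw [huv.mul_zpow, hv1, mul_one]
      have : t * (orderOf v : ℤ) = 1 - s * (orderOf u : ℤ) := by linarith
      rw [this, zpow_sub, zpow_one, hu1, inv_one, mul_one]
    have h3 := Subgroup.zpow_mem_zpowers (u * v) (t * (orderOf v : ℤ))
    rwa [e] at h3
  have hv' : v ∈ Subgroup.zpowers (u * v) := by
    have e : (u * v) ^ (s * (orderOf u : ℤ)) = v := by
      rw [huv.mul_zpow, hu1, one_mul]
      have : s * (orderOf u : ℤ) = 1 - t * (orderOf v : ℤ) := by linarith
      rw [this, zpow_sub, zpow_one, hv1, inv_one, mul_one]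
    have h3 := Subgroup.zpow_mem_zpowers (u * v) (s * (orderOf u : ℤ))
    rwa [e] at h3
  have h1 := C_le_of_mem_zpowers hu'
  have h2 := C_le_of_mem_zpowers hv'
  have key : ∀ w : G, w ∉ Subgroup.center G → (C (u * v)) ≤ (C w) → (C (u * v)) = (C w) := by
    intro w hw hle
    have hwi : (C w).index ≠ 1 := by
      intro h3
      exact hw (mem_center_iff_C.mpr (Subgroup.index_eq_one.mp h3))
    have hd : (C w).index ∣ (C (u * v)).index := Subgroup.index_dvd_of_le hle
    have hne : (C (u * v)).index ≠ 1 := by
      intro h3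
      rw [h3] at hd
      exact hwi (Nat.dvd_one.mp hd)
    have hpr := (h (u * v)).resolve_left hne
    have heq : (C w).index = (C (u * v)).index := ((Nat.dvd_prime hpr).mp hd).resolve_left hwi
    have h4 := Subgroup.relIndex_mul_index hle
    rw [← heq] at h4
    have h5 : (C (u * v)).relIndex (C w) = 1 := by
      have hpos : (C w).index ≠ 0 := Subgroup.index_ne_zero_of_finite
      exact Nat.eq_of_mul_eq_mul_right (Nat.pos_of_ne_zero hpos) (by rw [h4, one_mul])
    exact le_antisymm hle (Subgroup.relIndex_eq_one.mp h5)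
  rw [← key u hu h1, ← key v hv h2]


/-- A centralizer of prime index which contains an element's centralizer. -/
theorem eq_of_index_prime {D E : Subgroup G} (hD : D.index.Prime) (hle : D ≤ E) (hE : E ≠ ⊤) : D = E := by
  have hd : E.index ∣ D.index := Subgroup.index_dvd_of_le hle
  have hne : E.index ≠ 1 := fun h => hE (Subgroup.index_eq_one.mp h)
  have heq : E.index = D.index := ((Nat.dvd_prime hD).mp hd).resolve_left hne
  have h4 := Subgroup.relIndex_mul_index hle
  rw [← heq] at h4
  have h5 : D.relIndex E = 1 := by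
    have hpos : E.index ≠ 0 := Subgroup.index_ne_zero_of_finite
    exact Nat.eq_of_mul_eq_mul_right (Nat.pos_of_ne_zero hpos) (by rw [h4, one_mul])
  exact le_antisymm hle (Subgroup.relIndex_eq_one.mp h5)

theorem isCoatom_of_index_prime {D : Subgroup G} (hD : D.index.Prime) : IsCoatom D := by
  constructor
  · intro h
    rw [h, Subgroup.index_top] at hD
    exact Nat.not_prime_one hD
  · intro E hE
    by_contra hne
    exact hE.ne (eq_of_index_prime hD hE.le hne)

/-- In the central quotient-`p`-group case a prime-index subgroup is normal. -/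
theorem normal_of_all_prime_part_central (D : Subgroup G) (hZD : Subgroup.center G ≤ D) (p : ℕ) [hp : Fact p.Prime]
    (hi : D.index = p)
    (hall : ∀ w ∈ D, (orderOf w).Coprime p → w ∈ Subgroup.center G) : D.Normal := by
  classical
  have hpD : IsPGroup p (D ⧸ (Subgroup.center G).subgroupOf D) := by
    intro q
    obtain ⟨d, rfl⟩ := QuotientGroup.mk_surjective q
    obtain ⟨a, b, hab, ha, hb, ⟨k, hk⟩, hbc⟩ := exists_decomp (d : G) p
    refine ⟨k, ?_⟩
    have haD : a ∈ D := by
      have : Subgroup.zpowers (d : G) ≤ D := by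
        rw [Subgroup.zpowers_le]; exact d.2
      exact this ha
    have hbD : b ∈ D := by
      have : Subgroup.zpowers (d : G) ≤ D := by
        rw [Subgroup.zpowers_le]; exact d.2
      exact this hb
    have hbZ : b ∈ Subgroup.center G := hall b hbD hbc
    have hd' : d = (⟨a, haD⟩ : D) * ⟨b, hbD⟩ := Subtype.ext hab
    have hb1 : ((⟨b, hbD⟩ : D) : D ⧸ (Subgroup.center G).subgroupOf D) = 1 := by
      rw [QuotientGroup.eq_one_iff]
      exact hbZ
    rw [hd', QuotientGroup.mk_mul, hb1, mul_one, ← QuotientGroup.mk_pow]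
    rw [QuotientGroup.eq_one_iff]
    have h1 : a ^ (p ^ k) = 1 := orderOf_dvd_iff_pow_eq_one.mp hk
    have h2 : (⟨a, haD⟩ : D) ^ (p ^ k) = 1 := Subtype.ext h1
    rw [h2]
    exact Subgroup.one_mem _
  obtain ⟨n, hn⟩ := hpD.exists_card_eq
  have hcard : Nat.card (G ⧸ Subgroup.center G) = p ^ (n + 1) := by
    have h1 := Subgroup.relIndex_mul_index hZD
    rw [hi] at h1
    rw [← Subgroup.index_eq_card, ← h1, pow_succ]
    congr 1
  have hpq : IsPGroup p (G ⧸ Subgroup.center G) := IsPGroup.of_card hcard
  haveI : Group.IsNilpotent (G ⧸ Subgroup.center G) := hpq.isNilpotent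
  haveI : Group.IsNilpotent G := by
    refine Subgroup.isNilpotent_of_ker_le_center (QuotientGroup.mk' (Subgroup.center G)) ?_
    rw [QuotientGroup.ker_mk']
  exact Subgroup.NormalizerCondition.normal_of_coatom D (Group.normalizerCondition_of_isNilpotent (G := G))
    (isCoatom_of_index_prime (by rw [hi]; exact hp.out))

/-- The statement. -/
theorem result
    (h : ∀ x : G, (Subgroup.centralizer ({x} : Set G)).index = 1 ∨ ((Subgroup.centralizer ({x} : Set G)).index).Prime) :
    Subgroup.upperCentralSeries G 2 = ⊤ ∨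
      ∃ p q : ℕ, p.Prime ∧ q.Prime ∧ p ≠ q ∧ Nat.card (G ⧸ Subgroup.center G) = p * q ∧ ¬ IsMulCommutative (G ⧸ Subgroup.center G) := by
  classical
  by_cases hnorm : ∀ z : G, (Subgroup.centralizer ({z} : Set G)).Normal
  · left
    rw [eq_top_iff]
    intro x _
    rw [Subgroup.mem_upperCentralSeries_succ_iff]
    intro y
    rw [Subgroup.upperCentralSeries_one, Subgroup.mem_center_iff]
    intro z
    haveI := hnorm z
    show z * _ = _ * z
    have hmem : x * y * x⁻¹ * y⁻¹ ∈ Subgroup.centralizer ({z} : Set G) := by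
      rcases h z with h1 | h1
      · rw [Subgroup.index_eq_one.mp h1]; trivial
      · have hc : Nat.card (G ⧸ Subgroup.centralizer ({z} : Set G)) = (Subgroup.centralizer ({z} : Set G)).index :=
          (Subgroup.index_eq_card _).symm
        haveI : Fact (Nat.card (G ⧸ Subgroup.centralizer ({z} : Set G))).Prime := ⟨by rw [hc]; exact h1⟩
        haveI : IsCyclic (G ⧸ Subgroup.centralizer ({z} : Set G)) := isCyclic_of_prime_card rfl
        rw [← QuotientGroup.eq_one_iff, QuotientGroup.mk_mul, QuotientGroup.mk_mul, QuotientGroup.mk_mul,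
          QuotientGroup.mk_inv, QuotientGroup.mk_inv]
        have hcomm := IsCyclic.isMulCommutative (α := G ⧸ Subgroup.centralizer ({z} : Set G))
        have e := hcomm.is_comm.comm (x : G ⧸ Subgroup.centralizer ({z} : Set G)) (y : G ⧸ Subgroup.centralizer ({z} : Set G))
        rw [e]; group
    have := (mem_C (G := G)).mp hmem
    exact this.symm
  · right
    push Not at hnorm
    obtain ⟨x₀, hx₀⟩ := hnorm
    set D : Subgroup G := Subgroup.centralizer ({x₀} : Set G) with hD
    have hDtop : D ≠ ⊤ := by
      intro htop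
      apply hx₀
      rw [htop]
      infer_instance
    have hDindex : D.index.Prime := (h x₀).resolve_left (fun h1 => hDtop (Subgroup.index_eq_one.mp h1))
    set p := D.index with hp
    haveI hpf : Fact p.Prime := ⟨hDindex⟩
    have hZD : Subgroup.center G ≤ D := by
      intro z hz
      rw [hD, mem_C]
      exact (Subgroup.mem_center_iff.mp hz x₀).symm
    -- an element of order prime to `p` with centralizer `D`
    obtain ⟨w, hwD, hwp, hwC, hwZ⟩ : ∃ w : G, w ∈ D ∧ (orderOf w).Coprime p ∧ (C w) = D ∧ w ∉ Subgroup.center G := by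
      obtain ⟨v, v', hvv, hv, hv', ⟨k, hk⟩, hv'c⟩ := exists_decomp x₀ p
      have hCv := C_le_of_mem_zpowers hv
      have hCv' := C_le_of_mem_zpowers hv'
      have hx₀D : x₀ ∈ D := by rw [hD, mem_C]
      have hzD : Subgroup.zpowers x₀ ≤ D := by rw [Subgroup.zpowers_le]; exact hx₀D
      by_cases hv'Z : v' ∈ Subgroup.center G
      · have hvZ : v ∉ Subgroup.center G := by
          intro hvZ
          apply hDtop
          rw [hD]
          apply mem_center_iff_C.mp
          rw [hvv]
          exact Subgroup.mul_mem _ hvZ hv'Z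
        have hCvD : (C v) = D := (eq_of_index_prime hDindex hCv (fun h1 => hvZ (mem_center_iff_C.mpr h1))).symm
        by_contra hno
        apply hx₀
        refine normal_of_all_prime_part_central D hZD p rfl ?_
        intro w hw hwc
        by_contra hwZ
        apply hno
        refine ⟨w, hw, hwc, ?_, hwZ⟩
        rw [← hCvD]
        have hcomm : Commute v w := by
          have : w ∈ (C v) := by rw [hCvD]; exact hw
          exact ((mem_C (G := G)).mp this).symm
        have hcop : (orderOf v).Coprime (orderOf w) := by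
          have h2 : (p ^ k).Coprime (orderOf w) := Nat.Coprime.pow_left k hwc.symm
          exact Nat.Coprime.coprime_dvd_left hk h2
        exact (C_eq_of_commute h hcomm hcop hvZ hwZ).symm
      · refine ⟨v', hzD hv', hv'c, ?_, hv'Z⟩
        exact (eq_of_index_prime hDindex hCv' (fun h1 => hv'Z (mem_center_iff_C.mpr h1))).symm
    -- a `p`-element outside `D`
    let S : Sylow p G := default
    obtain ⟨y, hyS, hyD⟩ : ∃ y ∈ (S : Subgroup G), y ∉ D := by
      by_contra hall
      push Not at hall
      have h1 : D.index ∣ (S : Subgroup G).index := Subgroup.index_dvd_of_le hall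
      exact S.not_dvd_index h1
    obtain ⟨k, hk⟩ : ∃ k : ℕ, y ^ (p ^ k) = 1 := by
      obtain ⟨k, hk⟩ := S.isPGroup' ⟨y, hyS⟩
      exact ⟨k, congrArg Subtype.val hk⟩
    have hyo : orderOf y ∣ p ^ k := orderOf_dvd_of_pow_eq_one hk
    have hyZ : y ∉ Subgroup.center G := fun hz => hyD (hZD hz)
    have hyw : ¬ (y * w = w * y) := by
      intro hc
      apply hyD
      rw [← hwC, mem_C]
      exact hc
    -- `C(y) ∩ D` is central
    have hCyD : (C y) ⊓ D ≤ Subgroup.center G := by
      rintro u ⟨huy, huD⟩
      obtain ⟨a, b, hab, ha, hb, ⟨k₁, hk₁⟩, hbc⟩ := exists_decomp u p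
      have hzD : Subgroup.zpowers u ≤ D := by rw [Subgroup.zpowers_le]; exact huD
      have hzy : Subgroup.zpowers u ≤ (C y) := by rw [Subgroup.zpowers_le]; exact huy
      have haZ : a ∈ Subgroup.center G := by
        by_contra haZ
        have hcomm : Commute a w := by
          have : a ∈ (C w) := by rw [hwC]; exact hzD ha
          exact (mem_C (G := G)).mp this
        have hcop : (orderOf a).Coprime (orderOf w) :=
          Nat.Coprime.coprime_dvd_left hk₁ (Nat.Coprime.pow_left k₁ hwp.symm)
        have h2 := C_eq_of_commute h hcomm hcop haZ hwZ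
        apply hyD
        rw [← hwC, ← h2, mem_C]
        exact ((mem_C (G := G)).mp (hzy ha)).symm
      have hbZ : b ∈ Subgroup.center G := by
        by_contra hbZ
        have hcomm : Commute y b := ((mem_C (G := G)).mp (hzy hb)).symm
        have hcop : (orderOf y).Coprime (orderOf b) :=
          Nat.Coprime.coprime_dvd_left hyo (Nat.Coprime.pow_left k hbc.symm)
        have h2 := C_eq_of_commute h hcomm hcop hyZ hbZ
        apply hyw
        have h3 : w ∈ (C b) := by
          have : b ∈ (C w) := by rw [hwC]; exact hzD hb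
          rw [mem_C]
          exact ((mem_C (G := G)).mp this).symm
        rw [← h2, mem_C] at h3
        exact h3.symm
      rw [hab]
      exact Subgroup.mul_mem _ haZ hbZ
    have hZy : Subgroup.center G ≤ (C y) := by
      intro z hz
      rw [mem_C]
      exact (Subgroup.mem_center_iff.mp hz y).symm
    -- indices
    have hCyi : (C y).index.Prime := (h y).resolve_left (fun h1 => hyZ (mem_center_iff_C.mpr (Subgroup.index_eq_one.mp h1)))
    have hrel : (Subgroup.center G).relIndex (C y) = D.relIndex (C y) := by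
      have : (Subgroup.center G).subgroupOf (C y) = D.subgroupOf (C y) := by
        ext u
        simp only [Subgroup.mem_subgroupOf]
        exact ⟨fun hu => hZD hu, fun hu => hCyD ⟨u.2, hu⟩⟩
      rw [Subgroup.relIndex, Subgroup.relIndex, this]
    have hle1 : D.relIndex (C y) ≤ p := by
      have h1 := Subgroup.relIndex_le_of_le_right (H := D) (K := C y) (L := ⊤) le_top
        (by rw [Subgroup.relIndex_top_right]; exact hDindex.ne_zero)
      rwa [Subgroup.relIndex_top_right] at h1
    have hyz : Subgroup.zpowers y ≤ (C y) := by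
      rw [Subgroup.zpowers_le, mem_C]
    have hge1 : p ≤ D.relIndex (C y) := by
      have h0 : D.relIndex (C y) ≠ 0 := (lt_of_lt_of_le Nat.zero_lt_one (Nat.pos_of_ne_zero (by
        intro h3; exact absurd h3 Subgroup.index_ne_zero_of_finite))).ne'
      have h1 := Subgroup.relIndex_le_of_le_right (H := D) hyz h0
      refine le_trans ?_ h1
      have hdvd : D.relIndex (Subgroup.zpowers y) ∣ p ^ k := by
        have h2 : D.relIndex (Subgroup.zpowers y) ∣ Nat.card (Subgroup.zpowers y) := by
          rw [Subgroup.relIndex]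
          exact Subgroup.index_dvd_card _
        rw [Nat.card_zpowers] at h2
        exact h2.trans hyo
      obtain ⟨j, -, hj⟩ := (Nat.dvd_prime_pow hDindex).mp hdvd
      rw [hj]
      have hj0 : j ≠ 0 := by
        rintro rfl
        rw [pow_zero, Subgroup.relIndex_eq_one] at hj
        exact hyD (hj (Subgroup.mem_zpowers y))
      calc p = p ^ 1 := (pow_one p).symm
        _ ≤ p ^ j := Nat.pow_le_pow_right hDindex.pos (Nat.pos_of_ne_zero hj0)
    have hrelp : (Subgroup.center G).relIndex (C y) = p := by
      rw [hrel]; exact le_antisymm hle1 hge1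
    have hcard : Nat.card (G ⧸ Subgroup.center G) = p * (C y).index := by
      rw [← Subgroup.index_eq_card, ← Subgroup.relIndex_mul_index hZy, hrelp]
    have hnc : ¬ IsMulCommutative (G ⧸ Subgroup.center G) := by
      intro hab
      apply hx₀
      constructor
      intro d hd g
      have h1 : g * d * g⁻¹ * d⁻¹ ∈ Subgroup.center G := by
        rw [← QuotientGroup.eq_one_iff, QuotientGroup.mk_mul, QuotientGroup.mk_mul, QuotientGroup.mk_mul,
          QuotientGroup.mk_inv, QuotientGroup.mk_inv]
        have e := hab.is_comm.comm (g : G ⧸ Subgroup.center G) (d : G ⧸ Subgroup.center G)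
        rw [e]; group
      have h2 : g * d * g⁻¹ = (g * d * g⁻¹ * d⁻¹) * d := by group
      rw [h2]
      exact D.mul_mem (hZD h1) hd
    refine ⟨p, (C y).index, hDindex, hCyi, ?_, hcard, hnc⟩
    intro heq
    apply hnc
    have hc2 : Nat.card (G ⧸ Subgroup.center G) = p ^ 2 := by
      rw [hcard, ← heq, sq]
    exact IsPGroup.isMulCommutative_of_card_eq_prime_sq hc2

end Cfsg.Agent.S4314
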