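import Cfsg.Statements.S3904
import Cfsg.Agent.S4314
import Cfsg.Agent.S4071
import Cfsg.Agent.Lib.Solvable.FrobQuot
import Cfsg.Agent.Lib.Solvable.MinimalNormal

set_option autoImplicit false
open Cfsg
open scoped Pointwise

namespace Cfsg.Agent.S3904

section Lemmas

variable {G : Type*} [Group G] [Finite G]

local notation "C" x => Subgroup.centralizer ({x} : Set G)

theorem mem_C {g x : G} : g ∈ (C x) ↔ g * x = x * g := Subgroup.mem_centralizer_singleton_iff

theorem mem_C_comm {g x : G} : g ∈ (C x) ↔ x ∈ (C g) := by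
  rw [mem_C, mem_C]; exact ⟨fun h => h.symm, fun h => h.symm⟩

/-- An element lies in a subgroup as soon as its powers of prime power order do. -/
theorem mem_of_primary_powers (L : Subgroup G) (w : G)
    (h : ∀ a ∈ Subgroup.zpowers w, ∀ r : ℕ, r.Prime → (∃ k : ℕ, a ^ (r ^ k) = 1) → a ∈ L) :
    w ∈ L := by
  induction hn : orderOf w using Nat.strong_induction_on generalizing w with
  | _ n ih =>
  by_cases h1 : w = 1
  · rw [h1]; exact L.one_mem
  have hne : orderOf w ≠ 1 := by rwa [Ne, orderOf_eq_one_iff]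
  have hq : (orderOf w).minFac.Prime := Nat.minFac_prime hne
  have : Fact (orderOf w).minFac.Prime := ⟨hq⟩
  obtain ⟨a, b, hab, ha, hb, ⟨k, hak⟩, hbc⟩ := S4314.exists_decomp w (orderOf w).minFac
  have haL : a ∈ L := h a ha _ hq ⟨k, orderOf_dvd_iff_pow_eq_one.mp hak⟩
  have hbL : b ∈ L := by
    have hdvd : orderOf b ∣ orderOf w := orderOf_dvd_of_mem_zpowers hb
    have hlt : orderOf b < n := by
      rw [← hn]
      apply lt_of_le_of_ne (Nat.le_of_dvd (orderOf_pos w) hdvd)
      intro heq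
      rw [heq] at hbc
      have := (Nat.Prime.coprime_iff_not_dvd hq).mp hbc.symm
      exact this (Nat.minFac_dvd _)
    apply ih _ hlt b _ rfl
    intro c hc r hr hcr
    exact h c ((Subgroup.zpowers_le.mpr hb) hc) r hr hcr
  rw [hab]; exact L.mul_mem haL hbL

/-- The hypothesis of the theorem. -/
abbrev HMax (G : Type*) [Group G] : Prop :=
  ∀ x : G, x ∉ Subgroup.center G → IsCoatom (Subgroup.centralizer ({x} : Set G))

theorem C_eq_of_le (hmax : HMax G) {x y : G} (hx : x ∉ Subgroup.center G) (hy : y ∉ Subgroup.center G)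
    (hle : (C x) ≤ (C y)) : (C x) = (C y) := by
  by_contra hne
  exact (hmax y hy).1 ((hmax x hx).2 _ (lt_of_le_of_ne hle hne))

/-- Commuting noncentral elements of coprime orders have the same centralizer. -/
theorem C_eq_of_coprime (hmax : HMax G) {u v : G} (huv : Commute u v) (hcop : (orderOf u).Coprime (orderOf v))
    (hu : u ∉ Subgroup.center G) (hv : v ∉ Subgroup.center G) : (C u) = (C v) := by
  have hcopz : IsCoprime ((orderOf u : ℕ) : ℤ) ((orderOf v : ℕ) : ℤ) := Nat.isCoprime_iff_coprime.mpr hcop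
  obtain ⟨s, t, hst⟩ := hcopz
  have hu1 : u ^ (s * (orderOf u : ℤ)) = 1 := by
    rw [mul_comm, zpow_mul, zpow_natCast, pow_orderOf_eq_one, one_zpow]
  have hv1 : v ^ (t * (orderOf v : ℤ)) = 1 := by
    rw [mul_comm, zpow_mul, zpow_natCast, pow_orderOf_eq_one, one_zpow]
  have hu' : u ∈ Subgroup.zpowers (u * v) := by
    have e : (u * v) ^ (t * (orderOf v : ℤ)) = u := by
      rw [huv.mul_zpow, hv1, mul_one]
      have : t * (orderOf v : ℤ) = 1 - s * (orderOf u : ℤ) := by linarith
      rw [this, zpow_sub, zpow_one, hu1, inv_one, mul_one]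
    have h3 := Subgroup.zpow_mem_zpowers (u * v) (t * (orderOf v : ℤ))
    rwa [e] at h3
  have hv' : v ∈ Subgroup.zpowers (u * v) := by
    have e : (u * v) ^ (s * (orderOf u : ℤ)) = v := by
      rw [huv.mul_zpow, hu1, one_mul]
      have : s * (orderOf u : ℤ) = 1 - t * (orderOf v : ℤ) := by linarith
      rw [this, zpow_sub, zpow_one, hv1, inv_one, mul_one]
    have h3 := Subgroup.zpow_mem_zpowers (u * v) (s * (orderOf u : ℤ))
    rwa [e] at h3
  have h1 := S4314.C_le_of_mem_zpowers hu'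
  have h2 := S4314.C_le_of_mem_zpowers hv'
  have huvZ : u * v ∉ Subgroup.center G := by
    intro hz
    exact hu ((Subgroup.zpowers_le.mpr hz) hu')
  rw [← C_eq_of_le hmax huvZ hu h1, ← C_eq_of_le hmax huvZ hv h2]

/-- Commuting noncentral elements of coprime orders have abelian centralizer. -/
theorem mulComm_of_coprime (hmax : HMax G) {u v : G} (huv : Commute u v) (hcop : (orderOf u).Coprime (orderOf v))
    (hu : u ∉ Subgroup.center G) (hv : v ∉ Subgroup.center G) : ∀ a ∈ (C u), ∀ b ∈ (C u), a * b = b * a := by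
  have hEq := C_eq_of_coprime hmax huv hcop hu hv
  intro w hw m hm
  have : w ∈ (C m) := by
    apply mem_of_primary_powers
    intro a ha r hr ⟨k, hk⟩
    by_cases haZ : a ∈ Subgroup.center G
    · exact (Subgroup.center_le_centralizer _) haZ
    have haM : a ∈ (C u) := (Subgroup.zpowers_le.mpr hw) ha
    rw [mem_C_comm]
    -- `r` is coprime to one of the orders
    by_cases hru : r ∣ orderOf u
    · have hrv : (orderOf a).Coprime (orderOf v) := by
        have hrv' : ¬ r ∣ orderOf v := fun hrv =>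
          hr.one_lt.ne' (Nat.eq_one_of_dvd_coprimes hcop hru hrv)
        have h1 : (r ^ k).Coprime (orderOf v) :=
          Nat.Coprime.pow_left k ((Nat.Prime.coprime_iff_not_dvd hr).mpr hrv')
        exact Nat.Coprime.coprime_dvd_left (orderOf_dvd_of_pow_eq_one hk) h1
      have hcomm : Commute a v := by
        have : a ∈ (C v) := hEq ▸ haM
        exact mem_C.mp this
      have := C_eq_of_coprime hmax hcomm hrv haZ hv
      rw [this, ← hEq]; exact hm
    · have hrv : (orderOf a).Coprime (orderOf u) := by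
        have h1 : (r ^ k).Coprime (orderOf u) :=
          Nat.Coprime.pow_left k ((Nat.Prime.coprime_iff_not_dvd hr).mpr hru)
        exact Nat.Coprime.coprime_dvd_left (orderOf_dvd_of_pow_eq_one hk) h1
      have hcomm : Commute a u := mem_C.mp haM
      have := C_eq_of_coprime hmax hcomm hrv haZ hu
      rw [this]; exact hm
  exact (mem_C.mp this)

/-- A coatom is normal when `G/Z(G)` is a `p`-group. -/
theorem normal_of_pgroup_mod_center (p : ℕ) [Fact p.Prime]
    (hp : ∀ g : G, ∃ k : ℕ, g ^ (p ^ k) ∈ Subgroup.center G) {D : Subgroup G} (hD : IsCoatom D) :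
    D.Normal := by
  have h1 : IsPGroup p (G ⧸ Subgroup.center G) := by
    intro y
    obtain ⟨g, rfl⟩ := QuotientGroup.mk'_surjective _ y
    obtain ⟨k, hk⟩ := hp g
    refine ⟨k, ?_⟩
    rw [← map_pow, ← MonoidHom.mem_ker, QuotientGroup.ker_mk']
    exact hk
  haveI : Group.IsNilpotent (G ⧸ Subgroup.center G) := h1.isNilpotent
  haveI : Group.IsNilpotent G := Group.of_quotient_center_nilpotent (G := G) inferInstance
  exact Subgroup.NormalizerCondition.normal_of_coatom D Group.normalizerCondition_of_isNilpotent hD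


/-- Commutators for elements whose commutator `c` is central. -/
theorem comm_pow_right {g h c : G} (hc : ∀ y : G, c * y = y * c) (h0 : g * h = c * (h * g)) (n : ℕ) :
    g * h ^ n = c ^ n * (h ^ n * g) := by
  induction n with
  | zero => simp
  | succ n ih =>
    calc g * h ^ (n + 1) = (g * h ^ n) * h := by rw [pow_succ]; group
      _ = c ^ n * (h ^ n * (g * h)) := by rw [ih]; simp only [mul_assoc]
      _ = c ^ n * (h ^ n * (c * (h * g))) := by rw [h0]
      _ = c ^ n * ((h ^ n * c) * (h * g)) := by simp only [mul_assoc]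
      _ = c ^ n * ((c * h ^ n) * (h * g)) := by rw [hc]
      _ = c ^ (n + 1) * (h ^ (n + 1) * g) := by rw [pow_succ c, pow_succ h]; simp only [mul_assoc]

theorem comm_pow_left {g h c : G} (hc : ∀ y : G, c * y = y * c) (h0 : g * h = c * (h * g)) (n : ℕ) :
    g ^ n * h = c ^ n * (h * g ^ n) := by
  induction n with
  | zero => simp
  | succ n ih =>
    calc g ^ (n + 1) * h = g ^ n * (g * h) := by rw [pow_succ]; group
      _ = g ^ n * (c * (h * g)) := by rw [h0]
      _ = (g ^ n * c) * (h * g) := by simp only [mul_assoc]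
      _ = (c * g ^ n) * (h * g) := by rw [hc]
      _ = c * ((g ^ n * h) * g) := by simp only [mul_assoc]
      _ = c * ((c ^ n * (h * g ^ n)) * g) := by rw [ih]
      _ = (c * c ^ n) * (h * (g ^ n * g)) := by simp only [mul_assoc]
      _ = (c ^ n * c) * (h * (g ^ n * g)) := by rw [(hc _ : c * c ^ n = c ^ n * c)]
      _ = c ^ (n + 1) * (h * g ^ (n + 1)) := by rw [pow_succ c, pow_succ g]

/-- If all centralizers are normal, `G/Z(G)` is elementary abelian. -/
theorem case_all_normal (hmax : HMax G) (hall : ∀ x : G, x ∉ Subgroup.center G → (C x).Normal)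
    (hex : ∃ x : G, x ∉ Subgroup.center G) :
    ∃ p : ℕ, p.Prime ∧ Cfsg.IsElementaryAbelian p (⊤ : Subgroup (G ⧸ Subgroup.center G)) := by
  have hindex : ∀ x : G, x ∉ Subgroup.center G → (C x).index.Prime := by
    intro x hx
    haveI := hall x hx
    exact S4071.index_prime_of_isCoatom _ (hmax x hx)
  -- commutators are central
  have hcZ : ∀ g h : G, g * h * g⁻¹ * h⁻¹ ∈ Subgroup.center G := by
    intro g h
    have key : ∀ x : G, g * h * g⁻¹ * h⁻¹ ∈ (C x) := by
      intro x
      by_cases hx : x ∈ Subgroup.center G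
      · rw [S4314.mem_center_iff_C.mp hx]; trivial
      haveI := hall x hx
      haveI : Fact (C x).index.Prime := ⟨hindex x hx⟩
      haveI : IsCyclic (G ⧸ (C x)) := isCyclic_of_prime_card (p := (C x).index) rfl
      have hab : ((QuotientGroup.mk' (C x)) g) * ((QuotientGroup.mk' (C x)) h) =
          ((QuotientGroup.mk' (C x)) h) * ((QuotientGroup.mk' (C x)) g) := by
        exact mul_comm' _ _
      rw [← QuotientGroup.ker_mk' (C x), MonoidHom.mem_ker]
      simp only [map_mul, map_inv]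
      rw [hab]; group
    rw [Subgroup.mem_center_iff]
    intro x
    exact (mem_C.mp (key x)).symm
  have hcomm0 : ∀ g h : G, g * h = (g * h * g⁻¹ * h⁻¹) * (h * g) := by
    intro g h; group
  -- powers
  have hpow : ∀ g : G, g ∉ Subgroup.center G → g ^ (C g).index ∈ Subgroup.center G := by
    intro g hg
    rw [Subgroup.mem_center_iff]
    intro h
    haveI := hall g hg
    set c := g * h * g⁻¹ * h⁻¹ with hc
    have hcc : ∀ y : G, c * y = y * c := by
      intro y
      exact ((Subgroup.mem_center_iff.mp (hcZ g h)) y).symm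
    have h1 := comm_pow_right hcc (hcomm0 g h) (C g).index
    have h2 : h ^ (C g).index ∈ (C g) := Subgroup.pow_index_mem _ _
    have h3 : g * h ^ (C g).index = h ^ (C g).index * g := (mem_C.mp h2).symm
    rw [h3] at h1
    have h4 : c ^ (C g).index = 1 := by
      have h6 : 1 * (h ^ (C g).index * g) = c ^ (C g).index * (h ^ (C g).index * g) := by
        rw [one_mul]; exact h1
      exact (mul_right_cancel h6).symm
    have h5 := comm_pow_left hcc (hcomm0 g h) (C g).index
    rw [h4, one_mul] at h5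
    exact h5.symm
  -- quotient
  set π := QuotientGroup.mk' (Subgroup.center G) with hπ
  have hker : ∀ g : G, π g = 1 ↔ g ∈ Subgroup.center G := by
    intro g
    rw [← MonoidHom.mem_ker, hπ, QuotientGroup.ker_mk']
  have hsurj := QuotientGroup.mk'_surjective (Subgroup.center G)
  have hQcomm : ∀ a b : G ⧸ Subgroup.center G, a * b = b * a := by
    intro a b
    obtain ⟨g, rfl⟩ := hsurj a
    obtain ⟨h, rfl⟩ := hsurj b
    have := (hker _).mpr (hcZ g h)
    simp only [map_mul, map_inv] at this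
    have h2 : (QuotientGroup.mk' (Subgroup.center G)) g * (QuotientGroup.mk' (Subgroup.center G)) h =
        (QuotientGroup.mk' (Subgroup.center G)) h * (QuotientGroup.mk' (Subgroup.center G)) g := by
      have h3 : π g * π h = π h * π g := by
        calc π g * π h = (π g * π h * (π g)⁻¹ * (π h)⁻¹) * (π h * π g) := by group
          _ = π h * π g := by rw [this, one_mul]
      exact h3
    exact h2
  have hprime : ∀ y : G ⧸ Subgroup.center G, y ≠ 1 → (orderOf y).Prime := by
    intro y hy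
    obtain ⟨g, rfl⟩ := hsurj y
    have hg : g ∉ Subgroup.center G := fun h => hy ((hker g).mpr h)
    haveI : Fact (C g).index.Prime := ⟨hindex g hg⟩
    have h1 : (π g) ^ (C g).index = 1 := by
      rw [← map_pow]; exact (hker _).mpr (hpow g hg)
    have := orderOf_eq_prime h1 hy
    rw [this]; exact hindex g hg
  obtain ⟨x₀, hx₀⟩ := hex
  have hy₀ : π x₀ ≠ 1 := fun h => hx₀ ((hker x₀).mp h)
  refine ⟨orderOf (π x₀), hprime _ hy₀, ⟨⟨fun a b => Subtype.ext (hQcomm _ _)⟩⟩, ?_⟩
  intro y _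
  by_cases hy1 : y = 1
  · rw [hy1, one_pow]
  have hq := hprime y hy1
  have hp := hprime _ hy₀
  by_cases heq : orderOf y = orderOf (π x₀)
  · rw [← heq]; exact pow_orderOf_eq_one y
  exfalso
  have hcop : (orderOf y).Coprime (orderOf (π x₀)) := (Nat.coprime_primes hq hp).mpr heq
  have h2 : orderOf (y * π x₀) = orderOf y * orderOf (π x₀) :=
    Commute.orderOf_mul_eq_mul_orderOf_of_coprime (hQcomm _ _) hcop
  have hne1 : y * π x₀ ≠ 1 := by
    intro h3
    rw [h3, orderOf_one] at h2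
    have := Nat.eq_one_of_mul_eq_one_right h2.symm
    exact hq.one_lt.ne' this
  have h3 := hprime _ hne1
  rw [h2] at h3
  exact Nat.not_prime_mul hq.one_lt.ne' hp.one_lt.ne' h3


theorem conj_smul_C (g x : G) : MulAut.conj g • (C x) = (C (g * x * g⁻¹)) := by
  ext w
  rw [Lib.Solvable.FrobQuot.mem_conj_smul_iff', mem_C, mem_C]
  constructor
  · intro h
    calc w * (g * x * g⁻¹) = g * ((g⁻¹ * w * g) * x) * g⁻¹ := by group
      _ = g * (x * (g⁻¹ * w * g)) * g⁻¹ := by rw [h]
      _ = g * x * g⁻¹ * w := by group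
  · intro h
    calc g⁻¹ * w * g * x = g⁻¹ * (w * (g * x * g⁻¹)) * g := by group
      _ = g⁻¹ * (g * x * g⁻¹ * w) * g := by rw [h]
      _ = x * (g⁻¹ * w * g) := by group

theorem conj_notMem_center {x : G} (hx : x ∉ Subgroup.center G) (g : G) :
    g * x * g⁻¹ ∉ Subgroup.center G := by
  intro h
  apply hx
  have := (Subgroup.Normal.conj_mem (inferInstance : (Subgroup.center G).Normal) _ h g⁻¹)
  simpa [mul_assoc] using this

/-- The second alternative of the theorem. -/
abbrev Concl2 (G : Type*) [Group G] : Prop :=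
  ¬ IsMulCommutative (G ⧸ Subgroup.center G) ∧
    (∀ H : Subgroup (G ⧸ Subgroup.center G), H ≠ ⊤ → IsMulCommutative ↥H) ∧
      ∃ p q a : ℕ, p.Prime ∧ q.Prime ∧ p ≠ q ∧ Nat.card (G ⧸ Subgroup.center G) = p ^ a * q ∧
        ∀ P : Subgroup (G ⧸ Subgroup.center G), Nat.card ↥P = p ^ a → P.Normal

/-- An abelian non-normal centralizer forces the second alternative. -/
theorem case_A (hmax : HMax G) {x₀ : G} (hx₀ : x₀ ∉ Subgroup.center G)
    (hab : ∀ a ∈ (C x₀), ∀ b ∈ (C x₀), a * b = b * a) (hnn : ¬ (C x₀).Normal) : Concl2 G := by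
  set D := (C x₀) with hD
  have hDc : IsCoatom D := hmax x₀ hx₀
  have hZD : Subgroup.center G ≤ D := Subgroup.center_le_centralizer _
  have hx₀D : x₀ ∈ D := mem_C.mpr rfl
  have hDZ : ¬ D ≤ Subgroup.center G := fun h => hx₀ (h hx₀D)
  have hDtop : D ≠ ⊤ := hDc.1
  -- conjugates of `D`
  have hDg : ∀ g : G, MulAut.conj g • D = (C (g * x₀ * g⁻¹)) := fun g => conj_smul_C g x₀
  have hab' : ∀ g : G, ∀ a ∈ (C (g * x₀ * g⁻¹)), ∀ b ∈ (C (g * x₀ * g⁻¹)), a * b = b * a := by
    intro g a ha b hb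
    rw [← hDg, Lib.Solvable.FrobQuot.mem_conj_smul_iff'] at ha hb
    have := hab _ ha _ hb
    have h2 := congrArg (fun w => g * w * g⁻¹) this
    simpa [mul_assoc] using h2
  have hnotconj : ∀ g : G, g ∉ D → MulAut.conj g • D ≠ D := by
    intro g hg heq
    have hgN : g ∈ Subgroup.normalizer (D : Set G) := by
      rw [Subgroup.mem_normalizer_iff]
      intro h
      constructor
      · intro hh
        have h2 : g * h * g⁻¹ ∈ MulAut.conj g • D := by
          rw [Lib.Solvable.FrobQuot.mem_conj_smul_iff']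
          have : g⁻¹ * (g * h * g⁻¹) * g = h := by group
          rwa [this]
        rwa [heq] at h2
      · intro hh
        rw [← heq, Lib.Solvable.FrobQuot.mem_conj_smul_iff'] at hh
        have : g⁻¹ * (g * h * g⁻¹) * g = h := by group
        rwa [this] at hh
    have hlt : D < Subgroup.normalizer (D : Set G) :=
      lt_of_le_of_ne Subgroup.le_normalizer (fun h => hg (by rw [h]; exact hgN))
    have htop := hDc.2 _ hlt
    exact hnn (Subgroup.normalizer_eq_top_iff.mp htop)
  have hF : ∀ g : G, g ∉ D → D ⊓ (MulAut.conj g • D) ≤ Subgroup.center G := by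
    rintro g hg z ⟨hz1, hz2⟩
    by_contra hzZ
    have h1 : D ≤ (C z) := by
      intro a ha
      exact mem_C.mpr (hab a ha z hz1)
    have h2 : D = (C z) := C_eq_of_le hmax hx₀ hzZ h1
    have h3 : MulAut.conj g • D ≤ (C z) := by
      intro a ha
      rw [hDg] at ha hz2
      exact mem_C.mpr (hab' g a ha z hz2)
    rw [← h2] at h3
    apply hnotconj g hg
    rw [hDg]
    rw [hDg] at h3
    exact C_eq_of_le hmax (conj_notMem_center hx₀ g) hx₀ h3
  obtain ⟨K, hKn, hZK, hKD, hKD2, hKk, hKout⟩ :=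
    Lib.Solvable.FrobQuot.exists_kernel' D (Subgroup.center G) hZD hDZ hDtop hF
  have hKtop : K ≠ ⊤ := by
    intro h
    rw [h, top_inf_eq] at hKD
    exact hDZ hKD.le
  have hKne : ∃ t ∈ K, t ∉ Subgroup.center G := by
    by_contra hall
    push Not at hall
    have : K ≤ D := fun k hk => hZD (hall k hk)
    rw [sup_eq_right.mpr this] at hKD2
    exact hDtop hKD2
  have key : ∀ t ∈ K, t ∉ Subgroup.center G → (C t) = K := by
    intro t ht htZ
    have hle : (C t) ≤ K := by
      intro w hw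
      by_contra hwK
      obtain ⟨g, hg⟩ := hKout w hwK
      have hwZ : w ∉ Subgroup.center G := fun h => hwK (hZK h)
      rw [hDg] at hg
      have h1 : (C (g * x₀ * g⁻¹)) ≤ (C w) := by
        intro a ha
        exact mem_C.mpr (hab' g a ha w hg)
      have h2 := C_eq_of_le hmax (conj_notMem_center hx₀ g) hwZ h1
      have h3 : t ∈ (C w) := mem_C_comm.mp hw
      rw [← h2] at h3
      apply hKk t ht htZ g
      rw [hDg]; exact h3
    by_contra hne
    exact hKtop ((hmax t htZ).2 _ (lt_of_le_of_ne hle hne))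
  have hKab : ∀ a ∈ K, ∀ b ∈ K, a * b = b * a := by
    intro a ha b hb
    by_cases haZ : a ∈ Subgroup.center G
    · exact ((Subgroup.mem_center_iff.mp haZ) b).symm
    · have := key a ha haZ
      rw [← this] at hb
      exact (mem_C.mp hb).symm
  obtain ⟨t, ht, htZ⟩ := hKne
  have hKcoat : IsCoatom K := by
    rw [← key t ht htZ]; exact hmax t htZ
  have hq : K.index.Prime := S4071.index_prime_of_isCoatom K hKcoat
  haveI : Fact K.index.Prime := ⟨hq⟩
  -- quotient notation
  set π := QuotientGroup.mk' (Subgroup.center G) with hπ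
  have hker : ∀ g : G, π g = 1 ↔ g ∈ Subgroup.center G := by
    intro g
    rw [← MonoidHom.mem_ker, hπ, QuotientGroup.ker_mk']
  have hsurj : Function.Surjective π := QuotientGroup.mk'_surjective (Subgroup.center G)
  -- the prime `p`
  have hy1 : π t ≠ 1 := fun h => htZ ((hker t).mp h)
  have hnn1 : orderOf (π t) ≠ 1 := by rwa [Ne, orderOf_eq_one_iff]
  set p := (orderOf (π t)).minFac with hp
  have hpp : p.Prime := Nat.minFac_prime hnn1
  haveI : Fact p.Prime := ⟨hpp⟩
  set k₀ := t ^ (orderOf (π t) / p) with hk₀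
  have hk₀1 : π k₀ ≠ 1 := by
    intro h
    rw [hk₀, map_pow] at h
    have h2 := orderOf_pow_orderOf_div (x := π t) (orderOf_pos _).ne' (Nat.minFac_dvd _)
    rw [← hp, h, orderOf_one] at h2
    exact hpp.one_lt.ne h2
  have hk₀p : k₀ ^ p ∈ Subgroup.center G := by
    rw [← hker, hk₀, ← pow_mul, Nat.div_mul_cancel (Nat.minFac_dvd _), map_pow, pow_orderOf_eq_one]
  have hk₀K : k₀ ∈ K := K.pow_mem ht _
  have hk₀Z : k₀ ∉ Subgroup.center G := fun h => hk₀1 ((hker _).mpr h)
  -- `Ω`
  let Ω : Subgroup G :=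
    { carrier := {k | k ∈ K ∧ k ^ p ∈ Subgroup.center G}
      mul_mem' := by
        rintro a b ⟨ha, ha2⟩ ⟨hb, hb2⟩
        refine ⟨K.mul_mem ha hb, ?_⟩
        have hc : Commute a b := hKab a ha b hb
        rw [hc.mul_pow]
        exact Subgroup.mul_mem _ ha2 hb2
      one_mem' := ⟨K.one_mem, by rw [one_pow]; exact Subgroup.one_mem _⟩
      inv_mem' := by
        rintro a ⟨ha, ha2⟩
        refine ⟨K.inv_mem ha, ?_⟩
        rw [inv_pow]
        exact Subgroup.inv_mem _ ha2 }
  have hΩmem : ∀ k, k ∈ Ω ↔ k ∈ K ∧ k ^ p ∈ Subgroup.center G := fun k => Iff.rfl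
  haveI hΩn : Ω.Normal := by
    constructor
    intro k hk g
    rw [hΩmem] at hk ⊢
    refine ⟨hKn.conj_mem k hk.1 g, ?_⟩
    rw [conj_pow]
    exact (inferInstance : (Subgroup.center G).Normal).conj_mem _ hk.2 g
  have hΩsup : Ω ⊔ D = ⊤ := by
    apply hDc.2
    apply lt_of_le_of_ne le_sup_right
    intro h
    have h1 : k₀ ∈ D := by
      rw [h]
      exact Subgroup.mem_sup_left ((hΩmem _).mpr ⟨hk₀K, hk₀p⟩)
    have h2 : k₀ ∈ K ⊓ D := ⟨hk₀K, h1⟩
    rw [hKD] at h2
    exact hk₀Z h2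
  have hKp : ∀ k ∈ K, k ^ p ∈ Subgroup.center G := by
    intro k hk
    have h1 : k ∈ ((Ω ⊔ D : Subgroup G) : Set G) := by rw [hΩsup]; trivial
    rw [Subgroup.normal_mul] at h1
    obtain ⟨ω, hω, d, hd, rfl⟩ := Set.mem_mul.mp h1
    have hω' := (hΩmem _).mp hω
    have hdK : d ∈ K := by
      have := K.mul_mem (K.inv_mem hω'.1) hk
      simpa using this
    have hdZ : d ∈ Subgroup.center G := by
      have : d ∈ K ⊓ D := ⟨hdK, hd⟩
      rwa [hKD] at this
    have hc : Commute ω d := hKab _ hω'.1 _ hdK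
    rw [hc.mul_pow]
    exact Subgroup.mul_mem _ hω'.2 (Subgroup.pow_mem _ hdZ _)
  -- `K̄`
  set Kb := K.map π with hKb
  have hKbcomap : Kb.comap π = K := by
    rw [hKb, Subgroup.comap_map_eq_self]
    rw [hπ, QuotientGroup.ker_mk']; exact hZK
  have hKbmem : ∀ g : G, π g ∈ Kb ↔ g ∈ K := by
    intro g
    rw [← Subgroup.mem_comap, hKbcomap]
  have hKbP : IsPGroup p Kb := by
    rintro ⟨y, g, hg, rfl⟩
    refine ⟨1, ?_⟩
    apply Subtype.ext
    simp only [Subgroup.coe_pow, pow_one, OneMemClass.coe_one]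
    rw [← map_pow, (hker _)]
    exact hKp g hg
  obtain ⟨a, ha⟩ := IsPGroup.iff_card.mp hKbP
  have hKbindex : Kb.index = K.index := by
    rw [← hKbcomap, Subgroup.index_comap_of_surjective _ hsurj]
  have hcard : Nat.card (G ⧸ Subgroup.center G) = p ^ a * K.index := by
    rw [← Kb.card_mul_index, ha, hKbindex]
  have hne : p ≠ K.index := by
    intro heq
    apply hnn
    apply normal_of_pgroup_mod_center p _ hDc
    intro g
    refine ⟨2, ?_⟩
    have h1 : g ^ K.index ∈ K := Subgroup.pow_index_mem _ _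
    rw [← heq] at h1
    have h2 := hKp _ h1
    rw [← pow_mul] at h2
    rwa [sq]
  refine ⟨?_, ?_, p, K.index, a, hpp, hq, hne, hcard, ?_⟩
  · -- `Ḡ` is nonabelian
    intro hcomm
    apply hnn
    constructor
    intro d hd g
    have h1 : π (g * d * g⁻¹ * d⁻¹) = 1 := by
      simp only [map_mul, map_inv]
      rw [mul_comm' (π g) (π d)]
      group
    have h2 := hZD ((hker _).mp h1)
    have h3 := D.mul_mem h2 hd
    simpa using h3
  · -- proper subgroups are abelian
    intro Hb hHb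
    set H := Hb.comap π with hH
    have hHmem : ∀ g : G, π g ∈ Hb ↔ g ∈ H := fun g => Iff.rfl
    have hHtop : H ≠ ⊤ := by
      intro htop
      apply hHb
      rw [eq_top_iff]
      intro y _
      obtain ⟨g, rfl⟩ := hsurj y
      rw [hHmem, htop]; trivial
    have hZH : Subgroup.center G ≤ H := by
      intro z hz
      rw [← hHmem, (hker z).mpr hz]; exact Hb.one_mem
    by_cases hHK : H ≤ K
    · refine ⟨⟨?_⟩⟩
      rintro ⟨u, hu⟩ ⟨v, hv⟩
      obtain ⟨g, rfl⟩ := hsurj u
      obtain ⟨h, rfl⟩ := hsurj v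
      apply Subtype.ext
      change π g * π h = π h * π g
      rw [← map_mul, ← map_mul, hKab g (hHK hu) h (hHK hv)]
    · obtain ⟨w, hwH', hwK'⟩ := Set.not_subset.mp hHK
      have hwH : w ∈ H := hwH'
      have hwK : w ∉ K := hwK'
      obtain ⟨g, hg⟩ := hKout w hwK
      have hg' := hg
      rw [hDg] at hg'
      have hle : (C (g * x₀ * g⁻¹)) ≤ H := by
        intro y hy
        have hc : Nat.card (G ⧸ K) = K.index := rfl
        have hw1 : (QuotientGroup.mk' K) w ≠ 1 := by
          intro h1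
          apply hwK
          rw [← QuotientGroup.ker_mk' K, MonoidHom.mem_ker]; exact h1
        have hmem : (QuotientGroup.mk' K) y ∈ Subgroup.zpowers ((QuotientGroup.mk' K) w) :=
          mem_zpowers_of_prime_card hc hw1
        obtain ⟨n, hn⟩ := Subgroup.mem_zpowers_iff.mp hmem
        set z := (w ^ n)⁻¹ * y with hz
        have hzK : z ∈ K := by
          rw [← QuotientGroup.ker_mk' K, MonoidHom.mem_ker, hz, map_mul, map_inv, map_zpow, hn,
            inv_mul_cancel]
        have hzC : z ∈ (C (g * x₀ * g⁻¹)) :=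
          Subgroup.mul_mem _ (Subgroup.inv_mem _ (Subgroup.zpow_mem _ hg' _)) hy
        have hzZ : z ∈ Subgroup.center G := by
          by_contra hzZ
          apply hKk z hzK hzZ g
          rw [hDg]; exact hzC
        have : y = w ^ n * z := by rw [hz]; group
        rw [this]
        exact H.mul_mem (H.zpow_mem hwH _) (hZH hzZ)
      have hHeq : (C (g * x₀ * g⁻¹)) = H := by
        by_contra hne2
        exact hHtop ((hmax _ (conj_notMem_center hx₀ g)).2 _ (lt_of_le_of_ne hle hne2))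
      refine ⟨⟨?_⟩⟩
      rintro ⟨u, hu⟩ ⟨v, hv⟩
      obtain ⟨a1, rfl⟩ := hsurj u
      obtain ⟨b1, rfl⟩ := hsurj v
      apply Subtype.ext
      change π a1 * π b1 = π b1 * π a1
      have ha1 : a1 ∈ H := hu
      have hb1 : b1 ∈ H := hv
      rw [← hHeq] at ha1 hb1
      rw [← map_mul, ← map_mul, hab' g a1 ha1 b1 hb1]
  · -- subgroups of order `p ^ a`
    intro P hP
    have hPle : P ≤ Kb := by
      intro y hy
      obtain ⟨g, rfl⟩ := hsurj y
      rw [hKbmem]
      have h1 : (π g) ^ (p ^ a) = 1 := by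
        have := pow_card_eq_one' (x := (⟨π g, hy⟩ : P))
        rw [hP] at this
        have h2 := congrArg Subtype.val this
        simpa using h2
      have h2 : g ^ (p ^ a) ∈ K := by
        apply hZK
        rw [← hker, map_pow]; exact h1
      have h3 : orderOf ((QuotientGroup.mk' K) g) ∣ p ^ a := by
        apply orderOf_dvd_of_pow_eq_one
        rw [← map_pow, ← MonoidHom.mem_ker, QuotientGroup.ker_mk']; exact h2
      have h4 : orderOf ((QuotientGroup.mk' K) g) ∣ K.index := by
        have := orderOf_dvd_natCard ((QuotientGroup.mk' K) g)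
        exact this
      have h5 : (p ^ a).Coprime K.index :=
        Nat.Coprime.pow_left a ((Nat.coprime_primes hpp hq).mpr hne)
      have h6 := Nat.eq_one_of_dvd_coprimes h5 h3 h4
      rw [orderOf_eq_one_iff] at h6
      rw [← QuotientGroup.ker_mk' K, MonoidHom.mem_ker]; exact h6
    have hPeq : P = Kb := Subgroup.eq_of_le_of_card_ge hPle (by rw [ha, hP])
    rw [hPeq, hKb]
    exact hKn.map _ hsurj


/-- If `M` is normal of prime index, `y ∉ M` centralizes `D ∋ y` and `D ⊓ M ≤ Z`, then `D` is abelian. -/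
theorem comm_of_inf_le_center {M D : Subgroup G} (hMn : M.Normal) (hMp : M.index.Prime) {y : G}
    (hy : y ∉ M) (hyD : ∀ d ∈ D, d * y = y * d) (hyD' : y ∈ D)
    (hinf : D ⊓ M ≤ Subgroup.center G) : ∀ a ∈ D, ∀ b ∈ D, a * b = b * a := by
  haveI : Fact M.index.Prime := ⟨hMp⟩
  have hc : Nat.card (G ⧸ M) = M.index := rfl
  have hy1 : (QuotientGroup.mk' M) y ≠ 1 := by
    intro h1
    apply hy
    rw [← QuotientGroup.ker_mk' M, MonoidHom.mem_ker]; exact h1
  have hdec : ∀ a ∈ D, ∃ (n : ℤ) (z : G), a = y ^ n * z ∧ z ∈ Subgroup.center G := by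
    intro a ha
    have hmem : (QuotientGroup.mk' M) a ∈ Subgroup.zpowers ((QuotientGroup.mk' M) y) :=
      mem_zpowers_of_prime_card hc hy1
    obtain ⟨n, hn⟩ := Subgroup.mem_zpowers_iff.mp hmem
    refine ⟨n, (y ^ n)⁻¹ * a, by group, ?_⟩
    apply hinf
    have h2 : (y ^ n)⁻¹ * a ∈ M := by
      rw [← QuotientGroup.ker_mk' M, MonoidHom.mem_ker, map_mul, map_inv, map_zpow, hn, inv_mul_cancel]
    exact ⟨D.mul_mem (D.inv_mem (D.zpow_mem hyD' _)) ha, h2⟩
  intro a ha b hb
  obtain ⟨n, z, rfl, hz⟩ := hdec a ha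
  obtain ⟨m, w, rfl, hw⟩ := hdec b hb
  have hz' := Subgroup.mem_center_iff.mp hz
  have hw' := Subgroup.mem_center_iff.mp hw
  have h1 : y ^ n * y ^ m = y ^ m * y ^ n := (Commute.refl y).zpow_zpow n m
  calc y ^ n * z * (y ^ m * w) = y ^ n * (z * y ^ m) * w := by group
    _ = y ^ n * (y ^ m * z) * w := by rw [hz']
    _ = (y ^ n * y ^ m) * (z * w) := by group
    _ = (y ^ m * y ^ n) * (w * z) := by rw [h1, hz']
    _ = y ^ m * (y ^ n * w) * z := by group
    _ = y ^ m * (w * y ^ n) * z := by rw [hw']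
    _ = y ^ m * w * (y ^ n * z) := by group

/-- An abelian normal centralizer forces the non-normal centralizers to be abelian. -/
theorem abelian_of_abelian_normal (hmax : HMax G) {x₁ x₀ : G} (hx₁ : x₁ ∉ Subgroup.center G)
    (hx₀ : x₀ ∉ Subgroup.center G) (hMn : (C x₁).Normal)
    (hMab : ∀ a ∈ (C x₁), ∀ b ∈ (C x₁), a * b = b * a) (hnn : ¬ (C x₀).Normal) :
    ∀ a ∈ (C x₀), ∀ b ∈ (C x₀), a * b = b * a := by
  have hMp : (C x₁).index.Prime := S4071.index_prime_of_isCoatom _ (hmax x₁ hx₁)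
  have hx₀M : x₀ ∉ (C x₁) := by
    intro h
    have hle : (C x₁) ≤ (C x₀) := by
      intro a ha
      exact mem_C.mpr (hMab a ha x₀ h)
    have := C_eq_of_le hmax hx₁ hx₀ hle
    rw [← this] at hnn
    exact hnn hMn
  have hinf : (C x₀) ⊓ (C x₁) ≤ Subgroup.center G := by
    rintro z ⟨hz0, hz1⟩
    by_contra hzZ
    have hle : (C x₁) ≤ (C z) := by
      intro a ha
      exact mem_C.mpr (hMab a ha z hz1)
    have heq := C_eq_of_le hmax hx₁ hzZ hle
    apply hx₀M
    rw [heq]
    exact mem_C_comm.mp hz0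
  exact comm_of_inf_le_center hMn hMp hx₀M (fun d hd => mem_C.mp hd) (mem_C.mpr rfl) hinf

/-- A noncentral element has a noncentral primary power with the same centralizer. -/
theorem exists_primary (hmax : HMax G) {x : G} (hx : x ∉ Subgroup.center G) :
    ∃ y ∈ Subgroup.zpowers x, y ∉ Subgroup.center G ∧ (C x) = (C y) ∧
      ∃ t : ℕ, t.Prime ∧ ∃ i : ℕ, y ^ (t ^ i) = 1 := by
  by_contra hno
  apply hx
  apply mem_of_primary_powers
  intro a ha r hr ⟨k, hk⟩
  by_contra haZ
  exact hno ⟨a, ha, haZ, C_eq_of_le hmax hx haZ (S4314.C_le_of_mem_zpowers ha), r, hr, k, hk⟩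

theorem C_prime_power_part (hmax : HMax G)
    (hnab : ∀ x : G, x ∉ Subgroup.center G → ¬ ∀ a ∈ (C x), ∀ b ∈ (C x), a * b = b * a)
    {v : G} (hv : v ∉ Subgroup.center G) {r k : ℕ} (hr : r.Prime) (hvk : v ^ (r ^ k) = 1) :
    ∀ w ∈ (C v), ∃ j : ℕ, w ^ (r ^ j) ∈ Subgroup.center G := by
  intro w hw
  haveI : Fact r.Prime := ⟨hr⟩
  obtain ⟨a, b, hab, ha, hb, ⟨j, hj⟩, hbc⟩ := S4314.exists_decomp w r
  have hzle : Subgroup.zpowers w ≤ (C v) := Subgroup.zpowers_le.mpr hw
  have hbZ : b ∈ Subgroup.center G := by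
    apply mem_of_primary_powers
    intro c hc s hs ⟨i, hi⟩
    by_contra hcZ
    have hcb : orderOf c ∣ orderOf b := orderOf_dvd_of_mem_zpowers hc
    have hcs : orderOf c ∣ s ^ i := orderOf_dvd_of_pow_eq_one hi
    have hvr : orderOf v ∣ r ^ k := orderOf_dvd_of_pow_eq_one hvk
    by_cases hsr : s = r
    · subst hsr
      have h1 : (orderOf b).Coprime (s ^ i) := Nat.Coprime.pow_right i hbc
      have h2 := Nat.eq_one_of_dvd_coprimes h1 hcb hcs
      rw [orderOf_eq_one_iff] at h2
      rw [h2] at hcZ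
      exact hcZ (Subgroup.one_mem _)
    · have h1 : (s ^ i).Coprime (r ^ k) :=
        Nat.Coprime.pow _ _ ((Nat.coprime_primes hs hr).mpr hsr)
      have h2 : (orderOf c).Coprime (orderOf v) := Nat.Coprime.of_dvd hcs hvr h1 
      have hcC : c ∈ (C v) := hzle ((Subgroup.zpowers_le.mpr hb) hc)
      exact hnab c hcZ (mulComm_of_coprime hmax (mem_C.mp hcC) h2 hcZ hv)
  refine ⟨j, ?_⟩
  have hcomm : Commute a b := by
    obtain ⟨m, rfl⟩ := Subgroup.mem_zpowers_iff.mp ha
    obtain ⟨n, rfl⟩ := Subgroup.mem_zpowers_iff.mp hb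
    exact (Commute.refl w).zpow_zpow _ _
  rw [hab, hcomm.mul_pow, orderOf_dvd_iff_pow_eq_one.mp hj, one_mul]
  exact Subgroup.pow_mem _ hbZ _

/-- In the remaining case, centralizers are never normal. -/
theorem C_not_normal (hmax : HMax G)
    (hnab : ∀ x : G, x ∉ Subgroup.center G → ¬ ∀ a ∈ (C x), ∀ b ∈ (C x), a * b = b * a)
    {x₀ : G} (hx₀ : x₀ ∉ Subgroup.center G) (hnn : ¬ (C x₀).Normal)
    {v : G} (hv : v ∉ Subgroup.center G) {r k : ℕ} (hr : r.Prime) (hvk : v ^ (r ^ k) = 1) :
    ¬ (C v).Normal := by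
  intro hMn
  have hMp : (C v).index.Prime := S4071.index_prime_of_isCoatom _ (hmax v hv)
  haveI : Fact r.Prime := ⟨hr⟩
  obtain ⟨y, -, hyZ, hxy, t, ht, i, hi⟩ := exists_primary hmax hx₀
  rw [hxy] at hnn
  have hDM : ¬ (C y) ≤ (C v) := by
    intro hle
    have := C_eq_of_le hmax hyZ hv hle
    rw [this] at hnn
    exact hnn hMn
  by_cases htr : t = r
  · subst htr
    have hD := C_prime_power_part hmax hnab hyZ ht hi
    have hM := C_prime_power_part hmax hnab hv ht hvk
    by_cases hs : (C v).index = t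
    · apply hnn
      apply normal_of_pgroup_mod_center t _ (hmax y hyZ)
      intro g
      have h1 : g ^ (C v).index ∈ (C v) := Subgroup.pow_index_mem _ _
      rw [hs] at h1
      obtain ⟨j, hj⟩ := hM _ h1
      refine ⟨1 + j, ?_⟩
      rw [pow_add, pow_one, pow_mul]
      exact hj
    · apply hDM
      intro w hw
      obtain ⟨j, hj⟩ := hD w hw
      have h3 : orderOf ((QuotientGroup.mk' (C v)) w) ∣ t ^ j := by
        apply orderOf_dvd_of_pow_eq_one
        rw [← map_pow, ← MonoidHom.mem_ker, QuotientGroup.ker_mk']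
        exact (Subgroup.center_le_centralizer _) hj
      have h4 : orderOf ((QuotientGroup.mk' (C v)) w) ∣ (C v).index := orderOf_dvd_natCard _
      have h5 : (t ^ j).Coprime (C v).index :=
        Nat.Coprime.pow_left j ((Nat.coprime_primes ht hMp).mpr (Ne.symm hs))
      have h6 := Nat.eq_one_of_dvd_coprimes h5 h3 h4
      rw [orderOf_eq_one_iff] at h6
      rw [← QuotientGroup.ker_mk' (C v), MonoidHom.mem_ker]; exact h6
  · have hD := C_prime_power_part hmax hnab hyZ ht hi
    have hM := C_prime_power_part hmax hnab hv hr hvk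
    have hinf : (C y) ⊓ (C v) ≤ Subgroup.center G := by
      rintro w ⟨hw1, hw2⟩
      obtain ⟨j1, hj1⟩ := hD w hw1
      obtain ⟨j2, hj2⟩ := hM w hw2
      have h3 : orderOf ((QuotientGroup.mk' (Subgroup.center G)) w) ∣ t ^ j1 := by
        apply orderOf_dvd_of_pow_eq_one
        rw [← map_pow, ← MonoidHom.mem_ker, QuotientGroup.ker_mk']; exact hj1
      have h4 : orderOf ((QuotientGroup.mk' (Subgroup.center G)) w) ∣ r ^ j2 := by
        apply orderOf_dvd_of_pow_eq_one
        rw [← map_pow, ← MonoidHom.mem_ker, QuotientGroup.ker_mk']; exact hj2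
      have h5 : (t ^ j1).Coprime (r ^ j2) := Nat.Coprime.pow _ _ ((Nat.coprime_primes ht hr).mpr htr)
      have h6 := Nat.eq_one_of_dvd_coprimes h5 h3 h4
      rw [orderOf_eq_one_iff] at h6
      rw [← QuotientGroup.ker_mk' (Subgroup.center G), MonoidHom.mem_ker]; exact h6
    have hyM : y ∉ (C v) := fun h => hyZ (hinf ⟨mem_C.mpr rfl, h⟩)
    exact hnab y hyZ (comm_of_inf_le_center hMn hMp hyM (fun d hd => mem_C.mp hd) (mem_C.mpr rfl) hinf)

/-- `C(v)/Z(G)` is a Sylow subgroup of `G/Z(G)`. -/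
theorem exists_sylow (hmax : HMax G)
    (hnab : ∀ x : G, x ∉ Subgroup.center G → ¬ ∀ a ∈ (C x), ∀ b ∈ (C x), a * b = b * a)
    {x₀ : G} (hx₀ : x₀ ∉ Subgroup.center G) (hnn : ¬ (C x₀).Normal)
    {v : G} (hv : v ∉ Subgroup.center G) {r k : ℕ} [hr : Fact r.Prime] (hvk : v ^ (r ^ k) = 1) :
    ∃ S : Sylow r (G ⧸ Subgroup.center G),
      (S : Subgroup (G ⧸ Subgroup.center G)).comap (QuotientGroup.mk' (Subgroup.center G)) = (C v) := by
  have hM := C_prime_power_part hmax hnab hv hr.out hvk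
  have hn := C_not_normal hmax hnab hx₀ hnn hv hr.out hvk
  set π := QuotientGroup.mk' (Subgroup.center G) with hπ
  have hker : ∀ g : G, π g = 1 ↔ g ∈ Subgroup.center G := by
    intro g
    rw [← MonoidHom.mem_ker, hπ, QuotientGroup.ker_mk']
  have hsurj : Function.Surjective π := QuotientGroup.mk'_surjective (Subgroup.center G)
  have hP : IsPGroup r ((C v).map π) := by
    rintro ⟨y, g, hg, rfl⟩
    obtain ⟨j, hj⟩ := hM g hg
    refine ⟨j, ?_⟩
    apply Subtype.ext
    simp only [Subgroup.coe_pow, OneMemClass.coe_one]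
    rw [← map_pow, hker]; exact hj
  obtain ⟨S, hS⟩ := hP.exists_le_sylow
  refine ⟨S, ?_⟩
  have hle : (C v) ≤ (S : Subgroup (G ⧸ Subgroup.center G)).comap π := by
    intro g hg
    exact hS ⟨g, hg, rfl⟩
  by_contra hne
  have htop := (hmax v hv).2 _ (lt_of_le_of_ne hle (Ne.symm hne))
  apply hn
  apply normal_of_pgroup_mod_center r _ (hmax v hv)
  intro g
  have hg : g ∈ (S : Subgroup (G ⧸ Subgroup.center G)).comap π := by rw [htop]; trivial
  obtain ⟨j, hj⟩ := S.isPGroup' ⟨π g, hg⟩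
  refine ⟨j, ?_⟩
  rw [← hker, map_pow]
  have := congrArg (fun w : (S : Subgroup (G ⧸ Subgroup.center G)) =>
    (w : G ⧸ Subgroup.center G)) hj
  simpa using this


theorem card_le_of_subset_range {X Y : Type*} [Finite X] [Finite Y] (f : X → Y) (s : Set Y)
    (h : s ⊆ Set.range f) : Nat.card s ≤ Nat.card X := by
  calc Nat.card s ≤ Nat.card (Set.range f) := Nat.card_mono (Set.toFinite _) h
    _ = Nat.card (f '' Set.univ) := by rw [Set.image_univ]
    _ ≤ Nat.card (Set.univ : Set X) := Nat.card_image_le Set.finite_univ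
    _ = Nat.card X := Nat.card_univ

/-- Elements whose centralizer is the centralizer of a noncentral `r`-element. -/
def Er (G : Type*) [Group G] (r : ℕ) : Set G :=
  {x | x ∉ Subgroup.center G ∧ ∃ v : G, v ∉ Subgroup.center G ∧ (∃ k : ℕ, v ^ (r ^ k) = 1) ∧
    Subgroup.centralizer ({x} : Set G) = Subgroup.centralizer ({v} : Set G)}

/-- `r^2` divides the index of the center in `C(v)`. -/
theorem sq_le_index_center (hmax : HMax G)
    (hnab : ∀ x : G, x ∉ Subgroup.center G → ¬ ∀ a ∈ (C x), ∀ b ∈ (C x), a * b = b * a)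
    {v : G} (hv : v ∉ Subgroup.center G) {r k : ℕ} [hr : Fact r.Prime] (hvk : v ^ (r ^ k) = 1) :
    r ^ 2 ≤ (Subgroup.center (C v)).index := by
  have hM := C_prime_power_part hmax hnab hv hr.out hvk
  set A := Subgroup.center ↥(C v) with hA
  have hP : IsPGroup r (↥(C v) ⧸ A) := by
    intro y
    obtain ⟨w, rfl⟩ := QuotientGroup.mk'_surjective A y
    obtain ⟨j, hj⟩ := hM w.1 w.2
    refine ⟨j, ?_⟩
    rw [← map_pow, ← MonoidHom.mem_ker, QuotientGroup.ker_mk', hA, Subgroup.mem_center_iff]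
    intro m
    apply Subtype.ext
    have := (Subgroup.mem_center_iff.mp hj) m.1
    exact this
  obtain ⟨n, hn⟩ := IsPGroup.iff_card.mp hP
  have hnc : ∀ a b : ↥(C v), a * b = b * a → True := fun _ _ _ => trivial
  have hnot : ¬ ∀ a b : ↥(C v), a * b = b * a := by
    intro h
    apply hnab v hv
    intro a ha b hb
    exact congrArg Subtype.val (h ⟨a, ha⟩ ⟨b, hb⟩)
  have hi : A.index = r ^ n := by rw [Subgroup.index_eq_card]; exact hn
  rw [hi]
  apply Nat.pow_le_pow_right hr.out.pos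
  by_contra hn2
  have hcyc : IsCyclic (↥(C v) ⧸ A) := by
    have : n = 0 ∨ n = 1 := by omega
    rcases this with rfl | rfl
    · rw [pow_zero] at hn
      haveI : Subsingleton (↥(C v) ⧸ A) := (Nat.card_eq_one_iff_unique.mp hn).1
      infer_instance
    · rw [pow_one] at hn
      exact isCyclic_of_prime_card hn
  apply hnot
  exact commutative_of_cyclic_center_quotient (QuotientGroup.mk' A) (by rw [QuotientGroup.ker_mk'])

/-- Counting `Er`. -/
theorem card_Er_mul_sq_le (hmax : HMax G)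
    (hnab : ∀ x : G, x ∉ Subgroup.center G → ¬ ∀ a ∈ (C x), ∀ b ∈ (C x), a * b = b * a)
    {x₀ : G} (hx₀ : x₀ ∉ Subgroup.center G) (hnn : ¬ (C x₀).Normal)
    (r : ℕ) [hr : Fact r.Prime] : Nat.card (Er G r) * r ^ 2 ≤ Nat.card G := by
  by_cases hE : (Er G r).Nonempty
  swap
  · rw [Set.not_nonempty_iff_eq_empty] at hE
    rw [hE]; simp
  obtain ⟨x₁, hx₁Z, v₁, hv₁, ⟨k₁, hk₁⟩, hx₁v₁⟩ := hE
  obtain ⟨S₁, hS₁⟩ := exists_sylow hmax hnab hx₀ hnn hv₁ hk₁
  set M := (C v₁) with hM
  set A := Subgroup.center ↥M with hA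
  let f : (G ⧸ M) × ↥A → G := fun c => (Quotient.out c.1 : G) * ((c.2 : ↥M) : G) * (Quotient.out c.1 : G)⁻¹
  have hsub : Er G r ⊆ Set.range f := by
    rintro x ⟨hxZ, v, hv, ⟨k, hk⟩, hxv⟩
    obtain ⟨S, hS⟩ := exists_sylow hmax hnab hx₀ hnn hv hk
    obtain ⟨gb, hgb⟩ := MulAction.exists_smul_eq (G ⧸ Subgroup.center G) S₁ S
    obtain ⟨g, rfl⟩ := QuotientGroup.mk'_surjective (Subgroup.center G) gb
    have hmem : ∀ y : G, y ∈ (C x) ↔ g⁻¹ * y * g ∈ M := by
      intro y
      rw [hxv, ← hS, ← hS₁, ← hgb, Subgroup.mem_comap, Subgroup.mem_comap, Sylow.coe_subgroup_smul,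
        Lib.Solvable.FrobQuot.mem_conj_smul_iff']
      simp only [map_mul, map_inv]
    have hxC : x ∈ (C x) := mem_C.mpr rfl
    have haM : g⁻¹ * x * g ∈ M := (hmem x).mp hxC
    have haA : (⟨g⁻¹ * x * g, haM⟩ : ↥M) ∈ A := by
      rw [hA, Subgroup.mem_center_iff]
      rintro ⟨m, hm⟩
      apply Subtype.ext
      have h1 : g * m * g⁻¹ ∈ (C x) := by
        rw [hmem]
        have : g⁻¹ * (g * m * g⁻¹) * g = m := by group
        rwa [this]
      have h2 := mem_C.mp h1
      show m * (g⁻¹ * x * g) = (g⁻¹ * x * g) * m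
      calc m * (g⁻¹ * x * g) = g⁻¹ * ((g * m * g⁻¹) * x) * g := by group
        _ = g⁻¹ * (x * (g * m * g⁻¹)) * g := by rw [h2]
        _ = (g⁻¹ * x * g) * m := by group
    refine ⟨⟨(g : G ⧸ M), ⟨⟨g⁻¹ * x * g, haM⟩, haA⟩⟩, ?_⟩
    simp only [f]
    obtain ⟨m, hm, hgm⟩ : ∃ m ∈ M, (Quotient.out (g : G ⧸ M) : G) = g * m := by
      have h3 : ((Quotient.out (g : G ⧸ M) : G) : G ⧸ M) = (g : G ⧸ M) := QuotientGroup.out_eq' _
      have h4 := QuotientGroup.eq.mp h3
      refine ⟨_, (Subgroup.inv_mem _ h4), ?_⟩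
      group
    rw [hgm]
    have h5 : m * (g⁻¹ * x * g) = (g⁻¹ * x * g) * m := by
      have h6 := (Subgroup.mem_center_iff.mp haA) ⟨m, hm⟩
      exact congrArg Subtype.val h6
    calc g * m * (g⁻¹ * x * g) * (g * m)⁻¹ = g * (m * (g⁻¹ * x * g)) * (g * m)⁻¹ := by group
      _ = g * ((g⁻¹ * x * g) * m) * (g * m)⁻¹ := by rw [h5]
      _ = x := by group
  have h1 := card_le_of_subset_range f _ hsub
  rw [Nat.card_prod] at h1
  have h2 : Nat.card (G ⧸ M) = M.index := rfl
  have h3 : r ^ 2 ≤ A.index := sq_le_index_center hmax hnab hv₁ hk₁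
  have h4 : Nat.card A * A.index = Nat.card M := A.card_mul_index
  have h5 : Nat.card M * M.index = Nat.card G := M.card_mul_index
  rw [h2] at h1
  calc Nat.card (Er G r) * r ^ 2 ≤ (M.index * Nat.card A) * A.index := Nat.mul_le_mul h1 h3
    _ = M.index * (Nat.card A * A.index) := by ring
    _ = Nat.card G := by rw [h4, mul_comm, h5]

theorem sum_tele (N : ℕ) : ∑ n ∈ Finset.Ico 5 (N + 5), (1 / (n : ℚ) ^ 2) ≤ 1 / 4 - 1 / ((N : ℚ) + 4) := by
  induction N with
  | zero => norm_num
  | succ N ih =>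
    rw [show N + 1 + 5 = (N + 5) + 1 by ring, Finset.sum_Ico_succ_top (by omega)]
    have hx : (0 : ℚ) < (N : ℚ) + 4 := by positivity
    have h1 : (1 : ℚ) / (((N + 5 : ℕ) : ℚ)) ^ 2 ≤ 1 / ((N : ℚ) + 4) - 1 / ((N : ℚ) + 5) := by
      push_cast
      rw [div_sub_div _ _ hx.ne' (by positivity), div_le_div_iff₀ (by positivity) (by positivity)]
      nlinarith
    push_cast at ih h1 ⊢
    have h3 : (1 : ℚ) / ((N : ℚ) + 1 + 4) = 1 / ((N : ℚ) + 5) := by ring_nf
    rw [h3]
    linarith

theorem sum_inv_sq_le (R : Finset ℕ) (hR : ∀ r ∈ R, r.Prime) :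
    ∑ r ∈ R, (1 / (r : ℚ) ^ 2) ≤ 11 / 18 := by
  set R' := R.filter (fun r => 5 ≤ r) with hR'
  have hsub : R ⊆ insert 2 (insert 3 R') := by
    intro r hr
    have hp := hR r hr
    by_cases h5 : 5 ≤ r
    · simp [hR', hr, h5]
    · have h2 := hp.two_le
      have : r = 2 ∨ r = 3 ∨ r = 4 := by omega
      rcases this with rfl | rfl | rfl
      · simp
      · simp
      · exact absurd hp (by norm_num)
  have hnn : ∀ i ∈ insert 2 (insert 3 R'), i ∉ R → (0 : ℚ) ≤ 1 / (i : ℚ) ^ 2 := fun _ _ _ => by positivity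
  have h1 := Finset.sum_le_sum_of_subset_of_nonneg hsub hnn
  have h3n : (3 : ℕ) ∉ R' := by simp [hR']
  have h2n : (2 : ℕ) ∉ insert 3 R' := by simp [hR']
  rw [Finset.sum_insert h2n, Finset.sum_insert h3n] at h1
  have h4 : ∑ r ∈ R', (1 / (r : ℚ) ^ 2) ≤ 1 / 4 := by
    have hsub2 : R' ⊆ Finset.Ico 5 ((R'.sup id + 1) + 5) := by
      intro r hr
      have h5 : 5 ≤ r := (Finset.mem_filter.mp hr).2
      have h6 : r ≤ R'.sup id := Finset.le_sup (f := id) hr
      exact Finset.mem_Ico.mpr ⟨h5, by omega⟩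
    have h7 := Finset.sum_le_sum_of_subset_of_nonneg (f := fun r : ℕ => 1 / (r : ℚ) ^ 2) hsub2
      (fun _ _ _ => by positivity)
    have h8 := sum_tele (R'.sup id + 1)
    have h9 : (0 : ℚ) ≤ 1 / (((R'.sup id + 1 : ℕ) : ℚ) + 4) := by positivity
    linarith
  norm_num at h1 ⊢
  norm_num at h4
  linarith

/-- The remaining case is impossible. -/
theorem case_C (hmax : HMax G)
    (hnab : ∀ x : G, x ∉ Subgroup.center G → ¬ ∀ a ∈ (C x), ∀ b ∈ (C x), a * b = b * a)
    {x₀ : G} (hx₀ : x₀ ∉ Subgroup.center G) (hnn : ¬ (C x₀).Normal) : False := by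
  classical
  cases nonempty_fintype G
  set R := (Nat.card G).primeFactors with hR
  have hRp : ∀ r ∈ R, r.Prime := fun r hr => (Nat.mem_primeFactors.mp hr).1
  let Ef : ℕ → Finset G := fun r => (Set.toFinite (Er G r)).toFinset
  have hEf : ∀ r : ℕ, (Ef r).card = Nat.card (Er G r) := by
    intro r
    rw [Nat.card_coe_set_eq, Set.ncard_eq_toFinset_card _ (Set.toFinite _)]
  have hcover : (Finset.univ.filter (fun x : G => x ∉ Subgroup.center G)) ⊆ R.biUnion Ef := by
    intro x hx
    have hxZ := (Finset.mem_filter.mp hx).2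
    obtain ⟨y, -, hyZ, hxy, t, ht, i, hi⟩ := exists_primary hmax hxZ
    rw [Finset.mem_biUnion]
    refine ⟨t, ?_, ?_⟩
    · rw [hR, Nat.mem_primeFactors]
      refine ⟨ht, ?_, Nat.card_pos.ne'⟩
      have hy1 : y ≠ 1 := fun h => hyZ (h ▸ Subgroup.one_mem _)
      have h1 : orderOf y ∣ t ^ i := orderOf_dvd_of_pow_eq_one hi
      obtain ⟨j, -, hj⟩ := (Nat.dvd_prime_pow ht).mp h1
      have hj0 : j ≠ 0 := by
        rintro rfl
        rw [pow_zero, orderOf_eq_one_iff] at hj
        exact hy1 hj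
      have h2 : t ∣ orderOf y := by rw [hj]; exact dvd_pow_self t hj0
      exact h2.trans (orderOf_dvd_natCard y)
    · simp only [Ef, Set.Finite.mem_toFinset]
      exact ⟨hxZ, y, hyZ, ⟨i, hi⟩, hxy⟩
  have hcard1 : (Finset.univ.filter (fun x : G => x ∉ Subgroup.center G)).card +
      Nat.card (Subgroup.center G) = Nat.card G := by
    have h1 := Finset.card_filter_add_card_filter_not (s := (Finset.univ : Finset G)) (fun x : G => x ∈ Subgroup.center G)
    have h2 : (Finset.univ.filter (fun x : G => x ∈ Subgroup.center G)).card = Nat.card (Subgroup.center G) := by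
      rw [Nat.card_eq_fintype_card, Fintype.card_subtype]
    rw [Finset.card_univ, h2, ← Nat.card_eq_fintype_card] at h1
    omega
  have hsum : (((Finset.univ.filter (fun x : G => x ∉ Subgroup.center G)).card : ℕ) : ℚ) ≤
      (Nat.card G : ℚ) * (11 / 18) := by
    have h1 : (Finset.univ.filter (fun x : G => x ∉ Subgroup.center G)).card ≤ ∑ r ∈ R, (Ef r).card :=
      (Finset.card_le_card hcover).trans Finset.card_biUnion_le
    have h2 : (((∑ r ∈ R, (Ef r).card : ℕ)) : ℚ) ≤ ∑ r ∈ R, (Nat.card G : ℚ) * (1 / (r : ℚ) ^ 2) := by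
      push_cast
      apply Finset.sum_le_sum
      intro r hr
      haveI : Fact r.Prime := ⟨hRp r hr⟩
      have h3 := card_Er_mul_sq_le hmax hnab hx₀ hnn r
      rw [← hEf] at h3
      have hrpos : (0 : ℚ) < (r : ℚ) ^ 2 := by
        have := (hRp r hr).pos
        positivity
      have h4 : ((Ef r).card : ℚ) * (r : ℚ) ^ 2 ≤ (Nat.card G : ℚ) := by exact_mod_cast h3
      rw [mul_one_div, le_div_iff₀ hrpos]
      exact h4
    rw [← Finset.mul_sum] at h2
    have h5 := sum_inv_sq_le R hRp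
    have h6 : (0 : ℚ) ≤ (Nat.card G : ℚ) := by positivity
    calc (((Finset.univ.filter (fun x : G => x ∉ Subgroup.center G)).card : ℕ) : ℚ)
        ≤ ((∑ r ∈ R, (Ef r).card : ℕ) : ℚ) := by exact_mod_cast h1
      _ ≤ _ := h2
      _ ≤ _ := mul_le_mul_of_nonneg_left h5 h6
  -- index of the center
  have hZindex := (Subgroup.center G).card_mul_index
  set i := (Subgroup.center G).index with hi
  have hi1 : i ≠ 1 := by
    intro h
    have := Subgroup.index_eq_one.mp h
    apply hx₀
    rw [this]; trivial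
  have hi0 : i ≠ 0 := Subgroup.index_ne_zero_of_finite
  have hZpos : (0 : ℚ) < (Nat.card (Subgroup.center G) : ℚ) := by
    have : 0 < Nat.card (Subgroup.center G) := Nat.card_pos
    exact_mod_cast this
  have hi2 : 7 * i ≤ 18 := by
    have h1 : ((Finset.univ.filter (fun x : G => x ∉ Subgroup.center G)).card : ℚ) +
        (Nat.card (Subgroup.center G) : ℚ) = (Nat.card G : ℚ) := by exact_mod_cast hcard1
    have h2 : (Nat.card (Subgroup.center G) : ℚ) * (i : ℚ) = (Nat.card G : ℚ) := by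
      exact_mod_cast hZindex
    have h3 : (Nat.card (Subgroup.center G) : ℚ) * (7 * (i : ℚ)) ≤
        (Nat.card (Subgroup.center G) : ℚ) * 18 := by
      rw [← h2] at hsum h1
      nlinarith
    have h4 := le_of_mul_le_mul_left h3 hZpos
    exact_mod_cast h4
  have hi3 : i = 2 := by omega
  have hcardQ : Nat.card (G ⧸ Subgroup.center G) = 2 := hi3
  haveI : IsCyclic (G ⧸ Subgroup.center G) := isCyclic_of_prime_card hcardQ
  have hcomm := commutative_of_cyclic_center_quotient (QuotientGroup.mk' (Subgroup.center G))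
    (by rw [QuotientGroup.ker_mk'])
  apply hx₀
  rw [Subgroup.mem_center_iff]
  intro g
  exact hcomm g x₀

end Lemmas

/-- The main theorem. -/
theorem result {G : Type*} [Group G] [Finite G] (hna : ¬ IsMulCommutative G)
    (h : ∀ x : G, x ∉ Subgroup.center G → IsCoatom (Subgroup.centralizer ({x} : Set G))) :
    (∃ p : ℕ, p.Prime ∧ Cfsg.IsElementaryAbelian p (⊤ : Subgroup (G ⧸ Subgroup.center G))) ∨
    (¬ IsMulCommutative (G ⧸ Subgroup.center G) ∧ (∀ H : Subgroup (G ⧸ Subgroup.center G), H ≠ ⊤ → IsMulCommutative ↥H) ∧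
      ∃ p q a : ℕ, p.Prime ∧ q.Prime ∧ p ≠ q ∧ Nat.card (G ⧸ Subgroup.center G) = p ^ a * q ∧
        ∀ P : Subgroup (G ⧸ Subgroup.center G), Nat.card ↥P = p ^ a → P.Normal) := by
  have hex : ∃ x : G, x ∉ Subgroup.center G := by
    by_contra hall
    push Not at hall
    apply hna
    refine ⟨⟨fun a b => ?_⟩⟩
    exact (Subgroup.mem_center_iff.mp (hall a) b).symm
  by_cases hall : ∀ x : G, x ∉ Subgroup.center G → (Subgroup.centralizer ({x} : Set G)).Normal
  · exact Or.inl (case_all_normal h hall hex)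
  push Not at hall
  obtain ⟨x₀, hx₀, hnn⟩ := hall
  right
  by_cases hab0 : ∀ a ∈ Subgroup.centralizer ({x₀} : Set G), ∀ b ∈ Subgroup.centralizer ({x₀} : Set G), a * b = b * a
  · exact case_A h hx₀ hab0 hnn
  by_cases hex2 : ∃ x : G, x ∉ Subgroup.center G ∧
      ∀ a ∈ Subgroup.centralizer ({x} : Set G), ∀ b ∈ Subgroup.centralizer ({x} : Set G), a * b = b * a
  · obtain ⟨x₁, hx₁, hab1⟩ := hex2
    by_cases hn1 : (Subgroup.centralizer ({x₁} : Set G)).Normal
    · exact absurd (abelian_of_abelian_normal h hx₁ hx₀ hn1 hab1 hnn) hab0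
    · exact case_A h hx₁ hab1 hn1
  · exfalso
    push Not at hex2
    refine case_C h ?_ hx₀ hnn
    intro x hx
    push Not
    exact hex2 x hx

end Cfsg.Agent.S3904
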