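import Cfsg.Statements.S0393
import Mathlib
import Cfsg.Agent.Lib.Sporadic.LeechAut
-- import your own Cfsg.Agent.* helpers here

set_option autoImplicit false
open Cfsg

namespace Cfsg.Agent.S0393

open Cfsg.Agent.Lib.Compute.Golay Cfsg.Agent.Lib.Sporadic.LeechBasic
  Cfsg.Agent.Lib.Sporadic.LeechNorm Cfsg.Agent.Lib.Sporadic.LeechFacts Cfsg.Agent.Lib.Sporadic.LeechAut

/-- Vectors with all coordinates of the same parity. -/
def U : AddSubgroup (GolayPt → ℤ) where
  carrier := {x | ∀ i, x i % 2 = x none % 2}
  zero_mem' := by simp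
  add_mem' := by
    intro x y hx hy i
    have h1 := hx i
    have h2 := hy i
    simp only [Pi.add_apply]
    omega
  neg_mem' := by
    intro x hx i
    have h1 := hx i
    simp only [Pi.neg_apply]
    omega

/-- Hom with kernel `U`. -/
def f1 : (GolayPt → ℤ) →+ (ZMod 23 → ZMod 2) where
  toFun x := fun t => ((x (some t) - x none : ℤ) : ZMod 2)
  map_zero' := by funext t; simp
  map_add' := by
    intro x y
    funext t
    simp only [Pi.add_apply]
    push_cast
    ring

theorem f1_ker : f1.ker = U := by
  ext x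
  rw [AddMonoidHom.mem_ker]
  constructor
  · intro h i
    cases i with
    | none => rfl
    | some t =>
      have := congrFun h t
      change ((x (some t) - x none : ℤ) : ZMod 2) = 0 at this
      rw [ZMod.intCast_zmod_eq_zero_iff_dvd] at this
      push_cast at this
      omega
  · intro h
    funext t
    change ((x (some t) - x none : ℤ) : ZMod 2) = 0
    rw [ZMod.intCast_zmod_eq_zero_iff_dvd]
    have := h (some t)
    push_cast
    omega

theorem f1_surj : Function.Surjective f1 := by
  intro g
  refine ⟨fun i => match i with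
    | none => 0
    | some t => lift01 g t, ?_⟩
  funext t
  change ((lift01 g t - 0 : ℤ) : ZMod 2) = g t
  rw [sub_zero, lift01_cast]

theorem index_U : U.index = 2 ^ 23 := by
  rw [← f1_ker, AddSubgroup.index_ker, AddMonoidHom.range_eq_top.mpr f1_surj]
  rw [Nat.card_congr (AddSubgroup.topEquiv : (⊤ : AddSubgroup (ZMod 23 → ZMod 2)) ≃+ _).toEquiv]
  simp [Nat.card_eq_fintype_card, ZMod.card]

/-- Vectors of uniform parity with word in the code. -/
def V : AddSubgroup (GolayPt → ℤ) where
  carrier := {x | (∀ i, x i % 2 = x none % 2) ∧ wd x ∈ (golayCode : Set (GolayPt → ZMod 2))}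
  zero_mem' := by
    refine ⟨by simp, ?_⟩
    have : wd (0 : GolayPt → ℤ) = 0 := by
      funext i; simp [wd]
    rw [this]
    exact golayCode.zero_mem
  add_mem' := by
    rintro x y ⟨hx, hx'⟩ ⟨hy, hy'⟩
    refine ⟨U.add_mem hx hy, ?_⟩
    have h1 : (1 : GolayPt → ZMod 2) ∈ golayCode := Submodule.subset_span (Or.inr rfl)
    by_cases hc : x none % 2 = 1 ∧ y none % 2 = 1
    · have : wd (x + y) = wd x + wd y + 1 := by
        funext i
        have h1 := hx i
        have h2 := hy i
        simp only [wd, Pi.add_apply, Pi.one_apply]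
        have e : (x i + y i) / 2 = x i / 2 + y i / 2 + 1 := by omega
        rw [e]; push_cast; rfl
      rw [this]
      exact golayCode.add_mem (golayCode.add_mem hx' hy') h1
    · have : wd (x + y) = wd x + wd y := by
        funext i
        have h1 := hx i
        have h2 := hy i
        simp only [wd, Pi.add_apply]
        have e : (x i + y i) / 2 = x i / 2 + y i / 2 := by omega
        rw [e]; push_cast; rfl
      rw [this]
      exact golayCode.add_mem hx' hy'
  neg_mem' := by
    rintro x ⟨hx, hx'⟩
    refine ⟨U.neg_mem hx, ?_⟩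
    have h1 : (1 : GolayPt → ZMod 2) ∈ golayCode := Submodule.subset_span (Or.inr rfl)
    by_cases hc : x none % 2 = 1
    · have : wd (-x) = wd x + 1 := by
        funext i
        have h1 := hx i
        simp only [wd, Pi.neg_apply, Pi.add_apply, Pi.one_apply]
        have e : (-x i) / 2 = -(x i / 2) - 1 := by omega
        rw [e]; push_cast
        have : ∀ a : ZMod 2, -a - 1 = a + 1 := by decide
        exact this _
      rw [this]
      exact golayCode.add_mem hx' h1
    · have : wd (-x) = wd x := by
        funext i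
        have h1 := hx i
        simp only [wd, Pi.neg_apply]
        have e : (-x i) / 2 = -(x i / 2) := by omega
        rw [e]; push_cast
        exact (neg_eq_of_add_eq_zero_left (by
          have : ∀ a : ZMod 2, a + a = 0 := by decide
          exact this _))
      rw [this]; exact hx'

theorem V_le_U : V ≤ U := fun _ h => h.1

/-- Hom from `U` with kernel `V`. -/
def f2 : U →+ ((GolayPt → ZMod 2) ⧸ (golayCode : Submodule (ZMod 2) (GolayPt → ZMod 2))) where
  toFun x := Submodule.Quotient.mk (wd (x : GolayPt → ℤ))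
  map_zero' := by
    have : wd ((0 : U) : GolayPt → ℤ) = 0 := by
      funext i; simp [wd]
    rw [this]; rfl
  map_add' := by
    rintro ⟨x, hx⟩ ⟨y, hy⟩
    rw [← Submodule.Quotient.mk_add, Submodule.Quotient.eq]
    have h1 : (1 : GolayPt → ZMod 2) ∈ golayCode := Submodule.subset_span (Or.inr rfl)
    change wd (x + y) - (wd x + wd y) ∈ golayCode
    by_cases hc : x none % 2 = 1 ∧ y none % 2 = 1
    · have : wd (x + y) = wd x + wd y + 1 := by
        funext i
        have h1 := hx i
        have h2 := hy i
        simp only [wd, Pi.add_apply, Pi.one_apply]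
        have e : (x i + y i) / 2 = x i / 2 + y i / 2 + 1 := by omega
        rw [e]; push_cast; rfl
      rw [this, add_sub_cancel_left]
      exact h1
    · have : wd (x + y) = wd x + wd y := by
        funext i
        have h1 := hx i
        have h2 := hy i
        simp only [wd, Pi.add_apply]
        have e : (x i + y i) / 2 = x i / 2 + y i / 2 := by omega
        rw [e]; push_cast; rfl
      rw [this, sub_self]
      exact golayCode.zero_mem

theorem f2_ker : f2.ker = V.addSubgroupOf U := by
  ext ⟨x, hx⟩
  rw [AddMonoidHom.mem_ker, AddSubgroup.mem_addSubgroupOf]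
  constructor
  · intro h
    refine ⟨hx, ?_⟩
    exact (Submodule.Quotient.mk_eq_zero _).mp h
  · rintro ⟨_, h⟩
    exact (Submodule.Quotient.mk_eq_zero _).mpr h

theorem f2_surj : Function.Surjective f2 := by
  intro q
  obtain ⟨w, rfl⟩ := Submodule.Quotient.mk_surjective _ q
  refine ⟨⟨fun i => 2 * lift01 w i, fun i => by
    show (2 * lift01 w i) % 2 = (2 * lift01 w none) % 2
    omega⟩, ?_⟩
  have : wd (fun i => 2 * lift01 w i) = w := by
    funext i
    simp only [wd]
    have e : (2 * lift01 w i) / 2 = lift01 w i := by omega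
    rw [e, lift01_cast]
  change Submodule.Quotient.mk (wd (fun i => 2 * lift01 w i)) = _
  rw [this]

theorem card_code : Nat.card golayCode = 4096 := by
  classical
  have h1 : ((golayCode : Submodule (ZMod 2) (GolayPt → ZMod 2)) : Set (GolayPt → ZMod 2)) =
      ↑((codeMasks.toFinset).image maskWord) := by
    ext w
    rw [SetLike.mem_coe, mem_golayCode_iff, Finset.coe_image, Set.mem_image]
    constructor
    · rintro ⟨m, hm, rfl⟩
      exact ⟨m, by simpa using hm, rfl⟩
    · rintro ⟨m, hm, rfl⟩
      exact ⟨m, by simpa using hm, rfl⟩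
  have h2 : Nat.card golayCode = ((golayCode : Submodule (ZMod 2) (GolayPt → ZMod 2)) : Set (GolayPt → ZMod 2)).ncard := by
    rw [Set.ncard_eq_toFinset_card']
    simp [Nat.card_eq_fintype_card]
  rw [h2, h1, Set.ncard_coe_finset, Finset.card_image_of_injOn,
    List.toFinset_card_of_nodup codeMasks_nodup, codeMasks_length]
  intro a ha b hb h
  simp only [Finset.mem_coe, List.mem_toFinset] at ha hb
  exact maskWord_injOn (codeMasks_lt a ha) (codeMasks_lt b hb) h

theorem card_quot : Nat.card ((GolayPt → ZMod 2) ⧸ (golayCode : Submodule (ZMod 2) (GolayPt → ZMod 2))) = 2 ^ 12 := by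
  have h := Submodule.card_eq_card_quotient_mul_card (golayCode : Submodule (ZMod 2) (GolayPt → ZMod 2))
  rw [card_code] at h
  have h2 : Nat.card (GolayPt → ZMod 2) = 2 ^ 24 := by
    simp [Nat.card_eq_fintype_card, ZMod.card]
  rw [h2] at h
  omega

theorem relIndex_V : V.relIndex U = 2 ^ 12 := by
  unfold AddSubgroup.relIndex
  rw [← f2_ker, AddSubgroup.index_ker, AddMonoidHom.range_eq_top.mpr f2_surj]
  rw [Nat.card_congr (AddSubgroup.topEquiv : (⊤ : AddSubgroup _) ≃+ _).toEquiv]
  exact card_quot

theorem L_le_V : leechLattice ≤ V := by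
  intro x hx
  rw [mem_leechLattice_iff] at hx
  obtain ⟨m, hm, hp, hs, hw⟩ := hx
  refine ⟨fun i => by rw [hp i, hp none], hw⟩

theorem four_dvd_sum_V {x : GolayPt → ℤ} (hx : x ∈ V) : (4 : ℤ) ∣ ∑ i, x i := by
  obtain ⟨h, hw⟩ := hx
  have hr : x none % 2 = 0 ∨ x none % 2 = 1 := by omega
  have h1 : (4 : ℤ) ∣ ∑ i, (x i - (x none % 2 + 2 * lift01 (wd x) i)) := by
    apply Finset.dvd_sum
    intro i _
    exact coord_mod_four (x i) (x none % 2) hr (h i) (wd x i) rfl
  rw [Finset.sum_sub_distrib, Finset.sum_add_distrib, ← Finset.mul_sum, sum_lift01] at h1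
  have hc : ∑ i : GolayPt, (x none % 2) = 24 * (x none % 2) := by
    simp [Finset.card_univ, ZMod.card]
  rw [hc] at h1
  have h3 : ((4 : ℕ) : ℤ) ∣ ((support₂ (wd x)).card : ℤ) := by exact_mod_cast code_four_dvd _ hw
  push_cast at h3
  omega

/-- Hom from `V` with kernel the lattice. -/
def f3 : V →+ ZMod 2 where
  toFun x := (((∑ i, (x : GolayPt → ℤ) i) / 4 + (x : GolayPt → ℤ) none : ℤ) : ZMod 2)
  map_zero' := by simp
  map_add' := by
    rintro ⟨x, hx⟩ ⟨y, hy⟩
    have h1 := four_dvd_sum_V hx
    have h2 := four_dvd_sum_V hy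
    have e : (∑ i, (x + y) i) / 4 = (∑ i, x i) / 4 + (∑ i, y i) / 4 := by
      simp only [Pi.add_apply, Finset.sum_add_distrib]
      omega
    change (((∑ i, (x + y) i) / 4 + (x + y) none : ℤ) : ZMod 2) =
      (((∑ i, x i) / 4 + x none : ℤ) : ZMod 2) + (((∑ i, y i) / 4 + y none : ℤ) : ZMod 2)
    rw [e]
    simp only [Pi.add_apply]
    push_cast
    ring

theorem f3_ker : f3.ker = leechLattice.addSubgroupOf V := by
  ext ⟨x, hx⟩
  rw [AddMonoidHom.mem_ker, AddSubgroup.mem_addSubgroupOf]
  change (((∑ i, x i) / 4 + x none : ℤ) : ZMod 2) = 0 ↔ x ∈ leechLattice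
  rw [ZMod.intCast_zmod_eq_zero_iff_dvd, mem_leechLattice_iff]
  have h1 := four_dvd_sum_V hx
  push_cast
  constructor
  · intro h
    refine ⟨x none % 2, by omega, fun i => hx.1 i, by omega, hx.2⟩
  · rintro ⟨m, hm, hp, hs, _⟩
    have := hp none
    omega

theorem f3_surj : Function.Surjective f3 := by
  have hx : (Pi.single (some 0) 4 : GolayPt → ℤ) ∈ V := by
    refine ⟨fun i => ?_, ?_⟩
    · by_cases h : i = some 0
      · subst h; simp
      · simp [Pi.single_eq_of_ne h]
    · have : wd (Pi.single (some 0) 4 : GolayPt → ℤ) = 0 := by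
        funext i
        by_cases h : i = some 0
        · subst h; simp only [wd, Pi.single_eq_same, Pi.zero_apply]; decide
        · simp [wd, Pi.single_eq_of_ne h]
      rw [this]
      exact golayCode.zero_mem
  have hval : f3 ⟨_, hx⟩ = 1 := by
    change (((∑ i, (Pi.single (some 0) 4 : GolayPt → ℤ) i) / 4 + (Pi.single (some 0) 4 : GolayPt → ℤ) none : ℤ) : ZMod 2) = 1
    rw [single_sum]
    simp
  intro e
  have hsplit : ∀ e : ZMod 2, e = 0 ∨ e = 1 := by decide
  rcases hsplit e with rfl | rfl
  · exact ⟨0, map_zero _⟩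
  · exact ⟨_, hval⟩

theorem relIndex_L : leechLattice.relIndex V = 2 := by
  unfold AddSubgroup.relIndex
  rw [← f3_ker, AddSubgroup.index_ker, AddMonoidHom.range_eq_top.mpr f3_surj]
  rw [Nat.card_congr (AddSubgroup.topEquiv : (⊤ : AddSubgroup _) ≃+ _).toEquiv]
  simp [Nat.card_eq_fintype_card, ZMod.card]

/-- The lattice has index 2^36 in ℤ^24 (unimodular at scale 1/8). -/
theorem result : Cfsg.leechLattice.index = 2 ^ 36 := by
  have h1 : V.index = 2 ^ 12 * 2 ^ 23 := by
    rw [← AddSubgroup.relIndex_mul_index V_le_U, relIndex_V, index_U]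
  have h2 : leechLattice.index = 2 * (2 ^ 12 * 2 ^ 23) := by
    rw [← AddSubgroup.relIndex_mul_index L_le_V, relIndex_L, h1]
  rw [h2]
  norm_num

end Cfsg.Agent.S0393
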