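-- Statement S1582: the point stabiliser of the McLaughlin group, through the relators of the table of `U₄(3)`.
import Cfsg.Statements.S1582
import Mathlib
import Cfsg.Agent.S2090
import Cfsg.Agent.Lib.Sporadic.McLOut.Main
import Cfsg.Agent.Lib.Compute.Schur2.PresIso

set_option autoImplicit false
set_option maxRecDepth 1000000
open Cfsg

namespace Cfsg.Agent.S1582

open Cfsg.Agent.Lib.Compute.SchurLin Cfsg.Agent.Lib.Compute.PermCert Cfsg.Agent.Lib.Compute.Schur2
open Cfsg.Agent.Lib.Compute.OutChain Cfsg.Agent.Lib.Compute.OutFinal Cfsg.Agent.Lib.Compute.PermOut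
open Cfsg.Agent.Lib.Sporadic.LeechBasic Cfsg.Agent.Lib.Sporadic.LeechMat Cfsg.Agent.Lib.Sporadic.LeechKey Cfsg.Agent.Lib.Sporadic.LeechEnum
  Cfsg.Agent.Lib.Sporadic.LeechAut
  Cfsg.Agent.Lib.Sporadic.LeechA0 Cfsg.Agent.Lib.Sporadic.LeechMcLData Cfsg.Agent.Lib.Sporadic.LeechMcL
  Cfsg.Agent.Lib.Sporadic.LeechRep Cfsg.Agent.Lib.Sporadic.LeechGroups
  Cfsg.Agent.Lib.Sporadic.McLOut.Data Cfsg.Agent.Lib.Sporadic.McLOut.Check Cfsg.Agent.Lib.Sporadic.McLOut.Main

/-- An element of the stabiliser of the point `0`. -/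
def ex : Elt := ⟨nat_lit 0x3ad70518617a1b0f0d3e15cc765bd510ff1a2760300821b19c4932185550a653da0cd93ca95a486563b99278892857ee84d9694e013f1041ee0011b9185c0b929e8214a8c8661251bc57c0467bf4121683bddda0b8421cacb742938a41574b44c43a329fc2911620b96a134f9e80e0a1bc255aef48be48e057294de40e69835d43859866049c738405470280c5ae6835a4956752c23844dd1b2291305633c186184190902245d38cfa7c2cac9e6ec369c9201f339d8ae980f378eefe4993cd2943999976fb31af5f43e0dc3890dc2db98f68f38b143a54533062097353089a450e369f85d548a4982321a09c42b1f980722c1daf07aa057a2c5f036ab592c301aad84e3c202648c28168980c8022235b0203a1bcaa4b2fc2d3c846db3180b95a350229a70a91440c642c19a035889550d00437dc800, nat_lit 0x3ad70518617a1b0f0d3e15cc765bd510ff1a2760300821b19c4932185550a653da0cd93ca95a486563b99278892857ee84d9694e013f1041ee0011b9185c0b929e8214a8c8661251bc57c0467bf4121683bddda0b8421cacb742938a41574b44c43a329fc2911620b96a134f9e80e0a1bc255aef48be48e057294de40e69835d43859866049c738405470280c5ae6835a4956752c23844dd1b2291305633c186184190902245d38cfa7c2cac9e6ec369c9201f339d8ae980f378eefe4993cd2943999976fb31af5f43e0dc3890dc2db98f68f38b143a54533062097353089a450e369f85d548a4982321a09c42b1f980722c1daf07aa057a2c5f036ab592c301aad84e3c202648c28168980c8022235b0203a1bcaa4b2fc2d3c846db3180b95a350229a70a91440c642c19a035889550d00437dc800⟩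
/-- An element of the stabiliser of the point `0`. -/
def ey : Elt := ⟨nat_lit 0x13c427b5621870ca851556a9a6e1d932360830dae7c75959be0a25b31d4442f94a08d087246241d2e3140e4a5d03c7cb94aa8a06577d8518cd249b10eea73a0c98e734b151c70640ac5d0727126092674eb75170c0c3fc5a822104848ce44a5182bc452c1464709b600253780815ae185af94c5a76835d85b83a6dcac847ad0047d30afe1e3b702adf8d45b37808ae0dbf81ce431b3d701e61161ec0b529e1b2f969c0506d536be044bb241b16427523011c16288980a3404add9a437ab995ea886855206468a707b11420b93c03341382e41388689a301517450fa8132cd2a917978de79118d48aa02cbc6003c160a5acee303ccf4506d285b705230dcdc9f40130328d491a9d2971d2a862bd1f9f8c5100fb25662b4407080661c8cd0a1106230ea087bb9de8257e9c0fe8703420caf2779ae1200, nat_lit 0x3c4c0204ebcccec857c2c020653b5068f57293d044163248169971941087e07a24d60d1d01084b3018f156a97fbe452d1071a94a906ab3d609b7ea5995071a8dd0ab6808f5009841b80c6f447300dafa274303ca46cb85dcde8122d7a764f2b848bc3e3add08d3725e12a20e9e5a4ba34a51630f4d09898686e2b50e775cb986c44181759662534220ace1435dcebe6f8ade465519d4581264aed7e1b044382a5f40b11a62f048894100880e490866ec1822db6c340ae0a248c4fe7a010a89a5b660600a64478853e3b7b928a4ef542b0868a723fa14d65a3d8e63889168aa2e7dbb19a7b5c0cc8af83630cb01911ba4c2404e09c2f0d194108c700b3684a54259798a3f0e14c7c513c1c818c1239f622b20fa31e01a499585ac72c9d0cce25bb082903752455413443f0de107681ce2952e2856a00⟩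
/-- An element of the stabiliser of the point `0`. -/
def ez : Elt := ⟨nat_lit 0x148c197e2fd66ba240b4188e78b89c01b4a16ce0cb678f1630f1207c047d4d8e9ea1479bca0ecc37235489747ba8d8e173a658ee471c19d1051a1ace4656d85db247051513e0e34348de917f92530f08009884c872b0058bb6184864c68700c60676243022690a8d56aa186885faab49214822a5828ce88b539604aed5503d68446aa78162b7b9d5cccd76220db032d2bda01e75c21dc835421112962e2195c8a46138ae3e03889f07c3d984c45d021d934a939b749f0168bbd2ae96f1a970d35e04db838031e4f4232f958f0878124c96a64097834d61b1489a1d38a08a2402c8a19d0b6c4448aa017b255a4c0e2006efe1dbd872641e94d6cdf19b0462bd218ba14c54e2b0524a13b294afb301f964167d240a03f8215620016d0816ef4333097208513501b094eb5c12103f98e24775f3e43000, nat_lit 0x148c197e2fd66ba240b4188e78b89c01b4a16ce0cb678f1630f1207c047d4d8e9ea1479bca0ecc37235489747ba8d8e173a658ee471c19d1051a1ace4656d85db247051513e0e34348de917f92530f08009884c872b0058bb6184864c68700c60676243022690a8d56aa186885faab49214822a5828ce88b539604aed5503d68446aa78162b7b9d5cccd76220db032d2bda01e75c21dc835421112962e2195c8a46138ae3e03889f07c3d984c45d021d934a939b749f0168bbd2ae96f1a970d35e04db838031e4f4232f958f0878124c96a64097834d61b1489a1d38a08a2402c8a19d0b6c4448aa017b255a4c0e2006efe1dbd872641e94d6cdf19b0462bd218ba14c54e2b0524a13b294afb301f964167d240a03f8215620016d0816ef4333097208513501b094eb5c12103f98e24775f3e43000⟩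

/-- Three elements of the stabiliser of the point `0`. -/
def es : List Elt := [ex, ey, ez]

theorem validEs : es.all (validB 9 511 275) = true := by decide +kernel

theorem siftEs : es.all (fun e => siftF 9 511 275 21 2097151 9 (lrlvA.map Prod.fst) (gt 9 511 e)) = true := by
  decide +kernel

theorem fixEs : es.all (fun e => Nat.beq (gt 9 511 e 0) 0) = true := by decide +kernel

/-- The group they generate. -/
abbrev P : Subgroup (Equiv.Perm (Fin 275)) := genGroup 9 511 275 es

theorem hmem (j : ℕ) : gPerm 9 511 275 es j ∈ P := by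
  unfold gPerm letterPerm
  have h1 : Nat.div (2 * j) 2 = j := by
    show (2 * j) / 2 = j
    omega
  have h2 : Nat.mod (2 * j) 2 = 0 := by
    show (2 * j) % 2 = 0
    omega
  rw [h1, h2]
  cases hn : nth es j with
  | none => exact one_mem _
  | some e => exact Subgroup.subset_closure ⟨e, nth_mem hn, rfl⟩

theorem relsChk : allB (fun k => allB (fun i => Nat.beq (wordPt 9 511 es (SU43D.c.W.getD k []) i) i) 275)
    SU43D.c.nrel = true := by
  decide +kernel

theorem wordsChk : wordsB 9 511 275 es 3 es [[0], [2], [4]] = true := by decide +kernel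

/-- The generators. -/
noncomputable abbrev gJ : ℕ → P := gP 9 511 275 es P

theorem hrel : ∀ k < SU43D.c.nrel, Cfsg.Agent.Lib.Compute.ToddCoxeterCore.wordEl (ltr gJ) (SU43D.c.W.getD k []) = 1 := by
  intro k hk
  apply rel_of_check validEs hmem
  have := (allB_iff _ _).mp relsChk k hk
  exact this

theorem hgen (x : P) : x ∈ Subgroup.closure (gJ '' Set.Iio SU43D.c.n) :=
  gen_of_words validEs hmem (k := 3) (gens := es) (us := [[0], [2], [4]]) rfl wordsChk x

theorem nonempty_H : Nonempty (S2090.H ≃* PSU 4 SU43.K9 3) :=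
  SU43.nonempty_iso (gens := nextGens SU43D.ls) S2090.hall S2090.hcardG

theorem simple_H : IsSimpleGroup S2090.H := by
  obtain ⟨e⟩ := nonempty_H
  have := SU43.simple_PSU
  exact e.isSimpleGroup

theorem nontrivial_P : Nontrivial P := by
  have hne : permOf 9 511 275 ex ≠ 1 :=
    ne_one_of_point (by decide +kernel) (i := 1) (by norm_num) (by decide +kernel)
  refine ⟨⟨⟨permOf 9 511 275 ex, Subgroup.subset_closure ⟨ex, by simp [es], rfl⟩⟩, 1, ?_⟩⟩
  intro h
  exact hne (congrArg Subtype.val h)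

theorem card_P_eq : Nonempty (P ≃* S2090.H) := by
  obtain ⟨κ, -⟩ := exists_equiv_of_relators (c := SU43D.c) (D := U33.c.N * 7) S2090.sound.{0} S2090.hSB.{0}
    (A := S2090.H) (B := P) (ga := S2090.gJ) (gb := gJ) S2090.hrel hrel S2090.hgen hgen S2090.hcard
    (Or.inr ⟨simple_H, nontrivial_P⟩)
  exact ⟨κ⟩

theorem card_P : Nat.card P = 3265920 := by
  obtain ⟨κ⟩ := card_P_eq
  rw [Nat.card_congr κ.toEquiv]
  exact S2090.hcardG

theorem hle : StabL FU ≤ StabL FM := fun _ hg => by
  rw [mem_FU] at hg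
  rw [mem_FM]
  exact ⟨hg.1, hg.2.1⟩

/-- The orbit of the point. -/
theorem orbit_x0 : MulAction.orbit (StabL FM) x0El = McLSet a0 b0El := by
  ext y
  constructor
  · rintro ⟨g, rfl⟩
    have h := (mem_McLSet_smul (g : Co0) a0 b0El x0El).2 x0El_mem
    rw [(mem_FM.1 g.2).1, (mem_FM.1 g.2).2] at h
    exact h
  · intro hy
    obtain ⟨k, hk, e⟩ := orbit_std hy
    refine ⟨⟨k⁻¹, inv_mem hk⟩, ?_⟩
    show k⁻¹ • x0El = y
    rw [← e, inv_smul_smul]

theorem card_FU : Nat.card (StabL FU) = 3265920 := by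
  have h1 := MulAction.index_stabilizer (StabL FM) x0El
  rw [orbit_x0, ncard_McLSet_std] at h1
  have h2 := Subgroup.card_mul_index (MulAction.stabilizer (StabL FM) x0El)
  rw [h1, card_StabL_FM] at h2
  have h3 : Nat.card (MulAction.stabilizer (StabL FM) x0El) = Nat.card (StabL FU) :=
    Nat.card_congr
      { toFun := fun g => ⟨g.1.1, mem_FU.2 ⟨(mem_FM.1 g.1.2).1, (mem_FM.1 g.1.2).2, g.2⟩⟩
        invFun := fun g => ⟨⟨g.1, hle g.2⟩, (mem_FU.1 g.2).2.2⟩
        left_inv := fun _ => rfl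
        right_inv := fun _ => rfl }
  rw [← h3]
  omega

/-- The action of the stabiliser on the 275 points. -/
noncomputable def rho : StabL FU →* Equiv.Perm (Fin 275) := phi.comp (Subgroup.inclusion hle)

theorem rho_inj : Function.Injective rho :=
  hRep.2.comp (Subgroup.inclusion_injective hle)

theorem ptOf_zero : ptOf hN X275_mem_lat (0 : Fin 275) = x0El :=
  Subtype.ext (congrArg vecOf (show X275.getD 0 [] = x0L by decide +kernel))

theorem P_le : P ≤ rho.range := by
  refine (Subgroup.closure_le _).mpr ?_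
  rintro _ ⟨e, he, rfl⟩
  have hv : validB 9 511 275 e = true := List.all_eq_true.mp validEs e he
  have hs : siftF 9 511 275 21 2097151 9 (lrlvA.map Prod.fst) (gt 9 511 e) = true := List.all_eq_true.mp siftEs e he
  have hf : Nat.beq (gt 9 511 e 0) 0 = true := List.all_eq_true.mp fixEs e he
  have h1 : permOf 9 511 275 e ∈ K := hA.mem_of_sift hd (gt_eq hv) hs
  obtain ⟨g, hg⟩ := h1
  have h2 := rep_spec hN X275_len X275_nodup X275_mem_lat (StabL FM) hpres g (0 : Fin 275)
  have h3 : (rep hN X275_len X275_nodup X275_mem_lat (StabL FM) hpres g (0 : Fin 275)) = 0 := by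
    apply Fin.ext
    show ((phi g (0 : Fin 275) : Fin 275) : ℕ) = 0
    rw [hg, ← gt_eq hv (0 : Fin 275)]
    exact Nat.eq_of_beq_eq_true hf
  rw [h3, ptOf_zero] at h2
  have h4 : (g : Co0) • x0El = x0El := h2.symm
  exact ⟨⟨g.1, mem_FU.2 ⟨(mem_FM.1 g.2).1, (mem_FM.1 g.2).2, h4⟩⟩, hg⟩

theorem P_eq : P = rho.range := by
  refine Subgroup.eq_of_le_of_card_ge P_le ?_
  rw [card_P]
  have h := Nat.card_congr (MonoidHom.ofInjective rho_inj).toEquiv
  rw [← h, card_FU]

/-- The standard point stabiliser. -/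
theorem nonempty_std : Nonempty (StabL FU ≃* PSU 4 SU43.K9 3) := by
  obtain ⟨κ⟩ := card_P_eq
  obtain ⟨e⟩ := nonempty_H
  exact ⟨(MonoidHom.ofInjective rho_inj).trans ((MulEquiv.subgroupCongr P_eq.symm).trans (κ.trans e))⟩

/-- The point stabiliser in the rank-3 action of the McLaughlin group on 275 points is isomorphic to PSU(4, 3). -/
theorem result (u v x : ↥Cfsg.leechLattice) (hu : Cfsg.sqNorm (u : Cfsg.GolayPt → ℤ) = 48) (hv : Cfsg.sqNorm (v : Cfsg.GolayPt → ℤ) = 32 ∧ Cfsg.sqNorm ((u - v) : Cfsg.GolayPt → ℤ) = 32) (hx : x ∈ {x : ↥Cfsg.leechLattice | Cfsg.sqNorm (x : Cfsg.GolayPt → ℤ) = 32 ∧ Cfsg.sqNorm ((u - x) : Cfsg.GolayPt → ℤ) = 32 ∧ Cfsg.dotInt (v : Cfsg.GolayPt → ℤ) (x : Cfsg.GolayPt → ℤ) = 16}) (F : Type) [Field F] [Fintype F] (hF : Fintype.card F = 9) : Nonempty (↥(MulAction.stabilizer ↥Cfsg.Co0 u ⊓ MulAction.stabilizer ↥Cfsg.Co0 v ⊓ MulAction.stabilizer ↥Cfsg.Co0 x) ≃* Cfsg.PSU 4 F 3) := by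
  obtain ⟨hv1, hv2⟩ := hv
  obtain ⟨g, hg1, hg2⟩ := exists_std_pair v (u - v) hv1 hv2 (dot_pair hu hv1 hv2)
  have hx' : x ∈ McLSet v (u - v) := (mem_stmt_iff hu x).1 hx
  obtain ⟨G, hGa, hGb, hGx⟩ := exists_std_triple hg1 hg2 hx'
  obtain ⟨e1⟩ := nonempty_std
  obtain ⟨e2⟩ := SU43.nonempty_equiv hF
  have hm : (MulAction.stabilizer Co0 u ⊓ MulAction.stabilizer Co0 v ⊓ MulAction.stabilizer Co0 x).map
      (MulAut.conj G).toMonoidHom = StabL FU := by
    ext y
    rw [Subgroup.mem_map_equiv, mem_FU, ← hGa, ← hGb, ← hGx]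
    have e : (MulAut.conj G).symm y = G⁻¹ * y * G := by
      simp [MulAut.conj_symm_apply]
    rw [e]
    have c1 : ∀ w : leechLattice, y • (G • w) = G • w ↔ (G⁻¹ * y * G) • w = w := by
      intro w
      have := conj_fix_iff G (G⁻¹ * y * G) w
      have h0 : G * (G⁻¹ * y * G) * G⁻¹ = y := by group
      rw [h0] at this
      exact this
    rw [c1, c1, c1]
    simp only [Subgroup.mem_inf, MulAction.mem_stabilizer_iff]
    have eu : u = v + (u - v) := by abel
    have add1 : ∀ t : Co0, t • v = v → (t • u = u ↔ t • (u - v) = u - v) := by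
      intro t ht
      constructor
      · intro h
        have h5 := co0_map_add t v (u - v)
        rw [← eu, h, ht] at h5
        have h6 : v + (t • (u - v)) = v + (u - v) := by rw [← h5]; abel
        exact (add_left_cancel h6)
      · intro h
        rw [eu, co0_map_add, ht, h]
    constructor
    · rintro ⟨⟨h1, h2⟩, h3⟩
      exact ⟨h2, (add1 _ h2).1 h1, h3⟩
    · rintro ⟨h1, h2, h3⟩
      exact ⟨⟨(add1 _ h1).2 h2, h1⟩, h3⟩
  exact ⟨((MulAut.conj G).subgroupMap _).trans ((MulEquiv.subgroupCongr hm).trans (e1.trans e2.symm))⟩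

end Cfsg.Agent.S1582
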