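import Cfsg.Statements.S1478
import Mathlib
import Cfsg.Agent.Lib.Nilpotent.CNThreeStep
import Cfsg.Agent.Lib.Coprime.THBasic
import Cfsg.Agent.Lib.PGroup.ZJ
import Cfsg.Agent.Lib.Transfer.Frobenius
import Cfsg.Agent.S0658
-- import your own Cfsg.Agent.* helpers here

set_option autoImplicit false
set_option linter.style.haveILetI false
open Cfsg

namespace Cfsg.Agent.S1478

open Cfsg.Agent.Lib.Basic.PCore Cfsg.Agent.Lib.Nilpotent.Parts Cfsg.Agent.Lib.Nilpotent.Elements
  Cfsg.Agent.S1473 Cfsg.Agent.Lib.Nilpotent.CNThreeStep Cfsg.Agent.Lib.Nilpotent.CNSolvable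
open scoped commutatorElement

variable {G : Type*} [Group G] [Finite G]

/-- Subgroups of CN-groups are CN-groups. -/
theorem cn_subgroup {G : Type*} [Group G] (hCN : Cfsg.IsCNGroup G) (X : Subgroup G) : Cfsg.IsCNGroup X := by
  intro x hx
  have hx' : (x : G) ≠ 1 := fun h => hx (Subtype.ext h)
  haveI := hCN x hx'
  let f : Subgroup.centralizer ({x} : Set X) →* Subgroup.centralizer ({(x : G)} : Set G) :=
    { toFun := fun y => ⟨((y : X) : G), by
        rw [Subgroup.mem_centralizer_singleton_iff]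
        have := Subgroup.mem_centralizer_singleton_iff.1 y.2
        exact congrArg Subtype.val this⟩
      map_one' := rfl
      map_mul' := fun _ _ => rfl }
  have hf : Function.Injective f := by
    intro a b hab
    have h1 : ((a : X) : G) = ((b : X) : G) := congrArg (fun z : Subgroup.centralizer ({(x : G)} : Set G) => (z : G)) hab
    exact Subtype.ext (Subtype.ext h1)
  exact nilpotent_of_mulEquiv (MonoidHom.ofInjective hf).symm

/-- A nontrivial `p`-subgroup of a minimal simple group is not normal. -/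
theorem normalizer_ne_top (hG : Cfsg.IsMinSimpleOddOrder G) {p : ℕ} [hpf : Fact p.Prime] {Q : Subgroup G}
    (hQp : IsPGroup p Q) (hQ1 : Q ≠ ⊥) : Subgroup.normalizer (Q : Set G) ≠ ⊤ := by
  obtain ⟨-, hsimple, hnc, -⟩ := hG
  haveI := hsimple
  intro h
  have hn : Q.Normal := Subgroup.normalizer_eq_top_iff.1 h
  rcases hsimple.eq_bot_or_eq_top_of_normal Q hn with h1 | h1
  · exact hQ1 h1
  · subst h1
    have hGp : IsPGroup p G := hQp.of_equiv Subgroup.topEquiv
    have := hGp.center_nontrivial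
    have hc : Subgroup.center G ≠ ⊥ := by
      intro h2
      rw [h2] at this
      exact not_subsingleton_iff_nontrivial.2 this inferInstance
    rcases hsimple.eq_bot_or_eq_top_of_normal (Subgroup.center G) inferInstance with h2 | h2
    · exact hc h2
    · apply hnc
      constructor
      constructor
      intro a b
      have ha : a ∈ Subgroup.center G := by rw [h2]; trivial
      exact (Subgroup.mem_center_iff.1 ha b).symm

/-- A three-step group has a `p`-element outside of `O_p`. -/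
theorem exists_pelement_threeStep {H : Type*} [Group H] [Finite H] {p : ℕ} [hpf : Fact p.Prime]
    (h3 : Cfsg.IsThreeStepGroup p H) : ∃ x : H, (∃ k : ℕ, x ^ p ^ k = 1) ∧ x ∉ pCore p H := by
  obtain ⟨hO1, A, hA1, hAcyc, hAodd, hAcop, hLn, hLtop, ⟨n, hn⟩, hfpf, hlast⟩ := h3
  have hidx : (pCore p H ⊔ A).index ≠ 1 := by
    rw [Ne, Subgroup.index_eq_one]
    exact hLtop
  have hpd : p ∣ (pCore p H ⊔ A).index := by
    rw [hn]
    apply dvd_pow_self
    rintro rfl
    apply hidx
    rw [hn, pow_zero]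
  obtain ⟨x, hx, hxL⟩ := exists_pelement_not_mem (pCore p H ⊔ A) hpd
  exact ⟨x, hx, fun h => hxL ((le_sup_left : pCore p H ≤ pCore p H ⊔ A) h)⟩

/-- A subgroup containing a subgroup with a `p`-element outside its `O_p` has no normal Sylow. -/
theorem not_normal_sylow_of_le {H X : Subgroup G} (hHX : H ≤ X) {p : ℕ} [hpf : Fact p.Prime]
    (hx : ∃ x : H, (∃ k : ℕ, x ^ p ^ k = 1) ∧ x ∉ pCore p H) (S : Sylow p X) :
    ¬ (S : Subgroup X).Normal := by
  intro hSn
  obtain ⟨x, ⟨k, hk⟩, hxO⟩ := hx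
  haveI := hSn
  set D : Subgroup H := (S : Subgroup X).comap (Subgroup.inclusion hHX) with hD
  have hDn : D.Normal := Subgroup.Normal.comap hSn _
  have hDp : IsPGroup p D :=
    S.2.comap_of_injective (Subgroup.inclusion hHX) (Subgroup.inclusion_injective hHX)
  apply hxO
  apply le_pCore hDn hDp
  show Subgroup.inclusion hHX x ∈ (S : Subgroup X)
  apply mem_sylow_of_normal S hSn (k := k)
  rw [← map_pow, hk, map_one]

/-- The image of a subgroup of `H` in `G` is normalized by `H`. -/
theorem le_normalizer_map {H : Subgroup G} (N : Subgroup H) [hN : N.Normal] :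
    H ≤ Subgroup.normalizer ((N.map H.subtype : Subgroup G) : Set G) := by
  intro h hh
  apply Cfsg.Agent.Lib.Coprime.Three.mem_normalizer_of_conj_mem
  rintro _ ⟨t, ht, rfl⟩
  exact ⟨⟨h, hh⟩ * t * ⟨h, hh⟩⁻¹, hN.conj_mem t ht _, rfl⟩

/-- The image of a normal `p`-subgroup in its normalizer lies in `O_p`. -/
theorem subgroupOf_le_pCore {Q X : Subgroup G} (hQX : X ≤ Subgroup.normalizer (Q : Set G)) {p : ℕ}
    [hpf : Fact p.Prime] (hQp : IsPGroup p Q) :
    Q.subgroupOf X ≤ pCore p X := by
  haveI : (Q.subgroupOf X).Normal := Subgroup.normal_subgroupOf_of_le_normalizer hQX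
  exact le_pCore inferInstance (hQp.comap_of_injective X.subtype X.subtype_injective)

/-- The "characteristic `p`" property coming from a three-step subgroup. -/
theorem commute_eq_one (hG : Cfsg.IsMinSimpleOddOrder G) (hCN : Cfsg.IsCNGroup G) {p : ℕ}
    [hpf : Fact p.Prime] {H : Subgroup G} (h3 : Cfsg.IsThreeStepGroup p H) (x y : G)
    (hx : ∃ k : ℕ, x ^ p ^ k = 1) (hx1 : x ≠ 1) (hy : (orderOf y).Coprime p) (hxy : Commute y x) :
    y = 1 := by
  classical
  set T₀ : Subgroup G := (pCore p H).map H.subtype with hT₀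
  have hT₀p : IsPGroup p T₀ := (pCore_isPGroup p).map _
  have hT₀1 : T₀ ≠ ⊥ := by
    rw [hT₀, Ne, Subgroup.map_eq_bot_iff_of_injective _ H.subtype_injective]
    exact h3.1
  set X₀ : Subgroup G := Subgroup.normalizer (T₀ : Set G) with hX₀
  have hHX : H ≤ X₀ := le_normalizer_map (pCore p H)
  haveI hX₀s : Group.IsSolvable X₀ := hG.2.2.2 X₀ (normalizer_ne_top hG hT₀p hT₀1)
  have hX₀cn : Cfsg.IsCNGroup X₀ := cn_subgroup hCN X₀
  have hT₁ : T₀.subgroupOf X₀ ≤ pCore p X₀ := subgroupOf_le_pCore le_rfl hT₀p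
  obtain ⟨t, ht, ht1⟩ := (Subgroup.bot_or_exists_ne_one T₀).resolve_left hT₀1
  have htX : t ∈ X₀ := Subgroup.le_normalizer ht
  have ht₁ : (⟨t, htX⟩ : X₀) ∈ pCore p X₀ := hT₁ ht
  have hcore : pCore p X₀ ≠ ⊥ := by
    intro h
    rw [h, Subgroup.mem_bot] at ht₁
    exact ht1 (congrArg Subtype.val ht₁)
  obtain ⟨-, hpfree⟩ := three_step_of_pCore hX₀cn hcore
    (not_normal_sylow_of_le hHX (exists_pelement_threeStep h3))
  obtain ⟨S₀, hS₀⟩ := hT₀p.exists_le_sylow
  have hxp : IsPGroup p (Subgroup.zpowers x) := by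
    rw [IsPGroup.iff_card, Nat.card_zpowers]
    exact (exists_pow_eq_one_iff x).1 hx
  obtain ⟨S', hS'⟩ := hxp.exists_le_sylow
  obtain ⟨g, hg⟩ := Cfsg.Agent.Lib.Transfer.Frobenius.exists_conj_mem_sylow S₀ S'
  have hx' := hg x (hS' (Subgroup.mem_zpowers x))
  have hx'1 : g⁻¹ * x * g ≠ 1 := by
    intro h
    apply hx1
    have : x = g * (g⁻¹ * x * g) * g⁻¹ := by group
    rw [this, h]
    group
  set y' : G := g⁻¹ * y * g with hy'
  have hy'c : Commute y' (g⁻¹ * x * g) := by
    show y' * (g⁻¹ * x * g) = (g⁻¹ * x * g) * y'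
    have h1 : y * x = x * y := hxy.eq
    calc y' * (g⁻¹ * x * g) = g⁻¹ * (y * x) * g := by rw [hy']; group
      _ = g⁻¹ * (x * y) * g := by rw [h1]
      _ = (g⁻¹ * x * g) * y' := by rw [hy']; group
  have hy'o : (orderOf y').Coprime p := by
    have : orderOf y' = orderOf y := by
      have h := (MulAut.conj g⁻¹).orderOf_eq y
      rw [← h, MulAut.conj_apply, inv_inv]
    rw [this]
    exact hy
  have h1 := commute_sylow hCN S₀ hx' hx'1 hy'c hy'o
  have hy'T : ∀ u ∈ T₀, Commute y' u := fun u hu => h1 u (hS₀ hu)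
  have hy'X : y' ∈ X₀ := by
    apply Cfsg.Agent.Lib.Coprime.Three.mem_normalizer_of_conj_mem
    intro u hu
    have : y' * u * y'⁻¹ = u := by
      rw [(hy'T u hu).eq]
      group
    rw [this]
    exact hu
  have hy'1 : (⟨y', hy'X⟩ : X₀) = 1 := by
    apply hpfree _ _ _ ht₁ 
    · intro h
      exact ht1 (congrArg Subtype.val h)
    · exact Subtype.ext (hy'T t ht).eq
    · rw [Subgroup.orderOf_mk]
      exact hy'o
  have hy'2 : y' = 1 := congrArg Subtype.val hy'1
  have : y = g * y' * g⁻¹ := by rw [hy']; group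
  rw [this, hy'2]
  group

/-- The three facts on `p`-local subgroups needed for the `ZJ`-theorem. -/
theorem local_facts (hG : Cfsg.IsMinSimpleOddOrder G) (hCN : Cfsg.IsCNGroup G) {p : ℕ}
    [hpf : Fact p.Prime] (hodd : Odd p)
    (hCP : ∀ x y : G, (∃ k : ℕ, x ^ p ^ k = 1) → x ≠ 1 → (orderOf y).Coprime p → Commute y x → y = 1)
    (Q : Subgroup G) (hQp : IsPGroup p Q) (hQ1 : Q ≠ ⊥) :
    Cfsg.pPrimeCore p ↥(Subgroup.normalizer (Q : Set G)) = ⊥ ∧
      Cfsg.IsPConstrained p ↥(Subgroup.normalizer (Q : Set G)) ∧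
      Cfsg.IsPStable p ↥(Subgroup.normalizer (Q : Set G)) := by
  classical
  set X : Subgroup G := Subgroup.normalizer (Q : Set G) with hX
  haveI hXs : Group.IsSolvable X := hG.2.2.2 X (normalizer_ne_top hG hQp hQ1)
  have hXcn : Cfsg.IsCNGroup X := cn_subgroup hCN X
  have hT₁ : Q.subgroupOf X ≤ pCore p X := subgroupOf_le_pCore le_rfl hQp
  haveI hT₁n : (Q.subgroupOf X).Normal := Subgroup.normal_subgroupOf_of_le_normalizer le_rfl
  have hT₁p : IsPGroup p (Q.subgroupOf X) := hQp.comap_of_injective X.subtype X.subtype_injective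
  obtain ⟨t, ht, ht1⟩ := (Subgroup.bot_or_exists_ne_one Q).resolve_left hQ1
  have htX : t ∈ X := Subgroup.le_normalizer ht
  have ht₀ : (⟨t, htX⟩ : X) ∈ Q.subgroupOf X := ht
  have hcore : pCore p X ≠ ⊥ := by
    intro h
    have := hT₁ ht₀
    rw [h, Subgroup.mem_bot] at this
    exact ht1 (congrArg Subtype.val this)
  have hpp : p.Prime := hpf.out
  have hbot : Cfsg.pPrimeCore p X = ⊥ := by
    rw [eq_bot_iff]
    intro c hc
    rw [Subgroup.mem_bot]
    have hccop : (Nat.card (Cfsg.pPrimeCore p X)).Coprime p :=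
      Cfsg.Agent.Lib.Components.Transport.coprime_card_pPrimeCore p
    have hdis : Disjoint (Cfsg.pPrimeCore p X) (Q.subgroupOf X) := by
      obtain ⟨k, hk⟩ := IsPGroup.iff_card.1 hT₁p
      rw [Subgroup.disjoint_def]
      intro x hx1 hx2
      have h1 : orderOf x ∣ Nat.card (Cfsg.pPrimeCore p X) := Subgroup.orderOf_dvd_natCard _ hx1
      have h2 : orderOf x ∣ p ^ k := by
        rw [← hk]
        exact Subgroup.orderOf_dvd_natCard _ hx2
      have h3 := Nat.eq_one_of_dvd_coprimes (Nat.Coprime.pow_right k hccop) h1 h2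
      exact orderOf_eq_one_iff.1 h3
    haveI : (Cfsg.pPrimeCore p X).Normal := pPrimeCore_normal p X
    have hcm := Subgroup.commute_of_normal_of_disjoint _ _ inferInstance hT₁n hdis c ⟨t, htX⟩ hc ht₀
    have h1 : ((c : X) : G) = 1 := by
      apply hCP t (c : G) (exists_pow_eq_one_of_mem hQp ht) ht1
      · rw [Subgroup.orderOf_coe]
        exact Nat.Coprime.coprime_dvd_left (Subgroup.orderOf_dvd_natCard _ hc) hccop
      · exact congrArg Subtype.val hcm
    exact Subtype.ext h1
  refine ⟨hbot, Cfsg.Agent.Lib.Coprime.THBasic.isPConstrained_of_isSolvable p hXs, hodd, hcore, ?_⟩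
  intro A P hA hP hAP hPle hnorm hquad
  rw [hbot, bot_sup_eq] at hnorm
  haveI hPn : P.Normal := hnorm
  by_cases hP1 : P = ⊥
  · subst hP1
    rintro _ ⟨⟨a, haN⟩, ha, rfl⟩
    have h1 : (⟨a, haN⟩ : Subgroup.normalizer (((⊥ : Subgroup X) : Subgroup X) : Set X)) ∈
        (Subgroup.centralizer (((⊥ : Subgroup X) : Subgroup X) : Set X)).subgroupOf _ := by
      rw [Subgroup.mem_subgroupOf, Subgroup.mem_centralizer_iff]
      intro h hh
      have : h = 1 := hh
      rw [this]
      simp
    have h2 := (QuotientGroup.eq_one_iff _).2 h1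
    show QuotientGroup.mk' _ _ ∈ _
    rw [QuotientGroup.mk'_apply, h2]
    exact Subgroup.one_mem _
  · have hAT : A ≤ pCore p X := by
      by_cases hS : ∃ S : Sylow p X, (S : Subgroup X).Normal
      · obtain ⟨S, hSn⟩ := hS
        intro a ha
        obtain ⟨k, hk⟩ := exists_pow_eq_one_of_mem hA ha
        exact le_pCore hSn S.2 (mem_sylow_of_normal S hSn hk)
      · push Not at hS
        obtain ⟨h3, hpfree⟩ := three_step_of_pCore hXcn hcore hS
        exact le_pCore_of_quadratic hodd h3 hpfree hP hP1 hA hquad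
    set N : Subgroup X := Subgroup.normalizer (P : Set X) with hN
    set C : Subgroup N := (Subgroup.centralizer (P : Set X)).subgroupOf N with hC
    haveI hCn : C.Normal := inferInstance
    set Y : Subgroup N := (pCore p X).subgroupOf N with hY
    haveI hYn : Y.Normal := inferInstance
    have hYp : IsPGroup p Y := (pCore_isPGroup p).comap_of_injective N.subtype N.subtype_injective
    have hle : Y.map (QuotientGroup.mk' C) ≤ pCore p (N ⧸ C) :=
      le_pCore (Subgroup.Normal.map hYn _ (QuotientGroup.mk'_surjective C)) (hYp.map _)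
    refine le_trans (Subgroup.map_mono ?_) hle
    intro a ha
    exact hAT ha

/-- Conjugate Sylow subgroups as images. -/
theorem coe_smul_sylow {p : ℕ} [hpf : Fact p.Prime] (g : G) (S : Sylow p G) :
    ((g • S : Sylow p G) : Subgroup G) = (S : Subgroup G).map (MulAut.conj g).toMonoidHom := by
  rw [Sylow.coe_subgroup_smul]
  rfl

theorem centerThompson_conj (g : G) (R : Subgroup G) :
    Cfsg.centerThompsonAOf (R.map (MulAut.conj g).toMonoidHom)
      = (Cfsg.centerThompsonAOf R).map (MulAut.conj g).toMonoidHom := by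
  rw [Cfsg.Agent.Lib.PGroup.ZJ.centerThompsonAOf_eq, Cfsg.Agent.Lib.PGroup.ZJ.centerThompsonAOf_eq,
    Cfsg.Agent.Lib.PGroup.ZJ.ZZ_map]

/-- `Z(J(S))` is nontrivial. -/
theorem centerThompson_ne_bot {p : ℕ} [hpf : Fact p.Prime] (S : Subgroup G) (hS : IsPGroup p S)
    (hS1 : S ≠ ⊥) : Cfsg.centerThompsonAOf S ≠ ⊥ := by
  classical
  rw [Cfsg.Agent.Lib.PGroup.ZJ.centerThompsonAOf_eq]
  set J := Cfsg.Agent.Lib.PGroup.ZJ.JJ 0 S with hJ
  have hJS : J ≤ S := Cfsg.Agent.Lib.PGroup.ZJ.JJ_le 0 S
  have hJp : IsPGroup p J := hS.to_le hJS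
  have hJ1 : J ≠ ⊥ := by
    obtain ⟨U, hU⟩ := Cfsg.Agent.Lib.PGroup.ZJ.AA_nonempty 0 S
    obtain ⟨x, hx, hx1⟩ := (Subgroup.bot_or_exists_ne_one S).resolve_left hS1
    have h1 : Subgroup.zpowers x ≤ S := Subgroup.zpowers_le.2 hx
    have h2 : Cfsg.Agent.Lib.PGroup.ZJ.PP 0 (Subgroup.zpowers x) := by
      constructor
      · rintro _ ⟨i, rfl⟩ _ ⟨j, rfl⟩
        exact (Commute.refl x).zpow_zpow i j
      · intro y _
        exact pow_zero y
    have h3 := hU.2.2 _ h1 h2
    intro hbot
    have hUJ : U ≤ J := Cfsg.Agent.Lib.PGroup.ZJ.AA_le_JJ hU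
    rw [hbot, le_bot_iff] at hUJ
    rw [hUJ, Subgroup.card_bot, Nat.card_zpowers] at h3
    have h4 : orderOf x = 1 := by
      have := orderOf_pos x
      omega
    exact hx1 (orderOf_eq_one_iff.1 h4)
  have h := inf_centralizer_ne_bot hJp.isNilpotent hJ1
  obtain ⟨x, hx, hx1⟩ := (Subgroup.bot_or_exists_ne_one _).resolve_left h
  intro hbot
  have : x ∈ Cfsg.Agent.Lib.PGroup.ZJ.ZZ 0 S := ⟨hx.1, hx.2, pow_zero x⟩
  rw [hbot, Subgroup.mem_bot] at this
  exact hx1 this

/-- A subgroup of a conjugate of `M`. -/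
theorem conj_inv_mem_of_mem_normalizer_map {Z : Subgroup G} {g r : G}
    (hr : r ∈ Subgroup.normalizer ((Z.map (MulAut.conj g).toMonoidHom : Subgroup G) : Set G)) :
    g⁻¹ * r * g ∈ Subgroup.normalizer (Z : Set G) := by
  apply Cfsg.Agent.Lib.Coprime.Three.mem_normalizer_of_conj_mem
  intro z hz
  have h1 : g * z * g⁻¹ ∈ Z.map (MulAut.conj g).toMonoidHom := ⟨z, hz, rfl⟩
  have h2 := (Subgroup.mem_normalizer_iff.1 hr _).1 h1
  obtain ⟨u, hu, hu2⟩ := h2
  have hu3 : g * u * g⁻¹ = r * (g * z * g⁻¹) * r⁻¹ := hu2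
  have h3 : g⁻¹ * r * g * z * (g⁻¹ * r * g)⁻¹ = u := by
    have : u = g⁻¹ * (g * u * g⁻¹) * g := by group
    rw [this, hu3]
    group
  rw [h3]
  exact hu

section embedding

variable {p : ℕ} [hpf : Fact p.Prime]

/-- Strong embedding. -/
theorem mem_normalizer_of_inf_ne_bot
    (hctl : ∀ (P : Sylow p G) (Q : Subgroup G), Q ≤ (P : Subgroup G) → Q ≠ ⊥ →
      Subgroup.normalizer (Q : Set G) ≤ Subgroup.normalizer (Cfsg.centerThompsonAOf (P : Subgroup G) : Set G))
    (S : Sylow p G) (g : G)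
    (hg : (S : Subgroup G) ⊓ (S : Subgroup G).map (MulAut.conj g).toMonoidHom ≠ ⊥) :
    g ∈ Subgroup.normalizer (Cfsg.centerThompsonAOf (S : Subgroup G) : Set G) := by
  classical
  set M : Subgroup G := Subgroup.normalizer (Cfsg.centerThompsonAOf (S : Subgroup G) : Set G) with hM
  have hS1 : (S : Subgroup G) ≠ ⊥ := by
    intro h
    apply hg
    rw [h, bot_inf_eq]
  have hSM : (S : Subgroup G) ≤ M := Subgroup.le_normalizer.trans (hctl S S le_rfl hS1)
  induction hn : Nat.card (S : Subgroup G) - Nat.card ((S : Subgroup G) ⊓ (S : Subgroup G).map (MulAut.conj g).toMonoidHom : Subgroup G)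
    using Nat.strong_induction_on generalizing g with
  | _ n ih =>
    set D : Subgroup G := (S : Subgroup G) ⊓ (S : Subgroup G).map (MulAut.conj g).toMonoidHom with hD
    by_cases hDS : D = (S : Subgroup G)
    · -- `S = S^g`
      have hle : (S : Subgroup G) ≤ (S : Subgroup G).map (MulAut.conj g).toMonoidHom :=
        le_trans (le_of_eq hDS.symm) inf_le_right
      have hcard : Nat.card ((S : Subgroup G).map (MulAut.conj g).toMonoidHom : Subgroup G) = Nat.card (S : Subgroup G) :=
        Subgroup.card_map_of_injective (MulAut.conj g).injective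
      have heq : (S : Subgroup G) = (S : Subgroup G).map (MulAut.conj g).toMonoidHom :=
        Subgroup.eq_of_le_of_card_ge hle hcard.le
      apply hctl S S le_rfl hS1
      apply Cfsg.Agent.Lib.Coprime.Three.mem_normalizer_of_conj_mem
      intro s hs
      rw [heq]
      exact ⟨s, hs, rfl⟩
    · have hDlt : D < (S : Subgroup G) := lt_of_le_of_ne inf_le_left hDS
      set R : Subgroup G := (S : Subgroup G) ⊓ Subgroup.normalizer (D : Set G) with hR
      have hDR : D < R := Cfsg.Agent.Lib.Transfer.Frobenius.lt_inf_normalizer S.2 hDlt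
      have hRS : R ≤ (S : Subgroup G) := inf_le_left
      -- `N(D) ≤ N(Z(S^g))`
      have h1 := hctl (g • S) D (by rw [coe_smul_sylow]; exact inf_le_right) hg
      rw [coe_smul_sylow, centerThompson_conj] at h1
      have hRM : ∀ r ∈ R, g⁻¹ * r * g ∈ M := fun r hr =>
        conj_inv_mem_of_mem_normalizer_map (h1 hr.2)
      -- conjugate into `S` inside `M`
      set W : Subgroup M := (R.map (MulAut.conj g⁻¹).toMonoidHom).subgroupOf M with hW
      have hWp : IsPGroup p W :=
        ((S.2.to_le hRS).map _).comap_of_injective M.subtype M.subtype_injective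
      obtain ⟨m, hm⟩ := Cfsg.Agent.Lib.Transfer.Frobenius.exists_conj_mem_of_isPGroup (S.subtype hSM) hWp
      set g' : G := g * (m : G)⁻¹ with hg'
      have hRle : R ≤ (S : Subgroup G).map (MulAut.conj g').toMonoidHom := by
        intro r hr
        have hr' : g⁻¹ * r * g ∈ M := hRM r hr
        have h2 : (⟨g⁻¹ * r * g, hr'⟩ : M) ∈ W := by
          refine ⟨r, hr, ?_⟩
          show g⁻¹ * r * (g⁻¹)⁻¹ = g⁻¹ * r * g
          rw [inv_inv]
        have h3 := hm _ h2
        have h4 : ((m : G) * (g⁻¹ * r * g) * (m : G)⁻¹) ∈ (S : Subgroup G) := by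
          have := h3
          rw [Sylow.coe_subtype, Subgroup.mem_subgroupOf] at this
          exact this
        refine ⟨_, h4, ?_⟩
        show g' * ((m : G) * (g⁻¹ * r * g) * (m : G)⁻¹) * g'⁻¹ = r
        rw [hg']
        group
      have hRinf : R ≤ (S : Subgroup G) ⊓ (S : Subgroup G).map (MulAut.conj g').toMonoidHom :=
        le_inf hRS hRle
      have hne : (S : Subgroup G) ⊓ (S : Subgroup G).map (MulAut.conj g').toMonoidHom ≠ ⊥ := by
        intro h
        rw [h, le_bot_iff] at hRinf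
        rw [hRinf] at hDR
        exact not_lt_bot hDR
      have hc1 : Nat.card D < Nat.card R := Cfsg.Agent.Lib.Transfer.Frobenius.card_lt_of_lt hDR
      have hc2 : Nat.card R ≤ Nat.card ((S : Subgroup G) ⊓ (S : Subgroup G).map (MulAut.conj g').toMonoidHom : Subgroup G) :=
        Subgroup.card_le_of_le hRinf
      have hc3 : Nat.card ((S : Subgroup G) ⊓ (S : Subgroup G).map (MulAut.conj g').toMonoidHom : Subgroup G) ≤ Nat.card (S : Subgroup G) :=
        Subgroup.card_le_of_le inf_le_left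
      have hc4 : Nat.card D < Nat.card (S : Subgroup G) := Cfsg.Agent.Lib.Transfer.Frobenius.card_lt_of_lt hDlt
      have hg'M : g' ∈ M := ih _ (by omega) g' hne rfl
      have : g = g' * (m : G) := by rw [hg']; group
      rw [this]
      exact M.mul_mem hg'M m.2

end embedding

/-- Prime case. -/
theorem not_threeStep_prime (hG : Cfsg.IsMinSimpleOddOrder G) (hCN : Cfsg.IsCNGroup G) {p : ℕ}
    [hpf : Fact p.Prime] (H : Subgroup G) (h3 : Cfsg.IsThreeStepGroup p H) : False := by
  classical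
  have hCP := commute_eq_one hG hCN h3
  have hpp : p.Prime := hpf.out
  set T₀ : Subgroup G := (pCore p H).map H.subtype with hT₀
  have hT₀p : IsPGroup p T₀ := (pCore_isPGroup p).map _
  have hT₀1 : T₀ ≠ ⊥ := by
    rw [hT₀, Ne, Subgroup.map_eq_bot_iff_of_injective _ H.subtype_injective]
    exact h3.1
  obtain ⟨S, hS⟩ := hT₀p.exists_le_sylow
  have hS1 : (S : Subgroup G) ≠ ⊥ := by
    intro h
    apply hT₀1
    rw [← le_bot_iff, ← h]
    exact hS
  -- `p` is odd
  have hodd : Odd p := by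
    obtain ⟨x, hx, hx1⟩ := (Subgroup.bot_or_exists_ne_one _).resolve_left hS1
    obtain ⟨k, hk⟩ := exists_pow_eq_one_of_mem S.2 hx
    obtain ⟨j, -, hj⟩ := (Nat.dvd_prime_pow hpp).1 (orderOf_dvd_of_pow_eq_one hk)
    have hj0 : j ≠ 0 := by
      rintro rfl
      rw [pow_zero] at hj
      exact hx1 (orderOf_eq_one_iff.1 hj)
    have h1 : p ∣ Nat.card G := by
      have h2 : orderOf x ∣ Nat.card G := orderOf_dvd_natCard x
      rw [hj] at h2
      exact (dvd_pow_self p hj0).trans h2
    exact Odd.of_dvd_nat hG.1 h1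
  have hp2 : p ≠ 2 := by
    rintro rfl
    exact absurd hodd (by decide)
  have hloc := local_facts hG hCN hodd hCP
  have hctl : ∀ (P : Sylow p G) (Q : Subgroup G), Q ≤ (P : Subgroup G) → Q ≠ ⊥ →
      Subgroup.normalizer (Q : Set G) ≤ Subgroup.normalizer (Cfsg.centerThompsonAOf (P : Subgroup G) : Set G) :=
    fun P Q hQ hQ1 => Cfsg.Agent.S0658.result hp2 hloc P Q hQ hQ1
  have hemb := mem_normalizer_of_inf_ne_bot hctl S
  set Z : Subgroup G := Cfsg.centerThompsonAOf (S : Subgroup G) with hZ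
  set M : Subgroup G := Subgroup.normalizer (Z : Set G) with hM
  have hZ1 : Z ≠ ⊥ := centerThompson_ne_bot (S : Subgroup G) S.2 hS1
  have hZS : Z ≤ S := by
    rw [hZ, Cfsg.Agent.Lib.PGroup.ZJ.centerThompsonAOf_eq]
    exact Cfsg.Agent.Lib.PGroup.ZJ.ZZ_le_self 0 _
  have hZp : IsPGroup p Z := S.2.to_le hZS
  have hMtop : M ≠ ⊤ := normalizer_ne_top hG hZp hZ1
  haveI hMs : Group.IsSolvable M := hG.2.2.2 M hMtop
  have hMcn : Cfsg.IsCNGroup M := cn_subgroup hCN M
  have hSM : (S : Subgroup G) ≤ M := Subgroup.le_normalizer.trans (hctl S S le_rfl hS1)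
  have hHM : H ≤ M := (le_normalizer_map (pCore p H)).trans (hctl S T₀ hS hT₀1)
  have hcore : pCore p M ≠ ⊥ := by
    obtain ⟨t, ht, ht1⟩ := (Subgroup.bot_or_exists_ne_one Z).resolve_left hZ1
    have htM : t ∈ M := Subgroup.le_normalizer ht
    have ht₀ : (⟨t, htM⟩ : M) ∈ Z.subgroupOf M := ht
    have := subgroupOf_le_pCore (Q := Z) (X := M) le_rfl hZp ht₀
    intro h
    rw [h, Subgroup.mem_bot] at this
    exact ht1 (congrArg Subtype.val this)
  obtain ⟨hM3, -⟩ := three_step_of_pCore hMcn hcore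
    (not_normal_sylow_of_le hHM (exists_pelement_threeStep h3))
  obtain ⟨-, A, -, -, -, -, hLn, hLtop, ⟨n, hn⟩, -, -⟩ := hM3
  set L : Subgroup M := pCore p M ⊔ A with hL
  -- the focal subgroup
  haveI hsimple : IsSimpleGroup G := hG.2.1
  have hnotp : ¬ IsPGroup p G := by
    intro hGp
    apply normalizer_ne_top hG (Q := ⊤) (p := p) (hGp.to_subgroup ⊤) top_ne_bot
    exact Subgroup.normalizer_eq_top_iff.2 inferInstance
  have hfoc : (S : Subgroup G).focalSubgroupOf = ⊤ := by
    have hpg : IsPGroup p (G ⧸ (S : Subgroup G).transferFocal.ker) :=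
      (S.isPGroup'.to_quotient (S : Subgroup G).focalSubgroupOf).of_equiv
        (Subgroup.transferFocal.quotientKerMulEquivQuotientFocalSubroupOf S).symm
    rcases hsimple.eq_bot_or_eq_top_of_normal (S : Subgroup G).transferFocal.ker inferInstance with h | h
    · exfalso
      apply hnotp
      intro x
      obtain ⟨k, hk⟩ := hpg (x : G ⧸ (S : Subgroup G).transferFocal.ker)
      refine ⟨k, ?_⟩
      have h1 : x ^ p ^ k ∈ (S : Subgroup G).transferFocal.ker := by
        rw [← QuotientGroup.eq_one_iff, QuotientGroup.mk_pow]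
        exact hk
      rw [h, Subgroup.mem_bot] at h1
      exact h1
    · have hsurj := Subgroup.transferFocal_surjective S
      rw [eq_top_iff]
      intro z _
      obtain ⟨g, hg⟩ := hsurj (z : (S : Subgroup G) ⧸ (S : Subgroup G).focalSubgroupOf)
      have hker : g ∈ (S : Subgroup G).transferFocal.ker := by rw [h]; trivial
      rw [MonoidHom.mem_ker] at hker
      rw [hker] at hg
      exact (QuotientGroup.eq_one_iff z).mp hg.symm
  have hScomm : (S : Subgroup G) ≤ ⁅M, M⁆ := by
    have hle : (S : Subgroup G).focalSubgroupOf ≤ (⁅M, M⁆).subgroupOf (S : Subgroup G) := by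
      rw [Subgroup.focalSubgroupOf_eq_closure, Subgroup.closure_le]
      rintro ⟨w, hw⟩ ⟨x, hx, u, hwx⟩
      simp only at hwx
      subst hwx
      show ⁅x, u⁆ ∈ ⁅M, M⁆
      by_cases hx1 : x = 1
      · subst hx1
        simp
      · have h1 : u * x⁻¹ * u⁻¹ ∈ (S : Subgroup G) := by
          have : u * x⁻¹ * u⁻¹ = x⁻¹ * ⁅x, u⁆ := by
            rw [commutatorElement_def]; group
          rw [this]
          exact mul_mem (inv_mem hx) hw
        have h2 : u * x⁻¹ * u⁻¹ ∈ (S : Subgroup G).map (MulAut.conj u).toMonoidHom :=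
          ⟨x⁻¹, inv_mem hx, rfl⟩
        have hne : (S : Subgroup G) ⊓ (S : Subgroup G).map (MulAut.conj u).toMonoidHom ≠ ⊥ := by
          intro h
          have h3 : u * x⁻¹ * u⁻¹ ∈ (S : Subgroup G) ⊓ (S : Subgroup G).map (MulAut.conj u).toMonoidHom := ⟨h1, h2⟩
          rw [h, Subgroup.mem_bot] at h3
          apply hx1
          have h4 : x⁻¹ = 1 := by
            have : x⁻¹ = u⁻¹ * (u * x⁻¹ * u⁻¹) * u := by group
            rw [this, h3]
            group
          exact inv_eq_one.1 h4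
        exact Subgroup.commutator_mem_commutator (hSM hx) (hemb u hne)
    intro s hs
    have h1 : (⟨s, hs⟩ : (S : Subgroup G)) ∈ (S : Subgroup G).focalSubgroupOf := by
      rw [hfoc]
      trivial
    exact hle h1
  -- the quotient `M / L`
  set π : M →* M ⧸ L := QuotientGroup.mk' L with hπ
  have hπs : Function.Surjective π := QuotientGroup.mk'_surjective L
  have hQcard : Nat.card (M ⧸ L) = p ^ n := by rw [← Subgroup.index_eq_card, hn]
  have hQp : IsPGroup p (M ⧸ L) := IsPGroup.of_card hQcard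
  haveI : Nontrivial (M ⧸ L) := QuotientGroup.nontrivial_iff.2 hLtop
  haveI : Group.IsNilpotent (M ⧸ L) := hQp.isNilpotent
  have hlt := IsSolvable.commutator_lt_top_of_nontrivial (M ⧸ L)
  set SM : Sylow p M := S.subtype hSM with hSMdef
  have hidx : ((SM : Subgroup M).map π).index = 1 := by
    have h1 : ((SM : Subgroup M).map π).index ∣ (SM : Subgroup M).index :=
      Subgroup.index_map_dvd _ hπs
    have h2 : ((SM : Subgroup M).map π).index ∣ p ^ n := by
      rw [← hQcard]
      exact Subgroup.index_dvd_card _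
    have h3 : (SM : Subgroup M).index.Coprime p :=
      (Nat.Prime.coprime_iff_not_dvd hpp).2 SM.not_dvd_index |>.symm
    exact Nat.eq_one_of_dvd_coprimes (Nat.Coprime.pow_right n h3) h1 h2
  have htop : (SM : Subgroup M).map π = ⊤ := Subgroup.index_eq_one.1 hidx
  have hle : (SM : Subgroup M) ≤ commutator M := by
    intro s hs
    have h1 : (s : G) ∈ (S : Subgroup G) := by
      rw [Sylow.coe_subtype, Subgroup.mem_subgroupOf] at hs
      exact hs
    have h2 := hScomm h1
    rw [← M.map_subtype_commutator] at h2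
    obtain ⟨t, ht, hts⟩ := h2
    have : t = s := Subtype.ext hts
    rw [← this]
    exact ht
  have hle2 : (commutator M).map π ≤ commutator (M ⧸ L) := by
    rw [commutator_def, Subgroup.map_commutator, commutator_def]
    exact Subgroup.commutator_mono le_top le_top
  have : (⊤ : Subgroup (M ⧸ L)) ≤ commutator (M ⧸ L) := by
    rw [← htop]
    exact (Subgroup.map_mono hle).trans hle2
  exact absurd (top_le_iff.1 this) hlt.ne

/-- Let G be a minimal simple group of odd order in which every non-identity element has nilpotent centralizer. Then no subgroup of G is a three-step group with respect to any prime. -/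
theorem result {G : Type*} [Group G] [Finite G] (hG : Cfsg.IsMinSimpleOddOrder G) (hCN : Cfsg.IsCNGroup G) :
    ∀ (H : Subgroup G) (p : ℕ), ¬ Cfsg.IsThreeStepGroup p ↥H := by
  intro H p h3
  classical
  have hHtop : H ≠ ⊤ := by
    rintro rfl
    obtain ⟨hO1, A, -, -, -, -, -, hLtop, -, -, -⟩ := h3
    haveI hsimple : IsSimpleGroup G := hG.2.1
    haveI : IsSimpleGroup (⊤ : Subgroup G) :=
      IsSimpleGroup.isSimpleGroup_of_surjective (Subgroup.topEquiv.symm : G ≃* (⊤ : Subgroup G)).toMonoidHom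
        (MulEquiv.surjective _)
    rcases IsSimpleGroup.eq_bot_or_eq_top_of_normal (pCore p (⊤ : Subgroup G)) (pCore_normal p _) with h | h
    · exact hO1 h
    · apply hLtop
      rw [h, top_sup_eq]
  haveI hHs : Group.IsSolvable H := hG.2.2.2 H hHtop
  obtain ⟨q, hq, h3q⟩ := exists_prime_threeStep (cn_subgroup hCN H) h3
  haveI : Fact q.Prime := ⟨hq⟩
  exact not_threeStep_prime hG hCN H h3q

end Cfsg.Agent.S1478
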