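import Cfsg.Statements.S4845
import Mathlib
import Cfsg.Agent.Lib.Char.PDerived
import Cfsg.Agent.Lib.Char.ItoMichler

set_option autoImplicit false
open Cfsg

namespace Cfsg.Agent.S4845

open Cfsg.Agent.Lib.Char Cfsg.Agent.Lib.Char.PDerived
open scoped ComplexConjugate

universe u

/-- The hypothesis on Galois conjugacy. -/
def GalCond (P : Type u) [Group P] : Prop :=
  ∀ χ ψ : IrrCharacter P, charDegree (χ : P → ℂ) ≠ 1 → charDegree (χ : P → ℂ) = charDegree (ψ : P → ℂ) →
    ∃ k : ℕ, Nat.Coprime k (Nat.card P) ∧ ∀ g : P, (ψ : P → ℂ) g = (χ : P → ℂ) (g ^ k)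

theorem deg_cast {X : Type*} [Group X] [Finite X] (χ : IrrCharacter X) :
    ((charDegree (χ : X → ℂ) : ℕ) : ℂ) = (χ : X → ℂ) 1 :=
  Values.IsCharacter.charDegree_cast (Values.IsIrrCharacter.isCharacter χ.2)

theorem deg_eq_one_iff {X : Type*} [Group X] [Finite X] (χ : IrrCharacter X) :
    charDegree (χ : X → ℂ) = 1 ↔ (χ : X → ℂ) 1 = 1 := by
  rw [← deg_cast]
  norm_cast

theorem deg_norm {X : Type*} [Group X] [Finite X] (χ : IrrCharacter X) :
    ‖(χ : X → ℂ) 1‖ = (charDegree (χ : X → ℂ) : ℝ) := by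
  rw [← deg_cast]
  simp

theorem deg_dvd {X : Type*} [Group X] [Finite X] (χ : IrrCharacter X) :
    charDegree (χ : X → ℂ) ∣ Nat.card X := by
  obtain ⟨n, ρ, hirr, hρ⟩ := χ.2
  haveI := hirr
  have h1 := Integrality.finrank_dvd_card ρ
  have h2 : charDegree (χ : X → ℂ) = n := by
    apply Values.IsCharacter.charDegree_eq (Values.IsIrrCharacter.isCharacter χ.2)
    rw [← hρ]
    simp
  rw [h2]
  simpa using h1

theorem deg_one_of_ne {X : Type*} [Group X] [Finite X] (χ : IrrCharacter X)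
    (h : charDegree (χ : X → ℂ) ≠ 1) : (χ : X → ℂ) 1 ≠ 1 := fun h' => h ((deg_eq_one_iff χ).2 h')

theorem galCond_quotient {X : Type u} [Group X] [Finite X] (N : Subgroup X) [N.Normal]
    (H : GalCond X) : GalCond (X ⧸ N) := by
  intro χ ψ h1 h2
  obtain ⟨k, hk, hg⟩ := H (liftIrr N χ) (liftIrr N ψ) (by rwa [charDegree_liftIrr])
    (by rw [charDegree_liftIrr, charDegree_liftIrr, h2])
  refine ⟨k, ?_, ?_⟩
  · refine Nat.Coprime.coprime_dvd_right ?_ hk
    exact Subgroup.index_dvd_card N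
  · intro g
    induction g using QuotientGroup.induction_on with
    | H g =>
      have := hg g
      simpa using this

/-- Kernels lie in the commutator subgroup. -/
theorem mem_commutator_of_ker {X : Type u} [Group X] [Finite X] (H : GalCond X) (χ : IrrCharacter X)
    (h1 : charDegree (χ : X → ℂ) ≠ 1) {z : X} (hz : (χ : X → ℂ) z = (χ : X → ℂ) 1) :
    z ∈ commutator X := by
  by_contra hzn
  obtain ⟨l, hl⟩ := exists_lin_ne_one hzn
  let ψ : IrrCharacter X := ⟨fun g => ((l g : ℂˣ) : ℂ) * (χ : X → ℂ) g, GlaubCyclic.isIrr_lin_mul l χ.2⟩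
  have hd : charDegree (χ : X → ℂ) = charDegree (ψ : X → ℂ) := by
    unfold charDegree
    change _ = ⌊(((l 1 : ℂˣ) : ℂ) * (χ : X → ℂ) 1).re⌋₊
    simp
  obtain ⟨k, -, hg⟩ := H χ ψ h1 hd
  have h2 := hg z
  rw [apply_pow_eq_one_of_ker χ.2 hz k] at h2
  change ((l z : ℂˣ) : ℂ) * (χ : X → ℂ) z = (χ : X → ℂ) 1 at h2
  rw [hz] at h2
  have hne : (χ : X → ℂ) 1 ≠ 0 := Ortho.irr_apply_one_ne_zero χ.2
  have h3 : ((l z : ℂˣ) : ℂ) = 1 := by
    field_simp at h2
    exact h2
  exact hl (Units.ext h3)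

variable {p : ℕ} [hp : Fact p.Prime]

/-- Faithfulness when `X'` has prime order. -/
theorem eq_one_of_ker {X : Type u} [Group X] [Finite X] (H : GalCond X) (hc : Nat.card (commutator X) = p)
    (χ : IrrCharacter X) (h1 : charDegree (χ : X → ℂ) ≠ 1) {z : X} (hz : (χ : X → ℂ) z = (χ : X → ℂ) 1) :
    z = 1 := by
  by_contra hz1
  have hm := mem_commutator_of_ker H χ h1 hz
  have hS := eq_zpowers_of_card_prime (commutator X) hc hm hz1
  apply deg_one_of_ne χ h1
  apply one_eq_one_of_commutator_le_ker χ.2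
  intro a ha
  rw [hS] at ha
  obtain ⟨k, rfl⟩ := (mem_powers_iff_mem_zpowers).2 ha
  exact apply_pow_eq_one_of_ker χ.2 hz k

theorem exists_nonlinear {X : Type u} [Group X] [Finite X] (h : ¬ IsMulCommutative X) :
    ∃ χ : IrrCharacter X, charDegree (χ : X → ℂ) ≠ 1 := by
  by_contra hall
  push Not at hall
  apply h
  exact ⟨⟨fun a b => ItoMichler.mul_comm_of_forall_degree_one (fun χ => (deg_eq_one_iff χ).1 (hall χ)) a b⟩⟩

theorem not_comm_of_card_commutator {X : Type u} [Group X] [Finite X] (hc : Nat.card (commutator X) = p) :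
    ¬ IsMulCommutative X := by
  intro h
  have h1 : commutator X = ⊥ := by
    rw [commutator_def, Subgroup.commutator_eq_bot_iff_le_centralizer]
    intro a _ b _
    exact (h.is_comm.comm a b).symm
  rw [h1] at hc
  simp at hc
  exact hp.out.one_lt.ne hc

/-- The centre is cyclic if `X'` has prime order. -/
theorem isCyclic_center {X : Type u} [Group X] [Finite X] (H : GalCond X) (hc : Nat.card (commutator X) = p) :
    IsCyclic (Subgroup.center X) := by
  obtain ⟨χ, h1⟩ := exists_nonlinear (not_comm_of_card_commutator hc)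
  have hne : (χ : X → ℂ) 1 ≠ 0 := Ortho.irr_apply_one_ne_zero χ.2
  let f : Subgroup.center X →* ℂ :=
    { toFun := fun z => (χ : X → ℂ) z / (χ : X → ℂ) 1
      map_one' := by simp [hne]
      map_mul' := by
        intro a b
        have := central_mul_eq χ.2 a.2 (b : X)
        simp only [Subgroup.coe_mul]
        field_simp
        rw [mul_comm]
        linear_combination this }
  refine isCyclic_of_injective_ringHom f ?_
  intro a b hab
  have h2 : (χ : X → ℂ) ((a : X) * (b : X)⁻¹) = (χ : X → ℂ) 1 := by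
    have h3 := f.map_mul a b⁻¹
    have h4 := f.map_mul b b⁻¹
    change f (a * b⁻¹) = f a * f b⁻¹ at h3
    rw [hab, ← h4, mul_inv_cancel, map_one] at h3
    change (χ : X → ℂ) ((a : X) * (b : X)⁻¹) / (χ : X → ℂ) 1 = 1 at h3
    field_simp at h3
    exact h3
  have h3 := eq_one_of_ker H hc χ h1 h2
  apply Subtype.ext
  exact mul_inv_eq_one.1 h3


theorem conj_pow_eq {Y : Type*} [Group Y] {u v c : Y} (hc : c ∈ Subgroup.center Y)
    (h : v * u * v⁻¹ = c * u) (k : ℕ) : v * u ^ k * v⁻¹ = c ^ k * u ^ k := by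
  have h1 : Commute c u := (Subgroup.mem_center_iff.1 hc u).symm
  rw [← h1.mul_pow, ← h, conj_pow]

theorem pow_mem_center_of_commutator {Y : Type*} [Group Y] [Finite Y] (hY : IsPGroup p Y)
    (hc : Nat.card (commutator Y) = p) (u : Y) : u ^ p ∈ Subgroup.center Y := by
  rw [Subgroup.mem_center_iff]
  intro v
  set c := v * u * v⁻¹ * u⁻¹ with hcdef
  have hcm : c ∈ commutator Y := by
    rw [commutator_def]
    exact Subgroup.commutator_mem_commutator (Subgroup.mem_top v) (Subgroup.mem_top u)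
  have hcZ : c ∈ Subgroup.center Y := le_center_of_card_prime hY (commutator Y) hc hcm
  have hcp : c ^ p = 1 := by
    have := pow_card_eq_one' (x := (⟨c, hcm⟩ : commutator Y))
    rw [hc] at this
    exact congrArg Subtype.val this
  have h := conj_pow_eq hcZ (u := u) (v := v) (by rw [hcdef]; group) p
  rw [hcp, one_mul, mul_inv_eq_iff_eq_mul] at h
  exact h

theorem sum_lt (p : ℕ) (hp2 : 2 ≤ p) (a : ℕ) :
    p * ∑ b ∈ Finset.range a, (p ^ b) ^ 2 < (p ^ a) ^ 2 := by
  induction a with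
  | zero => simp
  | succ a ih =>
    rw [Finset.sum_range_succ, mul_add]
    have h1 : (p ^ (a + 1)) ^ 2 = p ^ 2 * (p ^ a) ^ 2 := by ring
    have h2 : 0 < (p ^ a) ^ 2 := by positivity
    rw [h1]
    nlinarith

theorem pow_eq_pow_mod_of_pow_eq_one {Y : Type*} [Monoid Y] {g : Y} {m : ℕ} (h : g ^ m = 1) (k : ℕ) :
    g ^ k = g ^ (k % m) := by
  conv_lhs => rw [← Nat.div_add_mod k m, pow_add, pow_mul, h, one_pow, one_mul]

/-- At most `φ(m)` characters of any given nonlinear degree. -/
theorem card_fiber_le {X : Type u} [Group X] [Finite X] [Fintype (IrrCharacter X)]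
    (hX : IsPGroup p X) (hne : p ∣ Nat.card X) (H : GalCond X) {r : ℕ}
    (hexp : ∀ x : X, x ^ (p ^ r) = 1) (ψ₀ : IrrCharacter X) (h1 : charDegree (ψ₀ : X → ℂ) ≠ 1)
    (F : Finset (IrrCharacter X))
    (hF : ∀ ψ ∈ F, charDegree (ψ₀ : X → ℂ) = charDegree (ψ : X → ℂ)) :
    F.card ≤ Nat.totient (p ^ r) := by
  classical
  have hm : 0 < p ^ r := pow_pos hp.out.pos r
  have hcop : ∀ k : ℕ, Nat.Coprime k (Nat.card X) → Nat.Coprime (p ^ r) (k % p ^ r) := by
    intro k hk
    have h2 : Nat.Coprime k p := Nat.Coprime.coprime_dvd_right hne hk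
    have h3 : Nat.Coprime k (p ^ r) := Nat.Coprime.pow_right r h2
    have h4 : Nat.gcd (p ^ r) (k % p ^ r) = Nat.gcd k (p ^ r) := by
      rw [Nat.gcd_comm k, Nat.gcd_rec (p ^ r) k, Nat.gcd_comm]
    exact h4.trans h3
  let kk : IrrCharacter X → ℕ := fun ψ =>
    if h : charDegree (ψ₀ : X → ℂ) = charDegree (ψ : X → ℂ) then (H ψ₀ ψ h1 h).choose else 0
  have hkk : ∀ ψ ∈ F, Nat.Coprime (kk ψ) (Nat.card X) ∧
      ∀ g : X, (ψ : X → ℂ) g = (ψ₀ : X → ℂ) (g ^ kk ψ) := by
    intro ψ hψ
    have h := hF ψ hψ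
    simp only [kk, dif_pos h]
    exact (H ψ₀ ψ h1 h).choose_spec
  rw [Nat.totient_eq_card_coprime]
  refine Finset.card_le_card_of_injOn (fun ψ => kk ψ % p ^ r) ?_ ?_
  · intro ψ hψ
    simp only [Finset.coe_filter, Finset.mem_range, Set.mem_setOf_eq]
    exact ⟨Nat.mod_lt _ hm, hcop _ (hkk ψ hψ).1⟩
  · intro ψ hψ ψ' hψ' heq
    apply Subtype.ext
    funext g
    rw [(hkk ψ hψ).2 g, (hkk ψ' hψ').2 g, pow_eq_pow_mod_of_pow_eq_one (hexp g) (kk ψ),
      pow_eq_pow_mod_of_pow_eq_one (hexp g) (kk ψ')]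
    simp only at heq
    rw [heq]


/-- Linear characters are trivial on the commutator subgroup. -/
theorem lin_apply_commutator {X : Type*} [Group X] [Finite X] (χ : IrrCharacter X)
    (h1 : (χ : X → ℂ) 1 = 1) {c : X} (hc : c ∈ commutator X) : (χ : X → ℂ) c = 1 := by
  obtain ⟨φ, hφ⟩ := LinearChars.exists_hom_of_isCharacter_one (Values.IsIrrCharacter.isCharacter χ.2) h1
  have h2 : commutator X ≤ φ.ker := by
    rw [commutator_def, Subgroup.commutator_le]
    intro a _ b _
    rw [MonoidHom.mem_ker, map_commutatorElement, commutatorElement_eq_one_iff_mul_comm.2 (mul_comm _ _)]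
  rw [hφ]
  have := h2 hc
  rw [MonoidHom.mem_ker] at this
  simp [this]

/-- The index of the centre. -/
theorem index_center_le {X : Type u} [Group X] [Finite X] (N : Subgroup X) [N.Normal]
    (hNZ : N ≤ Subgroup.center X) (hNp : Nat.card N = p)
    (hcyc : IsCyclic (Subgroup.center (X ⧸ N))) :
    (Subgroup.center X).index ≤ p * (Subgroup.center (X ⧸ N)).index := by
  classical
  obtain ⟨w', hw'⟩ := hcyc
  obtain ⟨w, hw⟩ := QuotientGroup.mk_surjective (s := N) (w' : X ⧸ N)
  let W : Subgroup X := (Subgroup.center (X ⧸ N)).comap (QuotientGroup.mk' N)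
  have hWi : W.index = (Subgroup.center (X ⧸ N)).index :=
    Subgroup.index_comap_of_surjective _ (QuotientGroup.mk'_surjective N)
  have hZW : Subgroup.center X ≤ W := by
    intro z hz
    change (QuotientGroup.mk' N z) ∈ Subgroup.center (X ⧸ N)
    rw [Subgroup.mem_center_iff]
    intro v
    induction v using QuotientGroup.induction_on with
    | H v =>
      have := Subgroup.mem_center_iff.1 hz v
      change ((v * z : X) : X ⧸ N) = ((z * v : X) : X ⧸ N)
      rw [this]
  have hwZ : ((w : X) : X ⧸ N) ∈ Subgroup.center (X ⧸ N) := by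
    rw [hw]; exact w'.2
  let f := QuotientGroup.mk' (Subgroup.center X)
  have hwp : w ^ p ∈ Subgroup.center X := by
    rw [Subgroup.mem_center_iff]
    intro v
    set c := v * w * v⁻¹ * w⁻¹ with hcdef
    have hcN : c ∈ N := by
      rw [← QuotientGroup.eq_one_iff]
      have h1 := Subgroup.mem_center_iff.1 hwZ (v : X ⧸ N)
      have h2 : ((c : X) : X ⧸ N) = (v : X ⧸ N) * (w : X ⧸ N) * (v : X ⧸ N)⁻¹ * (w : X ⧸ N)⁻¹ := rfl
      rw [h2, mul_inv_eq_one, mul_inv_eq_iff_eq_mul]
      exact h1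
    have hcp : c ^ p = 1 := by
      have := pow_card_eq_one' (x := (⟨c, hcN⟩ : N))
      rw [hNp] at this
      exact congrArg Subtype.val this
    have h := conj_pow_eq (hNZ hcN) (u := w) (v := v) (by rw [hcdef]; group) p
    rw [hcp, one_mul, mul_inv_eq_iff_eq_mul] at h
    exact h
  have hle : W.map f ≤ Subgroup.zpowers (f w) := by
    rintro _ ⟨y, hy, rfl⟩
    obtain ⟨i, hi⟩ := hw' ⟨_, hy⟩
    have hi' : (w' : X ⧸ N) ^ i = ((y : X) : X ⧸ N) := by
      have := congrArg Subtype.val hi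
      simpa using this
    rw [← hw] at hi'
    have hmem : (w ^ i)⁻¹ * y ∈ N := by
      rw [← QuotientGroup.eq]
      rw [← hi']
      simp
    have hy' : y = w ^ i * ((w ^ i)⁻¹ * y) := by group
    rw [hy', map_mul, map_zpow]
    have : f ((w ^ i)⁻¹ * y) = 1 := by
      rw [← MonoidHom.mem_ker, QuotientGroup.ker_mk']
      exact hNZ hmem
    rw [this, mul_one]
    exact Subgroup.zpow_mem_zpowers _ _
  have hord : orderOf (f w) ∣ p := by
    apply orderOf_dvd_of_pow_eq_one
    rw [← map_pow, ← MonoidHom.mem_ker, QuotientGroup.ker_mk']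
    exact hwp
  have hcard : Nat.card (W.map f) ≤ p := by
    calc Nat.card (W.map f) ≤ Nat.card (Subgroup.zpowers (f w)) := Subgroup.card_le_of_le hle
      _ = orderOf (f w) := Nat.card_zpowers _
      _ ≤ p := Nat.le_of_dvd hp.out.pos hord
  have hind : (W.map f).index = W.index := by
    rw [Subgroup.index_map, MonoidHom.range_eq_top.2 (QuotientGroup.mk'_surjective _), Subgroup.index_top, mul_one]
    congr 1
    rw [QuotientGroup.ker_mk']
    exact sup_eq_left.2 hZW
  have h := (W.map f).card_mul_index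
  rw [hind, hWi] at h
  have h2 : Nat.card (X ⧸ Subgroup.center X) = (Subgroup.center X).index := rfl
  rw [← h2, ← h]
  exact Nat.mul_le_mul_right _ hcard

/-- The counting contradiction when `X'` has order `p²`. -/
theorem step2 {X : Type u} [Group X] [Finite X] (hX : IsPGroup p X) (H : GalCond X) (N : Subgroup X) [N.Normal]
    (hNZ : N ≤ Subgroup.center X) (hNc : N ≤ commutator X) (hNp : Nat.card N = p)
    (hQ : Nat.card (commutator (X ⧸ N)) = p) : False := by
  classical
  haveI := Fintype.ofFinite X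
  letI : Fintype (IrrCharacter X) := Ortho.fintype_irr
  haveI : Fintype (X ⧸ N) := Fintype.ofFinite _
  have hQp : IsPGroup p (X ⧸ N) := hX.to_quotient N
  have HQ := galCond_quotient N H
  obtain ⟨ψ, hψ⟩ := exists_nonlinear (not_comm_of_card_commutator hQ)
  have hp2 : 2 ≤ p := hp.out.two_le
  have hcardX : Nat.card X = p * Nat.card (X ⧸ N) := by
    have := N.card_mul_index
    rw [hNp] at this
    exact this.symm
  obtain ⟨r, hr⟩ := (IsPGroup.iff_card).1 hQp
  obtain ⟨a, -, ha⟩ := (Nat.dvd_prime_pow hp.out).1 ((deg_dvd ψ).trans (by rw [hr]))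
  obtain ⟨z, hz⟩ := (IsPGroup.iff_card).1 (hQp.to_subgroup (Subgroup.center (X ⧸ N)))
  have hdeg : (p ^ a) ^ 2 * p ^ z = Nat.card (X ⧸ N) := by
    have h := deg_sq_eq_of_card_commutator hQp hQ ψ.2 (deg_one_of_ne ψ hψ)
    rw [deg_norm, ha, hz] at h
    exact_mod_cast h
  have hindexQ : (Subgroup.center (X ⧸ N)).index = (p ^ a) ^ 2 := by
    have h := (Subgroup.center (X ⧸ N)).card_mul_index
    rw [hz, ← hdeg, mul_comm] at h
    exact Nat.eq_of_mul_eq_mul_left (pow_pos hp.out.pos z) (by rw [mul_comm]; rw [mul_comm] at h; linarith)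
  -- exponent
  have hexp : ∀ x : X, x ^ (p ^ (z + 2)) = 1 := by
    intro x
    have h1 := pow_mem_center_of_commutator hQp hQ (x : X ⧸ N)
    have h2 : ((x : X ⧸ N) ^ p) ^ (p ^ z) = 1 := by
      have := pow_card_eq_one' (x := (⟨_, h1⟩ : Subgroup.center (X ⧸ N)))
      rw [hz] at this
      exact congrArg Subtype.val this
    have h3 : ((x ^ (p ^ (z + 1)) : X) : X ⧸ N) = 1 := by
      rw [QuotientGroup.mk_pow, pow_succ', pow_mul]
      exact h2
    have h4 := (QuotientGroup.eq_one_iff _).1 h3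
    have h5 : (x ^ (p ^ (z + 1))) ^ p = 1 := by
      have := pow_card_eq_one' (x := (⟨_, h4⟩ : N))
      rw [hNp] at this
      exact congrArg Subtype.val this
    rw [pow_succ (p) (z + 1), pow_mul]
    exact h5
  have hcenter := index_center_le N hNZ hNp (isCyclic_center HQ hQ)
  rw [hindexQ] at hcenter
  have hne : p ∣ Nat.card X := by
    rw [hcardX]; exact dvd_mul_right _ _
  -- the lift of `ψ`
  have hψ' : charDegree (liftIrr N ψ : X → ℂ) ≠ 1 := by rwa [charDegree_liftIrr]
  let C : Finset (IrrCharacter X) := Finset.univ.filter fun χ => ¬ ∀ n ∈ N, (χ : X → ℂ) n = (χ : X → ℂ) 1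
  let S : Finset (IrrCharacter X) := Finset.univ.filter fun χ => ∀ n ∈ N, (χ : X → ℂ) n = (χ : X → ℂ) 1
  have hbound : ∀ χ ∈ C, ∃ b < a, charDegree (χ : X → ℂ) = p ^ b := by
    intro χ hχ
    have hχ' : ¬ ∀ n ∈ N, (χ : X → ℂ) n = (χ : X → ℂ) 1 := (Finset.mem_filter.1 hχ).2
    obtain ⟨m, hm⟩ := (IsPGroup.iff_card).1 hX
    obtain ⟨b, -, hb⟩ := (Nat.dvd_prime_pow hp.out).1 ((deg_dvd χ).trans (by rw [hm]))
    refine ⟨b, ?_, hb⟩
    have h1 := deg_sq_mul_card_center_le χ.2
    rw [deg_norm, hb] at h1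
    have h2 : (p ^ b) ^ 2 * Nat.card (Subgroup.center X) ≤ Nat.card X := by exact_mod_cast h1
    have h3 : (p ^ b) ^ 2 ≤ (Subgroup.center X).index := by
      have h4 := (Subgroup.center X).card_mul_index
      rw [← h4, mul_comm] at h2
      exact Nat.le_of_mul_le_mul_left h2 Nat.card_pos
    have h4 : p ^ (2 * b) ≤ p ^ (2 * a + 1) := by
      calc p ^ (2 * b) = (p ^ b) ^ 2 := by ring
        _ ≤ p * (p ^ a) ^ 2 := h3.trans hcenter
        _ = p ^ (2 * a + 1) := by ring
    have h5 := (Nat.pow_le_pow_iff_right hp.out.one_lt).1 h4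
    have hba : b ≠ a := by
      rintro rfl
      apply hχ'
      obtain ⟨k, -, hk⟩ := H (liftIrr N ψ) χ hψ' (by rw [charDegree_liftIrr, ha, hb])
      intro n hn
      rw [hk n, hk 1, one_pow]
      simp only [liftIrr_apply]
      have : ((n ^ k : X) : X ⧸ N) = 1 := by
        rw [QuotientGroup.mk_pow, (QuotientGroup.eq_one_iff n).2 hn, one_pow]
      rw [this, QuotientGroup.mk_one]
    omega
  have hnonlin : ∀ χ ∈ C, charDegree (χ : X → ℂ) ≠ 1 := by
    intro χ hχ h1
    have hχ' : ¬ ∀ n ∈ N, (χ : X → ℂ) n = (χ : X → ℂ) 1 := (Finset.mem_filter.1 hχ).2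
    apply hχ'
    intro n hn
    have h2 := (deg_eq_one_iff χ).1 h1
    rw [lin_apply_commutator χ h2 (hNc hn), h2]
  -- the sums of squares
  have hsumS : (∑ χ ∈ S, charDegree (χ : X → ℂ) ^ 2) * p = Nat.card X := by
    have h := sum_sq_ker_central N hNZ S (fun χ => by simp [S])
    rw [hNp] at h
    have h2 : ((∑ χ ∈ S, charDegree (χ : X → ℂ) ^ 2) * p : ℕ) = (Nat.card X : ℂ) := by
      rw [← h]
      push_cast
      congr 1
      exact Finset.sum_congr rfl fun χ _ => by rw [deg_cast]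
    exact_mod_cast h2
  have hsumAll : ∑ χ : IrrCharacter X, charDegree (χ : X → ℂ) ^ 2 = Nat.card X := by
    have h := CompleteCor.sum_sq_degrees (G := X)
    have h2 : ((∑ χ : IrrCharacter X, charDegree (χ : X → ℂ) ^ 2 : ℕ) : ℂ) = (Nat.card X : ℂ) := by
      rw [← h]
      push_cast
      exact Finset.sum_congr rfl fun χ _ => by rw [deg_cast]
    exact_mod_cast h2
  have hsplit : ∑ χ ∈ C, charDegree (χ : X → ℂ) ^ 2 + ∑ χ ∈ S, charDegree (χ : X → ℂ) ^ 2 = Nat.card X := by
    rw [← hsumAll, add_comm]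
    exact Finset.sum_filter_add_sum_filter_not _ _ _
  have hS2 : ∑ χ ∈ S, charDegree (χ : X → ℂ) ^ 2 = Nat.card (X ⧸ N) := by
    rw [hcardX, mul_comm] at hsumS
    exact Nat.eq_of_mul_eq_mul_left hp.out.pos hsumS
  have hC2 : ∑ χ ∈ C, charDegree (χ : X → ℂ) ^ 2 + Nat.card (X ⧸ N) = p * Nat.card (X ⧸ N) := by
    rw [← hS2, hsplit, hcardX, hS2]
  -- fibers
  set T := Nat.totient (p ^ (z + 2)) with hT
  have hTv : T = p ^ (z + 1) * (p - 1) := Nat.totient_prime_pow_succ hp.out (z + 1)
  let t : Finset ℕ := (Finset.range a).image fun b => p ^ b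
  have hmaps : ∀ χ ∈ C, charDegree (χ : X → ℂ) ∈ t := by
    intro χ hχ
    obtain ⟨b, hb, hd⟩ := hbound χ hχ
    exact Finset.mem_image.2 ⟨b, Finset.mem_range.2 hb, hd.symm⟩
  have hupper : ∑ χ ∈ C, charDegree (χ : X → ℂ) ^ 2 ≤ ∑ y ∈ t, T * y ^ 2 := by
    rw [← Finset.sum_fiberwise_of_maps_to hmaps]
    refine Finset.sum_le_sum fun y _ => ?_
    have h1 : ∑ χ ∈ C.filter (fun χ : IrrCharacter X => charDegree (χ : X → ℂ) = y), charDegree (χ : X → ℂ) ^ 2 =
        (C.filter (fun χ : IrrCharacter X => charDegree (χ : X → ℂ) = y)).card * y ^ 2 := by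
      rw [Finset.sum_congr rfl (fun χ hχ => by rw [(Finset.mem_filter.1 hχ).2]), Finset.sum_const, smul_eq_mul]
    rw [h1]
    refine Nat.mul_le_mul_right _ ?_
    by_cases hemp : (C.filter (fun χ : IrrCharacter X => charDegree (χ : X → ℂ) = y)).Nonempty
    · obtain ⟨ψ₀, hψ₀⟩ := hemp
      have hψ₀' := Finset.mem_filter.1 hψ₀
      refine card_fiber_le hX hne H hexp ψ₀ (hnonlin ψ₀ hψ₀'.1) _ ?_
      intro ψ hψ1
      rw [hψ₀'.2, (Finset.mem_filter.1 hψ1).2]
    · rw [Finset.not_nonempty_iff_eq_empty.1 hemp]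
      simp
  have hupper2 : ∑ y ∈ t, T * y ^ 2 = T * ∑ b ∈ Finset.range a, (p ^ b) ^ 2 := by
    rw [Finset.sum_image, Finset.mul_sum]
    intro x _ y _ h
    exact Nat.pow_right_injective hp2 h
  have hlt := sum_lt p hp2 a
  -- final arithmetic
  rw [hupper2, hTv] at hupper
  set Sb := ∑ b ∈ Finset.range a, (p ^ b) ^ 2
  set Q := Nat.card (X ⧸ N)
  have hp1 : 1 ≤ p - 1 := by omega
  have hp' : p = (p - 1) + 1 := by omega
  have h10 : (p - 1) * Q = ∑ χ ∈ C, charDegree (χ : X → ℂ) ^ 2 := by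
    have : p * Q = (p - 1) * Q + Q := by
      conv_lhs => rw [hp']
      ring
    omega
  have h11 : (p - 1) * Q ≤ p ^ (z + 1) * (p - 1) * Sb := by
    rw [h10]; exact hupper
  rw [← hdeg] at h11
  have h12 : (p - 1) * p ^ z * (p ^ a) ^ 2 ≤ (p - 1) * p ^ z * (p * Sb) := by
    calc (p - 1) * p ^ z * (p ^ a) ^ 2 = (p - 1) * ((p ^ a) ^ 2 * p ^ z) := by ring
      _ ≤ p ^ (z + 1) * (p - 1) * Sb := h11
      _ = (p - 1) * p ^ z * (p * Sb) := by ring
  have h13 : 0 < (p - 1) * p ^ z := by positivity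
  have h14 := Nat.le_of_mul_le_mul_left h12 h13
  omega

/-- Forward direction. -/
theorem card_commutator_eq : ∀ (n : ℕ) (X : Type u) [Group X] [Finite X], Nat.card X = n → IsPGroup p X →
    ¬ IsMulCommutative X → GalCond X → Nat.card (commutator X) = p := by
  intro n
  induction n using Nat.strong_induction_on with
  | _ n ih =>
    intro X _ _ hn hX hna H
    classical
    have hne : commutator X ≠ ⊥ := by
      intro h
      apply hna
      refine ⟨⟨fun a b => ?_⟩⟩
      have h1 : a * b * a⁻¹ * b⁻¹ ∈ commutator X := by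
        rw [commutator_def]
        exact Subgroup.commutator_mem_commutator (Subgroup.mem_top a) (Subgroup.mem_top b)
      rw [h, Subgroup.mem_bot] at h1
      exact mul_inv_eq_iff_eq_mul.1 (mul_inv_eq_one.1 h1)
    have hcap := Cfsg.Agent.Lib.PGroup.Basic.inf_center_ne_bot hX hne
    -- a central element of order `p` in the commutator subgroup
    obtain ⟨n₀, hn₀, hn₀Z, hn₀p⟩ : ∃ n₀ : X, n₀ ∈ commutator X ∧ n₀ ∈ Subgroup.center X ∧ orderOf n₀ = p := by
      obtain ⟨⟨y, hy⟩, hy1⟩ := Subgroup.ne_bot_iff_exists_ne_one.1 hcap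
      have hy1' : y ≠ 1 := fun h => hy1 (Subtype.ext h)
      obtain ⟨e, he⟩ := (IsPGroup.iff_orderOf).1 hX y
      have he0 : e ≠ 0 := by
        rintro rfl
        simp at he
        exact hy1' he
      obtain ⟨f, rfl⟩ := Nat.exists_eq_succ_of_ne_zero he0
      refine ⟨y ^ (p ^ f), Subgroup.pow_mem _ hy.1 _, Subgroup.pow_mem _ hy.2 _, ?_⟩
      rw [orderOf_pow' _ (pow_ne_zero _ hp.out.ne_zero), he]
      have h1 : Nat.gcd (p ^ (f + 1)) (p ^ f) = p ^ f := Nat.gcd_eq_right (pow_dvd_pow _ (Nat.le_succ f))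
      rw [h1, pow_succ, Nat.mul_div_cancel_left _ (pow_pos hp.out.pos f)]
    let N : Subgroup X := Subgroup.zpowers n₀
    have hNZ : N ≤ Subgroup.center X := (Subgroup.zpowers_le).2 hn₀Z
    have hNc : N ≤ commutator X := (Subgroup.zpowers_le).2 hn₀
    have hNp : Nat.card N = p := by rw [Nat.card_zpowers, hn₀p]
    haveI hNn : N.Normal := by
      constructor
      intro a ha g
      have := Subgroup.mem_center_iff.1 (hNZ ha) g
      rw [this, mul_inv_cancel_right]
      exact ha
    by_cases hEq : N = commutator X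
    · rw [← hEq, hNp]
    · exfalso
      have hcomm : ¬ IsMulCommutative (X ⧸ N) := by
        intro hc
        apply hEq
        apply le_antisymm hNc
        rw [commutator_def, Subgroup.commutator_le]
        intro a _ b _
        rw [← QuotientGroup.eq_one_iff, commutatorElement_def]
        have := hc.is_comm.comm (a : X ⧸ N) (b : X ⧸ N)
        simp only [QuotientGroup.mk_mul, QuotientGroup.mk_inv, this]
        group
      have hcard : Nat.card (X ⧸ N) < n := by
        rw [← hn]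
        have h := N.card_mul_index
        rw [hNp] at h
        have h2 : Nat.card (X ⧸ N) = N.index := rfl
        rw [h2, ← h]
        have h3 : 0 < N.index := Nat.pos_of_ne_zero (Subgroup.index_ne_zero_of_finite)
        nlinarith [hp.out.two_le]
      have hQ := ih _ hcard (X ⧸ N) rfl (hX.to_quotient N) hcomm (galCond_quotient N H)
      exact step2 hX H N hNZ hNc hNp hQ


/-- The central homomorphism of a character. -/
noncomputable def centralHom {X : Type*} [Group X] [Finite X] (χ : IrrCharacter X) : Subgroup.center X →* ℂ :=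
  { toFun := fun z => (χ : X → ℂ) z / (χ : X → ℂ) 1
    map_one' := by simp [Ortho.irr_apply_one_ne_zero χ.2]
    map_mul' := by
      intro a b
      have hne : (χ : X → ℂ) 1 ≠ 0 := Ortho.irr_apply_one_ne_zero χ.2
      have := central_mul_eq χ.2 a.2 (b : X)
      simp only [Subgroup.coe_mul]
      field_simp
      rw [mul_comm]
      linear_combination this }

theorem centralHom_apply {X : Type*} [Group X] [Finite X] (χ : IrrCharacter X) (z : Subgroup.center X) :
    centralHom χ z = (χ : X → ℂ) z / (χ : X → ℂ) 1 := rfl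

/-- If `X'` has prime order and the centre is cyclic, then nonlinear characters are faithful on the centre. -/
theorem centralHom_injective {X : Type*} [Group X] [Finite X] (hX : IsPGroup p X)
    (hZ : IsCyclic (Subgroup.center X)) (hc : Nat.card (commutator X) = p) (χ : IrrCharacter X)
    (h1 : (χ : X → ℂ) 1 ≠ 1) : Function.Injective (centralHom χ) := by
  classical
  haveI := Fintype.ofFinite X
  have hne : (χ : X → ℂ) 1 ≠ 0 := Ortho.irr_apply_one_ne_zero χ.2
  have key : ∀ z : Subgroup.center X, (χ : X → ℂ) z = (χ : X → ℂ) 1 → z = 1 := by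
    intro z hz
    by_contra hz1
    have hz1' : (z : X) ≠ 1 := fun h => hz1 (Subtype.ext h)
    -- an element of order `p` in `⟨z⟩`
    obtain ⟨e, he⟩ := (IsPGroup.iff_orderOf).1 hX (z : X)
    have he0 : e ≠ 0 := by
      rintro rfl
      simp at he
      exact hz1 (orderOf_eq_one_iff.1 he)
    obtain ⟨f, rfl⟩ := Nat.exists_eq_succ_of_ne_zero he0
    let u : Subgroup.center X := z ^ (p ^ f)
    have hu : orderOf (u : X) = p := by
      simp only [u, Subgroup.coe_pow]
      rw [orderOf_pow' _ (pow_ne_zero _ hp.out.ne_zero), he]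
      have h1 : Nat.gcd (p ^ (f + 1)) (p ^ f) = p ^ f := Nat.gcd_eq_right (pow_dvd_pow _ (Nat.le_succ f))
      rw [h1, pow_succ, Nat.mul_div_cancel_left _ (pow_pos hp.out.pos f)]
    have hu1 : orderOf u = p := by
      rw [← hu]
      exact (Subgroup.orderOf_coe u).symm
    -- the elements of order dividing `p` in the centre
    have hcount := IsCyclic.card_pow_eq_one_le (α := Subgroup.center X) hp.out.pos
    have hzp : (Subgroup.zpowers u : Set (Subgroup.center X)) = {a | a ^ p = 1} := by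
      have hsub : (Finset.univ.filter fun a : Subgroup.center X => a ∈ Subgroup.zpowers u) ⊆
          Finset.univ.filter fun a : Subgroup.center X => a ^ p = 1 := by
        intro a ha
        simp only [Finset.mem_filter, Finset.mem_univ, true_and] at ha ⊢
        obtain ⟨k, rfl⟩ := (mem_powers_iff_mem_zpowers).2 ha
        rw [← pow_mul, mul_comm, pow_mul, ← hu1, pow_orderOf_eq_one, one_pow]
      have hcard : (Finset.univ.filter fun a : Subgroup.center X => a ∈ Subgroup.zpowers u).card = p := by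
        rw [← Fintype.card_subtype, ← Nat.card_eq_fintype_card]
        change Nat.card (Subgroup.zpowers u) = p
        rw [Nat.card_zpowers, hu1]
      have heq := Finset.eq_of_subset_of_card_le hsub (by rw [hcard]; exact hcount)
      ext a
      have := Finset.ext_iff.1 heq a
      simpa using this
    have hker : (χ : X → ℂ) (u : X) = (χ : X → ℂ) 1 := by
      simp only [u, Subgroup.coe_pow]
      exact apply_pow_eq_one_of_ker χ.2 hz _
    -- the commutator subgroup lies in the powers of `u`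
    apply h1
    apply one_eq_one_of_commutator_le_ker χ.2
    intro c hcm
    have hcZ := le_center_of_card_prime hX (commutator X) hc hcm
    have hcp : c ^ p = 1 := by
      have := pow_card_eq_one' (x := (⟨c, hcm⟩ : commutator X))
      rw [hc] at this
      exact congrArg Subtype.val this
    have hmem : (⟨c, hcZ⟩ : Subgroup.center X) ∈ (Subgroup.zpowers u : Set (Subgroup.center X)) := by
      rw [hzp]
      apply Subtype.ext
      exact hcp
    obtain ⟨k, hk⟩ := (mem_powers_iff_mem_zpowers).2 hmem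
    have hk' : (u : X) ^ k = c := by
      have := congrArg Subtype.val hk
      simpa using this
    rw [← hk']
    exact apply_pow_eq_one_of_ker χ.2 hker k
  intro a b hab
  have hne : (χ : X → ℂ) 1 ≠ 0 := Ortho.irr_apply_one_ne_zero χ.2
  have h2 : (χ : X → ℂ) ((a * b⁻¹ : Subgroup.center X) : X) = (χ : X → ℂ) 1 := by
    have h3 := (centralHom χ).map_mul a b⁻¹
    have h4 := (centralHom χ).map_mul b b⁻¹
    rw [hab, ← h4, mul_inv_cancel, map_one, centralHom_apply] at h3
    field_simp at h3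
    exact h3
  exact mul_inv_eq_one.1 (key _ h2)

/-- The converse direction. -/
theorem converse {X : Type*} [Group X] [Finite X] (hX : IsPGroup p X)
    (hZ : IsCyclic (Subgroup.center X)) (hc : Nat.card (commutator X) = p) : GalCond X := by
  classical
  haveI := Fintype.ofFinite X
  intro χ ψ h1 h2
  have h1χ := deg_one_of_ne χ h1
  have h1ψ : (ψ : X → ℂ) 1 ≠ 1 := deg_one_of_ne ψ (h2 ▸ h1)
  have h11 : (χ : X → ℂ) 1 = (ψ : X → ℂ) 1 := by
    rw [← deg_cast, ← deg_cast, h2]
  have hinjχ := centralHom_injective hX hZ hc χ h1χ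
  have hinjψ := centralHom_injective hX hZ hc ψ h1ψ
  obtain ⟨z₀, hz₀⟩ := hZ
  have hord : orderOf z₀ = Nat.card (Subgroup.center X) := orderOf_eq_card_of_forall_mem_zpowers hz₀
  have hprim : ∀ f : Subgroup.center X →* ℂ, Function.Injective f → IsPrimitiveRoot (f z₀) (orderOf z₀) := by
    intro f hf
    rw [IsPrimitiveRoot.iff_def]
    constructor
    · rw [← map_pow, pow_orderOf_eq_one, map_one]
    · intro l hl
      rw [← map_pow, ← map_one f] at hl
      exact orderOf_dvd_of_pow_eq_one (hf hl)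
  have hζ := hprim _ hinjχ
  have hξ := hprim _ hinjψ
  have hcardpos : 0 < orderOf z₀ := orderOf_pos z₀
  haveI : NeZero (orderOf z₀) := ⟨hcardpos.ne'⟩
  obtain ⟨i, -, hi⟩ := hζ.eq_pow_of_pow_eq_one hξ.pow_eq_one
  have hcop : i.Coprime (orderOf z₀) := by
    have := hξ
    rw [← hi] at this
    exact (hζ.pow_iff_coprime hcardpos i).1 this
  have hpZ : p ∣ orderOf z₀ := by
    rw [hord, ← hc]
    have := Subgroup.card_dvd_of_le (le_center_of_card_prime hX (commutator X) hc)
    exact this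
  have hcopp : i.Coprime p := Nat.Coprime.coprime_dvd_right hpZ hcop
  obtain ⟨m, hm⟩ := (IsPGroup.iff_card).1 hX
  refine ⟨i, by rw [hm]; exact Nat.Coprime.pow_right m hcopp, fun g => ?_⟩
  have hne : (χ : X → ℂ) 1 ≠ 0 := Ortho.irr_apply_one_ne_zero χ.2
  have hne' : (ψ : X → ℂ) 1 ≠ 0 := Ortho.irr_apply_one_ne_zero ψ.2
  by_cases hg : g ∈ Subgroup.center X
  · obtain ⟨t, ht⟩ := (mem_powers_iff_mem_zpowers).2 (hz₀ ⟨g, hg⟩)
    have hψv : centralHom ψ ⟨g, hg⟩ = (centralHom χ ⟨g, hg⟩) ^ i := by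
      rw [← ht, map_pow, map_pow, ← hi, ← pow_mul, ← pow_mul, mul_comm]
    have hχv : centralHom χ ((⟨g, hg⟩ : Subgroup.center X) ^ i) = (centralHom χ ⟨g, hg⟩) ^ i := map_pow _ _ _
    rw [← hψv] at hχv
    rw [centralHom_apply, centralHom_apply] at hχv
    simp only [Subgroup.coe_pow] at hχv
    rw [← h11] at hχv
    field_simp at hχv
    exact hχv.symm
  · rw [eq_zero_of_not_mem_center hX hc ψ.2 h1ψ hg]
    symm
    apply eq_zero_of_not_mem_center hX hc χ.2 h1χ
    intro hgi
    apply hg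
    have h3 : ((g : X ⧸ Subgroup.center X)) ^ i = 1 := by
      rw [← QuotientGroup.mk_pow, QuotientGroup.eq_one_iff]
      exact hgi
    have h4 : orderOf (g : X ⧸ Subgroup.center X) ∣ i := orderOf_dvd_of_pow_eq_one h3
    have h5 : orderOf (g : X ⧸ Subgroup.center X) ∣ p ^ m := by
      rw [← hm]
      exact (orderOf_dvd_natCard _).trans (Subgroup.index_dvd_card _)
    have h6 : Nat.Coprime i (p ^ m) := Nat.Coprime.pow_right m hcopp
    have h7 : orderOf (g : X ⧸ Subgroup.center X) = 1 :=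
      Nat.eq_one_of_dvd_coprimes h6 h4 h5
    rw [orderOf_eq_one_iff, QuotientGroup.eq_one_iff] at h7
    exact h7

/-- Main theorem -/
theorem result {P : Type*} [Group P] [Finite P] (p : ℕ) [Fact p.Prime] (hP : IsPGroup p P) (hna : ¬ IsMulCommutative P) :
    (∀ χ ψ : Cfsg.IrrCharacter P, Cfsg.charDegree (χ : P → ℂ) ≠ 1 → Cfsg.charDegree (χ : P → ℂ) = Cfsg.charDegree (ψ : P → ℂ) → ∃ k : ℕ, Nat.Coprime k (Nat.card P) ∧ ∀ g : P, (ψ : P → ℂ) g = (χ : P → ℂ) (g ^ k)) ↔
      (IsCyclic (Subgroup.center P) ∧ Nat.card (commutator P) = p) := by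
  constructor
  · intro H
    have hc := card_commutator_eq (p := p) _ P rfl hP hna H
    exact ⟨isCyclic_center H hc, hc⟩
  · rintro ⟨hZ, hc⟩
    exact converse hP hZ hc

end Cfsg.Agent.S4845
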