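import Cfsg.Statements.S4811
import Mathlib
import Cfsg.Agent.Lib.Char.ThreeDeg.ChiefDich
import Cfsg.Agent.Lib.Char.FrobPair

set_option autoImplicit false

open Cfsg Cfsg.Agent.Lib.Char.ThreeDeg

namespace Cfsg.Agent.S4811

universe u

theorem card_cc_le_two {V : Type*} (Γ : SimpleGraph V) (x y : V)
    (h : ∀ v, Γ.Reachable x v ∨ Γ.Reachable y v) : Nat.card Γ.ConnectedComponent ≤ 2 := by
  classical
  let f : Bool → Γ.ConnectedComponent := fun b =>
    if b then Γ.connectedComponentMk x else Γ.connectedComponentMk y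
  have hf : Function.Surjective f := by
    intro c
    induction c using SimpleGraph.ConnectedComponent.ind with
    | h v =>
      rcases h v with h1 | h1
      · exact ⟨true, SimpleGraph.ConnectedComponent.sound h1⟩
      · exact ⟨false, SimpleGraph.ConnectedComponent.sound h1⟩
  calc Nat.card _ ≤ Nat.card Bool := Nat.card_le_card_of_surjective f hf
    _ = 2 := by simp

theorem reach_of_dvd {G : Type*} [Group G] {d : ℕ} (hd : d ∈ charDegrees G)
    (v w : degreePrimes G) (hv : (v : ℕ) ∣ d) (hw : (w : ℕ) ∣ d) :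
    ((degreeGraph G).induce (degreePrimes G)).Reachable v w := by
  by_cases h : (v : ℕ) = w
  · rw [Subtype.ext h]
  · apply SimpleGraph.Adj.reachable
    show (degreeGraph G).Adj v w
    exact ⟨h, v.2.1, w.2.1, d, hd,
      Nat.Coprime.mul_dvd_of_dvd_of_dvd ((Nat.coprime_primes v.2.1 w.2.1).2 h) hv hw⟩

theorem main {G : Type u} [Group G] [Finite G] [Group.IsSolvable G] :
    Nat.card ((degreeGraph G).induce (degreePrimes G)).ConnectedComponent ≤ 2 := by
  classical
  haveI : Fintype G := Fintype.ofFinite _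
  by_cases hnab : commutator G = ⊥
  · -- no vertices
    have hemp : IsEmpty (degreePrimes G) := by
      refine ⟨fun v => ?_⟩
      obtain ⟨q, hq, d, ⟨χ, hχ⟩, hqd⟩ := v
      have h1 : ∀ a b : G, a * b = b * a := by
        intro a b
        have h2 : a * b * a⁻¹ * b⁻¹ ∈ commutator G := comm_mem a b
        rw [hnab, Subgroup.mem_bot] at h2
        calc a * b = a * b * a⁻¹ * b⁻¹ * (b * a) := by group
          _ = b * a := by rw [h2, one_mul]
      have h3 := Cfsg.Agent.Lib.Char.FrobPair.degree_eq_one_of_comm h1 χ.2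
      have h4 : d = 1 := by
        rw [← hχ]
        unfold charDegree
        rw [h3]
        simp
      rw [h4] at hqd
      exact hq.one_lt.ne' (Nat.dvd_one.1 hqd)
    have hemp2 : IsEmpty ((degreeGraph G).induce (degreePrimes G)).ConnectedComponent := by
      refine ⟨fun c => ?_⟩
      induction c using SimpleGraph.ConnectedComponent.ind with
      | h v => exact hemp.false v
    rw [Nat.card_of_isEmpty]
    norm_num
  obtain ⟨p, f, hp, hf1, ⟨ξ, hξ⟩, hkey⟩ := chief_top hnab
  have hfd : f ∈ charDegrees G := ⟨ξ, hξ⟩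
  let x : degreePrimes G := ⟨f.minFac, Nat.minFac_prime (by omega), f, hfd, Nat.minFac_dvd f⟩
  have hx : (x : ℕ) ∣ f := Nat.minFac_dvd f
  refine card_cc_le_two _ x (if hp' : p ∈ degreePrimes G then ⟨p, hp'⟩ else x) ?_
  intro v
  obtain ⟨q, hq, d, ⟨χ, hχ⟩, hqd⟩ := v
  have hd : d ∈ charDegrees G := ⟨χ, hχ⟩
  by_cases hpd : p ∣ d
  · right
    have hp' : p ∈ degreePrimes G := ⟨hp, d, hd, hpd⟩
    rw [dif_pos hp']
    exact reach_of_dvd hd _ _ hpd hqd
  · left
    rw [← hχ] at hpd
    rcases hkey χ hpd with ⟨s, hs, hsf, hsd⟩ | ⟨ζ, hζ⟩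
    · rw [hχ] at hsd
      have h1 := reach_of_dvd hfd x ⟨s, hs, f, hfd, hsf⟩ hx hsf
      have h2 := reach_of_dvd hd ⟨s, hs, f, hfd, hsf⟩ ⟨q, hq, d, hd, hqd⟩ hsd hqd
      exact h1.trans h2
    · rw [hχ] at hζ
      exact reach_of_dvd (d := f * d) ⟨ζ, hζ⟩ _ _ (hx.mul_right _) (hqd.mul_left _)

theorem result {G : Type*} [Group G] [Finite G] [Group.IsSolvable G] :
    Nat.card ((Cfsg.degreeGraph G).induce (Cfsg.degreePrimes G)).ConnectedComponent ≤ 2 :=
  main

end Cfsg.Agent.S4811
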