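import Cfsg.Statements.S3975
import Cfsg.Agent.S3993
import Mathlib

set_option autoImplicit false
open Cfsg
open scoped Pointwise

namespace Cfsg.Agent.S3975

section Count

open scoped Classical

variable {G : Type*} [Group G] [Fintype G]

/-- The order of the stabilizer of a finite subset divides its size. -/
theorem card_stabilizer_dvd (S : Finset G) :
    Nat.card (MulAction.stabilizer G S) ∣ S.card := by
  set H := MulAction.stabilizer G S with hH
  have hmem : ∀ h ∈ H, ∀ x ∈ S, h * x ∈ S := by
    intro h hh x hx
    have h1 : h • S = S := hh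
    rw [← h1]
    exact Finset.smul_mem_smul_finset hx
  have key : S.card = ∑ x ∈ S, 1 := by simp
  rw [key]
  let Hf : Finset G := Finset.univ.filter (· ∈ H)
  have hHf : Hf.card = Nat.card H := (Nat.subtype_card Hf (fun x => by simp [Hf])).symm
  refine Cfsg.Agent.S3993.dvd_sum_of_fibers S (fun x => Hf.image (· * x)) _ _ fun x₀ hx₀ => ?_
  have hfib : S.filter (fun x => Hf.image (· * x) = Hf.image (· * x₀)) = Hf.image (· * x₀) := by
    ext y
    simp only [Finset.mem_filter]
    constructor
    · rintro ⟨_, h⟩
      rw [← h]
      exact Finset.mem_image.mpr ⟨1, by simp [Hf, H.one_mem], by simp⟩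
    · intro hy
      obtain ⟨h, hh, rfl⟩ := Finset.mem_image.mp hy
      have hh' : h ∈ H := by simpa [Hf] using hh
      refine ⟨hmem h hh' x₀ hx₀, ?_⟩
      ext z
      simp only [Finset.mem_image, Hf, Finset.mem_filter, Finset.mem_univ, true_and]
      constructor
      · rintro ⟨a, ha, rfl⟩
        exact ⟨a * h, H.mul_mem ha hh', by group⟩
      · rintro ⟨a, ha, rfl⟩
        exact ⟨a * h⁻¹, H.mul_mem ha (H.inv_mem hh'), by group⟩
  rw [Finset.sum_const, smul_eq_mul, mul_one, hfib,
    Finset.card_image_of_injective _ (mul_left_injective x₀), hHf]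

/-- The number of subsets with a given stabilizer of full size is the index. -/
theorem card_fiber {q : ℕ} (hq : 0 < q) (H : Subgroup G) (hH : Nat.card H = q) :
    (((Finset.univ : Finset G).powersetCard q).filter
      (fun S => MulAction.stabilizer G S = H)).card * q = Fintype.card G := by
  let Hf : Finset G := Finset.univ.filter (· ∈ H)
  have hHf : Hf.card = q := by
    rw [← hH]
    exact (Nat.subtype_card Hf (fun x => by simp [Hf])).symm
  let C : G → Finset G := fun s => Hf.image (· * s)
  have hCcard : ∀ s, (C s).card = q := fun s => by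
    rw [Finset.card_image_of_injective _ (mul_left_injective s), hHf]
  have hself : ∀ s, s ∈ C s := fun s =>
    Finset.mem_image.mpr ⟨1, by simp [Hf, H.one_mem], by simp⟩
  have hCeq : ∀ s t, t ∈ C s → C t = C s := by
    intro s t ht
    obtain ⟨h, hh, rfl⟩ := Finset.mem_image.mp ht
    have hh' : h ∈ H := by simpa [Hf] using hh
    ext z
    simp only [C, Finset.mem_image, Hf, Finset.mem_filter, Finset.mem_univ, true_and]
    constructor
    · rintro ⟨a, ha, rfl⟩
      exact ⟨a * h, H.mul_mem ha hh', by group⟩
    · rintro ⟨a, ha, rfl⟩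
      exact ⟨a * h⁻¹, H.mul_mem ha (H.inv_mem hh'), by group⟩
  have hstab : ∀ s, MulAction.stabilizer G (C s) = H := by
    intro s
    ext g
    rw [MulAction.mem_stabilizer_iff]
    constructor
    · intro hg
      have h1 : g * s ∈ C s := by
        have h2 : g • s ∈ g • (C s) := Finset.smul_mem_smul_finset (hself s)
        rw [hg] at h2
        exact h2
      obtain ⟨h, hh, he⟩ := Finset.mem_image.mp h1
      have hh' : h ∈ H := by simpa [Hf] using hh
      rwa [← mul_right_cancel he]
    · intro hg
      ext z
      rw [Finset.mem_smul_finset]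
      simp only [C, Finset.mem_image, Hf, Finset.mem_filter, Finset.mem_univ, true_and, smul_eq_mul]
      constructor
      · rintro ⟨y, ⟨a, ha, rfl⟩, rfl⟩
        exact ⟨g * a, H.mul_mem hg ha, by group⟩
      · rintro ⟨a, ha, rfl⟩
        exact ⟨g⁻¹ * a * s, ⟨g⁻¹ * a, H.mul_mem (H.inv_mem hg) ha, rfl⟩, by group⟩
  have hfilter : ((Finset.univ : Finset G).powersetCard q).filter
      (fun S => MulAction.stabilizer G S = H) = Finset.univ.image C := by
    ext S
    simp only [Finset.mem_filter, Finset.mem_powersetCard, Finset.mem_image, Finset.mem_univ,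
      true_and, Finset.subset_univ]
    constructor
    · rintro ⟨hS, hst⟩
      have hne : S.Nonempty := Finset.card_pos.mp (by omega)
      obtain ⟨s, hs⟩ := hne
      refine ⟨s, Finset.eq_of_subset_of_card_le ?_ (by rw [hS, hCcard])⟩
      intro z hz
      obtain ⟨h, hh, rfl⟩ := Finset.mem_image.mp hz
      have hh' : h ∈ H := by simpa [Hf] using hh
      rw [← hst] at hh'
      have h1 : h • S = S := hh'
      rw [← h1]
      exact Finset.smul_mem_smul_finset hs
    · rintro ⟨s, rfl⟩
      exact ⟨hCcard s, hstab s⟩
  have h1 : Fintype.card G = ∑ T ∈ Finset.univ.image C,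
      ((Finset.univ : Finset G).filter (fun s => C s = T)).card := by
    rw [← Finset.card_univ]
    exact Finset.card_eq_sum_card_image C Finset.univ
  have h2 : ∀ T ∈ Finset.univ.image C,
      ((Finset.univ : Finset G).filter (fun s => C s = T)).card = q := by
    intro T hT
    obtain ⟨s, -, rfl⟩ := Finset.mem_image.mp hT
    rw [← hCcard s]
    congr 1
    ext t
    simp only [Finset.mem_filter, Finset.mem_univ, true_and]
    constructor
    · intro ht
      rw [← ht]
      exact hself t
    · intro ht
      exact hCeq s t ht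
  rw [hfilter, h1, Finset.sum_const_nat h2]

/-- The count of Wielandt. -/
theorem choose_eq {p β : ℕ} (hp : p.Prime) (hdiv : p ^ β ∣ Fintype.card G) :
    ∃ t : ℕ, (Fintype.card G).choose (p ^ β) =
      Nat.card {H : Subgroup G // Nat.card H = p ^ β} * (Fintype.card G / p ^ β) +
        p * (Fintype.card G / p ^ β) * t := by
  obtain ⟨m, hm⟩ := hdiv
  have hqpos : 0 < p ^ β := pow_pos hp.pos β
  have hmdiv : Fintype.card G / p ^ β = m := by
    rw [hm]
    exact Nat.mul_div_cancel_left _ hqpos
  rw [hmdiv]
  set q := p ^ β with hq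
  let X : Finset (Finset G) := (Finset.univ : Finset G).powersetCard q
  let st : Finset G → Subgroup G := fun S => MulAction.stabilizer G S
  let A := X.filter (fun S => Nat.card (st S) = q)
  let B := X.filter (fun S => ¬ Nat.card (st S) = q)
  have hX : X.card = (Fintype.card G).choose q := by
    rw [Finset.card_powersetCard, Finset.card_univ]
  have hAB : A.card + B.card = X.card := Finset.card_filter_add_card_filter_not _
  -- the `A` part
  let Hs : Finset (Subgroup G) := Finset.univ.filter (fun H => Nat.card H = q)
  have hHs : Nat.card {H : Subgroup G // Nat.card H = q} = Hs.card :=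
    Nat.subtype_card Hs (fun H => by simp [Hs])
  have hmpos : 0 < m := by
    apply Nat.pos_of_ne_zero
    rintro rfl
    rw [mul_zero] at hm
    exact Fintype.card_ne_zero hm
  have hA : A.card = Hs.card * m := by
    rw [Finset.card_eq_sum_card_fiberwise (f := st) (t := Hs)]
    · refine Finset.sum_const_nat fun H hH => ?_
      have hHq : Nat.card H = q := (Finset.mem_filter.mp hH).2
      have h1 := card_fiber hqpos H hHq
      have h2 : A.filter (fun S => st S = H) = X.filter (fun S => MulAction.stabilizer G S = H) := by
        ext S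
        simp only [A, Finset.mem_filter]
        constructor
        · rintro ⟨⟨h3, -⟩, h4⟩
          exact ⟨h3, h4⟩
        · rintro ⟨h3, h4⟩
          exact ⟨⟨h3, by rw [show st S = H from h4]; exact hHq⟩, h4⟩
      rw [h2]
      have h3 : (X.filter (fun S => MulAction.stabilizer G S = H)).card * q = m * q := by
        rw [h1, hm, mul_comm]
      exact Nat.eq_of_mul_eq_mul_right hqpos h3
    · intro S hS
      have := (Finset.mem_filter.mp hS).2
      exact Finset.mem_coe.mpr (Finset.mem_filter.mpr ⟨Finset.mem_univ _, this⟩)
  -- the `B` part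
  have hB : p * m ∣ B.card := by
    have key : B.card = ∑ S ∈ B, 1 := by simp
    rw [key]
    refine Cfsg.Agent.S3993.dvd_sum_of_fibers B (fun S => MulAction.orbit G S) _ _ fun S₀ hS₀ => ?_
    obtain ⟨hS₀X, hS₀q⟩ := Finset.mem_filter.mp hS₀
    have hS₀card : S₀.card = q := (Finset.mem_powersetCard.mp hS₀X).2
    -- size of the orbit
    have hprod : ∀ S : Finset G, Nat.card (MulAction.orbit G S) * Nat.card (st S) = Fintype.card G := by
      intro S
      have := Nat.card_congr (MulAction.orbitProdStabilizerEquivGroup G S)
      rw [Nat.card_prod, Nat.card_eq_fintype_card (α := G)] at this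
      exact this
    have hfib : (B.filter (fun S => MulAction.orbit G S = MulAction.orbit G S₀)).card =
        Nat.card (MulAction.orbit G S₀) := by
      symm
      apply Nat.subtype_card
      intro S
      simp only [Finset.mem_filter]
      constructor
      · rintro ⟨-, h⟩
        show S ∈ MulAction.orbit G S₀
        rw [← h]
        exact MulAction.mem_orbit_self S
      · intro h
        have h' : S ∈ MulAction.orbit G S₀ := h
        have hoeq : MulAction.orbit G S = MulAction.orbit G S₀ := MulAction.orbit_eq_iff.mpr h'
        refine ⟨?_, hoeq⟩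
        obtain ⟨g, rfl⟩ := h'
        refine Finset.mem_filter.mpr ⟨Finset.mem_powersetCard.mpr ⟨Finset.subset_univ _, ?_⟩, ?_⟩
        · show (g • S₀).card = q
          rw [Finset.card_smul_finset, hS₀card]
        · intro h2
          apply hS₀q
          have h3 := hprod S₀
          have h4 := hprod (g • S₀)
          have hoeq' : (MulAction.orbit G (g • S₀) : Set (Finset G)) = MulAction.orbit G S₀ := hoeq
          rw [hoeq'] at h4
          have hpos : 0 < Nat.card (MulAction.orbit G S₀) := by
            haveI : Nonempty (MulAction.orbit G S₀) := ⟨⟨S₀, MulAction.mem_orbit_self S₀⟩⟩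
            exact Nat.card_pos
          exact (Nat.eq_of_mul_eq_mul_left hpos (h3.trans h4.symm)).trans h2
    rw [Finset.sum_const, smul_eq_mul, mul_one, hfib]
    have hd : Nat.card (st S₀) ∣ p ^ β := by
      rw [← hq, ← hS₀card]
      exact card_stabilizer_dvd S₀
    obtain ⟨j, hj, hje⟩ := (Nat.dvd_prime_pow hp).mp hd
    have hjlt : j < β := by
      apply lt_of_le_of_ne hj
      rintro rfl
      exact hS₀q hje
    have h5 := hprod S₀
    rw [hm, hje] at h5
    obtain ⟨i, hi⟩ : ∃ i, β = j + (i + 1) := ⟨β - j - 1, by omega⟩
    have h6 : Nat.card (MulAction.orbit G S₀) = p * m * p ^ i := by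
      apply Nat.eq_of_mul_eq_mul_right (pow_pos hp.pos j)
      rw [h5, hq, hi, pow_add, pow_succ]
      ring
    rw [h6]
    exact dvd_mul_right _ _
  obtain ⟨t, ht⟩ := hB
  refine ⟨t, ?_⟩
  rw [← hX, ← hAB, hA, ht, hHs]

end Count

/-- In cyclic groups there is exactly one subgroup of each order dividing the group order. -/
theorem card_subgroups_cyclic (n : ℕ) [NeZero n] (q : ℕ) (hq : q ∣ n) :
    Nat.card {H : Subgroup (Multiplicative (ZMod n)) // Nat.card H = q} = 1 := by
  have hcardG : Nat.card (Multiplicative (ZMod n)) = n := by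
    simp [Nat.card_eq_fintype_card, ZMod.card]
  let K := (powMonoidHom q : Multiplicative (ZMod n) →* Multiplicative (ZMod n)).ker
  have hK : Nat.card K = q := by
    have := IsCyclic.card_powMonoidHom_ker (G := Multiplicative (ZMod n)) q
    rw [hcardG, Nat.gcd_eq_right hq] at this
    exact this
  rw [Nat.card_eq_one_iff_unique]
  refine ⟨⟨?_⟩, ⟨⟨K, hK⟩⟩⟩
  have key : ∀ H : {H : Subgroup (Multiplicative (ZMod n)) // Nat.card H = q}, H.1 = K := by
    rintro ⟨H, hH⟩
    apply Subgroup.eq_of_le_of_card_ge
    · intro x hx
      show x ^ q = 1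
      have := pow_card_eq_one' (x := (⟨x, hx⟩ : H))
      rw [hH] at this
      have h2 := congrArg Subtype.val this
      simpa using h2
    · rw [hH, hK]
  intro a b
  exact Subtype.ext ((key a).trans (key b).symm)

/-- Let `p` be a prime and `G` a finite group whose order is divisible by `p ^ β`. Then the number of subgroups of `G` of order `p ^ β` is congruent to `1` modulo `p`. (When `p ^ β` is the full power of `p` dividing the order, these are the Sylow `p`-subgroups and this is the usual Sylow count.) -/
theorem result {G : Type*} [Group G] [Finite G] (p β : ℕ) (hp : p.Prime) (hdiv : p ^ β ∣ Nat.card G) : Nat.card {H : Subgroup G // Nat.card H = p ^ β} ≡ 1 [MOD p] := by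
  classical
  haveI := Fintype.ofFinite G
  set n := Nat.card G with hn
  have hnpos : 0 < n := Nat.card_pos
  haveI : NeZero n := ⟨hnpos.ne'⟩
  have hn' : Fintype.card G = n := Nat.card_eq_fintype_card.symm
  obtain ⟨t, ht⟩ := choose_eq (G := G) hp (by rwa [hn'])
  have hZcard : Fintype.card (Multiplicative (ZMod n)) = n := by
    simp [ZMod.card]
  obtain ⟨t', ht'⟩ := choose_eq (G := Multiplicative (ZMod n)) hp (by rwa [hZcard])
  rw [hZcard, card_subgroups_cyclic n _ hdiv] at ht'
  rw [hn'] at ht
  set m := n / p ^ β with hm
  have hmpos : 0 < m := Nat.div_pos (Nat.le_of_dvd hnpos hdiv) (pow_pos hp.pos β)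
  set r := Nat.card {H : Subgroup G // Nat.card H = p ^ β} with hr
  have h1 : m * (r + p * t) = m * (1 + p * t') := by
    have : r * m + p * m * t = 1 * m + p * m * t' := ht.symm.trans ht'
    linarith
  have h2 := Nat.eq_of_mul_eq_mul_left hmpos h1
  have h3 : (r + p * t) ≡ r [MOD p] := by
    simp [Nat.ModEq]
  have h4 : (1 + p * t') ≡ 1 [MOD p] := by
    simp [Nat.ModEq]
  rw [h2] at h3
  exact h3.symm.trans h4

end Cfsg.Agent.S3975
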