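import Cfsg.Statements.S3976
import Mathlib
import Cfsg.Agent.Lib.PGroup.Basic

set_option autoImplicit false
open Cfsg

namespace Cfsg.Agent.S3976


theorem card_subtype_ne_add_one {α : Type*} [Finite α] (a : α) :
    Nat.card {x : α // x ≠ a} + 1 = Nat.card α := by
  classical
  have := Fintype.ofFinite α
  rw [Nat.card_eq_fintype_card, Nat.card_eq_fintype_card, Fintype.card_subtype_compl]
  have h1 : Fintype.card {x // x = a} = 1 := Fintype.card_subtype_eq a
  have h2 : 0 < Fintype.card α := Fintype.card_pos_iff.2 ⟨a⟩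
  omega

theorem double_count_modEq {α β : Type*} [Finite α] [Finite β] (r : α → β → Prop) (p : ℕ)
    (h1 : ∀ a, Nat.card {b // r a b} ≡ 1 [MOD p]) (h2 : ∀ b, Nat.card {a // r a b} ≡ 1 [MOD p]) :
    Nat.card α ≡ Nat.card β [MOD p] := by
  classical
  have := Fintype.ofFinite α
  have := Fintype.ofFinite β
  have key := Finset.sum_card_bipartiteAbove_eq_sum_card_bipartiteBelow (s := (Finset.univ : Finset α))
    (t := (Finset.univ : Finset β)) r
  have e1 : ∀ a, (Finset.univ.bipartiteAbove r a).card = Nat.card {b // r a b} := by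
    intro a
    rw [Nat.card_eq_fintype_card, Fintype.card_subtype]
    rfl
  have e2 : ∀ b, (Finset.univ.bipartiteBelow r b).card = Nat.card {a // r a b} := by
    intro b
    rw [Nat.card_eq_fintype_card, Fintype.card_subtype]
    rfl
  simp only [e1, e2] at key
  have s1 : ∑ a : α, Nat.card {b // r a b} ≡ ∑ _a : α, 1 [MOD p] := by
    rw [Nat.ModEq, Finset.sum_nat_mod]
    conv_rhs => rw [Finset.sum_nat_mod]
    congr 1
    apply Finset.sum_congr rfl
    intro a _
    exact h1 a
  have s2 : ∑ b : β, Nat.card {a // r a b} ≡ ∑ _b : β, 1 [MOD p] := by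
    rw [Nat.ModEq, Finset.sum_nat_mod]
    conv_rhs => rw [Finset.sum_nat_mod]
    congr 1
    apply Finset.sum_congr rfl
    intro a _
    exact h2 a
  rw [key] at s1
  simp only [Finset.sum_const, Finset.card_univ, smul_eq_mul, mul_one] at s1 s2
  rw [Nat.card_eq_fintype_card, Nat.card_eq_fintype_card]
  exact s1.symm.trans s2

/-- Number of subgroups of order `p` of a nontrivial abelian `p`-subgroup. -/
theorem card_order_p_subgroups {G : Type*} [Group G] [Finite G] {p : ℕ} [Fact p.Prime]
    (C : Subgroup G) (hC : IsMulCommutative C) (hCp : IsPGroup p C) (hne : C ≠ ⊥) :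
    Nat.card {A : Subgroup G // A ≤ C ∧ Nat.card A = p} ≡ 1 [MOD p] := by
  classical
  have hp : p.Prime := Fact.out
  have hcomm : ∀ x ∈ C, ∀ y ∈ C, x * y = y * x := fun x hx y hy => setLike_mul_comm hx hy
  let Ω : Subgroup G :=
    { carrier := {x | x ∈ C ∧ x ^ p = 1}
      mul_mem' := by
        rintro a b ⟨ha, ha'⟩ ⟨hb, hb'⟩
        refine ⟨C.mul_mem ha hb, ?_⟩
        rw [(show Commute a b from hcomm a ha b hb).mul_pow, ha', hb', one_mul]
      one_mem' := ⟨C.one_mem, one_pow _⟩
      inv_mem' := by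
        rintro a ⟨ha, ha'⟩
        exact ⟨C.inv_mem ha, by rw [inv_pow, ha', inv_one]⟩ }
  have hΩC : Ω ≤ C := fun x hx => hx.1
  have hΩp : IsPGroup p Ω := hCp.to_le hΩC
  -- `Ω` is nontrivial
  have hnt : ∃ x ∈ C, x ≠ 1 := by
    by_contra h
    push Not at h
    exact hne ((Subgroup.eq_bot_iff_forall _).2 h)
  obtain ⟨x0, hx0, hx0'⟩ := hnt
  obtain ⟨k0, hk0⟩ := (IsPGroup.iff_orderOf.1 hCp) ⟨x0, hx0⟩
  have hx0o : orderOf x0 = p ^ k0 := by
    rw [← hk0]
    exact (Subgroup.orderOf_mk x0 hx0).symm
  have hk0' : k0 ≠ 0 := by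
    rintro rfl
    rw [pow_zero, orderOf_eq_one_iff] at hx0o
    exact hx0' hx0o
  have hy : x0 ^ p ^ (k0 - 1) ∈ Ω := by
    refine ⟨C.pow_mem hx0 _, ?_⟩
    rw [← pow_mul, ← pow_succ, Nat.sub_add_cancel (Nat.pos_of_ne_zero hk0'), ← hx0o]
    exact pow_orderOf_eq_one x0
  have hy1 : x0 ^ p ^ (k0 - 1) ≠ 1 := by
    intro h
    have := orderOf_dvd_of_pow_eq_one h
    rw [hx0o] at this
    have := (Nat.pow_dvd_pow_iff_le_right hp.one_lt).1 this
    omega
  have hΩdvd : p ∣ Nat.card Ω := by
    obtain ⟨k, hk⟩ := IsPGroup.iff_card.1 hΩp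
    rw [hk]
    refine dvd_pow_self p ?_
    rintro rfl
    rw [pow_zero] at hk
    have := (Nat.card_eq_one_iff_unique.1 hk).1
    have h2 : (⟨_, hy⟩ : Ω) = 1 := Subsingleton.elim _ _
    exact hy1 (congrArg Subtype.val h2)
  let X := {x : Ω // x ≠ 1}
  let 𝓐 := {A : Subgroup G // A ≤ C ∧ Nat.card A = p}
  have hfA : ∀ x : X, Nat.card (Subgroup.zpowers (x.1 : G)) = p := by
    intro x
    rw [Nat.card_zpowers]
    refine orderOf_eq_prime x.1.2.2 ?_
    intro h
    exact x.2 (Subtype.ext h)
  let f : X → 𝓐 := fun x => ⟨Subgroup.zpowers (x.1 : G), by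
    rw [Subgroup.zpowers_le]; exact x.1.2.1, hfA x⟩
  have hfib : ∀ A : 𝓐, Nat.card {x : X // f x = A} = p - 1 := by
    intro A
    have h1 : Nat.card {a : A.1 // a ≠ 1} + 1 = p := by
      rw [card_subtype_ne_add_one, A.2.2]
    have h2 : Nat.card {x : X // f x = A} = Nat.card {a : A.1 // a ≠ 1} := by
      have hmem : ∀ a : A.1, a ≠ 1 → (a : G) ∈ Ω := by
        intro a _
        refine ⟨A.2.1 a.2, ?_⟩
        have := pow_card_eq_one' (x := a)
        rw [A.2.2] at this
        exact congrArg Subtype.val this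
      have hgen : ∀ a : A.1, a ≠ 1 → Subgroup.zpowers (a : G) = A.1 := by
        intro a ha
        apply Subgroup.eq_of_le_of_card_ge
        · rw [Subgroup.zpowers_le]; exact a.2
        · rw [A.2.2, Nat.card_zpowers]
          have : (a : G) ^ p = 1 := (hmem a ha).2
          rw [orderOf_eq_prime this (fun h => ha (Subtype.ext h))]
      refine Nat.card_congr
        { toFun := fun x => ⟨⟨(x.1.1 : G), ?_⟩, ?_⟩
          invFun := fun a => ⟨⟨⟨(a.1 : G), hmem a.1 a.2⟩, ?_⟩, ?_⟩
          left_inv := fun x => rfl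
          right_inv := fun a => rfl }
      · have := congrArg Subtype.val x.2
        have h3 : Subgroup.zpowers (x.1.1 : G) = A.1 := this
        rw [← h3]
        exact Subgroup.mem_zpowers _
      · intro h
        have h4 := congrArg Subtype.val h
        exact x.1.2 (Subtype.ext h4)
      · intro h
        have h4 := congrArg Subtype.val h
        exact a.2 (Subtype.ext h4)
      · exact Subtype.ext (hgen a.1 a.2)
    omega
  have hX : Nat.card X = Nat.card 𝓐 * (p - 1) := by
    have h1 : Nat.card X = Nat.card (Σ A : 𝓐, {x : X // f x = A}) :=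
      (Nat.card_congr (Equiv.sigmaFiberEquiv f)).symm
    have := Fintype.ofFinite 𝓐
    rw [h1, Nat.card_sigma]
    simp only [hfib, Finset.sum_const, Finset.card_univ, smul_eq_mul]
    rw [Nat.card_eq_fintype_card]
  have hΩcard : Nat.card X + 1 = Nat.card Ω := card_subtype_ne_add_one (1 : Ω)
  -- arithmetic
  obtain ⟨c, hc⟩ := hΩdvd
  have hp1 : 1 ≤ p := hp.one_lt.le
  have h5 : Nat.card 𝓐 * (p - 1) + Nat.card 𝓐 = Nat.card 𝓐 * p := by
    rw [← Nat.mul_succ]
    congr 1
    omega
  have h6 : Nat.card 𝓐 + p * c = 1 + Nat.card 𝓐 * p := by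
    rw [← hc, ← hΩcard, hX]; omega
  have h7 : (Nat.card 𝓐 + p * c) % p = (1 + Nat.card 𝓐 * p) % p := by rw [h6]
  simpa [Nat.ModEq, Nat.add_mul_mod_self_left, Nat.add_mul_mod_self_right] using h7

theorem card_comap_mk {G : Type*} [Group G] [Finite G] (A : Subgroup G) [A.Normal] (H : Subgroup (G ⧸ A)) :
    Nat.card (H.comap (QuotientGroup.mk' A)) = Nat.card A * Nat.card H := by
  have h1 := Subgroup.card_mul_index (H.comap (QuotientGroup.mk' A))
  have h2 := Subgroup.card_mul_index H
  have h3 := Subgroup.card_mul_index A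
  have h4 : (H.comap (QuotientGroup.mk' A)).index = H.index :=
    Subgroup.index_comap_of_surjective H (QuotientGroup.mk'_surjective A)
  have h5 : A.index = Nat.card (G ⧸ A) := Subgroup.index_eq_card A
  rw [h4] at h1
  rw [h5, ← h2] at h3
  have hpos : 0 < H.index := Nat.pos_of_ne_zero Subgroup.index_ne_zero_of_finite
  apply Nat.eq_of_mul_eq_mul_right hpos
  rw [h1, ← h3, mul_assoc]


theorem card_normal_zero {G : Type*} [Group G] [Finite G] (p : ℕ) :
    Nat.card {H : Subgroup G // H.Normal ∧ Nat.card H = p ^ 0} = 1 := by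
  have hu : Unique {H : Subgroup G // H.Normal ∧ Nat.card H = p ^ 0} :=
    { default := ⟨⊥, inferInstance, by simp⟩
      uniq := by
        rintro ⟨H, _, hH⟩
        apply Subtype.ext
        rw [pow_zero] at hH
        exact Subgroup.eq_bot_of_card_eq H hH }
  exact Nat.card_unique

theorem main {G : Type*} [Group G] [Finite G] (p : ℕ) [Fact p.Prime] (m : ℕ) :
    ∀ (s : ℕ), Nat.card G = p ^ m → s ≤ m →
      Nat.card {H : Subgroup G // H.Normal ∧ Nat.card H = p ^ s} ≡ 1 [MOD p] := by
  have hp : p.Prime := Fact.out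
  induction m generalizing G with
  | zero =>
    intro s _ hs
    obtain rfl : s = 0 := by omega
    rw [card_normal_zero]
  | succ m ih =>
    intro s hG hs
    rcases s with _ | s
    · rw [card_normal_zero]
    have hGp : IsPGroup p G := IsPGroup.of_card hG
    have hcard : 1 < Nat.card G := by
      rw [hG]
      exact Nat.one_lt_pow (by omega) hp.one_lt
    have : Nontrivial G := (Finite.one_lt_card_iff_nontrivial).1 hcard
    have hZne : Subgroup.center G ≠ ⊥ := by
      have := hGp.center_nontrivial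
      exact (Subgroup.nontrivial_iff_ne_bot _).1 this
    have hZp : IsPGroup p (Subgroup.center G) := hGp.to_subgroup _
    have hA := card_order_p_subgroups (Subgroup.center G) inferInstance hZp hZne
    refine Nat.ModEq.trans ?_ hA
    refine double_count_modEq (β := {A : Subgroup G // A ≤ Subgroup.center G ∧ Nat.card A = p})
      (fun B A => A.1 ≤ B.1) p ?_ ?_
    · rintro ⟨B, hBn, hBc⟩
      have hBne : B ≠ ⊥ := by
        rintro rfl
        rw [Subgroup.card_bot] at hBc
        have := Nat.one_lt_pow (n := s + 1) (by omega) hp.one_lt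
        omega
      have hne : B ⊓ Subgroup.center G ≠ ⊥ :=
        Cfsg.Agent.Lib.PGroup.Basic.inf_center_ne_bot hGp hBne
      have hcomm : IsMulCommutative ↥(B ⊓ Subgroup.center G) := by
        refine ⟨⟨fun x y => Subtype.ext ?_⟩⟩
        exact (Subgroup.mem_center_iff.1 (Subgroup.mem_inf.1 x.2).2) y |>.symm
      have h1 := card_order_p_subgroups (B ⊓ Subgroup.center G) hcomm (hGp.to_subgroup _) hne
      refine Eq.trans (congrArg (· % p) ?_) h1
      refine Nat.card_congr
        { toFun := fun A => ⟨A.1.1, le_inf A.2 A.1.2.1, A.1.2.2⟩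
          invFun := fun A => ⟨⟨A.1, A.2.1.trans inf_le_right, A.2.2⟩, A.2.1.trans inf_le_left⟩
          left_inv := fun A => rfl
          right_inv := fun A => rfl }
    · rintro ⟨A, hAZ, hAc⟩
      have hAn : A.Normal := by
        constructor
        intro a ha g
        have := (Subgroup.mem_center_iff.1 (hAZ ha)) g
        rw [this]
        simpa using ha
      have hq : Nat.card (G ⧸ A) = p ^ m := by
        have h1 := Subgroup.card_mul_index A
        rw [Subgroup.index_eq_card, hAc, hG, pow_succ'] at h1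
        exact Nat.eq_of_mul_eq_mul_left hp.pos h1
      have h2 := ih s hq (by omega)
      refine Eq.trans (congrArg (· % p) ?_) h2
      have hsurj := QuotientGroup.mk'_surjective A
      have hcmap : ∀ B : Subgroup G, A ≤ B → Nat.card B = p ^ (s + 1) →
          Nat.card (B.map (QuotientGroup.mk' A)) = p ^ s := by
        intro B hAB hB
        have h3 := card_comap_mk A (B.map (QuotientGroup.mk' A))
        rw [Subgroup.comap_map_eq_self (by rw [QuotientGroup.ker_mk']; exact hAB), hB, hAc,
          pow_succ'] at h3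
        exact (Nat.eq_of_mul_eq_mul_left hp.pos h3).symm
      refine Nat.card_congr
        { toFun := fun B => ⟨B.1.1.map (QuotientGroup.mk' A),
            @Subgroup.Normal.map _ _ _ _ _ B.1.2.1 _ hsurj, hcmap B.1.1 B.2 B.1.2.2⟩
          invFun := fun H => ⟨⟨H.1.comap (QuotientGroup.mk' A),
            @Subgroup.Normal.comap _ _ _ _ _ H.2.1 _, ?_⟩, ?_⟩
          left_inv := ?_
          right_inv := ?_ }
      · rw [card_comap_mk, hAc, H.2.2, pow_succ']
      · intro a ha
        show QuotientGroup.mk' A a ∈ H.1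
        have : QuotientGroup.mk' A a = 1 := by
          rw [← MonoidHom.mem_ker, QuotientGroup.ker_mk']; exact ha
        rw [this]
        exact H.1.one_mem
      · intro B
        apply Subtype.ext
        apply Subtype.ext
        exact Subgroup.comap_map_eq_self (by rw [QuotientGroup.ker_mk']; exact B.2)
      · intro H
        apply Subtype.ext
        exact Subgroup.map_comap_eq_self_of_surjective hsurj _

/-- Let `p` be a prime and `G` a group of order `p ^ m`. For every `s ≤ m` the number of normal subgroups of `G` of order `p ^ s` is congruent to `1` modulo `p`. -/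
theorem result {G : Type*} [Group G] [Finite G] (p m s : ℕ) (hp : p.Prime) (hG : Nat.card G = p ^ m) (hs : s ≤ m) : Nat.card {H : Subgroup G // H.Normal ∧ Nat.card H = p ^ s} ≡ 1 [MOD p] := by
  have : Fact p.Prime := ⟨hp⟩
  exact main p m s hG hs

end Cfsg.Agent.S3976
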