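import Cfsg.Statements.S3807
import Mathlib
import Cfsg.Agent.Lib.PGroup.Basic
import Cfsg.Agent.Lib.PGroup.Critical
import Cfsg.Agent.Lib.PGroup.MaximalClass
import Cfsg.Agent.Lib.Coprime.BrauerWielandt
-- import your own Cfsg.Agent.* helpers here

set_option autoImplicit false
open Cfsg

namespace Cfsg.Agent.S3807


open scoped commutatorElement

section
variable {S : Type*} [Group S] [Finite S] {p : ℕ} [hp : Fact p.Prime]

lemma normal_of_index (hS : IsPGroup p S) (A : Subgroup S) (hAi : A.index = p) : A.Normal := by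
  apply Subgroup.normal_of_index_eq_minFac_card
  obtain ⟨n, hn⟩ := hS.exists_card_eq
  have hn0 : n ≠ 0 := by
    rintro rfl
    have h1 := A.index_dvd_card
    rw [hn, pow_zero, hAi] at h1
    exact hp.out.one_lt.ne' (Nat.dvd_one.mp h1)
  rw [hn, hAi, Nat.Prime.pow_minFac hp.out hn0]

lemma exists_decomp (A : Subgroup S) [hA : A.Normal] (hAi : A.index = p) (g : S) (hg : g ∉ A) :
    ∀ s : S, ∃ a ∈ A, ∃ k : ℕ, s = a * g ^ k := by
  intro s
  have hg1 : (g : S ⧸ A) ≠ 1 := by
    rw [Ne, QuotientGroup.eq_one_iff]; exact hg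
  have htop := zpowers_eq_top_of_prime_card (p := p) (by rw [← Subgroup.index_eq_card, hAi]) hg1
  have hmem : (s : S ⧸ A) ∈ Subgroup.zpowers (g : S ⧸ A) := by rw [htop]; trivial
  have hmem2 := (mem_powers_iff_mem_zpowers).mpr hmem
  obtain ⟨k, hk⟩ := hmem2
  refine ⟨s * (g ^ k)⁻¹, ?_, k, by simp⟩
  rw [← QuotientGroup.eq_one_iff]
  have : ((s * (g ^ k)⁻¹ : S) : S ⧸ A) = (s : S ⧸ A) * ((g : S ⧸ A) ^ k)⁻¹ := rfl
  rw [this, ← hk]
  simp

lemma comm_of_abelian_decomp (A : Subgroup S) (hA : IsMulCommutative ↥A) (g : S)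
    (hdec : ∀ s : S, ∃ a ∈ A, ∃ k : ℕ, s = a * g ^ k) (hg : ∀ a ∈ A, a * g = g * a) :
    IsMulCommutative S := by
  have hAc : ∀ a ∈ A, ∀ b ∈ A, a * b = b * a := by
    intro a ha b hb
    have := hA.is_comm.comm ⟨a, ha⟩ ⟨b, hb⟩
    simpa using congrArg Subtype.val this
  refine ⟨⟨fun s t => ?_⟩⟩
  obtain ⟨a, ha, k, rfl⟩ := hdec s
  obtain ⟨b, hb, l, rfl⟩ := hdec t
  have h1 : Commute a b := hAc a ha b hb
  have h2 : Commute a g := hg a ha
  have h3 : Commute b g := hg b hb
  have : Commute (a * g ^ k) (b * g ^ l) :=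
    (h1.mul_right (h2.pow_right l)).mul_left
      (((h3.pow_right k).symm).mul_right ((Commute.refl g).pow_pow k l))
  exact this.eq

lemma center_le (hS : IsPGroup p S) (hna : ¬ IsMulCommutative S)
    (A : Subgroup S) (hA : IsMulCommutative ↥A) (hAi : A.index = p) :
    Subgroup.center S ≤ A := by
  intro z hz
  by_contra hzA
  haveI := normal_of_index hS A hAi
  apply hna
  exact comm_of_abelian_decomp A hA z (exists_decomp A hAi z hzA)
    (fun a _ => (Subgroup.mem_center_iff.mp hz a))

end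

/-- Let S be a non-abelian finite p-group with an abelian subgroup A of index p. Then [S : Z(S)] = p·#[S,S], and either [S,S] has order p, S/Z(S) is elementary abelian of order p², and S has exactly p + 1 abelian subgroups of index p; or [S,S] has order at least p² and A is the only abelian subgroup of index p in S. -/
theorem result {S : Type*} [Group S] [Finite S] (p : ℕ) [Fact p.Prime] (hS : IsPGroup p S) (hna : ¬ IsMulCommutative S)
    (A : Subgroup S) (hA : IsMulCommutative ↥A) (hAi : A.index = p) :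
    (Subgroup.center S).index = p * Nat.card (commutator S) ∧
      ((Nat.card (commutator S) = p ∧ Cfsg.IsElementaryAbelian p (⊤ : Subgroup (S ⧸ Subgroup.center S)) ∧
          Nat.card (S ⧸ Subgroup.center S) = p ^ 2 ∧
          Nat.card {B : Subgroup S // IsMulCommutative ↥B ∧ B.index = p} = p + 1) ∨
        (p ^ 2 ≤ Nat.card (commutator S) ∧ ∀ B : Subgroup S, IsMulCommutative ↥B → B.index = p → B = A)) := by
  classical
  have hp : Fact p.Prime := inferInstance
  haveI hAN := normal_of_index hS A hAi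
  have hp1 := (Fact.out : p.Prime).one_lt
  have hAc : ∀ a ∈ A, ∀ b ∈ A, a * b = b * a := by
    intro a ha b hb
    have := hA.is_comm.comm ⟨a, ha⟩ ⟨b, hb⟩
    simpa using congrArg Subtype.val this
  obtain ⟨g, hg⟩ : ∃ g, g ∉ A := by
    by_contra hcon
    push Not at hcon
    have : A = ⊤ := by
      ext x; simp [hcon x]
    rw [this, Subgroup.index_top] at hAi
    omega
  have hdec := exists_decomp A hAi g hg
  have hZA := center_le hS hna A hA hAi
  have hgA : ∀ a ∈ A, g * a * g⁻¹ ∈ A := fun a ha => hAN.conj_mem a ha g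
  -- the commutator map
  let τ : ↥A →* ↥A := MonoidHom.mk' (fun a => ⟨⁅(a : S), g⁆, by
      rw [commutatorElement_def]
      exact A.mul_mem (hgA a a.2) (A.inv_mem a.2) |> fun h => by
        have e : (a : S) * g * (a : S)⁻¹ * g⁻¹ = a * (g * (a : S)⁻¹ * g⁻¹) := by group
        rw [e]
        exact A.mul_mem a.2 (hgA _ (A.inv_mem a.2))⟩) (by
    intro a b
    apply Subtype.ext
    simp only [Subgroup.coe_mul, commutatorElement_def]
    have e1 := hAc (b : S) b.2 (g * (a : S)⁻¹ * g⁻¹) (hgA _ (A.inv_mem a.2))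
    calc (a : S) * b * g * ((a : S) * b)⁻¹ * g⁻¹
        = a * (b * (g * (b : S)⁻¹ * g⁻¹)) * (g * (a : S)⁻¹ * g⁻¹) := by group
      _ = a * ((g * (b : S)⁻¹ * g⁻¹) * b) * (g * (a : S)⁻¹ * g⁻¹) := by
          rw [hAc (b : S) b.2 (g * (b : S)⁻¹ * g⁻¹) (hgA _ (A.inv_mem b.2))]
      _ = a * (g * (b : S)⁻¹ * g⁻¹) * (b * (g * (a : S)⁻¹ * g⁻¹)) := by group
      _ = a * (g * (b : S)⁻¹ * g⁻¹) * ((g * (a : S)⁻¹ * g⁻¹) * b) := by rw [e1]
      _ = a * (g * (a : S)⁻¹ * g⁻¹) * ((g * (b : S)⁻¹ * g⁻¹) * b) := by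
          have e2 := hAc (g * (b : S)⁻¹ * g⁻¹) (hgA _ (A.inv_mem b.2)) (g * (a : S)⁻¹ * g⁻¹) (hgA _ (A.inv_mem a.2))
          calc _ = (a : S) * ((g * (b : S)⁻¹ * g⁻¹) * (g * (a : S)⁻¹ * g⁻¹)) * b := by group
            _ = (a : S) * ((g * (a : S)⁻¹ * g⁻¹) * (g * (b : S)⁻¹ * g⁻¹)) * b := by rw [e2]
            _ = _ := by group
      _ = a * (g * (a : S)⁻¹ * g⁻¹) * (b * (g * (b : S)⁻¹ * g⁻¹)) := by
          rw [hAc (b : S) b.2 (g * (b : S)⁻¹ * g⁻¹) (hgA _ (A.inv_mem b.2))]
      _ = _ := by group)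
  have hτ : ∀ a : ↥A, ((τ a : ↥A) : S) = ⁅(a : S), g⁆ := fun _ => rfl
  -- kernel of `τ`
  have hker : τ.ker = (Subgroup.center S).subgroupOf A := by
    ext a
    rw [MonoidHom.mem_ker, Subgroup.mem_subgroupOf, Subtype.ext_iff, hτ]
    simp only [Subgroup.coe_one]
    rw [commutatorElement_eq_one_iff_commute]
    constructor
    · intro h
      rw [Subgroup.mem_center_iff]
      intro s
      obtain ⟨b, hb, k, rfl⟩ := hdec s
      have h1 : Commute (b * g ^ k) (a : S) :=
        Commute.mul_left (hAc b hb a a.2) (h.symm.pow_left k)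
      exact h1.eq
    · intro h
      exact ((Subgroup.mem_center_iff.mp h) g).symm
  -- the image of `τ` is the commutator subgroup
  set R : Subgroup S := τ.range.map A.subtype with hR
  have hRle : R ≤ commutator S := by
    rintro _ ⟨_, ⟨a, rfl⟩, rfl⟩
    exact Subgroup.commutator_mem_commutator (Subgroup.mem_top _) (Subgroup.mem_top _)
  have hRmem : ∀ a ∈ A, ⁅a, g⁆ ∈ R := by
    intro a ha
    exact ⟨τ ⟨a, ha⟩, ⟨⟨a, ha⟩, rfl⟩, rfl⟩
  have hRA : R ≤ A := by
    rintro _ ⟨x, _, rfl⟩
    exact x.2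
  have hRNormal : R.Normal := by
    have hN : ∀ s : S, s ∈ Subgroup.normalizer (R : Set S) := by
      intro s
      obtain ⟨b, hb, k, rfl⟩ := hdec s
      apply Subgroup.mul_mem
      · apply Cfsg.Agent.Lib.PGroup.MaximalClass.mem_normalizer_of_conj_mem
        intro y hy
        rw [hAc b hb y (hRA hy)]
        simpa using hy
      · apply Subgroup.pow_mem
        apply Cfsg.Agent.Lib.PGroup.MaximalClass.mem_normalizer_of_conj_mem
        rintro _ ⟨_, ⟨a, rfl⟩, rfl⟩
        have e : g * (A.subtype (τ a)) * g⁻¹ = ⁅g * (a : S) * g⁻¹, g⁆ := by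
          change g * ⁅(a : S), g⁆ * g⁻¹ = _
          simp only [commutatorElement_def]
          group
        rw [e]
        exact hRmem _ (hgA a a.2)
    exact Subgroup.normalizer_eq_top_iff.mp (by ext s; simp [hN s])
  have hcomm : commutator S ≤ R := by
    haveI := hRNormal
    rw [commutator_def, Subgroup.commutator_le]
    intro s _ t _
    rw [← QuotientGroup.eq_one_iff, commutatorElement_def]
    have h1 : ∀ a ∈ A, ∀ b ∈ A, Commute (a : S ⧸ R) (b : S ⧸ R) := by
      intro a ha b hb
      have := congrArg (fun x : S => (x : S ⧸ R)) (hAc a ha b hb)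
      exact this
    have h2 : ∀ a ∈ A, Commute (a : S ⧸ R) (g : S ⧸ R) := by
      intro a ha
      have h3 := hRmem a ha
      rw [← QuotientGroup.eq_one_iff, commutatorElement_def] at h3
      have h4 : ((a * g * a⁻¹ * g⁻¹ : S) : S ⧸ R) =
          (a : S ⧸ R) * g * (a : S ⧸ R)⁻¹ * (g : S ⧸ R)⁻¹ := rfl
      rw [h4] at h3
      have h5 := mul_inv_eq_one.mp h3
      rw [mul_inv_eq_iff_eq_mul] at h5
      exact h5
    obtain ⟨a, ha, k, rfl⟩ := hdec s
    obtain ⟨b, hb, l, rfl⟩ := hdec t
    have key : Commute ((a * g ^ k : S) : S ⧸ R) ((b * g ^ l : S) : S ⧸ R) := by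
      have e1 : ((a * g ^ k : S) : S ⧸ R) = (a : S ⧸ R) * (g : S ⧸ R) ^ k := rfl
      have e2 : ((b * g ^ l : S) : S ⧸ R) = (b : S ⧸ R) * (g : S ⧸ R) ^ l := rfl
      rw [e1, e2]
      exact ((h1 a ha b hb).mul_right ((h2 a ha).pow_right l)).mul_left
        (((h2 b hb).pow_right k).symm.mul_right ((Commute.refl (g : S ⧸ R)).pow_pow k l))
    have e3 : ((a * g ^ k * (b * g ^ l) * (a * g ^ k)⁻¹ * (b * g ^ l)⁻¹ : S) : S ⧸ R) =
        ((a * g ^ k : S) : S ⧸ R) * ((b * g ^ l : S) : S ⧸ R) * ((a * g ^ k : S) : S ⧸ R)⁻¹ *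
          ((b * g ^ l : S) : S ⧸ R)⁻¹ := rfl
    rw [e3, key.eq, mul_inv_cancel_right, mul_inv_cancel]
  have hReq : R = commutator S := le_antisymm hRle hcomm
  have hcardR : Nat.card τ.range = Nat.card (commutator S) := by
    rw [← hReq, hR]
    exact (Nat.card_congr (τ.range.equivMapOfInjective _ A.subtype_injective).toEquiv)
  -- first claim
  have hindex : (Subgroup.center S).index = p * Nat.card (commutator S) := by
    rw [← Subgroup.relIndex_mul_index hZA, hAi, mul_comm, ← hcardR, ← Subgroup.index_ker, hker]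
    rfl
  refine ⟨hindex, ?_⟩
  have hpg : IsPGroup p ↥(commutator S) := hS.to_subgroup _
  obtain ⟨k, hk⟩ := hpg.exists_card_eq
  rcases k with _ | k
  · -- abelian: impossible
    exfalso
    apply hna
    have h1 : commutator S = ⊥ := Subgroup.eq_bot_of_card_eq _ (by simpa using hk)
    refine ⟨⟨fun a b => ?_⟩⟩
    have h2 : ⁅a, b⁆ ∈ commutator S := Subgroup.commutator_mem_commutator (Subgroup.mem_top _) (Subgroup.mem_top _)
    rw [h1, Subgroup.mem_bot, commutatorElement_eq_one_iff_mul_comm] at h2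
    exact h2
  rcases k with _ | k
  · left
    have hp' : Nat.card ↥(commutator S) = p := by simpa using hk
    have hcZ : Nat.card (S ⧸ Subgroup.center S) = p ^ 2 := by
      rw [← Subgroup.index_eq_card, hindex, hp', pow_two]
    have hnc : ¬ IsCyclic (S ⧸ Subgroup.center S) := by
      intro hc
      apply hna
      refine ⟨⟨fun a b => ?_⟩⟩
      exact commutative_of_cyclic_center_quotient (QuotientGroup.mk' (Subgroup.center S))
        (by simp) a b
    have hexp : ∀ x : S ⧸ Subgroup.center S, x ^ p = 1 := by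
      intro x
      have h1 : orderOf x ∣ p ^ 2 := by
        rw [← hcZ]; exact orderOf_dvd_natCard x
      obtain ⟨i, hi, hi2⟩ := (Nat.dvd_prime_pow hp.out).mp h1
      interval_cases i
      · have : x = 1 := orderOf_eq_one_iff.mp (by simpa using hi2)
        simp [this]
      · have : orderOf x = p := by simpa using hi2
        rw [← this]; exact pow_orderOf_eq_one x
      · exfalso
        apply hnc
        exact isCyclic_of_orderOf_eq_card x (by rw [hcZ, hi2])
    refine ⟨hp', ⟨?_, fun a _ => hexp a⟩, hcZ, ?_⟩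
    · have := IsPGroup.isMulCommutative_of_card_eq_prime_sq hcZ
      exact ⟨⟨fun a b => Subtype.ext (this.is_comm.comm a.1 b.1)⟩⟩
    · -- counting
      set Γ := S ⧸ Subgroup.center S with hΓ
      set π : S →* Γ := QuotientGroup.mk' (Subgroup.center S) with hπ
      have hπs : Function.Surjective π := QuotientGroup.mk'_surjective _
      have hπk : π.ker = Subgroup.center S := QuotientGroup.ker_mk' _
      haveI : Fintype Γ := Fintype.ofFinite _
      haveI : Fintype (Cfsg.Agent.Lib.Coprime.BrauerWielandt.Lines Γ p) := Fintype.ofFinite _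
      have hlines := Cfsg.Agent.Lib.Coprime.BrauerWielandt.card_lines (p := p) hcZ hexp
      rw [← hlines, ← Nat.card_eq_fintype_card]
      have hcen : ∀ B : Subgroup S, IsMulCommutative ↥B → B.index = p → π.ker ≤ B := by
        intro B hB hBi
        rw [hπk]
        exact center_le hS hna B hB hBi
      refine Nat.card_congr ⟨fun B => ⟨B.1.map π, ?_⟩, fun L => ⟨L.1.comap π, ?_, ?_⟩, ?_, ?_⟩
      · -- forward: the image has order `p`
        have h1 : (B.1.map π).comap π = B.1 := Subgroup.comap_map_eq_self (hcen B.1 B.2.1 B.2.2)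
        have h2 : (B.1.map π).index = p := by
          rw [← Subgroup.index_comap_of_surjective _ hπs, h1]; exact B.2.2
        have h3 := (B.1.map π).card_mul_index
        rw [h2, hcZ, pow_two] at h3
        exact Nat.eq_of_mul_eq_mul_right hp.out.pos h3
      · -- comap is abelian
        have hLp : Nat.card L.1 = p := L.2
        haveI : Fact (Nat.card L.1).Prime := ⟨by rw [hLp]; exact hp.out⟩
        haveI hcy : IsCyclic L.1 := isCyclic_of_prime_card (p := Nat.card L.1) rfl
        obtain ⟨ℓ, hℓ⟩ := hcy.exists_generator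
        obtain ⟨x, hx⟩ := hπs (ℓ : Γ)
        refine ⟨⟨fun m₁ m₂ => ?_⟩⟩
        apply Subtype.ext
        have hdecomp : ∀ m : ↥(L.1.comap π), ∃ k : ℤ, ∃ z ∈ Subgroup.center S, (m : S) = x ^ k * z := by
          intro m
          obtain ⟨k, hk⟩ := Subgroup.mem_zpowers_iff.mp (hℓ ⟨π m, m.2⟩)
          refine ⟨k, (x ^ k)⁻¹ * m, ?_, by simp⟩
          refine hπk.le (MonoidHom.mem_ker.mpr ?_)
          rw [map_mul, map_inv, map_zpow, hx]
          have := congrArg Subtype.val hk
          simp only [Subgroup.coe_zpow] at this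
          rw [this]; simp
        obtain ⟨k₁, z₁, hz₁, e₁⟩ := hdecomp m₁
        obtain ⟨k₂, z₂, hz₂, e₂⟩ := hdecomp m₂
        have c1 : Commute (x ^ k₁) (x ^ k₂) := (Commute.refl x).zpow_zpow k₁ k₂
        have c2 : ∀ y : S, Commute y z₁ := fun y => (Subgroup.mem_center_iff.mp hz₁ y)
        have c3 : ∀ y : S, Commute y z₂ := fun y => (Subgroup.mem_center_iff.mp hz₂ y)
        change (m₁ : S) * m₂ = m₂ * m₁
        rw [e₁, e₂]
        exact ((c1.mul_right (c3 _)).mul_left ((c2 _).symm.mul_right ((c3 _).symm.symm))).eq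
      · rw [Subgroup.index_comap_of_surjective _ hπs]
        have h3 := L.1.card_mul_index
        rw [L.2, hcZ, pow_two] at h3
        exact Nat.eq_of_mul_eq_mul_left hp.out.pos h3
      · intro B
        apply Subtype.ext
        exact Subgroup.comap_map_eq_self (hcen B.1 B.2.1 B.2.2)
      · intro L
        apply Subtype.ext
        exact Subgroup.map_comap_eq_self_of_surjective hπs _
  · right
    have hle : p ^ 2 ≤ Nat.card ↥(commutator S) := by
      rw [hk]; exact Nat.pow_le_pow_right hp.out.pos (by omega)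
    refine ⟨hle, ?_⟩
    intro B hB hBi
    by_contra hne
    haveI := normal_of_index hS B hBi
    obtain ⟨b₀, hb₀, hb₀A⟩ : ∃ b ∈ B, b ∉ A := by
      by_contra hcon
      push Not at hcon
      have hle : B ≤ A := hcon
      apply hne
      apply Subgroup.eq_of_le_of_card_ge hle
      have h1 := A.card_mul_index
      have h2 := B.card_mul_index
      rw [hAi] at h1
      rw [hBi] at h2
      have : Nat.card A = Nat.card B := by
        apply Nat.eq_of_mul_eq_mul_right hp.out.pos
        rw [h1, h2]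
      omega
    have hdec' := exists_decomp A hAi b₀ hb₀A
    have hinf : A ⊓ B ≤ Subgroup.center S := by
      intro x hx
      obtain ⟨hxA, hxB⟩ := Subgroup.mem_inf.mp hx
      have hBc : ∀ a ∈ B, ∀ b ∈ B, a * b = b * a := by
        intro a ha b hb
        have := hB.is_comm.comm ⟨a, ha⟩ ⟨b, hb⟩
        simpa using congrArg Subtype.val this
      rw [Subgroup.mem_center_iff]
      intro s
      obtain ⟨a, ha, l, rfl⟩ := hdec' s
      have h1 : Commute a x := hAc a ha x hxA
      have h2 : Commute b₀ x := hBc b₀ hb₀ x hxB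
      exact (h1.mul_left (h2.pow_left l)).eq
    have h1 : (Subgroup.center S).index ∣ (A ⊓ B).index := Subgroup.index_dvd_of_le hinf
    have h2 : (A ⊓ B).index ≤ A.index * B.index := Subgroup.index_inf_le
    rw [hAi, hBi] at h2
    have h3 := Nat.le_of_dvd (Nat.pos_of_ne_zero Subgroup.index_ne_zero_of_finite) h1
    rw [hindex] at h3
    have h4 : p * Nat.card ↥(commutator S) ≤ p * p := h3.trans h2
    have h5 : Nat.card ↥(commutator S) ≤ p := Nat.le_of_mul_le_mul_left h4 hp.out.pos
    have h6 : p * p ≤ p := by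
      calc p * p = p ^ 2 := (pow_two p).symm
        _ ≤ _ := hle
        _ ≤ p := h5
    nlinarith

end Cfsg.Agent.S3807
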