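import Cfsg.Statements.S3004
import Mathlib
-- import your own Cfsg.Agent.* helpers here

set_option autoImplicit false
open scoped Pointwise
open Cfsg

namespace Cfsg.Agent.S3004

theorem card_mul_set_mul_card_inf {G : Type*} [Group G] [Finite G] (Q R : Subgroup G) :
    Nat.card ((Q : Set G) * (R : Set G) : Set G) * Nat.card ↥(Q ⊓ R) = Nat.card Q * Nat.card R := by
  classical
  let S : Set G := (Q : Set G) * (R : Set G)
  let f : Q × R → S := fun x => ⟨x.1 * x.2, Set.mul_mem_mul x.1.2 x.2.2⟩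
  have hfib : ∀ y : S, Nat.card {x // f x = y} = Nat.card ↥(Q ⊓ R) := by
    rintro ⟨y, hy⟩
    obtain ⟨q0, hq0, r0, hr0, rfl⟩ := Set.mem_mul.1 hy
    have hq0' : q0 ∈ Q := hq0
    have hr0' : r0 ∈ R := hr0
    refine Nat.card_congr
      { toFun := fun x => ⟨q0⁻¹ * x.1.1, Subgroup.mem_inf.2 ⟨Q.mul_mem (Q.inv_mem hq0') x.1.1.2, ?_⟩⟩
        invFun := fun i => ⟨(⟨q0 * i, Q.mul_mem hq0' (Subgroup.mem_inf.1 i.2).1⟩,
          ⟨(i : G)⁻¹ * r0, R.mul_mem (R.inv_mem (Subgroup.mem_inf.1 i.2).2) hr0'⟩), ?_⟩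
        left_inv := ?_
        right_inv := ?_ }
    · have h := congrArg Subtype.val x.2
      have h' : (x.1.1 : G) * x.1.2 = q0 * r0 := h
      have e : q0⁻¹ * (x.1.1 : G) = r0 * (x.1.2 : G)⁻¹ := by
        have e1 : (x.1.1 : G) = q0 * r0 * (x.1.2 : G)⁻¹ := by
          rw [eq_mul_inv_iff_mul_eq]; exact h'
        rw [e1]; group
      rw [e]
      exact R.mul_mem hr0' (R.inv_mem x.1.2.2)
    · apply Subtype.ext
      show (q0 * i : G) * ((i : G)⁻¹ * r0) = q0 * r0
      group
    · rintro ⟨⟨⟨a, ha⟩, ⟨b, hb⟩⟩, hx⟩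
      have h := congrArg Subtype.val hx
      have h' : a * b = q0 * r0 := h
      apply Subtype.ext
      apply Prod.ext
      · apply Subtype.ext
        show q0 * (q0⁻¹ * a) = a
        group
      · apply Subtype.ext
        show (q0⁻¹ * a)⁻¹ * r0 = b
        have : r0 = q0⁻¹ * (a * b) := by rw [h']; group
        rw [this]; group
    · rintro ⟨i, hi⟩
      apply Subtype.ext
      show q0⁻¹ * (q0 * i) = i
      group
  have : Finite S := inferInstance
  have : Fintype S := Fintype.ofFinite _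
  have h1 : Nat.card (Q × R) = Nat.card (Σ y : S, {x // f x = y}) :=
    (Nat.card_congr (Equiv.sigmaFiberEquiv f)).symm
  rw [Nat.card_prod] at h1
  rw [h1, Nat.card_sigma]
  simp only [hfib, Finset.sum_const, Finset.card_univ, smul_eq_mul]
  rw [Nat.card_eq_fintype_card]

theorem mem_bound {P : Type*} [Group P] [Finite P] (X : Subgroup P) :
    Nat.card ↥X * Nat.card ↥(Subgroup.centralizer (X : Set P)) ≤ Cfsg.maxCentralizerProduct P := by
  apply le_csSup
  · have : {k : ℕ | ∃ R : Subgroup P, Nat.card ↥R * Nat.card ↥(Subgroup.centralizer (R : Set P)) = k}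
        = Set.range (fun R : Subgroup P => Nat.card ↥R * Nat.card ↥(Subgroup.centralizer (R : Set P))) := rfl
    rw [this]
    exact (Set.finite_range _).bddAbove
  · exact ⟨X, rfl⟩

theorem centralizer_sup_eq {P : Type*} [Group P] (Q R : Subgroup P) :
    Subgroup.centralizer ((Q ⊔ R : Subgroup P) : Set P) =
      Subgroup.centralizer (Q : Set P) ⊓ Subgroup.centralizer (R : Set P) := by
  apply le_antisymm
  · exact le_inf (Subgroup.centralizer_le (SetLike.coe_subset_coe.2 le_sup_left))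
      (Subgroup.centralizer_le (SetLike.coe_subset_coe.2 le_sup_right))
  · rintro g ⟨h1, h2⟩
    have h1' : Q ≤ Subgroup.centralizer {g} := by
      intro x hx
      rw [Subgroup.mem_centralizer_singleton_iff]
      exact ((Subgroup.mem_centralizer_iff.1 h1) x hx)
    have h2' : R ≤ Subgroup.centralizer {g} := by
      intro x hx
      rw [Subgroup.mem_centralizer_singleton_iff]
      exact ((Subgroup.mem_centralizer_iff.1 h2) x hx)
    refine Subgroup.mem_centralizer_iff.2 ?_
    intro x hx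
    have := (sup_le h1' h2') hx
    rw [Subgroup.mem_centralizer_singleton_iff] at this
    exact this

theorem eq_of_card_le {G : Type*} [Finite G] {S T : Set G} (h : S ⊆ T) (hc : Nat.card T ≤ Nat.card S) :
    S = T := by
  rw [Nat.card_coe_set_eq, Nat.card_coe_set_eq] at hc
  exact Set.eq_of_subset_of_ncard_le h hc (Set.toFinite T)

theorem arith_aux (s1 s2 a b c d q r cq cr M : ℕ) (h1 : s1 * a = q * r) (h2 : s2 * b = cq * cr)
    (hS1 : s1 ≤ c) (hS2 : s2 ≤ d) (hb1 : c * b ≤ M) (hb2 : a * d ≤ M) (hQ : q * cq = M)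
    (hR : r * cr = M) (hM : 0 < M) : c * b = M ∧ a * d = M ∧ s1 = c ∧ s2 = d := by
  have h0 : (s1 * b) * (a * s2) = M * M := by
    calc (s1 * b) * (a * s2) = (s1 * a) * (s2 * b) := by ring
      _ = (q * r) * (cq * cr) := by rw [h1, h2]
      _ = (q * cq) * (r * cr) := by ring
      _ = M * M := by rw [hQ, hR]
  have hb0 : 0 < b := by
    rcases Nat.eq_zero_or_pos b with h | h
    · subst h
      simp at h0
      omega
    · exact h
  have ha0 : 0 < a := by
    rcases Nat.eq_zero_or_pos a with h | h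
    · subst h
      simp at h0
      omega
    · exact h
  have h3 : s1 * b ≤ c * b := Nat.mul_le_mul_right _ hS1
  have h4 : a * s2 ≤ a * d := Nat.mul_le_mul_left _ hS2
  have h5 : s1 * b = M := by
    by_contra hne
    have hlt : s1 * b < M := lt_of_le_of_ne (h3.trans hb1) hne
    have : (s1 * b) * (a * s2) < M * M :=
      Nat.mul_lt_mul_of_lt_of_le hlt (h4.trans hb2) hM
    omega
  have h6 : a * s2 = M := by
    by_contra hne
    have hlt : a * s2 < M := lt_of_le_of_ne (h4.trans hb2) hne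
    have : (s1 * b) * (a * s2) < M * M :=
      Nat.mul_lt_mul_of_le_of_lt (h3.trans hb1) hlt hM
    omega
  have h7 : c * b = M := le_antisymm hb1 (by omega)
  have h8 : a * d = M := le_antisymm hb2 (by omega)
  refine ⟨h7, h8, ?_, ?_⟩
  · exact Nat.eq_of_mul_eq_mul_right hb0 (h5.trans h7.symm)
  · exact Nat.eq_of_mul_eq_mul_left ha0 (h6.trans h8.symm)

theorem large_key {P : Type*} [Group P] [Finite P] (Q R : Subgroup P)
    (hQ : Cfsg.IsCentralizerLarge Q) (hR : Cfsg.IsCentralizerLarge R) :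
    Cfsg.IsCentralizerLarge (Q ⊔ R) ∧ Cfsg.IsCentralizerLarge (Q ⊓ R) ∧
      ((Q ⊔ R : Subgroup P) : Set P) = (Q : Set P) * (R : Set P) ∧
      ((Subgroup.centralizer ((Q ⊓ R : Subgroup P) : Set P) : Subgroup P) : Set P) =
        (Subgroup.centralizer (Q : Set P) : Set P) * (Subgroup.centralizer (R : Set P) : Set P) := by
  have hsub1 : (Q : Set P) * (R : Set P) ⊆ ((Q ⊔ R : Subgroup P) : Set P) := by
    rintro _ ⟨a, ha, b, hb, rfl⟩
    exact (Q ⊔ R).mul_mem ((le_sup_left : Q ≤ Q ⊔ R) ha) ((le_sup_right : R ≤ Q ⊔ R) hb)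
  have hsub2 : (Subgroup.centralizer (Q : Set P) : Set P) * (Subgroup.centralizer (R : Set P) : Set P) ⊆
      ((Subgroup.centralizer ((Q ⊓ R : Subgroup P) : Set P) : Subgroup P) : Set P) := by
    rintro _ ⟨a, ha, b, hb, rfl⟩
    exact Subgroup.mul_mem _
      (Subgroup.centralizer_le (SetLike.coe_subset_coe.2 inf_le_left) ha)
      (Subgroup.centralizer_le (SetLike.coe_subset_coe.2 inf_le_right) hb)
  have h1 := card_mul_set_mul_card_inf Q R
  have h2 := card_mul_set_mul_card_inf (Subgroup.centralizer (Q : Set P)) (Subgroup.centralizer (R : Set P))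
  have hS1 : Nat.card ((Q : Set P) * (R : Set P) : Set P) ≤ Nat.card ↥(Q ⊔ R) :=
    Nat.card_mono (Set.toFinite _) hsub1
  have hS2 : Nat.card ((Subgroup.centralizer (Q : Set P) : Set P) * (Subgroup.centralizer (R : Set P) : Set P) : Set P) ≤
      Nat.card ↥(Subgroup.centralizer ((Q ⊓ R : Subgroup P) : Set P)) :=
    Nat.card_mono (Set.toFinite _) hsub2
  have hb1 := mem_bound (Q ⊔ R)
  have hb2 := mem_bound (Q ⊓ R)
  rw [centralizer_sup_eq] at hb1
  have hQ' : Nat.card Q * Nat.card (Subgroup.centralizer (Q : Set P)) = Cfsg.maxCentralizerProduct P := hQ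
  have hR' : Nat.card R * Nat.card (Subgroup.centralizer (R : Set P)) = Cfsg.maxCentralizerProduct P := hR
  have hMpos : 0 < Cfsg.maxCentralizerProduct P := by
    rw [← hQ']
    exact Nat.mul_pos Nat.card_pos Nat.card_pos
  obtain ⟨e1, e2, e3, e4⟩ := arith_aux _ _ _ _ _ _ _ _ _ _ _ h1 h2 hS1 hS2 hb1 hb2 hQ' hR' hMpos
  refine ⟨?_, e2, ?_, ?_⟩
  · show _ * Nat.card ↥(Subgroup.centralizer ((Q ⊔ R : Subgroup P) : Set P)) = _
    rw [centralizer_sup_eq]; exact e1
  · exact (eq_of_card_le hsub1 e3.ge).symm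
  · exact (eq_of_card_le hsub2 e4.ge).symm

theorem large_centralizer {P : Type*} [Group P] [Finite P] (Q : Subgroup P)
    (hQ : Cfsg.IsCentralizerLarge Q) :
    Cfsg.IsCentralizerLarge (Subgroup.centralizer (Q : Set P)) ∧
      Q = Subgroup.centralizer ((Subgroup.centralizer (Q : Set P) : Subgroup P) : Set P) := by
  have hle : Q ≤ Subgroup.centralizer ((Subgroup.centralizer (Q : Set P) : Subgroup P) : Set P) := by
    intro x hx
    refine Subgroup.mem_centralizer_iff.2 ?_
    intro y hy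
    exact ((Subgroup.mem_centralizer_iff.1 hy) x hx).symm
  have hc : Nat.card Q ≤ Nat.card ↥(Subgroup.centralizer ((Subgroup.centralizer (Q : Set P) : Subgroup P) : Set P)) :=
    Nat.card_mono (Set.toFinite _) hle
  have hb := mem_bound (Subgroup.centralizer (Q : Set P))
  have hQ' : Nat.card Q * Nat.card (Subgroup.centralizer (Q : Set P)) = Cfsg.maxCentralizerProduct P := hQ
  have hpos : 0 < Nat.card (Subgroup.centralizer (Q : Set P)) := Nat.card_pos
  have h1 : Nat.card (Subgroup.centralizer (Q : Set P)) * Nat.card Q ≤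
      Nat.card (Subgroup.centralizer (Q : Set P)) * Nat.card ↥(Subgroup.centralizer ((Subgroup.centralizer (Q : Set P) : Subgroup P) : Set P)) :=
    Nat.mul_le_mul_left _ hc
  have h2 : Nat.card (Subgroup.centralizer (Q : Set P)) * Nat.card Q = Cfsg.maxCentralizerProduct P := by
    rw [mul_comm]; exact hQ'
  have h3 : Nat.card (Subgroup.centralizer (Q : Set P)) * Nat.card ↥(Subgroup.centralizer ((Subgroup.centralizer (Q : Set P) : Subgroup P) : Set P)) = Cfsg.maxCentralizerProduct P :=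
    le_antisymm hb (by omega)
  refine ⟨h3, ?_⟩
  have h4 : Nat.card Q = Nat.card ↥(Subgroup.centralizer ((Subgroup.centralizer (Q : Set P) : Subgroup P) : Set P)) :=
    Nat.eq_of_mul_eq_mul_left hpos (h2.trans h3.symm)
  exact SetLike.coe_injective (eq_of_card_le (SetLike.coe_subset_coe.2 hle) h4.ge)

/-- Let P be a finite p-group and call a subgroup R of P measure-largest if |R|·|C_P(R)| is as large as possible among subgroups of P. If Q and R are measure-largest then QR = RQ is a subgroup, QR and Q ∩ R are measure-largest, C_P(Q) is measure-largest, Q = C_P(C_P(Q)), and C_P(Q ∩ R) = C_P(Q)·C_P(R). -/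
theorem result {p : ℕ} [Fact p.Prime] (P : Type*) [Group P] [Finite P] (hP : IsPGroup p P) (Q R : Subgroup P) (hQ : Cfsg.IsCentralizerLarge Q) (hR : Cfsg.IsCentralizerLarge R) : ((Q ⊔ R : Subgroup P) : Set P) = (Q : Set P) * (R : Set P) ∧ Cfsg.IsCentralizerLarge (Q ⊔ R) ∧ Cfsg.IsCentralizerLarge (Q ⊓ R) ∧ Cfsg.IsCentralizerLarge (Subgroup.centralizer (Q : Set P)) ∧ Q = Subgroup.centralizer ((Subgroup.centralizer (Q : Set P) : Subgroup P) : Set P) ∧ ((Subgroup.centralizer (Q : Set P) ⊔ Subgroup.centralizer (R : Set P) : Subgroup P) : Set P) = (Subgroup.centralizer (Q : Set P) : Set P) * (Subgroup.centralizer (R : Set P) : Set P) ∧ Subgroup.centralizer ((Q ⊓ R : Subgroup P) : Set P) = Subgroup.centralizer (Q : Set P) ⊔ Subgroup.centralizer (R : Set P) := by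
  obtain ⟨h1, h2, h3, h4⟩ := large_key Q R hQ hR
  obtain ⟨h5, h6⟩ := large_centralizer Q hQ
  obtain ⟨h7, _⟩ := large_centralizer R hR
  obtain ⟨_, _, h8, _⟩ := large_key _ _ h5 h7
  refine ⟨h3, h1, h2, h5, h6, h8, ?_⟩
  apply SetLike.coe_injective
  rw [h4, h8]

end Cfsg.Agent.S3004
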