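import Cfsg.Statements.S3005
import Mathlib
import Cfsg.Agent.S3004

set_option autoImplicit false
open scoped Pointwise
open Cfsg

namespace Cfsg.Agent.S3005

open Cfsg.Agent.S3004

theorem card_center_eq {P : Type*} [Group P] [Finite P] (Q : Subgroup P) :
    Nat.card ↥(Subgroup.center ↥Q) = Nat.card ↥(Q ⊓ Subgroup.centralizer (Q : Set P)) := by
  refine Nat.card_congr
    { toFun := fun z => ⟨(z.1 : P), Subgroup.mem_inf.2 ⟨z.1.2, Subgroup.mem_centralizer_iff.2 ?_⟩⟩
      invFun := fun z => ⟨⟨z.1, (Subgroup.mem_inf.1 z.2).1⟩, Subgroup.mem_center_iff.2 ?_⟩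
      left_inv := fun z => rfl
      right_inv := fun z => rfl }
  · intro x hx
    have := (Subgroup.mem_center_iff.1 z.2) ⟨x, hx⟩
    exact congrArg Subtype.val this
  · rintro ⟨x, hx⟩
    apply Subtype.ext
    exact (Subgroup.mem_centralizer_iff.1 (Subgroup.mem_inf.1 z.2).2) x hx

theorem centralProduct_bound {P : Type*} [Group P] [Finite P] (X : Subgroup P) :
    Nat.card ↥X * Nat.card ↥(Subgroup.center ↥X) ≤ Cfsg.maxCentralProduct P := by
  apply le_csSup
  · have : {k : ℕ | ∃ R : Subgroup P, Nat.card ↥R * Nat.card ↥(Subgroup.center ↥R) = k}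
        = Set.range (fun R : Subgroup P => Nat.card ↥R * Nat.card ↥(Subgroup.center ↥R)) := rfl
    rw [this]
    exact (Set.finite_range _).bddAbove
  · exact ⟨X, rfl⟩

theorem exists_centralizer_large (P : Type*) [Group P] [Finite P] :
    ∃ Q : Subgroup P, Cfsg.IsCentralizerLarge Q := by
  have hne : {k : ℕ | ∃ R : Subgroup P, Nat.card ↥R * Nat.card ↥(Subgroup.centralizer (R : Set P)) = k}.Nonempty :=
    ⟨_, ⊥, rfl⟩
  have hbdd : BddAbove {k : ℕ | ∃ R : Subgroup P, Nat.card ↥R * Nat.card ↥(Subgroup.centralizer (R : Set P)) = k} := by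
    have : {k : ℕ | ∃ R : Subgroup P, Nat.card ↥R * Nat.card ↥(Subgroup.centralizer (R : Set P)) = k}
        = Set.range (fun R : Subgroup P => Nat.card ↥R * Nat.card ↥(Subgroup.centralizer (R : Set P))) := rfl
    rw [this]
    exact (Set.finite_range _).bddAbove
  obtain ⟨R, hR⟩ := Nat.sSup_mem hne hbdd
  exact ⟨R, hR⟩

theorem card_center_mul_eq_of_le {P : Type*} [Group P] [Finite P] (Q : Subgroup P)
    (h : Subgroup.centralizer (Q : Set P) ≤ Q) :
    Nat.card ↥(Subgroup.center ↥Q) = Nat.card ↥(Subgroup.centralizer (Q : Set P)) := by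
  rw [card_center_eq, inf_eq_right.2 h]

theorem exists_large_self_centralizing (P : Type*) [Group P] [Finite P] :
    ∃ Q : Subgroup P, Cfsg.IsCentralizerLarge Q ∧ Subgroup.centralizer (Q : Set P) ≤ Q := by
  obtain ⟨Q, hQ⟩ := exists_centralizer_large P
  obtain ⟨h5, h6⟩ := large_centralizer Q hQ
  obtain ⟨h1, _, _, _⟩ := large_key Q _ hQ h5
  refine ⟨_, h1, ?_⟩
  rw [centralizer_sup_eq]
  calc _ ≤ Subgroup.centralizer (Q : Set P) := inf_le_left
    _ ≤ _ := le_sup_right

theorem maxCentral_eq (P : Type*) [Group P] [Finite P] :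
    Cfsg.maxCentralProduct P = Cfsg.maxCentralizerProduct P := by
  obtain ⟨Q, hQ, hle⟩ := exists_large_self_centralizing P
  apply le_antisymm
  · apply csSup_le'
    rintro _ ⟨R, rfl⟩
    refine le_trans ?_ (mem_bound R)
    apply Nat.mul_le_mul_left
    rw [card_center_eq]
    exact Nat.card_mono (Set.toFinite _) (fun x hx => (Subgroup.mem_inf.1 hx).2)
  · have := centralProduct_bound Q
    rw [card_center_mul_eq_of_le Q hle, hQ] at this
    exact this

theorem centrallyLarge_iff {P : Type*} [Group P] [Finite P] (Q : Subgroup P) :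
    Cfsg.IsCentrallyLarge Q ↔ Cfsg.IsCentralizerLarge Q ∧ Subgroup.centralizer (Q : Set P) ≤ Q := by
  constructor
  · intro hQ
    have hQ' : Nat.card ↥Q * Nat.card ↥(Subgroup.center ↥Q) = Cfsg.maxCentralizerProduct P := by
      rw [← maxCentral_eq]; exact hQ
    have h1 : Nat.card ↥(Q ⊓ Subgroup.centralizer (Q : Set P)) ≤ Nat.card ↥(Subgroup.centralizer (Q : Set P)) :=
      Nat.card_mono (Set.toFinite _) (fun x hx => (Subgroup.mem_inf.1 hx).2)
    rw [card_center_eq] at hQ'
    have h2 := mem_bound Q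
    have h3 : Nat.card ↥Q * Nat.card ↥(Q ⊓ Subgroup.centralizer (Q : Set P)) ≤
        Nat.card ↥Q * Nat.card ↥(Subgroup.centralizer (Q : Set P)) := Nat.mul_le_mul_left _ h1
    have h4 : Nat.card ↥Q * Nat.card ↥(Subgroup.centralizer (Q : Set P)) = Cfsg.maxCentralizerProduct P :=
      le_antisymm h2 (by omega)
    refine ⟨h4, ?_⟩
    have h5 : Nat.card ↥(Q ⊓ Subgroup.centralizer (Q : Set P)) = Nat.card ↥(Subgroup.centralizer (Q : Set P)) :=
      Nat.eq_of_mul_eq_mul_left Nat.card_pos (hQ'.trans h4.symm)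
    have h6 : ((Q ⊓ Subgroup.centralizer (Q : Set P) : Subgroup P) : Set P) =
        (Subgroup.centralizer (Q : Set P) : Set P) :=
      eq_of_card_le (fun x hx => (Subgroup.mem_inf.1 hx).2) h5.ge
    have h7 : Q ⊓ Subgroup.centralizer (Q : Set P) = Subgroup.centralizer (Q : Set P) :=
      SetLike.coe_injective h6
    exact inf_eq_right.1 h7
  · rintro ⟨hQ, hle⟩
    show _ * _ = _
    rw [maxCentral_eq, card_center_mul_eq_of_le Q hle]
    exact hQ

theorem centrallyLarge_sup {P : Type*} [Group P] [Finite P] (Q R : Subgroup P)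
    (hQ : Cfsg.IsCentrallyLarge Q) (hR : Cfsg.IsCentrallyLarge R) :
    ((Q ⊔ R : Subgroup P) : Set P) = (Q : Set P) * (R : Set P) ∧ Cfsg.IsCentrallyLarge (Q ⊔ R) := by
  obtain ⟨h1, h2⟩ := (centrallyLarge_iff Q).1 hQ
  obtain ⟨h3, h4⟩ := (centrallyLarge_iff R).1 hR
  obtain ⟨h5, _, h6, _⟩ := large_key Q R h1 h3
  refine ⟨h6, (centrallyLarge_iff _).2 ⟨h5, ?_⟩⟩
  rw [centralizer_sup_eq]
  calc _ ≤ Subgroup.centralizer (Q : Set P) := inf_le_left
    _ ≤ Q := h2
    _ ≤ _ := le_sup_left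

theorem sSup_mem_of_closed {P : Type*} [Group P] [Finite P] (C S : Set (Subgroup P)) (hne : S.Nonempty)
    (hS : S ⊆ C) (hC : ∀ Q R, Q ∈ C → R ∈ C → Q ⊔ R ∈ C) : sSup S ∈ C := by
  classical
  have hfin : S.Finite := Set.toFinite S
  have h1 : (hfin.toFinset).Nonempty := by simpa using hne
  have h2 := Finset.sup'_mem C (fun x hx y hy => hC x y hx hy) hfin.toFinset h1 id
    (fun i hi => hS (by simpa using hi))
  have h3 : hfin.toFinset.sup' h1 id = sSup S := by
    rw [Finset.sup'_eq_sup, Finset.sup_id_eq_sSup, Set.Finite.coe_toFinset]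
  rwa [h3] at h2

/-- Let P be a finite p-group; call R ≤ P centrally large if |R|·|Z(R)| is as large as possible among subgroups of P, and measure-largest if |R|·|C_P(R)| is as large as possible. Then: a centrally large Q is measure-largest with C_P(Q) = Z(Q); a measure-largest Q is centrally large if and only if C_P(Q) ≤ Q; if Q and R are centrally large then QR = RQ is a centrally large subgroup; and the subgroups generated by all centrally large subgroups, respectively by all minimal centrally large subgroups, are themselves centrally large. -/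
theorem result {p : ℕ} [Fact p.Prime] (P : Type*) [Group P] [Finite P] (hP : IsPGroup p P) : (∀ Q : Subgroup P, Cfsg.IsCentrallyLarge Q → Cfsg.IsCentralizerLarge Q ∧ Subgroup.centralizer (Q : Set P) = Q ⊓ Subgroup.centralizer (Q : Set P)) ∧ (∀ Q : Subgroup P, Cfsg.IsCentralizerLarge Q → (Cfsg.IsCentrallyLarge Q ↔ Subgroup.centralizer (Q : Set P) ≤ Q)) ∧ (∀ Q R : Subgroup P, Cfsg.IsCentrallyLarge Q → Cfsg.IsCentrallyLarge R → ((Q ⊔ R : Subgroup P) : Set P) = (Q : Set P) * (R : Set P) ∧ Cfsg.IsCentrallyLarge (Q ⊔ R)) ∧ Cfsg.IsCentrallyLarge (Cfsg.centrallyLargeJoin P) ∧ Cfsg.IsCentrallyLarge (Cfsg.minimalCentrallyLargeJoin P) := by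
  have hCL : ∃ Q : Subgroup P, Cfsg.IsCentrallyLarge Q := by
    obtain ⟨Q, h1, h2⟩ := exists_large_self_centralizing P
    exact ⟨Q, (centrallyLarge_iff Q).2 ⟨h1, h2⟩⟩
  refine ⟨?_, ?_, fun Q R hQ hR => centrallyLarge_sup Q R hQ hR, ?_, ?_⟩
  · intro Q hQ
    obtain ⟨h1, h2⟩ := (centrallyLarge_iff Q).1 hQ
    exact ⟨h1, (inf_eq_right.2 h2).symm⟩
  · intro Q hQ
    constructor
    · intro h
      exact ((centrallyLarge_iff Q).1 h).2
    · intro h
      exact (centrallyLarge_iff Q).2 ⟨hQ, h⟩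
  · obtain ⟨Q, hQ⟩ := hCL
    exact sSup_mem_of_closed {R | Cfsg.IsCentrallyLarge R} {R | Cfsg.IsCentrallyLarge R} ⟨Q, hQ⟩
      subset_rfl (fun Q R hQ hR => (centrallyLarge_sup Q R hQ hR).2)
  · obtain ⟨Q, hQ⟩ := hCL
    have hfin : ({R | Cfsg.IsCentrallyLarge R} : Set (Subgroup P)).Finite := Set.toFinite _
    obtain ⟨b, _, hb⟩ := hfin.exists_le_minimal hQ
    refine sSup_mem_of_closed {R | Cfsg.IsCentrallyLarge R} {R | Cfsg.IsMinimalCentrallyLarge R} ⟨b, ?_⟩
      (fun R hR => hR.1) (fun Q R hQ hR => (centrallyLarge_sup Q R hQ hR).2)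
    refine ⟨hb.1, fun R' hR' hCL' => le_antisymm hR' (hb.2 hCL' hR')⟩

end Cfsg.Agent.S3005
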