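import Cfsg.Statements.S3006
import Mathlib
import Cfsg.Agent.S3005

set_option autoImplicit false
open scoped Pointwise
open Cfsg

namespace Cfsg.Agent.S3006

open Cfsg.Agent.S3004 Cfsg.Agent.S3005

/-- Commuting abelian subgroups generate an abelian subgroup. -/
theorem isMulCommutative_sup {P : Type*} [Group P] (A B : Subgroup P)
    (hA : IsMulCommutative A) (hB : IsMulCommutative B)
    (hAB : ∀ a ∈ A, ∀ b ∈ B, a * b = b * a) : IsMulCommutative ↥(A ⊔ B) := by
  rw [Subgroup.sup_eq_closure]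
  apply Subgroup.isMulCommutative_closure
  rintro x (hx | hx) y (hy | hy)
  · exact setLike_mul_comm hx hy
  · exact hAB x hx y hy
  · exact (hAB y hy x hx).symm
  · exact setLike_mul_comm hx hy

/-- An abelian subgroup of largest order contains its centralizer. -/
theorem centralizer_le_of_max {P : Type*} [Group P] [Finite P] (A : Subgroup P)
    (hA : A ∈ Cfsg.maxAbelianSubgroups P) : Subgroup.centralizer (A : Set P) ≤ A := by
  intro x hx
  have h1 : IsMulCommutative ↥(A ⊔ Subgroup.zpowers x) := by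
    refine isMulCommutative_sup _ _ hA.1 inferInstance ?_
    intro a ha b hb
    have h2 : Subgroup.zpowers x ≤ Subgroup.centralizer (A : Set P) := by
      rw [Subgroup.zpowers_le]; exact hx
    exact ((Subgroup.mem_centralizer_iff.1 (h2 hb)) a ha)
  have h3 := hA.2 _ h1
  have h4 : (A : Set P) = ((A ⊔ Subgroup.zpowers x : Subgroup P) : Set P) :=
    eq_of_card_le (SetLike.coe_subset_coe.2 le_sup_left) h3
  have h5 : x ∈ ((A ⊔ Subgroup.zpowers x : Subgroup P) : Set P) :=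
    (le_sup_right : Subgroup.zpowers x ≤ A ⊔ Subgroup.zpowers x) (Subgroup.mem_zpowers x)
  rw [← h4] at h5
  exact h5

theorem arith_aux2 (s r d q a e z t b : ℕ) (h1 : s * d = q * a) (h2 : t * e = z * d) (hs : s ≤ r)
    (ht : t ≤ b) (hb : b ≤ a) (hm : r * e ≤ q * z) (hd : 0 < d) (he : 0 < e) (hq : 0 < q) :
    s = r ∧ r * e = q * z ∧ t = b ∧ b = a := by
  have c1 : s * (d * e) ≤ r * (d * e) := Nat.mul_le_mul_right _ hs
  have c2 : (r * e) * d ≤ (q * z) * d := Nat.mul_le_mul_right _ hm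
  have c3 : (q * e) * t ≤ (q * e) * b := Nat.mul_le_mul_left _ ht
  have c4 : (q * e) * b ≤ (q * e) * a := Nat.mul_le_mul_left _ hb
  have e1 : s * (d * e) = (q * e) * a := by
    calc s * (d * e) = (s * d) * e := by ring
      _ = (q * a) * e := by rw [h1]
      _ = (q * e) * a := by ring
  have e2 : r * (d * e) = (r * e) * d := by ring
  have e3 : (q * z) * d = (q * e) * t := by
    calc (q * z) * d = q * (z * d) := by ring
      _ = q * (t * e) := by rw [h2]
      _ = (q * e) * t := by ring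
  have hde : 0 < d * e := Nat.mul_pos hd he
  have hqe : 0 < q * e := Nat.mul_pos hq he
  have f1 : s * (d * e) = r * (d * e) := le_antisymm c1 (by omega)
  have f2 : (r * e) * d = (q * z) * d := le_antisymm c2 (by omega)
  have f3 : (q * e) * t = (q * e) * b := le_antisymm c3 (by omega)
  have f4 : (q * e) * b = (q * e) * a := le_antisymm c4 (by omega)
  exact ⟨Nat.eq_of_mul_eq_mul_right hde f1, Nat.eq_of_mul_eq_mul_right hd f2,
    Nat.eq_of_mul_eq_mul_left hqe f3, Nat.eq_of_mul_eq_mul_left hqe f4⟩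

theorem step_main {P : Type*} [Group P] [Finite P] (Q A : Subgroup P)
    (hQ : Cfsg.IsCentrallyLarge Q) (hA : A ∈ Cfsg.maxAbelianSubgroups P) :
    ((Q ⊔ A : Subgroup P) : Set P) = (Q : Set P) * (A : Set P) ∧ Cfsg.IsCentrallyLarge (Q ⊔ A) ∧
      (Q ⊔ A) ⊓ Subgroup.centralizer ((Q ⊓ A : Subgroup P) : Set P) =
        Subgroup.centralizer (Q : Set P) ⊔ A ∧
      ((Subgroup.centralizer (Q : Set P) ⊔ A : Subgroup P) : Set P) =
        (Subgroup.centralizer (Q : Set P) : Set P) * (A : Set P) := by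
  obtain ⟨hQm, hle⟩ := (centrallyLarge_iff Q).1 hQ
  set Z := Subgroup.centralizer (Q : Set P) with hZ
  have hAc : A ≤ Subgroup.centralizer (A : Set P) := by
    intro x hx
    refine Subgroup.mem_centralizer_iff.2 fun y hy => ?_
    have := hA.1
    exact setLike_mul_comm hy hx
  have hCA : Subgroup.centralizer (A : Set P) = A := le_antisymm (centralizer_le_of_max A hA) hAc
  have hCR : Subgroup.centralizer ((Q ⊔ A : Subgroup P) : Set P) = Z ⊓ A := by
    rw [centralizer_sup_eq, hCA]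
  have hZinf : Z ⊓ (Q ⊓ A) = Z ⊓ A := by
    rw [← inf_assoc, inf_eq_left.2 hle]
  have hZcomm : IsMulCommutative ↥Z := by
    refine ⟨⟨fun x y => Subtype.ext ?_⟩⟩
    exact (Subgroup.mem_centralizer_iff.1 x.2) y (hle y.2) |>.symm
  have hDcomm : IsMulCommutative ↥(Q ⊓ A) := by
    refine ⟨⟨fun x y => Subtype.ext ?_⟩⟩
    have := hA.1
    exact setLike_mul_comm (Subgroup.mem_inf.1 x.2).2 (Subgroup.mem_inf.1 y.2).2
  have hBcomm : IsMulCommutative ↥(Z ⊔ (Q ⊓ A)) := by
    refine isMulCommutative_sup _ _ hZcomm hDcomm ?_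
    intro a ha b hb
    exact ((Subgroup.mem_centralizer_iff.1 ha) b (Subgroup.mem_inf.1 hb).1).symm
  have h1 := card_mul_set_mul_card_inf Q A
  have h2 := card_mul_set_mul_card_inf Z (Q ⊓ A)
  rw [hZinf] at h2
  have hsub1 : (Q : Set P) * (A : Set P) ⊆ ((Q ⊔ A : Subgroup P) : Set P) := by
    rintro _ ⟨a, ha, b, hb, rfl⟩
    exact (Q ⊔ A).mul_mem ((le_sup_left : Q ≤ Q ⊔ A) ha) ((le_sup_right : A ≤ Q ⊔ A) hb)
  have hsub2 : (Z : Set P) * ((Q ⊓ A : Subgroup P) : Set P) ⊆ ((Z ⊔ (Q ⊓ A) : Subgroup P) : Set P) := by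
    rintro _ ⟨a, ha, b, hb, rfl⟩
    exact (Z ⊔ (Q ⊓ A)).mul_mem ((le_sup_left : Z ≤ Z ⊔ (Q ⊓ A)) ha)
      ((le_sup_right : Q ⊓ A ≤ Z ⊔ (Q ⊓ A)) hb)
  have hs : Nat.card ((Q : Set P) * (A : Set P) : Set P) ≤ Nat.card ↥(Q ⊔ A) :=
    Nat.card_mono (Set.toFinite _) hsub1
  have ht : Nat.card ((Z : Set P) * ((Q ⊓ A : Subgroup P) : Set P) : Set P) ≤ Nat.card ↥(Z ⊔ (Q ⊓ A)) :=
    Nat.card_mono (Set.toFinite _) hsub2
  have hb : Nat.card ↥(Z ⊔ (Q ⊓ A)) ≤ Nat.card A := hA.2 _ hBcomm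
  have hm : Nat.card ↥(Q ⊔ A) * Nat.card ↥(Z ⊓ A) ≤ Nat.card Q * Nat.card Z := by
    have h3 := mem_bound (Q ⊔ A)
    rw [hCR, ← hQm] at h3
    exact h3
  obtain ⟨e1, e2, e3, e4⟩ := arith_aux2 _ _ _ _ _ _ _ _ _ h1 h2 hs ht hb hm Nat.card_pos Nat.card_pos
    Nat.card_pos
  have hset1 : ((Q ⊔ A : Subgroup P) : Set P) = (Q : Set P) * (A : Set P) :=
    (eq_of_card_le hsub1 e1.ge).symm
  have hset2 : ((Z ⊔ (Q ⊓ A) : Subgroup P) : Set P) = (Z : Set P) * ((Q ⊓ A : Subgroup P) : Set P) :=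
    (eq_of_card_le hsub2 e3.ge).symm
  have hBmax : Z ⊔ (Q ⊓ A) ∈ Cfsg.maxAbelianSubgroups P :=
    ⟨hBcomm, fun B hB => (hA.2 B hB).trans e4.ge⟩
  have hCB := centralizer_le_of_max _ hBmax
  have hCQD : ∀ x ∈ Q, x ∈ Subgroup.centralizer ((Q ⊓ A : Subgroup P) : Set P) →
      x ∈ (Z : Set P) * ((Q ⊓ A : Subgroup P) : Set P) := by
    intro x hx hxD
    rw [← hset2]
    apply hCB
    rw [centralizer_sup_eq]
    refine Subgroup.mem_inf.2 ⟨?_, hxD⟩
    refine Subgroup.mem_centralizer_iff.2 fun y hy => ?_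
    exact ((Subgroup.mem_centralizer_iff.1 hy) x hx).symm
  have hge : Z ⊔ A ≤ (Q ⊔ A) ⊓ Subgroup.centralizer ((Q ⊓ A : Subgroup P) : Set P) := by
    apply sup_le
    · refine le_inf (hle.trans le_sup_left) ?_
      exact Subgroup.centralizer_le (SetLike.coe_subset_coe.2 inf_le_left)
    · refine le_inf le_sup_right ?_
      exact hAc.trans (Subgroup.centralizer_le (SetLike.coe_subset_coe.2 inf_le_right))
  have hkey : ∀ x ∈ (Q ⊔ A) ⊓ Subgroup.centralizer ((Q ⊓ A : Subgroup P) : Set P),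
      x ∈ (Z : Set P) * (A : Set P) := by
    intro x hx
    obtain ⟨hx1, hx2⟩ := Subgroup.mem_inf.1 hx
    have hx1' : x ∈ ((Q ⊔ A : Subgroup P) : Set P) := hx1
    rw [hset1] at hx1'
    obtain ⟨q, hq, a, ha, rfl⟩ := Set.mem_mul.1 hx1'
    have haD : a ∈ Subgroup.centralizer ((Q ⊓ A : Subgroup P) : Set P) :=
      Subgroup.centralizer_le (SetLike.coe_subset_coe.2 inf_le_right) (hAc ha)
    have hqD : q ∈ Subgroup.centralizer ((Q ⊓ A : Subgroup P) : Set P) := by
      have := Subgroup.mul_mem _ hx2 (Subgroup.inv_mem _ haD)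
      simpa using this
    obtain ⟨z, hz, d, hd, rfl⟩ := Set.mem_mul.1 (hCQD q hq hqD)
    refine Set.mem_mul.2 ⟨z, hz, d * a, ?_, by group⟩
    exact A.mul_mem (Subgroup.mem_inf.1 hd).2 ha
  refine ⟨hset1, ?_, ?_, ?_⟩
  · refine (centrallyLarge_iff _).2 ⟨?_, ?_⟩
    · show _ * Nat.card ↥(Subgroup.centralizer ((Q ⊔ A : Subgroup P) : Set P)) = _
      rw [hCR, e2]
      exact hQm
    · rw [hCR]
      exact inf_le_right.trans le_sup_right
  · apply le_antisymm _ hge
    intro x hx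
    obtain ⟨z, hz, a, ha, rfl⟩ := Set.mem_mul.1 (hkey x hx)
    exact (Z ⊔ A).mul_mem ((le_sup_left : Z ≤ Z ⊔ A) hz) ((le_sup_right : A ≤ Z ⊔ A) ha)
  · apply Set.Subset.antisymm
    · intro x hx
      exact hkey x (hge hx)
    · rintro _ ⟨a, ha, b, hb, rfl⟩
      exact (Z ⊔ A).mul_mem ((le_sup_left : Z ≤ Z ⊔ A) ha) ((le_sup_right : A ≤ Z ⊔ A) hb)

/-- Let P be a finite p-group, Q a centrally large subgroup of P (|Q|·|Z(Q)| maximal among subgroups of P) and A an abelian subgroup of P of largest order. Then QA = AQ is a centrally large subgroup of P, C_{QA}(Q ∩ A) = Z(Q)·A, and the subgroup generated by all centrally large subgroups of P contains C_P(Z(J(P))), where J(P) is generated by the abelian subgroups of largest order. -/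
theorem result {p : ℕ} [Fact p.Prime] (P : Type*) [Group P] [Finite P] (hP : IsPGroup p P) (Q A : Subgroup P) (hQ : Cfsg.IsCentrallyLarge Q) (hA : A ∈ Cfsg.maxAbelianSubgroups P) : ((Q ⊔ A : Subgroup P) : Set P) = (Q : Set P) * (A : Set P) ∧ Cfsg.IsCentrallyLarge (Q ⊔ A) ∧ (Q ⊔ A) ⊓ Subgroup.centralizer ((Q ⊓ A : Subgroup P) : Set P) = (Q ⊓ Subgroup.centralizer (Q : Set P)) ⊔ A ∧ (((Q ⊓ Subgroup.centralizer (Q : Set P)) ⊔ A : Subgroup P) : Set P) = ((Q ⊓ Subgroup.centralizer (Q : Set P)) : Set P) * (A : Set P) ∧ Subgroup.centralizer ((Cfsg.thompsonSubgroupA P ⊓ Subgroup.centralizer (Cfsg.thompsonSubgroupA P : Set P) : Subgroup P) : Set P) ≤ Cfsg.centrallyLargeJoin P := by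
  obtain ⟨hQm, hle⟩ := (centrallyLarge_iff Q).1 hQ
  obtain ⟨h1, h2, h3, h4⟩ := step_main Q A hQ hA
  have hZ : Q ⊓ Subgroup.centralizer (Q : Set P) = Subgroup.centralizer (Q : Set P) :=
    inf_eq_right.2 hle
  refine ⟨h1, h2, ?_, ?_, ?_⟩
  · rw [hZ]; exact h3
  · rw [hZ]
    show ((Subgroup.centralizer (Q : Set P) ⊔ A : Subgroup P) : Set P) = _
    rw [h4]
    congr 1
    exact congrArg (fun X : Subgroup P => (X : Set P)) hZ.symm
  · have hX : Cfsg.IsCentrallyLarge (Cfsg.centrallyLargeJoin P) :=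
      (Cfsg.Agent.S3005.result P hP).2.2.2.1
    obtain ⟨hXm, hXle⟩ := (centrallyLarge_iff _).1 hX
    have hJ : Cfsg.thompsonSubgroupA P ≤ Cfsg.centrallyLargeJoin P := by
      apply sSup_le
      intro B hB
      have h5 := (step_main Q B hQ hB).2.1
      exact (le_sup_right : B ≤ Q ⊔ B).trans (le_sSup h5)
    have hBJ : A ≤ Cfsg.thompsonSubgroupA P := le_sSup hA
    have h6 : Subgroup.centralizer (Cfsg.centrallyLargeJoin P : Set P) ≤
        Cfsg.thompsonSubgroupA P ⊓ Subgroup.centralizer (Cfsg.thompsonSubgroupA P : Set P) := by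
      have h7 : Subgroup.centralizer (Cfsg.centrallyLargeJoin P : Set P) ≤
          Subgroup.centralizer (Cfsg.thompsonSubgroupA P : Set P) :=
        Subgroup.centralizer_le (SetLike.coe_subset_coe.2 hJ)
      refine le_inf ?_ h7
      calc _ ≤ _ := h7
        _ ≤ Subgroup.centralizer (A : Set P) :=
          Subgroup.centralizer_le (SetLike.coe_subset_coe.2 hBJ)
        _ ≤ A := centralizer_le_of_max A hA
        _ ≤ _ := hBJ
    calc _ ≤ Subgroup.centralizer ((Subgroup.centralizer (Cfsg.centrallyLargeJoin P : Set P) : Subgroup P) : Set P) :=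
          Subgroup.centralizer_le (SetLike.coe_subset_coe.2 h6)
      _ = _ := ((large_centralizer _ hXm).2).symm

end Cfsg.Agent.S3006
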