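import Cfsg.Statements.S3007
import Mathlib
import Cfsg.Agent.S3006

set_option autoImplicit false
open Cfsg

namespace Cfsg.Agent.S3007

open scoped commutatorElement Pointwise
open Cfsg.Agent.S3004 Cfsg.Agent.S3005 Cfsg.Agent.S3006

theorem min_decomp {P : Type*} [Group P] [Finite P] (Q R : Subgroup P)
    (hQ : Cfsg.IsMinimalCentrallyLarge Q) (hR : Cfsg.IsCentrallyLarge R) :
    (Q ⊓ R) ⊔ Subgroup.centralizer (Q : Set P) = Q ∧
      ((Q : Subgroup P) : Set P) =
        ((Q ⊓ R : Subgroup P) : Set P) * (Subgroup.centralizer (Q : Set P) : Set P) := by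
  obtain ⟨hQm, hQle⟩ := (centrallyLarge_iff Q).1 hQ.1
  obtain ⟨hRm, hRle⟩ := (centrallyLarge_iff R).1 hR
  obtain ⟨_, hI, _, hCI⟩ := large_key Q R hQm hRm
  obtain ⟨hZ, hZZ⟩ := large_centralizer Q hQm
  obtain ⟨hY, _, hYset, _⟩ := large_key _ _ hI hZ
  have hYle : (Q ⊓ R) ⊔ Subgroup.centralizer (Q : Set P) ≤ Q := sup_le inf_le_left hQle
  have hCY : Subgroup.centralizer (((Q ⊓ R) ⊔ Subgroup.centralizer (Q : Set P) : Subgroup P) : Set P) ≤
      (Q ⊓ R) ⊔ Subgroup.centralizer (Q : Set P) := by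
    rw [centralizer_sup_eq, ← hZZ]
    rintro x ⟨hx1, hx2⟩
    have hx1' : x ∈ ((Subgroup.centralizer ((Q ⊓ R : Subgroup P) : Set P) : Subgroup P) : Set P) := hx1
    rw [hCI] at hx1'
    obtain ⟨z, hz, w, hw, rfl⟩ := Set.mem_mul.1 hx1'
    have hwQ : w ∈ Q := by
      have := Q.mul_mem (Q.inv_mem (hQle hz)) hx2
      simpa using this
    have hwR : w ∈ R := hRle hw
    exact Subgroup.mul_mem _ ((le_sup_right : _ ≤ (Q ⊓ R) ⊔ Subgroup.centralizer (Q : Set P)) hz)
      ((le_sup_left : _ ≤ (Q ⊓ R) ⊔ Subgroup.centralizer (Q : Set P)) (Subgroup.mem_inf.2 ⟨hwQ, hwR⟩))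
  have hYCL : Cfsg.IsCentrallyLarge ((Q ⊓ R) ⊔ Subgroup.centralizer (Q : Set P)) :=
    (centrallyLarge_iff _).2 ⟨hY, hCY⟩
  have hEq := hQ.2 _ hYle hYCL
  refine ⟨hEq, ?_⟩
  rw [← hYset, hEq]

theorem comm_mul_aux {P : Type*} [Group P] (a b z w : P) (h1 : z * b = b * z) (h2 : z * w = w * z)
    (h3 : w * a = a * w) : ⁅a * z, b * w⁆ = ⁅a, b⁆ := by
  have h5 : z * (b * w) = (b * w) * z := by
    rw [← mul_assoc, h1, mul_assoc, h2, mul_assoc]
  have h6 : a⁻¹ * w = w * a⁻¹ := by
    rw [inv_mul_eq_iff_eq_mul, ← mul_assoc, ← h3]; group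
  rw [commutatorElement_def, commutatorElement_def]
  calc a * z * (b * w) * (a * z)⁻¹ * (b * w)⁻¹ = a * (z * (b * w)) * z⁻¹ * a⁻¹ * (b * w)⁻¹ := by group
    _ = a * ((b * w) * z) * z⁻¹ * a⁻¹ * (b * w)⁻¹ := by rw [h5]
    _ = a * b * (w * a⁻¹) * w⁻¹ * b⁻¹ := by group
    _ = a * b * (a⁻¹ * w) * w⁻¹ * b⁻¹ := by rw [h6]
    _ = a * b * a⁻¹ * b⁻¹ := by group

theorem commutator_eq {P : Type*} [Group P] [Finite P] (Q R : Subgroup P)
    (hQ : Cfsg.IsMinimalCentrallyLarge Q) (hR : Cfsg.IsCentrallyLarge R) :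
    ⁅Q, Q⁆ = ⁅Q ⊓ R, Q ⊓ R⁆ := by
  obtain ⟨_, hset⟩ := min_decomp Q R hQ hR
  obtain ⟨hQm, hQle⟩ := (centrallyLarge_iff Q).1 hQ.1
  apply le_antisymm
  · rw [Subgroup.commutator_le]
    intro x hx y hy
    have hx' : x ∈ ((Q : Subgroup P) : Set P) := hx
    have hy' : y ∈ ((Q : Subgroup P) : Set P) := hy
    rw [hset] at hx' hy'
    obtain ⟨i, hi, z, hz, rfl⟩ := Set.mem_mul.1 hx'
    obtain ⟨j, hj, w, hw, rfl⟩ := Set.mem_mul.1 hy'
    have hi' : i ∈ Q := (Subgroup.mem_inf.1 hi).1
    have hj' : j ∈ Q := (Subgroup.mem_inf.1 hj).1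
    rw [comm_mul_aux i j z w
      ((Subgroup.mem_centralizer_iff.1 hz) j hj').symm
      ((Subgroup.mem_centralizer_iff.1 hz) w (hQle hw)).symm
      ((Subgroup.mem_centralizer_iff.1 hw) i hi').symm]
    exact Subgroup.commutator_mem_commutator hi hj
  · exact Subgroup.commutator_mono inf_le_left inf_le_left

theorem card_eq_aux (q r z y i w : ℕ) (h1 : q * w = i * z) (h2 : r * w = i * y) (h3 : q * z = r * y)
    (hw : 0 < w) (hy : 0 < y) (hz : 0 < z) (hq : 0 < q) : q = r ∧ z = y := by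
  have h4 : q * y = r * z := by
    apply Nat.eq_of_mul_eq_mul_right hw
    calc q * y * w = (q * w) * y := by ring
      _ = i * z * y := by rw [h1]
      _ = z * (i * y) := by ring
      _ = z * (r * w) := by rw [h2]
      _ = r * z * w := by ring
  have h5 : q * q = r * r := by
    apply Nat.eq_of_mul_eq_mul_right (Nat.mul_pos hy hz)
    calc q * q * (y * z) = (q * y) * (q * z) := by ring
      _ = (r * z) * (r * y) := by rw [h4, h3]
      _ = r * r * (y * z) := by ring
  have h6 : q = r := Nat.mul_self_inj.1 h5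
  subst h6
  exact ⟨rfl, Nat.eq_of_mul_eq_mul_left hq h3⟩

theorem card_eqs {P : Type*} [Group P] [Finite P] (Q R : Subgroup P)
    (hQ : Cfsg.IsMinimalCentrallyLarge Q) (hR : Cfsg.IsMinimalCentrallyLarge R) :
    Nat.card Q = Nat.card R ∧
      Nat.card (Subgroup.centralizer (Q : Set P)) = Nat.card (Subgroup.centralizer (R : Set P)) := by
  obtain ⟨h1, hset1⟩ := min_decomp Q R hQ hR.1
  obtain ⟨h2, hset2⟩ := min_decomp R Q hR hQ.1
  obtain ⟨hQm, hQle⟩ := (centrallyLarge_iff Q).1 hQ.1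
  obtain ⟨hRm, hRle⟩ := (centrallyLarge_iff R).1 hR.1
  -- `W = C(Q) ∩ R = C(R) ∩ Q`
  have hW1 : Subgroup.centralizer (Q : Set P) ⊓ R ≤ Subgroup.centralizer (R : Set P) := by
    rintro x ⟨hx1, hx2⟩
    have hx2' : x ∈ R := hx2
    have : x ∈ Subgroup.centralizer (((R ⊓ Q) ⊔ Subgroup.centralizer (R : Set P) : Subgroup P) : Set P) := by
      rw [centralizer_sup_eq]
      refine Subgroup.mem_inf.2 ⟨?_, ?_⟩
      · exact Subgroup.centralizer_le (SetLike.coe_subset_coe.2 inf_le_right) hx1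
      · refine Subgroup.mem_centralizer_iff.2 fun y hy => ?_
        exact ((Subgroup.mem_centralizer_iff.1 hy) x hx2').symm
    rwa [h2] at this
  have hW2 : Subgroup.centralizer (R : Set P) ⊓ Q ≤ Subgroup.centralizer (Q : Set P) := by
    rintro x ⟨hx1, hx2⟩
    have hx2' : x ∈ Q := hx2
    have : x ∈ Subgroup.centralizer (((Q ⊓ R) ⊔ Subgroup.centralizer (Q : Set P) : Subgroup P) : Set P) := by
      rw [centralizer_sup_eq]
      refine Subgroup.mem_inf.2 ⟨?_, ?_⟩
      · exact Subgroup.centralizer_le (SetLike.coe_subset_coe.2 inf_le_right) hx1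
      · refine Subgroup.mem_centralizer_iff.2 fun y hy => ?_
        exact ((Subgroup.mem_centralizer_iff.1 hy) x hx2').symm
    rwa [h1] at this
  have hWeq : Subgroup.centralizer (Q : Set P) ⊓ R = Subgroup.centralizer (R : Set P) ⊓ Q := by
    apply le_antisymm
    · exact le_inf hW1 (inf_le_left.trans hQle)
    · exact le_inf hW2 (inf_le_left.trans hRle)
  have e1 := card_mul_set_mul_card_inf (Q ⊓ R) (Subgroup.centralizer (Q : Set P))
  have e2 := card_mul_set_mul_card_inf (R ⊓ Q) (Subgroup.centralizer (R : Set P))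
  rw [← hset1] at e1
  rw [← hset2] at e2
  have e3 : (Q ⊓ R) ⊓ Subgroup.centralizer (Q : Set P) = Subgroup.centralizer (Q : Set P) ⊓ R := by
    apply le_antisymm
    · exact le_inf inf_le_right (inf_le_left.trans inf_le_right)
    · exact le_inf (le_inf (inf_le_left.trans hQle) inf_le_right) inf_le_left
  have e4 : (R ⊓ Q) ⊓ Subgroup.centralizer (R : Set P) = Subgroup.centralizer (Q : Set P) ⊓ R := by
    rw [hWeq]
    apply le_antisymm
    · exact le_inf inf_le_right (inf_le_left.trans inf_le_right)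
    · exact le_inf (le_inf (inf_le_left.trans hRle) inf_le_right) inf_le_left
  rw [e3] at e1
  rw [e4, inf_comm R Q] at e2
  have e5 : Nat.card Q * Nat.card (Subgroup.centralizer (Q : Set P)) =
      Nat.card R * Nat.card (Subgroup.centralizer (R : Set P)) := hQm.trans hRm.symm
  exact card_eq_aux _ _ _ _ _ _ e1 e2 e5 Nat.card_pos Nat.card_pos Nat.card_pos Nat.card_pos

/-- Let P be a finite p-group and Q, R minimal centrally large subgroups of P (centrally large: |Q|·|Z(Q)| maximal among subgroups of P; minimal among such under inclusion). Then Q = (Q ∩ R)·Z(Q), the derived subgroups [Q, Q] and [R, R] coincide, |Q| = |R| and |Z(Q)| = |Z(R)|; and if Q is abelian then the minimal centrally large subgroups of P are exactly the abelian subgroups of P of largest order. -/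
theorem result {p : ℕ} [Fact p.Prime] (P : Type*) [Group P] [Finite P] (hP : IsPGroup p P) (Q R : Subgroup P) (hQ : Cfsg.IsMinimalCentrallyLarge Q) (hR : Cfsg.IsMinimalCentrallyLarge R) : (Q ⊓ R) ⊔ (Q ⊓ Subgroup.centralizer (Q : Set P)) = Q ∧ ⁅Q, Q⁆ = ⁅R, R⁆ ∧ Nat.card ↥Q = Nat.card ↥R ∧ Nat.card ↥(Q ⊓ Subgroup.centralizer (Q : Set P)) = Nat.card ↥(R ⊓ Subgroup.centralizer (R : Set P)) ∧ (IsMulCommutative ↥Q → ∀ X : Subgroup P, Cfsg.IsMinimalCentrallyLarge X ↔ X ∈ Cfsg.maxAbelianSubgroups P) := by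
  obtain ⟨hQm, hQle⟩ := (centrallyLarge_iff Q).1 hQ.1
  obtain ⟨hRm, hRle⟩ := (centrallyLarge_iff R).1 hR.1
  obtain ⟨c1, c2⟩ := card_eqs Q R hQ hR
  have hdec := (min_decomp Q R hQ hR.1).1
  refine ⟨?_, ?_, c1, ?_, ?_⟩
  · rw [inf_eq_right.2 hQle]; exact hdec
  · rw [commutator_eq Q R hQ hR.1, commutator_eq R Q hR hQ.1, inf_comm]
  · rw [inf_eq_right.2 hQle, inf_eq_right.2 hRle]; exact c2
  · intro hQc
    have hQcent : Subgroup.centralizer (Q : Set P) = Q := by
      apply le_antisymm hQle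
      intro x hx
      refine Subgroup.mem_centralizer_iff.2 fun y hy => ?_
      exact setLike_mul_comm hy hx
    have hM : Nat.card Q * Nat.card Q = Cfsg.maxCentralizerProduct P := by
      have := hQm
      unfold Cfsg.IsCentralizerLarge at this
      rwa [hQcent] at this
    have hcomm_bound : ∀ B : Subgroup P, IsMulCommutative B → Nat.card B ≤ Nat.card Q := by
      intro B hB
      have h1 := mem_bound B
      have hB' : B ≤ Subgroup.centralizer (B : Set P) := by
        intro x hx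
        refine Subgroup.mem_centralizer_iff.2 fun y hy => ?_
        exact setLike_mul_comm hy hx
      have h2 : Nat.card B ≤ Nat.card ↥(Subgroup.centralizer (B : Set P)) :=
        Nat.card_mono (Set.toFinite _) hB'
      have h3 : Nat.card B * Nat.card B ≤ Nat.card B * Nat.card ↥(Subgroup.centralizer (B : Set P)) :=
        Nat.mul_le_mul_left _ h2
      have h4 : Nat.card B * Nat.card B ≤ Nat.card Q * Nat.card Q := by
        rw [hM]; exact h3.trans h1
      exact Nat.mul_self_le_mul_self_iff.1 h4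
    have hQmax : Q ∈ Cfsg.maxAbelianSubgroups P := ⟨hQc, hcomm_bound⟩
    intro X
    constructor
    · intro hX
      obtain ⟨c3, c4⟩ := card_eqs Q X hQ hX
      obtain ⟨hXm, hXle⟩ := (centrallyLarge_iff X).1 hX.1
      rw [hQcent, c3] at c4
      have h5 : (Subgroup.centralizer (X : Set P) : Set P) = (X : Set P) :=
        eq_of_card_le (SetLike.coe_subset_coe.2 hXle) c4.le
      have hXc : IsMulCommutative ↥X := by
        refine ⟨⟨fun a b => Subtype.ext ?_⟩⟩
        have h6 : (a : P) ∈ Subgroup.centralizer (X : Set P) := by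
          have : (a : P) ∈ (Subgroup.centralizer (X : Set P) : Set P) := by
            rw [h5]; exact a.2
          exact this
        exact ((Subgroup.mem_centralizer_iff.1 h6) b b.2).symm
      exact ⟨hXc, fun B hB => (hcomm_bound B hB).trans c3.le⟩
    · intro hX
      have hXcent : Subgroup.centralizer (X : Set P) = X := by
        apply le_antisymm (centralizer_le_of_max X hX)
        have := hX.1
        intro x hx
        refine Subgroup.mem_centralizer_iff.2 fun y hy => ?_
        exact setLike_mul_comm hy hx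
      have hc : Nat.card X = Nat.card Q := le_antisymm (hcomm_bound X hX.1) (hX.2 Q hQc)
      refine ⟨(centrallyLarge_iff X).2 ⟨?_, hXcent.le⟩, ?_⟩
      · show _ * Nat.card ↥(Subgroup.centralizer (X : Set P)) = _
        rw [hXcent, hc]; exact hM
      · intro R' hR' hR'CL
        obtain ⟨_, h7⟩ := (centrallyLarge_iff R').1 hR'CL
        apply le_antisymm hR'
        have := hX.1
        refine le_trans ?_ h7
        intro x hx
        refine Subgroup.mem_centralizer_iff.2 fun y hy => ?_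
        exact setLike_mul_comm (hR' hy) hx

end Cfsg.Agent.S3007
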