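import Cfsg.Statements.S3008
import Mathlib
import Cfsg.Agent.S3007
import Cfsg.Agent.Lib.PGroup.Basic

set_option autoImplicit false
set_option linter.unusedSectionVars false
set_option linter.style.haveILetI false
set_option linter.unusedVariables false
open Cfsg

namespace Cfsg.Agent.S3008

open scoped commutatorElement Pointwise
open Cfsg.Agent.S3004 Cfsg.Agent.S3005 Cfsg.Agent.S3006 Cfsg.Agent.S3007

section Basic

variable {P : Type*} [Group P]

/-- centralizer abbreviation -/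
abbrev cz (K : Subgroup P) : Subgroup P := Subgroup.centralizer (K : Set P)

/-- normalizer abbreviation -/
abbrev nm (K : Subgroup P) : Subgroup P := Subgroup.normalizer (K : Set P)

/-- conjugate subgroup -/
def cj (g : P) (K : Subgroup P) : Subgroup P := K.map (MulAut.conj g).toMonoidHom

theorem mem_cj {g x : P} {K : Subgroup P} : x ∈ cj g K ↔ g⁻¹ * x * g ∈ K := by
  unfold cj
  rw [Subgroup.mem_map]
  constructor
  · rintro ⟨y, hy, rfl⟩
    have : g⁻¹ * (MulAut.conj g).toMonoidHom y * g = y := by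
      simp [MulAut.conj_apply]; group
    rwa [this]
  · intro h
    refine ⟨_, h, ?_⟩
    simp [MulAut.conj_apply]; group

theorem mem_cz {x : P} {K : Subgroup P} : x ∈ cz K ↔ ∀ y ∈ K, y * x = x * y :=
  Subgroup.mem_centralizer_iff

theorem mem_nm_iff {g : P} {K : Subgroup P} : g ∈ nm K ↔ cj g K = K := by
  rw [Subgroup.mem_normalizer_iff]
  constructor
  · intro h
    ext x
    have e : g * (g⁻¹ * x * g) * g⁻¹ = x := by group
    rw [mem_cj, h (g⁻¹ * x * g), e]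
  · intro h y
    have e : g⁻¹ * (g * y * g⁻¹) * g = y := by group
    have : g * y * g⁻¹ ∈ K ↔ y ∈ K := by
      conv_lhs => rw [← h]
      rw [mem_cj, e]
    exact this.symm

theorem cj_sup (g : P) (Q R : Subgroup P) : cj g (Q ⊔ R) = cj g Q ⊔ cj g R :=
  Subgroup.map_sup _ _ _

theorem cj_inf (g : P) (Q R : Subgroup P) : cj g (Q ⊓ R) = cj g Q ⊓ cj g R := by
  ext x; simp [mem_cj, Subgroup.mem_inf]

theorem cj_cz (g : P) (K : Subgroup P) : cj g (cz K) = cz (cj g K) := by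
  ext x
  rw [mem_cj, mem_cz, mem_cz]
  constructor
  · intro h y hy
    rw [mem_cj] at hy
    have := h _ hy
    have e1 : y * x = g * ((g⁻¹ * y * g) * (g⁻¹ * x * g)) * g⁻¹ := by group
    have e2 : x * y = g * ((g⁻¹ * x * g) * (g⁻¹ * y * g)) * g⁻¹ := by group
    rw [e1, e2, this]
  · intro h y hy
    have hy' : g * y * g⁻¹ ∈ cj g K := by
      rw [mem_cj]
      have e : g⁻¹ * (g * y * g⁻¹) * g = y := by group
      rwa [e]
    have := h _ hy'
    have e1 : y * (g⁻¹ * x * g) = g⁻¹ * ((g * y * g⁻¹) * x) * g := by group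
    have e2 : (g⁻¹ * x * g) * y = g⁻¹ * (x * (g * y * g⁻¹)) * g := by group
    rw [e1, e2, this]

theorem cj_mul (g h : P) (K : Subgroup P) : cj (g * h) K = cj g (cj h K) := by
  ext x
  simp only [mem_cj, mul_inv_rev]
  have e : (h⁻¹ * g⁻¹) * x * (g * h) = h⁻¹ * (g⁻¹ * x * g) * h := by group
  rw [e]

theorem nm_sup {g : P} {Q R : Subgroup P} (hQ : g ∈ nm Q) (hR : g ∈ nm R) : g ∈ nm (Q ⊔ R) := by
  rw [mem_nm_iff] at *; rw [cj_sup, hQ, hR]

theorem nm_inf {g : P} {Q R : Subgroup P} (hQ : g ∈ nm Q) (hR : g ∈ nm R) : g ∈ nm (Q ⊓ R) := by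
  rw [mem_nm_iff] at *; rw [cj_inf, hQ, hR]

theorem nm_cz {g : P} {K : Subgroup P} (h : g ∈ nm K) : g ∈ nm (cz K) := by
  rw [mem_nm_iff] at *; rw [cj_cz, h]

theorem conj_mem_of_nm {g x : P} {K : Subgroup P} (h : g ∈ nm K) (hx : x ∈ K) : g⁻¹ * x * g ∈ K := by
  rw [mem_nm_iff] at h
  rw [← h] at hx
  exact mem_cj.1 hx

theorem conj_mem_of_nm' {g x : P} {K : Subgroup P} (h : g ∈ nm K) (hx : x ∈ K) : g * x * g⁻¹ ∈ K := by
  have := conj_mem_of_nm (nm K |>.inv_mem h) hx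
  simpa using this

theorem nm_of_conj_le [Finite P] {g : P} {K : Subgroup P} (h : ∀ x ∈ K, g⁻¹ * x * g ∈ K) : g ∈ nm K := by
  rw [mem_nm_iff]
  have hle : cj g⁻¹ K ≤ K := by
    intro x hx
    rw [mem_cj, inv_inv] at hx
    have := h _ hx
    have e : g⁻¹ * (g * x * g⁻¹) * g = x := by group
    rwa [e] at this
  have hcard : Nat.card (cj g⁻¹ K) = Nat.card K := by
    unfold cj
    exact Nat.card_congr ((MulAut.conj g⁻¹).subgroupMap K).symm.toEquiv
  have h1 : cj g⁻¹ K = K := by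
    apply SetLike.coe_injective
    apply eq_of_card_le hle
    exact hcard.ge
  have h2 : cj g K = cj g (cj g⁻¹ K) := by rw [h1]
  rw [h2, ← cj_mul]
  ext x; simp [mem_cj]

theorem card_cj [Finite P] (g : P) (K : Subgroup P) : Nat.card (cj g K) = Nat.card K := by
  unfold cj
  exact Nat.card_congr ((MulAut.conj g).subgroupMap K).symm.toEquiv

/-- `Fx D g x`: the element `g` fixes `x` modulo `D`. -/
def Fx (D : Subgroup P) (g x : P) : Prop := x⁻¹ * (g⁻¹ * x * g) ∈ D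

theorem cz_anti {Q R : Subgroup P} (h : Q ≤ R) : cz R ≤ cz Q :=
  Subgroup.centralizer_le (SetLike.coe_subset_coe.2 h)

theorem le_cz_cz (K : Subgroup P) : K ≤ cz (cz K) := by
  intro x hx
  rw [mem_cz]
  intro y hy
  exact ((mem_cz.1 hy) x hx).symm

theorem mem_sup_of_comm {H K : Subgroup P} (hc : ∀ h ∈ H, ∀ k ∈ K, h * k = k * h) {x : P}
    (hx : x ∈ H ⊔ K) : ∃ a ∈ H, ∃ b ∈ K, x = a * b := by
  rw [Subgroup.sup_eq_closure] at hx
  induction hx using Subgroup.closure_induction with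
  | mem x hx =>
    rcases hx with hx | hx
    · exact ⟨x, hx, 1, K.one_mem, by simp⟩
    · exact ⟨1, H.one_mem, x, hx, by simp⟩
  | one => exact ⟨1, H.one_mem, 1, K.one_mem, by simp⟩
  | mul x y _ _ ihx ihy =>
    obtain ⟨a, ha, b, hb, rfl⟩ := ihx
    obtain ⟨c, hc', d, hd, rfl⟩ := ihy
    refine ⟨a * c, H.mul_mem ha hc', b * d, K.mul_mem hb hd, ?_⟩
    have := hc c hc' b hb
    calc a * b * (c * d) = a * (b * c) * d := by group
      _ = a * (c * b) * d := by rw [this]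
      _ = a * c * (b * d) := by group
  | inv x _ ih =>
    obtain ⟨a, ha, b, hb, rfl⟩ := ih
    refine ⟨a⁻¹, H.inv_mem ha, b⁻¹, K.inv_mem hb, ?_⟩
    have := hc a ha b hb
    rw [this, mul_inv_rev]

end Basic

section Large

variable {P : Type*} [Group P] [Finite P]

abbrev Lg (K : Subgroup P) : Prop := Cfsg.IsCentralizerLarge K

theorem lg_sup {Q R : Subgroup P} (hQ : Lg Q) (hR : Lg R) : Lg (Q ⊔ R) := (large_key Q R hQ hR).1
theorem lg_inf {Q R : Subgroup P} (hQ : Lg Q) (hR : Lg R) : Lg (Q ⊓ R) := (large_key Q R hQ hR).2.1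
theorem lg_cz {Q : Subgroup P} (hQ : Lg Q) : Lg (cz Q) := (large_centralizer Q hQ).1
theorem lg_cz_cz {Q : Subgroup P} (hQ : Lg Q) : cz (cz Q) = Q := (large_centralizer Q hQ).2.symm

theorem lg_mem_sup {Q R : Subgroup P} (hQ : Lg Q) (hR : Lg R) {x : P} (hx : x ∈ Q ⊔ R) :
    ∃ a ∈ Q, ∃ b ∈ R, x = a * b := by
  have h := (large_key Q R hQ hR).2.2.1
  have hx' : x ∈ ((Q ⊔ R : Subgroup P) : Set P) := hx
  rw [h] at hx'
  obtain ⟨a, ha, b, hb, rfl⟩ := Set.mem_mul.1 hx'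
  exact ⟨a, ha, b, hb, rfl⟩

theorem lg_mem_cz_inf {Q R : Subgroup P} (hQ : Lg Q) (hR : Lg R) {x : P} (hx : x ∈ cz (Q ⊓ R)) :
    ∃ a ∈ cz Q, ∃ b ∈ cz R, x = a * b := by
  have h := (large_key Q R hQ hR).2.2.2
  have hx' : x ∈ ((cz (Q ⊓ R) : Subgroup P) : Set P) := hx
  rw [h] at hx'
  obtain ⟨a, ha, b, hb, rfl⟩ := Set.mem_mul.1 hx'
  exact ⟨a, ha, b, hb, rfl⟩

theorem lg_conj (g : P) {K : Subgroup P} (hK : Lg K) : Lg (cj g K) := by
  show _ * _ = _
  have h1 : Nat.card (Subgroup.centralizer ((cj g K : Subgroup P) : Set P)) =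
      Nat.card (Subgroup.centralizer ((K : Subgroup P) : Set P)) := by
    have := card_cj g (Subgroup.centralizer ((K : Subgroup P) : Set P))
    rw [← this]
    show Nat.card (cz (cj g K)) = Nat.card (cj g (cz K))
    rw [cj_cz]
  rw [h1, card_cj]
  exact hK

theorem lg_iInf {ι : Type*} [Nonempty ι] (f : ι → Subgroup P) (hf : ∀ i, Lg (f i)) : Lg (⨅ i, f i) := by
  classical
  have hfin : (Set.range f).Finite := Set.toFinite _
  have h1 : (hfin.toFinset).Nonempty := by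
    obtain ⟨i⟩ := ‹Nonempty ι›
    exact ⟨f i, by simp⟩
  have h2 := Finset.inf'_mem {K : Subgroup P | Lg K} (fun x hx y hy => lg_inf hx hy) hfin.toFinset h1 id
    (fun i hi => by
      have : i ∈ Set.range f := by simpa using hi
      obtain ⟨j, rfl⟩ := this
      exact hf j)
  have h3 : hfin.toFinset.inf' h1 id = ⨅ i, f i := by
    rw [Finset.inf'_eq_inf, Finset.inf_id_eq_sInf, Set.Finite.coe_toFinset, sInf_range]
  rwa [h3] at h2

theorem minCL_conj (g : P) {K : Subgroup P} (hK : Cfsg.IsMinimalCentrallyLarge K) :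
    Cfsg.IsMinimalCentrallyLarge (cj g K) := by
  obtain ⟨hm, hle⟩ := (centrallyLarge_iff K).1 hK.1
  have hCL : ∀ {X : Subgroup P} (x : P), Cfsg.IsCentrallyLarge X → Cfsg.IsCentrallyLarge (cj x X) := by
    intro X x hX
    obtain ⟨h1, h2⟩ := (centrallyLarge_iff X).1 hX
    refine (centrallyLarge_iff _).2 ⟨lg_conj x h1, ?_⟩
    show cz (cj x X) ≤ cj x X
    rw [← cj_cz]
    intro y hy
    rw [mem_cj] at hy ⊢
    exact h2 hy
  refine ⟨hCL g hK.1, ?_⟩
  intro R hR hRCL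
  have h1 : cj g⁻¹ R ≤ K := by
    intro x hx
    rw [mem_cj] at hx
    have := hR (by simpa using hx : g * x * g⁻¹ ∈ R)
    rw [mem_cj] at this
    have e : g⁻¹ * (g * x * g⁻¹) * g = x := by group
    rwa [e] at this
  have h2 := hK.2 _ h1 (hCL g⁻¹ hRCL)
  rw [← h2, ← cj_mul]
  ext x; simp [mem_cj]

theorem maxAb_conj (g : P) {A : Subgroup P} (hA : A ∈ Cfsg.maxAbelianSubgroups P) :
    cj g A ∈ Cfsg.maxAbelianSubgroups P := by
  refine ⟨?_, ?_⟩
  · have hc := hA.1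
    refine ⟨⟨?_⟩⟩
    rintro ⟨x, hx⟩ ⟨y, hy⟩
    apply Subtype.ext
    rw [mem_cj] at hx hy
    have := setLike_mul_comm hx hy
    show x * y = y * x
    have e1 : x * y = g * ((g⁻¹ * x * g) * (g⁻¹ * y * g)) * g⁻¹ := by group
    have e2 : y * x = g * ((g⁻¹ * y * g) * (g⁻¹ * x * g)) * g⁻¹ := by group
    rw [e1, e2, this]
  · intro B hB
    rw [card_cj]
    exact hA.2 B hB

end Large

section Sasaki

variable {P : Type*} [Group P] [Finite P]

/-- Sasaki projection: restricting a minimal CL to the interval above an abelian large `D`. -/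
theorem sasaki_cz {D Q : Subgroup P} (hD : Lg D) (hDab : D ≤ cz D) (hQ : Lg Q) :
    cz ((Q ⊓ cz D) ⊔ D) = (cz Q ⊓ cz D) ⊔ D := by
  have hC := lg_cz hD
  apply le_antisymm
  · intro x hx
    have hx' : x ∈ cz (Q ⊓ cz D) ⊓ cz D := by
      rw [← centralizer_sup_eq]; exact hx
    obtain ⟨hx1, hx2⟩ := hx'
    obtain ⟨a, ha, b, hb, rfl⟩ := lg_mem_cz_inf hQ hC hx1
    rw [lg_cz_cz hD] at hb
    have ha2 : a ∈ cz D := by
      have := (cz D).mul_mem hx2 ((cz D).inv_mem (hDab hb))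
      simpa using this
    exact Subgroup.mul_mem _ ((le_sup_left : cz Q ⊓ cz D ≤ _) ⟨ha, ha2⟩) ((le_sup_right : D ≤ _) hb)
  · rw [show cz ((Q ⊓ cz D) ⊔ D) = cz (Q ⊓ cz D) ⊓ cz D from centralizer_sup_eq _ _]
    apply sup_le
    · apply le_inf
      · calc cz Q ⊓ cz D ≤ cz Q := inf_le_left
          _ ≤ cz (Q ⊓ cz D) := cz_anti inf_le_left
      · exact inf_le_right
    · apply le_inf
      · calc D = cz (cz D) := (lg_cz_cz hD).symm
          _ ≤ cz (Q ⊓ cz D) := cz_anti inf_le_right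
      · exact hDab

theorem sasaki {D Q : Subgroup P} (hD : Lg D) (hDab : D ≤ cz D)
    (hQ : Cfsg.IsMinimalCentrallyLarge Q) :
    Cfsg.IsMinimalCentrallyLarge ((Q ⊓ cz D) ⊔ D) := by
  obtain ⟨hQm, hQle⟩ := (centrallyLarge_iff Q).1 hQ.1
  have hC := lg_cz hD
  have hL : Lg ((Q ⊓ cz D) ⊔ D) := lg_sup (lg_inf hQm hC) hD
  have hCz := sasaki_cz hD hDab hQm
  have hle : cz ((Q ⊓ cz D) ⊔ D) ≤ (Q ⊓ cz D) ⊔ D := by
    rw [hCz]
    apply sup_le_sup_right
    exact inf_le_inf_right _ hQle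
  refine ⟨(centrallyLarge_iff _).2 ⟨hL, hle⟩, ?_⟩
  intro Y hYL hYCL
  obtain ⟨hYm, hYle⟩ := (centrallyLarge_iff Y).1 hYCL
  -- K = C(Y)
  have hK := lg_cz hYm
  have hKL : cz Y ≤ (Q ⊓ cz D) ⊔ D := hYle.trans hYL
  have hZL : cz ((Q ⊓ cz D) ⊔ D) ≤ cz Y := cz_anti hYL
  have hDK : D ≤ cz Y := by
    calc D ≤ (cz Q ⊓ cz D) ⊔ D := le_sup_right
      _ = cz ((Q ⊓ cz D) ⊔ D) := hCz.symm
      _ ≤ cz Y := hZL
  -- K ⊓ Q ≤ C(Q)
  have hKQ : cz Y ⊓ Q ≤ cz Q := by
    set K₀ := cz Y ⊓ Q with hK₀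
    have hK₀m : Lg K₀ := lg_inf hK hQm
    have hX : Lg (K₀ ⊔ cz Q) := lg_sup hK₀m (lg_cz hQm)
    have hcomm : ∀ a ∈ K₀, ∀ b ∈ cz Q, a * b = b * a := by
      intro a ha b hb
      exact (mem_cz.1 hb) a ha.2
    have hXab : K₀ ⊔ cz Q ≤ cz (K₀ ⊔ cz Q) := by
      rw [show cz (K₀ ⊔ cz Q) = cz K₀ ⊓ cz (cz Q) from centralizer_sup_eq _ _, lg_cz_cz hQm]
      apply sup_le
      · apply le_inf
        · intro a ha
          rw [mem_cz]
          intro b hb
          have h1 : b ∈ cz (cz Y) := by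
            -- b ∈ K₀ ≤ cz Y ≤ cz (cz Y)
            rw [lg_cz_cz hYm]; exact hYle hb.1
          exact (mem_cz.1 h1) a ha.1 |>.symm
        · exact inf_le_right
      · apply le_inf
        · intro a ha
          rw [mem_cz]
          intro b hb
          exact ((hcomm b hb a ha))
        · exact hQle
    have hY' : Cfsg.IsCentrallyLarge (cz (K₀ ⊔ cz Q)) := by
      refine (centrallyLarge_iff _).2 ⟨lg_cz hX, ?_⟩
      show cz (cz (K₀ ⊔ cz Q)) ≤ _
      rw [lg_cz_cz hX]; exact hXab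
    have hY'le : cz (K₀ ⊔ cz Q) ≤ Q := by
      calc cz (K₀ ⊔ cz Q) ≤ cz (cz Q) := cz_anti le_sup_right
        _ = Q := lg_cz_cz hQm
    have hEq := hQ.2 _ hY'le hY'
    have h2 : K₀ ⊔ cz Q = cz Q := by
      have := congrArg cz hEq
      rwa [lg_cz_cz hX] at this
    intro x hx
    rw [← h2]
    exact (le_sup_left : K₀ ≤ _) hx
  -- K ≤ C(L)
  have hKZ : cz Y ≤ cz ((Q ⊓ cz D) ⊔ D) := by
    rw [hCz]
    intro x hx
    obtain ⟨a, ha, b, hb, rfl⟩ := lg_mem_sup (lg_inf hQm hC) hD (hKL hx)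
    have haY : a ∈ cz Y := by
      have := (cz Y).mul_mem hx ((cz Y).inv_mem (hDK hb))
      simpa using this
    exact Subgroup.mul_mem _ ((le_sup_left : cz Q ⊓ cz D ≤ _) ⟨hKQ ⟨haY, ha.1⟩, ha.2⟩)
      ((le_sup_right : D ≤ _) hb)
  have hEq : cz Y = cz ((Q ⊓ cz D) ⊔ D) := le_antisymm hKZ hZL
  have := congrArg cz hEq
  rwa [lg_cz_cz hYm, lg_cz_cz hL] at this

end Sasaki

section Tools

variable {P : Type*} [Group P] [Finite P]

theorem card_sup_of_comm {H K : Subgroup P} (hc : ∀ h ∈ H, ∀ k ∈ K, h * k = k * h) :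
    Nat.card ↥(H ⊔ K) * Nat.card ↥(H ⊓ K) = Nat.card H * Nat.card K := by
  have hset : ((H ⊔ K : Subgroup P) : Set P) = (H : Set P) * (K : Set P) := by
    ext x
    constructor
    · intro hx
      obtain ⟨a, ha, b, hb, rfl⟩ := mem_sup_of_comm hc hx
      exact Set.mul_mem_mul ha hb
    · intro hx
      obtain ⟨a, ha, b, hb, rfl⟩ := Set.mem_mul.1 hx
      exact Subgroup.mul_mem _ ((le_sup_left : H ≤ H ⊔ K) ha) ((le_sup_right : K ≤ H ⊔ K) hb)
  have h1 : Nat.card ↥(H ⊔ K) = Nat.card ((H : Set P) * (K : Set P) : Set P) :=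
    Nat.card_congr (Equiv.setCongr hset)
  rw [h1]
  exact card_mul_set_mul_card_inf H K

theorem isMulCommutative_of_le {H K : Subgroup P} (hK : IsMulCommutative K) (h : H ≤ K) :
    IsMulCommutative H := by
  refine ⟨⟨?_⟩⟩
  rintro ⟨x, hx⟩ ⟨y, hy⟩
  apply Subtype.ext
  exact setLike_mul_comm (h hx) (h hy)

theorem isMulCommutative_of_le_cz {K : Subgroup P} (h : K ≤ cz K) : IsMulCommutative K := by
  refine ⟨⟨?_⟩⟩
  rintro ⟨x, hx⟩ ⟨y, hy⟩
  apply Subtype.ext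
  exact (mem_cz.1 (h hy)) x hx

theorem le_cz_of_isMulCommutative {K : Subgroup P} (h : IsMulCommutative K) : K ≤ cz K := by
  intro x hx
  rw [mem_cz]
  intro y hy
  exact setLike_mul_comm hy hx

theorem inf_cz_abelian (K : Subgroup P) : K ⊓ cz K ≤ cz (K ⊓ cz K) := by
  intro x hx
  rw [mem_cz]
  intro y hy
  exact (mem_cz.1 hx.2) y hy.1

theorem le_nm_inf {M Q R : Subgroup P} (h1 : M ≤ nm Q) (h2 : M ≤ nm R) : M ≤ nm (Q ⊓ R) :=
  fun _ hg => nm_inf (h1 hg) (h2 hg)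

theorem le_nm_sup {M Q R : Subgroup P} (h1 : M ≤ nm Q) (h2 : M ≤ nm R) : M ≤ nm (Q ⊔ R) :=
  fun _ hg => nm_sup (h1 hg) (h2 hg)

theorem le_nm_cz {M Q : Subgroup P} (h1 : M ≤ nm Q) : M ≤ nm (cz Q) :=
  fun _ hg => nm_cz (h1 hg)

theorem cz_le_nm (D : Subgroup P) : cz D ≤ nm D := by
  intro c hc
  apply nm_of_conj_le
  intro x hx
  have := (mem_cz.1 hc) x hx
  have e : c⁻¹ * x * c = x := by
    rw [mul_assoc, this]; group
  rwa [e]

/-- conjugation-core over a subgroup `M`. -/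
def coreOver (M B : Subgroup P) : Subgroup P := ⨅ g : M, cj (g : P) B

theorem mem_coreOver {M B : Subgroup P} {x : P} : x ∈ coreOver M B ↔ ∀ g ∈ M, g⁻¹ * x * g ∈ B := by
  unfold coreOver
  rw [Subgroup.mem_iInf]
  constructor
  · intro h g hg
    exact mem_cj.1 (h ⟨g, hg⟩)
  · intro h g
    exact mem_cj.2 (h g g.2)

theorem coreOver_lg {M B : Subgroup P} (hB : Lg B) : Lg (coreOver M B) :=
  lg_iInf _ (fun g => lg_conj _ hB)

theorem coreOver_le {M B : Subgroup P} : coreOver M B ≤ B := by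
  intro x hx
  have := mem_coreOver.1 hx 1 M.one_mem
  simpa using this

theorem coreOver_nm {M B : Subgroup P} : M ≤ nm (coreOver M B) := by
  intro m hm
  apply nm_of_conj_le
  intro x hx
  rw [mem_coreOver] at hx ⊢
  intro g hg
  have := hx (m * g) (M.mul_mem hm hg)
  have e : g⁻¹ * (m⁻¹ * x * m) * g = (m * g)⁻¹ * x * (m * g) := by group
  rwa [e]

theorem exists_fixed_mod {p : ℕ} [Fact p.Prime] (hP : IsPGroup p P) {M D E : Subgroup P}
    (hDE : D ≤ E) (hne : E ≠ D) (hMD : M ≤ nm D) (hME : M ≤ nm E) (hED : E ≤ nm D) :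
    ∃ w ∈ E, w ∉ D ∧ ∀ g ∈ M, Fx D g w := by
  classical
  set H : Subgroup P := M ⊔ E with hH
  have hHD : H ≤ nm D := sup_le hMD hED
  have hEE : E ≤ nm E := Subgroup.le_normalizer
  have hHE : H ≤ nm E := sup_le hME hEE
  have hDH : D ≤ H := hDE.trans le_sup_right
  have hEH : E ≤ H := le_sup_right
  haveI hD1 : (D.subgroupOf H).Normal := (Subgroup.normal_subgroupOf_iff_le_normalizer hDH).2 hHD
  haveI hE1 : (E.subgroupOf H).Normal := (Subgroup.normal_subgroupOf_iff_le_normalizer hEH).2 hHE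
  have hQ : IsPGroup p (↥H ⧸ D.subgroupOf H) := (hP.to_subgroup H).to_quotient _
  let Eb : Subgroup (↥H ⧸ D.subgroupOf H) := (E.subgroupOf H).map (QuotientGroup.mk' (D.subgroupOf H))
  haveI hEb : Eb.Normal := Subgroup.Normal.map hE1 _ (QuotientGroup.mk'_surjective _)
  obtain ⟨x, hxE, hxD⟩ : ∃ x ∈ E, x ∉ D := by
    by_contra hcon
    push Not at hcon
    exact hne (le_antisymm hcon hDE)
  have hEbne : Eb ≠ ⊥ := by
    intro hbot
    have : (QuotientGroup.mk' (D.subgroupOf H)) ⟨x, hEH hxE⟩ ∈ Eb :=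
      ⟨⟨x, hEH hxE⟩, hxE, rfl⟩
    rw [hbot, Subgroup.mem_bot] at this
    have h2 := (QuotientGroup.eq_one_iff _).1 this
    exact hxD h2
  have hinf := Cfsg.Agent.Lib.PGroup.Basic.inf_center_ne_bot hQ hEbne
  obtain ⟨z, hz, hz1⟩ := (Subgroup.ne_bot_iff_exists_ne_one.1 hinf) |> fun ⟨z, hz⟩ => (⟨z.1, z.2, fun h => hz (Subtype.ext h)⟩ : ∃ z : ↥H ⧸ D.subgroupOf H, z ∈ Eb ⊓ Subgroup.center _ ∧ z ≠ 1)
  obtain ⟨⟨hz2, hz3⟩⟩ := (⟨hz⟩ : Nonempty _)
  obtain ⟨⟨w, hwH⟩, hwE, rfl⟩ := hz2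
  refine ⟨w, hwE, ?_, ?_⟩
  · intro hwD
    apply hz1
    exact (QuotientGroup.eq_one_iff _).2 hwD
  · intro g hg
    have hgH : g ∈ H := (le_sup_left : M ≤ H) hg
    have hc := (Subgroup.mem_center_iff.1 hz3) (QuotientGroup.mk' (D.subgroupOf H) ⟨g, hgH⟩)
    have h3 : (QuotientGroup.mk' (D.subgroupOf H)) (⟨w, hwH⟩ : H) =
        (QuotientGroup.mk' (D.subgroupOf H)) ((⟨g, hgH⟩ : H)⁻¹ * ⟨w, hwH⟩ * ⟨g, hgH⟩) := by
      rw [map_mul, map_mul, map_inv, mul_assoc, ← hc]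
      group
    have h4 := QuotientGroup.eq.1 h3
    exact h4

theorem exists_normalizing {p : ℕ} [Fact p.Prime] (hP : IsPGroup p P) {S : Set P}
    (hS : ∀ g, ∀ s ∈ S, g⁻¹ * s * g ∈ S) {T : Subgroup P}
    (hT : Subgroup.closure (S ∩ T) = T) (hne : T ≠ Subgroup.closure S) :
    ∃ s ∈ S, s ∉ T ∧ s ∈ nm T := by
  by_contra hcon
  push Not at hcon
  have hSN : ∀ s ∈ S, s ∈ nm T → s ∈ T := by
    intro s hs hsN
    by_contra hsT
    exact hcon s hs hsT hsN
  have hT2 : Subgroup.closure (S ∩ (nm T : Set P)) = T := by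
    apply le_antisymm
    · rw [Subgroup.closure_le]
      rintro s ⟨hs, hsN⟩
      exact hSN s hs hsN
    · conv_lhs => rw [← hT]
      apply Subgroup.closure_mono
      rintro s ⟨hs, hsT⟩
      exact ⟨hs, Subgroup.le_normalizer hsT⟩
  have hnn : nm (nm T) ≤ nm T := by
    intro g hg
    apply nm_of_conj_le
    intro x hx
    rw [← hT2] at hx
    induction hx using Subgroup.closure_induction with
    | mem x hx =>
      rw [← hT2]
      exact Subgroup.subset_closure ⟨hS g x hx.1, conj_mem_of_nm hg hx.2⟩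
    | one => simp
    | mul x y _ _ ihx ihy =>
      have e : g⁻¹ * (x * y) * g = (g⁻¹ * x * g) * (g⁻¹ * y * g) := by group
      rw [e]
      exact T.mul_mem ihx ihy
    | inv x _ ih =>
      have e : g⁻¹ * x⁻¹ * g = (g⁻¹ * x * g)⁻¹ := by group
      rw [e]
      exact T.inv_mem ih
  have htop : nm T = ⊤ := by
    haveI : Group.IsNilpotent P := hP.isNilpotent
    by_contra hlt
    have hlt' : nm T < ⊤ := lt_top_iff_ne_top.2 hlt
    have := Group.normalizerCondition_of_isNilpotent (G := P) (nm T) hlt'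
    exact absurd hnn (not_le_of_gt this)
  apply hne
  apply le_antisymm
  · rw [← hT]
    exact Subgroup.closure_mono Set.inter_subset_left
  · rw [Subgroup.closure_le]
    intro s hs
    exact hSN s hs (by rw [htop]; trivial)

theorem sasakiA {D A : Subgroup P} (hD : Lg D) (hDab : D ≤ cz D)
    (hA : A ∈ Cfsg.maxAbelianSubgroups P) : (A ⊓ cz D) ⊔ D ∈ Cfsg.maxAbelianSubgroups P := by
  have hAc := hA.1
  have hAC : IsMulCommutative ↥(A ⊓ cz D) := isMulCommutative_of_le hAc inf_le_left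
  have hDc : IsMulCommutative D := isMulCommutative_of_le_cz hDab
  have hcomm : ∀ a ∈ A ⊓ cz D, ∀ b ∈ D, a * b = b * a := by
    intro a ha b hb
    exact ((mem_cz.1 ha.2) b hb).symm
  refine ⟨isMulCommutative_sup _ _ hAC hDc hcomm, ?_⟩
  intro B hB
  refine (hA.2 B hB).trans ?_
  -- counting
  have h1 := card_sup_of_comm hcomm
  have h2 : (A ⊓ cz D) ⊓ D = A ⊓ D := by
    apply le_antisymm
    · exact inf_le_inf_right _ inf_le_left
    · exact le_inf (le_inf inf_le_left (inf_le_right.trans hDab)) inf_le_right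
  rw [h2] at h1
  have h3 := card_mul_set_mul_card_inf A (cz D)
  have h4 : (A : Set P) * (cz D : Set P) ⊆ ((cz (A ⊓ D) : Subgroup P) : Set P) := by
    intro x hx
    obtain ⟨a, ha, c, hc, rfl⟩ := Set.mem_mul.1 hx
    refine Subgroup.mul_mem _ ?_ ?_
    · rw [mem_cz]
      intro y hy
      exact setLike_mul_comm hy.1 ha
    · rw [mem_cz]
      intro y hy
      exact (mem_cz.1 hc) y hy.2
  have h5 : Nat.card ((A : Set P) * (cz D : Set P) : Set P) ≤ Nat.card (cz (A ⊓ D)) :=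
    Nat.card_mono (Set.toFinite _) h4
  have h6 := mem_bound (A ⊓ D)
  rw [← hD] at h6
  have hpos : 0 < Nat.card ↥(A ⊓ D) := Nat.card_pos
  have hpos2 : 0 < Nat.card ↥(cz D) := Nat.card_pos
  have hpos3 : 0 < Nat.card ↥(A ⊓ cz D) := Nat.card_pos
  set a := Nat.card A
  set k := Nat.card ↥(A ⊓ D)
  set c := Nat.card ↥(cz D)
  set i := Nat.card ↥(A ⊓ cz D)
  set d := Nat.card D
  set s := Nat.card ((A : Set P) * (cz D : Set P) : Set P)
  set z := Nat.card ↥(cz (A ⊓ D))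
  set l := Nat.card ↥((A ⊓ cz D) ⊔ D)
  show a ≤ l
  have h7 : a * k * c ≤ l * k * c := by
    calc a * k * c = (a * c) * k := by ring
      _ = (s * i) * k := by rw [h3]
      _ ≤ (z * i) * k := by gcongr
      _ = (k * z) * i := by ring
      _ ≤ (d * c) * i := by
          exact Nat.mul_le_mul_right _ h6
      _ = (i * d) * c := by ring
      _ = (l * k) * c := by rw [h1]
  exact Nat.le_of_mul_le_mul_right (Nat.le_of_mul_le_mul_right h7 hpos2) hpos

end Tools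

section Step

variable {P : Type*} [Group P] [Finite P]

/-- The data of the step. -/
structure Setup (M D L I : Subgroup P) (r : P) : Prop where
  lgD : Lg D
  abD : D ≤ cz D
  nmD : M ≤ nm D
  maxD : ∀ K, Lg K → K ≤ cz K → M ≤ nm K → D ≤ K → K = D
  minL : Cfsg.IsMinimalCentrallyLarge L
  DzL : D ≤ cz L
  LC : L ≤ cz D
  lgI : Lg I
  nmI : M ≤ nm I
  DI : D ≤ I
  IL : I ≤ L
  WI : ⁅L, L⁆ ≤ I
  rM : r ∈ M
  claim : ∀ Dt : Subgroup P, Dt ≤ I → r ∈ nm Dt → ∀ x ∈ L, Fx Dt r x → x ∈ I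

namespace Setup

variable {M D L I : Subgroup P} {r : P}

theorem lgL (S : Setup M D L I r) : Lg L := ((centrallyLarge_iff L).1 S.minL.1).1
theorem zL (S : Setup M D L I r) : cz L ≤ L := ((centrallyLarge_iff L).1 S.minL.1).2

theorem IV (S : Setup M D L I r) : I ⊓ cz I = D := by
  apply S.maxD _ (lg_inf S.lgI (lg_cz S.lgI)) (inf_cz_abelian I) (le_nm_inf S.nmI (le_nm_cz S.nmI))
  apply le_inf S.DI
  calc D = cz (cz D) := (lg_cz_cz S.lgD).symm
    _ ≤ cz I := cz_anti (S.IL.trans S.LC)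

theorem Vle (S : Setup M D L I r) : cz I ≤ cz D := cz_anti S.DI

theorem DV (S : Setup M D L I r) : D ≤ cz I := by
  rw [← S.IV]; exact inf_le_right

theorem prod (S : Setup M D L I r) {c : P} (hc : c ∈ cz D) : ∃ i ∈ I, ∃ v ∈ cz I, c = i * v := by
  have hc' : c ∈ cz (I ⊓ cz I) := by rw [S.IV]; exact hc
  obtain ⟨a, ha, b, hb, rfl⟩ := lg_mem_cz_inf S.lgI (lg_cz S.lgI) hc'
  rw [lg_cz_cz S.lgI] at hb
  exact ⟨b, hb, a, ha, (mem_cz.1 ha b hb).symm⟩

theorem CnmI (S : Setup M D L I r) : cz D ≤ nm I := by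
  intro c hc
  obtain ⟨i, hi, v, hv, rfl⟩ := S.prod hc
  apply nm_of_conj_le
  intro x hx
  have h1 : (i * v)⁻¹ * x * (i * v) = v⁻¹ * (i⁻¹ * x * i) * v := by group
  have h2 : i⁻¹ * x * i ∈ I := I.mul_mem (I.mul_mem (I.inv_mem hi) hx) hi
  have h3 := (mem_cz.1 hv) _ h2
  rw [h1, mul_assoc, h3]
  have e : v⁻¹ * (v * (i⁻¹ * x * i)) = i⁻¹ * x * i := by group
  rwa [e]

end Setup

theorem Fx_mem {D K : Subgroup P} {g x : P} (h : Fx D g x) (hDK : D ≤ K) (hx : x ∈ K) : g⁻¹ * x * g ∈ K := by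
  have := K.mul_mem hx (hDK h)
  have e : x * (x⁻¹ * (g⁻¹ * x * g)) = g⁻¹ * x * g := by group
  rwa [e] at this

/-- Peeling off the right factor. -/
theorem Fx_left {D Dt : Subgroup P} {g l ρ : P} (hDD : D ≤ Dt) (h1 : Fx D g (l * ρ)) (h2 : Fx Dt g ρ)
    (hρ : ρ ∈ nm Dt) : Fx Dt g l := by
  unfold Fx at *
  have e : l⁻¹ * (g⁻¹ * l * g) = ρ * (((l * ρ)⁻¹ * (g⁻¹ * (l * ρ) * g)) * (ρ⁻¹ * (g⁻¹ * ρ * g))⁻¹) * ρ⁻¹ := by
    group
  rw [e]
  exact conj_mem_of_nm' hρ (Dt.mul_mem (hDD h1) (Dt.inv_mem h2))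

theorem Fx_conj {D B : Subgroup P} {w : P} {M : Subgroup P} (hw : ∀ g ∈ M, Fx D g w) (hDB : D ≤ B)
    (hwB : w ∈ B) : w ∈ coreOver M B := by
  rw [mem_coreOver]
  intro g hg
  exact Fx_mem (hw g hg) hDB hwB

section CaseR

variable {p : ℕ} [Fact p.Prime] {M D L I : Subgroup P} {r : P}

theorem caseR (hP : IsPGroup p P) (S : Setup M D L I r) {R : Subgroup P}
    (hR : Cfsg.IsMinimalCentrallyLarge R) (hrR : r ∈ R) : r ∈ nm L := by
  have hLm := S.lgL
  have hRm : Lg R := ((centrallyLarge_iff R).1 hR.1).1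
  have hCm : Lg (cz D) := lg_cz S.lgD
  set R' : Subgroup P := (R ⊓ cz D) ⊔ D with hR'def
  have hR' : Cfsg.IsMinimalCentrallyLarge R' := sasaki S.lgD S.abD hR
  have hR'm : Lg R' := ((centrallyLarge_iff R').1 hR'.1).1
  have hR'le : cz R' ≤ R' := ((centrallyLarge_iff R').1 hR'.1).2
  have hR'z : cz R' = (cz R ⊓ cz D) ⊔ D := sasaki_cz S.lgD S.abD hRm
  have hR'C : R' ≤ cz D := sup_le inf_le_right S.abD
  have hDzR' : D ≤ cz R' := by rw [hR'z]; exact le_sup_right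
  set W : Subgroup P := ⁅L, L⁆ with hW
  have hWeq : ∀ Q : Subgroup P, Cfsg.IsMinimalCentrallyLarge Q → ⁅Q, Q⁆ = W := by
    intro Q hQ
    rw [commutator_eq Q L hQ S.minL.1, hW, commutator_eq L Q S.minL hQ.1, inf_comm]
  have hWn : ∀ g : P, g ∈ nm W := by
    intro g
    rw [mem_nm_iff]
    have h1 : cj g W = ⁅cj g L, cj g L⁆ := by
      show (⁅L, L⁆ : Subgroup P).map (MulAut.conj g).toMonoidHom = _
      rw [Subgroup.map_commutator]
      rfl
    rw [h1]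
    exact hWeq _ (minCL_conj g S.minL)
  set Dt : Subgroup P := D ⊔ W with hDt
  have hDDt : D ≤ Dt := le_sup_left
  have hDtI : Dt ≤ I := sup_le S.DI S.WI
  have hDtL : Dt ≤ L := hDtI.trans S.IL
  have hrD : r ∈ nm D := S.nmD S.rM
  have hrDt : r ∈ nm Dt := nm_sup hrD (hWn r)
  have hCDt : ∀ c ∈ cz D, c ∈ nm Dt := fun c hc => nm_sup (cz_le_nm D hc) (hWn c)
  -- r acts trivially on R' modulo Dt
  have hρ : ∀ ρ ∈ R', Fx Dt r ρ := by
    intro ρ hρ
    obtain ⟨a, ha, d, hd, rfl⟩ := lg_mem_sup (lg_inf hRm hCm) S.lgD hρ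
    unfold Fx
    have e : (a * d)⁻¹ * (r⁻¹ * (a * d) * r) = d⁻¹ * ⁅a⁻¹, r⁻¹⁆ * (r⁻¹ * d * r) := by
      rw [commutatorElement_def]; group
    rw [e]
    have h1 : ⁅a⁻¹, r⁻¹⁆ ∈ W := by
      rw [← hWeq R hR]
      exact Subgroup.commutator_mem_commutator (R.inv_mem ha.1) (R.inv_mem hrR)
    exact Dt.mul_mem (Dt.mul_mem (Dt.inv_mem (hDDt hd)) ((le_sup_right : W ≤ Dt) h1))
      (hDDt (conj_mem_of_nm hrD hd))
  have hLR : ∀ x, x ∈ L → x ∈ R' → x ∈ I := fun x hxL hxR => S.claim Dt hDtI hrDt x hxL (hρ x hxR)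
  have hZ0 : cz L ⊓ cz R' = D := by
    apply le_antisymm
    · rintro z ⟨h1, h2⟩
      rw [← S.IV]
      exact ⟨hLR z (S.zL h1) (hR'le h2), cz_anti S.IL h1⟩
    · exact le_inf S.DzL hDzR'
  have hprod : ∀ c ∈ cz D, ∃ l ∈ L, ∃ ρ ∈ R', c = l * ρ := by
    intro c hc
    have hc' : c ∈ cz (cz L ⊓ cz R') := by rw [hZ0]; exact hc
    obtain ⟨a, ha, b, hb, rfl⟩ := lg_mem_cz_inf (lg_cz hLm) (lg_cz hR'm) hc'
    rw [lg_cz_cz hLm] at ha
    rw [lg_cz_cz hR'm] at hb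
    exact ⟨a, ha, b, hb, rfl⟩
  set B : Subgroup P := (I ⊔ cz R') ⊓ cz I with hB
  have hBlg : Lg B := lg_inf (lg_sup S.lgI (lg_cz hR'm)) (lg_cz S.lgI)
  have hDB : D ≤ B := le_inf (S.DI.trans le_sup_left) S.DV
  have hrV : r ∈ nm (cz I) := nm_cz (S.nmI S.rM)
  have hrI : r ∈ nm I := S.nmI S.rM
  have hZfix : ∀ z ∈ cz R', Fx D r z := by
    intro z hz
    rw [hR'z] at hz
    obtain ⟨z₀, hz₀, d, hd, rfl⟩ := lg_mem_sup (lg_inf (lg_cz hRm) hCm) S.lgD hz
    unfold Fx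
    have hc := (mem_cz.1 hz₀.1) r hrR
    have e1 : r⁻¹ * z₀ * r = z₀ := by
      rw [mul_assoc, ← hc]; group
    have e : (z₀ * d)⁻¹ * (r⁻¹ * (z₀ * d) * r) = d⁻¹ * (r⁻¹ * d * r) := by
      calc (z₀ * d)⁻¹ * (r⁻¹ * (z₀ * d) * r) = d⁻¹ * z₀⁻¹ * (r⁻¹ * z₀ * r) * (r⁻¹ * d * r) := by group
        _ = d⁻¹ * (r⁻¹ * d * r) := by rw [e1]; group
    rw [e]
    exact D.mul_mem (D.inv_mem hd) (conj_mem_of_nm hrD hd)
  have hBfix : ∀ b ∈ B, Fx D r b := by
    rintro b ⟨hb1, hb2⟩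
    obtain ⟨i, hi, z, hz, rfl⟩ := lg_mem_sup S.lgI (lg_cz hR'm) hb1
    have hzC : z ∈ cz D := hR'C (hR'le hz)
    rw [Fx, ← S.IV]
    refine ⟨?_, ?_⟩
    · have e : (i * z)⁻¹ * (r⁻¹ * (i * z) * r) =
          z⁻¹ * (i⁻¹ * (r⁻¹ * i * r)) * z * (z⁻¹ * (r⁻¹ * z * r)) := by group
      rw [e]
      refine I.mul_mem ?_ (S.DI (hZfix z hz))
      have := conj_mem_of_nm (S.CnmI hzC) (I.mul_mem (I.inv_mem hi) (conj_mem_of_nm hrI hi))
      exact this
    · exact Subgroup.mul_mem _ (Subgroup.inv_mem _ hb2) (conj_mem_of_nm hrV hb2)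
  -- the core
  set F : Subgroup P := coreOver M B with hF
  have hFlg : Lg F := coreOver_lg hBlg
  have hFnm : M ≤ nm F := coreOver_nm
  have hFB : F ≤ B := coreOver_le
  have hFV : F ≤ cz I := hFB.trans inf_le_right
  have hDF : D ≤ F := by
    intro d hd
    rw [hF, mem_coreOver]
    intro g hg
    exact hDB (conj_mem_of_nm (S.nmD hg) hd)
  have hfix : ∀ w ∈ cz I, (∀ g ∈ M, Fx D g w) → w ∈ F := by
    intro w hw hwfix
    apply Fx_conj hwfix hDB
    refine ⟨?_, hw⟩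
    obtain ⟨l, hl, ρ, hρ', rfl⟩ := hprod w (S.Vle hw)
    have hl1 : Fx Dt r l := Fx_left hDDt (hwfix r S.rM) (hρ ρ hρ') (hCDt ρ (hR'C hρ'))
    have hlI : l ∈ I := S.claim Dt hDtI hrDt l hl hl1
    obtain ⟨_, hset⟩ := min_decomp R' L hR' S.minL.1
    have hρ'' : ρ ∈ ((R' : Subgroup P) : Set P) := hρ'
    rw [hset] at hρ''
    obtain ⟨x, hx, z, hz, rfl⟩ := Set.mem_mul.1 hρ''
    have hxI : x ∈ I := hLR x hx.2 hx.1
    have e : l * (x * z) = (l * x) * z := by group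
    rw [e]
    exact Subgroup.mul_mem _ ((le_sup_left : I ≤ I ⊔ cz R') (I.mul_mem hlI hxI))
      ((le_sup_right : cz R' ≤ I ⊔ cz R') hz)
  have hDzF : D ≤ cz F := by
    calc D = cz (cz D) := (lg_cz_cz S.lgD).symm
      _ ≤ cz F := cz_anti (hFV.trans S.Vle)
  have hZF : F ⊓ cz F = D :=
    S.maxD _ (lg_inf hFlg (lg_cz hFlg)) (inf_cz_abelian F) (le_nm_inf hFnm (le_nm_cz hFnm))
      (le_inf hDF hDzF)
  have hsharp : cz F ⊓ cz I = D := by
    by_contra hne
    have hDE : D ≤ cz F ⊓ cz I := le_inf hDzF S.DV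
    obtain ⟨w, hw, hwD, hwfix⟩ := exists_fixed_mod hP hDE hne S.nmD
      (le_nm_inf (le_nm_cz hFnm) (le_nm_cz S.nmI))
      (fun y hy => cz_le_nm D (S.Vle hy.2))
    apply hwD
    rw [← hZF]
    exact ⟨hfix w hw.2 hwfix, hw.1⟩
  have hVF : cz I ≤ F := by
    intro v hv
    have hv' : v ∈ cz (F ⊓ cz F) := by rw [hZF]; exact S.Vle hv
    obtain ⟨y, hy, f, hf, rfl⟩ := lg_mem_cz_inf hFlg (lg_cz hFlg) hv'
    rw [lg_cz_cz hFlg] at hf
    have hyV : y ∈ cz I := by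
      have := (cz I).mul_mem hv ((cz I).inv_mem (hFV hf))
      simpa using this
    have hyD : y ∈ D := by
      rw [← hsharp]; exact ⟨hy, hyV⟩
    exact F.mul_mem (hDF hyD) hf
  -- conclusion
  have hrz : r ∈ nm (cz L) := by
    apply nm_of_conj_le
    intro z hz
    have hzV : z ∈ cz I := cz_anti S.IL hz
    exact Fx_mem (hBfix z (hFB (hVF hzV))) S.DzL hz
  have := nm_cz hrz
  rwa [lg_cz_cz hLm] at this

theorem caseA (hP : IsPGroup p P) (S : Setup M D L I r) {A : Subgroup P}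
    (hA : A ∈ Cfsg.maxAbelianSubgroups P) (hrA : r ∈ A) : r ∈ nm L := by
  have hLm := S.lgL
  have hCm : Lg (cz D) := lg_cz S.lgD
  set A' : Subgroup P := (A ⊓ cz D) ⊔ D with hA'def
  have hA' : A' ∈ Cfsg.maxAbelianSubgroups P := sasakiA S.lgD S.abD hA
  have hA'c : IsMulCommutative A' := hA'.1
  have hAc : IsMulCommutative A := hA.1
  have hA'C : A' ≤ cz D := sup_le inf_le_right S.abD
  have hDA' : D ≤ A' := le_sup_right
  have hrD : r ∈ nm D := S.nmD S.rM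
  have hAfix : ∀ a ∈ A', Fx D r a := by
    intro a ha
    have hc : ∀ x ∈ A ⊓ cz D, ∀ d ∈ D, x * d = d * x := fun x hx d hd => ((mem_cz.1 hx.2) d hd).symm
    obtain ⟨a₀, ha₀, d, hd, rfl⟩ := mem_sup_of_comm hc ha
    unfold Fx
    have e1 : r⁻¹ * a₀ * r = a₀ := by
      have := setLike_mul_comm hrA ha₀.1
      rw [mul_assoc, ← this]; group
    have e : (a₀ * d)⁻¹ * (r⁻¹ * (a₀ * d) * r) = d⁻¹ * (r⁻¹ * d * r) := by
      calc (a₀ * d)⁻¹ * (r⁻¹ * (a₀ * d) * r) = d⁻¹ * a₀⁻¹ * (r⁻¹ * a₀ * r) * (r⁻¹ * d * r) := by group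
        _ = d⁻¹ * (r⁻¹ * d * r) := by rw [e1]; group
    rw [e]
    exact D.mul_mem (D.inv_mem hd) (conj_mem_of_nm hrD hd)
  have hAL : ∀ x, x ∈ A' → x ∈ L → x ∈ I := fun x hxA hxL =>
    S.claim D S.DI hrD x hxL (hAfix x hxA)
  have hinfD : (A' ⊓ L) ⊓ cz L = D := by
    apply le_antisymm
    · rintro z ⟨⟨h1, h2⟩, h3⟩
      rw [← S.IV]
      exact ⟨hAL z h1 h2, cz_anti S.IL h3⟩
    · exact le_inf (le_inf hDA' (S.DI.trans S.IL)) S.DzL
  have hcommH : ∀ a ∈ A' ⊓ L, ∀ z ∈ cz L, a * z = z * a := fun a ha z hz => (mem_cz.1 hz) a ha.2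
  set H : Subgroup P := (A' ⊓ L) ⊔ cz L with hH
  have hHc : IsMulCommutative H := by
    refine isMulCommutative_sup _ _ (isMulCommutative_of_le hA'c inf_le_left) ?_ hcommH
    exact isMulCommutative_of_le_cz (by rw [lg_cz_cz hLm]; exact S.zL)
  have h1 := card_sup_of_comm hcommH
  rw [hinfD] at h1
  have h2 : Nat.card H ≤ Nat.card A' := hA'.2 H hHc
  have h3 := card_mul_set_mul_card_inf L A'
  rw [inf_comm] at h3
  have hsub : (L : Set P) * (A' : Set P) ⊆ ((cz D : Subgroup P) : Set P) := by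
    intro x hx
    obtain ⟨l, hl, a, ha, rfl⟩ := Set.mem_mul.1 hx
    exact Subgroup.mul_mem _ (S.LC hl) (hA'C ha)
  have h4 : Nat.card ((L : Set P) * (A' : Set P) : Set P) ≤ Nat.card (cz D) :=
    Nat.card_mono (Set.toFinite _) hsub
  have h5 : Nat.card L * Nat.card (cz L) = Nat.card D * Nat.card (cz D) := hLm.trans S.lgD.symm
  have hdpos : 0 < Nat.card D := Nat.card_pos
  have hbpos : 0 < Nat.card ↥(A' ⊓ L) := Nat.card_pos
  have hlpos : 0 < Nat.card L := Nat.card_pos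
  have hzpos : 0 < Nat.card (cz L) := Nat.card_pos
  have h6 : Nat.card (cz D) ≤ Nat.card ((L : Set P) * (A' : Set P) : Set P) := by
    have : Nat.card (cz D) * (Nat.card ↥(A' ⊓ L) * Nat.card D) ≤
        Nat.card ((L : Set P) * (A' : Set P) : Set P) * (Nat.card ↥(A' ⊓ L) * Nat.card D) := by
      calc Nat.card (cz D) * (Nat.card ↥(A' ⊓ L) * Nat.card D)
          = (Nat.card D * Nat.card (cz D)) * Nat.card ↥(A' ⊓ L) := by ring
        _ = (Nat.card L * Nat.card (cz L)) * Nat.card ↥(A' ⊓ L) := by rw [h5]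
        _ = Nat.card L * (Nat.card ↥(A' ⊓ L) * Nat.card (cz L)) := by ring
        _ = Nat.card L * (Nat.card H * Nat.card D) := by rw [h1]
        _ ≤ Nat.card L * (Nat.card A' * Nat.card D) := by gcongr
        _ = (Nat.card L * Nat.card A') * Nat.card D := by ring
        _ = (Nat.card ((L : Set P) * (A' : Set P) : Set P) * Nat.card ↥(A' ⊓ L)) * Nat.card D := by rw [h3]
        _ = _ := by ring
    exact Nat.le_of_mul_le_mul_right this (Nat.mul_pos hbpos hdpos)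
  have hset : (L : Set P) * (A' : Set P) = ((cz D : Subgroup P) : Set P) := eq_of_card_le hsub h6
  have hsEq : Nat.card ((L : Set P) * (A' : Set P) : Set P) = Nat.card (cz D) := le_antisymm h4 h6
  rw [hsEq] at h3
  -- so |H| = |A'|
  have h7 : Nat.card A' * Nat.card D = Nat.card ↥(A' ⊓ L) * Nat.card (cz L) := by
    have : Nat.card L * (Nat.card A' * Nat.card D) = Nat.card L * (Nat.card ↥(A' ⊓ L) * Nat.card (cz L)) := by
      calc Nat.card L * (Nat.card A' * Nat.card D) = (Nat.card L * Nat.card A') * Nat.card D := by ring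
        _ = (Nat.card (cz D) * Nat.card ↥(A' ⊓ L)) * Nat.card D := by rw [h3]
        _ = (Nat.card D * Nat.card (cz D)) * Nat.card ↥(A' ⊓ L) := by ring
        _ = (Nat.card L * Nat.card (cz L)) * Nat.card ↥(A' ⊓ L) := by rw [h5]
        _ = _ := by ring
    exact Nat.eq_of_mul_eq_mul_left hlpos this
  have h8 : Nat.card H = Nat.card A' := by
    have : Nat.card H * Nat.card D = Nat.card A' * Nat.card D := by rw [h1, h7]
    exact Nat.eq_of_mul_eq_mul_right hdpos this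
  have hHmax : H ∈ Cfsg.maxAbelianSubgroups P :=
    ⟨hHc, fun B hB => by rw [h8]; exact hA'.2 B hB⟩
  have hHz : cz H ≤ H := centralizer_le_of_max H hHmax
  have hHmem : ∀ y ∈ cz (A' ⊓ L), y ∈ L → y ∈ H := by
    intro y hy1 hy2
    apply hHz
    show y ∈ Subgroup.centralizer ((((A' ⊓ L) ⊔ cz L : Subgroup P)) : Set P)
    rw [centralizer_sup_eq]
    refine ⟨hy1, ?_⟩
    show y ∈ cz (cz L)
    rw [lg_cz_cz hLm]; exact hy2
  have hA'IL : A' ⊓ L = A' ⊓ I := by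
    apply le_antisymm
    · rintro x ⟨h1, h2⟩
      exact ⟨h1, hAL x h1 h2⟩
    · exact inf_le_inf_left _ S.IL
  have hCI : ∀ y ∈ I, (∀ a₀ ∈ A' ⊓ I, a₀ * y = y * a₀) → y ∈ A' ⊓ I := by
    intro y hy hyc
    have hyH : y ∈ H := hHmem y (by
      rw [mem_cz]
      intro a₀ ha₀
      rw [hA'IL] at ha₀
      exact hyc a₀ ha₀) (S.IL hy)
    obtain ⟨a₀, ha₀, z, hz, rfl⟩ := mem_sup_of_comm hcommH hyH
    have ha₀I : a₀ ∈ I := hAL a₀ ha₀.1 ha₀.2
    have hzI : z ∈ I := by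
      have := I.mul_mem (I.inv_mem ha₀I) hy
      simpa using this
    have hzD : z ∈ D := by
      rw [← S.IV]; exact ⟨hzI, cz_anti S.IL hz⟩
    exact ⟨A'.mul_mem ha₀.1 (hDA' hzD), hy⟩
  have hsplit : ∀ a ∈ A', ∃ i ∈ A' ⊓ I, ∃ v ∈ A' ⊓ cz I, a = i * v := by
    intro a ha
    obtain ⟨i, hi, v, hv, rfl⟩ := S.prod (hA'C ha)
    have hiA : i ∈ A' ⊓ I := by
      apply hCI i hi
      intro a₀ ha₀
      have hc1 : a₀ * (i * v) = (i * v) * a₀ := setLike_mul_comm ha₀.1 ha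
      have hc2 : a₀ * v = v * a₀ := (mem_cz.1 hv) a₀ ha₀.2
      have : a₀ * i * v = i * a₀ * v := by
        calc a₀ * i * v = a₀ * (i * v) := by group
          _ = (i * v) * a₀ := hc1
          _ = i * (v * a₀) := by group
          _ = i * (a₀ * v) := by rw [hc2]
          _ = i * a₀ * v := by group
      exact mul_right_cancel this
    have hvA : v ∈ A' := by
      have := A'.mul_mem (A'.inv_mem hiA.1) ha
      simpa using this
    exact ⟨i, hiA, v, ⟨hvA, hv⟩, rfl⟩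
  have hfixw : ∀ w ∈ cz I, Fx D r w → w ∈ A' ⊓ cz I := by
    intro w hw hwfix
    have hw' : w ∈ ((cz D : Subgroup P) : Set P) := S.Vle hw
    rw [← hset] at hw'
    obtain ⟨l, hl, a, ha, rfl⟩ := Set.mem_mul.1 hw'
    have hl1 : Fx D r l := Fx_left le_rfl hwfix (hAfix a ha) (cz_le_nm D (hA'C ha))
    have hlI : l ∈ I := S.claim D S.DI hrD l hl hl1
    obtain ⟨i, hi, v, hv, rfl⟩ := hsplit a ha
    have hliV : l * i ∈ cz I := by
      have := (cz I).mul_mem hw ((cz I).inv_mem hv.2)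
      have e : l * (i * v) * v⁻¹ = l * i := by group
      rwa [e] at this
    have hliD : l * i ∈ D := by
      rw [← S.IV]; exact ⟨I.mul_mem hlI hi.2, hliV⟩
    have e : l * (i * v) = (l * i) * v := by group
    refine ⟨?_, hw⟩
    rw [e]
    exact A'.mul_mem (hDA' hliD) hv.1
  -- B₀ is large
  set B₀ : Subgroup P := A' ⊓ cz I with hB₀
  have hB₀c : IsMulCommutative B₀ := isMulCommutative_of_le hA'c inf_le_left
  have hDB₀ : D ≤ B₀ := le_inf hDA' S.DV
  have hLV : L ⊓ cz I ≤ cz L := by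
    rintro g ⟨hg1, hg2⟩
    have hgH : g ∈ H := hHmem g (by
      rw [mem_cz]
      intro a₀ ha₀
      exact (mem_cz.1 hg2) a₀ (hAL a₀ ha₀.1 ha₀.2)) hg1
    obtain ⟨a₀, ha₀, z, hz, rfl⟩ := mem_sup_of_comm hcommH hgH
    have ha₀V : a₀ ∈ cz I := by
      have := (cz I).mul_mem hg2 ((cz I).inv_mem (cz_anti S.IL hz))
      simpa using this
    have ha₀D : a₀ ∈ D := by
      rw [← S.IV]; exact ⟨hAL a₀ ha₀.1 ha₀.2, ha₀V⟩
    exact (cz L).mul_mem (S.DzL ha₀D) hz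
  have hcommIz : ∀ i ∈ I, ∀ z ∈ cz L, i * z = z * i := fun i hi z hz => (mem_cz.1 hz) i (S.IL hi)
  have hsupL : I ⊔ cz L = L := by
    apply le_antisymm
    · exact sup_le S.IL S.zL
    · intro l hl
      obtain ⟨i, hi, v, hv, rfl⟩ := S.prod (S.LC hl)
      have hvL : v ∈ L := by
        have := L.mul_mem (L.inv_mem (S.IL hi)) hl
        simpa using this
      exact Subgroup.mul_mem _ ((le_sup_left : I ≤ I ⊔ cz L) hi)
        ((le_sup_right : cz L ≤ I ⊔ cz L) (hLV ⟨hvL, hv⟩))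
  have hinfIz : I ⊓ cz L = D := by
    apply le_antisymm
    · rw [← S.IV]; exact inf_le_inf_left _ (cz_anti S.IL)
    · exact le_inf S.DI S.DzL
  have c1 := card_sup_of_comm hcommIz
  rw [hsupL, hinfIz] at c1
  have hcommAB : ∀ x ∈ A' ⊓ I, ∀ y ∈ A' ⊓ cz I, x * y = y * x := fun x hx y hy => setLike_mul_comm hx.1 hy.1
  have c2 := card_sup_of_comm hcommAB
  have hsupA : (A' ⊓ I) ⊔ (A' ⊓ cz I) = A' := by
    apply le_antisymm
    · exact sup_le inf_le_left inf_le_left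
    · intro a ha
      obtain ⟨i, hi, v, hv, rfl⟩ := hsplit a ha
      exact Subgroup.mul_mem _ ((le_sup_left : A' ⊓ I ≤ _) hi) ((le_sup_right : A' ⊓ cz I ≤ _) hv)
  have hinfA : (A' ⊓ I) ⊓ (A' ⊓ cz I) = D := by
    apply le_antisymm
    · rw [← S.IV]
      exact le_inf (inf_le_left.trans inf_le_right) (inf_le_right.trans inf_le_right)
    · exact le_inf (le_inf hDA' S.DI) hDB₀
  rw [hsupA, hinfA] at c2
  rw [← hA'IL] at c2
  have hyz : Nat.card B₀ = Nat.card (cz L) := by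
    have : Nat.card ↥(A' ⊓ L) * Nat.card B₀ = Nat.card ↥(A' ⊓ L) * Nat.card (cz L) := by
      rw [← c2, h7]
    exact Nat.eq_of_mul_eq_mul_left hbpos this
  have hcommIB : ∀ i ∈ I, ∀ b ∈ B₀, i * b = b * i := fun i hi b hb => (mem_cz.1 hb.2) i hi
  have c3 := card_sup_of_comm hcommIB
  have hinfIB : I ⊓ B₀ = D := by
    apply le_antisymm
    · rw [← S.IV]
      exact le_inf inf_le_left (inf_le_right.trans inf_le_right)
    · exact le_inf S.DI hDB₀
  rw [hinfIB, hyz] at c3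
  have hsupcz : I ⊔ B₀ ≤ cz B₀ := by
    apply sup_le
    · intro i hi
      rw [mem_cz]
      intro b hb
      exact (hcommIB i hi b hb).symm
    · exact le_cz_of_isMulCommutative hB₀c
  have hB₀lg : Lg B₀ := by
    apply le_antisymm (mem_bound B₀)
    have hmax : Cfsg.maxCentralizerProduct P = Nat.card L * Nat.card (cz L) := hLm.symm
    have h9 : Cfsg.maxCentralizerProduct P * Nat.card D =
        Nat.card (cz L) * (Nat.card ↥(I ⊔ B₀) * Nat.card D) := by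
      rw [c3, hmax]
      calc Nat.card L * Nat.card (cz L) * Nat.card D = (Nat.card L * Nat.card D) * Nat.card (cz L) := by ring
        _ = (Nat.card I * Nat.card (cz L)) * Nat.card (cz L) := by rw [c1]
        _ = _ := by ring
    have h10 : Cfsg.maxCentralizerProduct P = Nat.card (cz L) * Nat.card ↥(I ⊔ B₀) := by
      apply Nat.eq_of_mul_eq_mul_right hdpos
      rw [h9]; ring
    rw [h10, hyz]
    apply Nat.mul_le_mul_left
    exact Nat.card_mono (Set.toFinite _) (fun x hx => hsupcz hx)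
  set F₀ : Subgroup P := coreOver M B₀ with hF₀
  have hF₀D : F₀ = D := by
    apply S.maxD _ (coreOver_lg hB₀lg)
    · have : F₀ ≤ B₀ := coreOver_le
      intro x hx
      rw [mem_cz]
      intro y hy
      exact setLike_mul_comm (this hy) (this hx)
    · exact coreOver_nm
    · intro d hd
      rw [mem_coreOver]
      intro g hg
      exact hDB₀ (conj_mem_of_nm (S.nmD hg) hd)
  have hVD : cz I = D := by
    by_contra hne
    obtain ⟨w, hw, hwD, hwfix⟩ := exists_fixed_mod hP S.DV hne S.nmD (le_nm_cz S.nmI)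
      (fun y hy => cz_le_nm D (S.Vle hy))
    apply hwD
    rw [← hF₀D]
    exact Fx_conj hwfix hDB₀ (hfixw w hw (hwfix r S.rM))
  have hCL : cz D ≤ L := by
    intro c hc
    obtain ⟨i, hi, v, hv, rfl⟩ := S.prod hc
    rw [hVD] at hv
    exact L.mul_mem (S.IL hi) (S.IL (S.DI hv))
  have hLeq : L = cz D := le_antisymm S.LC hCL
  rw [hLeq]
  exact nm_cz hrD

end CaseR

end Step

section Assemble

variable {P : Type*} [Group P] [Finite P]

/-- intersection of the `r`-power conjugates -/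
def Ipow (r : P) (L : Subgroup P) : Subgroup P := ⨅ i : ℕ, cj (r ^ i) L

theorem mem_Ipow {r x : P} {L : Subgroup P} : x ∈ Ipow r L ↔ ∀ i : ℕ, (r ^ i)⁻¹ * x * r ^ i ∈ L := by
  unfold Ipow
  rw [Subgroup.mem_iInf]
  exact forall_congr' fun i => mem_cj

theorem Ipow_le {r : P} {L : Subgroup P} : Ipow r L ≤ L := by
  intro x hx
  have := mem_Ipow.1 hx 0
  simpa using this

theorem Ipow_nm_r {r : P} {L : Subgroup P} : r ∈ nm (Ipow r L) := by
  apply nm_of_conj_le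
  intro x hx
  rw [mem_Ipow] at hx ⊢
  intro i
  have := hx (i + 1)
  have e : (r ^ i)⁻¹ * (r⁻¹ * x * r) * r ^ i = (r ^ (i + 1))⁻¹ * x * r ^ (i + 1) := by
    rw [pow_succ']; group
  rwa [e]

theorem Ipow_nm_T {r : P} {L T : Subgroup P} (hrT : r ∈ nm T) (hTL : T ≤ nm L) : T ≤ nm (Ipow r L) := by
  intro t ht
  apply nm_of_conj_le
  intro x hx
  rw [mem_Ipow] at hx ⊢
  intro i
  have hti : ∀ i : ℕ, (r ^ i)⁻¹ * t * r ^ i ∈ T := by
    intro i
    have : r ^ i ∈ nm T := Subgroup.pow_mem _ hrT i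
    exact conj_mem_of_nm this ht
  have h1 := conj_mem_of_nm (hTL (hti i)) (hx i)
  have e : ((r ^ i)⁻¹ * t * r ^ i)⁻¹ * ((r ^ i)⁻¹ * x * r ^ i) * ((r ^ i)⁻¹ * t * r ^ i) =
      (r ^ i)⁻¹ * (t⁻¹ * x * t) * r ^ i := by group
  rwa [e] at h1

theorem Ipow_claim {r : P} {L Dt : Subgroup P} (hDt : Dt ≤ Ipow r L) (hr : r ∈ nm Dt) {x : P} (hx : x ∈ L)
    (h : Fx Dt r x) : x ∈ Ipow r L := by
  have key : ∀ i : ℕ, x⁻¹ * ((r ^ i)⁻¹ * x * r ^ i) ∈ Dt := by
    intro i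
    induction i with
    | zero => simp
    | succ n ih =>
      have e : x⁻¹ * ((r ^ (n + 1))⁻¹ * x * r ^ (n + 1)) =
          (x⁻¹ * (r⁻¹ * x * r)) * (r⁻¹ * (x⁻¹ * ((r ^ n)⁻¹ * x * r ^ n)) * r) := by
        rw [pow_succ]; group
      rw [e]
      exact Dt.mul_mem h (conj_mem_of_nm hr ih)
  rw [mem_Ipow]
  intro i
  have := L.mul_mem hx (Ipow_le (hDt (key i)))
  have e : x * (x⁻¹ * ((r ^ i)⁻¹ * x * r ^ i)) = (r ^ i)⁻¹ * x * r ^ i := by group
  rwa [e] at this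

theorem cl_conj (g : P) {X : Subgroup P} (hX : Cfsg.IsCentrallyLarge X) : Cfsg.IsCentrallyLarge (cj g X) := by
  obtain ⟨h1, h2⟩ := (centrallyLarge_iff X).1 hX
  refine (centrallyLarge_iff _).2 ⟨lg_conj g h1, ?_⟩
  show cz (cj g X) ≤ cj g X
  rw [← cj_cz]
  intro y hy
  rw [mem_cj] at hy ⊢
  exact h2 hy

theorem commutator_eq_of_min {Q R : Subgroup P} (hQ : Cfsg.IsMinimalCentrallyLarge Q)
    (hR : Cfsg.IsMinimalCentrallyLarge R) : ⁅Q, Q⁆ = ⁅R, R⁆ := by
  rw [commutator_eq Q R hQ hR.1, commutator_eq R Q hR hQ.1, inf_comm]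

theorem commutator_self_le (Q : Subgroup P) : ⁅Q, Q⁆ ≤ Q := by
  rw [Subgroup.commutator_le]
  intro a ha b hb
  rw [commutatorElement_def]
  exact Q.mul_mem (Q.mul_mem (Q.mul_mem ha hb) (Q.inv_mem ha)) (Q.inv_mem hb)

theorem clJoin_nm (g : P) : g ∈ nm (Cfsg.centrallyLargeJoin P) := by
  apply nm_of_conj_le
  intro x hx
  have hle : Cfsg.centrallyLargeJoin P ≤ cj g (Cfsg.centrallyLargeJoin P) := by
    apply sSup_le
    intro R hR y hy
    rw [mem_cj]
    have h1 : g⁻¹ * y * g ∈ cj g⁻¹ R := by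
      rw [mem_cj]
      have e : g⁻¹⁻¹ * (g⁻¹ * y * g) * g⁻¹ = y := by group
      rwa [e]
    exact (le_sSup (cl_conj g⁻¹ hR) : cj g⁻¹ R ≤ Cfsg.centrallyLargeJoin P) h1
  exact mem_cj.1 (hle hx)

theorem step {p : ℕ} [Fact p.Prime] (hP : IsPGroup p P) (T : Subgroup P) (r : P) (hrT : r ∈ nm T)
    (Q₀ : Subgroup P) (hQ₀ : Cfsg.IsMinimalCentrallyLarge Q₀) (hTQ₀ : T ≤ nm Q₀)
    (hr : (∃ R, Cfsg.IsMinimalCentrallyLarge R ∧ r ∈ R) ∨ (∃ A, A ∈ Cfsg.maxAbelianSubgroups P ∧ r ∈ A)) :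
    ∃ L, Cfsg.IsMinimalCentrallyLarge L ∧ T ≤ nm L ∧ r ∈ nm L := by
  classical
  set M : Subgroup P := T ⊔ Subgroup.zpowers r with hM
  have hMgen : ∀ X : Subgroup P, T ≤ nm X → r ∈ nm X → M ≤ nm X := fun X h1 h2 =>
    sup_le h1 ((Subgroup.zpowers_le).2 h2)
  have hTM : T ≤ M := le_sup_left
  have hrM : r ∈ M := (le_sup_right : Subgroup.zpowers r ≤ M) (Subgroup.mem_zpowers r)
  let 𝓓 : Set (Subgroup P) := {K | Lg K ∧ K ≤ cz K ∧ M ≤ nm K}
  have hne : 𝓓.Nonempty := by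
    have hX := (Cfsg.Agent.S3005.result (p := p) P hP).2.2.2.1
    obtain ⟨hXm, hXle⟩ := (centrallyLarge_iff _).1 hX
    refine ⟨cz (Cfsg.centrallyLargeJoin P), lg_cz hXm, ?_, ?_⟩
    · rw [lg_cz_cz hXm]; exact hXle
    · exact fun g _ => nm_cz (clJoin_nm g)
  obtain ⟨D, hD⟩ := (Set.toFinite 𝓓).exists_maximal hne
  obtain ⟨hDm, hDab, hDM⟩ := hD.prop
  have hDmax : ∀ K, Lg K → K ≤ cz K → M ≤ nm K → D ≤ K → K = D := by
    intro K h1 h2 h3 h4
    exact le_antisymm (hD.le_of_ge ⟨h1, h2, h3⟩ h4) h4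
  have hQ₀m : Lg Q₀ := ((centrallyLarge_iff Q₀).1 hQ₀.1).1
  set L : Subgroup P := (Q₀ ⊓ cz D) ⊔ D with hL
  have hLmin : Cfsg.IsMinimalCentrallyLarge L := sasaki hDm hDab hQ₀
  have hLm : Lg L := ((centrallyLarge_iff L).1 hLmin.1).1
  have hLz : cz L = (cz Q₀ ⊓ cz D) ⊔ D := sasaki_cz hDm hDab hQ₀m
  have hTL : T ≤ nm L := fun t ht =>
    nm_sup (nm_inf (hTQ₀ ht) (nm_cz (hDM (hTM ht)))) (hDM (hTM ht))
  set I : Subgroup P := Ipow r L with hI
  have hIL : I ≤ L := Ipow_le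
  have hDL : D ≤ L := le_sup_right
  have hDI : D ≤ I := by
    intro d hd
    rw [hI, mem_Ipow]
    intro i
    have : r ^ i ∈ nm D := Subgroup.pow_mem _ (hDM hrM) i
    exact hDL (conj_mem_of_nm this hd)
  have hS : Setup M D L I r :=
    { lgD := hDm
      abD := hDab
      nmD := hDM
      maxD := hDmax
      minL := hLmin
      DzL := by rw [hLz]; exact le_sup_right
      LC := sup_le inf_le_right hDab
      lgI := lg_iInf _ (fun i => lg_conj _ hLm)
      nmI := hMgen _ (Ipow_nm_T hrT hTL) Ipow_nm_r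
      DI := hDI
      IL := hIL
      WI := by
        intro x hx
        rw [hI, mem_Ipow]
        intro i
        -- work with the conjugate
        have h1 : ⁅L, L⁆ = ⁅cj (r ^ i) L, cj (r ^ i) L⁆ :=
          commutator_eq_of_min hLmin (minCL_conj _ hLmin)
        rw [h1] at hx
        exact mem_cj.1 (commutator_self_le _ hx)
      rM := hrM
      claim := fun Dt h1 h2 x hx h3 => Ipow_claim h1 h2 hx h3 }
  refine ⟨L, hLmin, hTL, ?_⟩
  rcases hr with ⟨R, hR, hrR⟩ | ⟨A, hA, hrA⟩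
  · exact caseR hP hS hR hrR
  · exact caseA hP hS hA hrA

theorem exists_minCL : ∃ Q : Subgroup P, Cfsg.IsMinimalCentrallyLarge Q := by
  obtain ⟨Q, hQ, hle⟩ := exists_large_self_centralizing P
  have hne : {K : Subgroup P | Cfsg.IsCentrallyLarge K}.Nonempty :=
    ⟨Q, (centrallyLarge_iff Q).2 ⟨hQ, hle⟩⟩
  obtain ⟨X, hX⟩ := (Set.toFinite _).exists_minimal hne
  exact ⟨X, hX.prop, fun R h1 h2 => le_antisymm h1 (hX.le_of_le h2 h1)⟩

theorem part_b {p : ℕ} [Fact p.Prime] (hP : IsPGroup p P) :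
    ∃ Q : Subgroup P, Cfsg.IsMinimalCentrallyLarge Q ∧ Cfsg.thompsonSubgroupA P ≤ nm Q ∧
      Cfsg.minimalCentrallyLargeJoin P ≤ nm Q := by
  classical
  let S : Set P := {x | (∃ R, Cfsg.IsMinimalCentrallyLarge R ∧ x ∈ R) ∨ (∃ A, A ∈ Cfsg.maxAbelianSubgroups P ∧ x ∈ A)}
  have hSconj : ∀ g, ∀ s ∈ S, g⁻¹ * s * g ∈ S := by
    rintro g s (⟨R, hR, hs⟩ | ⟨A, hA, hs⟩)
    · refine Or.inl ⟨cj g⁻¹ R, minCL_conj _ hR, ?_⟩
      rw [mem_cj]
      have e : g⁻¹⁻¹ * (g⁻¹ * s * g) * g⁻¹ = s := by group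
      rwa [e]
    · refine Or.inr ⟨cj g⁻¹ A, maxAb_conj _ hA, ?_⟩
      rw [mem_cj]
      have e : g⁻¹⁻¹ * (g⁻¹ * s * g) * g⁻¹ = s := by group
      rwa [e]
  let 𝓕 : Set (Subgroup P) := {T | Subgroup.closure (S ∩ T) = T ∧ ∃ Q, Cfsg.IsMinimalCentrallyLarge Q ∧ T ≤ nm Q}
  have hne : 𝓕.Nonempty := by
    refine ⟨⊥, ?_, ?_⟩
    · apply le_antisymm
      · rw [Subgroup.closure_le]
        exact Set.inter_subset_right
      · exact bot_le
    · obtain ⟨Q, hQ⟩ := exists_minCL (P := P)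
      exact ⟨Q, hQ, bot_le⟩
  obtain ⟨T, hT⟩ := (Set.toFinite 𝓕).exists_maximal hne
  obtain ⟨hT1, Q, hQ, hTQ⟩ := hT.prop
  have hTX : T = Subgroup.closure S := by
    by_contra hneq
    obtain ⟨s, hs, hsT, hsN⟩ := exists_normalizing hP hSconj hT1 hneq
    obtain ⟨L, hL, hTL, hsL⟩ := step hP T s hsN Q hQ hTQ hs
    have hT' : T ⊔ Subgroup.zpowers s ∈ 𝓕 := by
      refine ⟨?_, L, hL, sup_le hTL ((Subgroup.zpowers_le).2 hsL)⟩
      apply le_antisymm
      · rw [Subgroup.closure_le]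
        exact Set.inter_subset_right
      · apply sup_le
        · conv_lhs => rw [← hT1]
          exact Subgroup.closure_mono (Set.inter_subset_inter_right _
            (SetLike.coe_subset_coe.2 le_sup_left))
        · rw [Subgroup.zpowers_le]
          exact Subgroup.subset_closure ⟨hs, (le_sup_right : Subgroup.zpowers s ≤ _) (Subgroup.mem_zpowers s)⟩
    have := hT.le_of_ge hT' le_sup_left
    exact hsT (this ((le_sup_right : Subgroup.zpowers s ≤ _) (Subgroup.mem_zpowers s)))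
  refine ⟨Q, hQ, ?_, ?_⟩
  · calc Cfsg.thompsonSubgroupA P ≤ Subgroup.closure S := by
          apply sSup_le
          intro A hA x hx
          exact Subgroup.subset_closure (Or.inr ⟨A, hA, hx⟩)
      _ = T := hTX.symm
      _ ≤ nm Q := hTQ
  · calc Cfsg.minimalCentrallyLargeJoin P ≤ Subgroup.closure S := by
          apply sSup_le
          intro R hR x hx
          exact Subgroup.subset_closure (Or.inl ⟨R, hR, hx⟩)
      _ = T := hTX.symm
      _ ≤ nm Q := hTQ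

theorem exists_maxAb : ∃ A : Subgroup P, A ∈ Cfsg.maxAbelianSubgroups P := by
  classical
  have hne : {K : Subgroup P | IsMulCommutative K}.Nonempty := by
    refine ⟨⊥, ⟨⟨?_⟩⟩⟩
    rintro ⟨x, hx⟩ ⟨y, hy⟩
    apply Subtype.ext
    rw [Subgroup.mem_bot] at hx hy
    simp [hx, hy]
  obtain ⟨A, hA, hmax⟩ := Set.exists_max_image _ (fun K : Subgroup P => Nat.card K) (Set.toFinite _) hne
  exact ⟨A, hA, hmax⟩

theorem cl_sup_thompson (Q : Subgroup P) (hQ : Cfsg.IsCentrallyLarge Q) :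
    Cfsg.IsCentrallyLarge (Q ⊔ Cfsg.thompsonSubgroupA P) := by
  classical
  have h1 : Q ⊔ Cfsg.thompsonSubgroupA P = sSup ((fun A => Q ⊔ A) '' Cfsg.maxAbelianSubgroups P) := by
    obtain ⟨A₀, hA₀⟩ := exists_maxAb (P := P)
    apply le_antisymm
    · apply sup_le
      · exact le_sSup_of_le ⟨A₀, hA₀, rfl⟩ le_sup_left
      · apply sSup_le
        intro A hA
        exact le_sSup_of_le ⟨A, hA, rfl⟩ le_sup_right
    · apply sSup_le
      rintro _ ⟨A, hA, rfl⟩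
      exact sup_le_sup_left (le_sSup hA) _
  rw [h1]
  obtain ⟨A₀, hA₀⟩ := exists_maxAb (P := P)
  have := sSup_mem_of_closed {K : Subgroup P | Cfsg.IsCentrallyLarge K} ((fun A => Q ⊔ A) '' Cfsg.maxAbelianSubgroups P)
    ⟨Q ⊔ A₀, A₀, hA₀, rfl⟩
    (by
      rintro _ ⟨A, hA, rfl⟩
      exact (step_main Q A hQ hA).2.1)
    (by
      intro X Y hX hY
      exact (centrallyLarge_sup X Y hX hY).2)
  exact this

theorem part_a (Q : Subgroup P) (hQ : Cfsg.IsCentrallyLarge Q) :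
    cz (Cfsg.thompsonSubgroupA P ⊓ cz (Cfsg.thompsonSubgroupA P)) ≤ Q ⊔ Cfsg.thompsonSubgroupA P := by
  have hX := cl_sup_thompson Q hQ
  obtain ⟨hXm, hXle⟩ := (centrallyLarge_iff _).1 hX
  have h1 : cz (Q ⊔ Cfsg.thompsonSubgroupA P) ≤ Cfsg.thompsonSubgroupA P ⊓ cz (Cfsg.thompsonSubgroupA P) := by
    apply le_inf
    · obtain ⟨A₀, hA₀⟩ := exists_maxAb (P := P)
      calc cz (Q ⊔ Cfsg.thompsonSubgroupA P) ≤ cz A₀ :=
            cz_anti (le_sup_of_le_right (le_sSup hA₀))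
        _ ≤ A₀ := centralizer_le_of_max A₀ hA₀
        _ ≤ _ := le_sSup hA₀
    · exact cz_anti le_sup_right
  have := cz_anti h1
  rwa [lg_cz_cz hXm] at this

theorem part_c (hJ : Cfsg.thompsonSubgroupA P = ⊤)
    (hcard : ∀ A ∈ Cfsg.maxAbelianSubgroups P, Nat.card ↥A ^ 2 = Nat.card P * Nat.card ↥(Subgroup.center P))
    (Q : Subgroup P) (hQ : Cfsg.IsMinimalCentrallyLarge Q) : IsMulCommutative ↥Q := by
  have hX := cl_sup_thompson Q hQ.1
  rw [hJ, sup_top_eq] at hX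
  obtain ⟨A, hA⟩ := exists_maxAb (P := P)
  have hAc := hA.1
  have hAcl : Cfsg.IsCentrallyLarge A := by
    have h1 : Nat.card ↥(⊤ : Subgroup P) * Nat.card ↥(Subgroup.center ↥(⊤ : Subgroup P)) =
        Cfsg.maxCentralProduct P := hX
    have h2 : Nat.card ↥(Subgroup.center ↥(⊤ : Subgroup P)) = Nat.card ↥(Subgroup.center P) := by
      rw [card_center_eq]
      congr 1
      apply congrArg
      ext x
      simp [Subgroup.mem_center_iff, Subgroup.mem_centralizer_iff]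
    rw [h2, Subgroup.card_top, ← hcard A hA] at h1
    show Nat.card ↥A * Nat.card ↥(Subgroup.center ↥A) = _
    rw [← h1, sq]
    congr 1
    have : Subgroup.center ↥A = ⊤ := by
      ext x
      simp only [Subgroup.mem_top, iff_true]
      rw [Subgroup.mem_center_iff]
      intro y
      exact mul_comm' y x
    rw [this, Subgroup.card_top]
  obtain ⟨hE, _⟩ := min_decomp Q A hQ hAcl
  obtain ⟨hQm, hQle⟩ := (centrallyLarge_iff Q).1 hQ.1
  have hzc : IsMulCommutative (cz Q) := isMulCommutative_of_le_cz (by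
    rw [lg_cz_cz hQm]; exact hQle)
  have : IsMulCommutative ↥((Q ⊓ A) ⊔ cz Q) := by
    refine isMulCommutative_sup _ _ (isMulCommutative_of_le hAc inf_le_right) hzc ?_
    intro a ha b hb
    exact (mem_cz.1 hb) a ha.1
  rw [hE] at this
  exact this

theorem part_d {p : ℕ} [Fact p.Prime] (hP : IsPGroup p P)
    (h : ∀ Q : Subgroup P, Cfsg.IsMinimalCentrallyLarge Q → IsMulCommutative ↥Q) :
    cz (Cfsg.thompsonSubgroupA P ⊓ cz (Cfsg.thompsonSubgroupA P)) = Cfsg.thompsonSubgroupA P := by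
  obtain ⟨Q, hQ⟩ := exists_minCL (P := P)
  have hX := (Cfsg.Agent.S3007.result (p := p) P hP Q Q hQ hQ).2.2.2.2 (h Q hQ)
  have hEq : Cfsg.thompsonSubgroupA P = Cfsg.minimalCentrallyLargeJoin P := by
    unfold Cfsg.thompsonSubgroupA Cfsg.minimalCentrallyLargeJoin
    congr 1
    ext X
    exact (hX X).symm
  have hJ := (Cfsg.Agent.S3005.result (p := p) P hP).2.2.2.2
  rw [← hEq] at hJ
  obtain ⟨hJm, hJle⟩ := (centrallyLarge_iff _).1 hJ
  rw [inf_eq_right.2 hJle]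
  exact lg_cz_cz hJm

end Assemble

/-- Let P be a finite p-group, with J(P) generated by its abelian subgroups of largest order and J̃(P) = C_P(Z(J(P))); call R ≤ P centrally large if |R|·|Z(R)| is as large as possible, and let P_MCL be generated by the minimal centrally large subgroups. Then: for every centrally large Q, Q·J(P) ⊇ J̃(P); some minimal centrally large subgroup of P is normalized by both J(P) and P_MCL; if P = J(P) and d(P)² = |P|·|Z(P)|, where d(P) is the largest order of an abelian subgroup, then every minimal centrally large subgroup of P is abelian; and if every minimal centrally large subgroup is abelian then J̃(P) = J(P). -/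
theorem result {p : ℕ} [Fact p.Prime] (P : Type*) [Group P] [Finite P] (hP : IsPGroup p P) : (∀ Q : Subgroup P, Cfsg.IsCentrallyLarge Q → Subgroup.centralizer ((Cfsg.thompsonSubgroupA P ⊓ Subgroup.centralizer (Cfsg.thompsonSubgroupA P : Set P) : Subgroup P) : Set P) ≤ Q ⊔ Cfsg.thompsonSubgroupA P) ∧ (∃ Q : Subgroup P, Cfsg.IsMinimalCentrallyLarge Q ∧ Cfsg.thompsonSubgroupA P ≤ Subgroup.normalizer (Q : Set P) ∧ Cfsg.minimalCentrallyLargeJoin P ≤ Subgroup.normalizer (Q : Set P)) ∧ (Cfsg.thompsonSubgroupA P = ⊤ → (∀ A ∈ Cfsg.maxAbelianSubgroups P, Nat.card ↥A ^ 2 = Nat.card P * Nat.card ↥(Subgroup.center P)) → ∀ Q : Subgroup P, Cfsg.IsMinimalCentrallyLarge Q → IsMulCommutative ↥Q) ∧ ((∀ Q : Subgroup P, Cfsg.IsMinimalCentrallyLarge Q → IsMulCommutative ↥Q) → Subgroup.centralizer ((Cfsg.thompsonSubgroupA P ⊓ Subgroup.centralizer (Cfsg.thompsonSubgroupA P : Set P) : Subgroup P) : Set P) = Cfsg.thompsonSubgroupA P)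 :=
  ⟨fun Q hQ => part_a Q hQ, part_b hP, part_c, part_d hP⟩

end Cfsg.Agent.S3008
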