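import Cfsg.Statements.S1140
import Mathlib
-- import your own Cfsg.Agent.* helpers here

set_option autoImplicit false
open Cfsg

namespace Cfsg.Agent.S1140

section

variable {F : Type*} [Field F] [Fintype F] [CharP F 2]

local instance inst2 : Algebra (ZMod 2) F := ZMod.algebra F 2

/-- A ring automorphism of `F` as a `ZMod 2`-linear map. -/
noncomputable def toLin (σ : F ≃+* F) : F →ₗ[ZMod 2] F :=
  AddMonoidHom.toZModLinearMap 2 ((σ : F →+* F) : F →+ F)

theorem toLin_apply (σ : F ≃+* F) (x : F) : toLin σ x = σ x := rfl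

omit [Fintype F] [CharP F 2] in
theorem indep_funs :
    LinearIndependent F (fun σ : F ≃+* F => ((σ : F →+* F) : F → F)) := by
  have h := (linearIndependent_monoidHom F F).comp
    (fun σ : F ≃+* F => ((σ : F →+* F) : F →* F)) (by
      intro a b hab
      ext x
      exact congrArg (fun f : F →* F => f x) hab)
  exact h

theorem indep_lin : LinearIndependent F (toLin : (F ≃+* F) → (F →ₗ[ZMod 2] F)) := by
  have h := indep_funs (F := F)
  have hlin : ∃ g : (F →ₗ[ZMod 2] F) →ₗ[F] (F → F), ∀ f x, g f x = f x :=
    ⟨{ toFun := fun f => f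
       map_add' := fun _ _ => rfl
       map_smul' := fun _ _ => rfl }, fun _ _ => rfl⟩
  obtain ⟨g, hg⟩ := hlin
  apply LinearIndependent.of_comp g
  have h2 : (⇑g ∘ toLin) = fun σ : F ≃+* F => ((σ : F →+* F) : F → F) := by
    funext σ x
    exact hg _ x
  rw [h2]
  exact h

theorem card_aut : Nat.card (F ≃+* F) = Module.finrank (ZMod 2) F := by
  rw [← IsGalois.card_aut_eq_finrank (ZMod 2) F]
  symm
  apply Nat.card_congr
  refine Equiv.ofBijective (fun σ => σ.toRingEquiv) ⟨?_, ?_⟩
  · intro a b hab
    ext x
    exact congrArg (fun f : F ≃+* F => f x) hab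
  · intro σ
    refine ⟨AlgEquiv.ofRingEquiv (f := σ) ?_, ?_⟩
    · intro r
      have : ((σ : F →+* F).comp (algebraMap (ZMod 2) F)) = algebraMap (ZMod 2) F :=
        Subsingleton.elim _ _
      exact congrArg (fun f : ZMod 2 →+* F => f r) this
    · ext x
      rfl

theorem finrank_hom : Module.finrank F (F →ₗ[ZMod 2] F) = Module.finrank (ZMod 2) F := by
  rw [Module.finrank_linearMap_self]

/-- The automorphisms form a basis of the additive endomorphisms. -/
noncomputable def autBasis [Fintype (F ≃+* F)] : Module.Basis (F ≃+* F) F (F →ₗ[ZMod 2] F) :=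
  basisOfLinearIndependentOfCardEqFinrank' toLin indep_lin (by
    rw [finrank_hom, ← card_aut, Nat.card_eq_fintype_card])

theorem autBasis_apply [Fintype (F ≃+* F)] (σ : F ≃+* F) (x : F) : autBasis σ x = σ x := by
  have h : (autBasis : Module.Basis (F ≃+* F) F (F →ₗ[ZMod 2] F)) σ = toLin σ := by
    simp [autBasis]
  rw [h]; rfl

/-- Expansion of an additive map in the basis of automorphisms. -/
theorem expand [Fintype (F ≃+* F)] (f : F →ₗ[ZMod 2] F) (x : F) :
    f x = ∑ σ, (autBasis.repr f σ) * σ x := by
  have h := autBasis.sum_repr f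
  have h2 := congrArg (fun g : F →ₗ[ZMod 2] F => g x) h
  simp only [LinearMap.sum_apply, LinearMap.smul_apply, autBasis_apply, smul_eq_mul] at h2
  exact h2.symm

end

attribute [local instance] inst2

/-- For a finite field `F` of characteristic 2, the automorphisms of `F`, viewed as additive maps `F → F`, are linearly independent over `F` (acting on values) every additive endomorphism of `F` is an `F`-linear combination of them, and every biadditive map `F → F → F` is an `F`-combination of the maps `(x, y) ↦ σ(x) τ(y)`. -/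
theorem result {F : Type*} [Field F] [Fintype F] [CharP F 2] :
    LinearIndependent F (fun σ : F ≃+* F => ((σ : F →+* F) : F → F)) ∧
      (∀ f : F →+ F, ∃ (s : Finset (F ≃+* F)) (c : (F ≃+* F) → F), ∀ x : F, f x = ∑ σ ∈ s, c σ * σ x) ∧
      ∀ B : F →+ F →+ F, ∃ (s : Finset ((F ≃+* F) × (F ≃+* F))) (c : (F ≃+* F) × (F ≃+* F) → F),
        ∀ x y : F, B x y = ∑ p ∈ s, c p * (p.1 x * p.2 y) := by
  classical
  have hfin : Finite (F ≃+* F) :=
    Finite.of_injective (fun σ : F ≃+* F => (σ : F → F)) DFunLike.coe_injective
  let _ : Fintype (F ≃+* F) := Fintype.ofFinite _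
  refine ⟨indep_funs, ?_, ?_⟩
  · intro f
    refine ⟨Finset.univ, fun σ => autBasis.repr (AddMonoidHom.toZModLinearMap 2 f) σ, ?_⟩
    intro x
    exact expand (AddMonoidHom.toZModLinearMap 2 f) x
  · intro B
    -- the coefficient of `τ` in `B x` is additive in `x`
    let coeff : (F ≃+* F) → F →+ F := fun τ =>
      { toFun := fun x => autBasis.repr (AddMonoidHom.toZModLinearMap 2 (B x)) τ
        map_zero' := by
          have : AddMonoidHom.toZModLinearMap 2 (B 0) = 0 := by
            ext y; simp
          rw [this, map_zero]; rfl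
        map_add' := fun x y => by
          have : AddMonoidHom.toZModLinearMap 2 (B (x + y)) =
              AddMonoidHom.toZModLinearMap 2 (B x) + AddMonoidHom.toZModLinearMap 2 (B y) := by
            ext z; simp
          rw [this, map_add]; rfl }
    refine ⟨Finset.univ, fun p => autBasis.repr (AddMonoidHom.toZModLinearMap 2 (coeff p.2)) p.1, ?_⟩
    intro x y
    have h1 := expand (AddMonoidHom.toZModLinearMap 2 (B x)) y
    have h2 : B x y = AddMonoidHom.toZModLinearMap 2 (B x) y := rfl
    rw [h2, h1, ← Finset.univ_product_univ, Finset.sum_product_right]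
    apply Finset.sum_congr rfl
    intro τ _
    have h3 := expand (AddMonoidHom.toZModLinearMap 2 (coeff τ)) x
    have h4 : autBasis.repr (AddMonoidHom.toZModLinearMap 2 (B x)) τ =
        AddMonoidHom.toZModLinearMap 2 (coeff τ) x := rfl
    rw [h4, h3, Finset.sum_mul]
    apply Finset.sum_congr rfl
    intro σ _
    ring

end Cfsg.Agent.S1140
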