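import Cfsg.Statements.S1012
import Mathlib
import Cfsg.Agent.Lib.Basic.ConjCount

set_option autoImplicit false
open Cfsg

namespace Cfsg.Agent.S1012

open Subgroup

theorem no_commuting {G : Type*} [Group G] (h6 : ∀ g : G, orderOf g ≠ 6) {x t : G}
    (hx : orderOf x = 3) (ht : orderOf t = 2) (hc : t * x = x * t) : False := by
  have h1 : Commute t x := hc
  have h2 := h1.orderOf_mul_eq_mul_orderOf_of_coprime (by rw [ht, hx]; decide)
  rw [ht, hx] at h2
  exact h6 _ h2

/-- If the conjugates of `x` all lie in `{x, x⁻¹}`, there is a commuting involution. -/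
theorem exists_commuting_of_conj {G : Type*} [Group G] [Finite G] (h : Nat.card G = 24) {x : G}
    (hconj : ∀ g : G, g * x * g⁻¹ = x ∨ g * x * g⁻¹ = x⁻¹) :
    ∃ t : G, orderOf t = 2 ∧ t * x = x * t := by
  classical
  haveI : Fact (Nat.Prime 2) := ⟨Nat.prime_two⟩
  have hc := Cfsg.Agent.Lib.Basic.ConjCount.card_isConj_mul_card_centralizer x
  rw [h] at hc
  have hle : Nat.card {y // IsConj x y} ≤ 2 := by
    let f : {y // IsConj x y} → ({x, x⁻¹} : Finset G) := fun y => ⟨y.1, by
      obtain ⟨g, hg⟩ := isConj_iff.mp y.2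
      rw [← hg]
      simpa using hconj g⟩
    have hf : Function.Injective f := by
      intro a b hab
      exact Subtype.ext (congrArg (fun z : ({x, x⁻¹} : Finset G) => (z : G)) hab)
    have h1 := Nat.card_le_card_of_injective f hf
    refine h1.trans ?_
    rw [Nat.card_eq_fintype_card, Fintype.card_coe]
    exact Finset.card_le_two
  have hd : 2 ∣ Nat.card (centralizer ({x} : Set G)) := by
    set c := Nat.card {y // IsConj x y}
    set d := Nat.card (centralizer ({x} : Set G))
    interval_cases c <;> omega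
  obtain ⟨t, ht⟩ := exists_prime_orderOf_dvd_card' 2 hd
  refine ⟨t, by rw [Subgroup.orderOf_coe, ht], ?_⟩
  exact (mem_centralizer_iff.mp t.2 x rfl).symm

/-- A group of order 24 containing no element of order 6 is isomorphic to the symmetric group of degree 4. -/
theorem result {G : Type*} [Group G] [Finite G] (h : Nat.card G = 24) (h6 : ∀ g : G, orderOf g ≠ 6) : Nonempty (G ≃* Equiv.Perm (Fin 4)) := by
  classical
  haveI : Fact (Nat.Prime 3) := ⟨Nat.prime_three⟩
  haveI : Fact (Nat.Prime 2) := ⟨Nat.prime_two⟩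
  have h3 : 3 ∣ Nat.card G := by rw [h]; norm_num
  obtain ⟨x, hx⟩ := exists_prime_orderOf_dvd_card' 3 h3
  have hQcard : ∀ Q : Sylow 3 G, Nat.card Q = 3 := by
    intro Q
    rw [Sylow.card_eq_multiplicity, h]
    have h24 : Nat.factorization 24 3 = 1 := by
      have h1 : 1 ≤ Nat.factorization 24 3 :=
        (Nat.Prime.pow_dvd_iff_le_factorization Nat.prime_three (by norm_num)).mp (by norm_num)
      have h2 : ¬ 2 ≤ Nat.factorization 24 3 := fun h =>
        absurd ((Nat.Prime.pow_dvd_iff_le_factorization Nat.prime_three (by norm_num)).mpr h)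
          (by norm_num)
      omega
    rw [h24, pow_one]
  have hmod := card_sylow_modEq_one 3 G
  obtain ⟨Q0⟩ : Nonempty (Sylow 3 G) := inferInstance
  have hidx : (Q0 : Subgroup G).index = 8 := by
    have := (Q0 : Subgroup G).card_mul_index
    rw [hQcard, h] at this
    omega
  have hdvd : Nat.card (Sylow 3 G) ∣ 8 := hidx ▸ Q0.card_dvd_index
  have hn : Nat.card (Sylow 3 G) = 4 := by
    have hle := Nat.le_of_dvd (by norm_num) hdvd
    have hpos : 0 < Nat.card (Sylow 3 G) := Nat.card_pos
    have hm : Nat.card (Sylow 3 G) % 3 = 1 := hmod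
    have hcases : Nat.card (Sylow 3 G) = 1 ∨ Nat.card (Sylow 3 G) = 4 := by
      set n := Nat.card (Sylow 3 G)
      interval_cases n <;> simp_all <;> omega
    rcases hcases with h1 | h4
    · exfalso
      -- the Sylow `3`-subgroup is normal
      haveI hsub : Subsingleton (Sylow 3 G) := (Nat.card_eq_one_iff_unique.mp h1).1
      have hnorm := Sylow.normal_of_subsingleton Q0
      have hzp : IsPGroup 3 (zpowers x) := by
        apply IsPGroup.of_card (n := 1)
        rw [Nat.card_zpowers, hx]
        norm_num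
      have hxQ : zpowers x = (Q0 : Subgroup G) := by
        obtain ⟨Q', hQ'⟩ := hzp.exists_le_sylow
        rw [Subsingleton.elim Q' Q0] at hQ'
        apply Subgroup.eq_of_le_of_card_ge hQ'
        rw [hQcard, Nat.card_zpowers, hx]
      have hx3 : x ^ 3 = 1 := by rw [← hx]; exact pow_orderOf_eq_one x
      have hx1 : x ≠ 1 := by
        intro h1
        rw [h1, orderOf_one] at hx
        omega
      have hconj : ∀ g : G, g * x * g⁻¹ = x ∨ g * x * g⁻¹ = x⁻¹ := by
        intro g
        have h5 : g * x * g⁻¹ ∈ zpowers x := by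
          rw [hxQ]
          exact hnorm.conj_mem _ (hxQ ▸ mem_zpowers x) g
        rw [← mem_powers_iff_mem_zpowers] at h5
        obtain ⟨k, hk0⟩ := h5
        have hk : x ^ k = g * x * g⁻¹ := hk0
        rw [pow_eq_pow_mod k hx3] at hk
        have hk3 : k % 3 < 3 := Nat.mod_lt _ (by norm_num)
        have h0 : g * x * g⁻¹ ≠ 1 := by
          intro h1
          rw [mul_inv_eq_one, mul_eq_left] at h1
          exact hx1 h1
        have hinv : x ^ 2 = x⁻¹ := by
          rw [eq_inv_iff_mul_eq_one, ← pow_succ, hx3]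
        set r := k % 3
        interval_cases r
        · exact absurd hk.symm (by rw [pow_zero]; exact h0)
        · left; rw [← hk, pow_one]
        · right; rw [← hk, hinv]
      obtain ⟨t, ht, htc⟩ := exists_commuting_of_conj h hconj
      exact no_commuting h6 hx ht htc
    · exact h4
  let φ := MulAction.toPermHom G (Sylow 3 G)
  have hKnorm : ∀ g ∈ φ.ker, ∀ Q : Sylow 3 G, g ∈ normalizer ((Q : Subgroup G) : Set G) := by
    intro g hg Q
    have h1 : φ g = 1 := hg
    have h2 : g • Q = Q := congrArg (fun p : Equiv.Perm (Sylow 3 G) => p Q) h1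
    exact Sylow.smul_eq_iff_mem_normalizer.mp h2
  have hNcard : Nat.card (normalizer ((Q0 : Subgroup G) : Set G)) = 6 := by
    have h1 : Nat.card (Sylow 3 G) = (normalizer ((Q0 : Subgroup G) : Set G)).index :=
      Q0.card_eq_index_normalizer
    have h2 := (normalizer ((Q0 : Subgroup G) : Set G)).card_mul_index
    rw [← h1, hn, h] at h2
    omega
  have hKdvd : Nat.card φ.ker ∣ 6 := hNcard ▸ Subgroup.card_dvd_of_le (fun g hg => hKnorm g hg Q0)
  have hKbot : φ.ker = ⊥ := by
    by_cases h3K : 3 ∣ Nat.card φ.ker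
    · exfalso
      obtain ⟨y, hy⟩ := exists_prime_orderOf_dvd_card' 3 h3K
      have hyo : orderOf (y : G) = 3 := by rw [Subgroup.orderOf_coe, hy]
      have hzp : IsPGroup 3 (zpowers (y : G)) := by
        apply IsPGroup.of_card (n := 1)
        rw [Nat.card_zpowers, hyo]
        norm_num
      have hall : ∀ Q : Sylow 3 G, zpowers (y : G) = (Q : Subgroup G) := by
        intro Q
        have h1 : (y : G) ∈ zpowers (y : G) ⊓ normalizer ((Q : Subgroup G) : Set G) :=
          ⟨mem_zpowers _, hKnorm _ y.2 Q⟩
        have e : zpowers (y : G) ⊓ normalizer ((Q : Subgroup G) : Set G)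
            = zpowers (y : G) ⊓ (Q : Subgroup G) := hzp.inf_normalizer_sylow Q
        rw [e] at h1
        have hle : zpowers (y : G) ≤ Q := zpowers_le.mpr h1.2
        apply Subgroup.eq_of_le_of_card_ge hle
        rw [hQcard, Nat.card_zpowers, hyo]
      have hss : Subsingleton (Sylow 3 G) := ⟨fun a b => Sylow.ext ((hall a).symm.trans (hall b))⟩
      rw [Nat.card_of_subsingleton Q0] at hn
      omega
    · have h2K : Nat.card φ.ker ∣ 2 := by
        have hc : Nat.Coprime (Nat.card φ.ker) 3 := by
          rw [Nat.coprime_comm, Nat.Prime.coprime_iff_not_dvd Nat.prime_three]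
          exact h3K
        exact hc.dvd_of_dvd_mul_right (by simpa using hKdvd)
      have hle := Nat.le_of_dvd (by norm_num) h2K
      have hpos : 0 < Nat.card φ.ker := Nat.card_pos
      have hcases : Nat.card φ.ker = 1 ∨ Nat.card φ.ker = 2 := by omega
      rcases hcases with h1 | h2
      · exact Subgroup.eq_bot_of_card_eq _ h1
      · exfalso
        obtain ⟨t, ht⟩ := exists_prime_orderOf_dvd_card' 2 (by rw [h2] : 2 ∣ Nat.card φ.ker)
        obtain ⟨u, -, huniq⟩ := (Nat.card_eq_two_iff' (1 : φ.ker)).mp h2
        have ht1 : t ≠ 1 := by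
          intro h1
          rw [h1, orderOf_one] at ht
          omega
        have hmem : x * (t : G) * x⁻¹ ∈ φ.ker := (MonoidHom.normal_ker φ).conj_mem _ t.2 x
        have hne : (⟨x * (t : G) * x⁻¹, hmem⟩ : φ.ker) ≠ 1 := by
          intro h1
          have h3 : x * (t : G) * x⁻¹ = 1 := congrArg Subtype.val h1
          rw [mul_inv_eq_one, mul_eq_left] at h3
          exact ht1 (Subtype.ext h3)
        have e1 := huniq _ hne
        have e2 := huniq _ ht1
        have e3 : x * (t : G) * x⁻¹ = t := congrArg Subtype.val (e1.trans e2.symm)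
        rw [mul_inv_eq_iff_eq_mul] at e3
        exact no_commuting h6 hx (by rw [Subgroup.orderOf_coe, ht]) e3.symm
  have hinj : Function.Injective φ := (MonoidHom.ker_eq_bot_iff φ).mp hKbot
  have hbij : Function.Bijective φ := by
    rw [Nat.bijective_iff_injective_and_card]
    refine ⟨hinj, ?_⟩
    rw [h, Nat.card_perm, hn]
    rfl
  exact ⟨(MulEquiv.ofBijective φ hbij).trans (Equiv.permCongrHom (Finite.equivFinOfCardEq hn))⟩

end Cfsg.Agent.S1012
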