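import Cfsg.Statements.S4501
import Cfsg.Agent.Lib.ThreePQ.Main
import Cfsg.Agent.S0205

set_option autoImplicit false
open Cfsg

namespace Cfsg.Agent.S4501

/-- Let G be a non-abelian finite simple group and p, q distinct primes. If the order of G is 4·p^a·q^b with a ≤ 2, then G is isomorphic to the alternating group of degree 5. If the order of G is 3·p^a·q^b with a ≤ 2, then G is isomorphic to the alternating group of degree 5 or to PSL(2,7). -/
theorem result {G : Type*} [Group G] [Finite G] [IsSimpleGroup G] (hna : ∃ x y : G, x * y ≠ y * x) (p q a b : ℕ) (hp : p.Prime) (hq : q.Prime) (hpq : p ≠ q) (ha : a ≤ 2) : (Nat.card G = 4 * p ^ a * q ^ b → Nonempty (G ≃* alternatingGroup (Fin 5))) ∧ (Nat.card G = 3 * p ^ a * q ^ b → Nonempty (G ≃* alternatingGroup (Fin 5)) ∨ Nonempty (G ≃* Matrix.ProjectiveSpecialLinearGroup (Fin 2) (ZMod 7))) := by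
  classical
  refine ⟨fun hG => Cfsg.Agent.Lib.ThreePQ.part_A hna hp hq hpq hG, fun hG => ?_⟩
  have hp3 : p ≠ 3 := by
    rintro rfl
    exact (Cfsg.Agent.Lib.ThreePQ.two_primes_false hna hp hq (x := a + 1) (y := b) (by rw [hG]; ring)).elim
  have hq3 : q ≠ 3 := by
    rintro rfl
    exact (Cfsg.Agent.Lib.ThreePQ.two_primes_false hna hp hq (x := a) (y := b + 1) (by rw [hG]; ring)).elim
  have ha0 : a ≠ 0 := by
    rintro rfl
    exact (Cfsg.Agent.Lib.ThreePQ.two_primes_false hna Nat.prime_three hq (x := 1) (y := b)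
      (by rw [hG]; ring)).elim
  have hb0 : b ≠ 0 := by
    rintro rfl
    exact (Cfsg.Agent.Lib.ThreePQ.two_primes_false hna Nat.prime_three hp (x := 1) (y := a)
      (by rw [hG]; ring)).elim
  have hfive : ∀ r : ℕ, r.Prime → r ≠ 2 → r ≠ 3 → 5 ≤ r := by
    intro r hr h2 h3
    have h4 := hr.two_le
    by_contra hlt
    have h5 : r = 4 := by omega
    subst h5
    norm_num at hr
  by_cases hq2 : q = 2
  · subst hq2
    exact Cfsg.Agent.Lib.ThreePQ.part_B hna hp (hfive p hp hpq hp3) (by omega) ha hG
  by_cases hp2 : p = 2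
  · subst hp2
    have hqodd : Odd q := hq.odd_of_ne_two hq2
    have hcases : a = 1 ∨ a = 2 := by omega
    rcases hcases with rfl | rfl
    · exfalso
      have hcomm : ¬ IsMulCommutative G := by
        intro h
        obtain ⟨x, y, hxy⟩ := hna
        exact hxy (h.is_comm.comm x y)
      obtain ⟨k, hk⟩ : Odd (q ^ b) := hqodd.pow
      have hcard : Nat.card G = 6 * (2 * k + 1) := by
        rw [hG, hk]
        ring
      haveI : Fact (Nat.Prime 2) := ⟨Nat.prime_two⟩
      have h2 : Even (Nat.card G) := by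
        rw [hcard]
        exact ⟨3 * (2 * k + 1), by ring⟩
      have h8 : ¬ 8 ∣ Nat.card G := by
        rw [hcard]
        omega
      let T : Sylow 2 G := default
      obtain ⟨hT, -⟩ := Cfsg.Agent.S0992.result hcomm h2 h8 T
      have h4 : Nat.card (T : Subgroup G) = 4 := IsKleinFour.card_four
      have h5 : Nat.card (T : Subgroup G) ∣ Nat.card G := Subgroup.card_subgroup_dvd_card _
      rw [h4, hcard] at h5
      omega
    · left
      exact Cfsg.Agent.Lib.ThreePQ.part_A hna Nat.prime_three hq (Ne.symm hq3) (a := 1) (b := b) (by rw [hG]; ring)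
  · exfalso
    have hodd : Odd (Nat.card G) := by
      rw [hG]
      exact ((by norm_num : Odd 3).mul (hp.odd_of_ne_two hp2).pow).mul (hq.odd_of_ne_two hq2).pow
    have hsol := Cfsg.Agent.S0205.result hodd
    obtain ⟨x, y, hxy⟩ := hna
    exact hxy ((IsSimpleGroup.comm_iff_isSolvable (G := G)).2 hsol x y)

end Cfsg.Agent.S4501
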