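import Cfsg.Statements.S2202
import Cfsg.Agent.Lib.Coprime.InvAb.Main
import Cfsg.Agent.Lib.PGroup.CyclicMax2

set_option autoImplicit false
set_option linter.style.haveILetI false
set_option linter.unusedSectionVars false
open Cfsg

namespace Cfsg.Agent.S2202

open Cfsg.Agent.Lib.Coprime.InvAb

section aux

universe u

variable {G : Type u} [Group G] [Finite G]

private theorem aci_of (h : ∀ t : G, orderOf t = 2 → IsMulCommutative ↥(Subgroup.centralizer ({t} : Set G))) :
    ACI G := by
  intro t a b ht ha hb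
  haveI := h t (orderOf_of_invo ht)
  have ha' : a ∈ Subgroup.centralizer ({t} : Set G) :=
    Subgroup.mem_centralizer_singleton_iff.2 ha
  have hb' : b ∈ Subgroup.centralizer ({t} : Set G) :=
    Subgroup.mem_centralizer_singleton_iff.2 hb
  have := IsMulCommutative.is_comm.comm (⟨a, ha'⟩ : Subgroup.centralizer ({t} : Set G)) ⟨b, hb'⟩
  exact congrArg Subtype.val this

/-- A nontrivial subgroup of `2`-power order has a central involution. -/
private theorem exists_central_invo (Q : Subgroup G) (hQ : IsPGroup 2 Q) (hne : Q ≠ ⊥) :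
    ∃ t ∈ Q, Invo t ∧ ∀ q ∈ Q, Commute q t := by
  haveI : Fact (Nat.Prime 2) := ⟨Nat.prime_two⟩
  haveI : Nontrivial Q := (Subgroup.nontrivial_iff_ne_bot Q).2 hne
  have hc := hQ.center_nontrivial
  have hpc : IsPGroup 2 (Subgroup.center Q) := hQ.to_subgroup _
  have h2 : 2 ∣ Nat.card (Subgroup.center Q) := by
    rcases hpc.card_eq_or_dvd with h | h
    · exact absurd h Finite.one_lt_card.ne'
    · exact h
  obtain ⟨t, ht⟩ := exists_prime_orderOf_dvd_card' (G := Subgroup.center Q) 2 h2
  have ht1 : orderOf ((t : Q) : G) = 2 := by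
    rw [← ht, Subgroup.orderOf_coe, Subgroup.orderOf_coe]
  refine ⟨_, (t : Q).2, invo_of_orderOf ht1, fun q hq => ?_⟩
  have h3 := (Subgroup.mem_center_iff.1 t.2) ⟨q, hq⟩
  exact congrArg Subtype.val h3

private theorem two_commuting (hG : ACI G) (P : Sylow 2 G) (hP : ¬ IsCyclic P) :
    ∃ s t : G, Invo s ∧ Invo t ∧ s ≠ t ∧ Commute s t := by
  by_contra hcon
  push Not at hcon
  haveI : Fact (Nat.Prime 2) := ⟨Nat.prime_two⟩
  apply hP
  have hne : (P : Subgroup G) ≠ ⊥ := by
    intro h
    apply hP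
    rw [h]
    infer_instance
  obtain ⟨t, ht, hti, hcen⟩ := exists_central_invo (P : Subgroup G) P.2 hne
  have hcomm : ∀ x y : (P : Subgroup G), x * y = y * x := fun x y =>
    Subtype.ext (hG t x y hti (hcen _ x.2) (hcen _ y.2))
  apply Cfsg.Agent.Lib.PGroup.CyclicMax2.isCyclic_of_comm_uniqueP hcomm P.2
  intro y z hy hz hy1 hz1
  have hyi : Invo y := ⟨hy1, by rw [← pow_two, hy]⟩
  have hzi : Invo z := ⟨hz1, by rw [← pow_two, hz]⟩
  by_cases hyz : (y : G) = z
  · have : y = z := Subtype.ext hyz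
    rw [this]
    exact Subgroup.mem_zpowers z
  · exact absurd (congrArg Subtype.val (hcomm y z)) (hcon y z (invo_coe.1 hyi) (invo_coe.1 hzi) hyz)

private theorem two_noncommuting (hG : ACI G) (Q : Sylow 2 G) (hQ : ¬ (Q : Subgroup G).Normal) :
    ∃ a b : G, Invo a ∧ Invo b ∧ ¬ Commute a b := by
  by_contra hcon
  push Not at hcon
  haveI : Fact (Nat.Prime 2) := ⟨Nat.prime_two⟩
  apply hQ
  have hne : (Q : Subgroup G) ≠ ⊥ := by
    intro h
    apply hQ
    rw [h]
    infer_instance
  obtain ⟨t, ht, hti, hcen⟩ := exists_central_invo (Q : Subgroup G) Q.2 hne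
  refine ⟨fun n hn g => ?_⟩
  -- the conjugate of `Q`
  let Q' : Subgroup G := (Q : Subgroup G).map (MulAut.conj g).toMonoidHom
  have hQ' : IsPGroup 2 Q' := Q.2.map _
  have hmem : g * n * g⁻¹ ∈ Q' := ⟨n, hn, rfl⟩
  have hcomm : Commute (g * n * g⁻¹) (g * t * g⁻¹) := comm_conj (hcen n hn) g
  have hut : Commute (g * t * g⁻¹) t := hcon _ _ (hti.conj g) hti
  have hct : Commute (g * n * g⁻¹) t := hG _ _ _ (hti.conj g) hcomm hut.symm
  have hcq : ∀ q ∈ (Q : Subgroup G), Commute (g * n * g⁻¹) q := fun q hq =>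
    hG t _ _ hti hct (hcen q hq)
  have hnorm : g * n * g⁻¹ ∈ Subgroup.normalizer (Q : Set G) := by
    apply Subgroup.centralizer_le_normalizer
    rw [Subgroup.mem_centralizer_iff]
    intro q hq
    exact (hcq q hq).symm
  have h5 := hQ'.inf_normalizer_sylow Q
  have h6 : g * n * g⁻¹ ∈ Q' ⊓ Subgroup.normalizer (Q : Set G) := ⟨hmem, hnorm⟩
  rw [h5] at h6
  exact h6.2

end aux

/-- Finite groups in which the centralizer of every involution is abelian. Let G be a finite group of even order in which the centralizer of every element of order 2 is abelian. Then the Sylow 2-subgroups of G are cyclic, or a Sylow 2-subgroup of G is normal, or G is isomorphic to the direct product of SL₂(F) for a finite field F of characteristic two and an abelian group of odd order. -/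
theorem result {G : Type*} [Group G] [Finite G] (heven : Even (Nat.card G)) (h : ∀ t : G, orderOf t = 2 → IsMulCommutative ↥(Subgroup.centralizer ({t} : Set G))) :
    (∀ P : Sylow 2 G, IsCyclic ↥P) ∨ (∀ P : Sylow 2 G, (P : Subgroup G).Normal) ∨
    (∃ (F : Type) (_ : Field F) (_ : Fintype F) (A : Type) (_ : CommGroup A) (_ : Finite A), CharP F 2 ∧ Odd (Nat.card A) ∧ Nonempty (G ≃* Matrix.SpecialLinearGroup (Fin 2) F × A)) := by
  have hG : ACI G := aci_of h
  by_cases h1 : ∀ P : Sylow 2 G, IsCyclic ↥P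
  · exact Or.inl h1
  by_cases h2 : ∀ P : Sylow 2 G, (P : Subgroup G).Normal
  · exact Or.inr (Or.inl h2)
  push Not at h1 h2
  obtain ⟨P, hP⟩ := h1
  obtain ⟨Q, hQ⟩ := h2
  obtain ⟨s, t, hs, ht, hst, hc⟩ := two_commuting hG P hP
  obtain ⟨a, b, ha, hb, hab⟩ := two_noncommuting hG Q hQ
  exact Or.inr (Or.inr (main_aci hG ha hb hab hs ht hst hc))

end Cfsg.Agent.S2202
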