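import Cfsg.Statements.S3762
import Mathlib
import Cfsg.Agent.Lib.PGroup.SympHall

set_option autoImplicit false
open Cfsg

namespace Cfsg.Agent.S3762

open Subgroup Cfsg.Agent.Lib.PGroup.SympHall
open scoped commutatorElement

theorem comm_of_card_le_four {R : Type*} [Group R] [Finite R] (hc : ∃ n, Nat.card R = 2 ^ n ∧ n ≤ 2) :
    IsMulCommutative R := by
  haveI hp2 : Fact (Nat.Prime 2) := ⟨Nat.prime_two⟩
  obtain ⟨n, hn, hn2⟩ := hc
  interval_cases n
  · haveI : Subsingleton R := (Nat.card_eq_one_iff_unique.mp (by simpa using hn)).1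
    exact ⟨⟨fun a b => Subsingleton.elim _ _⟩⟩
  · haveI : IsCyclic R := isCyclic_of_prime_card (p := 2) (by simpa using hn)
    exact IsCyclic.isMulCommutative
  · exact IsPGroup.isMulCommutative_of_card_eq_prime_sq (p := 2) hn

theorem finish_two {G : Type*} [Group G] [Finite G] [Fact (Nat.Prime 2)] (hG : IsPGroup 2 G)
    {E R Z : Subgroup G} {z : G} (hsup : E ⊔ R = ⊤) (hcER : ∀ e ∈ E, ∀ r ∈ R, e * r = r * e)
    (hE : E = ⊥ ∨ Cfsg.IsExtraspecial 2 ↥E)
    (hZR : Z ≤ R) (hCR : R ⊓ centralizer (Z : Set G) = Z) (hcard : Nat.card R = 2 * Nat.card Z)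
    (hna : ¬ IsMulCommutative R)
    (hd : (∃ m : ℕ, Nonempty (↥R ≃* DihedralGroup m)) ∨ (∃ m : ℕ, Nonempty (↥R ≃* QuaternionGroup m)) ∨
        Cfsg.IsQuasiDihedral ↥R)
    (hz : z ∈ Z) (hz2 : z ^ 2 = 1) (hz1 : z ≠ 1) (hzc : z ∈ center G)
    (hZW : ∀ w ∈ Z, w ^ 2 = 1 → w ∈ zpowers z)
    (hEsq : ∀ e ∈ E, e ^ 2 ∈ zpowers z)
    (hEc : ∀ e ∈ E, (∀ x ∈ E, x * e = e * x) → e ∈ zpowers z) :
    ∃ E R : Subgroup G, (∀ e ∈ E, ∀ r ∈ R, e * r = r * e) ∧ E ⊔ R = ⊤ ∧ (E = ⊥ ∨ Cfsg.IsExtraspecial 2 ↥E) ∧ (IsCyclic R ∨ (2 = 2 ∧ 16 ≤ Nat.card R ∧ ((∃ m : ℕ, Nonempty (↥R ≃* DihedralGroup m)) ∨ (∃ m : ℕ, Nonempty (↥R ≃* QuaternionGroup m)) ∨ Cfsg.IsQuasiDihedral ↥R))) := by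
  by_cases h16 : 16 ≤ Nat.card R
  · exact ⟨E, R, hcER, hsup, hE, Or.inr ⟨rfl, h16, hd⟩⟩
  obtain ⟨n, hn⟩ := IsPGroup.iff_card.mp (hG.to_subgroup R)
  have hn3 : n = 3 := by
    by_contra hne
    have hn4 : n ≠ 4 + (n - 4) := by
      intro h
      rw [h, pow_add] at hn
      have : 0 < 2 ^ (n - 4) := by positivity
      omega
    have hle : n ≤ 2 := by omega
    exact hna (comm_of_card_le_four ⟨n, hn, hle⟩)
  subst hn3
  have hZ4 : Nat.card Z = 4 := by omega
  have h8 := final_eight hG hsup hcER hZR hCR hZ4 (by omega) hz hz2 hz1 hzc hZW hEsq hEc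
  refine ⟨⊤, ⊥, ?_, top_sup_eq _, Or.inr h8, Or.inl inferInstance⟩
  intro e _ r hr
  rw [Subgroup.mem_bot.mp hr]; simp


/-- Let G be a finite p-group of symplectic type: every characteristic abelian subgroup of G is cyclic. Then G = E ∗ R is a central product of subgroups E and R (they commute elementwise and generate G) where E is extraspecial or trivial, and R is cyclic, or p = 2 and R is dihedral, semidihedral or generalized quaternion of order at least 16. -/
theorem result {G : Type*} [Group G] [Finite G] {p : ℕ} [Fact p.Prime] (hG : IsPGroup p G) (hsymp : ∀ A : Subgroup G, A.Characteristic → IsMulCommutative A → IsCyclic A) : ∃ E R : Subgroup G, (∀ e ∈ E, ∀ r ∈ R, e * r = r * e) ∧ E ⊔ R = ⊤ ∧ (E = ⊥ ∨ Cfsg.IsExtraspecial p ↥E) ∧ (IsCyclic R ∨ (p = 2 ∧ 16 ≤ Nat.card R ∧ ((∃ m : ℕ, Nonempty (↥R ≃* DihedralGroup m)) ∨ (∃ m : ℕ, Nonempty (↥R ≃* QuaternionGroup m)) ∨ Cfsg.IsQuasiDihedral ↥R))) := by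
  classical
  obtain ⟨H, hHc, hH1, hH2, hH3⟩ := Cfsg.Agent.Lib.PGroup.Critical.exists_critical hG
  obtain ⟨Z, hZdef⟩ : ∃ Z, Z = H ⊓ Subgroup.centralizer (H : Set G) := ⟨_, rfl⟩
  have hZchar : Z.Characteristic := by
    rw [hZdef]; exact char_inf hHc (char_centralizer hHc)
  haveI : Z.Characteristic := hZchar
  haveI hZnorm : Z.Normal := inferInstance
  have hZH : Z ≤ H := by rw [hZdef]; exact inf_le_left
  have hZC : ∀ w ∈ Z, ∀ x ∈ H, x * w = w * x := by
    intro w hw x hx
    rw [hZdef] at hw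
    exact mem_centralizer_iff.mp (Subgroup.mem_inf.mp hw).2 x hx
  have hZab : IsMulCommutative Z :=
    ⟨⟨fun a b => Subtype.ext (hZC b b.2 a (hZH a.2))⟩⟩
  have hZcyc : IsCyclic Z := hsymp Z hZchar hZab
  have hpow : ∀ x ∈ H, x ^ p ∈ Z := by
    intro x hx
    have h1 := Cfsg.Agent.Lib.PGroup.Basic.pow_mem_frattini (hG.to_subgroup H) ⟨x, hx⟩
    have h2 : x ^ p ∈ Subgroup.centralizer (H : Set G) := by
      have := hH1 ⟨_, h1, rfl⟩
      simpa using this
    rw [hZdef]
    exact Subgroup.mem_inf.mpr ⟨pow_mem hx p, h2⟩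
  have hcomm : ∀ x ∈ H, ∀ g : G, ⁅x, g⁆ ∈ Z := by
    intro x hx g
    rw [hZdef]
    exact hH2 (Subgroup.commutator_mem_commutator hx (Subgroup.mem_top g))
  by_cases hab : ∀ a ∈ H, ∀ b ∈ H, ⁅a, b⁆ = 1
  · -- the critical subgroup is abelian
    have hHle : H ≤ Subgroup.centralizer (H : Set G) := by
      intro a ha
      rw [mem_centralizer_iff]
      intro b hb
      have := hab a ha b hb
      rw [commutatorElement_eq_one_iff_mul_comm] at this
      exact this.symm
    have hHZ : Z = H := by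
      rw [hZdef]
      exact inf_eq_left.mpr hHle
    have hCeq : Subgroup.centralizer (H : Set G) = H := le_antisymm hH3 hHle
    have hCR : (⊤ : Subgroup G) ⊓ Subgroup.centralizer (Z : Set G) = Z := by
      rw [top_inf_eq, hHZ, hCeq]
    rcases trichotomy hG ⊤ Z le_top (fun r _ w hw => hZnorm.conj_mem w hw r) hZcyc hCR with
      hRZ | ⟨hp2, hcard, hna, hd⟩ | ⟨hT, hcard⟩
    · refine ⟨⊥, ⊤, ?_, bot_sup_eq _, Or.inl rfl, Or.inl (by rw [hRZ]; exact hZcyc)⟩
      intro e he r _
      rw [Subgroup.mem_bot.mp he]; simp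
    · subst hp2
      have hZ2 : 2 ∣ Nat.card Z := by
        obtain ⟨n, hn⟩ := IsPGroup.iff_card.mp (hG.to_subgroup Z)
        rcases Nat.eq_zero_or_pos n with rfl | hpos
        · exfalso
          apply hna
          rw [hn] at hcard
          exact comm_of_card_le_four ⟨1, by simpa using hcard, by norm_num⟩
        · rw [hn]
          exact dvd_pow_self 2 hpos.ne'
      obtain ⟨z', hz'⟩ := exists_prime_orderOf_dvd_card' (G := Z) 2 hZ2
      have hz2 : (z' : G) ^ 2 = 1 := by
        have h1 := pow_orderOf_eq_one z'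
        rw [hz'] at h1
        simpa using congrArg Subtype.val h1
      have hz1 : (z' : G) ≠ 1 := by
        intro h
        have h1 : z' = 1 := Subtype.ext h
        rw [h1, orderOf_one] at hz'
        norm_num at hz'
      exact finish_two hG (bot_sup_eq _) (by
          intro e he r _
          rw [Subgroup.mem_bot.mp he]; simp) (Or.inl rfl) le_top hCR hcard hna hd z'.2 hz2 hz1
        (central_of_cyclic_normal hG Z hZcyc z'.2 hz2 hz1)
        (fun w hw hw2 => mem_zpowers_of_cyclic hZcyc hw z'.2 hw2 hz2 hz1)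
        (by
          intro e he
          rw [Subgroup.mem_bot.mp he]; simp)
        (by
          intro e he _
          rw [Subgroup.mem_bot.mp he]; exact one_mem _)
    · exfalso
      have hM : ((⊤ : Subgroup G) ⊓ Subgroup.centralizer (Cfsg.powerClosure p 1 Z : Set G)).Characteristic := by
        rw [top_inf_eq]
        exact char_centralizer (char_powerClosure hZchar)
      exact not_isCyclic_of_elem hT.2 hcard (hsymp _ (char_omegaOne hM) hT.1)
  · push Not at hab
    obtain ⟨a, ha, b, hb, hz1⟩ := hab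
    obtain ⟨z, hzdef⟩ : ∃ z, z = ⁅a, b⁆ := ⟨_, rfl⟩
    rw [← hzdef] at hz1
    have hzZ : z ∈ Z := by rw [hzdef]; exact hcomm a ha b
    have hcp : ∀ x ∈ H, ∀ y ∈ H, ⁅x, y⁆ ^ p = 1 := by
      intro x hx y hy
      have h1 : Commute x ⁅x, y⁆ := hZC _ (hcomm x hx y) x hx
      rw [← Cfsg.Agent.Lib.PGroup.Basic.commutator_pow_left h1, commutatorElement_eq_one_iff_mul_comm]
      exact (hZC _ (hpow x hx) y hy).symm
    have hzp : z ^ p = 1 := by rw [hzdef]; exact hcp a ha b hb
    have hZW : ∀ w ∈ Z, w ^ p = 1 → w ∈ zpowers z := fun w hw hwp =>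
      mem_zpowers_of_cyclic hZcyc hw hzZ hwp hzp hz1
    have hcrit : CritData p H Z z :=
      { hZ := hZdef
        hpow := hpow
        hcomm := hcomm
        hz := hzZ
        hzp := hzp
        hz1 := hz1
        hZW := hZW
        hcc := fun x hx y hy => hZW _ (hcomm x hx y) (hcp x hx y hy)
        hzc := central_of_cyclic_normal hG Z hZcyc hzZ hzp hz1 }
    have hna : ∃ a ∈ H, ∃ b ∈ H, ⁅a, b⁆ ≠ 1 := ⟨a, ha, b, hb, by rw [← hzdef]; exact hz1⟩
    by_cases hv : ∃ v ∈ Z, z = v ^ p
    · obtain ⟨v, hvZ, hvp⟩ := hv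
      have hall := hall_powers hG hsymp hcrit hHc hvZ hvp
      obtain ⟨E, hEH, hEcl, hWE, hEZ, hdec⟩ := exists_E hcrit hall
      obtain ⟨hExt, hEG, hcen⟩ := E_props hG hcrit hEH hEcl hWE hEZ hdec hna
      have hsup := sup_centralizer_eq_top E hExt (zpowers z) hWE hcen hcrit.W_center hEG
      have hcER : ∀ e ∈ E, ∀ r ∈ Subgroup.centralizer (E : Set G), e * r = r * e :=
        fun e he r hr => mem_centralizer_iff.mp hr e he
      have hZR : Z ≤ Subgroup.centralizer (E : Set G) := by
        intro w hw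
        rw [mem_centralizer_iff]
        intro e he
        exact hZC w hw e (hEH he)
      have hCR : Subgroup.centralizer (E : Set G) ⊓ Subgroup.centralizer (Z : Set G) = Z := by
        apply le_antisymm
        · intro x hx
          obtain ⟨hx1, hx2⟩ := Subgroup.mem_inf.mp hx
          have hxC : x ∈ Subgroup.centralizer (H : Set G) := by
            rw [mem_centralizer_iff]
            intro y hy
            obtain ⟨e, he, w, hw, rfl⟩ := hdec y hy
            have h1 : e * x = x * e := mem_centralizer_iff.mp hx1 e he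
            have h2 : w * x = x * w := mem_centralizer_iff.mp hx2 w hw
            rw [mul_assoc, h2, ← mul_assoc, h1, mul_assoc]
          rw [hZdef]
          exact Subgroup.mem_inf.mpr ⟨hH3 hxC, hxC⟩
        · refine le_inf hZR ?_
          intro w hw
          rw [mem_centralizer_iff]
          intro u hu
          exact hZC w hw u (hZH hu)
      rcases trichotomy hG _ Z hZR (fun r _ w hw => hZnorm.conj_mem w hw r) hZcyc hCR with
        hRZ | ⟨hp2, hcard, hna', hd⟩ | ⟨hT, hcard⟩
      · exact ⟨E, _, hcER, hsup, Or.inr hExt, Or.inl (by rw [hRZ]; exact hZcyc)⟩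
      · subst hp2
        refine finish_two hG hsup hcER (Or.inr hExt) hZR hCR hcard hna' hd hzZ hzp hz1 hcrit.hzc hZW ?_ ?_
        · intro e he
          exact hEZ (Subgroup.mem_inf.mpr ⟨pow_mem he 2, hpow e (hEH he)⟩)
        · intro e he hc
          refine (hcen ⟨e, he⟩).mp ?_
          rw [mem_center_iff]
          intro g
          exact Subtype.ext (hc g g.2)
      · exfalso
        have hEΩ : E ≤ Cfsg.omegaOne p H := by
          conv_lhs => rw [← hEcl]
          exact closure_mono (fun x hx => ⟨hEH hx.1, hx.2⟩)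
        by_cases hp2 : p = 2
        · subst hp2
          by_cases hZ4 : Nat.card Z ∣ 2 ^ 2
          · exact third_four hZR (fun r _ w hw => hZnorm.conj_mem w hw r) hCR hZ4 hzp hcrit.hzc hZW hZcyc hT hcard
          · have hM := M_char hHc hZchar (omega_le_big hcrit hG hZcyc hZ4 hEH hEZ hdec) hEΩ
            exact not_isCyclic_of_elem hT.2 hcard (hsymp _ (char_omegaOne hM) hT.1)
        · have hM := M_char hHc hZchar (omega_le_odd hp2 hcrit hEH hEcl hWE hdec) hEΩ
          exact not_isCyclic_of_elem hT.2 hcard (hsymp _ (char_omegaOne hM) hT.1)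
    · -- `Z = ⟨z⟩`: the critical subgroup is extraspecial and equal to `G`
      have hZle : Z ≤ zpowers z := by
        intro u hu
        obtain ⟨k, hk⟩ := exists_pow_of_not_pow hZcyc (hG.to_subgroup Z) hzZ hv hu
        rw [hk]
        exact pow_mem (mem_zpowers z) k
      have hWH : zpowers z ≤ H := hcrit.W_le.trans hZH
      have hcen : ∀ x : H, x ∈ Subgroup.center H ↔ (x : G) ∈ zpowers z := by
        intro x
        rw [hcrit.mem_center]
        exact ⟨fun h => hZle h, fun h => hcrit.W_le h⟩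
      have hExt : Cfsg.IsExtraspecial p ↥H := by
        refine isExtraspecial_of (hG.to_subgroup H) ((zpowers z).subgroupOf H) ?_ ?_ ?_ ?_ ?_ ?_
        · rw [← hcrit.card_W]
          exact Nat.card_congr (subgroupOfEquivOfLe hWH).toEquiv
        · intro x hx
          exact Subgroup.mem_subgroupOf.mpr ((hcen x).mp hx)
        · intro x hx
          exact (hcen x).mpr (Subgroup.mem_subgroupOf.mp hx)
        · intro x
          exact Subgroup.mem_subgroupOf.mpr (hZle (hpow _ x.2))
        · intro x y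
          exact Subgroup.mem_subgroupOf.mpr (hcrit.hcc _ x.2 _ y.2)
        · refine ⟨⟨a, ha⟩, ⟨b, hb⟩, ?_⟩
          intro h
          apply hz1
          rw [hzdef]
          exact congrArg Subtype.val h
      have hsup := sup_centralizer_eq_top H hExt (zpowers z) hWH hcen hcrit.W_center (by
        intro g x hx
        rw [← commutatorElement_inv]
        exact inv_mem (hZle (hcomm x hx g)))
      refine ⟨H, ⊥, ?_, ?_, Or.inr hExt, Or.inl inferInstance⟩
      · intro e _ r hr
        rw [Subgroup.mem_bot.mp hr]; simp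
      · rw [sup_bot_eq]
        rwa [sup_eq_left.mpr hH3] at hsup

end Cfsg.Agent.S3762
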