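import Cfsg.Statements.S0514
import Cfsg.Agent.Lib.Transfer.Basic
import Cfsg.Agent.Lib.Transfer.Frobenius
import Cfsg.Agent.Lib.Transfer.WellPlaced
import Cfsg.Agent.Lib.Transfer.OmegaTwo
import Cfsg.Agent.Lib.PGroup.Critical
import Cfsg.Agent.Lib.PGroup.OddAut
import Cfsg.Agent.Lib.Coprime.OmegaOne

set_option autoImplicit false
open Cfsg

namespace Cfsg.Agent.S0514

open Subgroup
open Cfsg.Agent.Lib.Transfer.Basic Cfsg.Agent.Lib.Transfer.Frobenius
open Cfsg.Agent.Lib.Transfer.WellPlaced
open Cfsg.Agent.Lib.Coprime.OmegaOne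

/-- The cardinality of a subgroup of exponent two of a group with a cyclic "index two" subgroup. -/
theorem card_le_four {X : Type*} [Group X] [Finite X] (A : Subgroup X) (hcyc : IsCyclic A)
    (K : Subgroup X) (hsq : ∀ x ∈ K, x ^ 2 = 1)
    (hprod : ∀ s ∈ K, ∀ s' ∈ K, s ∉ A → s' ∉ A → s * s' ∈ A) : Nat.card K ≤ 4 := by
  set C : Subgroup X := A ⊓ K with hC
  haveI : IsCyclic C := isCyclic_of_injective (Subgroup.inclusion (inf_le_left : C ≤ A))
    (Subgroup.inclusion_injective _)
  have h1 : Nat.card C ≤ 2 := by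
    have h2 : Monoid.exponent C ∣ 2 := Monoid.exponent_dvd_of_forall_pow_eq_one (fun x => by
      apply Subtype.ext
      simpa using hsq x x.2.2)
    rw [IsCyclic.exponent_eq_card] at h2
    exact Nat.le_of_dvd (by norm_num) h2
  have h3 : A.relIndex K ≤ 2 := by
    by_cases hall : K ≤ A
    · rw [Subgroup.relIndex_eq_one.mpr hall]; norm_num
    · obtain ⟨a, haK, haA⟩ := SetLike.not_le_iff_exists.mp hall
      apply le_of_eq
      show (A.subgroupOf K).index = 2
      rw [Subgroup.index_eq_two_iff]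
      refine ⟨⟨a, haK⟩, ?_⟩
      rintro ⟨b, hbK⟩
      simp only [Subgroup.mem_subgroupOf, MulMemClass.mk_mul_mk]
      by_cases hb : b ∈ A
      · refine Or.inr ⟨hb, fun h => haA ?_⟩
        have := A.mul_mem (A.inv_mem hb) h
        simpa using this
      · exact Or.inl ⟨hprod b hbK a haK hb haA, hb⟩
  have h4 : Nat.card K = Nat.card C * C.relIndex K :=
    Cfsg.Agent.Lib.PGroup.Critical.card_eq_mul_relIndex inf_le_right
  rw [h4, hC, Subgroup.inf_relIndex_right]
  exact Nat.mul_le_mul h1 h3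

/-- The case where the subgroup meets the cyclic part in an element with nontrivial square. -/
theorem lemma_case1 {X : Type*} [Group X] [Finite X] (S A : Subgroup X) (hS2 : IsPGroup 2 S)
    (hinv : ∀ s ∈ S, s ∉ A → s ^ 2 = 1)
    (hprod : ∀ s ∈ S, ∀ s' ∈ S, s ∉ A → s' ∉ A → s * s' ∈ A) (hcyc : IsCyclic A)
    (Q : Subgroup X) (hQS : Q ≤ S)
    (g : X) (hgQ : g ∈ normalizer (Q : Set X)) (hg : Odd (orderOf g))
    (hcase : ∃ y ∈ Q, y ∈ A ∧ y ^ 2 ≠ 1) :
    ∀ q ∈ Q, g * q * g⁻¹ = q := by
  haveI : Fact (Nat.Prime 2) := ⟨Nat.prime_two⟩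
  have hσQ : ∀ q ∈ Q, g * q * g⁻¹ ∈ Q := fun q hq => (mem_normalizer_iff.mp hgQ q).mp hq
  have hQ2 : IsPGroup 2 Q := hS2.to_le hQS
  obtain ⟨y, hyQ, hyA, hy2⟩ := hcase
  set B : Subgroup X := Q ⊓ A with hB
  haveI : IsCyclic B := isCyclic_of_injective (Subgroup.inclusion (inf_le_right : B ≤ A))
    (Subgroup.inclusion_injective _)
  obtain ⟨⟨b, hbB⟩, hb⟩ := IsCyclic.exists_generator (α := B)
  have hpowB : ∀ h ∈ B, ∃ k : ℤ, h = b ^ k := by
    intro h hh
    obtain ⟨k, hk⟩ := mem_zpowers_iff.mp (hb ⟨h, hh⟩)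
    refine ⟨k, ?_⟩
    have := congrArg Subtype.val hk
    simpa using this.symm
  have hb2 : b ^ 2 ≠ 1 := by
    intro h
    obtain ⟨k, hk⟩ := hpowB y ⟨hyQ, hyA⟩
    apply hy2
    rw [hk, ← zpow_natCast, ← zpow_mul, mul_comm, zpow_mul, zpow_natCast, h, one_zpow]
  have hσb : g * b * g⁻¹ ∈ B := by
    refine ⟨hσQ b hbB.1, ?_⟩
    by_contra hn
    have h1 := hinv _ (hQS (hσQ b hbB.1)) hn
    rw [conj_pow] at h1
    apply hb2
    have h2 : g⁻¹ * (g * b ^ 2 * g⁻¹) * g = g⁻¹ * 1 * g := by rw [h1]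
    simpa [mul_assoc] using h2
  have hσB : ∀ h ∈ B, g * h * g⁻¹ ∈ B := by
    intro h hh
    obtain ⟨k, rfl⟩ := hpowB h hh
    rw [← conj_zpow]
    exact B.zpow_mem hσb k
  have hgB : g ∈ normalizer (B : Set X) := mem_normalizer_of_conj_mem hσB
  have hfixB : ∀ h ∈ B, g * h * g⁻¹ = h := by
    have h1 : conjAut B g hgB = 1 := by
      refine Cfsg.Agent.Lib.PGroup.OddAut.eq_one_of_isCyclic (hQ2.to_le inf_le_left) _ hg ?_
      exact orderOf_dvd_iff_pow_eq_one.mp (orderOf_conjAut_dvd B g hgB)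
    intro h hh
    have h2 := congrArg (fun φ : MulAut B => ((φ ⟨h, hh⟩ : B) : X)) h1
    simpa only [conjAut_apply_coe, MulAut.one_apply] using h2
  have ha : Nat.Coprime (orderOf (conjAut Q g hgQ)) 2 :=
    Nat.Coprime.coprime_dvd_left (orderOf_conjAut_dvd Q g hgQ) hg.coprime_two_right
  intro u hu
  by_cases huA : u ∈ A
  · exact hfixB u ⟨hu, huA⟩
  · have hσu : g * u * g⁻¹ ∉ A := by
      intro hc
      have h1 := hfixB _ ⟨hσQ u hu, hc⟩
      have h2 : g * u * g⁻¹ = u := by
        have h3 : g⁻¹ * (g * (g * u * g⁻¹) * g⁻¹) * g = g⁻¹ * (g * u * g⁻¹) * g := by rw [h1]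
        simpa [mul_assoc] using h3
      exact huA (h2 ▸ hc)
    have huinv : u⁻¹ ∉ A := fun h => huA (by simpa using A.inv_mem h)
    have hw : u⁻¹ * (g * u * g⁻¹) ∈ B :=
      ⟨Q.mul_mem (Q.inv_mem hu) (hσQ u hu),
        hprod _ (S.inv_mem (hQS hu)) _ (hQS (hσQ u hu)) huinv hσu⟩
    have h5 := Cfsg.Agent.Lib.PGroup.Critical.eq_of_fixed_diff hQ2 (conjAut Q g hgQ) ha ⟨u, hu⟩ (by
      apply Subtype.ext
      exact hfixB _ hw)
    exact congrArg Subtype.val h5

/-- Main local lemma. -/
theorem lemma_A {X : Type*} [Group X] [Finite X] (S A : Subgroup X) (hS2 : IsPGroup 2 S)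
    (hle : A ≤ S) (hcyc : IsCyclic A) (hinv : ∀ s ∈ S, s ∉ A → s ^ 2 = 1)
    (hprod : ∀ s ∈ S, ∀ s' ∈ S, s ∉ A → s' ∉ A → s * s' ∈ A)
    (t : X) (htS : t ∈ S) (ht : t ^ 2 = 1) (ht1 : t ≠ 1) (Q : Subgroup X) (hQS : Q ≤ S)
    (hQt : ∀ q ∈ Q, q * t = t * q) (g : X) (hgt : g * t = t * g)
    (hgQ : g ∈ normalizer (Q : Set X)) (hg : Odd (orderOf g)) :
    ∀ q ∈ Q, g * q * g⁻¹ = q := by
  haveI : Fact (Nat.Prime 2) := ⟨Nat.prime_two⟩
  have hσQ : ∀ q ∈ Q, g * q * g⁻¹ ∈ Q := fun q hq => (mem_normalizer_iff.mp hgQ q).mp hq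
  have hQ2 : IsPGroup 2 Q := hS2.to_le hQS
  by_cases hcase : ∃ y ∈ Q, y ∈ A ∧ y ^ 2 ≠ 1
  · exact lemma_case1 S A hS2 hinv hprod hcyc Q hQS g hgQ hg hcase
  · push Not at hcase
    have hQsq : ∀ y ∈ Q, y ^ 2 = 1 := by
      intro y hy
      by_cases hyA : y ∈ A
      · exact hcase y hy hyA
      · exact hinv y (hQS hy) hyA
    have ht' : t * t = 1 := by rw [← pow_two]; exact ht
    have htinv : t⁻¹ = t := by rw [inv_eq_iff_mul_eq_one]; exact ht'
    -- the subgroup `K = Q ⟨t⟩`
    have hcomm : ∀ a, (a ∈ Q ∨ a * t ∈ Q) → a * t = t * a := by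
      rintro a (ha | ha)
      · exact hQt a ha
      · have h1 := hQt (a * t) ha
        apply mul_right_cancel (b := t)
        rw [h1]
        group
    let K : Subgroup X :=
      { carrier := {x | x ∈ Q ∨ x * t ∈ Q}
        one_mem' := Or.inl Q.one_mem
        mul_mem' := by
          rintro a b (ha | ha) (hb | hb)
          · exact Or.inl (Q.mul_mem ha hb)
          · refine Or.inr ?_
            rw [mul_assoc]
            exact Q.mul_mem ha hb
          · refine Or.inr ?_
            have e : a * b * t = (a * t) * b := by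
              rw [mul_assoc, mul_assoc, hQt b hb]
            rw [e]
            exact Q.mul_mem ha hb
          · refine Or.inl ?_
            have e : a * b = (a * t) * (b * t) := by
              calc a * b = a * b * (t * t) := by rw [ht', mul_one]
                _ = a * (b * t) * t := by group
                _ = a * (t * b) * t := by rw [hcomm b (Or.inr hb)]
                _ = (a * t) * (b * t) := by group
            rw [e]
            exact Q.mul_mem ha hb
        inv_mem' := by
          rintro a (ha | ha)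
          · exact Or.inl (Q.inv_mem ha)
          · refine Or.inr ?_
            have e : a⁻¹ * t = (a * t)⁻¹ := by
              rw [mul_inv_rev, htinv]
              have h1 := hcomm a (Or.inr ha)
              have h2 : t * a⁻¹ = a⁻¹ * t := by
                have : a⁻¹ * (a * t) * a⁻¹ = a⁻¹ * (t * a) * a⁻¹ := by rw [h1]
                simpa [mul_assoc] using this
              exact h2.symm
            rw [e]
            exact Q.inv_mem ha }
    have hKS : K ≤ S := by
      rintro x (hx | hx)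
      · exact hQS hx
      · have := S.mul_mem (hQS hx) (S.inv_mem htS)
        simpa using this
    have hKsq : ∀ x ∈ K, x ^ 2 = 1 := by
      rintro x (hx | hx)
      · exact hQsq x hx
      · have h1 := hQsq _ hx
        have h2 := hcomm x (Or.inr hx)
        have h3 : (x * t) ^ 2 = x ^ 2 * t ^ 2 := (show Commute x t from h2).mul_pow 2
        rw [h3, ht, mul_one] at h1
        exact h1
    have hcard : Nat.card K ≤ 4 := card_le_four A hcyc K hKsq
      (fun s hs s' hs' => hprod s (hKS hs) s' (hKS hs'))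
    intro q hq
    by_cases hq1 : q = 1
    · simp [hq1]
    by_cases hqt : q = t
    · rw [hqt, hgt]; group
    have hK4 : ∀ x ∈ K, x = 1 ∨ x = t ∨ x = q ∨ x = q * t := by
      classical
      let F : Finset X := {1, t, q, q * t}
      have hF4 : F.card = 4 := by
        have n1 : (1 : X) ≠ t := fun h => ht1 h.symm
        have n2 : (1 : X) ≠ q := fun h => hq1 h.symm
        have n3 : (1 : X) ≠ q * t := by
          intro h
          apply hqt
          have : q = t⁻¹ := eq_inv_of_mul_eq_one_left h.symm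
          rw [this, htinv]
        have n4 : t ≠ q := fun h => hqt h.symm
        have n5 : t ≠ q * t := by
          intro h
          apply hq1
          have : 1 * t = q * t := by rw [one_mul]; exact h
          exact (mul_right_cancel this).symm
        have n6 : q ≠ q * t := by
          intro h
          apply ht1
          have : q * 1 = q * t := by rw [mul_one]; exact h
          exact (mul_left_cancel this).symm
        simp [F, n1, n2, n3, n4, n5, n6]
      have hFK : (F : Set X) ⊆ (K : Set X) := by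
        intro x hx
        simp only [F, Finset.coe_insert, Finset.coe_singleton, Set.mem_insert_iff,
          Set.mem_singleton_iff] at hx
        rcases hx with rfl | rfl | rfl | rfl
        · exact K.one_mem
        · refine Or.inr ?_
          rw [ht']; exact Q.one_mem
        · exact Or.inl hq
        · refine Or.inr ?_
          rw [mul_assoc, ht', mul_one]; exact hq
      have hEq : (F : Set X) = (K : Set X) := by
        apply Set.eq_of_subset_of_ncard_le hFK
        rw [Set.ncard_coe_finset, hF4]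
        exact hcard
      intro x hx
      have : x ∈ (F : Set X) := by rw [hEq]; exact hx
      simpa [F] using this
    have hgtt : g * t * g⁻¹ = t := by rw [hgt]; group
    rcases hK4 _ (Or.inl (hσQ q hq)) with h | h | h | h
    · exfalso; apply hq1
      have h3 : g⁻¹ * (g * q * g⁻¹) * g = g⁻¹ * 1 * g := by rw [h]
      simpa [mul_assoc] using h3
    · exfalso; apply hqt
      have h3 : g⁻¹ * (g * q * g⁻¹) * g = g⁻¹ * (g * t * g⁻¹) * g := by rw [h, hgtt]
      simpa [mul_assoc] using h3
    · exact h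
    · have h2 : g ^ 2 * q * (g ^ 2)⁻¹ = q := by
        calc g ^ 2 * q * (g ^ 2)⁻¹ = g * (g * q * g⁻¹) * g⁻¹ := by rw [pow_two]; group
          _ = g * (q * t) * g⁻¹ := by rw [h]
          _ = (g * q * g⁻¹) * (g * t * g⁻¹) := by group
          _ = q := by rw [h, hgtt, mul_assoc, ht', mul_one]
      have h3 : Commute (g ^ 2) q := by
        show g ^ 2 * q = q * g ^ 2
        calc g ^ 2 * q = (g ^ 2 * q * (g ^ 2)⁻¹) * g ^ 2 := by group
          _ = q * g ^ 2 := by rw [h2]
      have h4 : Commute g q := Cfsg.Agent.Lib.Transfer.OmegaTwo.commute_of_coprime_pow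
        (Nat.Coprime.symm hg.coprime_two_right) h3
      have : g * q = q * g := h4
      rw [this]; group

/-- The rotation subgroup of the dihedral Sylow subgroup. -/
theorem dihedral_data {X : Type*} [Group X] [Finite X] (S : Subgroup X) (n : ℕ) (hn : 2 ≤ n)
    (e : S ≃* DihedralGroup n) :
    ∃ A : Subgroup X, A ≤ S ∧ IsCyclic A ∧ (∀ s ∈ S, s ∉ A → s ^ 2 = 1) ∧
      (∀ s ∈ S, ∀ s' ∈ S, s ∉ A → s' ∉ A → s * s' ∈ A) := by
  haveI : NeZero n := ⟨by omega⟩
  let a : X := ((e.symm (DihedralGroup.r 1) : S) : X)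
  have hrot : ∀ s (hs : s ∈ S) (i : ZMod n), e ⟨s, hs⟩ = DihedralGroup.r i → s ∈ zpowers a := by
    intro s hs i hi
    refine ⟨(i.val : ℤ), ?_⟩
    have h1 : (⟨s, hs⟩ : S) = e.symm (DihedralGroup.r i) := by
      rw [← hi]; simp
    have h2 : (DihedralGroup.r i : DihedralGroup n) = (DihedralGroup.r 1) ^ i.val := by
      rw [DihedralGroup.r_one_pow]; simp
    rw [h2, map_pow] at h1
    have h3 := congrArg Subtype.val h1
    simp only [SubmonoidClass.coe_pow] at h3
    simp only [zpow_natCast, a]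
    exact h3.symm
  have hsr : ∀ s (hs : s ∈ S), s ∉ zpowers a → ∃ i : ZMod n, e ⟨s, hs⟩ = DihedralGroup.sr i := by
    intro s hs hna
    rcases h : e ⟨s, hs⟩ with i | i
    · exact absurd (hrot s hs i h) hna
    · exact ⟨i, rfl⟩
  refine ⟨zpowers a, ?_, inferInstance, ?_, ?_⟩
  · rw [zpowers_le]
    exact (e.symm (DihedralGroup.r 1)).2
  · intro s hs hna
    obtain ⟨i, hi⟩ := hsr s hs hna
    have h1 : e (⟨s, hs⟩ ^ 2) = 1 := by
      rw [map_pow, hi, pow_two, DihedralGroup.sr_mul_self]
    have h2 : (⟨s, hs⟩ : S) ^ 2 = 1 := by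
      apply e.injective; rw [h1, map_one]
    have h3 := congrArg Subtype.val h2
    simpa using h3
  · intro s hs s' hs' hna hna'
    obtain ⟨i, hi⟩ := hsr s hs hna
    obtain ⟨j, hj⟩ := hsr s' hs' hna'
    have h1 : e ⟨s * s', S.mul_mem hs hs'⟩ = DihedralGroup.r (j - i) := by
      rw [← DihedralGroup.sr_mul_sr, ← hi, ← hj, ← map_mul]
      rfl
    exact hrot _ _ _ h1

/-- In a finite group whose Sylow 2-subgroups are dihedral of order at least 4, the centralizer of any involution has a
normal subgroup of odd order whose index in the centralizer is a power of 2. -/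
theorem result {X : Type*} [Group X] [Finite X]
    (S : Sylow 2 X) (n : ℕ) (hn : 2 ≤ n) (hS : Nonempty ((S : Subgroup X) ≃* DihedralGroup n)) (t : X)
    (ht : orderOf t = 2) :
    ∃ N : Subgroup (Subgroup.centralizer ({t} : Set X)), N.Normal ∧ Odd (Nat.card N) ∧ ∃ k : ℕ, N.index = 2 ^ k := by
  obtain ⟨e⟩ := hS
  obtain ⟨A, hle, hcyc, hinv, hprod⟩ := dihedral_data (S : Subgroup X) n hn e
  haveI : Fact (Nat.Prime 2) := ⟨Nat.prime_two⟩
  have ht2 : t ^ 2 = 1 := by rw [← ht]; exact pow_orderOf_eq_one t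
  have ht1 : t ≠ 1 := by
    rintro rfl
    simp at ht
  set C : Subgroup X := Subgroup.centralizer ({t} : Set X) with hC
  have hmemC : ∀ x : C, (x : X) * t = t * x := by
    intro x
    have := (Subgroup.mem_centralizer_iff.mp x.2) t (Set.mem_singleton t)
    exact this.symm
  have htC : t ∈ C := by
    rw [hC, Subgroup.mem_centralizer_iff]
    rintro _ rfl
    rfl
  have hyp : FrobeniusHyp 2 C := by
    intro Q hQ g hg hc
    -- the central subgroup generated by `t`
    let t' : C := ⟨t, htC⟩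
    let Z : Subgroup C := zpowers t'
    have ht'c : ∀ x : C, x * t' = t' * x := fun x => Subtype.ext (hmemC x)
    have hZn : Z.Normal := by
      constructor
      rintro _ ⟨k, rfl⟩ x
      refine ⟨k, ?_⟩
      show t' ^ k = x * t' ^ k * x⁻¹
      have h1 : Commute x (t' ^ k) := (show Commute x t' from ht'c x).zpow_right k
      rw [h1.eq]
      group
    have hZ2 : IsPGroup 2 Z := by
      refine IsPGroup.iff_card.mpr ⟨1, ?_⟩
      rw [Nat.card_zpowers, pow_one, ← ht]
      exact (Subgroup.orderOf_mk t htC)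
    have hR : IsPGroup 2 (Q ⊔ Z : Subgroup C) := hQ.to_sup_of_normal_right hZ2
    let R : Subgroup X := (Q ⊔ Z).map C.subtype
    have hR2 : IsPGroup 2 R := hR.map _
    obtain ⟨h, hh⟩ := exists_conj_le_sylow S hR2
    have htR : t ∈ R := ⟨t', le_sup_right (α := Subgroup C) (mem_zpowers t'), rfl⟩
    have hQR : ∀ q ∈ Q, (q : X) ∈ R := fun q hq => ⟨q, le_sup_left (α := Subgroup C) hq, rfl⟩
    let Q' : Subgroup X := cj h (Q.map C.subtype)
    have key := lemma_A (S : Subgroup X) A S.isPGroup' hle hcyc hinv hprod (h * t * h⁻¹)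
      (hh (conj_mem_cj htR)) (by rw [conj_pow, ht2]; group) (by
        intro hc
        apply ht1
        have h3 : h⁻¹ * (h * t * h⁻¹) * h = h⁻¹ * 1 * h := by rw [hc]
        simpa [mul_assoc] using h3) Q' (by
          intro x hx
          apply hh
          obtain ⟨y, ⟨q, hq, rfl⟩, rfl⟩ := hx
          exact conj_mem_cj (hQR q hq)) (by
          rintro _ ⟨y, ⟨q, hq, rfl⟩, rfl⟩
          have h3 := hmemC q
          show h * (q : X) * h⁻¹ * (h * t * h⁻¹) = h * t * h⁻¹ * (h * (q : X) * h⁻¹)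
          calc h * (q : X) * h⁻¹ * (h * t * h⁻¹) = h * ((q : X) * t) * h⁻¹ := by group
            _ = h * (t * q) * h⁻¹ := by rw [h3]
            _ = _ := by group) (h * g * h⁻¹) (by
          have h3 := hmemC g
          calc h * (g : X) * h⁻¹ * (h * t * h⁻¹) = h * ((g : X) * t) * h⁻¹ := by group
            _ = h * (t * g) * h⁻¹ := by rw [h3]
            _ = _ := by group) (by
          apply mem_normalizer_of_conj_mem
          rintro _ ⟨y, ⟨q, hq, rfl⟩, rfl⟩
          have h4 : g * q * g⁻¹ ∈ Q := (mem_normalizer_iff.mp hg q).mp hq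
          refine ⟨_, ⟨_, h4, rfl⟩, ?_⟩
          show h * ((g * q * g⁻¹ : C) : X) * h⁻¹ = h * g * h⁻¹ * (h * (q : X) * h⁻¹) * (h * g * h⁻¹)⁻¹
          push_cast
          group) (by
          have h5 : orderOf (h * (g : X) * h⁻¹) = orderOf g := by
            have h6 : orderOf (MulAut.conj h (g : X)) = orderOf (g : X) :=
              MulEquiv.orderOf_eq _ _
            rw [MulAut.conj_apply] at h6
            rw [h6]
            exact Subgroup.orderOf_coe g
          rw [h5]
          exact Nat.coprime_two_right.mp hc)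
    rw [Subgroup.mem_centralizer_iff]
    intro q hq
    have h7 := key _ ⟨_, ⟨q, hq, rfl⟩, rfl⟩
    apply Subtype.ext
    have h8 : h⁻¹ * (h * g * h⁻¹ * (h * (q : X) * h⁻¹) * (h * g * h⁻¹)⁻¹) * h = h⁻¹ * (h * (q : X) * h⁻¹) * h := by
      rw [← show (MulAut.conj h).toMonoidHom (C.subtype q) = h * (q : X) * h⁻¹ from rfl]
      exact congrArg (fun z => h⁻¹ * z * h) h7
    have h9 : (g : X) * q * (g : X)⁻¹ = q := by
      simpa [mul_assoc] using h8
    show (q : X) * g = g * q
    rw [← h9]
    calc (g : X) * q * (g : X)⁻¹ * g = g * q := by group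
      _ = g * ((g : X) * q * (g : X)⁻¹) := by rw [h9]
  obtain ⟨N, hN, h1, h2⟩ := hasNormalPComplement_iff.mp (hasNormalPComplement_of_hyp hyp)
  refine ⟨N, hN, ?_, ?_⟩
  · exact (Nat.coprime_two_right).mp h1
  · obtain ⟨k, hk⟩ := IsPGroup.iff_card.mp h2
    exact ⟨k, hk⟩

end Cfsg.Agent.S0514
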