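import Cfsg.Statements.S0132
import Mathlib
import Cfsg.Agent.Lib.Transfer.Basic
import Cfsg.Agent.Lib.Transfer.Frobenius
import Cfsg.Agent.Lib.Nilpotent.Elements
-- import your own Cfsg.Agent.* helpers here

set_option autoImplicit false
open Cfsg

namespace Cfsg.Agent.S0132

open Subgroup Cfsg.Agent.Lib.Transfer.Basic Cfsg.Agent.Lib.Transfer.Frobenius

universe u

/-- A minimal non-`p`-nilpotent group has a nontrivial normal `p`-subgroup. -/
theorem exists_normal_pgroup {G : Type u} [Group G] [Finite G] {p : ℕ} [Fact p.Prime]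
    (h1 : ¬ Cfsg.HasNormalPComplement p G)
    (h2 : ∀ H : Subgroup G, H ≠ ⊤ → Cfsg.HasNormalPComplement p H) :
    ∃ Q : Subgroup G, Q.Normal ∧ IsPGroup p Q ∧ Q ≠ ⊥ := by
  by_contra hno
  apply h1
  apply hasNormalPComplement_of_hyp
  intro Q hQ g hg hc
  by_cases hQtop : normalizer (Q : Set G) = ⊤
  · have hn : Q.Normal := normalizer_eq_top_iff.mp hQtop
    by_cases hb : Q = ⊥
    · subst hb
      rw [Subgroup.mem_centralizer_iff]
      intro y hy
      have : y = 1 := hy
      rw [this, one_mul, mul_one]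
    · exact absurd ⟨Q, hn, hQ, hb⟩ hno
  · have h3 := h2 _ hQtop
    have hF := frobeniusHyp_of_hasNormalPComplement h3
    let N := normalizer (Q : Set G)
    have hQ' : IsPGroup p (Q.subgroupOf N) := hQ.comap_of_injective _ N.subtype_injective
    have hg' : (⟨g, hg⟩ : N) ∈ normalizer ((Q.subgroupOf N : Subgroup N) : Set N) := by
      rw [Subgroup.mem_normalizer_iff]
      intro x
      rw [Subgroup.mem_subgroupOf, Subgroup.mem_subgroupOf]
      exact Subgroup.mem_normalizer_iff.mp hg x
    have hc' : Nat.Coprime (orderOf (⟨g, hg⟩ : N)) p := by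
      rw [Subgroup.orderOf_mk]; exact hc
    have h4 := hF _ hQ' _ hg' hc'
    rw [Subgroup.mem_centralizer_iff] at h4 ⊢
    intro q hq
    have h5 := h4 ⟨q, le_normalizer hq⟩ (by
      rw [SetLike.mem_coe, Subgroup.mem_subgroupOf]; exact hq)
    exact congrArg Subtype.val h5

/-- Itô: the Sylow `p`-subgroup of a minimal non-`p`-nilpotent group is normal. -/
theorem sylow_normal {p : ℕ} [Fact p.Prime] : ∀ (n : ℕ) (G : Type u) [Group G] [Finite G],
    Nat.card G = n → ¬ Cfsg.HasNormalPComplement p G →
    (∀ H : Subgroup G, H ≠ ⊤ → Cfsg.HasNormalPComplement p H) →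
    ∀ P : Sylow p G, (P : Subgroup G).Normal := by
  intro n
  induction n using Nat.strong_induction_on with
  | _ n ih =>
  intro G _ _ hn h1 h2 P
  obtain ⟨Q, hQn, hQp, hQb⟩ := exists_normal_pgroup h1 h2
  let π : G →* G ⧸ Q := QuotientGroup.mk' Q
  have hπ : Function.Surjective π := QuotientGroup.mk'_surjective Q
  have hker : π.ker = Q := QuotientGroup.ker_mk' Q
  have hQP : Q ≤ (P : Subgroup G) := hQp.le_sylow_of_normal P
  by_cases hq : Cfsg.HasNormalPComplement p (G ⧸ Q)
  · obtain ⟨N', hn', h1', h2'⟩ := hasNormalPComplement_iff.mp hq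
    let φ : G →* (G ⧸ Q) ⧸ N' := (QuotientGroup.mk' N').comp π
    have hφ : Function.Surjective φ := (QuotientGroup.mk'_surjective N').comp hπ
    have hKq : IsPGroup p (G ⧸ φ.ker) :=
      h2'.of_surjective (QuotientGroup.quotientKerEquivOfSurjective φ hφ).symm.toMonoidHom
        (QuotientGroup.quotientKerEquivOfSurjective φ hφ).symm.surjective
    by_cases hK : φ.ker = ⊤
    · -- `N'` is everything, `Q` is a Sylow subgroup
      have hN' : N' = ⊤ := by
        rw [eq_top_iff]
        intro y _
        obtain ⟨x, rfl⟩ := hπ y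
        have hx : x ∈ φ.ker := by rw [hK]; trivial
        rw [MonoidHom.mem_ker] at hx
        exact (QuotientGroup.eq_one_iff _).mp hx
      rw [hN', Subgroup.card_top] at h1'
      have hnd : ¬ p ∣ Q.index := by
        rw [Subgroup.index_eq_card]
        exact (Nat.Prime.coprime_iff_not_dvd Fact.out).mp h1'.symm
      have hS : (P : Subgroup G) = Q := by
        have := (hQp.toSylow hnd).is_maximal' P.2 (by exact hQP)
        exact this
      rw [hS]
      exact hQn
    · exact absurd (HasNormalPComplement_of_normal_of_isPGroup_quotient φ.ker hKq (h2 _ hK)) h1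
  · -- induction
    have hlt : Nat.card (G ⧸ Q) < n := by
      rw [← hn, ← Subgroup.card_mul_index Q, Subgroup.index_eq_card]
      have h3 : 1 < Nat.card Q := by
        have h4 : Nat.card Q ≠ 1 := fun h => hQb ((Subgroup.card_eq_one).mp h)
        have h5 : 0 < Nat.card Q := Nat.card_pos
        omega
      exact lt_mul_of_one_lt_left Nat.card_pos h3
    have hsub : ∀ H : Subgroup (G ⧸ Q), H ≠ ⊤ → Cfsg.HasNormalPComplement p H := by
      intro H hH
      have hne : H.comap π ≠ ⊤ := by
        intro e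
        apply hH
        rw [eq_top_iff]
        intro y _
        obtain ⟨x, rfl⟩ := hπ y
        have : x ∈ H.comap π := by rw [e]; trivial
        exact this
      have h3 := h2 _ hne
      let f : H.comap π →* H :=
        { toFun := fun x => ⟨π x, x.2⟩
          map_one' := by ext; simp
          map_mul' := by intro x y; ext; simp }
      refine HasNormalPComplement_of_surjective f ?_ h3
      rintro ⟨y, hy⟩
      obtain ⟨x, rfl⟩ := hπ y
      exact ⟨⟨x, hy⟩, rfl⟩
    have hnor := ih _ hlt (G ⧸ Q) rfl hq hsub (P.mapSurjective hπ)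
    have hPe : ((P.mapSurjective hπ : Sylow p (G ⧸ Q)) : Subgroup (G ⧸ Q)) = (P : Subgroup G).map π := rfl
    rw [hPe] at hnor
    have hco := hnor.comap π
    rwa [Subgroup.comap_map_eq_self (by rw [hker]; exact hQP)] at hco

/-- A minimal non-p-nilpotent finite group is a minimal non-nilpotent group with a normal Sylow p-subgroup. -/
theorem result {G : Type*} [Group G] [Finite G] {p : ℕ} [Fact p.Prime] (h1 : ¬ Cfsg.HasNormalPComplement p G) (h2 : ∀ H : Subgroup G, H ≠ ⊤ → Cfsg.HasNormalPComplement p H) : (∀ H : Subgroup G, H ≠ ⊤ → Group.IsNilpotent H) ∧ ¬ Group.IsNilpotent G ∧ ∀ P : Sylow p G, (P : Subgroup G).Normal  := by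
  classical
  have hS : ∀ P : Sylow p G, (P : Subgroup G).Normal := sylow_normal _ G rfl h1 h2
  refine ⟨?_, ?_, hS⟩
  · -- proper subgroups are nilpotent
    let P : Sylow p G := default
    have hPn : (P : Subgroup G).Normal := hS P
    have hcop : Nat.Coprime (Nat.card (P : Subgroup G)) (P : Subgroup G).index := P.card_coprime_index
    obtain ⟨L, hL⟩ := exists_right_complement'_of_coprime hcop
    -- `p`-elements and `p'`-elements
    have hone : ∀ (H : Subgroup G) (c : H), Nat.Coprime (orderOf c) p → (c : G) ∈ (P : Subgroup G) → c = 1 := by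
      intro H c hc hcP
      obtain ⟨k, hk⟩ := (IsPGroup.iff_orderOf.mp P.2) ⟨c, hcP⟩
      have e : orderOf c = p ^ k := by
        rw [← hk, ← Subgroup.orderOf_coe c]
        exact (Subgroup.orderOf_mk (c : G) hcP).symm
      rw [e] at hc
      have h3 : p ^ k = 1 := by
        rcases Nat.eq_zero_or_pos k with rfl | hkpos
        · simp
        · exfalso
          have h4 := Nat.Coprime.coprime_dvd_left (dvd_pow_self p hkpos.ne') hc
          exact (Fact.out : p.Prime).one_lt.ne' ((Nat.coprime_self p).mp h4)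
      rw [h3] at e
      exact orderOf_eq_one_iff.mp e
    -- `x ∈ L` with `P ⊔ ⟨x⟩ ≠ ⊤` centralizes `P`
    have hcentral : ∀ x ∈ L, (P : Subgroup G) ⊔ zpowers x ≠ ⊤ → ∀ y ∈ (P : Subgroup G), x * y = y * x := by
      intro x hxL hne y hy
      set H := (P : Subgroup G) ⊔ zpowers x with hH
      have hxH : x ∈ H := mem_sup_right (mem_zpowers x)
      have hyH : y ∈ H := mem_sup_left hy
      obtain ⟨N, hNn, hN1, hN2⟩ := hasNormalPComplement_iff.mp (h2 H hne)
      have hxo : Nat.Coprime (orderOf x) p := by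
        have hd : orderOf x ∣ Nat.card L := by
          have := orderOf_dvd_natCard (⟨x, hxL⟩ : L)
          simpa using this
        have hLc : Nat.card L = (P : Subgroup G).index := hL.symm.index_eq_card.symm
        rw [hLc] at hd
        exact Nat.Coprime.coprime_dvd_left hd
          ((Nat.Prime.coprime_iff_not_dvd Fact.out).mpr P.not_dvd_index).symm
      have hxN : (⟨x, hxH⟩ : H) ∈ N := by
        rw [mem_iff_coprime_of_normal N hN1 hN2, Subgroup.orderOf_mk]
        exact hxo
      let c : H := ⟨x, hxH⟩ * ⟨y, hyH⟩ * ⟨x, hxH⟩⁻¹ * ⟨y, hyH⟩⁻¹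
      have hcN : c ∈ N := by
        have e : c = ⟨x, hxH⟩ * (⟨y, hyH⟩ * ⟨x, hxH⟩⁻¹ * ⟨y, hyH⟩⁻¹) := by
          simp only [c]; group
        rw [e]
        exact N.mul_mem hxN (hNn.conj_mem _ (N.inv_mem hxN) _)
      have hcP : (c : G) ∈ (P : Subgroup G) :=
        (P : Subgroup G).mul_mem (hPn.conj_mem y hy x) ((P : Subgroup G).inv_mem hy)
      have hc1 : c = 1 := by
        refine hone H c ?_ hcP
        rw [← mem_iff_coprime_of_normal N hN1 hN2]
        exact hcN
      have hc2 : (c : G) = 1 := by rw [hc1]; rfl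
      have hc3 : x * y * x⁻¹ * y⁻¹ = 1 := hc2
      have hc4 : x * y * x⁻¹ = y := mul_inv_eq_one.mp hc3
      exact (mul_inv_eq_iff_eq_mul.mp hc4)
    -- some `x` generates modulo `P`
    obtain ⟨x, hxL, hxtop⟩ : ∃ x ∈ L, (P : Subgroup G) ⊔ zpowers x = ⊤ := by
      by_contra hno
      push Not at hno
      apply h1
      have hLcent : ∀ x ∈ L, ∀ y ∈ (P : Subgroup G), x * y = y * x :=
        fun x hx y hy => hcentral x hx (hno x hx) y hy
      have hdec : ∀ g : G, ∃ a ∈ (P : Subgroup G), ∃ b ∈ L, g = a * b := by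
        intro g
        have hg : g ∈ ((P : Subgroup G) ⊔ L : Subgroup G) := by rw [hL.sup_eq_top]; trivial
        rw [← SetLike.mem_coe, Subgroup.normal_mul] at hg
        obtain ⟨a, ha, b, hb, rfl⟩ := Set.mem_mul.mp hg
        exact ⟨a, ha, b, hb, rfl⟩
      have hLn : L.Normal := by
        constructor
        intro l hl g
        obtain ⟨a, ha, b, hb, rfl⟩ := hdec g
        have e : a * b * l * (a * b)⁻¹ = b * l * b⁻¹ := by
          have h3 : a * (b * l * b⁻¹) = (b * l * b⁻¹) * a :=
            (hLcent _ (L.mul_mem (L.mul_mem hb hl) (L.inv_mem hb)) a ha).symm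
          calc a * b * l * (a * b)⁻¹ = a * (b * l * b⁻¹) * a⁻¹ := by group
            _ = (b * l * b⁻¹) * a * a⁻¹ := by rw [h3]
            _ = _ := by group
        rw [e]
        exact L.mul_mem (L.mul_mem hb hl) (L.inv_mem hb)
      exact ⟨P, L, hLn, hL.symm⟩
    -- `G / P` is commutative
    have hC : ∀ a b : G ⧸ (P : Subgroup G), a * b = b * a := by
      have hgen : ∀ a : G ⧸ (P : Subgroup G), a ∈ zpowers (x : G ⧸ (P : Subgroup G)) := by
        intro a
        obtain ⟨g, rfl⟩ := QuotientGroup.mk_surjective a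
        have hg : g ∈ ((P : Subgroup G) ⊔ zpowers x : Subgroup G) := by rw [hxtop]; trivial
        rw [← SetLike.mem_coe, Subgroup.normal_mul] at hg
        obtain ⟨u, hu, v, hv, rfl⟩ := Set.mem_mul.mp hg
        obtain ⟨k, rfl⟩ := hv
        refine ⟨k, ?_⟩
        have e : ((u : G ⧸ (P : Subgroup G))) = 1 := (QuotientGroup.eq_one_iff u).mpr hu
        simp only
        rw [QuotientGroup.mk_mul, e, one_mul, QuotientGroup.mk_zpow]
      intro a b
      obtain ⟨i, rfl⟩ := hgen a
      obtain ⟨j, rfl⟩ := hgen b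
      simp only
      rw [← zpow_add, ← zpow_add, add_comm]
    intro H hH
    obtain ⟨N, hNn, hN1, hN2⟩ := hasNormalPComplement_iff.mp (h2 H hH)
    letI : CommGroup (G ⧸ (P : Subgroup G)) :=
      { (inferInstance : Group (G ⧸ (P : Subgroup G))) with mul_comm := hC }
    let f₁ : H →* (H ⧸ N) := QuotientGroup.mk' N
    let f₂ : H →* (G ⧸ (P : Subgroup G)) := (QuotientGroup.mk' (P : Subgroup G)).comp H.subtype
    let f : H →* (H ⧸ N) × (G ⧸ (P : Subgroup G)) := f₁.prod f₂
    have hfk : f.ker ≤ center H := by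
      intro h hh
      have h3 : f h = 1 := hh
      have h4 : f₁ h = 1 := congrArg Prod.fst h3
      have h5 : f₂ h = 1 := congrArg Prod.snd h3
      have h6 : h ∈ N := (QuotientGroup.eq_one_iff h).mp h4
      have h7 : (h : G) ∈ (P : Subgroup G) := (QuotientGroup.eq_one_iff (h : G)).mp h5
      have h8 : h = 1 := hone H h ((mem_iff_coprime_of_normal N hN1 hN2 h).mp h6) h7
      rw [h8]
      exact one_mem _
    have : Group.IsNilpotent (H ⧸ N) := hN2.isNilpotent
    exact _root_.isNilpotent_of_ker_le_center f hfk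
  · intro hnil
    apply h1
    apply hasNormalPComplement_of_hyp
    intro Q hQ g _ hc
    rw [Subgroup.mem_centralizer_iff]
    intro q hq
    obtain ⟨k, hk⟩ := (IsPGroup.iff_orderOf.mp hQ) ⟨q, hq⟩
    have hqo : orderOf q = p ^ k := by
      rw [← hk]
      exact (Subgroup.orderOf_mk q hq).symm
    have : Commute q g := Cfsg.Agent.Lib.Nilpotent.Elements.commute_of_coprime_orderOf (by
      rw [hqo]
      exact Nat.Coprime.pow_left _ hc.symm)
    exact this.eq

end Cfsg.Agent.S0132
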