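import Cfsg.Statements.S0985
import Mathlib
-- import your own Cfsg.Agent.* helpers here

set_option autoImplicit false
open Cfsg

namespace Cfsg.Agent.S0985

/-- If the number of Sylow p-subgroups of a finite group is not congruent to 1 modulo p^k, then there are two distinct Sylow p-subgroups P and R such that the index of P ∩ R in P is at most p^(k-1). -/
theorem result {G : Type*} [Group G] [Finite G] (p k : ℕ) [Fact p.Prime] (h : ¬ Nat.card (Sylow p G) ≡ 1 [MOD p ^ k]) : ∃ P R : Sylow p G, P ≠ R ∧ ((R : Subgroup G).subgroupOf (P : Subgroup G)).index ≤ p ^ (k - 1) := by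
  classical
  by_contra hcon
  push Not at hcon
  have hp : p.Prime := Fact.out
  apply h
  have hk : k ≠ 0 := by
    rintro rfl
    apply h
    rw [pow_zero]
    exact Nat.modEq_one
  obtain ⟨j, rfl⟩ := Nat.exists_eq_succ_of_ne_zero hk
  simp only [Nat.succ_eq_add_one, Nat.add_sub_cancel] at hcon ⊢
  obtain ⟨P⟩ : Nonempty (Sylow p G) := inferInstance
  have := Fintype.ofFinite (Sylow p G)
  have hstab : ∀ R : Sylow p G, MulAction.stabilizer (P : Subgroup G) R = (R : Subgroup G).subgroupOf (P : Subgroup G) := by
    intro R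
    ext x
    rw [MulAction.mem_stabilizer_iff, Subgroup.mem_subgroupOf]
    have h1 : x • R = R ↔ (x : G) ∈ Subgroup.normalizer ((R : Subgroup G) : Set G) := Sylow.smul_eq_iff_mem_normalizer
    rw [h1]
    have h2 := P.isPGroup'.inf_normalizer_sylow R
    constructor
    · intro hx
      have : (x : G) ∈ (P : Subgroup G) ⊓ (R : Subgroup G) := by
        rw [← h2]
        exact ⟨x.2, hx⟩
      exact this.2
    · intro hx
      exact Subgroup.le_normalizer hx
  have hdvd : ∀ R : Sylow p G, R ≠ P → p ^ (j + 1) ∣ (MulAction.orbit (P : Subgroup G) R).ncard := by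
    intro R hR
    rw [← MulAction.index_stabilizer, hstab]
    obtain ⟨m, hm⟩ := IsPGroup.index P.isPGroup' ((R : Subgroup G).subgroupOf (P : Subgroup G))
    have h1 := hcon P R hR.symm
    rw [hm] at h1 ⊢
    have h2 : j < m := (Nat.pow_lt_pow_iff_right hp.one_lt).mp h1
    exact pow_dvd_pow p h2
  have horbP : ∀ R : Sylow p G, R ∈ MulAction.orbit (P : Subgroup G) P → R = P := by
    rintro R ⟨x, rfl⟩
    have : (x : G) • P = P := Sylow.smul_eq_iff_mem_normalizer.mpr (Subgroup.le_normalizer x.2)
    exact this
  let X : Finset (Sylow p G) := Finset.univ.erase P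
  have hXcard : p ^ (j + 1) ∣ X.card := by
    rw [Finset.card_eq_sum_card_fiberwise (f := fun R => MulAction.orbit (P : Subgroup G) R)
      (t := X.image fun R => MulAction.orbit (P : Subgroup G) R)
      (fun R hR => Finset.mem_coe.mpr (Finset.mem_image_of_mem _ hR))]
    refine Finset.dvd_sum fun b hb => ?_
    obtain ⟨R0, hR0, rfl⟩ := Finset.mem_image.mp hb
    have hR0P : R0 ≠ P := (Finset.mem_erase.mp hR0).1
    have hF : ((X.filter fun R => MulAction.orbit (P : Subgroup G) R = MulAction.orbit (P : Subgroup G) R0 : Finset (Sylow p G)) : Set (Sylow p G))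
        = MulAction.orbit (P : Subgroup G) R0 := by
      ext R
      simp only [Finset.coe_filter, Set.mem_setOf_eq]
      constructor
      · rintro ⟨_, h3⟩
        rw [← h3]
        exact MulAction.mem_orbit_self R
      · intro h3
        refine ⟨Finset.mem_erase.mpr ⟨?_, Finset.mem_univ _⟩, MulAction.orbit_eq_iff.mpr h3⟩
        intro hRP
        rw [hRP] at h3
        have h4 : R0 ∈ MulAction.orbit (P : Subgroup G) P := MulAction.mem_orbit_symm.mp h3
        exact hR0P (horbP R0 h4)
    rw [← Set.ncard_coe_finset, hF]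
    exact hdvd R0 hR0P
  have hcard : Nat.card (Sylow p G) = X.card + 1 := by
    rw [Nat.card_eq_fintype_card, Finset.card_erase_of_mem (Finset.mem_univ P), Finset.card_univ]
    have : 0 < Fintype.card (Sylow p G) := Fintype.card_pos_iff.mpr ⟨P⟩
    omega
  rw [hcard]
  obtain ⟨c, hc⟩ := hXcard
  rw [hc]
  exact Nat.mul_add_mod _ _ _

end Cfsg.Agent.S0985
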