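import Cfsg.Statements.S4345
import Mathlib
import Cfsg.Agent.Lib.Solvable.MinimalNormal

set_option autoImplicit false
set_option linter.style.haveILetI false
open Cfsg

namespace Cfsg.Agent.S4345

/-- `[A ⊔ B : A] = [B : A ⊓ B]` for normal `B`. -/
theorem relIndex_sup_of_normal {G : Type*} [Group G] [Finite G] (A B : Subgroup G) [B.Normal] :
    A.relIndex (A ⊔ B) = A.relIndex B := by
  have h1 : Nat.card A * A.relIndex (A ⊔ B) = Nat.card (A ⊔ B : Subgroup G) := by
    rw [← Subgroup.relIndex_bot_left A, ← Subgroup.relIndex_bot_left (A ⊔ B)]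
    exact Subgroup.relIndex_mul_relIndex _ _ _ bot_le le_sup_left
  have h2 : Nat.card B * B.relIndex (A ⊔ B) = Nat.card (A ⊔ B : Subgroup G) := by
    rw [← Subgroup.relIndex_bot_left B, ← Subgroup.relIndex_bot_left (A ⊔ B)]
    exact Subgroup.relIndex_mul_relIndex _ _ _ bot_le le_sup_right
  have h3 : B.relIndex (A ⊔ B) = B.relIndex A := Subgroup.relIndex_sup_right A B
  have h4 : Nat.card (A ⊓ B : Subgroup G) * B.relIndex A = Nat.card A := by
    have : B.relIndex A = (A ⊓ B).relIndex A := by rw [inf_comm, Subgroup.inf_relIndex_right]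
    rw [this, ← Subgroup.relIndex_bot_left (A ⊓ B), ← Subgroup.relIndex_bot_left A]
    exact Subgroup.relIndex_mul_relIndex _ _ _ bot_le inf_le_left
  have h5 : Nat.card (A ⊓ B : Subgroup G) * A.relIndex B = Nat.card B := by
    have : A.relIndex B = (A ⊓ B).relIndex B := (Subgroup.inf_relIndex_right _ _).symm
    rw [this, ← Subgroup.relIndex_bot_left (A ⊓ B), ← Subgroup.relIndex_bot_left B]
    exact Subgroup.relIndex_mul_relIndex _ _ _ bot_le inf_le_right
  have hpos1 : 0 < Nat.card (A ⊓ B : Subgroup G) := Nat.card_pos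
  have hpos2 : 0 < B.relIndex A := Nat.pos_of_ne_zero (fun h => by rw [h, mul_zero] at h4; exact Nat.card_pos.ne h4)
  have h6 : Nat.card (A ⊓ B : Subgroup G) * (A.relIndex (A ⊔ B) * B.relIndex A) =
      Nat.card (A ⊓ B : Subgroup G) * (A.relIndex B * B.relIndex A) := by
    calc _ = (Nat.card (A ⊓ B : Subgroup G) * B.relIndex A) * A.relIndex (A ⊔ B) := by ring
      _ = Nat.card (A ⊔ B : Subgroup G) := by rw [h4, h1]
      _ = Nat.card B * B.relIndex A := by rw [← h2, h3]
      _ = _ := by rw [← h5]; ring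
  have h7 := Nat.eq_of_mul_eq_mul_left hpos1 h6
  exact Nat.eq_of_mul_eq_mul_right hpos2 h7

/-- The preimage of the normaliser of the image of a Sylow subgroup. -/
theorem mem_normalizer_sup {G : Type*} [Group G] [Finite G] {p : ℕ} [Fact p.Prime] (P : Sylow p G)
    (K : Subgroup G) [K.Normal] (g : G) (hg : ∀ x ∈ (P : Subgroup G) ⊔ K, g * x * g⁻¹ ∈ (P : Subgroup G) ⊔ K) :
    g ∈ Subgroup.normalizer ((P : Subgroup G) : Set G) ⊔ K := by
  let L : Subgroup G := (P : Subgroup G) ⊔ K
  have hPL : P ≤ L := le_sup_left (a := (P : Subgroup G))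
  have hgPL : (g • P : Sylow p G) ≤ L := by
    intro y hy
    have h1 : y ∈ ((g • P : Sylow p G) : Set G) := hy
    rw [Sylow.coe_smul] at h1
    obtain ⟨z, hz, rfl⟩ := h1
    exact hg z (Subgroup.mem_sup_left hz)
  obtain ⟨x, hx⟩ := MulAction.exists_smul_eq L (P.subtype hPL) ((g • P).subtype hgPL)
  rw [Sylow.smul_subtype] at hx
  have hx2 : (x : L) • P = g • P := Sylow.subtype_injective hx
  have hx3 : ((x : G)⁻¹ * g) • P = P := by
    rw [mul_smul, ← hx2]
    show (x : G)⁻¹ • ((x : G) • P) = P
    rw [inv_smul_smul]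
  have hx4 := Sylow.smul_eq_iff_mem_normalizer.mp hx3
  have h5 : g = (x : G) * ((x : G)⁻¹ * g) := by group
  rw [h5]
  refine Subgroup.mul_mem _ ?_ (Subgroup.mem_sup_left hx4)
  have hle : (P : Subgroup G) ⊔ K ≤ Subgroup.normalizer ((P : Subgroup G) : Set G) ⊔ K :=
    sup_le_sup_right Subgroup.le_normalizer K
  exact hle x.2

theorem card_sylow_eq {G : Type*} [Group G] [Finite G] {p : ℕ} [hp : Fact p.Prime] (K : Subgroup G)
    [K.Normal] (P : Sylow p G) :
    Nat.card (Sylow p G) = Nat.card (Sylow p (G ⧸ K)) *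
      (Subgroup.normalizer ((P : Subgroup G) : Set G)).relIndex K ∧
    (Subgroup.normalizer ((P : Subgroup G) : Set G)).relIndex K ≡ 1 [MOD p] := by
  set N := Subgroup.normalizer ((P : Subgroup G) : Set G) with hN
  let φ := QuotientGroup.mk' K
  have hφs : Function.Surjective φ := QuotientGroup.mk'_surjective K
  have hφk : φ.ker = K := QuotientGroup.ker_mk' K
  constructor
  · let Q : Sylow p (G ⧸ K) := P.mapSurjective hφs
    have hQc : ((Q : Subgroup (G ⧸ K))) = (P : Subgroup G).map φ := Sylow.coe_mapSurjective _ _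
    have hcl : (Subgroup.normalizer ((Q : Subgroup (G ⧸ K)) : Set (G ⧸ K))).comap φ = N ⊔ K := by
      apply le_antisymm
      · intro g hg
        apply mem_normalizer_sup P K g
        intro x hx
        have h0 : (P : Subgroup G) ⊔ K = ((P : Subgroup G).map φ).comap φ := by
          rw [Subgroup.comap_map_eq, hφk]
        rw [h0] at hx ⊢
        rw [Subgroup.mem_comap] at hx ⊢
        rw [← hQc] at hx ⊢
        have h1 : φ g ∈ Subgroup.normalizer ((Q : Subgroup (G ⧸ K)) : Set (G ⧸ K)) := hg
        rw [map_mul, map_mul, map_inv]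
        exact (Subgroup.mem_normalizer_iff.mp h1 _).mp hx
      · rw [← Subgroup.map_le_iff_le_comap, Subgroup.map_sup]
        refine sup_le ?_ ?_
        · rw [hQc]
          exact Subgroup.le_normalizer_map φ
        · have : K.map φ = ⊥ := (Subgroup.map_eq_bot_iff _).mpr hφk.ge
          rw [this]; exact bot_le
    have e1 : Nat.card (Sylow p G) = N.index := Sylow.card_eq_index_normalizer P
    have e2 : Nat.card (Sylow p (G ⧸ K)) =
        (Subgroup.normalizer ((Q : Subgroup (G ⧸ K)) : Set (G ⧸ K))).index :=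
      Sylow.card_eq_index_normalizer Q
    rw [e1, e2, ← Subgroup.index_comap_of_surjective _ hφs, hcl, ← relIndex_sup_of_normal N K, mul_comm]
    exact (Subgroup.relIndex_mul_index le_sup_left).symm
  · let L : Subgroup G := (P : Subgroup G) ⊔ K
    have hPL : (P : Subgroup G) ≤ L := le_sup_left
    have hKL : K ≤ L := le_sup_right
    have h1 := card_sylow_modEq_one p L
    have e2 : Nat.card (Sylow p L) =
        (Subgroup.normalizer ((((P : Subgroup G).subgroupOf L : Subgroup L)) : Set L)).index :=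
      Sylow.card_eq_index_normalizer (P.subtype hPL)
    rw [e2, ← Subgroup.subgroupOf_normalizer_eq hPL] at h1
    have h2 : N.relIndex L = N.relIndex K := by
      have h3 : N.relIndex L = (N ⊓ L).relIndex L := (Subgroup.inf_relIndex_right _ _).symm
      have h4 : (N ⊓ L) ⊔ K = L := by
        apply le_antisymm
        · exact sup_le inf_le_right hKL
        · exact sup_le (le_sup_of_le_left (le_inf Subgroup.le_normalizer hPL)) le_sup_right
      have h5 := relIndex_sup_of_normal (N ⊓ L) K
      rw [h4] at h5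
      have h6 : (N ⊓ L).relIndex K = ((N ⊓ L) ⊓ K).relIndex K := (Subgroup.inf_relIndex_right _ _).symm
      have h7 : (N ⊓ L) ⊓ K = N ⊓ K := by
        rw [inf_assoc, inf_eq_right.mpr hKL]
      rw [h3, h5, h6, h7, Subgroup.inf_relIndex_right]
    rw [← h2]
    exact h1

universe u

open Cfsg.Agent.Lib.Solvable.MinimalNormal in
theorem main : ∀ (n : ℕ) (G : Type u) [Group G] [Finite G], Nat.card G = n → Group.IsSolvable G →
    ∀ (p ℓ : ℕ) [Fact p.Prime], ℓ.Prime → ℓ ^ (Nat.card (Sylow p G)).factorization ℓ ≡ 1 [MOD p] := by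
  intro n
  induction n using Nat.strong_induction_on with
  | _ n ih =>
    intro G _ _ hn hG p ℓ hp hℓ
    by_cases hnt : Nontrivial G
    swap
    · rw [not_nontrivial_iff_subsingleton] at hnt
      have h1 : Nat.card (Sylow p G) = 1 := by
        rw [Sylow.card_eq_index_normalizer (default : Sylow p G)]
        have h2 := Subgroup.index_dvd_card (Subgroup.normalizer (((default : Sylow p G) : Subgroup G) : Set G))
        rw [Nat.card_unique] at h2
        exact Nat.dvd_one.mp h2
      rw [h1]
      simp [Nat.ModEq]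
    obtain ⟨K, hK⟩ := exists_isMinNormal (G := G)
    haveI hKn := hK.normal
    obtain ⟨r, hr, hKp, -, -⟩ := hK.exists_isPGroup
    haveI : Fact r.Prime := ⟨hr⟩
    let P : Sylow p G := default
    obtain ⟨h1, h2⟩ := card_sylow_eq K P
    set c := (Subgroup.normalizer ((P : Subgroup G) : Set G)).relIndex K with hc
    have hIH := ih _ (hn ▸ card_quotient_lt K hK.ne_bot) (G ⧸ K) rfl inferInstance p ℓ hℓ
    have hcne : c ≠ 0 := by
      intro h0
      have : c ∣ Nat.card K := Subgroup.relIndex_dvd_card _ _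
      rw [h0, zero_dvd_iff] at this
      exact Nat.card_pos.ne' this
    have hane : Nat.card (Sylow p (G ⧸ K)) ≠ 0 := by
      rw [Sylow.card_eq_index_normalizer (default : Sylow p (G ⧸ K))]
      exact Subgroup.index_ne_zero_of_finite
    obtain ⟨k, hk⟩ := hKp.exists_card_eq
    have hcd : c ∣ r ^ k := by
      rw [← hk]
      exact Subgroup.relIndex_dvd_card _ _
    obtain ⟨i, -, hi⟩ := (Nat.dvd_prime_pow hr).mp hcd
    rw [h1, Nat.factorization_mul hane hcne, Finsupp.add_apply, pow_add]
    have hfin : ℓ ^ c.factorization ℓ ≡ 1 [MOD p] := by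
      by_cases hℓr : ℓ = r
      · subst hℓr
        rw [hi, hℓ.factorization_pow, Finsupp.single_eq_same, ← hi]
        exact h2
      · rw [hi, hr.factorization_pow, Finsupp.single_apply, if_neg (Ne.symm hℓr)]
        simp [Nat.ModEq]
    simpa using hIH.mul hfin

/-- In a solvable group every prime-power part of a Sylow number `n_p(G)` is `≡ 1 (mod p)`. -/
theorem result {G : Type*} [Group G] [Finite G]
    (hG : Group.IsSolvable G) (p ℓ : ℕ) [Fact p.Prime] (hℓ : ℓ.Prime) :
    ℓ ^ (Nat.card (Sylow p G)).factorization ℓ ≡ 1 [MOD p] :=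
  main _ G rfl hG p ℓ hℓ

end Cfsg.Agent.S4345
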