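import Cfsg.Statements.S1567
import Mathlib
import Cfsg.Agent.Lib.Sporadic.LeechFacts
-- import your own Cfsg.Agent.* helpers here

set_option autoImplicit false
open Cfsg

namespace Cfsg.Agent.S1567

open Cfsg.Agent.Lib.Compute.Golay Cfsg.Agent.Lib.Sporadic.LeechBasic
  Cfsg.Agent.Lib.Sporadic.LeechNorm Cfsg.Agent.Lib.Sporadic.LeechFacts

theorem sqNorm_single (i : GolayPt) (a : ℤ) : sqNorm (Pi.single i a : GolayPt → ℤ) = a ^ 2 := by
  unfold sqNorm
  rw [Finset.sum_eq_single i]
  · simp
  · intro b _ hb; simp [Pi.single_eq_of_ne hb]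
  · simp

theorem dotInt_single (i j : GolayPt) (hij : i ≠ j) (a b : ℤ) :
    dotInt (Pi.single i a : GolayPt → ℤ) (Pi.single j b) = 0 := by
  unfold dotInt
  apply Finset.sum_eq_zero
  intro k _
  by_cases h : k = i
  · subst h; simp [Pi.single_eq_of_ne hij]
  · simp [Pi.single_eq_of_ne h]

theorem mem_L_of_four_dvd (x : GolayPt → ℤ) (h4 : ∀ i, (4 : ℤ) ∣ x i) (hs : (8 : ℤ) ∣ ∑ i, x i) :
    x ∈ leechLattice := by
  rw [mem_leechLattice_iff]
  refine ⟨0, Or.inl rfl, fun i => ?_, by rw [mul_zero]; exact Int.emod_eq_zero_of_dvd hs, ?_⟩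
  · have := h4 i; omega
  · have : wd x = 0 := by
      funext i
      simp only [wd, Pi.zero_apply]
      rw [ZMod.intCast_zmod_eq_zero_iff_dvd]
      push_cast
      have := h4 i; omega
    rw [this]
    exact golayCode.zero_mem

/-- The subgroup generated by the minimal vectors. -/
def L0 : AddSubgroup (GolayPt → ℤ) :=
  AddSubgroup.closure {x : Cfsg.GolayPt → ℤ | x ∈ Cfsg.leechLattice ∧ Cfsg.sqNorm x = 32}

theorem L0_le : L0 ≤ leechLattice := by
  rw [L0, AddSubgroup.closure_le]
  exact fun x hx => hx.1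

theorem single_sum (i : GolayPt) (a : ℤ) : ∑ k, (Pi.single i a : GolayPt → ℤ) k = a := by
  rw [Finset.sum_eq_single i]
  · simp
  · intro b _ hb; simp [Pi.single_eq_of_ne hb]
  · simp

/-- `4 e_i + s e_j` with `s = ± 4` is a minimal vector. -/
theorem four_four_mem (i j : GolayPt) (hij : i ≠ j) (s : ℤ) (hs : s = 4 ∨ s = -4) :
    (Pi.single i 4 + Pi.single j s : GolayPt → ℤ) ∈ L0 := by
  apply AddSubgroup.subset_closure
  refine ⟨mem_L_of_four_dvd _ ?_ ?_, ?_⟩
  · intro k
    simp only [Pi.add_apply]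
    apply dvd_add
    · by_cases h : k = i
      · subst h; simp
      · simp [Pi.single_eq_of_ne h]
    · by_cases h : k = j
      · subst h; rcases hs with rfl | rfl <;> simp
      · simp [Pi.single_eq_of_ne h]
  · simp only [Pi.add_apply, Finset.sum_add_distrib, single_sum]
    rcases hs with rfl | rfl <;> norm_num
  · rw [sqNorm_add, sqNorm_single, sqNorm_single, dotInt_single i j hij]
    rcases hs with rfl | rfl <;> norm_num

/-- (b) vectors with coordinates divisible by 4 and sum divisible by 8 are in `L0`. -/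
theorem four_dvd_mem (x : GolayPt → ℤ) (h4 : ∀ i, (4 : ℤ) ∣ x i) (hs : (8 : ℤ) ∣ ∑ i, x i) :
    x ∈ L0 := by
  let i0 : GolayPt := none
  obtain ⟨j0, hj0⟩ : ∃ j0 : GolayPt, j0 ≠ i0 := ⟨some 0, by simp [i0]⟩
  -- differences
  have hdiff : ∀ i : GolayPt, (Pi.single i 4 - Pi.single i0 4 : GolayPt → ℤ) ∈ L0 := by
    intro i
    by_cases h : i = i0
    · subst h; simp
    · have := four_four_mem i i0 h (-4) (Or.inr rfl)
      have e : (Pi.single i 4 - Pi.single i0 4 : GolayPt → ℤ) = Pi.single i 4 + Pi.single i0 (-4) := by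
        funext k
        by_cases hk : k = i0
        · subst hk; simp; ring
        · simp [Pi.single_eq_of_ne hk]
      rw [e]; exact this
  have h8 : (Pi.single i0 8 : GolayPt → ℤ) ∈ L0 := by
    have h1 := four_four_mem i0 j0 hj0.symm 4 (Or.inl rfl)
    have h2 := four_four_mem i0 j0 hj0.symm (-4) (Or.inr rfl)
    have e : (Pi.single i0 8 : GolayPt → ℤ) = (Pi.single i0 4 + Pi.single j0 4) + (Pi.single i0 4 + Pi.single j0 (-4)) := by
      funext k
      by_cases hk : k = i0
      · subst hk; simp [Pi.single_eq_of_ne hj0.symm]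
      · by_cases hk' : k = j0
        · subst hk'; simp [Pi.single_eq_of_ne hk]
        · simp [Pi.single_eq_of_ne hk, Pi.single_eq_of_ne hk']
    rw [e]; exact L0.add_mem h1 h2
  choose b hb using h4
  have hsb : ∑ i, x i = 4 * ∑ i, b i := by
    rw [Finset.mul_sum]; exact Finset.sum_congr rfl (fun i _ => hb i)
  obtain ⟨c, hc⟩ : ∃ c, ∑ i, b i = 2 * c := by
    refine ⟨(∑ i, b i) / 2, ?_⟩
    rw [hsb] at hs
    omega
  have e : x = (∑ i, (b i) • (Pi.single i 4 - Pi.single i0 4 : GolayPt → ℤ)) + c • (Pi.single i0 8 : GolayPt → ℤ) := by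
    funext k
    simp only [Pi.add_apply, Finset.sum_apply, Pi.smul_apply, Pi.sub_apply, smul_eq_mul, mul_sub,
      Finset.sum_sub_distrib, ← Finset.sum_mul, hc]
    rw [hb k]
    rw [Finset.sum_eq_single k]
    · by_cases hk : k = i0
      · subst hk; simp; ring
      · simp [Pi.single_eq_of_ne hk]; ring
    · intro l _ hl
      simp [Pi.single_eq_of_ne (Ne.symm hl)]
    · simp
  rw [e]
  exact L0.add_mem (L0.sum_mem fun i _ => L0.zsmul_mem (hdiff i) _) (L0.zsmul_mem h8 _)

/-- A basis of the code made of octads. -/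
def octBasis : List ℕ :=
  [2826278, 10486557, 4645632, 14176296, 797449, 13631886, 42232, 8593633, 806987, 10093218,
    4731956, 2365978]

theorem octBasis_spec : ∀ b ∈ octBasis, b ∈ codeMasks ∧ pop b = 8 := by
  decide +kernel

theorem basis_mem_octSpan : ∀ b ∈ basisMasks, b ∈ xorSpan octBasis := by
  decide +kernel

/-- Integer lift of a binary word. -/
def lift01 (d : GolayPt → ZMod 2) (i : GolayPt) : ℤ := ((d i).val : ℤ)

theorem lift01_cases (d : GolayPt → ZMod 2) (i : GolayPt) :
    lift01 d i = 0 ∨ lift01 d i = 1 := by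
  unfold lift01
  have : ∀ a : ZMod 2, ((a.val : ℕ) : ℤ) = 0 ∨ ((a.val : ℕ) : ℤ) = 1 := by decide
  exact this _

theorem lift01_cast (d : GolayPt → ZMod 2) (i : GolayPt) : ((lift01 d i : ℤ) : ZMod 2) = d i := by
  unfold lift01
  have : ∀ a : ZMod 2, (((a.val : ℕ) : ℤ) : ZMod 2) = a := by decide
  exact this _

theorem sum_lift01 (d : GolayPt → ZMod 2) : ∑ i, lift01 d i = ((support₂ d).card : ℤ) := by
  classical
  have : (support₂ d) = Finset.univ.filter (fun i => d i ≠ 0) := rfl
  rw [this, Finset.card_filter]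
  push_cast
  apply Finset.sum_congr rfl
  intro i _
  unfold lift01
  have : ∀ a : ZMod 2, ((a.val : ℕ) : ℤ) = if a ≠ 0 then 1 else 0 := by decide
  exact this _

theorem sum_lift01_sq (d : GolayPt → ZMod 2) : ∑ i, (2 * lift01 d i) ^ 2 = 4 * ((support₂ d).card : ℤ) := by
  rw [← sum_lift01, Finset.mul_sum]
  apply Finset.sum_congr rfl
  intro i _
  rcases lift01_cases d i with h | h <;> rw [h] <;> norm_num

/-- the predicate: a word is realized by an even vector of `L0` -/
def Realized (w : GolayPt → ZMod 2) : Prop :=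
  ∃ y ∈ L0, (∀ i, y i % 2 = 0) ∧ wd y = w

theorem realized_add {u v : GolayPt → ZMod 2} (hu : Realized u) (hv : Realized v) :
    Realized (u + v) := by
  obtain ⟨y, hy, h1, rfl⟩ := hu
  obtain ⟨z, hz, h2, rfl⟩ := hv
  refine ⟨y + z, L0.add_mem hy hz, fun i => ?_, ?_⟩
  · have := h1 i; have := h2 i; simp only [Pi.add_apply]; omega
  · funext i
    have := h1 i; have := h2 i
    simp only [wd, Pi.add_apply]
    have e : (y i + z i) / 2 = y i / 2 + z i / 2 := by omega
    rw [e]; push_cast; rfl

theorem realized_octBasis (b : ℕ) (hb : b ∈ octBasis) : Realized (maskWord b) := by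
  obtain ⟨hc, hp⟩ := octBasis_spec b hb
  have hcard : (support₂ (maskWord b)).card = 8 := by
    rw [support_maskWord, card_maskSupport, hp]
  let y : GolayPt → ℤ := fun i => 2 * lift01 (maskWord b) i
  have hwd : wd y = maskWord b := by
    funext i
    simp only [wd, y]
    have e : (2 * lift01 (maskWord b) i) / 2 = lift01 (maskWord b) i := by omega
    rw [e, lift01_cast]
  refine ⟨y, AddSubgroup.subset_closure ⟨?_, ?_⟩, fun i => by simp only [y]; omega, hwd⟩
  · rw [mem_leechLattice_iff]
    refine ⟨0, Or.inl rfl, fun i => by simp only [y]; omega, ?_,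
      by rw [hwd]; exact mem_code_of_mem_codeMasks hc⟩
    have : ∑ i, y i = 2 * ∑ i, lift01 (maskWord b) i := by
      simp only [y, Finset.mul_sum]
    rw [this, sum_lift01, hcard]
    norm_num
  · unfold sqNorm
    simp only [y]
    rw [sum_lift01_sq, hcard]
    norm_num

theorem realized_xorSpan (bs : List ℕ) (h : ∀ b ∈ bs, Realized (maskWord b)) :
    ∀ m ∈ xorSpan bs, Realized (maskWord m) := by
  induction bs with
  | nil =>
    intro m hm
    simp only [xorSpan, List.mem_singleton] at hm
    subst hm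
    rw [maskWord_zero]
    refine ⟨0, L0.zero_mem, by simp, ?_⟩
    funext i; simp [wd]
  | cons b bs ih =>
    intro m hm
    have hbs := ih (fun c hc => h c (List.mem_cons_of_mem _ hc))
    rcases mem_xorSpan_cons.mp hm with hm | ⟨y, hy, rfl⟩
    · exact hbs m hm
    · rw [maskWord_xor]
      exact realized_add (h b List.mem_cons_self) (hbs y hy)

theorem realized_code {w : GolayPt → ZMod 2} (hw : w ∈ golayCode) : Realized w := by
  obtain ⟨m, hm, rfl⟩ := exists_mask_of_mem_code hw
  apply realized_xorSpan basisMasks _ m hm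
  intro b hb
  exact realized_xorSpan octBasis realized_octBasis b (basis_mem_octSpan b hb)

/-- even vectors of the lattice lie in `L0` -/
theorem even_mem (x : GolayPt → ℤ) (hx : x ∈ leechLattice) (h2 : ∀ i, x i % 2 = 0) : x ∈ L0 := by
  have hx' := hx
  rw [mem_leechLattice_iff] at hx'
  obtain ⟨m, hm, hp, hs, hw⟩ := hx'
  obtain ⟨y, hy, hy2, hyw⟩ := realized_code hw
  have hm0 : m = 0 := by rw [← hp none, h2 none]
  subst hm0
  have hyL := L0_le hy
  have hyL' := hyL
  rw [mem_leechLattice_iff] at hyL'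
  obtain ⟨n, hn, hq, hs', _⟩ := hyL'
  have hn0 : n = 0 := by rw [← hq none, hy2 none]
  subst hn0
  have h4 : ∀ i, (4 : ℤ) ∣ (x - y) i := by
    intro i
    have e := congrFun hyw i
    simp only [wd] at e
    have e2 : ((x i / 2 - y i / 2 : ℤ) : ZMod 2) = 0 := by
      push_cast
      rw [e]
      have : ∀ a : ZMod 2, a - a = 0 := by decide
      exact this _
    rw [ZMod.intCast_zmod_eq_zero_iff_dvd] at e2
    push_cast at e2
    have h1 := h2 i
    have h3 := hy2 i
    simp only [Pi.sub_apply]
    omega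
  have hs8 : (8 : ℤ) ∣ ∑ i, (x - y) i := by
    simp only [Pi.sub_apply, Finset.sum_sub_distrib]
    omega
  have := L0.add_mem (four_dvd_mem _ h4 hs8) hy
  simpa using this

/-- The vector `(-3, 1, ..., 1)`. -/
def v0 : GolayPt → ℤ := fun i => if i = none then -3 else 1

theorem v0_mem : v0 ∈ L0 := by
  apply AddSubgroup.subset_closure
  refine ⟨?_, ?_⟩
  · rw [mem_leechLattice_iff]
    refine ⟨1, Or.inr rfl, fun i => ?_, ?_, ?_⟩
    · unfold v0; split_ifs <;> norm_num
    · decide
    · have : wd v0 = 0 := by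
        funext i
        simp only [wd, v0, Pi.zero_apply]
        split_ifs <;> norm_num
        · decide
      rw [this]
      exact golayCode.zero_mem
  · unfold sqNorm v0
    decide

/-- The rank-24 lattice is the additive subgroup generated by its 196560 minimal vectors. -/
theorem result : AddSubgroup.closure {x : Cfsg.GolayPt → ℤ | x ∈ Cfsg.leechLattice ∧ Cfsg.sqNorm x = 32} = Cfsg.leechLattice := by
  apply le_antisymm L0_le
  intro x hx
  have hx' := hx
  rw [mem_leechLattice_iff] at hx'
  obtain ⟨m, hm, hp, _, _⟩ := hx'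
  rcases hm with rfl | rfl
  · exact even_mem x hx hp
  · have hv := L0_le v0_mem
    have h1 : x - v0 ∈ L0 := by
      apply even_mem _ (leechLattice.sub_mem hx hv)
      intro i
      have := hp i
      simp only [Pi.sub_apply, v0]
      split_ifs <;> omega
    have := L0.add_mem h1 v0_mem
    simpa using this

end Cfsg.Agent.S1567
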