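import Cfsg.Statements.S0398
import Mathlib
import Cfsg.Agent.Lib.Sporadic.LeechAut
import Cfsg.Agent.Lib.Sporadic.M24Basic
-- import your own Cfsg.Agent.* helpers here

set_option autoImplicit false
open Cfsg

namespace Cfsg.Agent.S0398

open Cfsg.Agent.Lib.Compute.Golay Cfsg.Agent.Lib.Sporadic.LeechBasic
  Cfsg.Agent.Lib.Sporadic.LeechNorm Cfsg.Agent.Lib.Sporadic.LeechFacts Cfsg.Agent.Lib.Sporadic.LeechAut

/-- separating words -/
def sepMasks : List ℕ := qrMaskList ++ qrMaskList.map (fun m => onesMask ^^^ m)

theorem sepMasks_mem : ∀ m ∈ sepMasks, m ∈ codeMasks := by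
  decide +kernel

theorem sepMasks_sep : ∀ i j : GolayPt, i ≠ j → ∃ m ∈ sepMasks,
    m.testBit (ptIdx i) = true ∧ m.testBit (ptIdx j) = false := by
  decide +kernel

theorem separate (i j : GolayPt) (hij : i ≠ j) :
    ∃ c ∈ supports (golayCode : Set (GolayPt → ZMod 2)), i ∈ c ∧ j ∉ c := by
  obtain ⟨m, hm, h1, h2⟩ := sepMasks_sep i j hij
  refine ⟨maskSupport m, mem_supports_iff.mpr ⟨m, sepMasks_mem m hm, rfl⟩, ?_, ?_⟩
  · simp [maskSupport, h1]
  · simp [maskSupport, h2]

theorem exists_perm_none (i : GolayPt) : ∃ g ∈ M24, g none = i := by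
  have h5 := Cfsg.Agent.Lib.Sporadic.M24Basic.m24_fiveTrans
  have h1 : MulAction.IsMultiplyPretransitive M24 GolayPt 1 :=
    MulAction.isMultiplyPretransitive_of_le (n := 5) (by norm_num) (by simp [ENat.card_eq_coe_fintype_card, ZMod.card])
  have h2 : MulAction.IsPretransitive M24 GolayPt :=
    MulAction.is_one_pretransitive_iff.mp h1
  obtain ⟨g, hg⟩ := MulAction.exists_smul_eq M24 (none : GolayPt) i
  exact ⟨g, g.2, hg⟩

theorem central_form (f : Co0) (hf : f ∈ Subgroup.center Co0) :
    (∀ v : leechLattice, f • v = v) ∨ (∀ v : leechLattice, f • v = -v) := by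
  have comm : ∀ (g : Co0) (v : leechLattice), g • (f • v) = f • (g • v) := by
    intro g v
    rw [smul_smul, smul_smul, Subgroup.mem_center_iff.mp hf g]
  -- coordinates of the image of `8 e_i`
  have step1 : ∀ i j, i ≠ j → ((f • u8 i : leechLattice) : GolayPt → ℤ) j = 0 := by
    intro i j hij
    obtain ⟨c, hc, hic, hjc⟩ := separate i j hij
    have h1 : signCo0 c hc • u8 i = -(u8 i) := by
      apply Subtype.ext
      funext k
      rw [coe_signCo0_smul]
      simp only [signChange, coe_u8, AddSubgroup.coe_neg, Pi.neg_apply]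
      by_cases hk : k ∈ c
      · rw [if_pos hk]
      · rw [if_neg hk]
        have : k ≠ i := fun h => hk (h ▸ hic)
        simp [Pi.single_eq_of_ne this]
    have h2 := comm (signCo0 c hc) (u8 i)
    rw [h1, co0_map_neg] at h2
    have h3 := congrArg (fun v : leechLattice => (v : GolayPt → ℤ) j) h2
    simp only [coe_signCo0_smul, signChange, AddSubgroup.coe_neg, Pi.neg_apply] at h3
    rw [if_neg hjc] at h3
    omega
  let a : GolayPt → ℤ := fun i => ((f • u8 i : leechLattice) : GolayPt → ℤ) i
  have step2 : ∀ i, ((f • u8 i : leechLattice) : GolayPt → ℤ) = Pi.single i (a i) := by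
    intro i
    funext k
    by_cases hk : k = i
    · subst hk; simp [a]
    · rw [step1 i k (Ne.symm hk)]; simp [Pi.single_eq_of_ne hk]
  have step2' : ∀ i, a i ^ 2 = 64 := by
    intro i
    have h1 := co0_sqNorm f (u8 i)
    rw [step2 i, sqNorm_single, coe_u8, sqNorm_single] at h1
    rw [h1]; norm_num
  -- the action on any vector
  have step3 : ∀ (v : leechLattice) (j : GolayPt),
      8 * ((f • v : leechLattice) : GolayPt → ℤ) j = (v : GolayPt → ℤ) j * a j := by
    intro v j
    have e8 : (8 : ℤ) • v = ∑ i, ((v : GolayPt → ℤ) i) • u8 i := by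
      apply Subtype.ext
      funext k
      simp only [AddSubgroup.coe_zsmul, Pi.smul_apply, smul_eq_mul, AddSubgroup.val_finset_sum,
        Finset.sum_apply, coe_u8]
      rw [Finset.sum_eq_single k]
      · simp; ring
      · intro b _ hb; simp [Pi.single_eq_of_ne (Ne.symm hb)]
      · simp
    have h1 : (8 : ℤ) • (f • v) = ∑ i, ((v : GolayPt → ℤ) i) • (f • u8 i) := by
      rw [← co0_map_zsmul, e8, co0_map_sum]
      apply Finset.sum_congr rfl
      intro i _
      rw [co0_map_zsmul]
    have h2 := congrArg (fun w : leechLattice => (w : GolayPt → ℤ) j) h1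
    simp only [AddSubgroup.coe_zsmul, Pi.smul_apply, smul_eq_mul, AddSubgroup.val_finset_sum,
      Finset.sum_apply] at h2
    rw [h2, Finset.sum_eq_single j]
    · intro b _ hb
      rw [step1 b j hb]; simp
    · simp
  -- all the `a i` agree
  have step4 : ∀ i, a i = a none := by
    intro i
    obtain ⟨g, hg, rfl⟩ := exists_perm_none i
    have h1 : permCo0 g hg • u8 none = u8 (g none) := by
      apply Subtype.ext
      funext k
      rw [coe_permCo0_smul]
      simp only [permV, coe_u8]
      by_cases hk : k = g none
      · subst hk; simp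
      · have : g.symm k ≠ none := by
          intro h
          apply hk
          rw [← h]; simp
        simp [Pi.single_eq_of_ne this, Pi.single_eq_of_ne hk]
    have h2 := comm (permCo0 g hg) (u8 none)
    rw [h1] at h2
    have h3 := congrArg (fun v : leechLattice => (v : GolayPt → ℤ) (g none)) h2
    simp only [coe_permCo0_smul, permV] at h3
    have h4 : g.symm (g none) = none := by simp
    rw [h4] at h3
    exact h3.symm
  have h64 := step2' none
  have hcases : a none = 8 ∨ a none = -8 := by
    have : (a none - 8) * (a none + 8) = 0 := by nlinarith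
    rcases mul_eq_zero.mp this with h | h
    · left; omega
    · right; omega
  rcases hcases with h | h
  · left
    intro v
    apply Subtype.ext
    funext j
    have := step3 v j
    rw [step4 j, h] at this
    omega
  · right
    intro v
    apply Subtype.ext
    funext j
    have := step3 v j
    rw [step4 j, h] at this
    simp only [AddSubgroup.coe_neg, Pi.neg_apply]
    omega

/-- The centre of the lattice's automorphism group has order 2. -/
theorem result : Nat.card (Subgroup.center Cfsg.Co0) = 2 := by
  rw [Nat.card_eq_two_iff]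
  refine ⟨1, ⟨negCo0, negCo0_mem_center⟩, ?_, ?_⟩
  · intro h
    have := congrArg Subtype.val h
    exact negCo0_ne_one this.symm
  · ext ⟨f, hf⟩
    simp only [Set.mem_insert_iff, Set.mem_singleton_iff, Set.mem_univ, iff_true]
    rcases central_form f hf with h | h
    · left
      apply Subtype.ext
      apply Subtype.ext
      apply Equiv.ext
      intro v
      exact h v
    · right
      apply Subtype.ext
      apply Subtype.ext
      apply Equiv.ext
      intro v
      exact h v

end Cfsg.Agent.S0398
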