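import Cfsg.Statements.S1573
import Mathlib
import Cfsg.Agent.Lib.Sporadic.LeechEnum

set_option autoImplicit false
open Cfsg

namespace Cfsg.Agent.S1573

open Cfsg.Agent.Lib.Sporadic.LeechEnum

theorem h4 : cntP (fun y => Nat.beq (Nat.add (y 3) (y 5)) 4) = 4600 := by decide +kernel

theorem h6 : cntP (fun y => Nat.beq (Nat.add (y 3) (y 5)) 6) = 47104 := by decide +kernel

theorem h8 : cntP (fun y => Nat.beq (Nat.add (y 3) (y 5)) 8) = 93150 := by decide +kernel

/-- Census of minimal vectors by inner product with a fixed minimal vector: 4600 have customary inner product −2, 47104 have −1, and 93150 are orthogonal. -/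
theorem result (v : Cfsg.GolayPt → ℤ) (hv : v ∈ Cfsg.leechLattice) (hvn : Cfsg.sqNorm v = 32) : {w : Cfsg.GolayPt → ℤ | w ∈ Cfsg.leechLattice ∧ Cfsg.sqNorm w = 32 ∧ Cfsg.dotInt v w = -16}.ncard = 4600 ∧ {w : Cfsg.GolayPt → ℤ | w ∈ Cfsg.leechLattice ∧ Cfsg.sqNorm w = 32 ∧ Cfsg.dotInt v w = -8}.ncard = 47104 ∧ {w : Cfsg.GolayPt → ℤ | w ∈ Cfsg.leechLattice ∧ Cfsg.sqNorm w = 32 ∧ Cfsg.dotInt v w = 0}.ncard = 93150 := by
  refine ⟨?_, ?_, ?_⟩
  · rw [census v hv hvn 4 (-16) (by norm_num), h4]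
  · rw [census v hv hvn 6 (-8) (by norm_num), h6]
  · rw [census v hv hvn 8 0 (by norm_num), h8]

end Cfsg.Agent.S1573
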