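import Cfsg.Statements.S1694
import Cfsg.Agent.Lib.Compute.TC.SuzC.Chain
import Cfsg.Agent.Lib.Compute.TC.SuzA1.Final
import Cfsg.Agent.Lib.Compute.TC.SuzA2.Final
import Cfsg.Agent.Lib.Compute.TC.SuzA3.Final

set_option autoImplicit false
open Cfsg

namespace Cfsg.Agent.S1694

open Cfsg.Agent.Lib.Compute.ToddCoxeterCore Cfsg.Agent.Lib.Compute.ToddCoxeterPresented
  Cfsg.Agent.Lib.Compute.TCFast Cfsg.Agent.Lib.Compute.TCChain
open Cfsg.Agent.Lib.Compute.TC
open Cfsg.Spor.Suz

/-- the generators of the first step -/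
def g1 (i : Fin 6) : Gen := List.getD [Gen.a, Gen.b, Gen.c, Gen.d, Gen.e, Gen.f] i Gen.a

theorem rel1 : ∀ r ∈ SuzA1.D.rs, FreeGroup.map g1 r ∈ Suz1.D.rs := by decide +kernel
theorem rel2 : ∀ r ∈ SuzA2.D.rs, FreeGroup.map (Fin.castSucc : Fin 5 → Fin 6) r ∈ SuzA1.D.rs := by decide +kernel
theorem rel3 : ∀ r ∈ SuzA3.D.rs, FreeGroup.map (Fin.castSucc : Fin 4 → Fin 5) r ∈ SuzA2.D.rs := by decide +kernel

theorem up3 : Finite (PresentedGroup SuzA3.RR) ∧ Nat.card (PresentedGroup SuzA3.RR) ≤ 2160 := by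
  have h := card_of_index rfl SuzA3.index
  exact ⟨Nat.finite_of_card_ne_zero (by omega), h.le⟩

theorem up2 : Finite (PresentedGroup SuzA2.RR) ∧ Nat.card (PresentedGroup SuzA2.RR) ≤ 280 * 2160 := by
  refine card_le_presented (Fin.castSucc : Fin 4 → Fin 5) (fun r hr => rel3 r hr) ?_ SuzA2.index (by norm_num) up3
  intro x
  simp [SuzA2.D, Fin.exists_fin_succ]

theorem up1 : Finite (PresentedGroup SuzA1.RR) ∧ Nat.card (PresentedGroup SuzA1.RR) ≤ 416 * (280 * 2160) := by
  refine card_le_presented (Fin.castSucc : Fin 5 → Fin 6) (fun r hr => rel2 r hr) ?_ SuzA1.index (by norm_num) up2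
  intro x
  simp [SuzA1.D, Fin.exists_fin_succ]

theorem up0 : Finite (PresentedGroup Suz1.RR) ∧ Nat.card (PresentedGroup Suz1.RR) ≤ 1782 * (416 * (280 * 2160)) := by
  refine card_le_presented g1 (fun r hr => (Suz1.hR _).2 (rel1 r hr)) ?_ Suz1.index (by norm_num) up1
  intro x
  simp [Suz1.D, g1, Fin.exists_fin_succ]

theorem leOrd : Nat.card (PresentedGroup Suz1.RR) ≤ Suz1.cfg.N * (SuzC.ls.map (·.n)).prod := by
  have h := up0.2
  have h2 := SuzC.prodEq
  have h3 : Suz1.cfg.N * (SuzC.ls.map (·.n)).prod = 1782 * (SuzC.ls.map (·.n)).prod := by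
    have : Suz1.cfg.N = 1782 := by decide +kernel
    rw [this]
  omega

theorem inj : Function.Injective (phiG Suz1.hR Suz1.small Suz1.big Suz1.hgens) ∧
    Nat.card (PresentedGroup Suz1.RR) = 448345497600 := by
  haveI := up0.1
  have h2 := SuzC.prodEq
  have h3 : Suz1.cfg.N * (SuzC.ls.map (·.n)).prod = 1782 * (SuzC.ls.map (·.n)).prod := by
    have : Suz1.cfg.N = 1782 := by decide +kernel
    rw [this]
  exact phi_inj Suz1.hR Suz1.small Suz1.big Suz1.hgens (n := 448345497600) (by simpa using up0.2)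
    SuzC.next0 SuzC.ls SuzC.fix0 SuzC.chainOK (by omega)

/-- The presented sporadic Suzuki group is simple of the expected order (that is, it is a simple group of the order of the sporadic Suzuki group). -/
theorem result : Cfsg.IsSuz Cfsg.Spor.Suz := by
  haveI := up0.1
  refine ⟨?_, inj.2⟩
  obtain ⟨q, ⟨h0, h1, h2⟩, hd⟩ := Suz1.orbitsAll
  refine simple_of_base Suz1.hR Suz1.small Suz1.big Suz1.hgens inj.1 SuzC.next0 SuzC.ls SuzC.fix0 SuzC.chainOK
    leOrd (k := 3) q (fun d => List.getD [1, 1365, 416] d 0) ?_ hd (by decide +kernel) (by decide) rfl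
    (by intro d h h'; interval_cases d <;> decide) (by decide +kernel) (p := 11) (a := 1) (b := 1) (by norm_num) (by decide +kernel) ?_ SuzC.rr SuzC.rPow
    0 (by decide +kernel) SuzC.rNe SuzC.ds SuzC.dsOK
  · intro d hd'
    interval_cases d
    · exact h0
    · exact h1
    · exact h2
  · rw [inj.2]
    norm_num

end Cfsg.Agent.S1694
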