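import Cfsg.Statements.S0738
import Mathlib
-- import your own Cfsg.Agent.* helpers here

set_option autoImplicit false
open Cfsg

namespace Cfsg.Agent.S0738

open MulAction
open scoped Pointwise

/-- A group acted on freely (on non-identity elements) by a group `H` with at most two orbits on
non-identity elements is abelian of prime exponent. -/
theorem elem_abelian_of_two_orbits {F H : Type*} [Group F] [Group H] [Finite F] [Finite H]
    [MulDistribMulAction H F] (hfree : ∀ (h : H) (u : F), h • u = u → h = 1 ∨ u = 1)
    (hd : Nat.card F - 1 ≤ 2 * Nat.card H) (hne : Nontrivial F) :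
    (∀ a b : F, a * b = b * a) ∧ ∃ p : ℕ, p.Prime ∧ ∀ u : F, u ^ p = 1 := by
  classical
  haveI := Fintype.ofFinite F
  haveI := Fintype.ofFinite H
  set n := Nat.card F with hn
  set d := Nat.card H with hdd
  have hdpos : 0 < d := Nat.card_pos
  have hnpos : 1 < n := Finite.one_lt_card
  -- orbits
  let O : F → Finset F := fun u => Finset.univ.image (fun h : H => h • u)
  have hOcard : ∀ u : F, u ≠ 1 → (O u).card = d := by
    intro u hu
    rw [Finset.card_image_of_injective, Finset.card_univ, ← Nat.card_eq_fintype_card]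
    intro h₁ h₂ h12
    have h3 : (h₂⁻¹ * h₁) • u = u := by
      rw [mul_smul]
      simp only at h12
      rw [h12, inv_smul_smul]
    rcases hfree _ _ h3 with h4 | h4
    · rw [inv_mul_eq_one] at h4
      exact h4.symm
    · exact absurd h4 hu
  have hOne : ∀ u : F, u ≠ 1 → ∀ v ∈ O u, v ≠ 1 := by
    intro u hu v hv
    obtain ⟨h, -, rfl⟩ := Finset.mem_image.mp hv
    intro h1
    apply hu
    have := congrArg (fun w => h⁻¹ • w) h1
    simpa using this
  -- the prime
  obtain ⟨p, hp, hpd⟩ := Nat.exists_prime_and_dvd hnpos.ne'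
  haveI : Fact p.Prime := ⟨hp⟩
  obtain ⟨x, hx⟩ := exists_prime_orderOf_dvd_card' (G := F) p hpd
  have hx1 : x ≠ 1 := by
    intro h
    rw [h, orderOf_one] at hx
    exact hp.one_lt.ne hx
  have hxp : x ^ p = 1 := by
    rw [← hx]
    exact pow_orderOf_eq_one x
  -- the center is large as soon as it contains a non-identity element of an orbit
  have hcenter : ∀ z : F, z ≠ 1 → z ∈ Subgroup.center F → ∀ a b : F, a * b = b * a := by
    intro z hz hzc
    have hsub : insert 1 (O z) ⊆ Finset.univ.filter (fun w => w ∈ Subgroup.center F) := by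
      intro w hw
      simp only [Finset.mem_insert] at hw
      simp only [Finset.mem_filter, Finset.mem_univ, true_and]
      rcases hw with rfl | hw
      · exact Subgroup.one_mem _
      · obtain ⟨h, -, rfl⟩ := Finset.mem_image.mp hw
        rw [Subgroup.mem_center_iff]
        intro g
        have h1 := Subgroup.mem_center_iff.mp hzc (h⁻¹ • g)
        have h2 := congrArg (fun w => h • w) h1
        simpa [smul_mul'] using h2
    have hcard1 : d + 1 ≤ Nat.card (Subgroup.center F) := by
      have h1 := Finset.card_le_card hsub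
      rw [Finset.card_insert_of_notMem (fun h => hOne z hz 1 h rfl), hOcard z hz] at h1
      rw [Nat.card_eq_fintype_card, Fintype.card_subtype]
      exact h1
    have htop : Subgroup.center F = ⊤ := by
      by_contra hne'
      have h2 : (Subgroup.center F).index ≠ 1 := by
        rw [Ne, Subgroup.index_eq_one]
        exact hne'
      have h3 := Subgroup.card_mul_index (Subgroup.center F)
      have h4 : 2 ≤ (Subgroup.center F).index := by
        have := Subgroup.index_ne_zero_of_finite (H := Subgroup.center F)
        omega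
      have h5 : 2 * (d + 1) ≤ n := by
        calc 2 * (d + 1) ≤ (Subgroup.center F).index * Nat.card (Subgroup.center F) :=
              Nat.mul_le_mul h4 hcard1
          _ = n := by rw [mul_comm]; exact h3
      omega
    intro a b
    have : a ∈ Subgroup.center F := by
      rw [htop]
      exact Subgroup.mem_top a
    exact (Subgroup.mem_center_iff.mp this b).symm
  by_cases hall : ∀ u : F, u ^ p = 1
  · -- a `p`-group
    have hpg : IsPGroup p F := fun g => ⟨1, by simpa using hall g⟩
    haveI := hpg.center_nontrivial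
    obtain ⟨z, hz⟩ := exists_ne (1 : Subgroup.center F)
    have hz1 : (z : F) ≠ 1 := fun h => hz (Subtype.ext h)
    exact ⟨hcenter z hz1 z.prop, p, hp, hall⟩
  exfalso
  push Not at hall
  obtain ⟨y, hy⟩ := hall
  have hy1 : y ≠ 1 := by
    rintro rfl
    exact hy (one_pow p)
  have hdisj : Disjoint (O x) (O y) := by
    rw [Finset.disjoint_left]
    intro w hw1 hw2
    obtain ⟨h₁, -, rfl⟩ := Finset.mem_image.mp hw1
    obtain ⟨h₂, -, h2⟩ := Finset.mem_image.mp hw2
    apply hy
    have h3 : h₂ • (y ^ p) = h₁ • (x ^ p) := by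
      rw [smul_pow', smul_pow']
      have h2' : h₂ • y = h₁ • x := h2
      rw [h2']
    rw [hxp, smul_one] at h3
    have h4 := congrArg (fun w => h₂⁻¹ • w) h3
    simpa using h4
  have hT : insert 1 (O x ∪ O y) = Finset.univ := by
    apply Finset.eq_univ_of_card
    have h1 : (insert 1 (O x ∪ O y)).card = 1 + 2 * d := by
      rw [Finset.card_insert_of_notMem, Finset.card_union_of_disjoint hdisj, hOcard x hx1,
        hOcard y hy1]
      · ring
      · intro h
        rcases Finset.mem_union.mp h with h | h
        · exact hOne x hx1 1 h rfl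
        · exact hOne y hy1 1 h rfl
    have h2 : (insert 1 (O x ∪ O y)).card ≤ Fintype.card F := Finset.card_le_univ _
    rw [← Nat.card_eq_fintype_card] at h2 ⊢
    omega
  have hn2 : n = 1 + 2 * d := by
    have h1 : (insert 1 (O x ∪ O y)).card = 1 + 2 * d := by
      rw [Finset.card_insert_of_notMem, Finset.card_union_of_disjoint hdisj, hOcard x hx1,
        hOcard y hy1]
      · ring
      · intro h
        rcases Finset.mem_union.mp h with h | h
        · exact hOne x hx1 1 h rfl
        · exact hOne y hy1 1 h rfl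
    rw [hT, Finset.card_univ, ← Nat.card_eq_fintype_card] at h1
    exact h1
  -- elements of `O x` are exactly the non-identity solutions of `u ^ p = 1`
  have hOx : ∀ w : F, w ∈ O x ↔ w ≠ 1 ∧ w ^ p = 1 := by
    intro w
    constructor
    · intro hw
      refine ⟨hOne x hx1 w hw, ?_⟩
      obtain ⟨h, -, rfl⟩ := Finset.mem_image.mp hw
      rw [← smul_pow', hxp, smul_one]
    · rintro ⟨hw1, hwp⟩
      have hw : w ∈ insert 1 (O x ∪ O y) := by
        rw [hT]
        exact Finset.mem_univ w
      simp only [Finset.mem_insert, Finset.mem_union] at hw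
      rcases hw with h | h | h
      · exact absurd h hw1
      · exact h
      · exfalso
        obtain ⟨h₂, -, h2⟩ := Finset.mem_image.mp h
        apply hy
        have h3 : h₂ • (y ^ p) = 1 := by
          rw [smul_pow']
          have h2' : h₂ • y = w := h2
          rw [h2', hwp]
        have h4 := congrArg (fun w => h₂⁻¹ • w) h3
        simpa using h4
  -- `F` acts by conjugation on the set `S` of elements of order `p`
  let S := {w : F // w ≠ 1 ∧ w ^ p = 1}
  have hSmem : ∀ (u w : F), (w ≠ 1 ∧ w ^ p = 1) → (u * w * u⁻¹ ≠ 1 ∧ (u * w * u⁻¹) ^ p = 1) := by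
    rintro u w ⟨hw1, hwp⟩
    refine ⟨?_, ?_⟩
    · intro h
      apply hw1
      have : u⁻¹ * (u * w * u⁻¹) * u = u⁻¹ * 1 * u := by rw [h]
      simpa [mul_assoc] using this
    · rw [conj_pow, hwp]
      simp
  letI : MulAction F S :=
    { smul := fun u w => ⟨u * w.1 * u⁻¹, hSmem u w.1 w.2⟩
      one_smul := fun w => Subtype.ext (by change 1 * w.1 * 1⁻¹ = w.1; simp)
      mul_smul := fun u v w => Subtype.ext (by
        change (u * v) * w.1 * (u * v)⁻¹ = u * (v * w.1 * v⁻¹) * u⁻¹
        simp [mul_assoc]) }
  have hsmul : ∀ (u : F) (w : S), ((u • w : S) : F) = u * w.1 * u⁻¹ := fun _ _ => rfl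
  have hScard : Nat.card S = d := by
    rw [← hOcard x hx1, Nat.card_eq_fintype_card, Fintype.card_subtype]
    congr 1
    ext w
    simp only [Finset.mem_filter, Finset.mem_univ, true_and]
    exact (hOx w).symm
  let x₀ : S := ⟨x, hx1, hxp⟩
  set c := Nat.card (orbit F x₀) with hc
  have horb : ∀ w : S, Nat.card (orbit F w) = c := by
    intro w
    have hw := (hOx w.1).mpr w.2
    obtain ⟨h, -, hh⟩ := Finset.mem_image.mp hw
    have hst : Nat.card (stabilizer F w) = Nat.card (stabilizer F x₀) := by
      refine Nat.card_congr ⟨fun u => ⟨h⁻¹ • u.1, ?_⟩, fun u => ⟨h • u.1, ?_⟩, ?_, ?_⟩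
      · have hu := u.2
        rw [mem_stabilizer_iff] at hu ⊢
        apply Subtype.ext
        rw [hsmul]
        have hu' : u.1 * w.1 * u.1⁻¹ = w.1 := congrArg Subtype.val hu
        have hh' : h • x = w.1 := hh
        have : h⁻¹ • (u.1 * w.1 * u.1⁻¹) = h⁻¹ • w.1 := by rw [hu']
        rw [← hh'] at this
        simpa [smul_mul', smul_inv'] using this
      · have hu := u.2
        rw [mem_stabilizer_iff] at hu ⊢
        apply Subtype.ext
        rw [hsmul]
        have hu' : u.1 * x * u.1⁻¹ = x := congrArg Subtype.val hu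
        have hh' : h • x = w.1 := hh
        rw [← hh']
        have : h • (u.1 * x * u.1⁻¹) = h • x := by rw [hu']
        simpa [smul_mul', smul_inv'] using this
      · intro u
        apply Subtype.ext
        simp
      · intro u
        apply Subtype.ext
        simp
    have h1 := card_orbit_mul_card_stabilizer_eq_card_group F w
    have h2 := card_orbit_mul_card_stabilizer_eq_card_group F x₀
    simp only [Nat.card_eq_fintype_card] at hst hc ⊢
    have h3 : 0 < Fintype.card (stabilizer F x₀) := Fintype.card_pos
    rw [hst] at h1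
    rw [hc]
    exact Nat.eq_of_mul_eq_mul_right h3 (h1.trans h2.symm)
  have hcS : c ∣ Nat.card S := by
    have : Fintype (orbitRel.Quotient F S) := Fintype.ofFinite _
    rw [Nat.card_congr (MulAction.selfEquivSigmaOrbits F S), Nat.card_sigma]
    apply Finset.dvd_sum
    intro ω _
    rw [← horb ω.out]
  have hcn : c ∣ n := by
    have h1 := card_orbit_mul_card_stabilizer_eq_card_group F x₀
    rw [hn, Nat.card_eq_fintype_card, ← h1, hc, Nat.card_eq_fintype_card]
    exact dvd_mul_right _ _
  have hc1 : c = 1 := by
    rw [hScard] at hcS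
    rw [hn2] at hcn
    have h1 : c ∣ 1 := (Nat.dvd_add_left (hcS.mul_left 2)).mp hcn
    exact Nat.dvd_one.mp h1
  have hxc : x ∈ Subgroup.center F := by
    rw [Subgroup.mem_center_iff]
    intro u
    have hs : Subsingleton (orbit F x₀) := (Nat.card_eq_one_iff_unique.mp (hc.symm.trans hc1)).1
    have : (u • x₀) = x₀ := by
      have := hs.elim ⟨u • x₀, mem_orbit _ _⟩ ⟨x₀, mem_orbit_self _⟩
      exact congrArg Subtype.val this
    have h2 : u * x * u⁻¹ = x := congrArg Subtype.val this
    rw [mul_inv_eq_iff_eq_mul] at h2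
    exact h2
  have hcomm := hcenter x hx1 hxc
  -- now `{w | w ^ p = 1}` is a subgroup of order `d + 1`
  let T : Subgroup F :=
    { carrier := {w | w ^ p = 1}
      mul_mem' := by
        intro a b ha hb
        have : Commute a b := hcomm a b
        simp only [Set.mem_setOf_eq] at ha hb ⊢
        rw [this.mul_pow, ha, hb, one_mul]
      one_mem' := by simp
      inv_mem' := by
        intro a ha
        simp only [Set.mem_setOf_eq] at ha ⊢
        rw [inv_pow, ha, inv_one] }
  have hTcard : Nat.card T = d + 1 := by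
    have : Nat.card T = (insert 1 (O x)).card := by
      rw [Nat.card_eq_fintype_card, Fintype.card_subtype]
      congr 1
      ext w
      simp only [Finset.mem_filter, Finset.mem_univ, true_and, Finset.mem_insert, hOx]
      change w ^ p = 1 ↔ _
      constructor
      · intro h
        by_cases hw : w = 1
        · exact Or.inl hw
        · exact Or.inr ⟨hw, h⟩
      · rintro (rfl | h)
        · simp
        · exact h.2
    rw [this, Finset.card_insert_of_notMem (fun h => hOne x hx1 1 h rfl), hOcard x hx1]
  have hdvd : d + 1 ∣ 1 + 2 * d := by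
    rw [← hTcard, ← hn2]
    exact Subgroup.card_subgroup_dvd_card T
  have h1 : d + 1 ∣ 1 := by
    have h2 : d + 1 ∣ 2 * (d + 1) := dvd_mul_left _ _
    have h3 : 2 * (d + 1) = (1 + 2 * d) + 1 := by ring
    rw [h3] at h2
    exact (Nat.dvd_add_right hdvd).mp h2
  have := Nat.dvd_one.mp h1
  omega

/-- Let a finite Zassenhaus group of degree `n + 1` have two-point stabilisers of order `d` with `2d ≥ n - 1`. Then a normal subgroup of a point stabiliser acting regularly on the remaining points is elementary abelian, and the degree is a prime power plus one. -/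
theorem result {G Ω : Type*} [Group G] [Finite G] [MulAction G Ω] [Fintype Ω] (hZ : Cfsg.IsZassenhausGroup G Ω) {a b : Ω} (hab : a ≠ b) (hd : Fintype.card Ω - 2 ≤ 2 * Nat.card ↥(MulAction.stabilizer G a ⊓ MulAction.stabilizer G b)) (F : Subgroup G) (hFle : F ≤ MulAction.stabilizer G a) (hFn : (F.subgroupOf (MulAction.stabilizer G a)).Normal) (hreg : ∀ y z : Ω, y ≠ a → z ≠ a → ∃! u : F, (u : G) • y = z) : IsMulCommutative F ∧ ∃ p f : ℕ, p.Prime ∧ (∀ u ∈ F, u ^ p = 1) ∧ Fintype.card Ω = p ^ f + 1 := by
  classical
  obtain ⟨hfaith, h2t, h3, ⟨g₀, hg₀, a₀, b₀, hab₀, hga₀, hgb₀⟩, -⟩ := hZ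
  haveI hFnn := hFn
  have hconj : ∀ (h : G), h ∈ stabilizer G a → ∀ u ∈ F, h * u * h⁻¹ ∈ F := by
    intro h hh u hu
    have hu' : (⟨u, hFle hu⟩ : stabilizer G a) ∈ F.subgroupOf (stabilizer G a) := by
      rw [Subgroup.mem_subgroupOf]
      exact hu
    have := hFn.conj_mem _ hu' ⟨h, hh⟩
    rw [Subgroup.mem_subgroupOf] at this
    simpa using this
  let H : Subgroup G := stabilizer G a ⊓ stabilizer G b
  letI : MulDistribMulAction H F :=
    { smul := fun h u => ⟨h.1 * u.1 * h.1⁻¹, hconj h.1 h.2.1 u.1 u.2⟩
      one_smul := fun u => Subtype.ext (by change 1 * u.1 * 1⁻¹ = u.1; simp)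
      mul_smul := fun h k u => Subtype.ext (by
        change (h.1 * k.1) * u.1 * (h.1 * k.1)⁻¹ = h.1 * (k.1 * u.1 * k.1⁻¹) * h.1⁻¹
        simp [mul_assoc])
      smul_mul := fun h u v => Subtype.ext (by
        change h.1 * (u.1 * v.1) * h.1⁻¹ = (h.1 * u.1 * h.1⁻¹) * (h.1 * v.1 * h.1⁻¹)
        simp [mul_assoc])
      smul_one := fun h => Subtype.ext (by
        change h.1 * 1 * h.1⁻¹ = 1
        simp) }
  have hsm : ∀ (h : H) (u : F), ((h • u : F) : G) = h.1 * u.1 * h.1⁻¹ := fun _ _ => rfl
  have hb : b ≠ a := hab.symm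
  have hfree : ∀ (h : H) (u : F), h • u = u → h = 1 ∨ u = 1 := by
    intro h u hu
    by_cases hu1 : u = 1
    · exact Or.inr hu1
    left
    have hu' : h.1 * u.1 * h.1⁻¹ = u.1 := congrArg Subtype.val hu
    have hha : h.1 • a = a := h.2.1
    have hhb : h.1 • b = b := h.2.2
    have hua : u.1 • a = a := hFle u.2
    have hub : u.1 • b ≠ b := by
      intro hh
      obtain ⟨v, -, hv⟩ := hreg b b hb hb
      have h1 := hv u hh
      have h2 := hv 1 (by simp)
      exact hu1 (h1.trans h2.symm)
    have huba : u.1 • b ≠ a := by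
      intro hh
      apply hb
      have := congrArg (fun w => u.1⁻¹ • w) hh
      have hua' : u.1⁻¹ • a = a := by
        rw [inv_smul_eq_iff]
        exact hua.symm
      simpa [hua'] using this
    have hfix : h.1 • (u.1 • b) = u.1 • b := by
      have h4 : h.1 * u.1 = u.1 * h.1 := by
        rw [mul_inv_eq_iff_eq_mul] at hu'
        exact hu'
      rw [smul_smul, h4, mul_smul, hhb]
    have := h3 h.1 a b (u.1 • b) hab (Ne.symm hub) (Ne.symm huba) hha hhb hfix
    exact Subtype.ext this
  -- `|F| = |Ω| - 1`
  have hcardF : Nat.card F + 1 = Fintype.card Ω := by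
    have e : F ≃ {z : Ω // z ≠ a} := by
      refine Equiv.ofBijective (fun u => ⟨u.1 • b, ?_⟩) ⟨?_, ?_⟩
      · intro hh
        apply hb
        have := congrArg (fun w => u.1⁻¹ • w) hh
        have hua : u.1⁻¹ • a = a := by
          rw [inv_smul_eq_iff]
          exact (hFle u.2).symm
        simpa [hua] using this
      · intro u v huv
        have huv' : u.1 • b = v.1 • b := congrArg Subtype.val huv
        obtain ⟨w, -, hw⟩ := hreg b (u.1 • b) hb (by
          intro hh
          apply hb
          have := congrArg (fun w => u.1⁻¹ • w) hh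
          have hua : u.1⁻¹ • a = a := by
            rw [inv_smul_eq_iff]
            exact (hFle u.2).symm
          simpa [hua] using this)
        exact (hw u rfl).trans (hw v huv'.symm).symm
      · rintro ⟨z, hz⟩
        obtain ⟨u, hu, -⟩ := hreg b z hb hz
        exact ⟨u, Subtype.ext hu⟩
    rw [Nat.card_congr e, Nat.card_eq_fintype_card, Fintype.card_subtype_compl, Fintype.card_subtype_eq]
    have : 1 ≤ Fintype.card Ω := Fintype.card_pos_iff.mpr ⟨a⟩
    omega
  have hne : Nontrivial F := by
    by_contra hnt
    rw [not_nontrivial_iff_subsingleton] at hnt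
    apply hg₀
    apply hfaith.eq_of_smul_eq_smul
    intro z
    rw [one_smul]
    -- every point is `a` or `b`
    have hall : ∀ w : Ω, w = a ∨ w = b := by
      intro w
      by_cases hw : w = a
      · exact Or.inl hw
      right
      obtain ⟨u, hu, -⟩ := hreg b w hb hw
      have : u = 1 := Subsingleton.elim _ _
      rw [this] at hu
      simpa using hu.symm
    rcases hall a₀ with h1 | h1 <;> rcases hall b₀ with h2 | h2 <;> rcases hall z with h3' | h3'
    all_goals first
      | exact absurd (h1.trans h2.symm) hab₀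
      | (subst_vars; assumption)
  have hdd : Nat.card F - 1 ≤ 2 * Nat.card H := by
    have : Nat.card F - 1 = Fintype.card Ω - 2 := by omega
    rw [this]
    exact hd
  obtain ⟨hcomm, p, hp, hexp⟩ := elem_abelian_of_two_orbits hfree hdd hne
  haveI : Fact p.Prime := ⟨hp⟩
  have hpg : IsPGroup p F := fun g => ⟨1, by simpa using hexp g⟩
  obtain ⟨f, hf⟩ := IsPGroup.iff_card.mp hpg
  refine ⟨⟨⟨fun u v => hcomm u v⟩⟩, p, f, hp, ?_, ?_⟩
  · intro u hu
    have := hexp ⟨u, hu⟩
    exact congrArg Subtype.val this
  · rw [← hcardF, hf]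

end Cfsg.Agent.S0738
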