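import Cfsg.Statements.S1137
import Mathlib
import Cfsg.Agent.Lib.PGroup.SuzukiTwo.Bridge

set_option autoImplicit false
open Cfsg

namespace Cfsg.Agent.S1137

/-- In a Suzuki 2-group `P` (a finite non-abelian 2-group with more than one involution admitting a cyclic group of automorphisms regular on its involutions) the involutions are exactly the non-identity central elements, and `Z(P)` is elementary abelian. -/
theorem result {P : Type*} [Group P] (hP : Cfsg.IsSuzukiTwoGroup P) :
    (∀ x : P, (x ≠ 1 ∧ x * x = 1) ↔ (x ∈ Subgroup.center P ∧ x ≠ 1)) ∧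
      ∀ z ∈ Subgroup.center P, z * z = 1 := by
  open Cfsg.Agent.Lib.PGroup.SuzukiTwo in
  obtain ⟨ξ, q, S⟩ := exists_setup hP
  obtain ⟨u, v, huv⟩ := hP.2.2.1
  have hsq : ∀ x : P, x * x ∈ S.Om := by
    rcases core S with h | h
    · exact absurd (h u v) huv
    · exact h
  have hcen : ∀ z ∈ Subgroup.center P, z * z = 1 := by
    intro z hz
    exact S.center_sub (H := ⊤) (fun _ _ => trivial) (fun x _ => hsq x)
      ⟨u, trivial, v, trivial, huv⟩ trivial (fun w _ => Subgroup.mem_center_iff.mp hz w)
  refine ⟨fun x => ⟨fun h => ⟨Subgroup.mem_center_iff.mpr (fun g => S.invol_central h.1 h.2 g), h.1⟩,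
    fun h => ⟨h.2, hcen x h.1⟩⟩, hcen⟩

end Cfsg.Agent.S1137
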