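import Cfsg.Statements.S1138
import Mathlib
import Cfsg.Agent.Lib.PGroup.SuzukiTwo.Struct

set_option autoImplicit false
open Cfsg

open scoped commutatorElement

namespace Cfsg.Agent.S1138

/-- Let `P` be a Suzuki 2-group with `|Z(P)| = q`. Then every square lies in `Z(P)` and `P/Z(P)` is abelian (so elementary abelian), `|P| = q²` or `|P| = q³`, and `P` has exponent 4. -/
theorem result {P : Type*} [Group P] (hP : Cfsg.IsSuzukiTwoGroup P) :
    (∀ x : P, x * x ∈ Subgroup.center P) ∧ (∀ x y : P, x⁻¹ * y⁻¹ * x * y ∈ Subgroup.center P) ∧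
      (Nat.card P = Nat.card (Subgroup.center P) ^ 2 ∨ Nat.card P = Nat.card (Subgroup.center P) ^ 3) ∧
      Monoid.exponent P = 4 := by
  classical
  open Cfsg.Agent.Lib.PGroup.SuzukiTwo in
  obtain ⟨ξ, q, S⟩ := exists_setup hP
  obtain ⟨hu, hv, huv⟩ := hP.2.2.1
  have hna : ∃ u v : P, u * v ≠ v * u := ⟨hu, hv, huv⟩
  have hsq : ∀ x : P, x * x ∈ S.Om := by
    rcases core S with h | h
    · exact absurd (h hu hv) huv
    · exact h
  obtain ⟨m, hqm, hm2⟩ := S.exists_m
  obtain ⟨K, _, _, _, hK⟩ := exists_field hqm (by omega)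
  have hcen := S.center_eq hsq hna
  have hcard : Nat.card (Subgroup.center P) = q := by
    rw [hcen, S.card_Om]
  have hω : ∀ x y : P, ⁅x, y⁆ ∈ S.Om := fun x y =>
    S.comm_mem_of_sq (hsq x) (hsq y) (hsq _)
  refine ⟨fun x => ?_, fun x y => ?_, ?_, ?_⟩
  · rw [hcen]
    exact hsq x
  · rw [hcen]
    have := hω x⁻¹ y⁻¹
    rw [commutatorElement_def] at this
    simpa using this
  · rw [hcard]
    exact S.card_cases hK hsq hna
  · haveI := S.fin
    have h4 : ∀ x : P, x ^ 4 = 1 := by
      intro x
      have : x ^ 4 = (x * x) * (x * x) := by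
        simp only [pow_succ, pow_zero, one_mul, mul_assoc]
      rw [this]
      exact hsq x
    have hdvd : Monoid.exponent P ∣ 4 := Monoid.exponent_dvd_of_forall_pow_eq_one h4
    -- some square is nontrivial
    obtain ⟨x₀, hx₀⟩ : ∃ x : P, x * x ≠ 1 := by
      by_contra hcon
      push Not at hcon
      apply huv
      have h1 : hu * hv * (hu * hv) = 1 := hcon _
      have h2 : hu * hu = 1 := hcon _
      have h3 : hv * hv = 1 := hcon _
      calc hu * hv = hu * hv * (hv * hu) * (hv * hu)⁻¹ := by group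
        _ = _ := by
          have e1 : (hu * hv) * (hv * hu) = 1 := by
            calc (hu * hv) * (hv * hu) = hu * (hv * hv) * hu := by group
              _ = hu * hu := by rw [h3, mul_one]
              _ = 1 := h2
          have e2 : (hv * hu) * (hv * hu) = 1 := hcon _
          have e3 : (hv * hu)⁻¹ = hv * hu := inv_eq_of_mul_eq_one_left e2
          rw [e1, e3, one_mul]
    have hnot2 : ¬ Monoid.exponent P ∣ 2 := by
      intro h
      obtain ⟨c, hc⟩ := h
      apply hx₀
      rw [← pow_two, hc, pow_mul, Monoid.pow_exponent_eq_one, one_pow]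
    obtain ⟨k, hk, hke⟩ := (Nat.dvd_prime_pow Nat.prime_two).mp (by simpa using hdvd : Monoid.exponent P ∣ 2 ^ 2)
    have hk2 : k = 2 := by
      by_contra hne
      apply hnot2
      rw [hke]
      exact pow_dvd_pow 2 (by omega : k ≤ 1) |>.trans (by norm_num)
    rw [hke, hk2]
    norm_num

end Cfsg.Agent.S1138
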