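import Cfsg.Statements.S1139
import Mathlib
import Cfsg.Agent.Lib.PGroup.SuzukiTwo.Struct
import Cfsg.Agent.Lib.PGroup.SuzukiTwo.TypeA
import Cfsg.Agent.Lib.PGroup.SuzukiTwo.Iso
import Cfsg.Agent.Lib.PGroup.SuzukiTwo.Quad

set_option autoImplicit false
open Cfsg

set_option linter.style.haveILetI false
set_option linter.unusedSectionVars false
set_option linter.unusedVariables false

open scoped commutatorElement

namespace Cfsg.Agent.S1139

open Cfsg.Agent.Lib.PGroup.SuzukiTwo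

theorem xc_one {F : Type*} [Field F] (φ : F →+* F) : xc φ (1 : Cfsg.suzukiTypeA F φ) = 0 := by
  have h := xc_mul φ (1 : Cfsg.suzukiTypeA F φ) 1
  rw [mul_one] at h
  have : xc φ (1 : Cfsg.suzukiTypeA F φ) + xc φ (1 : Cfsg.suzukiTypeA F φ)
      = xc φ (1 : Cfsg.suzukiTypeA F φ) + 0 := by rw [add_zero]; exact h.symm
  exact add_left_cancel this

theorem yc_one {F : Type*} [Field F] (φ : F →+* F) : yc φ (1 : Cfsg.suzukiTypeA F φ) = 0 := by
  have h := yc_mul φ (1 : Cfsg.suzukiTypeA F φ) 1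
  rw [mul_one, xc_one, mul_zero, add_zero] at h
  have : yc φ (1 : Cfsg.suzukiTypeA F φ) + yc φ (1 : Cfsg.suzukiTypeA F φ)
      = yc φ (1 : Cfsg.suzukiTypeA F φ) + 0 := by rw [add_zero]; exact h.symm
  exact add_left_cancel this

/-- The centre of the group of type `A`. -/
def zA {F : Type*} [Field F] (φ : F →+* F) : Subgroup (Cfsg.suzukiTypeA F φ) where
  carrier := {a | xc φ a = 0}
  one_mem' := xc_one φ
  mul_mem' := by
    intro a b ha hb
    show xc φ (a * b) = 0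
    rw [xc_mul, show xc φ a = 0 from ha, show xc φ b = 0 from hb, add_zero]
  inv_mem' := by
    intro a ha
    show xc φ a⁻¹ = 0
    have h := xc_mul φ a a⁻¹
    rw [mul_inv_cancel, xc_one, show xc φ a = 0 from ha, zero_add] at h
    exact h.symm

/-- The coordinates of the group once the quadratic form is known. -/
theorem iso_typeA {P : Type*} [Group P] [Finite P] {K : Type} [Field K] [Fintype K] [CharP K 2]
    {ξ : P →* P} {q : ℕ} (S : Setup ξ q) (f θ : P → K) (μ l : K)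
    (hf : Coord ξ ⊤ S.Om f μ) (hθ : Coord ξ S.Om ⊥ θ l) (hsq : ∀ x : P, x * x ∈ S.Om)
    (c : K) (σ φ : K ≃+* K) (hc : c ≠ 0)
    (hQ : ∀ x : P, θ (x * x) = c * (σ (f x) * φ (σ (f x)))) :
    Nonempty (P ≃* Cfsg.suzukiTypeA K (φ : K →+* K)) := by
  classical
  have h2 : (2 : K) = 0 := CharTwo.two_eq_zero
  haveI : Finite (Cfsg.suzukiTypeA K (φ : K →+* K)) := inferInstance
  refine iso_of_squares (F := K)
    (fun x => σ (f x)) (xc (φ : K →+* K)) S.Om (zA (φ : K →+* K))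
    (fun x => c⁻¹ * θ x) (yc (φ : K →+* K)) ?_ (xc_mul _) ?_ ?_ ?_ (fun _ => Iff.rfl) ?_ ?_ ?_ ?_ ?_ ?_ ?_ ?_ hsq ?_ ?_
  · intro x y
    rw [hf.add x trivial y trivial, map_add]
  · intro u
    obtain ⟨x, -, hx⟩ := hf.surj (σ.symm u)
    exact ⟨x, by simp [hx]⟩
  · intro u
    exact ⟨⟨glA _ u 0, glA_mem _ u 0⟩, xc_mk _ u 0⟩
  · intro x
    rw [← hf.ker x trivial]
    exact map_eq_zero_iff σ σ.injective
  · exact fun z hz g => S.Om_central hz g
  · intro z hz g
    have hz0 : xc (φ : K →+* K) z = 0 := hz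
    apply typeA_ext
    · rw [xc_mul, xc_mul, add_comm]
    · rw [yc_mul, yc_mul, hz0, mul_zero, map_zero, zero_mul, add_zero, add_zero, add_comm]
  · intro x hx y hy
    show c⁻¹ * θ (x * y) = c⁻¹ * θ x + c⁻¹ * θ y
    rw [hθ.add x hx y hy, mul_add]
  · intro x hx y hy
    have hx0 : xc (φ : K →+* K) x = 0 := hx
    rw [yc_mul, hx0, map_zero, zero_mul, add_zero]
  · intro u
    obtain ⟨x, hx, hxu⟩ := hθ.surj (c * u)
    refine ⟨x, hx, ?_⟩
    show c⁻¹ * θ x = u
    rw [hxu]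
    field_simp
  · intro u
    refine ⟨⟨glA _ 0 u, glA_mem _ 0 u⟩, xc_mk _ 0 u, yc_mk _ 0 u⟩
  · intro x hx h0
    have h1 : θ x = 0 := by
      have h3 : c⁻¹ * θ x = 0 := h0
      rcases mul_eq_zero.mp h3 with h4 | h4
      · exact absurd h4 (inv_ne_zero hc)
      · exact h4
    simpa using (hθ.ker x hx).mp h1
  · intro a ha h0
    apply typeA_ext
    · rw [xc_one]
      exact ha
    · rw [yc_one]
      exact h0
  · intro a
    show xc _ (a * a) = 0
    rw [xc_mul]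
    exact CharTwo.add_self_eq_zero _
  · intro x a hxa
    have hxa' : σ (f x) = xc (φ : K →+* K) a := hxa
    show c⁻¹ * θ (x * x) = yc _ (a * a)
    rw [hQ, hxa', yc_mul, inv_mul_cancel_left₀ hc, mul_comm]
    show _ = _ + _ + φ (xc _ a) * xc _ a
    linear_combination - yc (φ : K →+* K) a * h2

/-- Let `P` be a Suzuki 2-group of order the square of the order of its centre: it is of type A. -/
theorem result {P : Type*} [Group P] (hP : Cfsg.IsSuzukiTwoGroup P)
    (hcard : Nat.card P = Nat.card (Subgroup.center P) ^ 2) :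
    ∃ (F : Type) (_ : Field F) (_ : Fintype F) (φ : F ≃+* F), Fintype.card F = Nat.card (Subgroup.center P) ∧
      φ ≠ RingEquiv.refl F ∧ Odd (orderOf φ) ∧ Nonempty (P ≃* Cfsg.suzukiTypeA F (φ : F →+* F)) := by
  classical
  obtain ⟨ξ, q, S⟩ := exists_setup hP
  obtain ⟨hu, hv, huv⟩ := hP.2.2.1
  have hna : ∃ u v : P, u * v ≠ v * u := ⟨hu, hv, huv⟩
  have hsq : ∀ x : P, x * x ∈ S.Om := by
    rcases core S with h | h
    · exact absurd (h hu hv) huv
    · exact h
  obtain ⟨m, hqm, hm2⟩ := S.exists_m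
  obtain ⟨K, iK, fK, cK, hK⟩ := exists_field hqm (by omega)
  have hcen := S.center_eq hsq hna
  have hcardZ : Nat.card (Subgroup.center P) = q := by
    rw [hcen, S.card_Om]
  haveI := S.fin
  have hω : ∀ x y : P, ⁅x, y⁆ ∈ S.Om := fun x y =>
    S.comm_mem_of_sq (hsq x) (hsq y) (hsq _)
  obtain ⟨A₁, hA₁i, hOA₁, hA₁O, hA₁c, μ, f, hμ, hf⟩ :=
    S.next_level hK hsq S.Om_inv le_rfl (S.Om_ne_top hna)
  have hA₁top : A₁ = ⊤ := by
    apply Subgroup.eq_top_of_card_eq
    rw [hA₁c, S.card_Om, hcard, hcardZ]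
    ring
  subst hA₁top
  obtain ⟨l, θ, hl, hθ⟩ := S.exists_Om_coord (F := K) hK
  have hK3 : 3 ≤ Fintype.card K := by
    rw [hK]
    exact S.three
  have hKm : Fintype.card K = 2 ^ m := by rw [hK, hqm]
  have hm0 : m ≠ 0 := by omega
  have h2 : (2 : K) = 0 := CharTwo.two_eq_zero
  have hsqx : ∀ x z : P, z ∈ S.Om → x * z * (x * z) = x * x := by
    intro x z hz
    have e1 : x * z * (x * z) = x * x * (z * z) := by
      calc x * z * (x * z) = x * (z * x) * z := by group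
        _ = x * (x * z) * z := by rw [S.Om_central hz x]
        _ = _ := by group
    have e2 : z * z = 1 := hz
    rw [e1, e2, mul_one]
  choose s hsT hs using hf.surj
  have hfs : ∀ x : P, ∃ z ∈ S.Om, s (f x) = x * z := by
    intro x
    refine ⟨x⁻¹ * s (f x), (hf.map_eq_iff trivial trivial).mp (hs _).symm, by group⟩
  let Q : K → K := fun u => θ (s u * s u)
  have hQf : ∀ x : P, Q (f x) = θ (x * x) := by
    intro x
    obtain ⟨z, hz, hzx⟩ := hfs x
    show θ (s (f x) * s (f x)) = _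
    rw [hzx, hsqx x z hz]
  have hcomm1 : ∀ x y z : P, z ∈ S.Om → ⁅y, x * z⁆ = ⁅y, x⁆ := by
    intro x y z hz
    have : ∀ g : P, g * z = z * g := fun g => S.Om_central hz g
    simp only [commutatorElement_def]
    have e1 : y * (x * z) * y⁻¹ * (x * z)⁻¹ = y * x * (z * y⁻¹) * z⁻¹ * x⁻¹ := by group
    rw [e1, ← this y⁻¹]
    group
  have hcomm2 : ∀ x y z : P, z ∈ S.Om → ⁅y * z, x⁆ = ⁅y, x⁆ := by
    intro x y z hz
    have : ∀ g : P, g * z = z * g := fun g => S.Om_central hz g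
    simp only [commutatorElement_def]
    have e1 : y * z * x * (y * z)⁻¹ * x⁻¹ = y * (z * x) * z⁻¹ * y⁻¹ * x⁻¹ := by group
    rw [e1, ← this x]
    group
  have hg1 : ∀ x y : P, θ ⁅s (f y), s (f x)⁆ = θ ⁅y, x⁆ := by
    intro x y
    obtain ⟨z, hz, hzx⟩ := hfs x
    obtain ⟨z', hz', hzy⟩ := hfs y
    rw [hzx, hzy, hcomm1 _ _ z hz, hcomm2 _ _ z' hz']
  let b : K →+ K →+ K := AddMonoidHom.mk'
    (fun u => AddMonoidHom.mk' (fun w => θ ⁅s w, s u⁆) (by
      intro w w'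
      have e1 : s (w + w') = s (f (s w * s w')) := by
        rw [hf.add _ trivial _ trivial, hs, hs]
      rw [e1]
      have e2 := hg1 (s u) (s w * s w')
      have e3 : s (f (s u)) = s u := by rw [hs]
      rw [e3] at e2
      rw [e2, S.comm_mul_left (hω _ _), hθ.add _ (hω _ _) _ (hω _ _)]))
    (by
      intro u u'
      ext w
      show θ ⁅s w, s (u + u')⁆ = θ ⁅s w, s u⁆ + θ ⁅s w, s u'⁆
      have e1 : s (u + u') = s (f (s u * s u')) := by
        rw [hf.add _ trivial _ trivial, hs, hs]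
      rw [e1]
      have e2 := hg1 (s u * s u') (s w)
      have e3 : s (f (s w)) = s w := by rw [hs]
      rw [e3] at e2
      rw [e2, S.comm_mul_right (hω _ _), hθ.add _ (hω _ _) _ (hω _ _)])
  have hbf : ∀ x y : P, b (f x) (f y) = θ ⁅y, x⁆ := fun x y => hg1 x y
  have hpol : ∀ u w, Q (u + w) = Q u + Q w + b u w := by
    intro u w
    obtain ⟨x, hx⟩ : ∃ x, f x = u := ⟨s u, hs u⟩
    obtain ⟨y, hy⟩ : ∃ y, f y = w := ⟨s w, hs w⟩
    subst hx hy
    rw [← hf.add _ trivial _ trivial, hQf, hQf, hQf, hbf, S.sq_mul hω,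
      hθ.add _ (S.Om.mul_mem (hω y x) (hsq x)) _ (hsq y), hθ.add _ (hω y x) _ (hsq x)]
    ring
  have hQμ : ∀ u, Q (μ * u) = l * Q u := by
    intro u
    obtain ⟨x, hx⟩ : ∃ x, f x = u := ⟨s u, hs u⟩
    subst hx
    rw [← hf.mulξ x trivial, hQf, hQf, ← map_mul, hθ.mulξ _ (hsq x)]
  have hb : ∃ u w, b u w ≠ 0 := by
    refine ⟨f hv, f hu, ?_⟩
    rw [hbf]
    intro h0
    have h1 : ⁅hu, hv⁆ = 1 := by
      simpa using (hθ.ker _ (hω hu hv)).mp h0
    apply huv
    exact commutatorElement_eq_one_iff_mul_comm.mp h1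
  have hani : ∀ u, u ≠ 0 → Q u ≠ 0 := by
    intro u hu0 h0
    apply hu0
    rw [← hs u]
    rw [hf.ker _ trivial]
    have h1 : s u * s u = 1 := by
      simpa using (hθ.ker _ (hsq (s u))).mp h0
    exact h1
  obtain ⟨c, σ, φ, hc, hφ, hodd, hform⟩ := quad_form hKm hm0 hK3 hμ hl Q b hpol hQμ hb hani
  refine ⟨K, iK, fK, φ, ?_, hφ, hodd, ?_⟩
  · rw [hK, hcardZ]
  · apply iso_typeA S f θ μ l hf hθ hsq c σ φ hc
    intro x
    rw [← hQf, hform]

end Cfsg.Agent.S1139
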