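import Cfsg.Statements.S1147
import Mathlib
import Cfsg.Agent.Lib.Zass.SuzSetup
import Cfsg.Agent.S1139

set_option autoImplicit false
open Cfsg

namespace Cfsg.Agent.S1147

/-- Let a finite simple Zassenhaus group `G` on `Ω` have a normal subgroup `U` of `G_a`, regular on `Ω` minus `a`, which is a non-abelian 2-group. Then `|Ω| = 2^(2n) + 1` with `n` odd, `n > 1`, a two-point stabiliser `G_a ⊓ G_b` is cyclic of order `2^n - 1`, and `U` is isomorphic to the type-A group over a field with `2^n` elements for some field automorphism `φ`. -/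
theorem result {G Ω : Type*} [Group G] [Finite G] [MulAction G Ω] [Finite Ω]
    (hZ : Cfsg.IsZassenhausGroup G Ω) [IsSimpleGroup G] {a b : Ω} (hab : a ≠ b)
    (U : Subgroup G) (hUle : U ≤ MulAction.stabilizer G a)
    (hUn : ∀ h ∈ MulAction.stabilizer G a, ∀ u ∈ U, h * u * h⁻¹ ∈ U)
    (hreg : ∀ c d : Ω, c ≠ a → d ≠ a → ∃! u : U, (u : G) • c = d)
    (hU2 : IsPGroup 2 U) (hUna : ∃ u ∈ U, ∃ v ∈ U, u * v ≠ v * u) :
    ∃ n : ℕ, Odd n ∧ 1 < n ∧ Nat.card Ω = 2 ^ (2 * n) + 1 ∧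
      IsCyclic ↥(MulAction.stabilizer G a ⊓ MulAction.stabilizer G b) ∧
      Nat.card ↥(MulAction.stabilizer G a ⊓ MulAction.stabilizer G b) = 2 ^ n - 1 ∧
      ∃ (F : Type) (_ : Field F) (_ : Fintype F) (φ : F ≃+* F), Fintype.card F = 2 ^ n ∧
        Nonempty (U ≃* Cfsg.suzukiTypeA F (φ : F →+* F)) := by
  classical
  have hU := Cfsg.Agent.Lib.Zass.SuzSetup.eq_kernel_of_regular hZ U hUle hreg
  subst hU
  have hna : ∃ x y : Cfsg.Agent.Lib.Zass.Basic.kernel hZ a, x * y ≠ y * x := by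
    obtain ⟨u, hu, v, hv, huv⟩ := hUna
    exact ⟨⟨u, hu⟩, ⟨v, hv⟩, fun h => huv (congrArg Subtype.val h)⟩
  obtain ⟨m, hm, hq, hh, he⟩ := Cfsg.Agent.Lib.Zass.SuzSetup.main hZ hab hU2 hna
  have hP := Cfsg.Agent.Lib.Zass.SuzSetup.isSuzuki hZ hab hU2 hna
  have hodd := Cfsg.Agent.Lib.Zass.SuzSetup.two_odd hZ hab hU2 hna
  refine ⟨2 * m + 1, ⟨m, rfl⟩, by omega, ?_, (Cfsg.Agent.Lib.Zass.OddSimple.cyclic_inverted hZ hab hodd).1,
    Nat.eq_sub_of_add_eq he, ?_⟩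
  · rw [← Cfsg.Agent.Lib.Zass.Basic.card_kernel_add_one hZ a, hh]
    ring
  · obtain ⟨F, i1, i2, φ, hF, -, -, hiso⟩ := Cfsg.Agent.S1139.result hP (by rw [hh, hq])
    exact ⟨F, i1, i2, φ, by rw [hF, hq], hiso⟩

end Cfsg.Agent.S1147
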