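import Cfsg.Statements.S3707
import Mathlib
-- import your own Cfsg.Agent.* helpers here

set_option autoImplicit false
open Cfsg

namespace Cfsg.Agent.S3707

open MulAction
open scoped Pointwise

/-- The counting contradiction: a 2-transitive group with a Jordan set of size at most `n/2`
has no nontrivial block in a point stabilizer. -/
theorem block_count_contra {G Ω : Type*} [Group G] [MulAction G Ω] [Fintype Ω] [DecidableEq Ω]
    (htwo : ∀ {a b c d : Ω}, a ≠ b → c ≠ d → ∃ g : G, g • a = c ∧ g • b = d)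
    (α x₀ : Ω) (B₀ : Finset Ω) (hα : α ∉ B₀) (hx₀ : x₀ ∈ B₀)
    (hblock : ∀ h : G, h • α = α → h • B₀ = B₀ ∨ Disjoint (h • B₀) B₀)
    (b : ℕ) (hb : B₀.card = b) (hb2 : 2 ≤ b) (hbn : 2 * b ≤ Fintype.card Ω - 1)
    (Δ : Finset Ω) (hΔ1 : 2 ≤ Δ.card) (hΔ2 : 2 * Δ.card ≤ Fintype.card Ω)
    (hJ : ∀ x ∈ Δ, ∀ y ∈ Δ, ∃ g : G, (∀ z, z ∉ Δ → g • z = z) ∧ g • x = y) : False := by
  classical
  have hαx : α ≠ x₀ := fun h => hα (h ▸ hx₀)
  have hex : ∀ a x : Ω, a ≠ x → ∃ g : G, g • α = a ∧ g • x₀ = x := fun a x h => htwo hαx h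
  choose! γ hγ1 hγ2 using hex
  let B : Ω → Ω → Finset Ω := fun a x => γ a x • B₀
  have hcomm : ∀ (h : G), h • x₀ ∈ B₀ → h • α = α → h • B₀ = B₀ := by
    intro h hx hf
    rcases hblock h hf with h1 | h1
    · exact h1
    · exfalso
      exact (Finset.disjoint_left.mp h1) (Finset.smul_mem_smul_finset hx₀) hx
  have huniq : ∀ (g : G) (a x : Ω), a ≠ x → g • α = a → g • x₀ = x → g • B₀ = B a x := by
    intro g a x hax h1 h2
    have hfix : ((γ a x)⁻¹ * g) • α = α := by
      rw [mul_smul, h1, inv_smul_eq_iff, hγ1 a x hax]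
    have hfix2 : ((γ a x)⁻¹ * g) • x₀ = x₀ := by
      rw [mul_smul, h2, inv_smul_eq_iff, hγ2 a x hax]
    have h3 := hcomm ((γ a x)⁻¹ * g) (by rw [hfix2]; exact hx₀) hfix
    have h4 : g = γ a x * ((γ a x)⁻¹ * g) := by group
    show g • B₀ = γ a x • B₀
    rw [h4, mul_smul, h3]
  have hP1 : ∀ a x : Ω, a ≠ x → x ∈ B a x := by
    intro a x hax
    have : γ a x • x₀ ∈ γ a x • B₀ := Finset.smul_mem_smul_finset hx₀
    rwa [hγ2 a x hax] at this
  have hP2 : ∀ a x : Ω, a ≠ x → a ∉ B a x := by
    intro a x hax h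
    have h1 : γ a x • α ∈ γ a x • B₀ := by
      rw [hγ1 a x hax]
      exact h
    exact hα (Finset.smul_mem_smul_finset_iff _ |>.mp h1)
  have hP3 : ∀ a x : Ω, (B a x).card = b := by
    intro a x
    show (γ a x • B₀).card = b
    rw [Finset.card_smul_finset, hb]
  have hP4 : ∀ a x y : Ω, a ≠ x → y ∈ B a x → B a y = B a x := by
    intro a x y hax hy
    have hay : a ≠ y := fun h => hP2 a x hax (h ▸ hy)
    obtain ⟨y₀, hy₀, hy₀'⟩ := Finset.mem_smul_finset.mp hy
    have hfix : ((γ a x)⁻¹ * γ a y) • α = α := by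
      rw [mul_smul, hγ1 a y hay, inv_smul_eq_iff, hγ1 a x hax]
    have hmv : ((γ a x)⁻¹ * γ a y) • x₀ = y₀ := by
      rw [mul_smul, hγ2 a y hay, inv_smul_eq_iff]
      exact hy₀'.symm
    have h3 := hcomm ((γ a x)⁻¹ * γ a y) (by rw [hmv]; exact hy₀) hfix
    have h4 : γ a y = γ a x * ((γ a x)⁻¹ * γ a y) := by group
    show γ a y • B₀ = γ a x • B₀
    rw [h4, mul_smul, h3]
  have hP5 : ∀ (g : G) (a x : Ω), a ≠ x → B (g • a) (g • x) = g • B a x := by
    intro g a x hax
    have hne : g • a ≠ g • x := fun h => hax (smul_left_cancel g h)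
    have := huniq (g * γ a x) (g • a) (g • x) hne (by rw [mul_smul, hγ1 a x hax])
      (by rw [mul_smul, hγ2 a x hax])
    rw [← this, mul_smul]
  -- the count `c`
  let c : Ω → Ω → ℕ := fun x y => (Finset.univ.filter (fun a => a ≠ x ∧ y ∈ B a x)).card
  have hcinv : ∀ (g : G) (x y : Ω), c (g • x) (g • y) = c x y := by
    intro g x y
    symm
    refine Finset.card_nbij' (fun a => g • a) (fun a => g⁻¹ • a) ?_ ?_ ?_ ?_
    · intro a ha
      simp only [Finset.coe_filter, Finset.mem_univ, true_and, Set.mem_ofPred_eq] at ha ⊢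
      refine ⟨fun h => ha.1 (smul_left_cancel g h), ?_⟩
      rw [hP5 g a x ha.1]
      exact Finset.smul_mem_smul_finset ha.2
    · intro a ha
      simp only [Finset.coe_filter, Finset.mem_univ, true_and, Set.mem_ofPred_eq] at ha ⊢
      have hne : g⁻¹ • a ≠ x := by
        intro h
        apply ha.1
        rw [← h, smul_inv_smul]
      refine ⟨hne, ?_⟩
      have h1 := ha.2
      have h2 : B a (g • x) = B (g • (g⁻¹ • a)) (g • x) := by rw [smul_inv_smul]
      rw [h2, hP5 g _ x hne] at h1
      exact (Finset.smul_mem_smul_finset_iff g).mp h1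
    · intro a _
      simp
    · intro a _
      simp
  have hn2 : 2 ≤ Fintype.card Ω := by omega
  have hcsum : ∀ x : Ω, ∑ y ∈ Finset.univ.erase x, c x y = (Fintype.card Ω - 1) * (b - 1) := by
    intro x
    have h := Finset.sum_card_bipartiteAbove_eq_sum_card_bipartiteBelow
      (s := Finset.univ.erase x) (t := Finset.univ.erase x) (fun a y => y ∈ B a x)
    have h1 : ∀ a ∈ Finset.univ.erase x,
        ((Finset.univ.erase x).bipartiteAbove (fun a y => y ∈ B a x) a).card = b - 1 := by
      intro a ha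
      have hax : a ≠ x := (Finset.mem_erase.mp ha).1
      have : (Finset.univ.erase x).bipartiteAbove (fun a y => y ∈ B a x) a = (B a x).erase x := by
        ext y
        simp only [Finset.bipartiteAbove, Finset.mem_filter, Finset.mem_erase, Finset.mem_univ,
          and_true]
      rw [this, Finset.card_erase_of_mem (hP1 a x hax), hP3]
    have h2 : ∀ y ∈ Finset.univ.erase x,
        ((Finset.univ.erase x).bipartiteBelow (fun a y => y ∈ B a x) y).card = c x y := by
      intro y _
      congr 1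
      ext a
      simp only [Finset.bipartiteBelow, Finset.mem_filter, Finset.mem_erase, Finset.mem_univ,
        and_true, true_and]
    rw [Finset.sum_congr rfl h1, Finset.sum_congr rfl h2, Finset.sum_const,
      Finset.card_erase_of_mem (Finset.mem_univ x), Finset.card_univ, smul_eq_mul] at h
    exact h.symm
  have hceq : ∀ x y : Ω, x ≠ y → c x y = b - 1 := by
    intro x y hxy
    have hall : ∀ z ∈ Finset.univ.erase x, c x z = c x y := by
      intro z hz
      have hxz : x ≠ z := (Finset.mem_erase.mp hz).1.symm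
      obtain ⟨g, hg1, hg2⟩ := htwo hxy hxz
      have := hcinv g x y
      rw [hg1, hg2] at this
      exact this
    have h1 := hcsum x
    rw [Finset.sum_congr rfl hall, Finset.sum_const, Finset.card_erase_of_mem (Finset.mem_univ x),
      Finset.card_univ, smul_eq_mul] at h1
    exact Nat.eq_of_mul_eq_mul_left (by omega) h1
  -- the dichotomy
  have hdich : ∀ w u : Ω, w ∉ Δ → u ∈ Δ → B w u ⊆ Δ ∨ Δ ⊆ B w u := by
    intro w u hw hu
    have hwu : w ≠ u := fun h => hw (h ▸ hu)
    by_cases hsub : B w u ⊆ Δ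
    · exact Or.inl hsub
    · right
      obtain ⟨z, hz, hzΔ⟩ := Finset.not_subset.mp hsub
      intro v hv
      obtain ⟨f, hf1, hf2⟩ := hJ u hu v hv
      have hfw := hf1 w hw
      have hfz := hf1 z hzΔ
      have h1 : z ∈ B w v := by
        have h2 := hP5 f w u hwu
        rw [hfw, hf2] at h2
        rw [h2, ← hfz]
        exact Finset.smul_mem_smul_finset hz
      have hwv : w ≠ v := fun h => hw (h ▸ hv)
      have h3 := hP4 w u z hwu hz
      have h4 := hP4 w v z hwv h1
      rw [← h3, h4]
      exact hP1 w v hwv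
  set k := Δ.card with hk
  set n := Fintype.card Ω with hn
  have hScard : (Finset.univ \ Δ).card = n - k := by
    rw [Finset.card_sdiff_of_subset (Finset.subset_univ _), Finset.card_univ]
  by_cases hkb : b < k
  · -- every block through a point of Δ lies in Δ
    have hsub : ∀ w u : Ω, w ∉ Δ → u ∈ Δ → B w u ⊆ Δ := by
      intro w u hw hu
      rcases hdich w u hw hu with h | h
      · exact h
      · exfalso
        have := Finset.card_le_card h
        rw [hP3] at this
        omega
    obtain ⟨u, hu⟩ : Δ.Nonempty := Finset.card_pos.mp (by omega)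
    have h := Finset.sum_card_bipartiteAbove_eq_sum_card_bipartiteBelow
      (s := Finset.univ \ Δ) (t := Δ.erase u) (fun w y => y ∈ B w u)
    have h1 : ∀ w ∈ Finset.univ \ Δ,
        ((Δ.erase u).bipartiteAbove (fun w y => y ∈ B w u) w).card = b - 1 := by
      intro w hw
      have hwΔ : w ∉ Δ := (Finset.mem_sdiff.mp hw).2
      have hwu : w ≠ u := fun h => hwΔ (h ▸ hu)
      have : (Δ.erase u).bipartiteAbove (fun w y => y ∈ B w u) w = (B w u).erase u := by
        ext y
        simp only [Finset.bipartiteAbove, Finset.mem_filter, Finset.mem_erase]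
        constructor
        · rintro ⟨⟨h1, _⟩, h2⟩
          exact ⟨h1, h2⟩
        · rintro ⟨h1, h2⟩
          exact ⟨⟨h1, hsub w u hwΔ hu h2⟩, h2⟩
      rw [this, Finset.card_erase_of_mem (hP1 w u hwu), hP3]
    have h2 : ∀ y ∈ Δ.erase u,
        ((Finset.univ \ Δ).bipartiteBelow (fun w y => y ∈ B w u) y).card ≤ b - 1 := by
      intro y hy
      have hne : u ≠ y := (Finset.mem_erase.mp hy).1.symm
      rw [← hceq u y hne]
      apply Finset.card_le_card
      intro w hw
      simp only [Finset.bipartiteBelow, Finset.mem_filter, Finset.mem_sdiff, Finset.mem_univ,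
        true_and] at hw ⊢
      exact ⟨fun h' => hw.1 (h' ▸ hu), hw.2⟩
    rw [Finset.sum_congr rfl h1, Finset.sum_const, smul_eq_mul, hScard] at h
    have h3 := Finset.sum_le_card_nsmul _ _ _ h2
    rw [← h, smul_eq_mul, Finset.card_erase_of_mem hu] at h3
    have h4 : n - k ≤ k - 1 := Nat.le_of_mul_le_mul_right h3 (by omega)
    omega
  · -- Δ lies in every block through a point of Δ
    push Not at hkb
    obtain ⟨u, v, hu, hv, huv⟩ : ∃ u v, u ∈ Δ ∧ v ∈ Δ ∧ u ≠ v := by
      obtain ⟨u, hu, v, hv, huv⟩ := Finset.one_lt_card.mp (show 1 < Δ.card by omega)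
      exact ⟨u, v, hu, hv, huv⟩
    have hin : ∀ w : Ω, w ∉ Δ → v ∈ B w u := by
      intro w hw
      rcases hdich w u hw hu with h | h
      · have heq : B w u = Δ := Finset.eq_of_subset_of_card_le h (by rw [hP3]; exact hkb)
        rw [heq]
        exact hv
      · exact h hv
    have hle : n - k ≤ c u v := by
      rw [← hScard]
      apply Finset.card_le_card
      intro w hw
      have hwΔ : w ∉ Δ := (Finset.mem_sdiff.mp hw).2
      simp only [Finset.mem_filter, Finset.mem_univ, true_and]
      exact ⟨fun h' => hwΔ (h' ▸ hu), hin w hwΔ⟩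
    rw [hceq u v huv] at hle
    omega

/-- Let G be a finite primitive permutation group on Ω of degree n and Γ ⊂ Ω a subset with 1 < #Γ ≤ n/2 such that the pointwise stabilizer of Ω ∖ Γ is transitive on Γ. Then G is 3-transitive on Ω. -/
theorem result {G Ω : Type*} [Group G] [Finite G] [MulAction G Ω] [FaithfulSMul G Ω] [Finite Ω] (hprim : MulAction.IsPreprimitive G Ω) (Γ : Set Ω) (h1 : 1 < Γ.ncard) (h2 : 2 * Γ.ncard ≤ Nat.card Ω) (htr : ∀ x ∈ Γ, ∀ y ∈ Γ, ∃ g : G, (∀ z ∉ Γ, g • z = z) ∧ g • x = y) : MulAction.IsMultiplyPretransitive G Ω 3 := by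
  classical
  haveI := Fintype.ofFinite Ω
  have hcompl : Γᶜ.ncard = Nat.card Ω - Γ.ncard := Set.ncard_compl Γ
  have hs_trans : IsPretransitive (fixingSubgroup G Γᶜ) (SubMulAction.ofFixingSubgroup G Γᶜ) := by
    refine ⟨fun x y => ?_⟩
    have hx : x.val ∈ Γ := by
      have := x.prop
      rw [SubMulAction.mem_ofFixingSubgroup_iff] at this
      simpa using this
    have hy : y.val ∈ Γ := by
      have := y.prop
      rw [SubMulAction.mem_ofFixingSubgroup_iff] at this
      simpa using this
    obtain ⟨g, hg1, hg2⟩ := htr x.val hx y.val hy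
    refine ⟨⟨g, ?_⟩, Subtype.ext hg2⟩
    rw [mem_fixingSubgroup_iff]
    intro z hz
    exact hg1 z hz
  have h2t : IsMultiplyPretransitive G Ω 2 :=
    hprim.is_two_pretransitive (s := Γᶜ) (n := Γᶜ.ncard - 1) (by omega) (by omega) hs_trans
  haveI : IsPretransitive G Ω := isPretransitive_of_is_two_pretransitive
  have htwo' : ∀ {a b c d : Ω}, a ≠ b → c ≠ d → ∃ g : G, g • a = c ∧ g • b = d :=
    is_two_pretransitive_iff.mp h2t
  have hne : Γᶜ.Nonempty := by
    rw [← Set.ncard_pos]
    omega
  obtain ⟨α, hα⟩ := hne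
  have hαΓ : α ∉ Γ := hα
  have h1t : IsMultiplyPretransitive (stabilizer G α) (SubMulAction.ofStabilizer G α) 1 :=
    (SubMulAction.ofStabilizer.isMultiplyPretransitive (n := 1)).mp h2t
  haveI hG'trans : IsPretransitive (stabilizer G α) (SubMulAction.ofStabilizer G α) :=
    is_one_pretransitive_iff.mp h1t
  have hcardΩ' : Nat.card (SubMulAction.ofStabilizer G α) + 1 = Nat.card Ω :=
    SubMulAction.nat_card_ofStabilizer_add_one_eq G α
  have hG'prim : IsPreprimitive (stabilizer G α) (SubMulAction.ofStabilizer G α) := by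
    refine IsPreprimitive.mk fun {B'} hB' => ?_
    by_contra hcon
    rw [IsTrivialBlock, not_or] at hcon
    obtain ⟨hns, hnu⟩ := hcon
    rw [Set.not_subsingleton_iff] at hns
    obtain ⟨x₀, hx₀, y₀, hy₀, hxy⟩ := hns
    have hb1 : 1 < B'.ncard := (Set.one_lt_ncard).mpr ⟨x₀, hx₀, y₀, hy₀, hxy⟩
    have hdvd : B'.ncard ∣ Nat.card (SubMulAction.ofStabilizer G α) :=
      hB'.ncard_dvd_card ⟨x₀, hx₀⟩
    have hbne : B'.ncard ≠ Nat.card (SubMulAction.ofStabilizer G α) :=
      (Set.ncard_lt_card hnu).ne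
    have hcard'pos : 0 < Nat.card (SubMulAction.ofStabilizer G α) :=
      Nat.card_pos_iff.mpr ⟨⟨x₀⟩, inferInstance⟩
    have hb2 : 2 * B'.ncard ≤ Nat.card (SubMulAction.ofStabilizer G α) := by
      obtain ⟨t, ht⟩ := hdvd
      have ht2 : 2 ≤ t := by
        by_contra hh
        have : t = 0 ∨ t = 1 := by omega
        rcases this with rfl | rfl
        · omega
        · omega
      rw [ht]
      exact Nat.mul_comm 2 _ ▸ Nat.mul_le_mul_left _ ht2
    let B₀ : Finset Ω := (B'.toFinset).image Subtype.val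
    have hB₀card : B₀.card = B'.ncard := by
      rw [Finset.card_image_of_injective _ Subtype.val_injective, Set.ncard_eq_toFinset_card']
    have hmemB₀ : ∀ z : Ω, z ∈ B₀ ↔ ∃ hz : z ∈ SubMulAction.ofStabilizer G α, (⟨z, hz⟩ : SubMulAction.ofStabilizer G α) ∈ B' := by
      intro z
      simp [B₀]
    refine block_count_contra (G := G) (Ω := Ω) htwo' α x₀.val B₀ ?_ ?_ ?_ B'.ncard hB₀card hb1 ?_
      Γ.toFinset ?_ ?_ ?_
    · intro h
      obtain ⟨hz, -⟩ := (hmemB₀ α).mp h
      exact hz rfl
    · exact (hmemB₀ _).mpr ⟨x₀.prop, hx₀⟩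
    · intro h hh
      let h' : stabilizer G α := ⟨h, hh⟩
      have key : ∀ z : Ω, z ∈ h • B₀ ↔ ∃ y ∈ B', h • y.val = z := by
        intro z
        simp [Finset.mem_smul_finset, B₀]
      rcases hB'.smul_eq_or_disjoint h' with heq | hdisj
      · left
        ext z
        rw [key, hmemB₀]
        constructor
        · rintro ⟨y, hy, rfl⟩
          have h3 : h' • y ∈ B' := by
            rw [← heq]
            exact Set.smul_mem_smul_set hy
          exact ⟨(h' • y).prop, h3⟩
        · rintro ⟨hz, hz'⟩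
          rw [← heq] at hz'
          obtain ⟨y, hy, hy'⟩ := Set.mem_smul_set.mp hz'
          exact ⟨y, hy, congrArg Subtype.val hy'⟩
      · right
        rw [Finset.disjoint_left]
        intro z hz hz'
        obtain ⟨y, hy, rfl⟩ := (key z).mp hz
        obtain ⟨hz2, hz3⟩ := (hmemB₀ _).mp hz'
        exact Set.disjoint_left.mp hdisj (Set.smul_mem_smul_set (a := h') hy) hz3
    · rw [← Nat.card_eq_fintype_card]
      omega
    · rw [← Set.ncard_eq_toFinset_card']
      omega
    · rw [← Set.ncard_eq_toFinset_card', ← Nat.card_eq_fintype_card]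
      omega
    · intro x hx y hy
      obtain ⟨g, hg1, hg2⟩ := htr x (by simpa using hx) y (by simpa using hy)
      exact ⟨g, fun z hz => hg1 z (by simpa using hz), hg2⟩
  -- Jordan's criterion again
  let s' : Set (SubMulAction.ofStabilizer G α) := {x | x.val ∉ Γ}
  have hs'card : s'.ncard + 1 = Γᶜ.ncard := by
    have himg : Γᶜ = insert α (Subtype.val '' s') := by
      ext z
      simp only [Set.mem_compl_iff, Set.mem_insert_iff, Set.mem_image, s']
      constructor
      · intro hz
        by_cases hzα : z = α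
        · exact Or.inl hzα
        · exact Or.inr ⟨⟨z, hzα⟩, hz, rfl⟩
      · rintro (rfl | ⟨y, hy, rfl⟩)
        · exact hαΓ
        · exact hy
    have hnot : α ∉ Subtype.val '' s' := by
      rintro ⟨y, -, hy⟩
      exact y.prop hy
    rw [himg, Set.ncard_insert_of_notMem hnot,
      Set.ncard_image_of_injective _ Subtype.val_injective]
  have hs'_trans : IsPretransitive (fixingSubgroup (stabilizer G α) s')
      (SubMulAction.ofFixingSubgroup (stabilizer G α) s') := by
    refine ⟨fun x y => ?_⟩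
    have hx : x.val.val ∈ Γ := by
      have := x.prop
      rw [SubMulAction.mem_ofFixingSubgroup_iff] at this
      simpa [s'] using this
    have hy : y.val.val ∈ Γ := by
      have := y.prop
      rw [SubMulAction.mem_ofFixingSubgroup_iff] at this
      simpa [s'] using this
    obtain ⟨g, hg1, hg2⟩ := htr _ hx _ hy
    refine ⟨⟨⟨g, hg1 α hαΓ⟩, ?_⟩, Subtype.ext (Subtype.ext hg2)⟩
    rw [mem_fixingSubgroup_iff]
    intro z hz
    exact Subtype.ext (hg1 z.val hz)
  have h2t' : IsMultiplyPretransitive (stabilizer G α) (SubMulAction.ofStabilizer G α) 2 :=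
    hG'prim.is_two_pretransitive (s := s') (n := s'.ncard - 1) (by omega) (by omega) hs'_trans
  exact (SubMulAction.ofStabilizer.isMultiplyPretransitive (n := 2)).mpr h2t'

end Cfsg.Agent.S3707
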