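import Cfsg.Statements.S3815
import Mathlib
-- import your own Cfsg.Agent.* helpers here

set_option autoImplicit false
open Cfsg

namespace Cfsg.Agent.S3815

/-- Let G be a finite group, p a prime and d ∈ G an element of order prime to p. If dg has order prime to p for every element g ∈ G of order prime to p, then d ∈ O_{p'}(G). -/
theorem result {G : Type*} [Group G] [Finite G] {p : ℕ} [Fact p.Prime]
    (d : G) (hd : (orderOf d).Coprime p)
    (h : ∀ g : G, (orderOf g).Coprime p → (orderOf (d * g)).Coprime p) :
    d ∈ Cfsg.pPrimeCore p G := by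
  classical
  let P : G → Prop := fun y => ∀ g : G, (orderOf g).Coprime p → (orderOf (y * g)).Coprime p
  have hP1 : P 1 := fun g hg => by simpa using hg
  have hPmul : ∀ a b, P a → P b → P (a * b) := by
    intro a b ha hb g hg
    rw [mul_assoc]
    exact ha _ (hb g hg)
  have hPpow : ∀ (a : G) (n : ℕ), P a → P (a ^ n) := by
    intro a n ha
    induction n with
    | zero => simpa using hP1
    | succ n ih => rw [pow_succ]; exact hPmul _ _ ih ha
  have hPinv : ∀ a, P a → P a⁻¹ := by
    intro a ha
    have h1 : a⁻¹ = a ^ (orderOf a - 1) := by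
      apply inv_eq_of_mul_eq_one_left
      rw [← pow_succ, Nat.sub_add_cancel (orderOf_pos a), pow_orderOf_eq_one]
    rw [h1]
    exact hPpow a _ ha
  have hPconj : ∀ x, P (x * d * x⁻¹) := by
    intro x g hg
    have h2 : orderOf (x⁻¹ * g * x) = orderOf g := by
      have := orderOf_injective (MulAut.conj x⁻¹).toMonoidHom (MulAut.conj x⁻¹).injective g
      simpa [MulAut.conj_apply] using this
    have h3 := h (x⁻¹ * g * x) (by rw [h2]; exact hg)
    have h4 : x * d * x⁻¹ * g = x * (d * (x⁻¹ * g * x)) * x⁻¹ := by group
    rw [h4]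
    have h5 : orderOf (x * (d * (x⁻¹ * g * x)) * x⁻¹) = orderOf (d * (x⁻¹ * g * x)) := by
      have := orderOf_injective (MulAut.conj x).toMonoidHom (MulAut.conj x).injective
        (d * (x⁻¹ * g * x))
      simpa [MulAut.conj_apply] using this
    rw [h5]
    exact h3
  let X : Subgroup G := Subgroup.normalClosure ({d} : Set G)
  have hX : ∀ y ∈ X, P y := by
    intro y hy
    refine Subgroup.closure_induction (p := fun y _ => P y) ?_ hP1 (fun a b _ _ ha hb => hPmul a b ha hb)
      (fun a _ ha => hPinv a ha) hy
    intro y' hy'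
    rw [Group.mem_conjugatesOfSet_iff] at hy'
    obtain ⟨a, ha, hconj⟩ := hy'
    have ha' : a = d := ha
    subst ha'
    obtain ⟨c, rfl⟩ := isConj_iff.1 hconj
    exact hPconj c
  have hord : ∀ y : ↥X, (orderOf y).Coprime p := by
    intro y
    have := hX y y.2 1 (by simp)
    rw [mul_one] at this
    rwa [Subgroup.orderOf_coe] at this
  have hcard : (Nat.card ↥X).Coprime p := by
    rw [Nat.coprime_comm, Nat.Prime.coprime_iff_not_dvd (Fact.out)]
    intro hdvd
    obtain ⟨y, hy⟩ := exists_prime_orderOf_dvd_card' p hdvd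
    have := hord y
    rw [hy] at this
    exact (Nat.Prime.one_lt Fact.out).ne' (by simpa using this)
  have hle : X ≤ Cfsg.pPrimeCore p G := by
    apply le_sSup
    exact ⟨inferInstance, hcard⟩
  exact hle (Subgroup.subset_normalClosure rfl)

end Cfsg.Agent.S3815
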