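import Cfsg.Statements.S0081
import Mathlib
import Cfsg.Agent.Lib.Transfer.Tate
-- import your own Cfsg.Agent.* helpers here

set_option autoImplicit false
open Cfsg

namespace Cfsg.Agent.S0081

/-- If a normal subgroup meets a Sylow p-subgroup P inside the Frattini subgroup of P, then it has a normal p-complement. -/
theorem result {G : Type*} [Group G] [Finite G] {p : ℕ} [Fact p.Prime] (P : Sylow p G) (N : Subgroup G) [N.Normal] (h : N ⊓ (P : Subgroup G) ≤ (frattini P).map (P : Subgroup G).subtype) : Cfsg.HasNormalPComplement p N := by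
  classical
  let A : Subgroup G := N ⊔ (P : Subgroup G)
  have hPA : (P : Subgroup G) ≤ A := le_sup_right
  have hNA : N ≤ A := le_sup_left
  let P₀ : Subgroup A := (P : Subgroup G).subgroupOf A
  let L₀ : Subgroup A := N.subgroupOf A
  have hL₀ : L₀.Normal := inferInstance
  have hP₀ : IsPGroup p P₀ := P.2.comap_subtype
  have hidx₀ : ¬ p ∣ P₀.index := fun hd =>
    P.not_dvd_index (hd.trans (Subgroup.relIndex_dvd_index_of_le hPA))
  have hsup₀ : L₀ ⊔ P₀ = ⊤ := by
    rw [eq_top_iff]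
    rintro ⟨x, hx⟩ -
    have hx' : x ∈ N ⊔ (P : Subgroup G) := hx
    rw [← SetLike.mem_coe, Subgroup.normal_mul] at hx'
    obtain ⟨n, hn, y, hy, rfl⟩ := hx'
    have h1 : (⟨n, hNA hn⟩ : A) ∈ L₀ := hn
    have h2 : (⟨y, hPA hy⟩ : A) ∈ P₀ := hy
    exact Subgroup.mul_mem_sup h1 h2
  let e : P₀ ≃* (P : Subgroup G) := Subgroup.subgroupOfEquivOfLe hPA
  have he : ∀ x : P₀, ((e x : (P : Subgroup G)) : G) = ((x : A) : G) := fun x => rfl
  have hng₀ : ∀ M : Subgroup P₀, M ⊔ L₀.subgroupOf P₀ = ⊤ → M = ⊤ := by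
    intro M hM
    have hsup : M.map e.toMonoidHom ⊔ frattini (P : Subgroup G) = ⊤ := by
      rw [eq_top_iff]
      intro y _
      have hy : e.symm y ∈ M ⊔ L₀.subgroupOf P₀ := by rw [hM]; trivial
      have hy2 : y ∈ (M ⊔ L₀.subgroupOf P₀).map e.toMonoidHom :=
        ⟨e.symm y, hy, by simp⟩
      rw [Subgroup.map_sup] at hy2
      refine (sup_le_sup_left ?_ _ : _ ≤ M.map e.toMonoidHom ⊔ frattini (P : Subgroup G)) hy2
      rintro _ ⟨r, hr, rfl⟩
      have hr1 : ((r : A) : G) ∈ N := hr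
      have hr2 : ((r : A) : G) ∈ (P : Subgroup G) := r.2
      obtain ⟨t, ht, hte⟩ := h (Subgroup.mem_inf.mpr ⟨hr1, hr2⟩)
      have : (e r) = t := Subtype.ext hte.symm
      change e r ∈ _
      rw [this]
      exact ht
    have htop := frattini_nongenerating hsup
    rw [eq_top_iff]
    intro x _
    have hx : e x ∈ M.map e.toMonoidHom := by rw [htop]; trivial
    obtain ⟨m, hm, hme⟩ := hx
    have : m = x := e.injective hme
    rwa [← this]
  have hA := Cfsg.Agent.Lib.Transfer.Tate.hasNormalPComplement_of_nongenerating P₀ hP₀ hidx₀ L₀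
    hsup₀ hng₀
  exact Cfsg.Agent.Lib.Transfer.Basic.HasNormalPComplement_of_injective
    (Subgroup.inclusion hNA) (Subgroup.inclusion_injective hNA) hA

end Cfsg.Agent.S0081
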