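import Cfsg.Statements.S0200
import Cfsg.Agent.S0199
import Mathlib

set_option autoImplicit false
open Cfsg

namespace Cfsg.Agent.S0200

open Cfsg.Agent.S0199 in
/-- An involution lying in no normal 2-subgroup of a finite group inverts a nontrivial element of odd order (a consequence of the Baer–Suzuki Theorem). -/
theorem result {G : Type*} [Group G] [Finite G] (t : G) (ht : orderOf t = 2) (hO : ∀ N : Subgroup G, N.Normal → IsPGroup 2 N → t ∉ N) : ∃ h : G, h ≠ 1 ∧ Odd (orderOf h) ∧ t * h * t⁻¹ = h⁻¹ := by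
  have hp2 : Fact (Nat.Prime 2) := ⟨Nat.prime_two⟩
  have ht2 : t * t = 1 := by rw [← pow_two, ← ht, pow_orderOf_eq_one]
  have htinv : t⁻¹ = t := inv_eq_of_mul_eq_one_left ht2
  set X := Subgroup.zpowers t with hX
  have hXp : IsPGroup 2 X := by
    apply IsPGroup.of_card (n := 1)
    rw [hX, Nat.card_zpowers, ht, pow_one]
  have hnot : ¬ ∀ g : G, IsPGroup 2 ↥(X ⊔ X.map (MulAut.conj g).toMonoidHom) := by
    intro hall
    obtain ⟨N, hN, hNp, hXN⟩ := Cfsg.Agent.S0199.result X hXp hall
    exact hO N hN hNp (hXN (Subgroup.mem_zpowers t))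
  push Not at hnot
  obtain ⟨g, hg⟩ := hnot
  set s := g * t * g⁻¹ with hs
  have hXg : X.map (MulAut.conj g).toMonoidHom = Subgroup.zpowers s := by
    rw [hX, MonoidHom.map_zpowers]
    rfl
  set u := t * s with hu
  have hsq : s * s = 1 := by
    rw [hs]
    have : g * t * g⁻¹ * (g * t * g⁻¹) = g * (t * t) * g⁻¹ := by group
    rw [this, ht2]
    group
  have hsinv : s⁻¹ = s := inv_eq_of_mul_eq_one_left hsq
  have htu : t * u * t⁻¹ = u⁻¹ := by
    rw [hu, mul_inv_rev, hsinv, htinv]
    have : t * (t * s) * t = (t * t) * s * t := by group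
    rw [this, ht2, one_mul]
  have h0 : orderOf u ≠ 0 := (orderOf_pos u).ne'
  obtain ⟨a, r, hr, har⟩ := Nat.exists_eq_two_pow_mul_odd h0
  have hr1 : r ≠ 1 := by
    rintro rfl
    apply hg
    have hY : IsPGroup 2 (Subgroup.zpowers u) := by
      apply IsPGroup.of_card (n := a)
      rw [Nat.card_zpowers, har, mul_one]
    have hnorm : X ≤ Subgroup.normalizer ((Subgroup.zpowers u : Subgroup G) : Set G) := by
      rw [hX, Subgroup.zpowers_le, mem_normalizer_iff_cj]
      show (Subgroup.zpowers u).map (MulAut.conj t).toMonoidHom = Subgroup.zpowers u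
      rw [MonoidHom.map_zpowers]
      have : (MulAut.conj t).toMonoidHom u = u⁻¹ := htu
      rw [this, Subgroup.zpowers_inv]
    have hsup : IsPGroup 2 ↥(X ⊔ Subgroup.zpowers u) :=
      IsPGroup.to_sup_of_normal_right' hXp hY hnorm
    rw [hXg]
    apply hsup.to_le
    apply sup_le le_sup_left
    rw [Subgroup.zpowers_le]
    have : s = t * u := by
      rw [hu, ← mul_assoc, ht2, one_mul]
    rw [this]
    exact Subgroup.mul_mem _ (Subgroup.mem_sup_left (Subgroup.mem_zpowers t))
      (Subgroup.mem_sup_right (Subgroup.mem_zpowers u))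
  refine ⟨u ^ 2 ^ a, ?_, ?_, ?_⟩
  · have hord : orderOf (u ^ 2 ^ a) = r := by
      rw [orderOf_pow_of_dvd (pow_ne_zero _ two_ne_zero) (Dvd.intro _ har.symm), har]
      exact Nat.mul_div_cancel_left _ (by positivity)
    intro h
    rw [h, orderOf_one] at hord
    exact hr1 hord.symm
  · have hord : orderOf (u ^ 2 ^ a) = r := by
      rw [orderOf_pow_of_dvd (pow_ne_zero _ two_ne_zero) (Dvd.intro _ har.symm), har]
      exact Nat.mul_div_cancel_left _ (by positivity)
    rw [hord]
    exact hr
  · rw [← conj_pow, htu, inv_pow]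

end Cfsg.Agent.S0200
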