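import Cfsg.Statements.S0223
import Mathlib

set_option autoImplicit false
open Cfsg

namespace Cfsg.Agent.S0223

/-- Let H be a proper subgroup of even order of the finite group G. Then H is strongly embedded if and only if (i) C_G(t) ≤ H for every involution t of H and (ii) H controls fusion of its involutions: involutions of H conjugate in G are conjugate in H. -/
theorem result {G : Type*} [Group G] [Finite G] (H : Subgroup G) (hH : H ≠ ⊤) (heven : Even (Nat.card H)) : Cfsg.IsStronglyEmbedded H ↔ ((∀ t ∈ H, orderOf t = 2 → Subgroup.centralizer ({t} : Set G) ≤ H) ∧ (∀ t ∈ H, ∀ s ∈ H, orderOf t = 2 → orderOf s = 2 → IsConj t s → ∃ h ∈ H, h * t * h⁻¹ = s)) := by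
  have key : ∀ (K : Subgroup G) (t : G), t ∈ K → orderOf t = 2 → ¬ Odd (Nat.card K) := by
    intro K t ht ho hodd
    have h1 : orderOf (⟨t, ht⟩ : K) = 2 := by
      rw [Subgroup.orderOf_mk]; exact ho
    have h2 : orderOf (⟨t, ht⟩ : K) ∣ Nat.card K := orderOf_dvd_natCard _
    rw [h1] at h2
    have h3 : Even (Nat.card K) := even_iff_two_dvd.mpr h2
    exact (Nat.not_even_iff_odd.mpr hodd) h3
  constructor
  · rintro ⟨-, -, hodd⟩
    refine ⟨?_, ?_⟩
    · intro t ht ho g hg
      by_contra hgH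
      have hg' : g * t * g⁻¹ = t := by
        rw [Subgroup.mem_centralizer_iff] at hg
        have := hg t (Set.mem_singleton t)
        rw [← this]; group
      exact key (H ⊓ H.map (MulAut.conj g).toMonoidHom) t ⟨ht, ⟨t, ht, hg'⟩⟩ ho (hodd g hgH)
    · intro t ht s hs hot hos hc
      obtain ⟨g, hg⟩ := isConj_iff.mp hc
      by_cases hgH : g ∈ H
      · exact ⟨g, hgH, hg⟩
      · exfalso
        exact key (H ⊓ H.map (MulAut.conj g).toMonoidHom) s ⟨hs, ⟨t, ht, hg⟩⟩ hos (hodd g hgH)
  · rintro ⟨h1, h2⟩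
    refine ⟨hH, heven, ?_⟩
    intro g hg
    by_contra hne
    have heven' : 2 ∣ Nat.card ↥(H ⊓ H.map (MulAut.conj g).toMonoidHom) :=
      even_iff_two_dvd.mp (Nat.not_odd_iff_even.mp hne)
    obtain ⟨x, hx⟩ := exists_prime_orderOf_dvd_card' (G := ↥(H ⊓ H.map (MulAut.conj g).toMonoidHom)) 2 heven'
    have hs : (x : G) ∈ H := x.2.1
    obtain ⟨t, ht, hts⟩ := x.2.2
    have hts' : g * t * g⁻¹ = (x : G) := hts
    have hox : orderOf (x : G) = 2 := by rw [Subgroup.orderOf_coe]; exact hx
    have hot : orderOf t = 2 := by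
      have : orderOf (g * t * g⁻¹) = orderOf t := by
        simpa using orderOf_injective (MulAut.conj g).toMonoidHom (MulAut.conj g).injective t
      rw [← this, hts']; exact hox
    obtain ⟨h, hh, hht⟩ := h2 t ht x hs hot hox (isConj_iff.mpr ⟨g, hts'⟩)
    apply hg
    have hc : h⁻¹ * g ∈ Subgroup.centralizer ({t} : Set G) := by
      rw [Subgroup.mem_centralizer_iff]
      intro y hy
      rw [Set.mem_singleton_iff] at hy
      subst hy
      have e : g * y * g⁻¹ = h * y * h⁻¹ := by rw [hts', hht]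
      have : (h⁻¹ * g) * y * (h⁻¹ * g)⁻¹ = y := by
        have : (h⁻¹ * g) * y * (h⁻¹ * g)⁻¹ = h⁻¹ * (g * y * g⁻¹) * h := by group
        rw [this, e]; group
      calc y * (h⁻¹ * g) = ((h⁻¹ * g) * y * (h⁻¹ * g)⁻¹) * (h⁻¹ * g) := by rw [this]
        _ = (h⁻¹ * g) * y := by group
    have := H.mul_mem hh (h1 t ht hot hc)
    simpa using this

end Cfsg.Agent.S0223
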