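import Cfsg.Statements.S0224
import Mathlib
-- import your own Cfsg.Agent.* helpers here

set_option autoImplicit false
open Cfsg

namespace Cfsg.Agent.S0224

/-- Let H be a proper subgroup of even order of the finite group G. Then H is strongly embedded if and only if each involution of H fixes exactly one point (namely the coset H) in the action of G on the cosets of H. -/
theorem result {G : Type*} [Group G] [Finite G] (H : Subgroup G) (hH : H ≠ ⊤) (heven : Even (Nat.card H)) : Cfsg.IsStronglyEmbedded H ↔ ∀ t ∈ H, orderOf t = 2 → Nat.card {c : G ⧸ H // t • c = c} = 1 := by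
  classical
  have : Fintype G := Fintype.ofFinite G
  have hfix : ∀ (t g : G), t • ((g : G ⧸ H)) = (g : G ⧸ H) ↔ g⁻¹ * t * g ∈ H := by
    intro t g
    rw [MulAction.Quotient.smul_coe, QuotientGroup.eq]
    have : (t • g)⁻¹ * g = (g⁻¹ * t * g)⁻¹ := by
      simp only [smul_eq_mul]; group
    rw [this, Subgroup.inv_mem_iff]
  constructor
  · rintro ⟨-, -, hodd⟩ t ht ht2
    rw [Nat.card_eq_one_iff_unique]
    refine ⟨⟨?_⟩, ⟨⟨((1 : G) : G ⧸ H), ?_⟩⟩⟩
    · rintro ⟨c, hc⟩ ⟨d, hd⟩
      have key : ∀ c : G ⧸ H, t • c = c → c = ((1 : G) : G ⧸ H) := by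
        intro c hc
        induction c using QuotientGroup.induction_on with
        | H g =>
          rw [hfix] at hc
          by_contra hne
          have hg : g ∉ H := by
            intro hg
            apply hne
            rw [QuotientGroup.eq]
            simpa using hg
          have hmem : t ∈ H ⊓ H.map (MulAut.conj g).toMonoidHom := by
            refine ⟨ht, ?_⟩
            refine ⟨g⁻¹ * t * g, hc, ?_⟩
            simp [MulAut.conj_apply]
            group
          have h2 : 2 ∣ Nat.card ↥(H ⊓ H.map (MulAut.conj g).toMonoidHom) := by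
            have := Subgroup.orderOf_dvd_natCard (H ⊓ H.map (MulAut.conj g).toMonoidHom) hmem
            rwa [ht2] at this
          have := hodd g hg
          exact (Nat.not_even_iff_odd.mpr this) (even_iff_two_dvd.mpr h2)
      exact Subtype.ext ((key c hc).trans (key d hd).symm)
    · rw [hfix]
      simpa using ht
  · intro h
    refine ⟨hH, heven, ?_⟩
    intro g hg
    by_contra hodd
    rw [Nat.not_odd_iff_even, even_iff_two_dvd] at hodd
    have : Fact (Nat.Prime 2) := ⟨Nat.prime_two⟩
    obtain ⟨⟨t, ht⟩, hto⟩ := exists_prime_orderOf_dvd_card' (G := ↥(H ⊓ H.map (MulAut.conj g).toMonoidHom)) 2 hodd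
    have hto' : orderOf t = 2 := by
      rw [← hto]; exact (Subgroup.orderOf_mk t ht).symm
    obtain ⟨htH, u, hu, hut⟩ := ht
    have h1 := h t htH hto'
    rw [Nat.card_eq_one_iff_unique] at h1
    have hus := h1.1
    have hfix1 : t • ((1 : G) : G ⧸ H) = ((1 : G) : G ⧸ H) := by
      rw [hfix]; simpa using htH
    have hfixg : t • (g : G ⧸ H) = (g : G ⧸ H) := by
      rw [hfix]
      have : g⁻¹ * t * g = u := by
        rw [← hut]
        simp [MulAut.conj_apply]
        group
      rw [this]; exact hu
    have := hus.elim ⟨_, hfix1⟩ ⟨_, hfixg⟩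
    have h2 : ((1 : G) : G ⧸ H) = (g : G ⧸ H) := congrArg Subtype.val this
    rw [QuotientGroup.eq] at h2
    exact hg (by simpa using h2)

end Cfsg.Agent.S0224
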