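import Cfsg.Statements.S0227
import Cfsg.Agent.S0205
import Cfsg.Agent.Lib.PGroup.CentAut
-- import your own Cfsg.Agent.* helpers here

set_option autoImplicit false
open Cfsg

namespace Cfsg.Agent.S0227

/-- Let G be a finite group with no nontrivial normal subgroup of odd order, S a Sylow 2-subgroup, and C the group of automorphisms of G that fix every element of S. Then every Sylow 2-subgroup of C is abelian and has a normal complement in C; in particular C is solvable. -/
theorem result {G : Type*} [Group G] [Finite G] (hO : ∀ N : Subgroup G, N.Normal → Odd (Nat.card N) → N = ⊥) (S : Sylow 2 G) (C : Subgroup (MulAut G)) (hC : ∀ φ : MulAut G, φ ∈ C ↔ ∀ s : G, s ∈ S → φ s = s) : (∀ T : Sylow 2 ↥C, (∀ a b : ↥T, a * b = b * a) ∧ ∃ N : Subgroup ↥C, N.Normal ∧ Subgroup.IsComplement' N (T : Subgroup ↥C)) ∧ Group.IsSolvable ↥C := by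
  classical
  refine ⟨fun P => ?_, ?_⟩
  · obtain ⟨h1, N, hN, hc, -, -⟩ := Cfsg.Agent.Lib.PGroup.CentAut.main_parts hO S C hC P
    exact ⟨h1, N, hN, hc⟩
  · obtain ⟨P⟩ : Nonempty (Sylow 2 ↥C) := inferInstance
    obtain ⟨-, N, hN, -, hodd, hcomm⟩ := Cfsg.Agent.Lib.PGroup.CentAut.main_parts hO S C hC P
    haveI : Group.IsSolvable ↥N := Cfsg.Agent.S0205.result hodd
    haveI : Group.IsSolvable (↥C ⧸ N) := by
      apply isSolvable_of_comm
      intro x y
      obtain ⟨a, rfl⟩ := QuotientGroup.mk_surjective x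
      obtain ⟨b, rfl⟩ := QuotientGroup.mk_surjective y
      have h1 := hcomm b⁻¹ a⁻¹
      rw [← QuotientGroup.mk_mul, ← QuotientGroup.mk_mul, QuotientGroup.eq]
      have e : (a * b)⁻¹ * (b * a) = b⁻¹ * a⁻¹ * (b⁻¹)⁻¹ * (a⁻¹)⁻¹ := by group
      rw [e]
      exact h1
    exact solvable_of_ker_le_range N.subtype (QuotientGroup.mk' N) (by
      intro x hx
      rw [QuotientGroup.ker_mk'] at hx
      exact ⟨⟨x, hx⟩, rfl⟩)

end Cfsg.Agent.S0227
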