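import Cfsg.Statements.S0233
import Cfsg.Agent.Lib.Basic.InvolutionPairs
import Mathlib

set_option autoImplicit false
open Cfsg

namespace Cfsg.Agent.S0233

open Cfsg.Agent.Lib.Basic.InvolutionPairs

variable {G : Type*} [Group G]

/-- The subgroup of elements conjugating `x` to `x` or `x⁻¹`. -/
def invGroup (x : G) : Subgroup G where
  carrier := {g | g * x * g⁻¹ = x ∨ g * x * g⁻¹ = x⁻¹}
  mul_mem' := by
    intro a b ha hb
    have e : a * b * x * (a * b)⁻¹ = a * (b * x * b⁻¹) * a⁻¹ := by group
    simp only [Set.mem_ofPred_eq] at ha hb ⊢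
    rw [e]
    rcases hb with hb | hb <;> rw [hb]
    · exact ha
    · rcases ha with ha | ha
      · right
        have : a * x⁻¹ * a⁻¹ = (a * x * a⁻¹)⁻¹ := by group
        rw [this, ha]
      · left
        have : a * x⁻¹ * a⁻¹ = (a * x * a⁻¹)⁻¹ := by group
        rw [this, ha, inv_inv]
  one_mem' := by simp
  inv_mem' := by
    intro a ha
    simp only [Set.mem_ofPred_eq] at ha ⊢
    rcases ha with ha | ha
    · left
      nth_rewrite 1 [← ha]
      group
    · right
      have : a⁻¹ * x * a⁻¹⁻¹ = (a⁻¹ * x⁻¹ * a⁻¹⁻¹)⁻¹ := by group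
      rw [this]
      nth_rewrite 1 [← ha]
      have : a⁻¹ * (a * x * a⁻¹) * a⁻¹⁻¹ = x := by group
      rw [this]

theorem mem_invGroup {x g : G} : g ∈ invGroup x ↔ g * x * g⁻¹ = x ∨ g * x * g⁻¹ = x⁻¹ := Iff.rfl

/-- Let G be a finite group of even order with exactly n involutions whose centre has odd order, and put a = |G|/n. Then G has a proper subgroup H with |G : H| = 2 or |G : H| < a(a+1)/2; over ℕ the latter reads 2·|G:H|·n² < |G|·(|G| + n). -/
theorem result {G : Type*} [Group G] [Finite G] (heven : Even (Nat.card G)) (hZ : Odd (Nat.card (Subgroup.center G))) : ∃ H : Subgroup G, H ≠ ⊤ ∧ (H.index = 2 ∨ 2 * H.index * (Nat.card {t : G // orderOf t = 2}) ^ 2 < Nat.card G * (Nat.card G + Nat.card {t : G // orderOf t = 2})) := by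
  classical
  haveI := Fintype.ofFinite G
  set I : Finset G := Finset.univ.filter (fun t => orderOf t = 2) with hI
  have hmemI : ∀ t, t ∈ I ↔ orderOf t = 2 := fun t => by simp [hI]
  have hn' : Nat.card {t : G // orderOf t = 2} = I.card := by
    rw [Nat.card_eq_fintype_card, Fintype.card_subtype]
  rw [hn']
  set n := I.card with hn
  set N := Nat.card G with hN
  set Q := N + n with hQ
  by_contra hno
  push Not at hno
  have hcardH : ∀ H : Subgroup G, H ≠ ⊤ → Nat.card H * Q ≤ 2 * n ^ 2 := by
    intro H hH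
    have h1 := (hno H hH).2
    have h2 := Subgroup.card_mul_index H
    have h3 : H.index ≠ 0 := Subgroup.index_ne_zero_of_finite
    refine Nat.le_of_mul_le_mul_left (?_ : H.index * _ ≤ H.index * _) (Nat.pos_of_ne_zero h3)
    calc H.index * (Nat.card H * Q) = (Nat.card H * H.index) * Q := by ring
      _ = N * Q := by rw [h2]
      _ ≤ 2 * H.index * n ^ 2 := h1
      _ = _ := by ring
  -- there is an involution
  obtain ⟨t₁, ht₁⟩ : ∃ t : G, orderOf t = 2 :=
    exists_prime_orderOf_dvd_card' (G := G) 2 (even_iff_two_dvd.mp heven)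
  have hnpos : 0 < n := Finset.card_pos.mpr ⟨t₁, (hmemI t₁).mpr ht₁⟩
  -- pairs of involutions with given product
  let P : G → Finset (G × G) := fun x => (I ×ˢ I).filter (fun p => p.1 * p.2 = x)
  have hsum : ∑ x, (P x).card = n ^ 2 := by
    have := Finset.card_eq_sum_card_fiberwise (f := fun p : G × G => p.1 * p.2) (s := I ×ˢ I)
      (t := Finset.univ) (fun _ _ => Finset.mem_coe.mpr (Finset.mem_univ _))
    rw [Finset.card_product] at this
    rw [pow_two]
    exact this.symm
  have hPmem : ∀ x p, p ∈ P x ↔ (orderOf p.1 = 2 ∧ orderOf p.2 = 2) ∧ p.1 * p.2 = x := by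
    intro x p
    simp [P, hmemI]
  have hinj : ∀ x, Set.InjOn (fun p : G × G => p.1) (P x : Finset (G × G)) := by
    intro x p hp q hq hpq
    have h1 := ((hPmem x p).mp hp).2
    have h2 := ((hPmem x q).mp hq).2
    simp only at hpq
    apply Prod.ext hpq
    rw [hpq] at h1
    exact mul_left_cancel (h1.trans h2.symm)
  have hinverts : ∀ x p, p ∈ P x → p.1 * x * p.1⁻¹ = x⁻¹ := by
    intro x p hp
    obtain ⟨⟨h1, h2⟩, rfl⟩ := (hPmem x p).mp hp
    exact conj_mul_eq_inv h1 h2
  have hcardC : ∀ x, (Finset.univ.filter (fun y => y * x = x * y)).card =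
      Nat.card (Subgroup.centralizer ({x} : Set G)) := by
    intro x
    rw [Nat.card_eq_fintype_card, Fintype.card_subtype]
    congr 1
    ext y
    simp [Subgroup.mem_centralizer_singleton_iff]
  -- the three bounds
  have h1 : (P 1).card ≤ n := by
    apply Finset.card_le_card_of_injOn (fun p : G × G => p.1) _ (hinj 1)
    intro p hp
    exact (hmemI _).mpr ((hPmem 1 p).mp hp).1.1
  have h2 : ∀ x ∈ I, (P x).card * Q + Q ≤ 2 * n ^ 2 := by
    intro x hx
    have hxord := (hmemI x).mp hx
    have hne : Subgroup.centralizer ({x} : Set G) ≠ ⊤ := by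
      intro htop
      have hmem : x ∈ Subgroup.center G := by
        rw [Subgroup.mem_center_iff]
        intro g
        have : g ∈ Subgroup.centralizer ({x} : Set G) := by rw [htop]; trivial
        exact Subgroup.mem_centralizer_singleton_iff.mp this
      have h3 : orderOf (⟨x, hmem⟩ : Subgroup.center G) = 2 := by
        rw [Subgroup.orderOf_mk]; exact hxord
      have h4 := orderOf_dvd_natCard (⟨x, hmem⟩ : Subgroup.center G)
      rw [h3] at h4
      exact (Nat.not_even_iff_odd.mpr hZ) (even_iff_two_dvd.mpr h4)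
    have h3 := hcardH _ hne
    have h4 : (P x).card + 1 ≤ Nat.card (Subgroup.centralizer ({x} : Set G)) := by
      rw [← hcardC x]
      have h5 : 1 ∉ (P x).image (fun p : G × G => p.1) := by
        intro h
        obtain ⟨p, hp, hp1⟩ := Finset.mem_image.mp h
        have := ((hPmem x p).mp hp).1.1
        have hp1' : p.1 = 1 := hp1
        rw [hp1', orderOf_one] at this
        omega
      have h6 : insert 1 ((P x).image (fun p : G × G => p.1)) ⊆
          Finset.univ.filter (fun y => y * x = x * y) := by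
        intro y hy
        rw [Finset.mem_insert] at hy
        rcases hy with rfl | hy
        · simp
        · obtain ⟨p, hp, rfl⟩ := Finset.mem_image.mp hy
          have h7 := hinverts x p hp
          rw [inv_eq_of_orderOf_two hxord] at h7
          refine Finset.mem_filter.mpr ⟨Finset.mem_univ _, ?_⟩
          calc p.1 * x = (p.1 * x * p.1⁻¹) * p.1 := by group
            _ = x * p.1 := by rw [h7]
      have h8 := Finset.card_le_card h6
      rw [Finset.card_insert_of_notMem h5, Finset.card_image_of_injOn (hinj x)] at h8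
      exact h8
    calc (P x).card * Q + Q = ((P x).card + 1) * Q := by ring
      _ ≤ Nat.card (Subgroup.centralizer ({x} : Set G)) * Q := Nat.mul_le_mul_right _ h4
      _ ≤ _ := h3
  let R : Finset G := Finset.univ.filter (fun x => x ≠ 1 ∧ x ∉ I)
  have h3 : ∀ x ∈ R, (P x).card * Q ≤ n ^ 2 := by
    intro x hx
    obtain ⟨-, hx1, hxI⟩ := Finset.mem_filter.mp hx
    by_cases hemp : (P x) = ∅
    · rw [hemp]; simp
    obtain ⟨p₀, hp₀⟩ := Finset.nonempty_iff_ne_empty.mpr hemp
    set t₀ := p₀.1 with ht₀
    have ht₀inv : t₀ * x * t₀⁻¹ = x⁻¹ := hinverts x p₀ hp₀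
    have hxinv : x ≠ x⁻¹ := by
      intro h
      have h4 : x ^ 2 = 1 := by
        rw [pow_two]
        nth_rewrite 2 [h]
        simp
      have : orderOf x = 2 := orderOf_eq_prime h4 hx1
      exact hxI ((hmemI x).mpr this)
    have hPC : (P x).card ≤ Nat.card (Subgroup.centralizer ({x} : Set G)) := by
      rw [← hcardC x]
      apply Finset.card_le_card_of_injOn (fun p : G × G => t₀⁻¹ * p.1)
      · intro p hp
        refine Finset.mem_coe.mpr (Finset.mem_filter.mpr ⟨Finset.mem_univ _, ?_⟩)
        have h7 := hinverts x p (Finset.mem_coe.mp hp)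
        -- both t₀ and p.1 invert x
        have h8 : p.1 * x = x⁻¹ * p.1 := by
          calc p.1 * x = (p.1 * x * p.1⁻¹) * p.1 := by group
            _ = _ := by rw [h7]
        have h9 : t₀ * x = x⁻¹ * t₀ := by
          calc t₀ * x = (t₀ * x * t₀⁻¹) * t₀ := by group
            _ = _ := by rw [ht₀inv]
        have h10 : t₀⁻¹ * x⁻¹ = x * t₀⁻¹ := by
          calc t₀⁻¹ * x⁻¹ = t₀⁻¹ * (t₀ * x * t₀⁻¹) := by rw [ht₀inv]
            _ = x * t₀⁻¹ := by group
        calc t₀⁻¹ * p.1 * x = t₀⁻¹ * (p.1 * x) := by group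
          _ = t₀⁻¹ * (x⁻¹ * p.1) := by rw [h8]
          _ = (t₀⁻¹ * x⁻¹) * p.1 := by group
          _ = (x * t₀⁻¹) * p.1 := by rw [h10]
          _ = _ := by group
      · intro p hp q hq hpq
        simp only at hpq
        exact hinj x hp hq (mul_left_cancel hpq)
    set C := Subgroup.centralizer ({x} : Set G) with hC
    have ht₀mem : t₀ ∈ invGroup x := Or.inr ht₀inv
    have hCle : C ≤ invGroup x := by
      intro c hc
      left
      have := Subgroup.mem_centralizer_singleton_iff.mp hc
      rw [this]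
      group
    have ht₀C : t₀ ∉ C := by
      intro h
      have h5 := Subgroup.mem_centralizer_singleton_iff.mp h
      apply hxinv
      rw [← ht₀inv, h5]
      group
    have hxor : ∀ b ∈ invGroup x, Xor (b * t₀ ∈ C) (b ∈ C) := by
      intro b hb
      rcases hb with hb | hb
      · have hbC : b ∈ C := by
          apply Subgroup.mem_centralizer_singleton_iff.mpr
          calc b * x = (b * x * b⁻¹) * b := by group
            _ = x * b := by rw [hb]
        refine Or.inr ⟨hbC, fun h => ht₀C ?_⟩
        have := C.mul_mem (C.inv_mem hbC) h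
        simpa using this
      · have hbC : b ∉ C := by
          intro h
          have h5 := Subgroup.mem_centralizer_singleton_iff.mp h
          apply hxinv
          rw [← hb, h5]
          group
        refine Or.inl ⟨?_, hbC⟩
        apply Subgroup.mem_centralizer_singleton_iff.mpr
        have h6 : (b * t₀) * x * (b * t₀)⁻¹ = x := by
          have : (b * t₀) * x * (b * t₀)⁻¹ = b * (t₀ * x * t₀⁻¹) * b⁻¹ := by group
          rw [this, ht₀inv]
          have h7 : b * x⁻¹ * b⁻¹ = (b * x * b⁻¹)⁻¹ := by group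
          rw [h7, hb, inv_inv]
        calc (b * t₀) * x = ((b * t₀) * x * (b * t₀)⁻¹) * (b * t₀) := by group
          _ = x * (b * t₀) := by rw [h6]
    by_cases htop : invGroup x = ⊤
    · exfalso
      have hidx : C.index = 2 := by
        rw [Subgroup.index_eq_two_iff]
        exact ⟨t₀, fun b => hxor b (by rw [htop]; trivial)⟩
      exact (hno C (fun h => ht₀C (by rw [h]; trivial))).1 hidx
    · have h4 := hcardH _ htop
      have hidx : (C.subgroupOf (invGroup x)).index = 2 := by
        rw [Subgroup.index_eq_two_iff]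
        refine ⟨⟨t₀, ht₀mem⟩, fun b => ?_⟩
        exact hxor b b.2
      have h5 := Subgroup.card_mul_index (C.subgroupOf (invGroup x))
      rw [hidx] at h5
      have h6 : Nat.card (C.subgroupOf (invGroup x)) = Nat.card C :=
        Nat.card_congr (Subgroup.subgroupOfEquivOfLe hCle).toEquiv
      rw [h6] at h5
      rw [← h5] at h4
      have h7 : Nat.card C * Q ≤ n ^ 2 := by
        have : 2 * (Nat.card C * Q) ≤ 2 * n ^ 2 := by
          calc 2 * (Nat.card C * Q) = Nat.card C * 2 * Q := by ring
            _ ≤ _ := h4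
        omega
      exact (Nat.mul_le_mul_right _ hPC).trans h7
  -- summation
  have hI1 : (1 : G) ∉ I := by
    intro h
    have := (hmemI 1).mp h
    rw [orderOf_one] at this
    omega
  have hU : (Finset.univ : Finset G) = insert 1 (I ∪ R) := by
    ext x
    constructor
    · intro _
      rw [Finset.mem_insert, Finset.mem_union]
      by_cases hx1 : x = 1
      · exact Or.inl hx1
      · by_cases hxI : x ∈ I
        · exact Or.inr (Or.inl hxI)
        · exact Or.inr (Or.inr (Finset.mem_filter.mpr ⟨Finset.mem_univ _, hx1, hxI⟩))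
    · intro _
      exact Finset.mem_univ _
  have hdisj : Disjoint I R := by
    rw [Finset.disjoint_left]
    intro x hx hx'
    exact (Finset.mem_filter.mp hx').2.2 hx
  have h1UR : (1 : G) ∉ I ∪ R := by
    simp only [Finset.mem_union, not_or]
    exact ⟨hI1, fun h => (Finset.mem_filter.mp h).2.1 rfl⟩
  have hcardU : N = 1 + (n + R.card) := by
    have : Fintype.card G = (insert 1 (I ∪ R)).card := by
      rw [← hU, Finset.card_univ]
    rw [Finset.card_insert_of_notMem h1UR, Finset.card_union_of_disjoint hdisj] at this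
    rw [hN, Nat.card_eq_fintype_card, this]
    omega
  have hsumF : ∑ x, (P x).card * Q = n ^ 2 * Q := by
    rw [← Finset.sum_mul, hsum]
  have hsplit : ∑ x, (P x).card * Q =
      (P 1).card * Q + (∑ x ∈ I, (P x).card * Q + ∑ x ∈ R, (P x).card * Q) := by
    rw [hU, Finset.sum_insert h1UR, Finset.sum_union hdisj]
  have hIsum : ∑ x ∈ I, (P x).card * Q + n * Q ≤ n * (2 * n ^ 2) := by
    have h5 : ∑ x ∈ I, ((P x).card * Q + Q) ≤ ∑ _x ∈ I, (2 * n ^ 2) := Finset.sum_le_sum h2
    rw [Finset.sum_add_distrib, Finset.sum_const, Finset.sum_const, smul_eq_mul, smul_eq_mul] at h5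
    exact h5
  have hRsum : ∑ x ∈ R, (P x).card * Q ≤ R.card * n ^ 2 := by
    have h5 : ∑ x ∈ R, (P x).card * Q ≤ ∑ _x ∈ R, n ^ 2 := Finset.sum_le_sum h3
    rwa [Finset.sum_const, smul_eq_mul] at h5
  have h1Q : (P 1).card * Q ≤ n * Q := Nat.mul_le_mul_right _ h1
  have hfinal : n ^ 2 * Q + n * Q ≤ n * Q + (n * (2 * n ^ 2) + R.card * n ^ 2) := by
    rw [← hsumF, hsplit]
    omega
  have hQval : Q = 1 + (n + R.card) + n := by rw [hQ, hcardU]
  rw [hQval] at hfinal
  have hpos : 0 < n ^ 2 := pow_pos hnpos 2
  generalize R.card = r at hfinal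
  generalize n ^ 2 = m at hfinal hpos
  have e1 : m * (1 + (n + r) + n) + n * (1 + (n + r) + n) = n * (1 + (n + r) + n) + (m + 2 * (n * m) + r * m) := by ring
  have e2 : n * (1 + (n + r) + n) + (n * (2 * m) + r * m) = n * (1 + (n + r) + n) + (2 * (n * m) + r * m) := by ring
  rw [e1, e2] at hfinal
  omega

end Cfsg.Agent.S0233
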