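import Cfsg.Statements.S0340
import Mathlib
import Cfsg.Agent.Lib.Zass.Ito3
import Cfsg.Agent.S0344
import Cfsg.Agent.S0347
import Cfsg.Agent.S0731
import Cfsg.Agent.S0738
import Cfsg.Agent.S0727
import Cfsg.Agent.Lib.Perm.ZassSharpEven
import Cfsg.Agent.Lib.PSL2.Overgroups

set_option autoImplicit false
open Cfsg

namespace Cfsg.Agent.S0340

open MulAction Cfsg.Agent.Lib.Zass.Basic
open scoped MatrixGroups

/-- In characteristic two, `PGL(2, K)` and `PSL(2, K)` coincide. -/
theorem pgl_equiv_psl (K : Type) [Field K] [Fintype K] (h2 : (2 : K) = 0) :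
    Nonempty (Matrix.ProjGenLinGroup (Fin 2) K ≃* Matrix.ProjectiveSpecialLinearGroup (Fin 2) K) := by
  classical
  have hch : ringChar K = 2 := by
    haveI : CharP K 2 := by
      refine CharTwo.of_one_ne_zero_of_two_eq_zero one_ne_zero h2
    exact ringChar.eq K 2
  have hr : ∀ c : K, c ≠ 0 → ∃ r : K, r ≠ 0 ∧ r * r = (RingHom.id K) c := by
    intro c hc
    obtain ⟨r, hr⟩ := FiniteField.isSquare_of_char_two hch c
    refine ⟨r, ?_, hr.symm⟩
    rintro rfl
    apply hc
    rw [hr, mul_zero]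
  obtain ⟨f, hf⟩ := Cfsg.Agent.Lib.PSL2.Overgroups.exists_pgl_embed (RingHom.id K) hr
  have hcard : Nat.card (Matrix.ProjGenLinGroup (Fin 2) K) =
      Nat.card (Matrix.ProjectiveSpecialLinearGroup (Fin 2) K) := by
    rw [Cfsg.Agent.Lib.PSL2.FieldEmbed.card_PGL, Cfsg.Agent.Lib.PSL2.Basic.card_PSL2_of_two_eq_zero h2]
  haveI : Finite (Matrix.ProjGenLinGroup (Fin 2) K) := by
    unfold Matrix.ProjGenLinGroup
    infer_instance
  exact ⟨MulEquiv.ofBijective f ((Nat.bijective_iff_injective_and_card f).mpr ⟨hf, hcard⟩)⟩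

/-- Classification of Zassenhaus groups, simple case, order-level form: a finite simple Zassenhaus group is
isomorphic to `PSL₂(F)` for some finite field `F` or is simple of Suzuki order. -/
theorem result {G Ω : Type*} [Group G] [Finite G] [MulAction G Ω]
    [Finite Ω] (hZ : Cfsg.IsZassenhausGroup G Ω) [IsSimpleGroup G] :
    (∃ (F : Type) (_ : Field F) (_ : Fintype F), Nonempty (G ≃* Matrix.ProjectiveSpecialLinearGroup (Fin 2) F)) ∨ Cfsg.IsSuzuki G := by
  classical
  haveI := Fintype.ofFinite G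
  haveI := Fintype.ofFinite Ω
  obtain ⟨g, hg, a, b, hab, -, -⟩ := exists_ne_one_fix hZ
  have hFle : kernel hZ a ≤ stabilizer G a := kernel_le hZ a
  have hFn : ((kernel hZ a).subgroupOf (stabilizer G a)).Normal := by
    constructor
    intro x hx y
    rw [Subgroup.mem_subgroupOf] at hx ⊢
    exact conj_mem_kernel_of_fix hZ y.2 hx
  have hreg : ∀ y z : Ω, y ≠ a → z ≠ a → ∃! u : kernel hZ a, (u : G) • y = z := by
    intro y z hy hz
    obtain ⟨u, hu, huy⟩ := exists_kernel_smul hZ hy hz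
    refine ⟨⟨u, hu⟩, huy, ?_⟩
    rintro ⟨v, hv⟩ hvy
    apply Subtype.ext
    exact kernel_eq_of_smul_eq hZ hy hv hu (hvy.trans huy.symm)
  by_cases heven : Even (Nat.card ↥(stabilizer G a ⊓ stabilizer G b))
  · obtain ⟨F, iF, iK, -, h⟩ := Cfsg.Agent.S0344.result hZ hab heven
    exact Or.inl ⟨F, iF, iK, h⟩
  have hodd := Nat.not_even_iff_odd.mp heven
  rcases Cfsg.Agent.Lib.Zass.Ito3.feit_simple hZ hab hodd with hd | ⟨h2, hna, -⟩
  · obtain ⟨hcomm, -⟩ := Cfsg.Agent.S0738.result hZ hab hd (kernel hZ a) hFle hFn hreg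
    left
    rcases Cfsg.Agent.S0731.result hZ a (kernel hZ a) hFle hFn hcomm hreg with
      ⟨h3, hsharp⟩ | ⟨K, iF, iK, -, hiso⟩
    · have hS := Cfsg.Agent.Lib.Perm.ZassSharpEven.sharp3_of h3 hsharp
      haveI : FaithfulSMul G Ω := hZ.1
      obtain ⟨u, hu, hu1⟩ : ∃ c : Ω, c ≠ a ∧ c ≠ b := exists_third hZ hab
      have hcard := Cfsg.Agent.Lib.Perm.ZassSharpEven.card_two_point hS hab hu.symm hu1.symm
      have hoddΩ : Odd (Fintype.card Ω) := by
        rw [← hcard]
        exact hodd.add_even even_two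
      have h3le : 3 ≤ Fintype.card Ω := by
        have : 0 < Nat.card ↥(stabilizer G a ⊓ stabilizer G b) := Nat.card_pos
        omega
      obtain ⟨F, iF, iK, hF, ⟨hiso⟩⟩ := Cfsg.Agent.S0727.main_theorem (G := G) hS.tr hS.fix hoddΩ h3le
      have heF : Even (Fintype.card F) := by
        have h5 : Fintype.card Ω = Fintype.card F + 1 := hF.symm
        rw [h5] at hoddΩ
        by_contra hne
        have := Nat.not_even_iff_odd.mp hne
        exact (Nat.not_even_iff_odd.mpr hoddΩ) (this.add_one)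
      have h2F : (2 : F) = 0 := by
        have hc : ringChar F = 2 := by
          apply FiniteField.even_card_iff_char_two.mpr
          exact Nat.even_iff.mp heF
        haveI : CharP F 2 := hc ▸ ringChar.charP F
        exact CharTwo.two_eq_zero
      obtain ⟨hp⟩ := pgl_equiv_psl F h2F
      exact ⟨F, iF, iK, ⟨hiso.trans hp⟩⟩
    · exact ⟨K, iF, iK, hiso⟩
  · right
    exact Cfsg.Agent.S0347.result hZ a _ hFle hFn h2 hna hreg

end Cfsg.Agent.S0340
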