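import Cfsg.Statements.S0374
import Cfsg.Agent.Lib.Compute.M24Card
import Cfsg.Agent.Lib.Compute.M24Slp

set_option autoImplicit false
open Cfsg

namespace Cfsg.Agent.S0374

open Cfsg.Agent.Lib.Compute.M24

/-- A straight line program from the three generators to the transversals of `m24Levels`. -/
def m24Prog : List (ℕ × ℕ) := [
  (3,3),(4,0),(5,0),(2,6),(0,7),(6,6),(9,7),(8,1),(11,2),(10,2),(13,3),(12,2),(13,2),(16,3),(15,3),(16,3),
  (17,3),(20,4),(21,4),(20,3),(23,4),(22,3),(23,3),(26,4),(27,4),(28,4),(15,15),(0,16),(0,17),(30,21),(1,0),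
  (0,34),(35,1),(2,2),(3,33),(4,2),(39,2),(6,3),(7,36),(42,4),(43,4),(10,5),(45,5),(12,6),(13,41),(48,4),
  (49,4),(13,13),(0,14),(52,17),(1,0),(0,0),(1,0),(2,0),(2,3),(0,4),(4,4),(0,5),(0,6),(6,6),(0,7),(0,8),
  (31,30),(58,0),(0,13),(14,1),(15,1),(16,1),(4,2),(5,16),(19,3),(7,4),(21,4),(22,2),(10,3),(24,3),(12,4),
  (26,4),(14,4),(15,15),(24,0),(0,0),(18,30),(24,0),(3,0),(4,0),(2,2),(0,6),(7,1),(2,7),(9,2),(4,2),(11,2),
  (29,25),(32,0),(0,11),(12,1),(2,12),(14,2),(18,2),(5,3),(6,15),(18,4),(22,4),(9,5),(24,5),(25,5),(23,6),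
  (24,6),(28,5),(14,14),(0,15),(0,16),(32,18),(1,0),(22,0),(0,0),(1,30),(2,36),(3,31),(33,2),(5,31),(35,3),
  (7,3),(125,126),(126,0),(128,1),(130,2),(129,2),(131,3),(133,4),(134,4),(133,4),(136,5),(136,5),(136,5),
  (137,5),(140,5),(139,5),(140,5),(141,5),(142,5),(144,6),(146,7),(147,5),(147,5)]

/-- The coded generators. -/
def m24Init : List (List ℕ) := [[0,1,2,3,4,5,6,7,8,9,10,11,12,13,14,15,16,17,18,19,20,21,22,23],[1,2,3,4,5,6,7,8,9,10,11,12,13,14,15,16,17,18,19,20,21,22,0,23],[23,22,11,15,17,9,19,13,20,5,16,2,21,7,18,3,10,4,14,6,8,12,1,0],[0,18,6,3,2,21,1,5,16,12,7,19,8,9,17,15,13,11,4,22,10,20,14,23]]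

theorem init_eq : m24Init = [idL, toL (Equiv.optionCongr (Equiv.addRight (1 : ZMod 23))), toL Cfsg.projInv,
    toL Cfsg.cubeTwist] := by decide +kernel

theorem slp_ok :
    m24Levels.all (fun lv => lv.T.all (fun L => (slpRun m24Init m24Prog).contains L)) = true := by decide +kernel

/-- The group of the code is generated by the translation, the inversion and the cube twist. -/
theorem result : Subgroup.closure {Equiv.optionCongr (Equiv.addRight (1 : ZMod 23)), Cfsg.projInv, Cfsg.cubeTwist} = Cfsg.M24 := by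
  apply le_antisymm
  · rw [Subgroup.closure_le]
    rintro σ (rfl | rfl | rfl)
    · exact mem_M24_of_inM24 (codes_toL _) (by decide +kernel)
    · exact mem_M24_of_inM24 (codes_toL _) (by decide +kernel)
    · exact mem_M24_of_inM24 (codes_toL _) (by decide +kernel)
  · rw [M24_eq_closure]
    refine chainGens_le_of_slp _ m24Init m24Prog m24Levels ?_ slp_ok
    intro L hL
    rw [init_eq] at hL
    simp only [List.mem_cons, List.not_mem_nil, or_false] at hL
    rcases hL with rfl | rfl | rfl | rfl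
    · exact ⟨1, Subgroup.one_mem _, toL_one.symm⟩
    · exact ⟨_, Subgroup.subset_closure (Or.inl rfl), rfl⟩
    · exact ⟨_, Subgroup.subset_closure (Or.inr (Or.inl rfl)), rfl⟩
    · exact ⟨_, Subgroup.subset_closure (Or.inr (Or.inr rfl)), rfl⟩

end Cfsg.Agent.S0374
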