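import Cfsg.Statements.S0493
import Cfsg.Agent.Lib.Basic.SmallSimple
import Mathlib

set_option autoImplicit false
open Cfsg

namespace Cfsg.Agent.S0493

open Cfsg.Agent.Lib.Basic.SmallSimple

/-- A finite simple group of order at most 100 that is not cyclic has order 60. -/
theorem result {G : Type*} [Group G] [Finite G] [IsSimpleGroup G]
    (hG : ¬ IsCyclic G) (h : Nat.card G ≤ 100) : Nat.card G = 60 := by
  have hnp : ¬ (Nat.card G).Prime := fun hp => by
    haveI : Fact (Nat.card G).Prime := ⟨hp⟩
    exact hG (isCyclic_of_prime_card (p := Nat.card G) rfl)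
  have paqb : ∀ p q a b : ℕ, p.Prime → q.Prime → Nat.card G = p ^ a * q ^ b → False :=
    fun p q a b hp hq hc => hnp (prime_card_of_card_eq hp hq a b hc)
  generalize hn : Nat.card G = N at h ⊢
  interval_cases N
  · exact absurd hn (Nat.card_pos.ne')
  · exact (paqb 2 3 0 0 (by norm_num) (by norm_num) (hn.trans (by norm_num))).elim
  · exact (paqb 2 3 1 0 (by norm_num) (by norm_num) (hn.trans (by norm_num))).elim
  · exact (paqb 3 2 1 0 (by norm_num) (by norm_num) (hn.trans (by norm_num))).elim
  · exact (paqb 2 3 2 0 (by norm_num) (by norm_num) (hn.trans (by norm_num))).elim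
  · exact (paqb 5 2 1 0 (by norm_num) (by norm_num) (hn.trans (by norm_num))).elim
  · exact (paqb 2 3 1 1 (by norm_num) (by norm_num) (hn.trans (by norm_num))).elim
  · exact (paqb 7 2 1 0 (by norm_num) (by norm_num) (hn.trans (by norm_num))).elim
  · exact (paqb 2 3 3 0 (by norm_num) (by norm_num) (hn.trans (by norm_num))).elim
  · exact (paqb 3 2 2 0 (by norm_num) (by norm_num) (hn.trans (by norm_num))).elim
  · exact (paqb 2 5 1 1 (by norm_num) (by norm_num) (hn.trans (by norm_num))).elim
  · exact (paqb 11 2 1 0 (by norm_num) (by norm_num) (hn.trans (by norm_num))).elim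
  · exact (paqb 2 3 2 1 (by norm_num) (by norm_num) (hn.trans (by norm_num))).elim
  · exact (paqb 13 2 1 0 (by norm_num) (by norm_num) (hn.trans (by norm_num))).elim
  · exact (paqb 2 7 1 1 (by norm_num) (by norm_num) (hn.trans (by norm_num))).elim
  · exact (paqb 3 5 1 1 (by norm_num) (by norm_num) (hn.trans (by norm_num))).elim
  · exact (paqb 2 3 4 0 (by norm_num) (by norm_num) (hn.trans (by norm_num))).elim
  · exact (paqb 17 2 1 0 (by norm_num) (by norm_num) (hn.trans (by norm_num))).elim
  · exact (paqb 2 3 1 2 (by norm_num) (by norm_num) (hn.trans (by norm_num))).elim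
  · exact (paqb 19 2 1 0 (by norm_num) (by norm_num) (hn.trans (by norm_num))).elim
  · exact (paqb 2 5 2 1 (by norm_num) (by norm_num) (hn.trans (by norm_num))).elim
  · exact (paqb 3 7 1 1 (by norm_num) (by norm_num) (hn.trans (by norm_num))).elim
  · exact (paqb 2 11 1 1 (by norm_num) (by norm_num) (hn.trans (by norm_num))).elim
  · exact (paqb 23 2 1 0 (by norm_num) (by norm_num) (hn.trans (by norm_num))).elim
  · exact (paqb 2 3 3 1 (by norm_num) (by norm_num) (hn.trans (by norm_num))).elim
  · exact (paqb 5 2 2 0 (by norm_num) (by norm_num) (hn.trans (by norm_num))).elim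
  · exact (paqb 2 13 1 1 (by norm_num) (by norm_num) (hn.trans (by norm_num))).elim
  · exact (paqb 3 2 3 0 (by norm_num) (by norm_num) (hn.trans (by norm_num))).elim
  · exact (paqb 2 7 2 1 (by norm_num) (by norm_num) (hn.trans (by norm_num))).elim
  · exact (paqb 29 2 1 0 (by norm_num) (by norm_num) (hn.trans (by norm_num))).elim
  · exact (false_of_sylow 5 6 (by norm_num) (hn.trans (by norm_num)) (by norm_num) (by norm_num) (by decide)).elim
  · exact (paqb 31 2 1 0 (by norm_num) (by norm_num) (hn.trans (by norm_num))).elim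
  · exact (paqb 2 3 5 0 (by norm_num) (by norm_num) (hn.trans (by norm_num))).elim
  · exact (paqb 3 11 1 1 (by norm_num) (by norm_num) (hn.trans (by norm_num))).elim
  · exact (paqb 2 17 1 1 (by norm_num) (by norm_num) (hn.trans (by norm_num))).elim
  · exact (paqb 5 7 1 1 (by norm_num) (by norm_num) (hn.trans (by norm_num))).elim
  · exact (paqb 2 3 2 2 (by norm_num) (by norm_num) (hn.trans (by norm_num))).elim
  · exact (paqb 37 2 1 0 (by norm_num) (by norm_num) (hn.trans (by norm_num))).elim
  · exact (paqb 2 19 1 1 (by norm_num) (by norm_num) (hn.trans (by norm_num))).elim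
  · exact (paqb 3 13 1 1 (by norm_num) (by norm_num) (hn.trans (by norm_num))).elim
  · exact (paqb 2 5 3 1 (by norm_num) (by norm_num) (hn.trans (by norm_num))).elim
  · exact (paqb 41 2 1 0 (by norm_num) (by norm_num) (hn.trans (by norm_num))).elim
  · exact (false_of_sylow 7 6 (by norm_num) (hn.trans (by norm_num)) (by norm_num) (by norm_num) (by decide)).elim
  · exact (paqb 43 2 1 0 (by norm_num) (by norm_num) (hn.trans (by norm_num))).elim
  · exact (paqb 2 11 2 1 (by norm_num) (by norm_num) (hn.trans (by norm_num))).elim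
  · exact (paqb 3 5 2 1 (by norm_num) (by norm_num) (hn.trans (by norm_num))).elim
  · exact (paqb 2 23 1 1 (by norm_num) (by norm_num) (hn.trans (by norm_num))).elim
  · exact (paqb 47 2 1 0 (by norm_num) (by norm_num) (hn.trans (by norm_num))).elim
  · exact (paqb 2 3 4 1 (by norm_num) (by norm_num) (hn.trans (by norm_num))).elim
  · exact (paqb 7 2 2 0 (by norm_num) (by norm_num) (hn.trans (by norm_num))).elim
  · exact (paqb 2 5 1 2 (by norm_num) (by norm_num) (hn.trans (by norm_num))).elim
  · exact (paqb 3 17 1 1 (by norm_num) (by norm_num) (hn.trans (by norm_num))).elim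
  · exact (paqb 2 13 2 1 (by norm_num) (by norm_num) (hn.trans (by norm_num))).elim
  · exact (paqb 53 2 1 0 (by norm_num) (by norm_num) (hn.trans (by norm_num))).elim
  · exact (paqb 2 3 1 3 (by norm_num) (by norm_num) (hn.trans (by norm_num))).elim
  · exact (paqb 5 11 1 1 (by norm_num) (by norm_num) (hn.trans (by norm_num))).elim
  · exact (paqb 2 7 3 1 (by norm_num) (by norm_num) (hn.trans (by norm_num))).elim
  · exact (paqb 3 19 1 1 (by norm_num) (by norm_num) (hn.trans (by norm_num))).elim
  · exact (paqb 2 29 1 1 (by norm_num) (by norm_num) (hn.trans (by norm_num))).elim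
  · exact (paqb 59 2 1 0 (by norm_num) (by norm_num) (hn.trans (by norm_num))).elim
  · rfl
  · exact (paqb 61 2 1 0 (by norm_num) (by norm_num) (hn.trans (by norm_num))).elim
  · exact (paqb 2 31 1 1 (by norm_num) (by norm_num) (hn.trans (by norm_num))).elim
  · exact (paqb 3 7 2 1 (by norm_num) (by norm_num) (hn.trans (by norm_num))).elim
  · exact (paqb 2 3 6 0 (by norm_num) (by norm_num) (hn.trans (by norm_num))).elim
  · exact (paqb 5 13 1 1 (by norm_num) (by norm_num) (hn.trans (by norm_num))).elim
  · exact (false_of_sylow 11 6 (by norm_num) (hn.trans (by norm_num)) (by norm_num) (by norm_num) (by decide)).elim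
  · exact (paqb 67 2 1 0 (by norm_num) (by norm_num) (hn.trans (by norm_num))).elim
  · exact (paqb 2 17 2 1 (by norm_num) (by norm_num) (hn.trans (by norm_num))).elim
  · exact (paqb 3 23 1 1 (by norm_num) (by norm_num) (hn.trans (by norm_num))).elim
  · exact (false_of_sylow 7 10 (by norm_num) (hn.trans (by norm_num)) (by norm_num) (by norm_num) (by decide)).elim
  · exact (paqb 71 2 1 0 (by norm_num) (by norm_num) (hn.trans (by norm_num))).elim
  · exact (paqb 2 3 3 2 (by norm_num) (by norm_num) (hn.trans (by norm_num))).elim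
  · exact (paqb 73 2 1 0 (by norm_num) (by norm_num) (hn.trans (by norm_num))).elim
  · exact (paqb 2 37 1 1 (by norm_num) (by norm_num) (hn.trans (by norm_num))).elim
  · exact (paqb 3 5 1 2 (by norm_num) (by norm_num) (hn.trans (by norm_num))).elim
  · exact (paqb 2 19 2 1 (by norm_num) (by norm_num) (hn.trans (by norm_num))).elim
  · exact (paqb 7 11 1 1 (by norm_num) (by norm_num) (hn.trans (by norm_num))).elim
  · exact (false_of_sylow 13 6 (by norm_num) (hn.trans (by norm_num)) (by norm_num) (by norm_num) (by decide)).elim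
  · exact (paqb 79 2 1 0 (by norm_num) (by norm_num) (hn.trans (by norm_num))).elim
  · exact (paqb 2 5 4 1 (by norm_num) (by norm_num) (hn.trans (by norm_num))).elim
  · exact (paqb 3 2 4 0 (by norm_num) (by norm_num) (hn.trans (by norm_num))).elim
  · exact (paqb 2 41 1 1 (by norm_num) (by norm_num) (hn.trans (by norm_num))).elim
  · exact (paqb 83 2 1 0 (by norm_num) (by norm_num) (hn.trans (by norm_num))).elim
  · exact (false_of_sylow 7 12 (by norm_num) (hn.trans (by norm_num)) (by norm_num) (by norm_num) (by decide)).elim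
  · exact (paqb 5 17 1 1 (by norm_num) (by norm_num) (hn.trans (by norm_num))).elim
  · exact (paqb 2 43 1 1 (by norm_num) (by norm_num) (hn.trans (by norm_num))).elim
  · exact (paqb 3 29 1 1 (by norm_num) (by norm_num) (hn.trans (by norm_num))).elim
  · exact (paqb 2 11 3 1 (by norm_num) (by norm_num) (hn.trans (by norm_num))).elim
  · exact (paqb 89 2 1 0 (by norm_num) (by norm_num) (hn.trans (by norm_num))).elim
  · exact (false_of_sylow 5 18 (by norm_num) (hn.trans (by norm_num)) (by norm_num) (by norm_num) (by decide)).elim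
  · exact (paqb 7 13 1 1 (by norm_num) (by norm_num) (hn.trans (by norm_num))).elim
  · exact (paqb 2 23 2 1 (by norm_num) (by norm_num) (hn.trans (by norm_num))).elim
  · exact (paqb 3 31 1 1 (by norm_num) (by norm_num) (hn.trans (by norm_num))).elim
  · exact (paqb 2 47 1 1 (by norm_num) (by norm_num) (hn.trans (by norm_num))).elim
  · exact (paqb 5 19 1 1 (by norm_num) (by norm_num) (hn.trans (by norm_num))).elim
  · exact (paqb 2 3 5 1 (by norm_num) (by norm_num) (hn.trans (by norm_num))).elim
  · exact (paqb 97 2 1 0 (by norm_num) (by norm_num) (hn.trans (by norm_num))).elim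
  · exact (paqb 2 7 1 2 (by norm_num) (by norm_num) (hn.trans (by norm_num))).elim
  · exact (paqb 3 11 2 1 (by norm_num) (by norm_num) (hn.trans (by norm_num))).elim
  · exact (paqb 2 5 2 2 (by norm_num) (by norm_num) (hn.trans (by norm_num))).elim

end Cfsg.Agent.S0493
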