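import Cfsg.Statements.S0647
import Mathlib

set_option autoImplicit false
open Cfsg

namespace Cfsg.Agent.S0647

/-- For a nonempty family of maximal abelian subgroups of a finite group, the intersection of the family is the centre of the subgroup it generates, which is also the full centralizer of that subgroup. -/
theorem result {S : Type*} [Group S] [Finite S] (𝒜 : Set (Subgroup S)) (hne : 𝒜.Nonempty) (hab : ∀ A ∈ 𝒜, IsMulCommutative A) (hmax : ∀ A ∈ 𝒜, ∀ B : Subgroup S, IsMulCommutative B → A ≤ B → B = A) : sInf 𝒜 = sSup 𝒜 ⊓ Subgroup.centralizer ((sSup 𝒜 : Subgroup S) : Set S) ∧ sInf 𝒜 = Subgroup.centralizer ((sSup 𝒜 : Subgroup S) : Set S) := by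
  have hC : ∀ A ∈ 𝒜, Subgroup.centralizer (A : Set S) ≤ A := by
    intro A hA x hx
    have hcA := hab A hA
    let k : Set S := (A : Set S) ∪ {x}
    have hk : ∀ a ∈ k, ∀ b ∈ k, a * b = b * a := by
      rintro a (ha | ha) b (hb | hb)
      · exact (Subgroup.mem_centralizer_iff.mp (Subgroup.le_centralizer A hb) a ha)
      · rw [Set.mem_singleton_iff] at hb; subst hb
        exact (Subgroup.mem_centralizer_iff.mp hx a ha)
      · rw [Set.mem_singleton_iff] at ha; subst ha
        exact (Subgroup.mem_centralizer_iff.mp hx b hb).symm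
      · rw [Set.mem_singleton_iff] at ha hb; subst ha; subst hb; rfl
    have hcl := Subgroup.isMulCommutative_closure hk
    have hle : A ≤ Subgroup.closure k := fun a ha => Subgroup.subset_closure (Or.inl ha)
    have heq := hmax A hA _ hcl hle
    rw [← heq]
    exact Subgroup.subset_closure (Or.inr rfl)
  have h2 : sInf 𝒜 = Subgroup.centralizer ((sSup 𝒜 : Subgroup S) : Set S) := by
    apply le_antisymm
    · intro x hx
      rw [Subgroup.mem_centralizer_iff]
      intro y hy
      have hy' : y ∈ sSup 𝒜 := hy
      have : sSup 𝒜 ≤ Subgroup.centralizer ({x} : Set S) := by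
        apply sSup_le
        intro A hA a ha
        rw [Subgroup.mem_centralizer_iff]
        intro z hz
        rw [Set.mem_singleton_iff] at hz
        subst hz
        have hzA : z ∈ A := (Subgroup.mem_sInf.mp hx) A hA
        have hcA := hab A hA
        exact (Subgroup.mem_centralizer_iff.mp (Subgroup.le_centralizer A hzA) a ha).symm
      have h3 := Subgroup.mem_centralizer_iff.mp (this hy') x (Set.mem_singleton x)
      exact h3.symm
    · intro x hx
      rw [Subgroup.mem_sInf]
      intro A hA
      apply hC A hA
      rw [Subgroup.mem_centralizer_iff]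
      intro y hy
      have : y ∈ sSup 𝒜 := (le_sSup hA) hy
      exact Subgroup.mem_centralizer_iff.mp hx y this
  refine ⟨?_, h2⟩
  obtain ⟨A, hA⟩ := hne
  have hle : sInf 𝒜 ≤ sSup 𝒜 := (sInf_le hA).trans (le_sSup hA)
  rw [← h2]
  exact (inf_eq_right.mpr hle).symm

end Cfsg.Agent.S0647
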