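import Cfsg.Statements.S0648
import Mathlib
-- import your own Cfsg.Agent.* helpers here

set_option autoImplicit false
open Cfsg

namespace Cfsg.Agent.S0648


open scoped commutatorElement

variable {G : Type*} [Group G]

lemma comm_of_bot {H K : Subgroup G} (h : ⁅H, K⁆ = ⊥) {x y : G} (hx : x ∈ H) (hy : y ∈ K) :
    Commute x y := by
  have := Subgroup.commutator_mem_commutator hx hy
  rw [h, Subgroup.mem_bot] at this
  exact commutatorElement_eq_one_iff_commute.mp this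

lemma comm_le (A B : Subgroup G) (hAB : A ≤ Subgroup.normalizer (B : Set G)) : ⁅B, A⁆ ≤ B := by
  rw [Subgroup.commutator_le]
  intro b hb a ha
  have := (Subgroup.mem_normalizer_iff.mp (hAB ha) b⁻¹).mp (B.inv_mem hb)
  rw [commutatorElement_def, mul_assoc, mul_assoc, ← mul_assoc a]
  exact B.mul_mem hb this

lemma step1 (A B : Subgroup G) (hc : ⁅⁅B, B⁆, A⁆ = ⊥) : ⁅⁅B, A⁆, ⁅B, B⁆⁆ = ⊥ := by
  apply Subgroup.commutator_commutator_eq_bot_of_rotate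
  · rw [Subgroup.commutator_comm A, hc, Subgroup.commutator_bot_left]
  · have h : ⁅⁅B, B⁆, B⁆ ≤ ⁅B, B⁆ := Subgroup.commutator_mono (Subgroup.commutator_le_self B) le_rfl
    exact le_bot_iff.mp ((Subgroup.commutator_mono h le_rfl).trans hc.le)

lemma step2 (A B : Subgroup G) (hAB : A ≤ Subgroup.normalizer (B : Set G)) (hc : ⁅⁅B, B⁆, A⁆ = ⊥) :
    ⁅⁅⁅B, A⁆, ⁅B, A⁆⁆, B⁆ = ⊥ := by
  have h1 := step1 A B hc
  have hle := comm_le A B hAB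
  apply Subgroup.commutator_commutator_eq_bot_of_rotate
  · have : ⁅⁅⁅B, A⁆, B⁆, ⁅B, A⁆⁆ ≤ ⁅⁅B, B⁆, ⁅B, A⁆⁆ :=
      Subgroup.commutator_mono (Subgroup.commutator_mono hle le_rfl) le_rfl
    rw [Subgroup.commutator_comm ⁅B, B⁆, h1] at this
    exact le_bot_iff.mp this
  · have : ⁅⁅B, ⁅B, A⁆⁆, ⁅B, A⁆⁆ ≤ ⁅⁅B, B⁆, ⁅B, A⁆⁆ :=
      Subgroup.commutator_mono (Subgroup.commutator_mono le_rfl hle) le_rfl
    rw [Subgroup.commutator_comm ⁅B, B⁆, h1] at this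
    exact le_bot_iff.mp this

lemma dagger (b x y t : G)
    (hw1b : Commute ⁅x, y⁆ b) (hw2b : Commute ⁅x, t⁆ b) (hw2y : Commute ⁅x, t⁆ y)
    (hd2y : Commute ⁅b, t⁆ y) (hw1d : Commute ⁅x, y⁆ ⁅b, y⁆) (hw2d : Commute ⁅x, t⁆ ⁅b, y⁆)
    (hfix : ⁅b * x, y * t⁆ = ⁅b, y⁆) : ⁅x, y⁆ * ⁅x, t⁆ * ⁅b, t⁆ = 1 := by
  have key : ⁅b * x, y * t⁆ = b * (⁅x, y⁆ * (y * ⁅x, t⁆ * y⁻¹)) * b⁻¹ * (⁅b, y⁆ * (y * ⁅b, t⁆ * y⁻¹)) := by
    simp only [commutatorElement_def]; group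
  rw [hfix] at key
  have e1 : y * ⁅x, t⁆ * y⁻¹ = ⁅x, t⁆ := by rw [← hw2y.eq]; group
  have e2 : y * ⁅b, t⁆ * y⁻¹ = ⁅b, t⁆ := by rw [← hd2y.eq]; group
  have e3 : b * (⁅x, y⁆ * ⁅x, t⁆) * b⁻¹ = ⁅x, y⁆ * ⁅x, t⁆ := by
    rw [← (hw1b.mul_left hw2b).eq]; group
  rw [e1, e2, e3] at key
  have e4 : ⁅x, y⁆ * ⁅x, t⁆ * (⁅b, y⁆ * ⁅b, t⁆) = ⁅b, y⁆ * (⁅x, y⁆ * ⁅x, t⁆ * ⁅b, t⁆) := by
    rw [← mul_assoc, (hw1d.mul_left hw2d).eq, mul_assoc]
  rw [e4] at key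
  have : ⁅b, y⁆ * (⁅x, y⁆ * ⁅x, t⁆ * ⁅b, t⁆) = ⁅b, y⁆ * 1 := by rw [mul_one]; exact key.symm
  exact mul_left_cancel this

lemma sq_left {X : Subgroup G} (S : Set G) (hX : X = Subgroup.closure S)
    (hZ : ∀ x ∈ X, ∀ y ∈ X, ∀ u ∈ X, Commute ⁅x, y⁆ u) (y : G) (hy : y ∈ X)
    (hS : ∀ s ∈ S, ⁅s, y⁆ ^ 2 = 1) : ∀ x ∈ X, ⁅x, y⁆ ^ 2 = 1 := by
  intro x hx
  have hx' := hx
  rw [hX] at hx'
  have hsub : S ⊆ X := by rw [hX]; exact Subgroup.subset_closure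
  induction hx' using Subgroup.closure_induction with
  | mem s hs => exact hS s hs
  | one => simp [commutatorElement_def]
  | mul u v hu hv ihu ihv =>
    have hu' : u ∈ X := by rw [hX]; exact hu
    have hv' : v ∈ X := by rw [hX]; exact hv
    have e : ⁅u * v, y⁆ = u * ⁅v, y⁆ * u⁻¹ * ⁅u, y⁆ := by
      simp only [commutatorElement_def]; group
    have e' : u * ⁅v, y⁆ * u⁻¹ = ⁅v, y⁆ := by
      rw [← (hZ v hv' y hy u hu').eq]; group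
    rw [e, e']
    have hc : Commute ⁅v, y⁆ ⁅u, y⁆ :=
      hZ v hv' y hy _ (X.mul_mem (X.mul_mem (X.mul_mem hu' hy) (X.inv_mem hu')) (X.inv_mem hy))
    rw [hc.mul_pow, ihu hu', ihv hv', one_mul]
  | inv u hu ih =>
    have hu' : u ∈ X := by rw [hX]; exact hu
    have e : ⁅u⁻¹, y⁆ = u⁻¹ * ⁅y, u⁆ * u := by
      simp only [commutatorElement_def]; group
    have e' : u⁻¹ * ⁅y, u⁆ * u = ⁅y, u⁆ := by
      have := (hZ y hy u hu' u⁻¹ (X.inv_mem hu')).eq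
      rw [← this]; group
    rw [e, e', ← commutatorElement_inv, inv_pow, ih hu', inv_one]

theorem part2 (A B : Subgroup G) (hAB : A ≤ Subgroup.normalizer (B : Set G)) (hc : ⁅⁅B, B⁆, A⁆ = ⊥)
    (hA : IsMulCommutative A) (b : G) (hb : b ∈ B) (X : Subgroup G)
    (hXdef : X = Subgroup.closure {g : G | ∃ a ∈ A, g = b⁻¹ * a * b * a⁻¹})
    (hX : ⁅⁅X, A⁆, A⁆ = ⊥) (w : G) (hw : w ∈ ⁅X, X⁆) : w ^ 2 = 1 := by
  have hCB : ⁅B, A⁆ ≤ B := comm_le A B hAB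
  have hgen : ∀ a ∈ A, b⁻¹ * a * b * a⁻¹ ∈ X := fun a ha => by
    rw [hXdef]; exact Subgroup.subset_closure ⟨a, ha, rfl⟩
  have hXC : X ≤ ⁅B, A⁆ := by
    rw [hXdef, Subgroup.closure_le]
    rintro _ ⟨a, ha, rfl⟩
    have := Subgroup.commutator_mem_commutator (B.inv_mem hb) ha
    simpa [commutatorElement_def] using this
  have hXB : X ≤ B := hXC.trans hCB
  have hF1 : ∀ d ∈ ⁅B, B⁆, ∀ a ∈ A, a * d * a⁻¹ = d := fun d hd a ha => by
    rw [← (comm_of_bot hc hd ha).eq]; group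
  have hF2 : ∀ c ∈ ⁅B, A⁆, ∀ d ∈ ⁅B, B⁆, Commute c d := fun c hc' d hd =>
    comm_of_bot (step1 A B hc) hc' hd
  have hF3 : ∀ z ∈ ⁅⁅B, A⁆, ⁅B, A⁆⁆, ∀ u ∈ B, Commute z u := fun z hz u hu =>
    comm_of_bot (step2 A B hAB hc) hz hu
  have hZ : ∀ x ∈ X, ∀ y ∈ X, ∀ u ∈ B, Commute ⁅x, y⁆ u := fun x hx y hy u hu =>
    hF3 _ (Subgroup.commutator_mem_commutator (hXC hx) (hXC hy)) u hu
  have hstable : ∀ a ∈ A, ∀ y ∈ X, a * y * a⁻¹ ∈ X := by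
    intro a ha y hy
    have hy' := hy
    rw [hXdef] at hy'
    induction hy' using Subgroup.closure_induction with
    | mem s hs =>
      obtain ⟨c, hcA, rfl⟩ := hs
      have e : a * (b⁻¹ * c * b * c⁻¹) * a⁻¹ =
          (b⁻¹ * a * b * a⁻¹)⁻¹ * (b⁻¹ * (a * c) * b * (a * c)⁻¹) := by group
      rw [e]
      exact X.mul_mem (X.inv_mem (hgen a ha)) (hgen _ (A.mul_mem ha hcA))
    | one => simp
    | mul u v hu hv ihu ihv =>
      have e : a * (u * v) * a⁻¹ = (a * u * a⁻¹) * (a * v * a⁻¹) := by group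
      rw [e]
      exact X.mul_mem (ihu (by rw [hXdef]; exact hu)) (ihv (by rw [hXdef]; exact hv))
    | inv u hu ih =>
      have e : a * u⁻¹ * a⁻¹ = (a * u * a⁻¹)⁻¹ := by group
      rw [e]
      exact X.inv_mem (ih (by rw [hXdef]; exact hu))
  have ht : ∀ a ∈ A, ∀ y ∈ X, y⁻¹ * a * y * a⁻¹ ∈ ⁅X, A⁆ := fun a ha y hy => by
    have := Subgroup.commutator_mem_commutator (X.inv_mem hy) ha
    simpa [commutatorElement_def] using this
  have htX : ∀ a ∈ A, ∀ y ∈ X, y⁻¹ * a * y * a⁻¹ ∈ X := fun a ha y hy => by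
    have := X.mul_mem (X.inv_mem hy) (hstable a ha y hy)
    simpa [mul_assoc] using this
  have hfixv : ∀ v ∈ ⁅X, A⁆, ∀ a ∈ A, a * v * a⁻¹ = v := fun v hv a ha => by
    rw [← (comm_of_bot hX hv ha).eq]; group
  -- the main identity
  have hdag : ∀ a ∈ A, ∀ y ∈ X,
      ⁅b⁻¹ * a * b * a⁻¹, y⁆ * ⁅b⁻¹ * a * b * a⁻¹, y⁻¹ * a * y * a⁻¹⁆ * ⁅b, y⁻¹ * a * y * a⁻¹⁆ = 1 := by
    intro a ha y hy
    have hx := hgen a ha
    have hty := htX a ha y hy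
    apply dagger
    · exact hZ _ hx _ hy _ hb
    · exact hZ _ hx _ hty _ hb
    · exact hZ _ hx _ hty _ (hXB hy)
    · have hd : ⁅b, y⁻¹ * a * y * a⁻¹⁆ ∈ ⁅B, B⁆ :=
        Subgroup.commutator_mem_commutator hb (hXB hty)
      exact (hF2 _ (hXC hy) _ hd).symm
    · exact hZ _ hx _ hy _ (B.mul_mem (B.mul_mem (B.mul_mem hb (hXB hy)) (B.inv_mem hb)) (B.inv_mem (hXB hy)))
    · exact hZ _ hx _ hty _ (B.mul_mem (B.mul_mem (B.mul_mem hb (hXB hy)) (B.inv_mem hb)) (B.inv_mem (hXB hy)))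
    · have e1 : b * (b⁻¹ * a * b * a⁻¹) = a * b * a⁻¹ := by group
      have e2 : y * (y⁻¹ * a * y * a⁻¹) = a * y * a⁻¹ := by group
      rw [e1, e2, ← conjugate_commutatorElement]
      exact hF1 _ (Subgroup.commutator_mem_commutator hb (hXB hy)) a ha
  -- part A: generators commute with [X,A]
  have hgA : ∀ a ∈ A, ∀ v ∈ ⁅X, A⁆, v ∈ X → ⁅b⁻¹ * a * b * a⁻¹, v⁆ = 1 := by
    intro a ha v hv hvX
    have h := hdag a ha v hvX
    have e : v⁻¹ * a * v * a⁻¹ = 1 := by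
      have := hfixv v hv a ha
      calc v⁻¹ * a * v * a⁻¹ = v⁻¹ * (a * v * a⁻¹) := by group
        _ = 1 := by rw [this]; group
    rw [e] at h
    simpa [commutatorElement_def] using h
  -- hence [X, [X,A]] = 1
  have hXA : ∀ x ∈ X, ∀ v ∈ ⁅X, A⁆, v ∈ X → ⁅x, v⁆ = 1 := by
    intro x hx v hv hvX
    have hx' := hx
    rw [hXdef] at hx'
    have hmem : x ∈ Subgroup.centralizer ({v} : Set G) := by
      have hle : Subgroup.closure {g : G | ∃ a ∈ A, g = b⁻¹ * a * b * a⁻¹} ≤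
          Subgroup.centralizer ({v} : Set G) := by
        rw [Subgroup.closure_le]
        rintro _ ⟨a, ha, rfl⟩
        rw [SetLike.mem_coe, Subgroup.mem_centralizer_iff]
        rintro _ rfl
        exact (commutatorElement_eq_one_iff_commute.mp (hgA a ha _ hv hvX)).symm.eq
      exact hle hx'
    rw [Subgroup.mem_centralizer_iff] at hmem
    exact commutatorElement_eq_one_iff_commute.mpr (hmem v rfl).symm
  -- reduce
  have hdag2 : ∀ a ∈ A, ∀ c ∈ A,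
      ⁅b⁻¹ * a * b * a⁻¹, b⁻¹ * c * b * c⁻¹⁆ * ⁅b, (b⁻¹ * c * b * c⁻¹)⁻¹ * a * (b⁻¹ * c * b * c⁻¹) * a⁻¹⁆ = 1 := by
    intro a ha c hcA
    have hy := hgen c hcA
    have h := hdag a ha _ hy
    rw [hXA _ (hgen a ha) _ (ht a ha _ hy) (htX a ha _ hy), mul_one] at h
    exact h
  have hgens : ∀ a ∈ A, ∀ c ∈ A, ⁅b⁻¹ * a * b * a⁻¹, b⁻¹ * c * b * c⁻¹⁆ ^ 2 = 1 := by
    intro a ha c hcA
    have h1 := hdag2 a ha c hcA
    have h2 := hdag2 c hcA a ha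
    have hx := hgen a ha
    have hy := hgen c hcA
    -- t = z * t'
    set xa := b⁻¹ * a * b * a⁻¹ with hxa
    set xc := b⁻¹ * c * b * c⁻¹ with hxc
    have hac : a * c = c * a := by
      have := mul_comm' (⟨a, ha⟩ : A) ⟨c, hcA⟩
      simpa using congrArg Subtype.val this
    have ht1 : xc⁻¹ * a * xc * a⁻¹ = ⁅xc⁻¹, xa⁻¹⁆ * (xa⁻¹ * c * xa * c⁻¹) := by
      have e1 : xc⁻¹ * a * xc * a⁻¹ = xc⁻¹ * xa⁻¹ * (b⁻¹ * (a * c) * b * (a * c)⁻¹) := by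
        rw [hxa, hxc]; group
      have e2 : xa⁻¹ * c * xa * c⁻¹ = xa⁻¹ * xc⁻¹ * (b⁻¹ * (c * a) * b * (c * a)⁻¹) := by
        rw [hxa, hxc]; group
      rw [e1, e2, hac]
      simp only [commutatorElement_def]; group
    have hz : Commute ⁅xc⁻¹, xa⁻¹⁆ b := hZ _ (X.inv_mem hy) _ (X.inv_mem hx) _ hb
    have hz' : Commute ⁅xc⁻¹, xa⁻¹⁆ (xa⁻¹ * c * xa * c⁻¹) :=
      hZ _ (X.inv_mem hy) _ (X.inv_mem hx) _ (hXB (htX c hcA _ hx))
    have hbt : ⁅b, xc⁻¹ * a * xc * a⁻¹⁆ = ⁅b, xa⁻¹ * c * xa * c⁻¹⁆ := by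
      rw [ht1]
      simp only [commutatorElement_def] at hz hz' ⊢
      generalize (xc⁻¹ * xa⁻¹ * xc⁻¹⁻¹ * xa⁻¹⁻¹) = z at hz hz'
      generalize (xa⁻¹ * c * xa * c⁻¹) = t at hz' ⊢
      have e : b * (z * t) * b⁻¹ * (z * t)⁻¹ = (b * z * b⁻¹) * (b * t * b⁻¹ * t⁻¹) * z⁻¹ := by group
      rw [e, ← hz.eq]
      have e' : z * b * b⁻¹ = z := by group
      rw [e']
      have e'' : z * (b * t * b⁻¹ * t⁻¹) * z⁻¹ = b * t * b⁻¹ * t⁻¹ := by
        have h3 : Commute z (b * t * b⁻¹ * t⁻¹) := by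
          exact ((hz.mul_right hz').mul_right hz.inv_right).mul_right hz'.inv_right
        rw [h3.eq]; group
      exact e''
    rw [hbt] at h1
    have h3 : ⁅xa, xc⁆ = ⁅xc, xa⁆ := by
      have := h1.trans h2.symm
      exact mul_right_cancel this
    rw [pow_two]
    nth_rw 2 [h3]
    rw [← commutatorElement_inv xa xc, mul_inv_cancel]
  have hZX : ∀ x ∈ X, ∀ y ∈ X, ∀ u ∈ X, Commute ⁅x, y⁆ u := fun x hx y hy u hu =>
    hZ x hx y hy u (hXB hu)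
  have hall : ∀ x ∈ X, ∀ y ∈ X, ⁅x, y⁆ ^ 2 = 1 := by
    intro x hx y hy
    have hc1 : ∀ c ∈ A, ∀ z ∈ X, ⁅z, b⁻¹ * c * b * c⁻¹⁆ ^ 2 = 1 := by
      intro c hcA
      apply sq_left _ hXdef hZX _ (hgen c hcA)
      rintro _ ⟨a, ha, rfl⟩
      exact hgens a ha c hcA
    have hsw : ⁅x, y⁆ ^ 2 = 1 ↔ ⁅y, x⁆ ^ 2 = 1 := by
      rw [← commutatorElement_inv x y, inv_pow, inv_eq_one]
    rw [hsw]
    apply sq_left _ hXdef hZX _ hx _ y hy
    rintro _ ⟨c, hcA, rfl⟩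
    rw [← commutatorElement_inv, inv_pow, hc1 c hcA x hx, inv_one]
  -- conclude by induction on w
  have hcomm : ∀ u ∈ ⁅X, X⁆, ∀ v ∈ ⁅X, X⁆, Commute u v := fun u hu v hv => by
    have hu' : u ∈ ⁅⁅B, A⁆, ⁅B, A⁆⁆ := Subgroup.commutator_mono hXC hXC hu
    have hvB : v ∈ B := Subgroup.commutator_le_self B ((Subgroup.commutator_mono hXB hXB) hv)
    exact hF3 _ hu' _ hvB
  have hw' := hw
  rw [Subgroup.commutator_def] at hw'
  induction hw' using Subgroup.closure_induction with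
  | mem s hs =>
    obtain ⟨x, hx, y, hy, rfl⟩ := hs
    exact hall x hx y hy
  | one => simp
  | mul u v hu hv ihu ihv =>
    have hu' : u ∈ ⁅X, X⁆ := by rw [Subgroup.commutator_def]; exact hu
    have hv' : v ∈ ⁅X, X⁆ := by rw [Subgroup.commutator_def]; exact hv
    rw [(hcomm u hu' v hv').mul_pow, ihu hu', ihv hv', one_mul]
  | inv u hu ih =>
    have hu' : u ∈ ⁅X, X⁆ := by rw [Subgroup.commutator_def]; exact hu
    rw [inv_pow, ih hu', inv_one]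

/-- If A acts on B centralizing [B, B], then [B, A] has derived subgroup central in B, and for abelian A and b ∈ B with [[b, A], A, A] = 1 the derived subgroup of the subgroup [b, A] generated by the commutators of b with A has exponent dividing 2. -/
theorem result {G : Type*} [Group G] [Finite G] (A B : Subgroup G) (hAB : A ≤ Subgroup.normalizer (B : Set G)) (hc : ⁅⁅B, B⁆, A⁆ = ⊥) : ⁅⁅B, A⁆, ⁅B, A⁆⁆ ≤ B ⊓ Subgroup.centralizer (B : Set G) ∧ (IsMulCommutative A → ∀ b ∈ B, ⁅⁅(Subgroup.closure {g : G | ∃ a ∈ A, g = b⁻¹ * a * b * a⁻¹}), A⁆, A⁆ = ⊥ → ∀ w ∈ ⁅(Subgroup.closure {g : G | ∃ a ∈ A, g = b⁻¹ * a * b * a⁻¹}), (Subgroup.closure {g : G | ∃ a ∈ A, g = b⁻¹ * a * b * a⁻¹})⁆, w ^ 2 = 1) := by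
  refine ⟨?_, ?_⟩
  · have hle := comm_le A B hAB
    rw [le_inf_iff]
    refine ⟨(Subgroup.commutator_mono hle hle).trans (Subgroup.commutator_le_self B), ?_⟩
    intro z hz
    rw [Subgroup.mem_centralizer_iff]
    intro u hu
    exact (comm_of_bot (step2 A B hAB hc) hz hu).symm.eq
  · intro hA b hb hX w hw
    exact part2 A B hAB hc hA b hb _ rfl hX w hw

end Cfsg.Agent.S0648
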