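import Cfsg.Statements.S0649
import Mathlib

set_option autoImplicit false
open Cfsg

namespace Cfsg.Agent.S0649

/-- In a finite `p`-group, if `H < K` then some element of `K \\ H` normalizes `H`. -/
theorem normalizer_grows {S : Type*} [Group S] [Finite S] {p : ℕ} [Fact p.Prime]
    (hS : IsPGroup p S) {H K : Subgroup S} (hlt : H < K) :
    ∃ x ∈ K, x ∉ H ∧ x ∈ Subgroup.normalizer (H : Set S) := by
  have hnil : Group.IsNilpotent K := (hS.to_subgroup K).isNilpotent
  have hne : H.subgroupOf K ≠ ⊤ := by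
    intro h
    rw [Subgroup.subgroupOf_eq_top] at h
    exact absurd h (not_le_of_gt hlt)
  have hcond := Group.normalizerCondition_of_isNilpotent (G := K) (H.subgroupOf K) (lt_top_iff_ne_top.mpr hne)
  obtain ⟨y, hy, hyH⟩ := SetLike.exists_of_lt hcond
  refine ⟨y, y.2, fun h => hyH (Subgroup.mem_subgroupOf.mpr h), ?_⟩
  rw [Subgroup.mem_normalizer_iff] at hy ⊢
  intro h
  by_cases hhK : h ∈ K
  · have := hy ⟨h, hhK⟩
    simpa [Subgroup.mem_subgroupOf] using this
  · have h1 : h ∉ H := fun hh => hhK (hlt.le hh)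
    have h2 : (y : S) * h * (y : S)⁻¹ ∉ H := by
      intro hh
      apply hhK
      have := hlt.le hh
      have h3 : h = (y : S)⁻¹ * ((y : S) * h * (y : S)⁻¹) * (y : S) := by group
      rw [h3]
      exact mul_mem (mul_mem (inv_mem y.2) this) y.2
    simp [h1, h2]

/-- In the Glauberman replacement situation, if B does not normalize A then some element of B normalizes N_S(A) without normalizing A. -/
theorem result {S : Type*} [Group S] [Finite S] {p : ℕ} [Fact p.Prime] (hS : IsPGroup p S) (B : Subgroup S) [B.Normal] (hB2 : p = 2 → IsMulCommutative B) (A : Subgroup S) (hA : IsMulCommutative A) (hBA : ⁅B, B⁆ ≤ A) (hnot : ¬ B ≤ Subgroup.normalizer (A : Set S)) : ∃ b ∈ B, b ∈ Subgroup.normalizer ((Subgroup.normalizer (A : Set S)) : Set S) ∧ b ∉ Subgroup.normalizer (A : Set S) := by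
  classical
  set N := Subgroup.normalizer (A : Set S) with hN
  have hlt : N < B ⊔ N := by
    refine lt_of_le_of_ne le_sup_right ?_
    intro h
    exact hnot (h ▸ le_sup_left)
  obtain ⟨x, hxK, hxN, hxnorm⟩ := normalizer_grows hS hlt
  have hxK' : x ∈ ((B ⊔ N : Subgroup S) : Set S) := hxK
  rw [Subgroup.normal_mul] at hxK'
  obtain ⟨b, hb, n, hn, rfl⟩ := Set.mem_mul.mp hxK'
  refine ⟨b, hb, ?_, ?_⟩
  · have hn' : n ∈ Subgroup.normalizer (N : Set S) := Subgroup.le_normalizer hn
    have : b = (b * n) * n⁻¹ := by group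
    rw [this]
    exact mul_mem hxnorm (inv_mem hn')
  · intro hbN
    exact hxN (mul_mem hbN hn)

end Cfsg.Agent.S0649
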