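import Cfsg.Statements.S0650
import Mathlib
import Cfsg.Agent.Lib.PGroup.Replacement
-- import your own Cfsg.Agent.* helpers here

set_option autoImplicit false
open Cfsg

namespace Cfsg.Agent.S0650

/-- The Glauberman replacement Theorem: from an abelian A ⊇ [B, B] not normalized by the normal subgroup B and a suitable b ∈ B one gets the abelian subgroup A* = (A ∩ b⁻¹Ab)[A, b] of the same order, containing [B, B], meeting B strictly more than A does but not containing B, mutually normalizing with A, with strictly larger normalizer containing b, and (p odd) of no larger exponent. -/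
theorem result {S : Type*} [Group S] [Finite S] {p : ℕ} [Fact p.Prime] (hS : IsPGroup p S) (B : Subgroup S) [B.Normal] (hB2 : p = 2 → IsMulCommutative B) (A : Subgroup S) (hA : IsMulCommutative A) (hBA : ⁅B, B⁆ ≤ A) (hnot : ¬ B ≤ Subgroup.normalizer (A : Set S)) (b : S) (hb : b ∈ B) (hbN : b ∈ Subgroup.normalizer ((Subgroup.normalizer (A : Set S)) : Set S)) (hbA : b ∉ Subgroup.normalizer (A : Set S)) : Nat.card ↥((A ⊓ A.map (MulAut.conj (b⁻¹)).toMonoidHom) ⊔ Subgroup.closure {g : S | ∃ a ∈ A, g = a * b⁻¹ * a⁻¹ * b}) = Nat.card A ∧ IsMulCommutative ↥((A ⊓ A.map (MulAut.conj (b⁻¹)).toMonoidHom) ⊔ Subgroup.closure {g : S | ∃ a ∈ A, g = a * b⁻¹ * a⁻¹ * b}) ∧ ⁅B, B⁆ ≤ ((A ⊓ A.map (MulAut.conj (b⁻¹)).toMonoidHom) ⊔ Subgroup.closure {g : S | ∃ a ∈ A, g = a * b⁻¹ * a⁻¹ * b}) ∧ A ⊓ B < ((A ⊓ A.map (MulAut.conj (b⁻¹)).toMonoidHom) ⊔ Subgroup.closure {g : S | ∃ a ∈ A, g = a * b⁻¹ * a⁻¹ * b}) ⊓ B ∧ ((A ⊓ A.map (MulAut.conj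 (b⁻¹)).toMonoidHom) ⊔ Subgroup.closure {g : S | ∃ a ∈ A, g = a * b⁻¹ * a⁻¹ * b}) ⊓ B < B ∧ A ≤ Subgroup.normalizer (((A ⊓ A.map (MulAut.conj (b⁻¹)).toMonoidHom) ⊔ Subgroup.closure {g : S | ∃ a ∈ A, g = a * b⁻¹ * a⁻¹ * b} : Subgroup S) : Set S) ∧ ((A ⊓ A.map (MulAut.conj (b⁻¹)).toMonoidHom) ⊔ Subgroup.closure {g : S | ∃ a ∈ A, g = a * b⁻¹ * a⁻¹ * b}) ≤ Subgroup.normalizer (A : Set S) ∧ b ∈ Subgroup.normalizer (((A ⊓ A.map (MulAut.conj (b⁻¹)).toMonoidHom) ⊔ Subgroup.closure {g : S | ∃ a ∈ A, g = a * b⁻¹ * a⁻¹ * b} : Subgroup S) : Set S) ∧ Subgroup.normalizer (A : Set S) < Subgroup.normalizer (((A ⊓ A.map (MulAut.conj (b⁻¹)).toMonoidHom) ⊔ Subgroup.closure {g : S | ∃ a ∈ A, g = a * b⁻¹ * a⁻¹ * b} : Subgroup S) : Set S) ∧ (p ≠ 2 → Monoid.exponent ↥((A ⊓ A.map (MulAut.conj (b⁻¹)).toMonoidHom) ⊔ Subgroup.closure {g : S | ∃ a ∈ A, g = a * b⁻¹ * a⁻¹ * b}) ∣ Monoid.exponent A) := by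
  have hb1 : ∀ a ∈ A, b⁻¹ * a * b ∈ Subgroup.normalizer (A : Set S) := by
    intro a ha
    have h := (Subgroup.mem_normalizer_iff.mp (inv_mem hbN) a).mp (Subgroup.le_normalizer ha)
    simpa using h
  have hb2 : ∀ a ∈ A, b * a * b⁻¹ ∈ Subgroup.normalizer (A : Set S) := by
    intro a ha
    exact (Subgroup.mem_normalizer_iff.mp hbN a).mp (Subgroup.le_normalizer ha)
  have hAB : A ≤ Subgroup.normalizer (B : Set S) := by
    rw [Subgroup.normalizer_eq_top_iff.mpr inferInstance]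
    exact le_top
  have htwo := Cfsg.Agent.Lib.PGroup.Replacement.two_of_pGroup hB2 hS
  have R := Cfsg.Agent.Lib.PGroup.Replacement.ReplData.mk' hA hb1 hb2 hb hAB hBA htwo
  have hAstar : Cfsg.Agent.Lib.PGroup.Replacement.Astar A b =
      ((A ⊓ A.map (MulAut.conj (b⁻¹)).toMonoidHom) ⊔ Subgroup.closure {g : S | ∃ a ∈ A, g = a * b⁻¹ * a⁻¹ * b}) := rfl
  obtain ⟨a, ha, hab⟩ : ∃ a ∈ A, b⁻¹ * a * b ∉ A := by
    by_contra hcon0
    have hcon : ∀ x ∈ A, b⁻¹ * x * b ∈ A := fun x hx => by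
      by_contra h
      exact hcon0 ⟨x, hx, h⟩
    apply hbA
    have hb3 : b⁻¹ ∈ Subgroup.normalizer (A : Set S) := by
      apply Cfsg.Agent.Lib.PGroup.Replacement.mem_normalizer_of_conj_mem
      intro x hx
      simpa using hcon x hx
    simpa using inv_mem hb3
  have hN := R.normalizer_le (fun g _ x hx => (inferInstance : B.Normal).conj_mem x hx g) hbN
  have hbN' := R.b_mem_normalizer
  refine ⟨R.card_Astar, ⟨⟨fun x y => Subtype.ext (R.Astar_comm x.2 y.2)⟩⟩, R.commutator_le_Astar,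
    R.inf_lt ha hab, R.inf_lt_B hbA, ?_, ?_, hbN', ?_, ?_⟩
  · exact le_sup_left.trans R.H_le_normalizer_Astar
  · exact R.Astar_le_H.trans R.H_le_normalizer_A
  · exact lt_of_le_of_ne hN (fun h => hbA (h ▸ hbN'))
  · intro hp
    have hAp : IsPGroup p A := hS.to_subgroup A
    obtain ⟨k, hk⟩ := isPGroup_iff_exponent_eq_pow.mp hAp
    have hodd : Odd (Monoid.exponent A) := by
      rw [hk]
      exact (Nat.Prime.odd_of_ne_two Fact.out hp).pow
    apply Monoid.exponent_dvd_of_forall_pow_eq_one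
    intro x
    apply Subtype.ext
    have : (x : S) ^ Monoid.exponent A = 1 := by
      refine R.Astar_pow hodd ?_ x.2
      intro a ha
      have h := Monoid.pow_exponent_eq_one (⟨a, ha⟩ : A)
      exact congrArg Subtype.val h
    rw [Subgroup.coe_pow, Subgroup.coe_one]
    exact this

end Cfsg.Agent.S0650
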