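import Cfsg.Statements.S0655
import Cfsg.Agent.Lib.Basic.MaxEA
import Mathlib

set_option autoImplicit false
open Cfsg

namespace Cfsg.Agent.S0655

open Cfsg.Agent.Lib.Basic.MaxEA in
/-- The intersection of the largest elementary abelian subgroups is Ω₁(Z(J)) and Ω₁(C(J)). -/
theorem result {S : Type*} [Group S] [Finite S] {p : ℕ} [Fact p.Prime] (hS : IsPGroup p S) : sInf (Cfsg.maxElementaryAbelianSubgroups p S) = Cfsg.omegaCenterThompson p S ∧ Cfsg.omegaCenterThompson p S = Cfsg.omegaOne p (Subgroup.centralizer (Cfsg.thompsonSubgroup p S : Set S)) := by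
  have h1 : sInf (Cfsg.maxElementaryAbelianSubgroups p S) ≤ Cfsg.omegaCenterThompson p S := by
    intro x hx
    rw [Subgroup.mem_sInf] at hx
    obtain ⟨A, hA⟩ := exists_mem_maxEA (P := S) p
    apply Subgroup.subset_closure
    refine ⟨⟨le_thompsonSubgroup hA (hx A hA), ?_⟩, hA.1.2 x (hx A hA)⟩
    rw [Cfsg.thompsonSubgroup, SetLike.mem_coe]
    show x ∈ Subgroup.centralizer ((sSup (Cfsg.maxElementaryAbelianSubgroups p S) : Subgroup S) : Set S)
    have hle : sSup (Cfsg.maxElementaryAbelianSubgroups p S) ≤ Subgroup.centralizer ({x} : Set S) := by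
      apply sSup_le
      intro B hB
      intro b hb
      rw [Subgroup.mem_centralizer_iff]
      intro y hy
      have hy' : y = x := hy
      rw [hy']
      have hBc := hB.1.1
      have := mul_comm' (⟨x, hx B hB⟩ : B) ⟨b, hb⟩
      exact congrArg Subtype.val this
    rw [Subgroup.mem_centralizer_iff]
    intro y hy
    have := Subgroup.mem_centralizer_iff.mp (hle hy) x rfl
    exact this.symm
  have h2 : Cfsg.omegaCenterThompson p S ≤ Cfsg.omegaOne p (Subgroup.centralizer (Cfsg.thompsonSubgroup p S : Set S)) := by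
    apply Subgroup.closure_mono
    rintro x ⟨⟨_, hx⟩, hx2⟩
    exact ⟨hx, hx2⟩
  have h3 : Cfsg.omegaOne p (Subgroup.centralizer (Cfsg.thompsonSubgroup p S : Set S)) ≤ sInf (Cfsg.maxElementaryAbelianSubgroups p S) := by
    rw [Cfsg.omegaOne, Subgroup.closure_le]
    rintro x ⟨hx, hx2⟩
    rw [SetLike.mem_coe, Subgroup.mem_sInf]
    intro A hA
    exact mem_of_mem_maxEA hA hx2 (Subgroup.centralizer_le (le_thompsonSubgroup hA) hx)
  exact ⟨le_antisymm h1 (h2.trans h3), le_antisymm h2 (h3.trans h1)⟩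

end Cfsg.Agent.S0655
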