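import Cfsg.Statements.S0662
import Mathlib
import Cfsg.Agent.S3807
import Cfsg.Agent.Lib.PGroup.Taussky
import Cfsg.Agent.Lib.Coprime.BrauerWielandt
-- import your own Cfsg.Agent.* helpers here

set_option autoImplicit false
open Cfsg

namespace Cfsg.Agent.S0662


open scoped commutatorElement

section
variable {G : Type*} [Group G] [Finite G] {p : ℕ} [hp : Fact p.Prime]

local notation "L" => Subgroup.lowerCentralSeries (⊤ : Subgroup G)

lemma lcs_step (hX : IsPGroup p G) (i : ℕ) (h : L i ≠ ⊥) : Nat.card ↥(L (i + 1)) * p ≤ Nat.card ↥(L i) := by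
  haveI : Group.IsNilpotent G := hX.isNilpotent
  have hpp := hp.out
  obtain ⟨a, ha⟩ := (hX.to_subgroup (L i)).exists_card_eq
  obtain ⟨b, hb⟩ := (hX.to_subgroup (L (i + 1))).exists_card_eq
  have hle : L (i + 1) ≤ L i := Subgroup.lowerCentralSeries_antitone _ (Nat.le_succ i)
  have hd := Subgroup.card_dvd_of_le hle
  rw [ha, hb, Nat.pow_dvd_pow_iff_le_right hpp.one_lt] at hd
  have hne : L (i + 1) ≠ L i := by
    intro heq
    have hstab : ∀ s, L (i + s) = L i := by
      intro s
      induction s with
      | zero => rfl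
      | succ s ihs =>
        rw [← add_assoc, Subgroup.lowerCentralSeries_succ, ihs, ← Subgroup.lowerCentralSeries_succ, heq]
    obtain ⟨m, hm⟩ := Subgroup.nilpotent_iff_lowerCentralSeries.mp (inferInstance : Group.IsNilpotent G)
    apply h
    rw [← hstab m]
    exact le_bot_iff.mp (hm ▸ Subgroup.lowerCentralSeries_antitone _ (Nat.le_add_left m i))
  have hab : b ≠ a := by
    rintro rfl
    apply hne
    exact Subgroup.eq_of_le_of_card_ge hle (by rw [ha, hb])
  rw [ha, hb, ← pow_succ]
  exact Nat.pow_le_pow_right hpp.pos (by omega)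

lemma lcs_lower (hX : IsPGroup p G) (j : ℕ) (hj : L j ≠ ⊥) :
    ∀ s k, k + s = j → p ^ (s + 1) ≤ Nat.card ↥(L k) := by
  have hpp := hp.out
  intro s
  induction s with
  | zero =>
    intro k hk
    simp only [add_zero] at hk
    subst hk
    rw [zero_add, pow_one]
    obtain ⟨a, ha⟩ := (hX.to_subgroup (L k)).exists_card_eq
    rw [ha]
    rcases a with _ | a
    · exact absurd (Subgroup.eq_bot_of_card_eq _ (by simpa using ha)) hj
    · calc p = p ^ 1 := (pow_one p).symm
        _ ≤ _ := Nat.pow_le_pow_right hpp.pos (by omega)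
  | succ s ih =>
    intro k hk
    have h1 := ih (k + 1) (by omega)
    have hk' : L k ≠ ⊥ := by
      intro h
      apply hj
      have := Subgroup.lowerCentralSeries_antitone (⊤ : Subgroup G) (show k ≤ j by omega)
      exact le_bot_iff.mp (h ▸ this)
    have h2 := lcs_step hX k hk'
    calc p ^ (s + 1 + 1) = p ^ (s + 1) * p := pow_succ _ _
      _ ≤ Nat.card ↥(L (k + 1)) * p := Nat.mul_le_mul_right _ h1
      _ ≤ _ := h2

/-- Commutator of a join with a normal subgroup. -/
lemma commutator_sup_top_le (N M : Subgroup G) [hN : N.Normal] :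
    ⁅N ⊔ M, (⊤ : Subgroup G)⁆ ≤ N ⊔ ⁅M, (⊤ : Subgroup G)⁆ := by
  rw [Subgroup.commutator_le]
  intro x hx g _
  have hx' : x ∈ ((N ⊔ M : Subgroup G) : Set G) := hx
  rw [Subgroup.normal_mul] at hx'
  obtain ⟨n, hn, m, hm, rfl⟩ := Set.mem_mul.mp hx'
  have e : ⁅n * m, g⁆ = n * ⁅m, g⁆ * (g * n⁻¹ * g⁻¹) := by
    simp only [commutatorElement_def]; group
  rw [e]
  refine Subgroup.mul_mem _ (Subgroup.mul_mem _ (Subgroup.mem_sup_left hn) (Subgroup.mem_sup_right ?_))
    (Subgroup.mem_sup_left (hN.conj_mem _ (N.inv_mem hn) g))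
  exact Subgroup.commutator_mem_commutator hm (Subgroup.mem_top g)

/-- A normal subgroup between consecutive terms (of prime index) is a term. -/
lemma eq_lcs_of_not_le (hX : IsPGroup p G) (N : Subgroup G) [N.Normal] (i : ℕ)
    (hcard : Nat.card ↥(L i) = Nat.card ↥(L (i + 1)) * p) (hNi : N ≤ L i) (hN : ¬ N ≤ L (i + 1)) :
    N = L i := by
  haveI : Group.IsNilpotent G := hX.isNilpotent
  have hpp := hp.out
  have hle : L (i + 1) ≤ L i := Subgroup.lowerCentralSeries_antitone _ (Nat.le_succ i)
  have hbase : L i ≤ N ⊔ L (i + 1) := by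
    have h1 : N ⊔ L (i + 1) ≤ L i := sup_le hNi hle
    have h2 : L (i + 1) < N ⊔ L (i + 1) := by
      refine lt_of_le_of_ne le_sup_right ?_
      intro h
      exact hN (by rw [h]; exact le_sup_left)
    -- Lagrange
    have h3 := Subgroup.card_dvd_of_le h1
    have h4 := Subgroup.card_dvd_of_le h2.le
    obtain ⟨c, hc⟩ := h4
    rw [hcard, hc] at h3
    have hpos : 0 < Nat.card ↥(L (i + 1)) := Nat.card_pos
    have h5 : c ∣ p := by
      exact (Nat.mul_dvd_mul_iff_left hpos).mp h3
    rcases (Nat.dvd_prime hpp).mp h5 with h6 | h6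
    · exfalso
      rw [h6, mul_one] at hc
      exact h2.ne (Subgroup.eq_of_le_of_card_ge h2.le hc.le)
    · have h7 : N ⊔ L (i + 1) = L i := by
        apply Subgroup.eq_of_le_of_card_ge h1
        rw [hc, h6, hcard]
      exact h7.ge
  have hiter : ∀ s, L i ≤ N ⊔ L (i + 1 + s) := by
    intro s
    induction s with
    | zero => exact hbase
    | succ s ih =>
      have h1 : L (i + 1 + s) ≤ N ⊔ L (i + 1 + s + 1) := by
        have h2 : L (i + 1 + s) = ⁅L (i + s), (⊤ : Subgroup G)⁆ := by
          rw [← Subgroup.lowerCentralSeries_succ]; congr 1; omega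
        have h3 : L (i + s) ≤ N ⊔ L (i + 1 + s) :=
          (Subgroup.lowerCentralSeries_antitone _ (Nat.le_add_right i s)).trans ih
        rw [h2]
        refine (Subgroup.commutator_mono h3 le_rfl).trans ?_
        refine (commutator_sup_top_le N _).trans ?_
        rw [← Subgroup.lowerCentralSeries_succ]
      exact ih.trans (sup_le le_sup_left h1)
  obtain ⟨m, hm⟩ := Subgroup.nilpotent_iff_lowerCentralSeries.mp (inferInstance : Group.IsNilpotent G)
  have h2 : L (i + 1 + m) = ⊥ :=
    le_bot_iff.mp (hm ▸ Subgroup.lowerCentralSeries_antitone _ (Nat.le_add_left m (i + 1)))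
  have h3 := hiter m
  rw [h2, sup_bot_eq] at h3
  exact le_antisymm hNi h3

end

/-- In a p-group of maximal class of order at least p³ the normal subgroups of index at least p² are exactly the terms of the lower central series, and there are exactly p + 1 normal subgroups of index p. -/
theorem result {G : Type*} [Group G] [Finite G] {p : ℕ} [Fact p.Prime] (n : ℕ) (hG : Nat.card G = p ^ n) (hcl : Group.nilpotencyClass G = n - 1) (hn : 3 ≤ n) : (∀ (N : Subgroup G) [N.Normal] (r : ℕ), 2 ≤ r → N.index = p ^ r → N = (⊤ : Subgroup G).lowerCentralSeries (r - 1)) ∧ Nat.card {N : Subgroup G // N.Normal ∧ N.index = p} = p + 1 := by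
  classical
  have hX : IsPGroup p G := IsPGroup.of_card hG
  haveI hnil : Group.IsNilpotent G := hX.isNilpotent
  have hpp : p.Prime := Fact.out
  have hp0 := hpp.pos
  -- the series
  have hne : (⊤ : Subgroup G).lowerCentralSeries (n - 2) ≠ ⊥ := by
    intro h
    have := Subgroup.lowerCentralSeries_eq_bot_iff_nilpotencyClass_le.mp h
    omega
  have hbot : (⊤ : Subgroup G).lowerCentralSeries (n - 1) = ⊥ :=
    Subgroup.lowerCentralSeries_eq_bot_iff_nilpotencyClass_le.mpr hcl.le
  have hL1 : (⊤ : Subgroup G).lowerCentralSeries 1 = commutator G := Subgroup.top_lowerCentralSeries_one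
  -- `G/G'` is not cyclic
  have hcomm_ne : commutator G ≠ ⊥ := by
    intro h
    apply hne
    rw [← le_bot_iff, ← h, ← hL1]
    exact Subgroup.lowerCentralSeries_antitone _ (by omega)
  have hnc : ¬ IsCyclic (G ⧸ commutator G) := by
    intro hc
    have hcy := Cfsg.Agent.Lib.PGroup.Taussky.isCyclic_of_quotient_commutator hX hc
    apply hcomm_ne
    have hab := hcy.commutative
    rw [eq_bot_iff, commutator_def, Subgroup.commutator_le]
    intro a _ b _
    rw [Subgroup.mem_bot, commutatorElement_eq_one_iff_mul_comm]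
    exact hab.is_comm.comm a b
  have hidx : p ^ 2 ≤ (commutator G).index := by
    have hq : IsPGroup p (G ⧸ commutator G) := IsPGroup.to_quotient hX _
    obtain ⟨a, ha⟩ := hq.exists_card_eq
    rw [Subgroup.index_eq_card, ha]
    rcases a with _ | _ | a
    · exfalso; apply hnc
      haveI : Subsingleton (G ⧸ commutator G) := (Nat.card_eq_one_iff_unique.mp (by simpa using ha)).1
      exact isCyclic_of_subsingleton
    · exfalso; apply hnc
      haveI : Fact (Nat.card (G ⧸ commutator G)).Prime := ⟨by rw [ha]; simpa using hpp⟩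
      exact isCyclic_of_prime_card rfl
    · exact Nat.pow_le_pow_right hp0 (by omega)
  -- upper bound
  have hupper : ∀ s k, k = s + 1 → k ≤ n - 1 → Nat.card ↥((⊤ : Subgroup G).lowerCentralSeries k) ≤ p ^ (n - 1 - k) := by
    intro s
    induction s with
    | zero =>
      intro k hk _
      subst hk
      have h1 := (commutator G).card_mul_index
      rw [hG] at h1
      rw [zero_add, hL1]
      have h2 : Nat.card ↥(commutator G) * p ^ 2 ≤ p ^ n := by
        rw [← h1]; exact Nat.mul_le_mul_left _ hidx
      have h3 : p ^ n = p ^ (n - 1 - 1) * p ^ 2 := by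
        rw [← pow_add]; congr 1; omega
      rw [h3] at h2
      exact Nat.le_of_mul_le_mul_right h2 (by positivity)
    | succ s ih =>
      intro k hk hk2
      subst hk
      have h1 := ih (s + 1) rfl (by omega)
      have hne' : (⊤ : Subgroup G).lowerCentralSeries (s + 1) ≠ ⊥ := by
        intro h
        apply hne
        rw [← le_bot_iff, ← h]
        exact Subgroup.lowerCentralSeries_antitone _ (by omega)
      have h2 := lcs_step hX (s + 1) hne'
      have h3 : p ^ (n - 1 - (s + 1)) = p ^ (n - 1 - (s + 1 + 1)) * p := by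
        rw [← pow_succ]; congr 1; omega
      rw [h3] at h1
      exact Nat.le_of_mul_le_mul_right (h2.trans h1) hp0
  have hcardL : ∀ k, 1 ≤ k → k ≤ n - 1 → Nat.card ↥((⊤ : Subgroup G).lowerCentralSeries k) = p ^ (n - 1 - k) := by
    intro k hk1 hk2
    apply le_antisymm (hupper (k - 1) k (by omega) hk2)
    by_cases hk3 : k = n - 1
    · subst hk3
      simp only [Nat.sub_self, pow_zero]
      exact Nat.card_pos
    · have := lcs_lower hX (n - 2) hne (n - 2 - k) k (by omega)
      have e : n - 2 - k + 1 = n - 1 - k := by omega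
      rwa [e] at this
  have hindexL : ∀ k, 1 ≤ k → k ≤ n - 1 → ((⊤ : Subgroup G).lowerCentralSeries k).index = p ^ (k + 1) := by
    intro k hk1 hk2
    have h1 := ((⊤ : Subgroup G).lowerCentralSeries k).card_mul_index
    rw [hcardL k hk1 hk2, hG] at h1
    have h2 : p ^ n = p ^ (n - 1 - k) * p ^ (k + 1) := by
      rw [← pow_add]; congr 1; omega
    rw [h2] at h1
    exact Nat.eq_of_mul_eq_mul_left (by positivity) h1
  have hstep : ∀ k, 1 ≤ k → k ≤ n - 2 → Nat.card ↥((⊤ : Subgroup G).lowerCentralSeries k) =
      Nat.card ↥((⊤ : Subgroup G).lowerCentralSeries (k + 1)) * p := by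
    intro k hk1 hk2
    rw [hcardL k hk1 (by omega), hcardL (k + 1) (by omega) (by omega), ← pow_succ]
    congr 1; omega
  -- a normal subgroup not inside `G'` contains `G'`
  have hcontains : ∀ (N : Subgroup G) [N.Normal], ¬ N ≤ commutator G → commutator G ≤ N := by
    intro N hNn hN
    obtain ⟨x, hxN, hxc⟩ := SetLike.not_le_iff_exists.mp hN
    set K : Subgroup G := ⁅N, (⊤ : Subgroup G)⁆ with hK
    haveI hKn : K.Normal := Subgroup.commutator_normal N ⊤
    have hKN : K ≤ N := by
      rw [hK, Subgroup.commutator_le]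
      intro a ha b _
      rw [commutatorElement_def]
      have e : a * b * a⁻¹ * b⁻¹ = a * (b * a⁻¹ * b⁻¹) := by group
      rw [e]
      exact N.mul_mem ha (hNn.conj_mem _ (N.inv_mem ha) b)
    have hKc : K ≤ (⊤ : Subgroup G).lowerCentralSeries 1 := by
      rw [hL1, commutator_def]
      exact Subgroup.commutator_mono le_top le_rfl
    have hcl2 : ¬ K ≤ (⊤ : Subgroup G).lowerCentralSeries 2 := by
      intro hK2
      set R := (⊤ : Subgroup G).lowerCentralSeries 2 with hR
      set π := QuotientGroup.mk' R with hπ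
      set W : Subgroup G := (Subgroup.center (G ⧸ R)).comap π with hW
      haveI hWn : W.Normal := Subgroup.Normal.comap inferInstance π
      have hmemW : ∀ c : G, (∀ g : G, ⁅c, g⁆ ∈ R) → c ∈ W := by
        intro c hc
        rw [hW, Subgroup.mem_comap, Subgroup.mem_center_iff]
        intro q
        obtain ⟨g, rfl⟩ := QuotientGroup.mk'_surjective R q
        have h1 := hc g
        rw [← QuotientGroup.eq_one_iff, commutatorElement_def] at h1
        have h4 : ((c * g * c⁻¹ * g⁻¹ : G) : G ⧸ R) =
          (c : G ⧸ R) * g * (c : G ⧸ R)⁻¹ * (g : G ⧸ R)⁻¹ := rfl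
        rw [h4] at h1
        have h5 := mul_inv_eq_one.mp h1
        rw [mul_inv_eq_iff_eq_mul] at h5
        exact h5.symm
      have hxW : x ∈ W := hmemW x (fun g => hK2 (Subgroup.commutator_mem_commutator hxN (Subgroup.mem_top g)))
      have hLW : commutator G ≤ W := by
        intro c hc
        apply hmemW
        intro g
        rw [← hL1] at hc
        exact Subgroup.commutator_mem_commutator hc (Subgroup.mem_top g)
      have hi1 := hindexL 1 le_rfl (by omega)
      rw [hL1] at hi1
      have hd := Subgroup.index_dvd_of_le hLW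
      rw [hi1] at hd
      obtain ⟨i, hi, hi2⟩ := (Nat.dvd_prime_pow hpp).mp hd
      have hdecomp : ∃ y : G, ∀ s : G, ∃ a ∈ W, ∃ k : ℕ, s = a * y ^ k := by
        have hi3 : i ≠ 1 + 1 := by
          rintro rfl
          apply hxc
          have h5 : W = commutator G := by
            symm
            apply Subgroup.eq_of_le_of_card_ge hLW
            have h6 := W.card_mul_index
            have h7 := (commutator G).card_mul_index
            rw [hi2] at h6
            rw [hi1] at h7
            have : Nat.card W = Nat.card ↥(commutator G) := by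
              apply Nat.eq_of_mul_eq_mul_right (show 0 < p ^ (1 + 1) by positivity)
              rw [h6, h7]
            omega
          rw [← h5]; exact hxW
        have hi4 : i = 0 ∨ i = 1 := by omega
        rcases hi4 with rfl | rfl
        · rw [pow_zero] at hi2
          rw [Subgroup.index_eq_one] at hi2
          refine ⟨1, fun s => ⟨s, by rw [hi2]; trivial, 0, by simp⟩⟩
        · rw [pow_one] at hi2
          obtain ⟨y, hy⟩ : ∃ y, y ∉ W := by
            by_contra hcon
            push Not at hcon
            have : W = ⊤ := by ext z; simp [hcon z]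
            rw [this, Subgroup.index_top] at hi2
            exact hpp.one_lt.ne hi2
          exact ⟨y, Cfsg.Agent.S3807.exists_decomp W hi2 y hy⟩
      obtain ⟨y, hy⟩ := hdecomp
      have hcomm : commutator G ≤ R := by
        rw [commutator_def, Subgroup.commutator_le]
        intro s _ t _
        rw [← QuotientGroup.eq_one_iff, commutatorElement_def]
        obtain ⟨a, ha, k, rfl⟩ := hy s
        obtain ⟨b, hb, l, rfl⟩ := hy t
        have ca : ∀ q : G ⧸ R, Commute (a : G ⧸ R) q := fun q =>
          ((Subgroup.mem_center_iff.mp ha) q).symm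
        have cb : ∀ q : G ⧸ R, Commute (b : G ⧸ R) q := fun q =>
          ((Subgroup.mem_center_iff.mp hb) q).symm
        have key : Commute ((a * y ^ k : G) : G ⧸ R) ((b * y ^ l : G) : G ⧸ R) := by
          have e1 : ((a * y ^ k : G) : G ⧸ R) = (a : G ⧸ R) * (y : G ⧸ R) ^ k := rfl
          have e2 : ((b * y ^ l : G) : G ⧸ R) = (b : G ⧸ R) * (y : G ⧸ R) ^ l := rfl
          rw [e1, e2]
          exact ((ca _).mul_right (ca _)).mul_left
            (((cb _).symm).mul_right ((Commute.refl (y : G ⧸ R)).pow_pow k l))
        have e3 : ((a * y ^ k * (b * y ^ l) * (a * y ^ k)⁻¹ * (b * y ^ l)⁻¹ : G) : G ⧸ R) =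
            ((a * y ^ k : G) : G ⧸ R) * ((b * y ^ l : G) : G ⧸ R) * ((a * y ^ k : G) : G ⧸ R)⁻¹ *
              ((b * y ^ l : G) : G ⧸ R)⁻¹ := rfl
        rw [e3, key.eq, mul_inv_cancel_right, mul_inv_cancel]
      have h12 := hstep 1 le_rfl (by omega)
      have hle : (⊤ : Subgroup G).lowerCentralSeries 1 ≤ R := by rw [hL1]; exact hcomm
      have h13 := Subgroup.card_le_of_le hle
      have h14 : 0 < Nat.card ↥R := Nat.card_pos
      have h15 := hpp.two_le
      change Nat.card ↥((⊤ : Subgroup G).lowerCentralSeries 1) = Nat.card ↥R * p at h12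
      nlinarith
    have hKeq := eq_lcs_of_not_le hX K 1 (hstep 1 le_rfl (by omega)) hKc hcl2
    rw [← hL1, ← hKeq]
    exact hKN
  have hi1 := hindexL 1 le_rfl (by omega)
  rw [hL1] at hi1
  constructor
  · intro N hNn r hr hNi
    by_cases hNb : N = ⊥
    · subst hNb
      rw [Subgroup.index_bot, hG] at hNi
      have : n = r := Nat.pow_right_injective hpp.two_le hNi
      subst this
      exact hbot.symm
    have hex : ∃ k, ¬ N ≤ (⊤ : Subgroup G).lowerCentralSeries k := ⟨n - 1, by
      rw [hbot, le_bot_iff]; exact hNb⟩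
    set k₀ := Nat.find hex with hk₀
    have hk₀s := Nat.find_spec hex
    have hk₀0 : k₀ ≠ 0 := by
      intro h
      rw [← hk₀, h] at hk₀s
      exact hk₀s le_top
    obtain ⟨i, hi⟩ : ∃ i, k₀ = i + 1 := ⟨k₀ - 1, by omega⟩
    have hNi1 : N ≤ (⊤ : Subgroup G).lowerCentralSeries i := by
      by_contra hcon
      have := Nat.find_min' hex hcon
      omega
    rw [← hk₀, hi] at hk₀s
    rcases Nat.eq_zero_or_pos i with rfl | hipos
    · exfalso
      rw [hL1] at hk₀s
      have hle := hcontains N hk₀s
      have hd := Subgroup.index_dvd_of_le hle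
      rw [hi1, hNi, Nat.pow_dvd_pow_iff_le_right hpp.one_lt] at hd
      have hr2 : r = 1 + 1 := by omega
      subst hr2
      apply hk₀s
      have h5 : N = commutator G := by
        symm
        apply Subgroup.eq_of_le_of_card_ge hle
        have h6 := N.card_mul_index
        have h7 := (commutator G).card_mul_index
        rw [hNi] at h6
        rw [hi1] at h7
        have : Nat.card N = Nat.card ↥(commutator G) := by
          apply Nat.eq_of_mul_eq_mul_right (show 0 < p ^ (1 + 1) by positivity)
          rw [h6, h7]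
        omega
      exact h5.le
    · have hin : i ≤ n - 2 := by
        by_contra hcon
        apply hNb
        rw [← le_bot_iff, ← hbot]
        exact hNi1.trans (Subgroup.lowerCentralSeries_antitone _ (by omega))
      have hNeq := eq_lcs_of_not_le hX N i (hstep i hipos hin) hNi1 hk₀s
      have hidx2 := hindexL i hipos (by omega)
      rw [← hNeq, hNi] at hidx2
      have : r = i + 1 := Nat.pow_right_injective hpp.two_le hidx2
      subst this
      simpa using hNeq
  · -- counting
    set Γ := G ⧸ commutator G with hΓ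
    set π : G →* Γ := QuotientGroup.mk' (commutator G) with hπ
    have hπs : Function.Surjective π := QuotientGroup.mk'_surjective _
    have hπk : π.ker = commutator G := QuotientGroup.ker_mk' _
    have hcZ : Nat.card Γ = p ^ 2 := by
      rw [← Subgroup.index_eq_card]; exact hi1
    have hexp : ∀ x : Γ, x ^ p = 1 := by
      intro x
      have h1 : orderOf x ∣ p ^ 2 := by
        rw [← hcZ]; exact orderOf_dvd_natCard x
      obtain ⟨i, hi, hi2⟩ := (Nat.dvd_prime_pow hpp).mp h1
      interval_cases i
      · have : x = 1 := orderOf_eq_one_iff.mp (by simpa using hi2)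
        simp [this]
      · have : orderOf x = p := by simpa using hi2
        rw [← this]; exact pow_orderOf_eq_one x
      · exfalso
        apply hnc
        exact isCyclic_of_orderOf_eq_card x (by rw [hcZ, hi2])
    haveI : Fintype Γ := Fintype.ofFinite _
    haveI : Fintype (Cfsg.Agent.Lib.Coprime.BrauerWielandt.Lines Γ p) := Fintype.ofFinite _
    have hlines := Cfsg.Agent.Lib.Coprime.BrauerWielandt.card_lines (p := p) hcZ hexp
    rw [← hlines, ← Nat.card_eq_fintype_card]
    have hΓc : IsMulCommutative Γ := IsPGroup.isMulCommutative_of_card_eq_prime_sq hcZ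
    have hcen : ∀ B : Subgroup G, B.Normal → B.index = p → π.ker ≤ B := by
      intro B hB hBi
      rw [hπk, commutator_def, Subgroup.commutator_le]
      intro a _ b _
      haveI := hB
      have hcy : IsCyclic (G ⧸ B) := by
        haveI : Fact (Nat.card (G ⧸ B)).Prime := ⟨by
          rw [← Subgroup.index_eq_card, hBi]; exact hpp⟩
        exact isCyclic_of_prime_card rfl
      rw [← QuotientGroup.eq_one_iff]
      have e : ((⁅a, b⁆ : G) : G ⧸ B) = (a : G ⧸ B) * b * (a : G ⧸ B)⁻¹ * (b : G ⧸ B)⁻¹ := rfl
      rw [e, hcy.isMulCommutative.is_comm.comm (a : G ⧸ B) (b : G ⧸ B)]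
      group
    refine Nat.card_congr ⟨fun B => ⟨B.1.map π, ?_⟩, fun L => ⟨L.1.comap π, ?_, ?_⟩, ?_, ?_⟩
    · have h1 : (B.1.map π).comap π = B.1 := Subgroup.comap_map_eq_self (hcen B.1 B.2.1 B.2.2)
      have h2 : (B.1.map π).index = p := by
        rw [← Subgroup.index_comap_of_surjective _ hπs, h1]; exact B.2.2
      have h3 := (B.1.map π).card_mul_index
      rw [h2, hcZ, pow_two] at h3
      exact Nat.eq_of_mul_eq_mul_right hp0 h3
    · haveI : L.1.Normal := by
        constructor
        intro n hn g
        rw [hΓc.is_comm.comm g n]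
        simpa using hn
      exact Subgroup.Normal.comap inferInstance π
    · rw [Subgroup.index_comap_of_surjective _ hπs]
      have h3 := L.1.card_mul_index
      rw [L.2, hcZ, pow_two] at h3
      exact Nat.eq_of_mul_eq_mul_left hp0 h3
    · intro B
      apply Subtype.ext
      exact Subgroup.comap_map_eq_self (hcen B.1 B.2.1 B.2.2)
    · intro L
      apply Subtype.ext
      exact Subgroup.map_comap_eq_self_of_surjective hπs _

end Cfsg.Agent.S0662
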