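import Cfsg.Statements.S0699
import Mathlib
-- import your own Cfsg.Agent.* helpers here

set_option autoImplicit false
open Cfsg

namespace Cfsg.Agent.S0699

open MulAction Equiv

lemma card_image_mul {P Y : Type*} [Group P] [Finite P] (X C : Subgroup P) (hC : C ≤ X)
    (f : P → Y) (S : Set Y) (hmaps : ∀ x ∈ X, f x ∈ S) (hsurj : ∀ s ∈ S, ∃ x ∈ X, f x = s)
    (hker : ∀ x ∈ X, ∀ y ∈ X, f x = f y ↔ x⁻¹ * y ∈ C) :
    S.ncard * Nat.card C = Nat.card X := by
  classical
  let D : Subgroup X := C.subgroupOf X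
  have hD : Nat.card D = Nat.card C := Nat.card_congr (Subgroup.subgroupOfEquivOfLe hC).toEquiv
  let g : X ⧸ D → S := fun q => Quotient.liftOn' q (fun x => ⟨f x, hmaps x x.2⟩) (by
    intro x y hxy
    have : (x : P)⁻¹ * y ∈ C := by
      have h := QuotientGroup.leftRel_apply.mp hxy
      simpa [D, Subgroup.mem_subgroupOf] using h
    exact Subtype.ext ((hker x x.2 y y.2).mpr this))
  have hg : Function.Bijective g := by
    constructor
    · intro p q
      induction p using QuotientGroup.induction_on with | H x => ?_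
      induction q using QuotientGroup.induction_on with | H y => ?_
      intro h
      have h1 : f x = f y := congrArg Subtype.val h
      have h2 := (hker x x.2 y y.2).mp h1
      apply QuotientGroup.eq.mpr
      simpa [D, Subgroup.mem_subgroupOf] using h2
    · rintro ⟨s, hs⟩
      obtain ⟨x, hx, rfl⟩ := hsurj s hs
      exact ⟨QuotientGroup.mk ⟨x, hx⟩, rfl⟩
  rw [← hD, ← Nat.card_coe_set_eq, ← Nat.card_congr (Equiv.ofBijective g hg)]
  exact (Subgroup.card_eq_card_quotient_mul_card_subgroup D).symm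

lemma conj_of_odd {X : Type*} [Group X] (t s : X) (ht : t ^ 2 = 1) (hs : s ^ 2 = 1)
    (hodd : Odd (orderOf (t * s))) : ∃ w ∈ Subgroup.zpowers (t * s), w⁻¹ * t * w = s := by
  obtain ⟨k, hk⟩ := hodd
  set x := t * s with hx
  have hxo : x ^ (2 * k + 1) = 1 := by rw [← hk]; exact pow_orderOf_eq_one x
  refine ⟨x ^ (k + 1), Subgroup.npow_mem_zpowers _ _, ?_⟩
  have htt : t * t = 1 := by rw [← pow_two, ht]
  have hss : s * s = 1 := by rw [← pow_two, hs]
  have ht' : t⁻¹ = t := by rw [inv_eq_iff_mul_eq_one, htt]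
  have hs' : s⁻¹ = s := by rw [inv_eq_iff_mul_eq_one, hss]
  have hinv : t * x * t = x⁻¹ := by
    rw [hx, mul_inv_rev, hs', ht']
    calc t * (t * s) * t = (t * t) * s * t := by group
      _ = s * t := by rw [htt, one_mul]
  have hinvpow : ∀ n : ℕ, t * x ^ n * t = (x⁻¹) ^ n := by
    intro n
    induction n with
    | zero => simp [htt]
    | succ n ih =>
      calc t * x ^ (n + 1) * t = (t * x ^ n * t) * (t * x * t) := by
            rw [pow_succ]
            calc t * (x ^ n * x) * t = t * x ^ n * 1 * x * t := by group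
              _ = t * x ^ n * (t * t) * x * t := by rw [htt]
              _ = _ := by group
        _ = (x⁻¹) ^ (n + 1) := by rw [ih, hinv, pow_succ]
  have h2 : (x ^ (k + 1)) ^ 2 = x := by
    rw [← pow_mul]
    have : (k + 1) * 2 = (2 * k + 1) + 1 := by ring
    rw [this, pow_succ, hxo, one_mul]
  have hw : t * x ^ (k + 1) = (x ^ (k + 1))⁻¹ * t := by
    have := hinvpow (k + 1)
    rw [inv_pow] at this
    rw [← this]
    calc t * x ^ (k + 1) = t * x ^ (k + 1) * (t * t) := by rw [htt, mul_one]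
      _ = _ := by group
  have h4 : (x ^ (k + 1))⁻¹ * t * x ^ (k + 1) = (x ^ (k + 1))⁻¹ * (x ^ (k + 1))⁻¹ * t := by
    rw [mul_assoc, hw, mul_assoc]
  rw [h4]
  have h3 : (x ^ (k + 1))⁻¹ * (x ^ (k + 1))⁻¹ = x⁻¹ := by
    rw [← mul_inv_rev, ← pow_two, h2]
  rw [h3, hx, mul_inv_rev, ht', hs', mul_assoc, htt, mul_one]

section LemmaW

variable {F : Type*} [Fintype F] [DecidableEq F]

/-- stabilizer-friendly membership -/
lemma mem_stab {X : Subgroup (Perm F)} {a : F} {x : Perm F} :
    x ∈ X ⊓ stabilizer (Perm F) a ↔ x ∈ X ∧ x a = a := by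
  rw [Subgroup.mem_inf, MulAction.mem_stabilizer_iff]; rfl

lemma exists_fixed (hodd : Odd (Fintype.card F)) (t : Perm F) (ht : t ^ 2 = 1) : ∃ a, t a = a := by
  haveI : Fact (Nat.Prime 2) := ⟨Nat.prime_two⟩
  exact Equiv.Perm.exists_fixed_point_of_prime (p := 2) (n := 1)
    (by rw [Nat.two_dvd_ne_zero]; exact Nat.odd_iff.mp hodd) (by simpa using ht)

/-- The hypotheses of Lemma W. -/
structure WHyp (A B : Subgroup (Perm F)) : Prop where
  hodd : Odd (Fintype.card F)
  hAB : ∀ g ∈ B, ∀ x ∈ A, g * x * g⁻¹ ∈ A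
  h2 : ∀ a b c d : F, a ≠ b → c ≠ d → ∃ x ∈ A, x a = c ∧ x b = d
  hst : ∀ a b : F, a ≠ b → Odd (Nat.card ↥(A ⊓ stabilizer (Perm F) a ⊓ stabilizer (Perm F) b))

variable {A B : Subgroup (Perm F)}

lemma WHyp.no_inv (H : WHyp A B) {x : Perm F} (hx : x ∈ A) {a b : F} (hab : a ≠ b) (ha : x a = a)
    (hb : x b = b) (h2 : x ^ 2 = 1) : x = 1 := by
  have hmem : x ∈ A ⊓ stabilizer (Perm F) a ⊓ stabilizer (Perm F) b := by
    rw [mem_stab, mem_stab]; exact ⟨⟨hx, ha⟩, hb⟩
  have h1 : orderOf x ∣ Nat.card ↥(A ⊓ stabilizer (Perm F) a ⊓ stabilizer (Perm F) b) :=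
    Subgroup.orderOf_dvd_natCard _ hmem
  have h3 : orderOf x ∣ 2 := orderOf_dvd_of_pow_eq_one h2
  have h4 : orderOf x = 1 ∨ orderOf x = 2 := (Nat.dvd_prime Nat.prime_two).mp h3
  rcases h4 with h | h
  · exact orderOf_eq_one_iff.mp h
  · rw [h] at h1
    have := H.hst a b hab
    exact absurd (even_iff_two_dvd.mpr h1) (Nat.not_even_iff_odd.mpr this)

/-- An involution of `A` with a fixed point `a` fixes only `a`. -/
lemma WHyp.uniq (H : WHyp A B) {x : Perm F} (hx : x ∈ A) (h2 : x ^ 2 = 1) (h1 : x ≠ 1) {a b : F}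
    (ha : x a = a) (hb : x b = b) : a = b := by
  by_contra hab
  exact h1 (H.no_inv hx hab ha hb h2)

/-- Two involutions with distinct fixed points have a product of odd order. -/
lemma WHyp.odd_mul (H : WHyp A B) {t y : Perm F} (ht : t ∈ A) (hy : y ∈ A) (ht2 : t ^ 2 = 1)
    (hy2 : y ^ 2 = 1) {a b : F} (hab : a ≠ b) (ha : t a = a) (hb : y b = b) (ht1 : t ≠ 1)
    (hy1 : y ≠ 1) : Odd (orderOf (t * y)) := by
  by_contra hodd
  rw [Nat.not_odd_iff_even] at hodd
  obtain ⟨k, hk⟩ := hodd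
  set x := t * y with hx
  have hxpos : 0 < orderOf x := orderOf_pos x
  have hk0 : 0 < k := by omega
  set z := x ^ k with hz
  have hz2 : z ^ 2 = 1 := by
    rw [hz, ← pow_mul]
    have : k * 2 = orderOf x := by omega
    rw [this, pow_orderOf_eq_one]
  have hz1 : z ≠ 1 := by
    intro h
    have := orderOf_dvd_of_pow_eq_one h
    have := Nat.le_of_dvd hk0 this
    omega
  have hzA : z ∈ A := Subgroup.pow_mem _ (A.mul_mem ht hy) _
  have htt : t * t = 1 := by rw [← pow_two, ht2]
  have hyy : y * y = 1 := by rw [← pow_two, hy2]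
  have hzinv : z⁻¹ = z := by
    rw [inv_eq_iff_mul_eq_one, ← pow_two, hz2]
  -- `t` and `y` commute with `z`
  have hxt : t * x * t⁻¹ = x⁻¹ := by
    have : t⁻¹ = t := by rw [inv_eq_iff_mul_eq_one, htt]
    rw [hx, mul_inv_rev, this, (inv_eq_iff_mul_eq_one.mpr hyy)]
    calc t * (t * y) * t = (t * t) * y * t := by group
      _ = y * t := by rw [htt, one_mul]
  have hyx : y * x * y⁻¹ = x⁻¹ := by
    have : y⁻¹ = y := by rw [inv_eq_iff_mul_eq_one, hyy]
    rw [hx, mul_inv_rev, this, (inv_eq_iff_mul_eq_one.mpr htt)]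
    calc y * (t * y) * y = y * t * (y * y) := by group
      _ = y * t := by rw [hyy, mul_one]
  have hzt : t * z * t⁻¹ = z := by
    rw [hz, ← conj_pow, hxt, inv_pow, ← hz, hzinv]
  have hzy : y * z * y⁻¹ = z := by
    rw [hz, ← conj_pow, hyx, inv_pow, ← hz, hzinv]
  obtain ⟨d, hd⟩ := exists_fixed H.hodd z hz2
  have hdt : t d = d := by
    have h1 : z (t d) = t d := by
      have : z * t = t * z := (mul_inv_eq_iff_eq_mul.mp hzt).symm
      calc z (t d) = (z * t) d := rfl
        _ = (t * z) d := by rw [this]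
        _ = t (z d) := rfl
        _ = t d := by rw [hd]
    exact H.uniq hzA hz2 hz1 h1 hd
  have hdy : y d = d := by
    have h1 : z (y d) = y d := by
      have : z * y = y * z := (mul_inv_eq_iff_eq_mul.mp hzy).symm
      calc z (y d) = (z * y) d := rfl
        _ = (y * z) d := by rw [this]
        _ = y (z d) := rfl
        _ = y d := by rw [hd]
    exact H.uniq hzA hz2 hz1 h1 hd
  have e1 : a = d := H.uniq ht ht2 ht1 ha hdt
  have e2 : b = d := H.uniq hy hy2 hy1 hb hdy
  exact hab (e1.trans e2.symm)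

/-- Involutions fixing the same point are conjugate under the point stabilizer. -/
lemma WHyp.conj_inv (H : WHyp A B) {t s : Perm F} (ht : t ∈ A) (hs : s ∈ A) (ht2 : t ^ 2 = 1)
    (hs2 : s ^ 2 = 1) (ht1 : t ≠ 1) (hs1 : s ≠ 1) {a b : F} (hab : a ≠ b) (hta : t a = a)
    (hsa : s a = a) : ∃ v ∈ A ⊓ stabilizer (Perm F) a, v * t * v⁻¹ = s := by
  obtain ⟨g, hg, hga, -⟩ := H.h2 a b b a hab hab.symm
  set y := g * t * g⁻¹ with hy
  have hyA : y ∈ A := A.mul_mem (A.mul_mem hg ht) (A.inv_mem hg)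
  have hy2 : y ^ 2 = 1 := by rw [hy, conj_pow, ht2]; group
  have hy1 : y ≠ 1 := by
    intro h
    apply ht1
    have : g * t * g⁻¹ = 1 := h
    rw [conj_eq_one_iff] at this
    exact this
  have hyb : y b = b := by
    have : g⁻¹ b = a := by rw [← hga]; simp
    calc y b = g (t (g⁻¹ b)) := rfl
      _ = b := by rw [this, hta, hga]
  obtain ⟨w1, hw1, hw1'⟩ := conj_of_odd t y ht2 hy2 (H.odd_mul ht hyA ht2 hy2 hab hta hyb ht1 hy1)
  obtain ⟨w2, hw2, hw2'⟩ := conj_of_odd s y hs2 hy2 (H.odd_mul hs hyA hs2 hy2 hab hsa hyb hs1 hy1)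
  have hw1A : w1 ∈ A := (Subgroup.zpowers_le.mpr (A.mul_mem ht hyA)) hw1
  have hw2A : w2 ∈ A := (Subgroup.zpowers_le.mpr (A.mul_mem hs hyA)) hw2
  set v := w2 * w1⁻¹ with hv
  have hvA : v ∈ A := A.mul_mem hw2A (A.inv_mem hw1A)
  have hconj : v * t * v⁻¹ = s := by
    have e1 : t = w1 * y * w1⁻¹ := by rw [← hw1']; group
    have e2 : s = w2 * y * w2⁻¹ := by rw [← hw2']; group
    rw [e2, hv, e1]; group
  refine ⟨v, ?_, hconj⟩
  rw [mem_stab]
  refine ⟨hvA, ?_⟩
  apply H.uniq hs hs2 hs1 _ hsa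
  calc s (v a) = (s * v) a := rfl
    _ = (v * t) a := by rw [← hconj]; congr 1; group
    _ = v (t a) := rfl
    _ = v a := by rw [hta]

lemma ncard_fibers {P Y : Type*} [Finite P] [Finite Y] (S : Set P) (T : Set Y) (f : P → Y)
    (hf : ∀ s ∈ S, f s ∈ T) (l : ℕ) (hl : ∀ y ∈ T, {s | s ∈ S ∧ f s = y}.ncard = l) :
    S.ncard = T.ncard * l := by
  classical
  haveI := Fintype.ofFinite P
  haveI := Fintype.ofFinite Y
  rw [Set.ncard_eq_toFinset_card' S, Set.ncard_eq_toFinset_card' T]
  rw [Finset.card_eq_sum_card_fiberwise (f := f) (t := T.toFinset) (by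
    intro s hs
    simp only [Finset.mem_coe, Set.mem_toFinset] at hs ⊢
    exact hf s hs)]
  rw [Finset.sum_congr rfl (g := fun _ => l), Finset.sum_const, smul_eq_mul]
  intro y hy
  rw [Set.mem_toFinset] at hy
  rw [← hl y hy, Set.ncard_eq_toFinset_card']
  congr 1
  ext s
  simp

theorem WHyp.main (H : WHyp A B) {a b : F} (hab : a ≠ b)
    (hB : ∀ c c', c ≠ a → c ≠ b → c' ≠ a → c' ≠ b → ∃ g ∈ B, g a = a ∧ g b = b ∧ g c = c')
    {c c' : F} (hca : c ≠ a) (hcb : c ≠ b) (hca' : c' ≠ a) (hcb' : c' ≠ b) :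
    ∃ x ∈ A, x a = a ∧ x b = b ∧ x c = c' := by
  classical
  set X : Subgroup (Perm F) := A ⊓ stabilizer (Perm F) a with hX
  set D : Subgroup (Perm F) := X ⊓ stabilizer (Perm F) b with hD
  set E : Subgroup (Perm F) := D ⊓ stabilizer (Perm F) c with hE
  have memX : ∀ {x : Perm F}, x ∈ X ↔ x ∈ A ∧ x a = a := mem_stab
  have memD : ∀ {x : Perm F}, x ∈ D ↔ (x ∈ A ∧ x a = a) ∧ x b = b := by
    intro x; rw [hD, mem_stab, memX]
  have memE : ∀ {x : Perm F}, x ∈ E ↔ ((x ∈ A ∧ x a = a) ∧ x b = b) ∧ x c = c := by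
    intro x; rw [hE, mem_stab, memD]
  -- the two fundamental sets of points
  set S1 : Set F := {y | y ≠ a} with hS1
  set S3 : Set F := {y | y ≠ a ∧ y ≠ b} with hS3
  have hb1 : b ∈ S1 := hab.symm
  have hS13 : S3 = S1 \ {b} := by
    ext y; simp [hS3, hS1]
  have hS3card : S3.ncard + 1 = S1.ncard := by
    rw [hS13]; exact Set.ncard_sdiff_singleton_add_one hb1 (Set.toFinite _)
  have hS1card : S1.ncard + 1 = Fintype.card F := by
    have : S1 = Set.univ \ {a} := by ext y; simp [hS1]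
    rw [this, Set.ncard_sdiff_singleton_add_one (Set.mem_univ a) (Set.toFinite _), Set.ncard_univ,
      Nat.card_eq_fintype_card]
  -- (1) `m * |D| = |X|`
  have e1 : S1.ncard * Nat.card D = Nat.card X := by
    apply card_image_mul X D inf_le_left (fun x => x b) S1
    · intro x hx h
      have hx' := memX.mp hx
      apply hab
      apply x.injective
      rw [hx'.2]; exact h.symm
    · intro s hs
      obtain ⟨x, hx, hxa, hxb⟩ := H.h2 a b a s hab (Ne.symm hs)
      exact ⟨x, memX.mpr ⟨hx, hxa⟩, hxb⟩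
    · intro x hx y hy
      have hxm := memX.mp hx
      have hym := memX.mp hy
      constructor
      · intro h
        refine memD.mpr ⟨memX.mp (X.mul_mem (X.inv_mem hx) hy), ?_⟩
        have h' : x b = y b := h
        show x⁻¹ (y b) = b
        rw [← h']; simp
      · intro h
        have h' := (memD.mp h).2
        have h'' : x⁻¹ (y b) = b := h'
        show x b = y b
        calc x b = x (x⁻¹ (y b)) := by rw [h'']
          _ = y b := by simp
  -- (2) `e * |E| = |D|`
  set O : Set F := {z | ∃ x ∈ D, x c = z} with hO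
  have e2 : O.ncard * Nat.card E = Nat.card D := by
    apply card_image_mul D E inf_le_left (fun x => x c) O
    · intro x hx; exact ⟨x, hx, rfl⟩
    · rintro s ⟨x, hx, rfl⟩; exact ⟨x, hx, rfl⟩
    · intro x hx y hy
      constructor
      · intro h
        refine memE.mpr ⟨memD.mp (D.mul_mem (D.inv_mem hx) hy), ?_⟩
        have h' : x c = y c := h
        show x⁻¹ (y c) = c
        rw [← h']; simp
      · intro h
        have h'' : x⁻¹ (y c) = c := (memE.mp h).2
        show x c = y c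
        calc x c = x (x⁻¹ (y c)) := by rw [h'']
          _ = y c := by simp
  -- an involution in `X`
  have hmeven : 2 ∣ S1.ncard := by
    have := H.hodd
    obtain ⟨k, hk⟩ := this
    exact ⟨k, by omega⟩
  have hXeven : 2 ∣ Nat.card X := by
    rw [← e1]; exact dvd_mul_of_dvd_left hmeven _
  haveI : Fact (Nat.Prime 2) := ⟨Nat.prime_two⟩
  obtain ⟨t0', ht0'⟩ := exists_prime_orderOf_dvd_card' (G := X) 2 hXeven
  set t0 : Perm F := (t0' : Perm F) with ht0def
  have ht0X : t0 ∈ X := t0'.2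
  have ht0o : orderOf t0 = 2 := by rw [ht0def, Subgroup.orderOf_coe]; exact ht0'
  have ht02 : t0 ^ 2 = 1 := by rw [← ht0o]; exact pow_orderOf_eq_one _
  have ht01 : t0 ≠ 1 := by
    intro h; rw [h, orderOf_one] at ht0o; omega
  have ht0A := (memX.mp ht0X).1
  have ht0a := (memX.mp ht0X).2
  have hc0a : t0 b ≠ a := by
    intro h; apply hab; apply t0.injective; rw [ht0a]; exact h.symm
  have hc0b : t0 b ≠ b := by
    intro h; exact hab (H.uniq ht0A ht02 ht01 ht0a h)
  obtain ⟨g, hgB, hga, hgb, hgc⟩ := hB (t0 b) c hc0a hc0b hca hcb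
  set t : Perm F := g * t0 * g⁻¹ with ht
  have hgia : g⁻¹ a = a := by rw [Perm.inv_eq_iff_eq]; exact hga.symm
  have hgib : g⁻¹ b = b := by rw [Perm.inv_eq_iff_eq]; exact hgb.symm
  have htA : t ∈ A := H.hAB g hgB t0 ht0A
  have hta : t a = a := by
    show g (t0 (g⁻¹ a)) = a
    rw [hgia, ht0a, hga]
  have htb : t b = c := by
    show g (t0 (g⁻¹ b)) = c
    rw [hgib, hgc]
  have ht2 : t ^ 2 = 1 := by rw [ht, conj_pow, ht02]; group
  have ht1 : t ≠ 1 := by
    intro h
    apply ht01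
    have : g * t0 * g⁻¹ = 1 := h
    rwa [conj_eq_one_iff] at this
  have htc : t c = b := by
    have : t (t b) = b := by
      have h2 : (t * t) b = b := by rw [← pow_two, ht2]; rfl
      exact h2
    rwa [htb] at this
  -- (4) `|I| * |C| = |X|`
  set I : Set (Perm F) := {s | s ∈ A ∧ s a = a ∧ s ^ 2 = 1 ∧ s ≠ 1} with hI
  set C : Subgroup (Perm F) := X ⊓ Subgroup.centralizer {t} with hC
  have memC : ∀ {x : Perm F}, x ∈ C ↔ x ∈ X ∧ x * t = t * x := by
    intro x
    rw [hC, Subgroup.mem_inf, Subgroup.mem_centralizer_singleton_iff]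
  have hconjker : ∀ x y : Perm F, x * t * x⁻¹ = y * t * y⁻¹ ↔ (x⁻¹ * y) * t = t * (x⁻¹ * y) := by
    intro x y
    constructor
    · intro h
      have : t = x⁻¹ * y * t * y⁻¹ * x := by
        calc t = x⁻¹ * (x * t * x⁻¹) * x := by group
          _ = x⁻¹ * (y * t * y⁻¹) * x := by rw [h]
          _ = _ := by group
      calc x⁻¹ * y * t = x⁻¹ * y * t * y⁻¹ * x * (x⁻¹ * y) := by group
        _ = t * (x⁻¹ * y) := by rw [← this]
    · intro h
      calc x * t * x⁻¹ = x * (t * (x⁻¹ * y)) * (y⁻¹ * x) * x⁻¹ := by group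
        _ = x * ((x⁻¹ * y) * t) * (y⁻¹ * x) * x⁻¹ := by rw [h]
        _ = _ := by group
  have e3 : I.ncard * Nat.card C = Nat.card X := by
    apply card_image_mul X C inf_le_left (fun x => x * t * x⁻¹) I
    · intro x hx
      have hxm := memX.mp hx
      refine ⟨A.mul_mem (A.mul_mem hxm.1 htA) (A.inv_mem hxm.1), ?_, ?_, ?_⟩
      · have hxia : x⁻¹ a = a := by rw [Perm.inv_eq_iff_eq]; exact hxm.2.symm
        show x (t (x⁻¹ a)) = a
        rw [hxia, hta, hxm.2]
      · show (x * t * x⁻¹) ^ 2 = 1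
        rw [conj_pow, ht2]; group
      · intro h
        apply ht1
        have h' : x * t * x⁻¹ = 1 := h
        rwa [conj_eq_one_iff] at h'
    · rintro s ⟨hsA, hsa, hs2, hs1⟩
      obtain ⟨v, hv, hv'⟩ := H.conj_inv htA hsA ht2 hs2 ht1 hs1 hab hta hsa
      exact ⟨v, hv, hv'⟩
    · intro x hx y hy
      show x * t * x⁻¹ = y * t * y⁻¹ ↔ _
      rw [hconjker]
      constructor
      · intro h
        exact memC.mpr ⟨X.mul_mem (X.inv_mem hx) hy, h⟩
      · intro h
        exact (memC.mp h).2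
  -- (5) fibres `J`
  set J : F → Set (Perm F) := fun c'' => {s | s ∈ I ∧ s b = c''} with hJ
  set E' : Subgroup (Perm F) := E ⊓ Subgroup.centralizer {t} with hE'
  have memE' : ∀ {x : Perm F}, x ∈ E' ↔ x ∈ E ∧ x * t = t * x := by
    intro x
    rw [hE', Subgroup.mem_inf, Subgroup.mem_centralizer_singleton_iff]
  have e4 : (J c).ncard * Nat.card E' = Nat.card E := by
    apply card_image_mul E E' inf_le_left (fun x => x * t * x⁻¹) (J c)
    · intro x hx
      obtain ⟨⟨⟨hxA, hxa⟩, hxb⟩, hxc⟩ := memE.mp hx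
      have hxia : x⁻¹ a = a := by rw [Perm.inv_eq_iff_eq]; exact hxa.symm
      have hxib : x⁻¹ b = b := by rw [Perm.inv_eq_iff_eq]; exact hxb.symm
      refine ⟨⟨A.mul_mem (A.mul_mem hxA htA) (A.inv_mem hxA), ?_, ?_, ?_⟩, ?_⟩
      · show x (t (x⁻¹ a)) = a
        rw [hxia, hta, hxa]
      · show (x * t * x⁻¹) ^ 2 = 1
        rw [conj_pow, ht2]; group
      · intro h
        apply ht1
        have h' : x * t * x⁻¹ = 1 := h
        rwa [conj_eq_one_iff] at h'
      · show x (t (x⁻¹ b)) = c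
        rw [hxib, htb, hxc]
    · rintro s ⟨⟨hsA, hsa, hs2, hs1⟩, hsb⟩
      have hsc : s c = b := by
        have : s (s b) = b := by
          have h2 : (s * s) b = b := by rw [← pow_two, hs2]; rfl
          exact h2
        rwa [hsb] at this
      by_cases hts : t = s
      · exact ⟨1, E.one_mem, by simp [hts]⟩
      have hodd' : Odd (orderOf (t * s)) := by
        -- `t * s` lies in the two point stabilizer
        have hm : t * s ∈ A ⊓ stabilizer (Perm F) a ⊓ stabilizer (Perm F) b := by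
          rw [mem_stab, mem_stab]
          refine ⟨⟨A.mul_mem htA hsA, ?_⟩, ?_⟩
          · show t (s a) = a
            rw [hsa, hta]
          · show t (s b) = b
            rw [hsb, htc]
        exact Odd.of_dvd_nat (H.hst a b hab) (Subgroup.orderOf_dvd_natCard _ hm)
      obtain ⟨w, hw, hw'⟩ := conj_of_odd t s ht2 hs2 hodd'
      have hts' : t * s ∈ E := by
        refine memE.mpr ⟨⟨⟨A.mul_mem htA hsA, ?_⟩, ?_⟩, ?_⟩
        · show t (s a) = a
          rw [hsa, hta]
        · show t (s b) = b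
          rw [hsb, htc]
        · show t (s c) = c
          rw [hsc, htb]
      have hwE : w ∈ E := (Subgroup.zpowers_le.mpr hts') hw
      refine ⟨w⁻¹, E.inv_mem hwE, ?_⟩
      simpa using hw'
    · intro x hx y hy
      show x * t * x⁻¹ = y * t * y⁻¹ ↔ _
      rw [hconjker]
      constructor
      · intro h
        exact memE'.mpr ⟨E.mul_mem (E.inv_mem hx) hy, h⟩
      · intro h
        exact (memE'.mp h).2
  -- (6) orbit of `b` under `C`
  set S2 : Set F := {z | ∃ x ∈ C, x b = z} with hS2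
  have hCE' : C ⊓ stabilizer (Perm F) b = E' := by
    ext x
    rw [mem_stab, memC, memE', memE, memX]
    constructor
    · rintro ⟨⟨⟨hxA, hxa⟩, hxt⟩, hxb⟩
      refine ⟨⟨⟨⟨hxA, hxa⟩, hxb⟩, ?_⟩, hxt⟩
      calc x c = x (t b) := by rw [htb]
        _ = (x * t) b := rfl
        _ = (t * x) b := by rw [hxt]
        _ = t (x b) := rfl
        _ = c := by rw [hxb, htb]
    · rintro ⟨⟨⟨⟨hxA, hxa⟩, hxb⟩, -⟩, hxt⟩
      exact ⟨⟨⟨hxA, hxa⟩, hxt⟩, hxb⟩
  have e5 : S2.ncard * Nat.card E' = Nat.card C := by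
    rw [← hCE']
    apply card_image_mul C (C ⊓ stabilizer (Perm F) b) inf_le_left (fun x => x b) S2
    · intro x hx; exact ⟨x, hx, rfl⟩
    · rintro s ⟨x, hx, rfl⟩; exact ⟨x, hx, rfl⟩
    · intro x hx y hy
      constructor
      · intro h
        refine mem_stab.mpr ⟨C.mul_mem (C.inv_mem hx) hy, ?_⟩
        have h' : x b = y b := h
        show x⁻¹ (y b) = b
        rw [← h']; simp
      · intro h
        have h'' : x⁻¹ (y b) = b := (mem_stab.mp h).2
        show x b = y b
        calc x b = x (x⁻¹ (y b)) := by rw [h'']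
          _ = y b := by simp
  -- (7) `|I| = (m - 1) * λ`
  have e6 : I.ncard = S3.ncard * (J c).ncard := by
    apply ncard_fibers I S3 (fun s => s b)
    · rintro s ⟨hsA, hsa, hs2, hs1⟩
      constructor
      · intro h; apply hab; apply s.injective; rw [hsa]; exact h.symm
      · intro h; exact hab (H.uniq hsA hs2 hs1 hsa h)
    · rintro c'' ⟨hca'', hcb''⟩
      obtain ⟨g', hg'B, hg'a, hg'b, hg'c⟩ := hB c'' c hca'' hcb'' hca hcb
      have hgia' : g'⁻¹ a = a := by rw [Perm.inv_eq_iff_eq]; exact hg'a.symm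
      have hgib' : g'⁻¹ b = b := by rw [Perm.inv_eq_iff_eq]; exact hg'b.symm
      have himg : J c = (fun s => g' * s * g'⁻¹) '' {s | s ∈ I ∧ s b = c''} := by
        ext s
        constructor
        · rintro ⟨⟨hsA, hsa, hs2, hs1⟩, hsb⟩
          refine ⟨g'⁻¹ * s * g', ⟨⟨?_, ?_, ?_, ?_⟩, ?_⟩, by group⟩
          · have := H.hAB g'⁻¹ (B.inv_mem hg'B) s hsA
            simpa using this
          · show g'⁻¹ (s (g' a)) = a
            rw [hg'a, hsa, hgia']
          · have : (g'⁻¹ * s * g') ^ 2 = g'⁻¹ * s ^ 2 * g' := by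
              have := conj_pow (a := g'⁻¹) (b := s) (i := 2)
              simpa using this
            rw [this, hs2]; group
          · intro h
            apply hs1
            have h' : g'⁻¹ * s * g'⁻¹⁻¹ = 1 := by simpa using h
            rwa [conj_eq_one_iff] at h'
          · show g'⁻¹ (s (g' b)) = c''
            rw [hg'b, hsb, ← hg'c]; simp
        · rintro ⟨s', ⟨⟨hsA, hsa, hs2, hs1⟩, hsb⟩, rfl⟩
          refine ⟨⟨H.hAB g' hg'B s' hsA, ?_, ?_, ?_⟩, ?_⟩
          · show g' (s' (g'⁻¹ a)) = a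
            rw [hgia', hsa, hg'a]
          · show (g' * s' * g'⁻¹) ^ 2 = 1
            rw [conj_pow, hs2]; group
          · intro h
            apply hs1
            have h' : g' * s' * g'⁻¹ = 1 := h
            rwa [conj_eq_one_iff] at h'
          · show g' (s' (g'⁻¹ b)) = c
            rw [hgib', hsb, hg'c]
      rw [himg, Set.ncard_image_of_injective _ (fun u v huv => by
        simpa using huv)]
  -- (8) arithmetic
  have hEpos : 0 < Nat.card E := Nat.card_pos
  have hE'pos : 0 < Nat.card E' := Nat.card_pos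
  have hlpos : 0 < (J c).ncard := by
    by_contra h
    have h0 : (J c).ncard = 0 := by omega
    rw [h0, zero_mul] at e4
    omega
  set m := S3.ncard with hm
  set e := O.ncard with he
  set w := S2.ncard with hw
  set l := (J c).ncard with hl
  have key : m * w = (m + 1) * e := by
    have h1 : (m + 1) * (e * (l * Nat.card E')) = (m * l) * (w * Nat.card E') := by
      have e1' : (m + 1) * Nat.card D = Nat.card X := by rw [hS3card]; exact e1
      rw [e4, e2, e1', e5, ← e6, e3]
    have h2 : (m * w) * (l * Nat.card E') = ((m + 1) * e) * (l * Nat.card E') := by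
      calc (m * w) * (l * Nat.card E') = (m * l) * (w * Nat.card E') := by ring
        _ = (m + 1) * (e * (l * Nat.card E')) := h1.symm
        _ = _ := by ring
    exact Nat.eq_of_mul_eq_mul_right (Nat.mul_pos hlpos hE'pos) h2
  have hdvd : m ∣ e := by
    have h1 : m ∣ (m + 1) * e := ⟨w, key.symm⟩
    exact (Nat.Coprime.dvd_of_dvd_mul_left (by simp) h1)
  have hOS3 : O ⊆ S3 := by
    rintro z ⟨x, hx, rfl⟩
    obtain ⟨⟨hxA, hxa⟩, hxb⟩ := memD.mp hx
    constructor
    · intro h; apply hca; apply x.injective; rw [hxa]; exact h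
    · intro h; apply hcb; apply x.injective; rw [hxb]; exact h
  have hcO : c ∈ O := ⟨1, D.one_mem, rfl⟩
  have hepos : 0 < e := by
    rw [he]; exact (Set.ncard_pos (Set.toFinite _)).mpr ⟨c, hcO⟩
  have hle : e ≤ m := Set.ncard_le_ncard hOS3 (Set.toFinite _)
  have hem : m ≤ e := Nat.le_of_dvd hepos hdvd
  have hOeq : O = S3 := Set.eq_of_subset_of_ncard_le hOS3 hem (Set.toFinite _)
  have hc'O : c' ∈ O := by rw [hOeq]; exact ⟨hca', hcb'⟩
  obtain ⟨x, hx, hxc⟩ := hc'O
  obtain ⟨⟨hxA, hxa⟩, hxb⟩ := memD.mp hx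
  exact ⟨x, hxA, hxa, hxb, hxc⟩

end LemmaW

section Core

open scoped Pointwise

variable {G : Type*} [Group G] [Finite G]

lemma sylow_conj (M T1 T2 : Subgroup G) (h1 : T1 ≤ M) (h2 : T2 ≤ M)
    (hT1 : IsPGroup 2 T1) (hcard : Nat.card T2 = Nat.card T1) (k : ℕ)
    (hk : Nat.card M = Nat.card T1 * k) (hko : Odd k) :
    ∃ y ∈ M, ∀ t ∈ T2, y * t * y⁻¹ ∈ T1 := by
  haveI : Fact (Nat.Prime 2) := ⟨Nat.prime_two⟩
  let P1 : Subgroup M := T1.subgroupOf M
  let P2 : Subgroup M := T2.subgroupOf M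
  have c1 : Nat.card P1 = Nat.card T1 := Nat.card_congr (Subgroup.subgroupOfEquivOfLe h1).toEquiv
  have c2 : Nat.card P2 = Nat.card T2 := Nat.card_congr (Subgroup.subgroupOfEquivOfLe h2).toEquiv
  have hp1 : IsPGroup 2 P1 := by
    obtain ⟨n, hn⟩ := IsPGroup.iff_card.mp hT1
    exact IsPGroup.iff_card.mpr ⟨n, by rw [c1, hn]⟩
  have hp2 : IsPGroup 2 P2 := by
    obtain ⟨n, hn⟩ := IsPGroup.iff_card.mp hT1
    exact IsPGroup.iff_card.mpr ⟨n, by rw [c2, hcard, hn]⟩
  have hpos : 0 < Nat.card T1 := Nat.card_pos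
  have i1 : P1.index = k := by
    have := Subgroup.card_mul_index P1
    rw [c1, hk] at this
    exact Nat.eq_of_mul_eq_mul_left hpos this
  have i2 : P2.index = k := by
    have := Subgroup.card_mul_index P2
    rw [c2, hcard, hk] at this
    exact Nat.eq_of_mul_eq_mul_left hpos this
  have hk2 : ¬ 2 ∣ k := by
    rw [← even_iff_two_dvd]; exact Nat.not_even_iff_odd.mpr hko
  let S1 : Sylow 2 M := hp1.toSylow (by rw [i1]; exact hk2)
  let S2 : Sylow 2 M := hp2.toSylow (by rw [i2]; exact hk2)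
  obtain ⟨y, hy⟩ := MulAction.exists_smul_eq M S2 S1
  refine ⟨y, y.2, fun t ht => ?_⟩
  have hmem : (⟨t, h2 ht⟩ : M) ∈ (S2 : Subgroup M) := by
    show (⟨t, h2 ht⟩ : M) ∈ P2
    rw [Subgroup.mem_subgroupOf]
    exact ht
  have h3 : MulAut.conj y • (⟨t, h2 ht⟩ : M) ∈ MulAut.conj y • (S2 : Subgroup M) :=
    Subgroup.smul_mem_pointwise_smul _ _ _ hmem
  rw [← Sylow.coe_subgroup_smul, hy] at h3
  have h4 : MulAut.conj y • (⟨t, h2 ht⟩ : M) ∈ P1 := h3
  rw [Subgroup.mem_subgroupOf] at h4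
  exact h4

lemma mem_normalizer_of_forall {T : Subgroup G} {g : G} (h : ∀ t ∈ T, g * t * g⁻¹ ∈ T) :
    g ∈ Subgroup.normalizer (T : Set G) := by
  rw [Subgroup.mem_normalizer_iff]
  intro u
  refine ⟨h u, fun hu => ?_⟩
  -- conjugation by `g` is a bijection of the finite group `T`
  have hle : T.map (MulAut.conj g).toMonoidHom ≤ T := by
    rintro _ ⟨t, ht, rfl⟩
    exact h t ht
  have hcard : Nat.card T ≤ Nat.card (T.map (MulAut.conj g).toMonoidHom) := by
    rw [Subgroup.card_map_of_injective (MulAut.conj g).injective]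
  have heq := Subgroup.eq_of_le_of_card_ge hle hcard
  rw [← heq] at hu
  obtain ⟨t, ht, hte⟩ := hu
  have : t = u := by
    have h5 : g * t * g⁻¹ = g * u * g⁻¹ := hte
    simpa using h5
  rwa [← this]

variable {α : Type*} [MulAction G α]

/-- The fixed points of `T`, as a set invariant under the normalizer of `T`. -/
def fixSub (T : Subgroup G) : SubMulAction ↥(Subgroup.normalizer (T : Set G)) α where
  carrier := {x | ∀ t ∈ T, t • x = x}
  smul_mem' := by
    intro h x hx t ht
    have hh : (h : G)⁻¹ ∈ Subgroup.normalizer (T : Set G) := Subgroup.inv_mem _ h.2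
    have h1 : (h : G)⁻¹ * t * ((h : G)⁻¹)⁻¹ ∈ T := (Subgroup.mem_normalizer_iff.mp hh t).mp ht
    have h2 := hx _ h1
    show t • ((h : G) • x) = (h : G) • x
    have h3 : t * (h : G) = (h : G) * ((h : G)⁻¹ * t * ((h : G)⁻¹)⁻¹) := by group
    rw [← mul_smul, h3, mul_smul, h2]

lemma card_conj_eq (N : Subgroup G) [hn : N.Normal] {a b c d : α} {g : G}
    (hga : g • a = c) (hgb : g • b = d) :
    Nat.card ↥(N ⊓ stabilizer G c ⊓ stabilizer G d) = Nat.card ↥(N ⊓ stabilizer G a ⊓ stabilizer G b) := by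
  have hmap : (N ⊓ stabilizer G a ⊓ stabilizer G b).map (MulAut.conj g).toMonoidHom =
      N ⊓ stabilizer G c ⊓ stabilizer G d := by
    ext y
    simp only [Subgroup.mem_map, Subgroup.mem_inf, MulAction.mem_stabilizer_iff]
    constructor
    · rintro ⟨z, ⟨⟨hz, hza⟩, hzb⟩, rfl⟩
      refine ⟨⟨hn.conj_mem z hz g, ?_⟩, ?_⟩
      · show (g * z * g⁻¹) • c = c
        rw [← hga, mul_smul, mul_smul, inv_smul_smul, hza]
      · show (g * z * g⁻¹) • d = d
        rw [← hgb, mul_smul, mul_smul, inv_smul_smul, hzb]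
    · rintro ⟨⟨hy, hyc⟩, hyd⟩
      refine ⟨g⁻¹ * y * g, ⟨⟨?_, ?_⟩, ?_⟩, ?_⟩
      · have := hn.conj_mem y hy g⁻¹
        simpa using this
      · rw [mul_smul, mul_smul, hga, hyc, ← hga, inv_smul_smul]
      · rw [mul_smul, mul_smul, hgb, hyd, ← hgb, inv_smul_smul]
      · show g * (g⁻¹ * y * g) * g⁻¹ = y
        group
  rw [← hmap, Subgroup.card_map_of_injective (MulAut.conj g).injective]

end Core

section Main

variable {G α : Type*} [Group G] [Finite G] [MulAction G α] [Fintype α] [DecidableEq α]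

open scoped Pointwise

theorem two_stab_trans
    (h3 : ∀ a b c a' b' c' : α, a ≠ b → a ≠ c → b ≠ c → a' ≠ b' → a' ≠ c' → b' ≠ c' →
      ∃ g : G, g • a = a' ∧ g • b = b' ∧ g • c = c')
    (N : Subgroup G) [hn : N.Normal]
    (n2 : ∀ a b c d : α, a ≠ b → c ≠ d → ∃ x ∈ N, x • a = c ∧ x • b = d)
    (hodd : Odd (Fintype.card α)) {a b u u' : α} (hab : a ≠ b)
    (hua : u ≠ a) (hub : u ≠ b) (hua' : u' ≠ a) (hub' : u' ≠ b) :
    ∃ x ∈ N, x • a = a ∧ x • b = b ∧ x • u = u' := by
  classical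
  haveI : Fact (Nat.Prime 2) := ⟨Nat.prime_two⟩
  set Nab : Subgroup G := N ⊓ stabilizer G a ⊓ stabilizer G b with hNab
  have memS : ∀ {c d : α} {x : G}, x ∈ N ⊓ stabilizer G c ⊓ stabilizer G d ↔ (x ∈ N ∧ x • c = c) ∧ x • d = d := by
    intro c d x
    simp only [Subgroup.mem_inf, MulAction.mem_stabilizer_iff]
  obtain ⟨S⟩ : Nonempty (Sylow 2 Nab) := inferInstance
  set T : Subgroup G := (S : Subgroup Nab).map Nab.subtype with hT
  have hTle : T ≤ Nab := by
    rintro _ ⟨t, _, rfl⟩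
    exact t.2
  have hTcard : Nat.card T = Nat.card (S : Subgroup Nab) :=
    Subgroup.card_map_of_injective Nab.subtype_injective
  have hTp : IsPGroup 2 T := by
    obtain ⟨n, hn'⟩ := IsPGroup.iff_card.mp S.isPGroup'
    exact IsPGroup.iff_card.mpr ⟨n, by rw [hTcard, hn']⟩
  set k0 := (S : Subgroup Nab).index with hk0
  have hk0odd : Odd k0 := by
    rw [← Nat.not_even_iff_odd, even_iff_two_dvd]
    exact S.not_dvd_index
  have hNabcard : Nat.card Nab = Nat.card T * k0 := by
    rw [hTcard, hk0, Subgroup.card_mul_index]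
  have hTpos : 0 < Nat.card T := Nat.card_pos
  -- all subgroups between `T` and `Nab` have odd index over `T`
  have hbetween : ∀ M : Subgroup G, T ≤ M → M ≤ Nab → ∃ k, Nat.card M = Nat.card T * k ∧ Odd k := by
    intro M h1 h2
    obtain ⟨k, hk⟩ := Subgroup.card_dvd_of_le h1
    obtain ⟨j, hj⟩ := Subgroup.card_dvd_of_le h2
    refine ⟨k, hk, ?_⟩
    have : k * j = k0 := by
      rw [hNabcard, hk, mul_assoc] at hj
      exact (Nat.eq_of_mul_eq_mul_left hTpos hj).symm
    rw [← this] at hk0odd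
    exact (Nat.odd_mul.mp hk0odd).1
  -- the fixed points of `T`
  set F : SubMulAction ↥(Subgroup.normalizer (T : Set G)) α := fixSub T with hF
  have memF : ∀ {x : α}, x ∈ F ↔ ∀ t ∈ T, t • x = x := Iff.rfl
  have haF : a ∈ F := fun t ht => (memS.mp (hTle ht)).1.2
  have hbF : b ∈ F := fun t ht => (memS.mp (hTle ht)).2
  -- pairs of points in `F` have stabilizers of the same order
  have hcd : ∀ c d : α, c ≠ d → Nat.card ↥(N ⊓ stabilizer G c ⊓ stabilizer G d) = Nat.card T * k0 := by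
    intro c d hcd
    obtain ⟨x0, -, hx0a, hx0b⟩ := n2 a b c d hab hcd
    rw [card_conj_eq N hx0a hx0b, hNabcard]
  have hTfix : ∀ c d : α, c ∈ F → d ∈ F → T ≤ N ⊓ stabilizer G c ⊓ stabilizer G d := by
    intro c d hc hd t ht
    refine memS.mpr ⟨⟨(memS.mp (hTle ht)).1.1, hc t ht⟩, hd t ht⟩
  haveI : Fintype F := Fintype.ofFinite _
  set ψ := MulAction.toPermHom ↥(Subgroup.normalizer (T : Set G)) F with hψ
  have hψapp : ∀ (h : ↥(Subgroup.normalizer (T : Set G))) (x : F), ((ψ h x : F) : α) = (h : G) • (x : α) := by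
    intro h x; rfl
  set A : Subgroup (Perm F) := (N.subgroupOf (Subgroup.normalizer (T : Set G))).map ψ with hA
  set B : Subgroup (Perm F) := ψ.range with hB
  have hTnorm : T ≤ Subgroup.normalizer (T : Set G) := Subgroup.le_normalizer
  -- `|F|` is odd
  have hFodd : Odd (Fintype.card F) := by
    have h1 := hTp.card_modEq_card_fixedPoints α
    have h2 : Nat.card (MulAction.fixedPoints T α) = Nat.card F := by
      refine Nat.card_congr (Equiv.subtypeEquivRight ?_)
      intro x
      constructor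
      · intro h t ht
        exact h ⟨t, ht⟩
      · intro h t
        exact h t t.2
    rw [h2, Nat.card_eq_fintype_card, Nat.card_eq_fintype_card] at h1
    rcases Nat.even_or_odd (Fintype.card F) with he | ho
    · exfalso
      have h3 : Fintype.card α % 2 = Fintype.card F % 2 := h1
      have h4 := Nat.even_iff.mp he
      have h5 := Nat.odd_iff.mp hodd
      omega
    · exact ho
  -- the Lemma W hypotheses
  have W : WHyp A B := by
    refine ⟨hFodd, ?_, ?_, ?_⟩
    · rintro g ⟨h, rfl⟩ _ ⟨k, hk, rfl⟩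
      refine ⟨h * k * h⁻¹, ?_, by simp⟩
      exact Subgroup.mem_subgroupOf.mpr (hn.conj_mem _ (Subgroup.mem_subgroupOf.mp hk) _)
    · intro a' b' c' d' hab' hcd'
      have hab'' : (a' : α) ≠ b' := fun h => hab' (Subtype.ext h)
      have hcd'' : (c' : α) ≠ d' := fun h => hcd' (Subtype.ext h)
      obtain ⟨x, hxN, hxa, hxb⟩ := n2 _ _ _ _ hab'' hcd''
      set M := N ⊓ stabilizer G (c' : α) ⊓ stabilizer G (d' : α) with hM
      have hT1 : T ≤ M := hTfix _ _ c'.2 d'.2
      have hT2 : T.map (MulAut.conj x).toMonoidHom ≤ M := by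
        rintro _ ⟨t, ht, rfl⟩
        refine memS.mpr ⟨⟨hn.conj_mem t (memS.mp (hTle ht)).1.1 x, ?_⟩, ?_⟩
        · show (x * t * x⁻¹) • (c' : α) = c'
          rw [← hxa, mul_smul, mul_smul, inv_smul_smul, a'.2 t ht]
        · show (x * t * x⁻¹) • (d' : α) = d'
          rw [← hxb, mul_smul, mul_smul, inv_smul_smul, b'.2 t ht]
      obtain ⟨y, hyM, hy⟩ := sylow_conj M T _ hT1 hT2 hTp
        (Subgroup.card_map_of_injective (MulAut.conj x).injective) k0 (hcd _ _ hcd'') hk0odd
      have hyx : y * x ∈ Subgroup.normalizer (T : Set G) := by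
        apply mem_normalizer_of_forall
        intro t ht
        have := hy (x * t * x⁻¹) ⟨t, ht, rfl⟩
        have e : y * x * t * (y * x)⁻¹ = y * (x * t * x⁻¹) * y⁻¹ := by group
        rwa [e]
      have hyN := (memS.mp hyM).1.1
      refine ⟨ψ ⟨y * x, hyx⟩, ⟨⟨y * x, hyx⟩, ?_, rfl⟩, ?_, ?_⟩
      · exact Subgroup.mem_subgroupOf.mpr (N.mul_mem hyN hxN)
      · apply Subtype.ext
        rw [hψapp]
        show (y * x) • (a' : α) = c'
        rw [mul_smul, hxa]
        exact (memS.mp hyM).1.2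
      · apply Subtype.ext
        rw [hψapp]
        show (y * x) • (b' : α) = d'
        rw [mul_smul, hxb]
        exact (memS.mp hyM).2
    · intro a' b' hab'
      have hab'' : (a' : α) ≠ b' := fun h => hab' (Subtype.ext h)
      set W' : Subgroup (Perm F) := A ⊓ stabilizer (Perm F) a' ⊓ stabilizer (Perm F) b' with hW'
      set M := N ⊓ stabilizer G (a' : α) ⊓ stabilizer G (b' : α) with hM
      set L : Subgroup ↥(Subgroup.normalizer (T : Set G)) := M.subgroupOf _ with hL
      set C : Subgroup ↥(Subgroup.normalizer (T : Set G)) := L ⊓ ψ.ker with hC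
      have e1 : (W' : Set (Perm F)).ncard * Nat.card C = Nat.card L := by
        apply card_image_mul L C inf_le_left ψ (W' : Set (Perm F))
        · intro x hx
          have hx' := (memS.mp (Subgroup.mem_subgroupOf.mp hx))
          refine mem_stab.mpr ⟨mem_stab.mpr ⟨⟨x, Subgroup.mem_subgroupOf.mpr hx'.1.1, rfl⟩, ?_⟩, ?_⟩
          · apply Subtype.ext
            rw [hψapp]; exact hx'.1.2
          · apply Subtype.ext
            rw [hψapp]; exact hx'.2
        · intro s hs
          have hs' := mem_stab.mp hs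
          have hs'' := mem_stab.mp hs'.1
          obtain ⟨x, hx, rfl⟩ := hs''.1
          refine ⟨x, ?_, rfl⟩
          refine Subgroup.mem_subgroupOf.mpr (memS.mpr ⟨⟨Subgroup.mem_subgroupOf.mp hx, ?_⟩, ?_⟩)
          · have := congrArg (Subtype.val) hs''.2
            rwa [hψapp] at this
          · have := congrArg (Subtype.val) hs'.2
            rwa [hψapp] at this
        · intro x hx y hy
          constructor
          · intro h
            refine ⟨L.mul_mem (L.inv_mem hx) hy, MonoidHom.mem_ker.mpr ?_⟩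
            rw [map_mul, map_inv, ← h]
            simp
          · intro h
            have h2 := MonoidHom.mem_ker.mp h.2
            rw [map_mul, map_inv] at h2
            exact (inv_mul_eq_one.mp h2)
      -- `T` sits in `C`
      have hTC : T.subgroupOf (Subgroup.normalizer (T : Set G)) ≤ C := by
        intro t ht
        have ht' : (t : G) ∈ T := Subgroup.mem_subgroupOf.mp ht
        refine ⟨Subgroup.mem_subgroupOf.mpr (hTfix _ _ a'.2 b'.2 ht'), MonoidHom.mem_ker.mpr ?_⟩
        apply Equiv.ext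
        intro x
        apply Subtype.ext
        rw [hψapp]
        exact x.2 _ ht'
      have hTHcard : Nat.card (T.subgroupOf (Subgroup.normalizer (T : Set G))) = Nat.card T :=
        Nat.card_congr (Subgroup.subgroupOfEquivOfLe hTnorm).toEquiv
      obtain ⟨r, hr⟩ := Subgroup.card_dvd_of_le hTC
      rw [hTHcard] at hr
      have hLM : Nat.card L ∣ Nat.card M := by
        have h1 : L.map (Subgroup.normalizer (T : Set G)).subtype ≤ M := by
          rintro _ ⟨x, hx, rfl⟩
          exact Subgroup.mem_subgroupOf.mp hx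
        have := Subgroup.card_dvd_of_le h1
        rwa [Subgroup.card_map_of_injective (Subgroup.subtype_injective _)] at this
      rw [← e1, hcd _ _ hab'', hr] at hLM
      have h5 : (W' : Set (Perm F)).ncard * r ∣ k0 := by
        have : Nat.card T * ((W' : Set (Perm F)).ncard * r) ∣ Nat.card T * k0 := by
          convert hLM using 1
          ring
        exact Nat.dvd_of_mul_dvd_mul_left hTpos this
      have h6 : (W' : Set (Perm F)).ncard ∣ k0 := dvd_of_mul_right_dvd h5
      have h7 : Nat.card W' = (W' : Set (Perm F)).ncard := Nat.card_coe_set_eq _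
      rw [h7]
      exact Odd.of_dvd_nat hk0odd h6
  -- an extra point of `F`
  have hc0 : ∃ c0 : F, (c0 : α) ≠ a ∧ (c0 : α) ≠ b := by
    by_contra hcon
    have hall : ∀ c : F, (c : α) = a ∨ (c : α) = b := by
      intro c
      by_contra h
      apply hcon
      refine ⟨c, ?_, ?_⟩
      · intro h'; exact h (Or.inl h')
      · intro h'; exact h (Or.inr h')
    have : Fintype.card F = 2 := by
      have e : (Set.univ : Set F) = {⟨a, haF⟩, ⟨b, hbF⟩} := by
        ext c
        simp only [Set.mem_univ, Set.mem_insert_iff, Set.mem_singleton_iff, true_iff]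
        rcases hall c with h | h
        · left; exact Subtype.ext h
        · right; exact Subtype.ext h
      have h2 : (Set.univ : Set F).ncard = 2 := by
        rw [e]
        exact Set.ncard_pair (fun h => hab (congrArg Subtype.val h))
      rw [Set.ncard_univ, Nat.card_eq_fintype_card] at h2
      exact h2
    rw [this] at hFodd
    exact absurd hFodd (by decide)
  obtain ⟨c0, hc0a, hc0b⟩ := hc0
  -- transitivity of `B_{ab}` on `F \ {a, b}`
  have hBtrans : ∀ c c' : F, c ≠ ⟨a, haF⟩ → c ≠ ⟨b, hbF⟩ → c' ≠ ⟨a, haF⟩ → c' ≠ ⟨b, hbF⟩ →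
      ∃ g ∈ B, g ⟨a, haF⟩ = ⟨a, haF⟩ ∧ g ⟨b, hbF⟩ = ⟨b, hbF⟩ ∧ g c = c' := by
    intro c c' hca hcb hca' hcb'
    have hca1 : (c : α) ≠ a := fun h => hca (Subtype.ext h)
    have hcb1 : (c : α) ≠ b := fun h => hcb (Subtype.ext h)
    have hca2 : (c' : α) ≠ a := fun h => hca' (Subtype.ext h)
    have hcb2 : (c' : α) ≠ b := fun h => hcb' (Subtype.ext h)
    obtain ⟨g, hga, hgb, hgc⟩ := h3 a b c a b c' hab hca1.symm hcb1.symm hab hca2.symm hcb2.symm
    set M := N ⊓ stabilizer G a ⊓ stabilizer G b ⊓ stabilizer G (c' : α) with hM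
    have hMmem : ∀ {x : G}, x ∈ M ↔ ((x ∈ N ∧ x • a = a) ∧ x • b = b) ∧ x • (c' : α) = c' := by
      intro x
      simp only [hM, Subgroup.mem_inf, MulAction.mem_stabilizer_iff]
    have hMle : M ≤ Nab := inf_le_left
    have hT1 : T ≤ M := by
      intro t ht
      exact hMmem.mpr ⟨memS.mp (hTle ht), c'.2 t ht⟩
    have hT2 : T.map (MulAut.conj g).toMonoidHom ≤ M := by
      rintro _ ⟨t, ht, rfl⟩
      obtain ⟨⟨htN, hta⟩, htb⟩ := memS.mp (hTle ht)
      refine hMmem.mpr ⟨⟨⟨hn.conj_mem t htN g, ?_⟩, ?_⟩, ?_⟩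
      · show (g * t * g⁻¹) • a = a
        nth_rewrite 1 [← hga]
        rw [mul_smul, mul_smul, inv_smul_smul, hta, hga]
      · show (g * t * g⁻¹) • b = b
        nth_rewrite 1 [← hgb]
        rw [mul_smul, mul_smul, inv_smul_smul, htb, hgb]
      · show (g * t * g⁻¹) • (c' : α) = c'
        rw [← hgc, mul_smul, mul_smul, inv_smul_smul, c.2 t ht]
    obtain ⟨k, hk, hko⟩ := hbetween M hT1 hMle
    obtain ⟨y, hyM, hy⟩ := sylow_conj M T _ hT1 hT2 hTp
      (Subgroup.card_map_of_injective (MulAut.conj g).injective) k hk hko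
    have hyg : y * g ∈ Subgroup.normalizer (T : Set G) := by
      apply mem_normalizer_of_forall
      intro t ht
      have := hy (g * t * g⁻¹) ⟨t, ht, rfl⟩
      have e : y * g * t * (y * g)⁻¹ = y * (g * t * g⁻¹) * y⁻¹ := by group
      rwa [e]
    obtain ⟨⟨⟨-, hya⟩, hyb⟩, hyc⟩ := hMmem.mp hyM
    refine ⟨ψ ⟨y * g, hyg⟩, ⟨_, rfl⟩, ?_, ?_, ?_⟩
    · apply Subtype.ext
      rw [hψapp]
      show (y * g) • a = a
      rw [mul_smul, hga, hya]
    · apply Subtype.ext
      rw [hψapp]
      show (y * g) • b = b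
      rw [mul_smul, hgb, hyb]
    · apply Subtype.ext
      rw [hψapp]
      show (y * g) • (c : α) = c'
      rw [mul_smul, hgc, hyc]
  -- move arbitrary points into `F`
  have hmove : ∀ v : α, v ≠ a → v ≠ b → ∃ y ∈ Nab, y • v ∈ F := by
    intro v hva hvb
    obtain ⟨g, hga, hgb, hgc⟩ := h3 a b c0 a b v hab hc0a.symm hc0b.symm hab hva.symm hvb.symm
    have hT2 : T.map (MulAut.conj g).toMonoidHom ≤ Nab := by
      rintro _ ⟨t, ht, rfl⟩
      obtain ⟨⟨htN, hta⟩, htb⟩ := memS.mp (hTle ht)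
      refine memS.mpr ⟨⟨hn.conj_mem t htN g, ?_⟩, ?_⟩
      · show (g * t * g⁻¹) • a = a
        nth_rewrite 1 [← hga]
        rw [mul_smul, mul_smul, inv_smul_smul, hta, hga]
      · show (g * t * g⁻¹) • b = b
        nth_rewrite 1 [← hgb]
        rw [mul_smul, mul_smul, inv_smul_smul, htb, hgb]
    have hp2 : IsPGroup 2 (T.map (MulAut.conj g).toMonoidHom) := by
      obtain ⟨n, hn'⟩ := IsPGroup.iff_card.mp hTp
      exact IsPGroup.iff_card.mpr ⟨n, by
        rw [Subgroup.card_map_of_injective (MulAut.conj g).injective, hn']⟩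
    have hcc : Nat.card (T.map (MulAut.conj g).toMonoidHom) = Nat.card T :=
      Subgroup.card_map_of_injective (MulAut.conj g).injective
    obtain ⟨y, hyM, hy⟩ := sylow_conj Nab (T.map (MulAut.conj g).toMonoidHom) T hT2 hTle hp2 hcc.symm
      k0 (by rw [hcc, hNabcard]) hk0odd
    refine ⟨y⁻¹, Nab.inv_mem hyM, ?_⟩
    intro t ht
    obtain ⟨t', ht', hte⟩ := hy t ht
    have h1 : (y * t * y⁻¹) • v = v := by
      rw [← hte]
      show (g * t' * g⁻¹) • v = v
      rw [← hgc, mul_smul, mul_smul, inv_smul_smul, c0.2 t' ht']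
    have h2 : t • (y⁻¹ • v) = y⁻¹ • v := by
      have : t • (y⁻¹ • v) = y⁻¹ • ((y * t * y⁻¹) • v) := by
        rw [← mul_smul, ← mul_smul]
        congr 1
        group
      rw [this, h1]
    exact h2
  -- conclusion
  obtain ⟨y1, hy1, hy1F⟩ := hmove u hua hub
  obtain ⟨y2, hy2, hy2F⟩ := hmove u' hua' hub'
  obtain ⟨⟨hy1N, hy1a⟩, hy1b⟩ := memS.mp hy1
  obtain ⟨⟨hy2N, hy2a⟩, hy2b⟩ := memS.mp hy2
  have hne : ∀ {y : G} {v : α}, y • a = a → y • b = b → v ≠ a → v ≠ b → y • v ≠ a ∧ y • v ≠ b := by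
    intro y v hya hyb hva hvb
    constructor
    · intro h; apply hva; apply MulAction.injective y; show y • v = y • a; rw [h, hya]
    · intro h; apply hvb; apply MulAction.injective y; show y • v = y • b; rw [h, hyb]
  have h1 := hne hy1a hy1b hua hub
  have h2 := hne hy2a hy2b hua' hub'
  obtain ⟨x, hx, hxa, hxb, hxc⟩ := W.main (a := (⟨a, haF⟩ : F)) (b := ⟨b, hbF⟩)
    (fun h => hab (congrArg Subtype.val h)) hBtrans (c := ⟨y1 • u, hy1F⟩) (c' := ⟨y2 • u', hy2F⟩)
    (fun h => h1.1 (congrArg Subtype.val h)) (fun h => h1.2 (congrArg Subtype.val h))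
    (fun h => h2.1 (congrArg Subtype.val h)) (fun h => h2.2 (congrArg Subtype.val h))
  obtain ⟨k, hk, rfl⟩ := hx
  have hkN : (k : G) ∈ N := Subgroup.mem_subgroupOf.mp hk
  have hka : (k : G) • a = a := by
    have := congrArg Subtype.val hxa
    rwa [hψapp] at this
  have hkb : (k : G) • b = b := by
    have := congrArg Subtype.val hxb
    rwa [hψapp] at this
  have hkc : (k : G) • (y1 • u) = y2 • u' := by
    have := congrArg Subtype.val hxc
    rwa [hψapp] at this
  refine ⟨y2⁻¹ * (k : G) * y1, N.mul_mem (N.mul_mem (N.inv_mem hy2N) hkN) hy1N, ?_, ?_, ?_⟩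
  · rw [mul_smul, mul_smul, hy1a, hka]
    nth_rewrite 1 [← hy2a]
    rw [inv_smul_smul]
  · rw [mul_smul, mul_smul, hy1b, hkb]
    nth_rewrite 1 [← hy2b]
    rw [inv_smul_smul]
  · rw [mul_smul, mul_smul, hkc, inv_smul_smul]

theorem core
    (h3 : ∀ a b c a' b' c' : α, a ≠ b → a ≠ c → b ≠ c → a' ≠ b' → a' ≠ c' → b' ≠ c' →
      ∃ g : G, g • a = a' ∧ g • b = b' ∧ g • c = c')
    (N : Subgroup G) [hn : N.Normal] (hN : N ≠ ⊥)
    (hfaith : ∀ g : G, (∀ x : α, g • x = x) → g = 1)
    (hodd : Odd (Fintype.card α)) (h5 : 5 ≤ Fintype.card α) :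
    ∀ a b c a' b' c' : α, a ≠ b → a ≠ c → b ≠ c → a' ≠ b' → a' ≠ c' → b' ≠ c' →
      ∃ x ∈ N, x • a = a' ∧ x • b = b' ∧ x • c = c' := by
  classical
  have hex : ∀ s : Finset α, s.card < Fintype.card α → ∃ c, c ∉ s := by
    intro s hs
    by_contra h
    have h' : ∀ c, c ∈ s := by
      intro c; by_contra hc; exact h ⟨c, hc⟩
    have : s = Finset.univ := Finset.eq_univ_of_forall h'
    rw [this, Finset.card_univ] at hs
    exact lt_irrefl _ hs
  have hex2 : ∀ a b : α, ∃ c, c ≠ a ∧ c ≠ b := by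
    intro a b
    obtain ⟨c, hc⟩ := hex {a, b} (lt_of_le_of_lt (Finset.card_le_two) (by omega))
    simp only [Finset.mem_insert, Finset.mem_singleton, not_or] at hc
    exact ⟨c, hc.1, hc.2⟩
  have h2 : ∀ a b a' b' : α, a ≠ b → a' ≠ b' → ∃ g : G, g • a = a' ∧ g • b = b' := by
    intro a b a' b' hab hab'
    obtain ⟨c, hc1, hc2⟩ := hex2 a b
    obtain ⟨c', hc1', hc2'⟩ := hex2 a' b'
    obtain ⟨g, h1, h2, -⟩ := h3 a b c a' b' c' hab hc1.symm hc2.symm hab' hc1'.symm hc2'.symm
    exact ⟨g, h1, h2⟩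
  obtain ⟨y', hy'⟩ := (Subgroup.ne_bot_iff_exists_ne_one).mp hN
  set y : G := (y' : G) with hy
  have hyN : y ∈ N := y'.2
  have hy1 : y ≠ 1 := fun h => hy' (Subtype.ext h)
  obtain ⟨u0, hu0⟩ : ∃ u, y • u ≠ u := by
    by_contra h
    apply hy1
    apply hfaith
    intro x
    by_contra hx
    exact h ⟨x, hx⟩
  have trans : ∀ a b : α, ∃ x ∈ N, x • a = b := by
    intro a b
    by_cases hab : a = b
    · exact ⟨1, N.one_mem, by simp [hab]⟩
    obtain ⟨g, hg1, hg2⟩ := h2 u0 (y • u0) a b hu0.symm hab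
    refine ⟨g * y * g⁻¹, hn.conj_mem y hyN g, ?_⟩
    rw [← hg1, mul_smul, mul_smul, inv_smul_smul, hg2]
  have hstab : ∀ a : α, ∃ z ∈ N, z • a = a ∧ z ≠ 1 := by
    intro a
    by_contra hcon
    have hreg : ∀ z ∈ N, z • a = a → z = 1 := by
      intro z hz hza
      by_contra hz1
      exact hcon ⟨z, hz, hza, hz1⟩
    have hbij : Function.Bijective (fun x : N => (x : G) • a) := by
      constructor
      · intro x x' hxx
        have h1 : ((x' : G)⁻¹ * (x : G)) • a = a := by
          rw [mul_smul]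
          have : (x : G) • a = (x' : G) • a := hxx
          rw [this, inv_smul_smul]
        have h4 := hreg _ (N.mul_mem (N.inv_mem x'.2) x.2) h1
        apply Subtype.ext
        exact (inv_mul_eq_one.mp h4).symm
      · intro b
        obtain ⟨x, hx, hxb⟩ := trans a b
        exact ⟨⟨x, hx⟩, hxb⟩
    have hcard : Nat.card N = Fintype.card α := by
      rw [Nat.card_congr (Equiv.ofBijective _ hbij), Nat.card_eq_fintype_card]
    have hy2 : y ^ 2 ≠ 1 := by
      intro h
      have ho : orderOf y ∣ 2 := orderOf_dvd_of_pow_eq_one h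
      have ho2 : orderOf y = 1 ∨ orderOf y = 2 := (Nat.dvd_prime Nat.prime_two).mp ho
      rcases ho2 with h1 | h1
      · exact hy1 (orderOf_eq_one_iff.mp h1)
      · have h4 : orderOf y ∣ Nat.card N := Subgroup.orderOf_dvd_natCard N hyN
        rw [h1, hcard] at h4
        exact (Nat.not_even_iff_odd.mpr hodd) (even_iff_two_dvd.mpr h4)
    set b := y • a with hb
    set c := y⁻¹ • a with hc
    have hba : b ≠ a := fun h => hy1 (hreg y hyN h)
    have hca : c ≠ a := by
      intro h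
      apply hy1
      have : y⁻¹ = 1 := hreg _ (N.inv_mem hyN) h
      simpa using this
    have hbc : b ≠ c := by
      intro h
      apply hy2
      apply hreg _ (N.pow_mem hyN 2)
      rw [pow_two, mul_smul]
      rw [← hb, h, hc, smul_inv_smul]
    obtain ⟨d, hd⟩ := hex {a, b, c} (lt_of_le_of_lt Finset.card_le_three (by omega))
    simp only [Finset.mem_insert, Finset.mem_singleton, not_or] at hd
    obtain ⟨g, hga, hgb, hgc⟩ := h3 a b c a b d hba.symm hca.symm hbc hba.symm (Ne.symm hd.1) (Ne.symm hd.2.1)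
    have hxe : g * y * g⁻¹ = y := by
      have h1 : (y⁻¹ * (g * y * g⁻¹)) • a = a := by
        have : g⁻¹ • a = a := by
          nth_rewrite 1 [← hga]
          rw [inv_smul_smul]
        rw [mul_smul, mul_smul, mul_smul, this, ← hb, hgb, hb, inv_smul_smul]
      have h4 := hreg _ (N.mul_mem (N.inv_mem hyN) (hn.conj_mem y hyN g)) h1
      exact (inv_mul_eq_one.mp h4).symm
    have hgc2 : g • c = c := by
      have e : g * y⁻¹ = y⁻¹ * g := by
        have : y * g = g * y := (mul_inv_eq_iff_eq_mul.mp hxe).symm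
        calc g * y⁻¹ = y⁻¹ * (y * g) * y⁻¹ := by group
          _ = y⁻¹ * (g * y) * y⁻¹ := by rw [this]
          _ = y⁻¹ * g := by group
      rw [hc, ← mul_smul, e, mul_smul, hga]
    exact hd.2.2 (by rw [← hgc, hgc2])
  have na : ∀ a b e : α, b ≠ a → e ≠ a → ∃ z ∈ N, z • a = a ∧ z • b = e := by
    intro a b e hb he
    by_cases hbe : b = e
    · exact ⟨1, N.one_mem, by simp, by simp [hbe]⟩
    obtain ⟨z0, hz0, hz0a, hz01⟩ := hstab a
    obtain ⟨v, hv⟩ := not_forall.mp (fun hall => hz01 (hfaith z0 hall))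
    have hva : v ≠ a := by
      intro h; rw [h] at hv; exact hv hz0a
    have hwa : z0 • v ≠ a := by
      intro h
      apply hva
      apply MulAction.injective z0
      show z0 • v = z0 • a
      rw [h, hz0a]
    obtain ⟨g, hga, hgb, hgc⟩ := h3 a v (z0 • v) a b e hva.symm hwa.symm (Ne.symm hv) hb.symm he.symm hbe
    refine ⟨g * z0 * g⁻¹, hn.conj_mem z0 hz0 g, ?_, ?_⟩
    · rw [mul_smul, mul_smul]
      have : g⁻¹ • a = a := by
        nth_rewrite 1 [← hga]
        rw [inv_smul_smul]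
      rw [this, hz0a, hga]
    · rw [← hgb, mul_smul, mul_smul, inv_smul_smul, hgc]
  have n2 : ∀ a b c d : α, a ≠ b → c ≠ d → ∃ x ∈ N, x • a = c ∧ x • b = d := by
    intro a b c d hab hcd
    obtain ⟨x, hx, hxa⟩ := trans a c
    have hf : x • b ≠ c := by
      intro h
      apply hab
      apply MulAction.injective x
      show x • a = x • b
      rw [h, hxa]
    obtain ⟨z, hz, hzc, hzd⟩ := na c (x • b) d hf hcd.symm
    exact ⟨z * x, N.mul_mem hz hx, by rw [mul_smul, hxa, hzc], by rw [mul_smul, hzd]⟩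
  intro a b c a' b' c' hab hac hbc hab' hac' hbc'
  obtain ⟨x, hx, hxa, hxb⟩ := n2 a b a' b' hab hab'
  have he1 : x • c ≠ a' := by
    intro h
    apply hac
    apply MulAction.injective x
    show x • a = x • c
    rw [h, hxa]
  have he2 : x • c ≠ b' := by
    intro h
    apply hbc
    apply MulAction.injective x
    show x • b = x • c
    rw [h, hxb]
  obtain ⟨z, hz, hza, hzb, hzc⟩ := two_stab_trans h3 N n2 hodd hab' he1 he2 hac'.symm hbc'.symm
  exact ⟨z * x, N.mul_mem hz hx, by rw [mul_smul, hxa, hza], by rw [mul_smul, hxb, hzb],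
    by rw [mul_smul, hzc]⟩

end Main

/-- Embedding of three distinct points. -/
def emb3 {α : Type*} (a b c : α) (hab : a ≠ b) (hac : a ≠ c) (hbc : b ≠ c) : Fin 3 ↪ α :=
  ⟨![a, b, c], by
    intro i j h
    fin_cases i <;> fin_cases j <;> simp_all⟩

/-- Wagner's Theorem: a non-trivial normal subgroup of a triply transitive permutation group of odd degree at least 5 is triply transitive. -/
theorem result {α : Type*} [Fintype α] [DecidableEq α] (G : Subgroup (Equiv.Perm α)) (hodd : Odd (Fintype.card α)) (h5 : 5 ≤ Fintype.card α) (hG : MulAction.IsMultiplyPretransitive G α 3) (N : Subgroup G) [N.Normal] (hN : N ≠ ⊥) : MulAction.IsMultiplyPretransitive N α 3 := by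
  haveI := hG
  have h3 : ∀ a b c a' b' c' : α, a ≠ b → a ≠ c → b ≠ c → a' ≠ b' → a' ≠ c' → b' ≠ c' →
      ∃ g : G, g • a = a' ∧ g • b = b' ∧ g • c = c' := by
    intro a b c a' b' c' hab hac hbc hab' hac' hbc'
    obtain ⟨g, hg⟩ := MulAction.exists_smul_eq G (emb3 a b c hab hac hbc) (emb3 a' b' c' hab' hac' hbc')
    refine ⟨g, ?_, ?_, ?_⟩
    · exact DFunLike.congr_fun hg 0
    · exact DFunLike.congr_fun hg 1
    · exact DFunLike.congr_fun hg 2
  have hfaith : ∀ g : G, (∀ x : α, g • x = x) → g = 1 := by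
    intro g hg
    apply Subtype.ext
    ext x
    exact hg x
  have hc := core h3 N hN hfaith hodd h5
  refine MulAction.isMultiplyPretransitive_iff.mpr ?_
  intro x y
  have hx : ∀ {i j : Fin 3}, i ≠ j → x i ≠ x j := fun h h' => h (x.injective h')
  have hy : ∀ {i j : Fin 3}, i ≠ j → y i ≠ y j := fun h h' => h (y.injective h')
  obtain ⟨g, hg, h0, h1, h2⟩ := hc (x 0) (x 1) (x 2) (y 0) (y 1) (y 2) (hx (by decide)) (hx (by decide))
    (hx (by decide)) (hy (by decide)) (hy (by decide)) (hy (by decide))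
  refine ⟨⟨g, hg⟩, ?_⟩
  ext i
  fin_cases i
  · exact h0
  · exact h1
  · exact h2

end Cfsg.Agent.S0699
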