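import Cfsg.Statements.S0860
import Mathlib
import Cfsg.Agent.Lib.Char.CompleteCor

set_option autoImplicit false
open Cfsg

namespace Cfsg.Agent.S0860

open Cfsg.Agent.Lib.Char.CompleteCor Cfsg.Agent.Lib.Char.OrthoBasic in

/-- Let a group A act on the set of irreducible characters and on the set of conjugacy classes of a finite group G in such a way that (a • χ) evaluated on the class a • C equals χ evaluated on C, for all a, χ and C. Then every element of A fixes exactly as many irreducible characters as it fixes conjugacy classes. -/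
theorem result {G : Type*} [Group G] [Finite G] {A : Type*} [Group A] [MulAction A (Cfsg.IrrCharacter G)] [MulAction A (ConjClasses G)] (hcompat : ∀ (a : A) (χ : Cfsg.IrrCharacter G) (g g' : G), ConjClasses.mk g' = a • ConjClasses.mk g → ((a • χ : Cfsg.IrrCharacter G) : G → ℂ) g' = (χ : G → ℂ) g) (a : A) : Nat.card {χ : Cfsg.IrrCharacter G // a • χ = χ} = Nat.card {C : ConjClasses G // a • C = C} := by
  classical
  haveI := Fintype.ofFinite G
  haveI := Fintype.ofFinite (Cfsg.IrrCharacter G)
  haveI := Fintype.ofFinite (ConjClasses G)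
  let rep : ConjClasses G → G := fun C => C.exists_rep.choose
  have hrep : ∀ C : ConjClasses G, ConjClasses.mk (rep C) = C := fun C => C.exists_rep.choose_spec
  let x : G → G := fun g => rep (a⁻¹ • ConjClasses.mk g)
  have hx : ∀ g, ConjClasses.mk g = a • ConjClasses.mk (x g) := by
    intro g
    simp only [x, hrep, smul_inv_smul]
  have hval : ∀ (χ : Cfsg.IrrCharacter G) (g : G),
      ((a • χ : Cfsg.IrrCharacter G) : G → ℂ) g = (χ : G → ℂ) (x g) :=
    fun χ g => hcompat a χ (x g) g (hx g)
  have hne : (Nat.card G : ℂ) ≠ 0 := Nat.cast_ne_zero.mpr Nat.card_pos.ne'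
  -- the left hand side
  have hL : (Nat.card {χ : Cfsg.IrrCharacter G // a • χ = χ} : ℂ) =
      ∑ χ : Cfsg.IrrCharacter G, Cfsg.classInner ((a • χ : Cfsg.IrrCharacter G) : G → ℂ) (χ : G → ℂ) := by
    have h1 : ∀ χ : Cfsg.IrrCharacter G,
        Cfsg.classInner ((a • χ : Cfsg.IrrCharacter G) : G → ℂ) (χ : G → ℂ) =
          if a • χ = χ then 1 else 0 := by
      intro χ
      rw [classInner_irr_irr (a • χ).2 χ.2]
      simp only [Subtype.coe_inj]
    simp_rw [h1]
    rw [Nat.card_eq_fintype_card, Fintype.card_subtype, Finset.sum_boole]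
  -- inner sum
  have hcount : ∀ g : G, ∑ χ : Cfsg.IrrCharacter G,
      ((a • χ : Cfsg.IrrCharacter G) : G → ℂ) g * (starRingEnd ℂ) ((χ : G → ℂ) g)
      = ∑ k : G, if k * x g * k⁻¹ = g then (1 : ℂ) else 0 := by
    intro g
    simp_rw [hval]
    rw [← conjCount_eq_sum]
    simp [conjCount]
  have hfix : ∀ k : G, ∑ g : G, (if k * x g * k⁻¹ = g then (1 : ℂ) else 0)
      = (Nat.card {C : ConjClasses G // a • C = C} : ℂ) := by
    intro k
    rw [Finset.sum_boole]
    congr 1
    rw [Nat.card_eq_fintype_card, ← Fintype.card_subtype]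
    refine Fintype.card_congr
      { toFun := fun g => ⟨ConjClasses.mk g.1, ?_⟩
        invFun := fun C => ⟨k * rep C.1 * k⁻¹, ?_⟩
        left_inv := ?_
        right_inv := ?_ }
    · have h1 := hx g.1
      have h2 : ConjClasses.mk (x g.1) = ConjClasses.mk g.1 := by
        rw [ConjClasses.mk_eq_mk_iff_isConj]
        exact isConj_iff.2 ⟨k, g.2⟩
      rw [h2] at h1
      exact h1.symm
    · have h2 : ConjClasses.mk (k * rep C.1 * k⁻¹) = C.1 := by
        have h3 : ConjClasses.mk (k * rep C.1 * k⁻¹) = ConjClasses.mk (rep C.1) := by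
          rw [ConjClasses.mk_eq_mk_iff_isConj]
          exact (isConj_iff.2 ⟨k, rfl⟩).symm
        rw [h3, hrep]
      have h4 : a⁻¹ • C.1 = C.1 := inv_smul_eq_iff.2 C.2.symm
      show k * rep (a⁻¹ • ConjClasses.mk (k * rep C.1 * k⁻¹)) * k⁻¹ = k * rep C.1 * k⁻¹
      rw [h2, h4]
    · intro g
      apply Subtype.ext
      have h2 : ConjClasses.mk (x g.1) = ConjClasses.mk g.1 := by
        rw [ConjClasses.mk_eq_mk_iff_isConj]
        exact isConj_iff.2 ⟨k, g.2⟩
      have h1 := hx g.1
      rw [h2] at h1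
      have h4 : a⁻¹ • ConjClasses.mk g.1 = ConjClasses.mk g.1 := inv_smul_eq_iff.2 h1
      show k * rep (ConjClasses.mk g.1) * k⁻¹ = g.1
      have h5 := g.2
      simp only [x, h4] at h5
      exact h5
    · intro C
      apply Subtype.ext
      show ConjClasses.mk (k * rep C.1 * k⁻¹) = C.1
      have h3 : ConjClasses.mk (k * rep C.1 * k⁻¹) = ConjClasses.mk (rep C.1) := by
        rw [ConjClasses.mk_eq_mk_iff_isConj]
        exact (isConj_iff.2 ⟨k, rfl⟩).symm
      rw [h3, hrep]
  apply Nat.cast_injective (R := ℂ)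
  rw [hL]
  unfold Cfsg.classInner
  rw [← Finset.mul_sum, Finset.sum_comm]
  simp_rw [hcount]
  rw [Finset.sum_comm]
  simp_rw [hfix]
  simp only [Finset.sum_const, Finset.card_univ, nsmul_eq_mul]
  rw [← Nat.card_eq_fintype_card, ← mul_assoc, inv_mul_cancel₀ hne, one_mul]

end Cfsg.Agent.S0860
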