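import Cfsg.Statements.S0956
import Mathlib
import Cfsg.Agent.Lib.Blocks.Green

set_option autoImplicit false
open Cfsg

namespace Cfsg.Agent.S0956

open Cfsg.Agent.Lib.Blocks.Local Cfsg.Agent.Lib.Blocks.Central Cfsg.Agent.Lib.Blocks.Osima
open Cfsg.Agent.Lib.Blocks.FirstMain Cfsg.Agent.Lib.Blocks.Green

section Aux

variable {G : Type*} [Group G] [Finite G] {p : ℕ} [hp : Fact p.Prime]

/-- The normalizer condition for `p`-groups. -/
lemma exists_mem_normalizer_of_lt {D Q : Subgroup G} (hQ : IsPGroup p Q) (h : D < Q) :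
    ∃ t ∈ Q, t ∉ D ∧ t ∈ Subgroup.normalizer (D : Set G) := by
  classical
  have hle := h.le
  have hnil : Group.IsNilpotent Q := hQ.isNilpotent
  have hnorm := Group.normalizerCondition_of_isNilpotent (G := Q)
  have hlt : D.subgroupOf Q < ⊤ := by
    rw [lt_top_iff_ne_top]
    intro h1
    apply h.not_ge
    rwa [Subgroup.subgroupOf_eq_top] at h1
  obtain ⟨t, ht, hnt⟩ := SetLike.exists_of_lt (hnorm _ hlt)
  refine ⟨t, t.2, fun h1 => hnt (by simpa [Subgroup.mem_subgroupOf] using h1), ?_⟩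
  rw [Subgroup.mem_normalizer_iff] at ht ⊢
  intro d
  constructor
  · intro hd
    have h1 := (ht ⟨d, hle hd⟩).1 (by simpa [Subgroup.mem_subgroupOf] using hd)
    simpa [Subgroup.mem_subgroupOf] using h1
  · intro hd
    have hdQ : d ∈ Q := by
      have h2 : d = (t : G)⁻¹ * ((t : G) * d * (t : G)⁻¹) * (t : G) := by group
      rw [h2]
      exact Q.mul_mem (Q.mul_mem (Q.inv_mem t.2) (hle hd)) t.2
    have h1 := (ht ⟨d, hdQ⟩).2 (by simpa [Subgroup.mem_subgroupOf] using hd)
    simpa [Subgroup.mem_subgroupOf] using h1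

/-- `p`-subgroups of `H` have order at most the `p`-part of `H`. -/
lemma card_le_of_isPGroup_le {T H : Subgroup G} (hT : IsPGroup p T) (hTH : T ≤ H) :
    Nat.card T ≤ p ^ (Nat.card H).factorization p := by
  obtain ⟨n, hn⟩ := IsPGroup.iff_card.1 hT
  rw [hn]
  have h1 : Nat.card T ∣ Nat.card H := Subgroup.card_dvd_of_le hTH
  rw [hn] at h1
  have h2 := (Nat.Prime.pow_dvd_iff_le_factorization hp.out Nat.card_pos.ne').1 h1
  exact Nat.pow_le_pow_right hp.out.pos h2

end Aux

/-- Let D be a defect group of a block of the finite group G (relative to a maximal ideal M of the algebraic integers containing the prime p) and P a Sylow p-subgroup containing D. Then there is an element x of order prime to p such that D is a Sylow p-subgroup of the centralizer of x and D = P ∩ x P x⁻¹. -/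
theorem result {G : Type*} [Group G] [Finite G] (p : ℕ) [Fact p.Prime] (M : Ideal Cfsg.AlgInt) (hM : Cfsg.IsPModular p M) (B : Set (Cfsg.IrrCharacter G)) (hB : Cfsg.IsPBlock M B) (D : Subgroup G) (hD : Cfsg.IsDefectGroup p M B D) (P : Sylow p G) (hDP : D ≤ P) : ∃ x : G, ¬ p ∣ orderOf x ∧ (∃ S : Sylow p (Subgroup.centralizer ({x} : Set G)), (S : Subgroup (Subgroup.centralizer ({x} : Set G))).map (Subgroup.centralizer ({x} : Set G)).subtype = D) ∧ (P : Subgroup G) ⊓ (P : Subgroup G).map (MulAut.conj x).toMonoidHom = D := by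
  classical
  haveI := Fintype.ofFinite G
  haveI hMp := isPrime_of_isPModular hM
  have hDp : IsPGroup p D := by
    obtain ⟨g, -, S, rfl⟩ := hD
    exact Cfsg.Agent.Lib.Blocks.Defect.isPGroup_sylow_map S
  set N := Subgroup.normalizer (D : Set G) with hN
  haveI : Fintype N := Fintype.ofFinite _
  obtain ⟨b, hb, hdb, hind⟩ := exists_isInducedBlock_of_isDefectGroup hM hDp hB hD
  have hDN : D ≤ N := le_normalizer' D
  set D' := D.subgroupOf N with hD'
  haveI hD'n : D'.Normal := (Subgroup.normal_subgroupOf_iff_le_normalizer hDN).mpr le_rfl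
  have hD'p : IsPGroup p D' := hDp.comap_of_injective _ (Subgroup.subtype_injective _)
  have hP₀ : IsPGroup p ((P : Subgroup G).subgroupOf N) :=
    P.2.comap_of_injective _ (Subgroup.subtype_injective _)
  obtain ⟨R, hR⟩ := hP₀.exists_le_sylow
  obtain ⟨g, hg, hgq⟩ := exists_blockCoeff_notMem_centralizes hM (R : Subgroup N) R.2 hb
  have hreg : ¬ p ∣ orderOf g := fun h => hg (by
    rw [Cfsg.Agent.Lib.Blocks.Covering.blockCoeff_eq_zero_of_dvd hM hb h]
    exact memLocalIdeal_zero)
  have hgC : g ∈ Subgroup.centralizer (D' : Set N) := by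
    by_contra h
    haveI : Fintype (Subgroup.centralizer (D' : Set N)) := Fintype.ofFinite _
    apply hg
    rw [Cfsg.Agent.Lib.Blocks.CentSupport.blockCoeff_eq_zero_of_notMem hM D' hD'p _ le_rfl hb h]
    exact memLocalIdeal_zero
  obtain ⟨k, hk, S, hS⟩ := hdb
  obtain ⟨x, Q, hQ⟩ := (Cfsg.Agent.Lib.Blocks.Defect.min_max hM b hb k hk S g).1
    (memLocalRing_blockCoeff hb g) hg
  rw [← hS] at hQ
  have hconj : D'.map (MulAut.conj x).toMonoidHom = D' := by
    apply le_antisymm
    · rintro _ ⟨d, hd, rfl⟩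
      exact hD'n.conj_mem d hd x
    · intro d hd
      refine ⟨x⁻¹ * d * x, ?_, by simp [mul_assoc]⟩
      have := hD'n.conj_mem d hd x⁻¹
      simpa using this
  rw [hconj] at hQ
  have hD'le : D' ≤ Subgroup.centralizer ({g} : Set N) := by
    intro d hd
    rw [Subgroup.mem_centralizer_singleton_iff]
    exact ((Subgroup.mem_centralizer_iff.1 hgC) d hd)
  obtain ⟨-, hQcard⟩ := (Cfsg.Agent.S0916.exists_sylow_map_iff (p := p)).mp ⟨Q, rfl⟩
  have hD'card : Nat.card D' = p ^ (Nat.card (Subgroup.centralizer ({g} : Set N))).factorization p := by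
    apply le_antisymm (card_le_of_isPGroup_le hD'p hD'le)
    rw [← hQcard]
    exact Subgroup.card_le_of_le hQ
  have hSyl := (Cfsg.Agent.S0916.exists_sylow_map_iff (p := p)).mpr ⟨hD'le, hD'card⟩
  obtain ⟨hDg, hDcard⟩ := sylow_of_sylow_normalizer D hDp g hSyl
  -- the part of `R` centralizing `g`
  have hTD : ∀ t : N, t ∈ (R : Subgroup N) → g⁻¹ * t * g ∈ (R : Subgroup N) → t ∈ D' := by
    intro t ht ht'
    let T : Subgroup N := Subgroup.zpowers t
    have hTp : IsPGroup p T := by
      have : T ≤ (R : Subgroup N) := (Subgroup.zpowers_le).2 ht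
      exact R.2.to_le this
    have hsupp : IsPGroup p ((T ⊔ D' : Subgroup N) : Subgroup N) := hTp.to_sup_of_normal_right hD'p
    have hsupC : T ⊔ D' ≤ Subgroup.centralizer ({g} : Set N) := by
      refine sup_le ?_ hD'le
      refine (Subgroup.zpowers_le).2 ?_
      rw [Subgroup.mem_centralizer_singleton_iff]
      exact (hgq t ht ht')
    have h1 := card_le_of_isPGroup_le hsupp hsupC
    rw [← hD'card] at h1
    have h2 := Subgroup.eq_of_le_of_card_ge (le_sup_right : D' ≤ T ⊔ D') h1
    rw [h2]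
    exact Subgroup.mem_sup_left (Subgroup.mem_zpowers t)
  have hgD : ∀ d ∈ D, (g : G) * d * (g : G)⁻¹ = d := by
    intro d hd
    have h1 := Subgroup.mem_centralizer_singleton_iff.1 (hDg hd)
    rw [mul_inv_eq_iff_eq_mul]
    exact h1.symm
  refine ⟨(g : G), ?_, (Cfsg.Agent.S0916.exists_sylow_map_iff (p := p)).mpr ⟨hDg, hDcard⟩, ?_⟩
  · rw [Subgroup.orderOf_coe]
    exact hreg
  · set Q₁ := (P : Subgroup G) ⊓ (P : Subgroup G).map (MulAut.conj (g : G)).toMonoidHom with hQ₁
    have hle : D ≤ Q₁ := by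
      refine le_inf hDP ?_
      intro d hd
      exact ⟨d, hDP hd, hgD d hd⟩
    have hQ₁p : IsPGroup p Q₁ := P.2.to_le inf_le_left
    by_contra hne
    have hlt : D < Q₁ := lt_of_le_of_ne hle (Ne.symm hne)
    obtain ⟨t, htQ, htD, htN⟩ := exists_mem_normalizer_of_lt hQ₁p hlt
    apply htD
    obtain ⟨htP, s, hsP, hs⟩ := htQ
    have hs' : (g : G)⁻¹ * t * g = s := by
      rw [← hs]
      simp [mul_assoc]
    have hsN : (⟨t, htN⟩ : N) ∈ (R : Subgroup N) := hR (by
      rw [Subgroup.mem_subgroupOf]; exact htP)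
    have hsN' : g⁻¹ * (⟨t, htN⟩ : N) * g ∈ (R : Subgroup N) := hR (by
      rw [Subgroup.mem_subgroupOf]
      have : ((g⁻¹ * (⟨t, htN⟩ : N) * g : N) : G) = s := by
        rw [← hs']
        simp
      rw [this]
      exact hsP)
    exact hTD _ hsN hsN'

end Cfsg.Agent.S0956
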