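import Cfsg.Statements.S0994
import Mathlib
-- import your own Cfsg.Agent.* helpers here

set_option autoImplicit false
open Cfsg

namespace Cfsg.Agent.S0994

/-- Simple groups of order `p * m` with `p ∤ m`, `m > 1` whose Sylow normalizer order is coprime to
`p - 1` do not exist (Burnside transfer). -/
theorem false_of_normalizer_coprime {G : Type*} [Group G] [Finite G] [IsSimpleGroup G]
    (p : ℕ) [Fact p.Prime] (P : Sylow p G) (hPc : Nat.card P = p) (hG : Nat.card G ≠ p)
    (hcop : Nat.Coprime (Nat.card (Subgroup.normalizer (P : Set G))) (p - 1)) : False := by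
  classical
  have hcyc : IsCyclic P := isCyclic_of_prime_card hPc
  have hAut : Nat.card (MulAut P) = p - 1 := by
    rw [IsCyclic.card_mulAut, hPc, Nat.totient_prime Fact.out]
  let φ := (P : Subgroup G).normalizerMonoidHom
  have hker : φ.ker = (Subgroup.centralizer (P : Set G)).subgroupOf (Subgroup.normalizer (P : Set G)) :=
    (P : Subgroup G).normalizerMonoidHom_ker
  have htriv : ∀ y, φ y = 1 := by
    intro y
    rw [← orderOf_eq_one_iff]
    have h1 : orderOf (φ y) ∣ Nat.card (Subgroup.normalizer (P : Set G)) :=
      (orderOf_map_dvd φ y).trans (orderOf_dvd_natCard y)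
    have h2 : orderOf (φ y) ∣ p - 1 := hAut ▸ orderOf_dvd_natCard (φ y)
    exact Nat.eq_one_of_dvd_coprimes hcop h1 h2
  have hle : Subgroup.normalizer (P : Set G) ≤ Subgroup.centralizer (P : Set G) := by
    intro g hg
    have hmem : (⟨g, hg⟩ : Subgroup.normalizer (P : Set G)) ∈ φ.ker := htriv _
    rw [hker, Subgroup.mem_subgroupOf] at hmem
    exact hmem
  have hC := MonoidHom.ker_transferSylow_isComplement' P hle
  have hN : (MonoidHom.transferSylow P hle).ker.Normal := inferInstance
  rcases hN.eq_bot_or_eq_top with h | h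
  · have : (P : Subgroup G) = ⊤ := by
      rw [h] at hC
      exact (Subgroup.isComplement'_bot_left.mp hC)
    apply hG
    rw [← hPc, this, Subgroup.card_top]
  · have : (P : Subgroup G) = ⊥ := by
      rw [h] at hC
      exact (Subgroup.isComplement'_top_left.mp hC)
    have h1 : Nat.card P = 1 := by rw [this, Subgroup.card_bot]
    rw [h1] at hPc
    exact (Fact.out : p.Prime).one_lt.ne hPc

/-- No finite simple group has order 1188 = 2^2 * 3^3 * 11. -/
theorem result {G : Type*} [Group G] [Finite G] [IsSimpleGroup G] : Nat.card G ≠ 1188 := by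
  intro h
  haveI : Fact (Nat.Prime 11) := ⟨by norm_num⟩
  obtain ⟨P⟩ : Nonempty (Sylow 11 G) := inferInstance
  have hidx := Subgroup.card_mul_index (P : Subgroup G)
  rw [h] at hidx
  have hnd : ¬ 11 ∣ (P : Subgroup G).index := P.not_dvd_index
  have hP : Nat.card P = 11 := by
    obtain ⟨k, hk⟩ := P.2.exists_card_eq
    rw [hk] at hidx ⊢
    have hk3 : k < 2 := by
      by_contra hge
      push Not at hge
      have h1 : 11 ^ 2 ∣ 11 ^ k := pow_dvd_pow 11 hge
      have h2 : 11 ^ k ∣ 1188 := ⟨_, hidx.symm⟩
      have h3 := h1.trans h2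
      norm_num at h3
    interval_cases k
    · omega
    · rfl
  have hPidx : (P : Subgroup G).index = 108 := by
    rw [hP] at hidx
    omega
  set N := Subgroup.normalizer (P : Set G) with hN
  have hnidx : N.index = Nat.card (Sylow 11 G) := (Sylow.card_eq_index_normalizer P).symm
  have hd : Nat.card (Sylow 11 G) ∣ 108 := hPidx ▸ P.card_dvd_index
  have hmod : Nat.card (Sylow 11 G) ≡ 1 [MOD 11] := card_sylow_modEq_one 11 G
  have hcardN := Subgroup.card_mul_index N
  rw [h, hnidx] at hcardN
  have hn : Nat.card (Sylow 11 G) = 1 ∨ Nat.card (Sylow 11 G) = 12 := by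
    have hle : Nat.card (Sylow 11 G) ≤ 108 := Nat.le_of_dvd (by norm_num) hd
    generalize Nat.card (Sylow 11 G) = n at hd hmod hle
    unfold Nat.ModEq at hmod
    interval_cases n <;> simp_all <;> omega
  rcases hn with h1 | h12
  · -- normal Sylow
    have hNtop : N = ⊤ := by
      have : N.index = 1 := by rw [hnidx, h1]
      exact Subgroup.index_eq_one.mp this
    have hnormal : (P : Subgroup G).Normal := Subgroup.normalizer_eq_top_iff.mp hNtop
    rcases hnormal.eq_bot_or_eq_top with hb | ht
    · have : Nat.card P = 1 := by rw [hb, Subgroup.card_bot]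
      omega
    · have : Nat.card P = 1188 := by rw [ht, Subgroup.card_top, h]
      omega
  · rw [h12] at hcardN
    have hc : Nat.card N = 99 := by omega
    refine false_of_normalizer_coprime 11 P hP (by omega) ?_
    rw [← hN, hc]
    norm_num

end Cfsg.Agent.S0994
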