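import Cfsg.Statements.S0999
import Mathlib
import Cfsg.Agent.Lib.DefectOne.PSLOut

set_option autoImplicit false
open Cfsg

namespace Cfsg.Agent.S0999

/-- Let G be a non-cyclic finite simple group and p a prime divisor of its order with p^3 > |G|. Then p > 3 and G is isomorphic to the projective special linear group of dimension 2 over the field with p elements, or p - 1 is a power of 2 and G is isomorphic to that group over the field with p - 1 elements. -/
theorem result {G : Type*} [Group G] [Finite G] [IsSimpleGroup G] (hG : ¬ IsCyclic G) (p : ℕ) (hp : p.Prime) (hdvd : p ∣ Nat.card G) (hbig : Nat.card G < p ^ 3) : (∃ (F : Type) (_ : Field F) (_ : Fintype F), Fintype.card F = p ∧ 3 < p ∧ Nonempty (G ≃* Matrix.ProjectiveSpecialLinearGroup (Fin 2) F)) ∨ (∃ (m : ℕ) (F : Type) (_ : Field F) (_ : Fintype F), Fintype.card F = 2 ^ m ∧ p = 2 ^ m + 1 ∧ 3 < p ∧ Nonempty (G ≃* Matrix.ProjectiveSpecialLinearGroup (Fin 2) F)) := by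
  classical
  letI : Fintype G := Fintype.ofFinite _
  haveI : Fact p.Prime := ⟨hp⟩
  -- the group is perfect
  have hab : ¬ ∀ a b : G, a * b = b * a := by
    intro hcomm
    apply hG
    obtain ⟨g, hg⟩ : ∃ g : G, g ≠ 1 := exists_ne 1
    have hn : (Subgroup.zpowers g).Normal := by
      refine ⟨fun u hu c => ?_⟩
      rw [hcomm c u]
      simpa using hu
    rcases hn.eq_bot_or_eq_top with h | h
    · exact absurd (Subgroup.zpowers_eq_bot.1 h) hg
    · exact isCyclic_iff_exists_zpowers_eq_top.2 ⟨g, h⟩
  have hperf : commutator G = ⊤ := by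
    rcases (inferInstance : (commutator G).Normal).eq_bot_or_eq_top with h | h
    · exfalso
      apply hab
      intro a b
      rw [commutator_def, Subgroup.commutator_eq_bot_iff_le_centralizer] at h
      have h1 := Subgroup.mem_centralizer_iff.1 (h (Subgroup.mem_top a)) b (Subgroup.mem_top b)
      exact h1.symm
    · exact h
  obtain ⟨P⟩ : Nonempty (Sylow p G) := inferInstance
  have hPn : ¬ (P : Subgroup G).Normal := by
    intro hn
    rcases hn.eq_bot_or_eq_top with h | h
    · exact P.ne_bot_of_dvd_card hdvd h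
    · have hpg : IsPGroup p G := by
        have h1 := P.isPGroup'
        intro g
        obtain ⟨k, hk⟩ := h1 ⟨g, by rw [h]; exact Subgroup.mem_top g⟩
        exact ⟨k, by simpa using congrArg Subtype.val hk⟩
      haveI : Nontrivial G := inferInstance
      haveI := hpg.center_nontrivial
      rcases (Subgroup.center G).normal_of_characteristic.eq_bot_or_eq_top with h1 | h1
      · rw [h1] at this
        exact not_subsingleton _ (inferInstance : Subsingleton (⊥ : Subgroup G))
      · apply hab
        intro a b
        have h2 : a ∈ Subgroup.center G := by rw [h1]; exact Subgroup.mem_top a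
        exact (Subgroup.mem_center_iff.1 h2 b).symm
  have hres := Cfsg.Agent.Lib.DefectOne.thmR hperf P hPn hdvd hbig
  have hker : ∀ {H : Type} [Group H] [Nontrivial H] (f : G →* H), Function.Surjective f → f.ker = ⊥ := by
    intro H _ _ f hf
    rcases (MonoidHom.normal_ker f).eq_bot_or_eq_top with h | h
    · exact h
    · exfalso
      obtain ⟨y, hy⟩ : ∃ y : H, y ≠ 1 := exists_ne 1
      obtain ⟨g, rfl⟩ := hf y
      apply hy
      have : g ∈ f.ker := by rw [h]; exact Subgroup.mem_top g
      exact this
  rcases hres with ⟨h3, f, hf⟩ | ⟨m, F, i1, i2, hF, h21, h3, f, hf⟩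
  · left
    refine ⟨ZMod p, inferInstance, inferInstance, ZMod.card p, h3, ?_⟩
    haveI : Nontrivial (Matrix.ProjectiveSpecialLinearGroup (Fin 2) (ZMod p)) := by
      have hc := Cfsg.Agent.Lib.DefectOne.card_psl_zmod (p := p) h3
      refine (Finite.one_lt_card_iff_nontrivial).1 ?_
      obtain ⟨q, rfl⟩ : ∃ q, p = q + 4 := ⟨p - 4, by omega⟩
      have h7 : (q + 4) ^ 2 = q * q + 8 * q + 16 := by ring
      rw [h7] at hc
      have h8 : q * q + 8 * q + 16 - 1 = q * q + 8 * q + 15 := by omega
      rw [h8] at hc
      by_contra hlt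
      have h9 : Nat.card (Matrix.ProjectiveSpecialLinearGroup (Fin 2) (ZMod (q + 4))) ≤ 1 := by omega
      nlinarith
    exact Cfsg.Agent.Lib.DefectOne.equiv_of_surj hf (hker f hf)
  · right
    refine ⟨m, F, i1, i2, hF, h21, h3, ?_⟩
    have hm : 1 ≤ m := by
      rcases Nat.eq_zero_or_pos m with h | h
      · rw [h] at h21
        omega
      · exact h
    haveI : Nontrivial (Matrix.ProjectiveSpecialLinearGroup (Fin 2) F) := by
      have hc := Cfsg.Agent.Lib.DefectOne.card_psl_two hm hF
      refine (Finite.one_lt_card_iff_nontrivial).1 ?_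
      rw [hc]
      have h4 : 2 ≤ 2 ^ m := by
        calc 2 = 2 ^ 1 := by norm_num
          _ ≤ 2 ^ m := Nat.pow_le_pow_right (by norm_num) hm
      have h5 : 3 ≤ (2 ^ m) ^ 2 - 1 := by
        have : 4 ≤ (2 ^ m) ^ 2 := by nlinarith
        omega
      nlinarith
    exact Cfsg.Agent.Lib.DefectOne.equiv_of_surj hf (hker f hf)

end Cfsg.Agent.S0999
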