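import Cfsg.Statements.S1011
import Mathlib
import Cfsg.Agent.Lib.Basic.SylowCount
import Cfsg.Agent.Lib.Basic.SmallSimple
import Cfsg.Agent.Lib.SmallCen.SylowZass
import Cfsg.Agent.Lib.Basic.SylowUtil
import Cfsg.Agent.Lib.Basic.ConjCount
import Cfsg.Agent.Lib.PSL2.Basic
import Cfsg.Agent.Lib.Compute.SmallField
import Cfsg.Agent.S0340

set_option autoImplicit false
open Cfsg
set_option linter.unusedSectionVars false
set_option linter.unusedVariables false
set_option linter.style.haveILetI false

namespace Cfsg.Agent.S1011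

open Subgroup MulAction
open scoped commutatorElement

variable {G : Type*} [Group G] [Finite G] [IsSimpleGroup G]

theorem sign_neg_one {α : Type*} [Fintype α] [DecidableEq α] (σ : Equiv.Perm α) (h2 : σ ^ 2 = 1)
    (hs : σ.support.card = 6) : Equiv.Perm.sign σ = -1 := by
  have hord : orderOf σ ∣ 2 := orderOf_dvd_of_pow_eq_one h2
  have hall : ∀ m ∈ σ.cycleType, m = 2 := by
    intro m hm
    have h1 := Equiv.Perm.dvd_of_mem_cycleType hm
    have h3 := Equiv.Perm.two_le_of_mem_cycleType hm
    have := Nat.le_of_dvd (by norm_num) (h1.trans hord)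
    omega
  have hrep := Multiset.eq_replicate_card.mpr hall
  have hsum := Equiv.Perm.sum_cycleType σ
  rw [hrep, Multiset.sum_replicate, hs] at hsum
  have hc : Multiset.card σ.cycleType = 3 := by simp at hsum; omega
  rw [Equiv.Perm.sign_of_cycleType', hrep, hc]
  simp

theorem card_dvd_factorial_index (H : Subgroup G) (hH : H ≠ ⊤) :
    Nat.card G ∣ (H.index).factorial := by
  have hker : (MulAction.toPermHom G (G ⧸ H)).ker = ⊥ := by
    rw [← Subgroup.normalCore_eq_ker]
    rcases (Subgroup.normalCore_normal H).eq_bot_or_eq_top with h | h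
    · exact h
    · exfalso
      apply hH
      rw [eq_top_iff, ← h]
      exact Subgroup.normalCore_le H
  have hinj : Function.Injective (MulAction.toPermHom G (G ⧸ H)) :=
    (MonoidHom.ker_eq_bot_iff _).1 hker
  have := Subgroup.card_dvd_of_injective _ hinj
  rwa [Nat.card_perm] at this

theorem seven_le_index (h : Nat.card G = 504) (H : Subgroup G) (hH : H ≠ ⊤) : 7 ≤ H.index := by
  have h1 := card_dvd_factorial_index H hH
  rw [h] at h1
  have h7 : 7 ∣ (H.index).factorial := (by norm_num : 7 ∣ 504).trans h1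
  exact (Nat.Prime.dvd_factorial (by norm_num)).1 h7

theorem no_index_seven (h : Nat.card G = 504) (H : Subgroup G) (hH : H.index = 7) {x t : G}
    (hx : orderOf x = 7) (ht : orderOf t = 2) (hxt : t * x * t⁻¹ = x⁻¹) : False := by
  classical
  haveI : Fintype (G ⧸ H) := Fintype.ofFinite _
  have hcardH : Nat.card H = 72 := by
    have := H.card_mul_index
    rw [hH, h] at this
    omega
  have hcardΩ : Fintype.card (G ⧸ H) = 7 := by
    rw [← Nat.card_eq_fintype_card]; exact hH
  -- free action of the powers of x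
  have hfree : ∀ (k : ℕ) (ω : G ⧸ H), x ^ k • ω = ω → x ^ k = 1 := by
    intro k ω hk
    induction ω using QuotientGroup.induction_on with
    | H g =>
    have h1 : g⁻¹ * x ^ k * g ∈ H := by
      have h2 : ((x ^ k * g : G) : G ⧸ H) = (g : G ⧸ H) := hk
      rw [QuotientGroup.eq] at h2
      have : (x ^ k * g)⁻¹ * g = (g⁻¹ * (x ^ k)⁻¹ * g) := by group
      rw [this] at h2
      have h3 := H.inv_mem h2
      have e : (g⁻¹ * (x ^ k)⁻¹ * g)⁻¹ = g⁻¹ * x ^ k * g := by group
      rwa [e] at h3
    have h2 : orderOf (g⁻¹ * x ^ k * g) ∣ 72 := by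
      rw [← hcardH]
      have := orderOf_dvd_natCard (⟨_, h1⟩ : H)
      rwa [Subgroup.orderOf_mk] at this
    have h3 : orderOf (g⁻¹ * x ^ k * g) = orderOf (x ^ k) := by
      have : g⁻¹ * x ^ k * g = MulAut.conj g⁻¹ (x ^ k) := by simp
      rw [this]
      exact MulEquiv.orderOf_eq _ _
    rw [h3] at h2
    have h4 : orderOf (x ^ k) ∣ 7 := by
      rw [← hx]; exact orderOf_pow_dvd k
    rcases (Nat.dvd_prime (by norm_num)).1 h4 with h5 | h5
    · exact orderOf_eq_one_iff.1 h5
    · rw [h5] at h2; omega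
  let σ : Equiv.Perm (G ⧸ H) := MulAction.toPermHom G (G ⧸ H) t
  have hσ2 : σ ^ 2 = 1 := by
    have : t ^ 2 = 1 := by rw [← ht]; exact pow_orderOf_eq_one t
    simp only [σ]
    rw [← map_pow, this, map_one]
  have hσ : ∀ ω, σ ω = t • ω := fun ω => rfl
  -- a fixed point
  haveI : Fact (Nat.Prime 2) := ⟨Nat.prime_two⟩
  have hmod := Equiv.Perm.card_compl_support_modEq (p := 2) (n := 1) (σ := σ) (by simpa using hσ2)
  rw [hcardΩ] at hmod
  obtain ⟨a, ha⟩ : ∃ a, σ a = a := by
    by_contra hno
    push Not at hno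
    have : σ.supportᶜ = ∅ := by
      ext ω
      simp [Equiv.Perm.mem_support, hno ω]
    rw [this] at hmod
    simp [Nat.ModEq] at hmod
  -- bijection
  have hconj : ∀ k : ℕ, t * x ^ k * t⁻¹ = (x ^ k)⁻¹ := by
    intro k
    rw [← conj_pow, hxt, inv_pow]
  have hne : ∀ i j : ℕ, i < j → j < 7 → x ^ i • a ≠ x ^ j • a := by
    intro i j hij hj e
    have e1 : x ^ j = x ^ i * x ^ (j - i) := by
      rw [← pow_add]; congr 1; omega
    rw [e1, mul_smul] at e
    have e2 : x ^ (j - i) • a = a := (MulAction.injective _ e).symm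
    have h2 := hfree _ _ e2
    have h3 : 7 ∣ j - i := hx ▸ orderOf_dvd_of_pow_eq_one h2
    have := Nat.le_of_dvd (by omega) h3
    omega
  have hall : ∀ ω, ∃ k : ℕ, x ^ k • a = ω := by
    let f : Fin 7 → G ⧸ H := fun i => x ^ (i : ℕ) • a
    have hf : Function.Injective f := by
      intro i j hij
      by_contra hne'
      have hne2 : (i : ℕ) ≠ j := fun e => hne' (Fin.ext e)
      rcases lt_or_gt_of_ne hne2 with h1 | h1
      · exact hne _ _ h1 j.2 hij
      · exact hne _ _ h1 i.2 hij.symm
    have hb := (Fintype.bijective_iff_injective_and_card f).2 ⟨hf, by simp [hcardΩ]⟩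
    intro ω
    obtain ⟨i, hi⟩ := hb.2 ω
    exact ⟨i, hi⟩
  have huniq : ∀ ω, σ ω = ω → ω = a := by
    intro ω hω
    obtain ⟨k, rfl⟩ := hall ω
    rw [hσ] at hω ha
    have e1 : t • (x ^ k • a) = (x ^ k)⁻¹ • a := by
      have : t * x ^ k = (x ^ k)⁻¹ * t := by
        rw [← hconj k]; group
      rw [← mul_smul, this, mul_smul, ha]
    rw [e1] at hω
    have e2 : x ^ (k + k) • a = a := by
      rw [pow_add, mul_smul, ← hω, smul_inv_smul]
    have h2 := hfree _ _ e2
    have h3 : 7 ∣ k + k := hx ▸ orderOf_dvd_of_pow_eq_one h2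
    have h4 : 7 ∣ k := by omega
    have h5 : x ^ k = 1 := by
      rw [← hx] at h4
      exact orderOf_dvd_iff_pow_eq_one.1 h4
    rw [h5, one_smul]
  have hcompl : σ.supportᶜ = {a} := by
    ext ω
    simp only [Finset.mem_compl, Equiv.Perm.mem_support, not_not, Finset.mem_singleton]
    constructor
    · exact huniq ω
    · rintro rfl; exact ha
  have hsupp : σ.support.card = 6 := by
    have h1 := Finset.card_compl_add_card σ.support
    rw [hcompl, hcardΩ, Finset.card_singleton] at h1
    omega
  have hsign := sign_neg_one σ hσ2 hsupp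
  let φ : G →* ℤˣ := (Equiv.Perm.sign).comp (MulAction.toPermHom G (G ⧸ H))
  rcases (inferInstance : φ.ker.Normal).eq_bot_or_eq_top with h1 | h1
  · have hinj : Function.Injective φ := (MonoidHom.ker_eq_bot_iff _).1 h1
    have h2 := Nat.card_le_card_of_injective φ hinj
    rw [h] at h2
    simp [Nat.card_eq_fintype_card] at h2
  · have h2 : t ∈ φ.ker := by rw [h1]; trivial
    rw [MonoidHom.mem_ker] at h2
    have h3 : Equiv.Perm.sign σ = 1 := h2
    rw [hsign] at h3
    exact absurd h3 (by decide)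


theorem card_sylow_of {p k m : ℕ} [hp : Fact p.Prime] (h : Nat.card G = p ^ k * m) (hm : ¬ p ∣ m)
    (P : Sylow p G) : Nat.card P = p ^ k := by
  rw [Sylow.card_eq_multiplicity, h]
  have hm0 : m ≠ 0 := by rintro rfl; exact hm (dvd_zero p)
  have hpk : p ^ k ≠ 0 := pow_ne_zero _ hp.out.ne_zero
  congr 1
  rw [Nat.factorization_mul hpk hm0]
  simp [Nat.Prime.factorization_pow hp.out, Nat.factorization_eq_zero_of_not_dvd hm]

theorem relIndex_dvd_aut {P : Subgroup G} :
    (Subgroup.centralizer (P : Set G)).relIndex (Subgroup.normalizer (P : Set G)) ∣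
      Nat.card (MulAut P) := by
  have key := Subgroup.card_dvd_of_injective _
    (QuotientGroup.kerLift_injective P.normalizerMonoidHom)
  rwa [Subgroup.normalizerMonoidHom_ker, ← Subgroup.index, ← Subgroup.relIndex] at key

theorem commutator_eq_top (h : Nat.card G = 504) : commutator G = ⊤ := by
  rcases (inferInstance : (commutator G).Normal).eq_bot_or_eq_top with h1 | h1
  · exfalso
    have hc : ∀ a b : G, a * b = b * a := fun a b => by
      have : ⁅a, b⁆ ∈ commutator G := Subgroup.commutator_mem_commutator trivial trivial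
      rw [h1, Subgroup.mem_bot] at this
      exact commutatorElement_eq_one_iff_mul_comm.1 this
    haveI : IsMulCommutative G := ⟨⟨hc⟩⟩
    have := Group.is_simple_iff_prime_card.mp (inferInstance : IsSimpleGroup G)
    rw [h] at this
    norm_num at this
  · exact h1

theorem seven_structure (h : Nat.card G = 504) {y : G} (hy : orderOf y = 7) :
    Nat.card (Sylow 7 G) = 36 ∧ (∀ g, g * y = y * g → g ∈ zpowers y) ∧
      ∃ t : G, orderOf t = 2 ∧ t * y * t⁻¹ = y⁻¹ := by
  classical
  haveI : Fact (Nat.Prime 7) := ⟨by norm_num⟩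
  obtain ⟨P, hyP⟩ := Cfsg.Agent.Lib.Basic.SylowCount.exists_sylow_mem hy
  have hPc : Nat.card (P : Subgroup G) = 7 := by
    have := card_sylow_of (p := 7) (k := 1) (m := 72) (by rw [h]; norm_num) (by norm_num) P
    simpa using this
  have hPz : (P : Subgroup G) = zpowers y :=
    (Subgroup.eq_of_le_of_card_ge (Subgroup.zpowers_le.2 hyP) (by
      rw [hPc, Nat.card_zpowers, hy])).symm
  set N := Subgroup.normalizer ((P : Subgroup G) : Set G) with hN
  set C := Subgroup.centralizer ((P : Subgroup G) : Set G) with hC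
  have hidxN : N.index = Nat.card (Sylow 7 G) := (Sylow.card_eq_index_normalizer P).symm
  have hCN : C ≤ N := Subgroup.centralizer_le_normalizer _
  have hNc := N.card_mul_index
  rw [hidxN, h] at hNc
  have hidxP : (P : Subgroup G).index = 72 := by
    have := (P : Subgroup G).card_mul_index
    rw [hPc, h] at this
    omega
  have h1 : Nat.card (Sylow 7 G) ∣ 72 := hidxP ▸ P.card_dvd_index
  have h2 : Nat.card (Sylow 7 G) % 7 = 1 % 7 := card_sylow_modEq_one 7 G
  have hrel : C.relIndex N ∣ 6 := by
    have h3 : Nat.card (MulAut (P : Subgroup G)) = 6 := by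
      haveI : IsCyclic (P : Subgroup G) := isCyclic_of_prime_card (p := 7) hPc
      rw [IsCyclic.card_mulAut, hPc]
      decide
    exact h3 ▸ relIndex_dvd_aut
  have hCc : Nat.card C * C.relIndex N = Nat.card N := by
    have h3 := (C.subgroupOf N).card_mul_index
    rw [← Subgroup.relIndex] at h3
    have h4 : Nat.card (C.subgroupOf N) = Nat.card C :=
      Nat.card_congr (Subgroup.subgroupOfEquivOfLe hCN).toEquiv
    rw [h4] at h3
    exact h3
  have hn : Nat.card (Sylow 7 G) = 1 ∨ Nat.card (Sylow 7 G) = 8 ∨ Nat.card (Sylow 7 G) = 36 := by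
    have h3 := Nat.le_of_dvd (by norm_num) h1
    generalize Nat.card (Sylow 7 G) = n at *
    interval_cases n <;> first | omega | simp_all
  have hPnot : ¬ N = ⊤ := by
    intro hNt
    haveI : (P : Subgroup G).Normal := Subgroup.normalizer_eq_top_iff.1 hNt
    rcases (inferInstance : (P : Subgroup G).Normal).eq_bot_or_eq_top with h3 | h3
    · rw [h3] at hPc; simp at hPc
    · rw [h3] at hPc; simp [h] at hPc
  rcases hn with hn | hn | hn
  · exfalso
    apply hPnot
    rw [← Subgroup.index_eq_one, hidxN, hn]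
  · exfalso
    rw [hn] at hNc
    have hN63 : Nat.card N = 63 := by omega
    rw [hN63] at hCc
    have h3 : 3 ∣ Nat.card C := by
      have h4 : C.relIndex N ∣ 63 := ⟨_, by rw [← hCc, mul_comm]⟩
      have h5 : C.relIndex N ∣ 3 := by
        have := Nat.dvd_gcd hrel h4
        simpa using this
      rcases (Nat.dvd_prime (by norm_num)).1 h5 with h6 | h6 <;> rw [h6] at hCc <;> omega
    haveI : Fact (Nat.Prime 3) := ⟨by norm_num⟩
    obtain ⟨z, hz⟩ := exists_prime_orderOf_dvd_card' 3 h3
    have hz3 : orderOf (z : G) = 3 := by rw [Subgroup.orderOf_coe]; exact hz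
    have hzc : ∀ v ∈ (P : Subgroup G), (z : G) * v = v * (z : G) := fun v hv =>
      (Subgroup.mem_centralizer_iff.1 z.2 v hv).symm
    -- a further fixed Sylow subgroup
    have hcardn : ∀ Q : Sylow 7 G, Nat.card (Sylow 7 G) = Nat.card (Q : Subgroup G) + 1 := by
      intro Q
      rw [hn, card_sylow_of (p := 7) (k := 1) (m := 72) (by rw [h]; norm_num) (by norm_num) Q]
      norm_num
    have hcard1 : ∀ Q : Sylow 7 G, Nat.card (Q : Subgroup G) = 7 := by
      intro Q
      simpa using card_sylow_of (p := 7) (k := 1) (m := 72) (by rw [h]; norm_num) (by norm_num) Q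
    have hTI : ∀ Q R : Sylow 7 G, Q ≠ R → ∀ v, v ∈ (Q : Subgroup G) → v ∈ (R : Subgroup G) → v = 1 := by
      intro Q R hQR v hv hv'
      have := Cfsg.Agent.Lib.Basic.SylowCount.inf_eq_bot_of_card Q R (hcard1 Q) (hcard1 R) hQR
      have h5 : v ∈ (Q : Subgroup G) ⊓ (R : Subgroup G) := ⟨hv, hv'⟩
      rw [this] at h5
      exact h5
    have hp3 : IsPGroup 3 (zpowers (z : G)) := by
      apply IsPGroup.of_card (n := 1)
      rw [Nat.card_zpowers, hz3, pow_one]
    have hfix := hp3.card_modEq_card_fixedPoints (Sylow 7 G)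
    rw [hn] at hfix
    have hPfix : P ∈ MulAction.fixedPoints (zpowers (z : G)) (Sylow 7 G) := by
      rintro ⟨w, hw⟩
      obtain ⟨k, rfl⟩ := Subgroup.mem_zpowers_iff.1 hw
      change (z : G) ^ k • P = P
      rw [Sylow.smul_eq_iff_mem_normalizer]
      exact Subgroup.zpow_mem _ (hCN z.2) k
    obtain ⟨Q, hQfix, hQne⟩ : ∃ Q ∈ MulAction.fixedPoints (zpowers (z : G)) (Sylow 7 G), Q ≠ P := by
      by_contra hno
      push Not at hno
      have : MulAction.fixedPoints (zpowers (z : G)) (Sylow 7 G) = {P} := by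
        ext Q
        constructor
        · exact fun hQ => hno Q hQ
        · rintro rfl; exact hPfix
      rw [this, Nat.card_unique] at hfix
      simp [Nat.ModEq] at hfix
    have hzP : (z : G) • P = P := hPfix ⟨z, Subgroup.mem_zpowers _⟩
    have hzQ : (z : G) • Q = Q := hQfix ⟨z, Subgroup.mem_zpowers _⟩
    have htriv : ∀ R : Sylow 7 G, (z : G) • R = R := fun R =>
      Cfsg.Agent.Lib.SmallCen.SylowZass.acts_trivially_of_comm hcardn hTI hQne hzP hzQ hzc R
    haveI := Cfsg.Agent.Lib.SmallCen.SylowZass.faithful (G := G) hQne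
    have hz1 : (z : G) = 1 := FaithfulSMul.eq_of_smul_eq_smul (α := Sylow 7 G) (fun R => by
      rw [htriv R, one_smul])
    rw [hz1] at hz3
    simp at hz3
  · rw [hn] at hNc
    have hN14 : Nat.card N = 14 := by omega
    rw [hN14] at hCc
    have hrel2 : C.relIndex N = 2 := by
      have h4 : C.relIndex N ∣ 14 := ⟨_, by rw [← hCc, mul_comm]⟩
      have h5 : C.relIndex N ∣ 2 := by
        have := Nat.dvd_gcd hrel h4
        simpa using this
      rcases (Nat.dvd_prime (by norm_num)).1 h5 with h6 | h6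
      · exfalso
        have h7 : N ≤ C := Subgroup.relIndex_eq_one.1 h6
        have h8 := Cfsg.Agent.Lib.Basic.SmallSimple.card_eq_of_le_centralizer
          (by rw [h]; norm_num) P h7
        rw [hPc, h] at h8
        omega
      · exact h6
    have hC7 : Nat.card C = 7 := by rw [hrel2] at hCc; omega
    have hPC : (P : Subgroup G) ≤ C := by
      rw [hPz]
      intro v hv
      obtain ⟨k, rfl⟩ := Subgroup.mem_zpowers_iff.1 hv
      rw [Subgroup.mem_centralizer_iff]
      intro w hw
      have hw' : w ∈ zpowers y := by rw [← hPz]; exact hw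
      obtain ⟨l, rfl⟩ := Subgroup.mem_zpowers_iff.1 hw'
      exact (Commute.zpow_zpow_self y l k)
    have hCP : C = P := (Subgroup.eq_of_le_of_card_ge hPC (by rw [hC7, hPc])).symm
    refine ⟨hn, ?_, ?_⟩
    · intro g hg
      rw [← hPz, ← hCP, hC, Subgroup.mem_centralizer_iff]
      intro w hw
      have hw' : w ∈ zpowers y := by rw [← hPz]; exact hw
      obtain ⟨l, rfl⟩ := Subgroup.mem_zpowers_iff.1 hw'
      exact ((Commute.zpow_left (show Commute y g from hg.symm) l)).eq
    · haveI : Fact (Nat.Prime 2) := ⟨Nat.prime_two⟩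
      obtain ⟨τ, hτ⟩ := exists_prime_orderOf_dvd_card' (G := N) 2 (by rw [hN14]; norm_num)
      have ht2 : orderOf (τ : G) = 2 := by rw [Subgroup.orderOf_coe]; exact hτ
      refine ⟨τ, ht2, ?_⟩
      have hmem : (τ : G) * y * (τ : G)⁻¹ ∈ zpowers y := by
        rw [← hPz]
        exact (Subgroup.mem_normalizer_iff.1 τ.2 y).1 hyP
      rw [mem_zpowers_iff_mem_range_orderOf, Finset.mem_image] at hmem
      obtain ⟨k, hk, hke⟩ := hmem
      rw [Finset.mem_range, hy] at hk
      have ht1 : (τ : G) * (τ : G) = 1 := by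
        rw [← pow_two, ← ht2]; exact pow_orderOf_eq_one _
      have htinv : (τ : G)⁻¹ = τ := inv_eq_of_mul_eq_one_left ht1
      have hkk : y ^ (k * k) = y := by
        have e1 : (τ : G) * (y ^ k) * (τ : G)⁻¹ = y := by
          rw [hke]
          calc (τ : G) * ((τ : G) * y * (τ : G)⁻¹) * (τ : G)⁻¹
              = ((τ : G) * (τ : G)) * y * ((τ : G)⁻¹ * (τ : G)⁻¹) := by group
            _ = y := by rw [htinv, ht1]; simp
        rw [← conj_pow, ← hke, ← pow_mul] at e1
        exact e1
      have hmod : k * k ≡ 1 [MOD 7] := by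
        have := (pow_eq_pow_iff_modEq (x := y) (n := k * k) (m := 1)).1 (by simpa using hkk)
        rwa [hy] at this
      have hcases : k = 1 ∨ k = 6 := by
        have h8 : k * k % 7 = 1 := hmod
        have h9 : ∀ k < 7, k * k % 7 = 1 → k = 1 ∨ k = 6 := by decide
        exact h9 k hk h8
      rcases hcases with rfl | rfl
      · exfalso
        -- τ commutes with y, hence lies in ⟨y⟩
        have hcomm : (τ : G) ∈ C := by
          rw [hC, Subgroup.mem_centralizer_iff]
          intro w hw
          have hw' : w ∈ zpowers y := by rw [← hPz]; exact hw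
          obtain ⟨l, rfl⟩ := Subgroup.mem_zpowers_iff.1 hw'
          have e : Commute y (τ : G) := by
            have : (τ : G) * y = y * τ := by
              rw [pow_one] at hke
              calc (τ : G) * y = ((τ : G) * y * (τ : G)⁻¹) * τ := by group
                _ = y * τ := by rw [← hke]
            exact this.symm
          exact (e.zpow_left l).eq
        have h8 : (τ : G) ∈ (P : Subgroup G) := by rw [← hCP]; exact hcomm
        have h9 := orderOf_dvd_natCard (⟨τ, h8⟩ : (P : Subgroup G))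
        rw [Subgroup.orderOf_mk, hPc, ht2] at h9
        omega
      · rw [← hke]
        have : y ^ 7 = 1 := by rw [← hy]; exact pow_orderOf_eq_one y
        rw [eq_inv_iff_mul_eq_one, ← pow_succ]
        exact this


/-- No proper subgroup has index `< 8`. -/
theorem eight_le_index (h : Nat.card G = 504) (H : Subgroup G) (hH : H ≠ ⊤) : 8 ≤ H.index := by
  haveI : Fact (Nat.Prime 7) := ⟨by norm_num⟩
  obtain ⟨y, hy⟩ := exists_prime_orderOf_dvd_card' (G := G) 7 (by rw [h]; norm_num)
  obtain ⟨-, -, t, ht, hty⟩ := seven_structure h hy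
  have h1 := seven_le_index h H hH
  have h2 : H.index ≠ 7 := fun h3 => no_index_seven h H h3 hy ht hty
  omega

section Three

variable [Fact (Nat.Prime 3)]

theorem card_three (h : Nat.card G = 504) (Q : Sylow 3 G) : Nat.card (Q : Subgroup G) = 9 := by
  simpa using card_sylow_of (p := 3) (k := 2) (m := 56) (by rw [h]; norm_num) (by norm_num) Q

theorem comm_three (h : Nat.card G = 504) (Q : Sylow 3 G) {a b : G} (ha : a ∈ (Q : Subgroup G))
    (hb : b ∈ (Q : Subgroup G)) : a * b = b * a := by
  have h1 := IsPGroup.commutative_of_card_eq_prime_sq (p := 3) (G := (Q : Subgroup G))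
    (by rw [card_three h Q]; norm_num) ⟨a, ha⟩ ⟨b, hb⟩
  exact congrArg Subtype.val h1

theorem card_normalizer_three (h : Nat.card G = 504) (Q : Sylow 3 G) :
    Nat.card (Subgroup.normalizer ((Q : Subgroup G) : Set G)) = 18 := by
  set N := Subgroup.normalizer ((Q : Subgroup G) : Set G) with hN
  have hidxN : N.index = Nat.card (Sylow 3 G) := (Sylow.card_eq_index_normalizer Q).symm
  have hNc := N.card_mul_index
  rw [hidxN, h] at hNc
  have hQc := card_three h Q
  have hidxQ : (Q : Subgroup G).index = 56 := by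
    have := (Q : Subgroup G).card_mul_index
    rw [hQc, h] at this
    omega
  have h1 : Nat.card (Sylow 3 G) ∣ 56 := hidxQ ▸ Q.card_dvd_index
  have h2 : Nat.card (Sylow 3 G) % 3 = 1 % 3 := card_sylow_modEq_one 3 G
  have hne : N ≠ ⊤ := by
    intro hNt
    haveI : (Q : Subgroup G).Normal := Subgroup.normalizer_eq_top_iff.1 hNt
    rcases (inferInstance : (Q : Subgroup G).Normal).eq_bot_or_eq_top with h3 | h3
    · rw [h3] at hQc; simp at hQc
    · rw [h3] at hQc; simp [h] at hQc
  have h3 := eight_le_index h N hne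
  rw [hidxN] at h3
  have h4 := Nat.le_of_dvd (by norm_num) h1
  have h5 : Nat.card (Sylow 3 G) = 28 ∨ Nat.card (Sylow 3 G) = 14 ∨ Nat.card (Sylow 3 G) = 8 ∨ Nat.card (Sylow 3 G) = 56 := by
    generalize Nat.card (Sylow 3 G) = n at *
    interval_cases n <;> first | omega | simp_all
  rcases h5 with h5 | h5 | h5 | h5 <;> rw [h5] at h2 hNc <;> omega

/-- A Sylow `3`-subgroup is inverted by an involution, and the normalizer is `Q ∪ Qt`. -/
theorem exists_inverting (h : Nat.card G = 504) (Q : Sylow 3 G) :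
    ∃ t : G, orderOf t = 2 ∧ t ∈ Subgroup.normalizer ((Q : Subgroup G) : Set G) ∧
      (∀ x ∈ (Q : Subgroup G), t * x * t⁻¹ = x⁻¹) ∧
      (∀ n ∈ Subgroup.normalizer ((Q : Subgroup G) : Set G), n ∈ (Q : Subgroup G) ∨
        n * t ∈ (Q : Subgroup G)) := by
  classical
  set N := Subgroup.normalizer ((Q : Subgroup G) : Set G) with hN
  have hNc : Nat.card N = 18 := card_normalizer_three h Q
  have hQc := card_three h Q
  haveI : Fact (Nat.Prime 2) := ⟨Nat.prime_two⟩
  obtain ⟨τ, hτ⟩ := exists_prime_orderOf_dvd_card' (G := N) 2 (by rw [hNc]; norm_num)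
  have ht2 : orderOf (τ : G) = 2 := by rw [Subgroup.orderOf_coe]; exact hτ
  set t : G := (τ : G) with ht
  have htN : t ∈ N := τ.2
  have ht1 : t * t = 1 := by
    rw [← pow_two, ← ht2]; exact pow_orderOf_eq_one _
  have htinv : t⁻¹ = t := inv_eq_of_mul_eq_one_left ht1
  have htQ : t ∉ (Q : Subgroup G) := by
    intro h1
    have h2 := orderOf_dvd_natCard (⟨t, h1⟩ : (Q : Subgroup G))
    rw [Subgroup.orderOf_mk, hQc, ht2] at h2
    omega
  have hconjQ : ∀ x ∈ (Q : Subgroup G), t * x * t⁻¹ ∈ (Q : Subgroup G) := fun x hx =>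
    (Subgroup.mem_normalizer_iff.1 htN x).1 hx
  -- the index two property
  have hQN : (Q : Subgroup G) ≤ N := Subgroup.le_normalizer
  have hidx : ((Q : Subgroup G).subgroupOf N).index = 2 := by
    have h3 := ((Q : Subgroup G).subgroupOf N).card_mul_index
    have h4 : Nat.card ((Q : Subgroup G).subgroupOf N) = Nat.card (Q : Subgroup G) :=
      Nat.card_congr (Subgroup.subgroupOfEquivOfLe hQN).toEquiv
    rw [h4, hQc, hNc] at h3
    omega
  have hcoset : ∀ n ∈ N, n ∈ (Q : Subgroup G) ∨ n * t ∈ (Q : Subgroup G) := by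
    intro n hn
    by_cases h1 : n ∈ (Q : Subgroup G)
    · exact Or.inl h1
    · right
      have h3 := (Subgroup.mul_mem_iff_of_index_two hidx (a := ⟨n, hn⟩) (b := τ)).2
        ⟨fun h4 => absurd h4 h1, fun h4 => absurd h4 htQ⟩
      exact h3
  -- the subgroup of inverted elements
  have hcQ := fun {a b : G} => comm_three h Q (a := a) (b := b)
  let W : Subgroup G :=
    { carrier := {x | x ∈ (Q : Subgroup G) ∧ x * (t * x * t⁻¹) = 1}
      one_mem' := ⟨one_mem _, by simp⟩
      mul_mem' := by
        rintro a b ⟨ha, ha'⟩ ⟨hb, hb'⟩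
        refine ⟨mul_mem ha hb, ?_⟩
        have e : a * b * (t * (a * b) * t⁻¹) = a * (b * (t * a * t⁻¹)) * (t * b * t⁻¹) := by group
        rw [e, hcQ hb (hconjQ a ha)]
        calc a * ((t * a * t⁻¹) * b) * (t * b * t⁻¹)
            = (a * (t * a * t⁻¹)) * (b * (t * b * t⁻¹)) := by group
          _ = 1 := by rw [ha', hb', one_mul]
      inv_mem' := by
        rintro a ⟨ha, ha'⟩
        refine ⟨inv_mem ha, ?_⟩
        have e : t * a⁻¹ * t⁻¹ = (t * a * t⁻¹)⁻¹ := by group
        rw [e, ← mul_inv_rev, ← hcQ ha (hconjQ a ha), ha', inv_one] }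
  have hfoc : (Q : Subgroup G) ≤ (Q : Subgroup G).focalSubgroup := by
    have h1 := Subgroup.commutator_inf_eq_focalSubgroup Q
    rw [commutator_eq_top h, top_inf_eq] at h1
    exact h1.le
  have hfW : (Q : Subgroup G).focalSubgroup ≤ W := by
    rw [Subgroup.focalSubgroup_def, Subgroup.closure_le]
    rintro g ⟨hg, x, hx, u, rfl⟩
    have hz : u * x⁻¹ * u⁻¹ ∈ (Q : Subgroup G) := by
      have e : u * x⁻¹ * u⁻¹ = x⁻¹ * ⁅x, u⁆ := by
        rw [commutatorElement_def]; group
      rw [e]
      exact mul_mem (inv_mem hx) hg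
    obtain ⟨n, hn, hne⟩ := Cfsg.Agent.Lib.Basic.SylowUtil.burnside_fusion Q {x⁻¹} u
      (by
        rintro _ rfl y hy
        exact hcQ (inv_mem hx) hy)
      (by
        rintro _ rfl y hy
        exact hcQ hz hy)
    have hne' := hne x⁻¹ rfl
    have hgform : ⁅x, u⁆ = x * (n * x⁻¹ * n⁻¹) := by
      rw [hne', commutatorElement_def]; group
    rcases hcoset n hn with h1 | h1
    · have e : n * x⁻¹ * n⁻¹ = x⁻¹ := by
        rw [hcQ h1 (inv_mem hx)]; group
      rw [hgform, e, mul_inv_cancel]
      exact one_mem _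
    · set q := n * t with hq
      have hn' : n = q * t := by
        rw [hq, mul_assoc, ht1, mul_one]
      have e : n * x⁻¹ * n⁻¹ = t * x⁻¹ * t⁻¹ := by
        have e1 : n * x⁻¹ * n⁻¹ = q * (t * x⁻¹ * t⁻¹) * q⁻¹ := by
          rw [hn']
          simp only [mul_inv_rev, htinv]
          group
        rw [e1, hcQ h1 (hconjQ _ (inv_mem hx))]
        group
      rw [hgform, e]
      refine ⟨mul_mem hx (hconjQ _ (inv_mem hx)), ?_⟩
      have e2 : t * (x * (t * x⁻¹ * t⁻¹)) * t⁻¹ = (t * x * t⁻¹) * x⁻¹ := by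
        rw [htinv]
        calc t * (x * (t * x⁻¹ * t)) * t = (t * x * t) * x⁻¹ * (t * t) := by group
          _ = _ := by rw [ht1, mul_one]
      rw [e2]
      rw [show x * (t * x⁻¹ * t⁻¹) * (t * x * t⁻¹ * x⁻¹) = 1 by group]
  refine ⟨t, ht2, htN, ?_, hcoset⟩
  intro x hx
  have h1 : x ∈ W := hfW (hfoc hx)
  exact eq_inv_of_mul_eq_one_right h1.2

/-- Sylow `3`-subgroups intersect trivially. -/
theorem three_TI (h : Nat.card G = 504) (Q Q' : Sylow 3 G) (hne : Q ≠ Q') {x : G}
    (hx : x ∈ (Q : Subgroup G)) (hx' : x ∈ (Q' : Subgroup G)) : x = 1 := by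
  classical
  by_contra hx1
  obtain ⟨t, ht2, htN, htinv, -⟩ := exists_inverting h Q
  let C := Subgroup.centralizer ({x} : Set G)
  have hQC : (Q : Subgroup G) ≤ C := fun v hv => by
    rw [Subgroup.mem_centralizer_singleton_iff]
    exact comm_three h Q hv hx
  have hQC' : (Q' : Subgroup G) ≤ C := fun v hv => by
    rw [Subgroup.mem_centralizer_singleton_iff]
    exact comm_three h Q' hv hx'
  have hn2 : Nat.card (Sylow 3 C) ≠ 1 := by
    intro h1
    haveI : Subsingleton (Sylow 3 C) := (Nat.card_eq_one_iff_unique.1 h1).1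
    have h2 : Q.subtype hQC = Q'.subtype hQC' := Subsingleton.elim _ _
    have h3 : ((Q.subtype hQC : Sylow 3 C) : Subgroup C) = ((Q'.subtype hQC' : Sylow 3 C) : Subgroup C) :=
      congrArg _ h2
    apply hne
    apply Sylow.ext
    have h4 := congrArg (Subgroup.map C.subtype) h3
    simpa [Sylow.coe_subtype, Subgroup.subgroupOf_map_subtype, inf_eq_left.2 hQC, inf_eq_left.2 hQC'] using h4
  have hmod : Nat.card (Sylow 3 C) % 3 = 1 % 3 := card_sylow_modEq_one 3 C
  have hdvd : Nat.card (Sylow 3 C) ∣ ((Q.subtype hQC : Sylow 3 C) : Subgroup C).index :=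
    Sylow.card_dvd_index _
  have hcardsub : Nat.card ((Q.subtype hQC : Sylow 3 C) : Subgroup C) = 9 := by
    rw [Sylow.coe_subtype]
    rw [show Nat.card ((Q : Subgroup G).subgroupOf C) = Nat.card (Q : Subgroup G) from
      Nat.card_congr (Subgroup.subgroupOfEquivOfLe hQC).toEquiv]
    exact card_three h Q
  have hCcard := ((Q.subtype hQC : Sylow 3 C) : Subgroup C).card_mul_index
  rw [hcardsub] at hCcard
  set m := ((Q.subtype hQC : Sylow 3 C) : Subgroup C).index with hm
  have hmpos : 0 < m := by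
    apply Nat.pos_of_ne_zero
    intro h0
    rw [h0] at hCcard
    have : 0 < Nat.card C := Nat.card_pos
    omega
  have hn4 : 4 ≤ m := by
    have h1 := Nat.le_of_dvd hmpos hdvd
    have h2 : Nat.card (Sylow 3 C) ≠ 0 := Nat.card_pos.ne'
    omega
  -- the normalizer of `⟨x⟩`
  let H := Subgroup.normalizer ((zpowers x : Subgroup G) : Set G)
  have hCH : C ≤ H := by
    intro g hg
    rw [Subgroup.mem_centralizer_singleton_iff] at hg
    rw [Subgroup.mem_normalizer_iff]
    intro w
    have hgconj : ∀ k : ℤ, g * x ^ k * g⁻¹ = x ^ k := by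
      intro k
      have : Commute g (x ^ k) := (show Commute g x from hg).zpow_right k
      rw [this.eq]; group
    constructor
    · intro hw
      obtain ⟨k, rfl⟩ := Subgroup.mem_zpowers_iff.1 hw
      rw [hgconj]; exact hw
    · intro hw
      obtain ⟨k, hk⟩ := Subgroup.mem_zpowers_iff.1 hw
      have : w = x ^ k := by
        have h3 : g * w * g⁻¹ = g * x ^ k * g⁻¹ := by rw [← hk, hgconj]
        exact mul_left_cancel (mul_right_cancel h3)
      rw [this]
      exact Subgroup.zpow_mem_zpowers x k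
  have htH : t ∈ H := by
    rw [Subgroup.mem_normalizer_iff]
    intro w
    have hconj : ∀ k : ℤ, t * x ^ k * t⁻¹ = (x ^ k)⁻¹ := by
      intro k
      rw [← conj_zpow, htinv x hx, inv_zpow]
    have ht1 : t * t = 1 := by
      rw [← pow_two, ← ht2]; exact pow_orderOf_eq_one _
    have htinv' : t⁻¹ = t := inv_eq_of_mul_eq_one_left ht1
    constructor
    · intro hw
      obtain ⟨k, rfl⟩ := Subgroup.mem_zpowers_iff.1 hw
      rw [hconj]
      exact inv_mem hw
    · intro hw
      obtain ⟨k, hk⟩ := Subgroup.mem_zpowers_iff.1 hw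
      have : w = (x ^ k)⁻¹ := by
        have e : w = t * (t * w * t⁻¹) * t⁻¹ := by
          rw [htinv']
          calc w = (t * t) * w * (t * t) := by rw [ht1]; group
            _ = _ := by group
        rw [e, ← hk, hconj k]
      rw [this]
      exact inv_mem (Subgroup.zpow_mem_zpowers x k)
  have hodd : x * x ≠ 1 := by
    intro hxx
    have h1 : orderOf x ∣ 2 := orderOf_dvd_of_pow_eq_one (by rw [pow_two]; exact hxx)
    have h2 : orderOf x ∣ 9 := by
      rw [← card_three h Q]
      have := orderOf_dvd_natCard (⟨x, hx⟩ : (Q : Subgroup G))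
      rwa [Subgroup.orderOf_mk] at this
    have h3 : orderOf x ∣ Nat.gcd 2 9 := Nat.dvd_gcd h1 h2
    have h4 : orderOf x = 1 := by simpa using h3
    exact hx1 (orderOf_eq_one_iff.1 h4)
  have htC : t ∉ C := by
    intro h1
    rw [Subgroup.mem_centralizer_singleton_iff] at h1
    have h2 := htinv x hx
    rw [h1] at h2
    apply hodd
    have e : x * t * t⁻¹ = x := by group
    rw [e] at h2
    calc x * x = x * x⁻¹ := by rw [← h2]
      _ = 1 := by group
  have hCH' : Nat.card C ∣ Nat.card H := Subgroup.card_dvd_of_le hCH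
  have hne2 : Nat.card C ≠ Nat.card H := by
    intro h1
    have := Subgroup.eq_of_le_of_card_ge hCH h1.symm.le
    exact htC (this ▸ htH)
  obtain ⟨k, hk⟩ := hCH'
  have hk2 : 2 ≤ k := by
    rcases k with _ | _ | k
    · have := Nat.card_pos (α := H)
      simp at hk
      omega
    · simp at hk; omega
    · omega
  have hHge : 72 ≤ Nat.card H := by
    rw [hk]
    nlinarith
  have hHne : H ≠ ⊤ := by
    intro h1
    haveI : (zpowers x).Normal := Subgroup.normalizer_eq_top_iff.1 h1
    rcases (inferInstance : (zpowers x).Normal).eq_bot_or_eq_top with h3 | h3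
    · exact hx1 (Subgroup.zpowers_eq_bot.1 h3)
    · have h4 : Nat.card (zpowers x) = 504 := by rw [h3]; simpa using h
      rw [Nat.card_zpowers] at h4
      have h5 : orderOf x ∣ 9 := by
        rw [← card_three h Q]
        have := orderOf_dvd_natCard (⟨x, hx⟩ : (Q : Subgroup G))
        rwa [Subgroup.orderOf_mk] at this
      rw [h4] at h5
      omega
  have h8 := eight_le_index h H hHne
  have h9 := H.card_mul_index
  rw [h] at h9
  nlinarith

/-- `C(x) = Q` for `1 ≠ x ∈ Q`. -/
theorem cent_three (h : Nat.card G = 504) (Q : Sylow 3 G) {x : G} (hx : x ∈ (Q : Subgroup G))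
    (hx1 : x ≠ 1) {g : G} (hg : g * x = x * g) : g ∈ (Q : Subgroup G) := by
  obtain ⟨t, ht2, htN, htinv, hcoset⟩ := exists_inverting h Q
  have hgQ : g • Q = Q := by
    by_contra hne
    apply hx1
    refine three_TI h (g • Q) Q hne ?_ hx
    rw [Cfsg.Agent.Lib.Basic.SylowUtil.coe_smul_sylow, Cfsg.Agent.Lib.Basic.Conj.mem_conj_smul_iff]
    have e : g⁻¹ * x * g = x := by
      rw [mul_assoc, ← hg]; group
    rw [e]; exact hx
  have hgN : g ∈ Subgroup.normalizer ((Q : Subgroup G) : Set G) :=
    Sylow.smul_eq_iff_mem_normalizer.1 hgQ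
  rcases hcoset g hgN with h1 | h1
  · exact h1
  · exfalso
    set q := g * t with hq
    have ht1 : t * t = 1 := by
      rw [← pow_two, ← ht2]; exact pow_orderOf_eq_one _
    have htinv' : t⁻¹ = t := inv_eq_of_mul_eq_one_left ht1
    have hgq : g = q * t := by rw [hq, mul_assoc, ht1, mul_one]
    have e1 : g * x * g⁻¹ = x := by rw [hg]; group
    have e2 : g * x * g⁻¹ = q * x⁻¹ * q⁻¹ := by
      rw [← htinv x hx, hgq]
      simp only [mul_inv_rev, htinv']
      group
    have e3 : q * x⁻¹ * q⁻¹ = x⁻¹ := by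
      rw [comm_three h Q h1 (inv_mem hx)]; group
    rw [e3, e1] at e2
    have hxx : x * x = 1 := by
      calc x * x = x * x⁻¹ := by rw [← e2]
        _ = 1 := by group
    have h5 : orderOf x ∣ 2 := orderOf_dvd_of_pow_eq_one (by rw [pow_two]; exact hxx)
    have h6 : orderOf x ∣ 9 := by
      rw [← card_three h Q]
      have := orderOf_dvd_natCard (⟨x, hx⟩ : (Q : Subgroup G))
      rwa [Subgroup.orderOf_mk] at this
    have h7 : orderOf x ∣ Nat.gcd 2 9 := Nat.dvd_gcd h5 h6
    have h8 : orderOf x = 1 := by simpa using h7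
    exact hx1 (orderOf_eq_one_iff.1 h8)

end Three


section Count

variable [Fact (Nat.Prime 3)]

theorem card_T_le (h : Nat.card G = 504) [Fintype G] [DecidableEq G] [∀ g : G, Decidable (orderOf g ∣ 8)] :
    (Finset.univ.filter (fun g : G => orderOf g ∣ 8)).card ≤ 64 := by
  classical
  haveI : Fact (Nat.Prime 7) := ⟨by norm_num⟩
  haveI : Fintype (Sylow 3 G) := Fintype.ofFinite _
  obtain ⟨y, hy⟩ := exists_prime_orderOf_dvd_card' (G := G) 7 (by rw [h]; norm_num)
  obtain ⟨hn7, -, -⟩ := seven_structure h hy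
  have hcard7 : ∀ Q : Sylow 7 G, Nat.card Q = 7 := fun Q => by
    simpa using card_sylow_of (p := 7) (k := 1) (m := 72) (by rw [h]; norm_num) (by norm_num) Q
  have hA7 : (Finset.univ.filter (fun g : G => orderOf g = 7)).card = 216 := by
    have h1 := Cfsg.Agent.Lib.Basic.SylowCount.card_orderOf_eq (G := G) (s := 7) hcard7
    rw [hn7, Nat.card_eq_fintype_card, Fintype.card_subtype] at h1
    rw [h1]
  let τ : Sylow 3 G → Finset G := fun Q => (Finset.univ.filter (· ∈ (Q : Subgroup G))).erase 1
  have hτc : ∀ Q, (τ Q).card = 8 := by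
    intro Q
    rw [Finset.card_erase_of_mem (by simp [Subgroup.one_mem])]
    have h1 := card_three h Q
    rw [Nat.card_eq_fintype_card, Fintype.card_subtype] at h1
    rw [show (Finset.univ.filter (· ∈ (Q : Subgroup G))).card = 9 by convert h1]
  have hn3 : Fintype.card (Sylow 3 G) = 28 := by
    obtain ⟨Q⟩ : Nonempty (Sylow 3 G) := inferInstance
    have h1 := (Subgroup.normalizer ((Q : Subgroup G) : Set G)).card_mul_index
    have hi : (Subgroup.normalizer ((Q : Subgroup G) : Set G)).index = Nat.card (Sylow 3 G) :=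
      (Sylow.card_eq_index_normalizer Q).symm
    rw [card_normalizer_three h Q, h, hi, Nat.card_eq_fintype_card] at h1
    omega
  have hA3 : (Finset.univ.biUnion τ).card = 224 := by
    rw [Finset.card_biUnion]
    · simp [hτc, hn3]
    · intro Q _ Q' _ hne
      change Disjoint (τ Q) (τ Q')
      rw [Finset.disjoint_left]
      intro x hx hx'
      simp only [τ, Finset.mem_erase, Finset.mem_filter, Finset.mem_univ, true_and] at hx hx'
      exact hx.1 (three_TI h Q Q' hne hx.2 hx'.2)
  have hord3 : ∀ x ∈ Finset.univ.biUnion τ, orderOf x ∣ 9 ∧ x ≠ 1 := by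
    intro x hx
    simp only [τ, Finset.mem_biUnion, Finset.mem_univ, true_and, Finset.mem_erase, Finset.mem_filter] at hx
    obtain ⟨Q, hx1, hxQ⟩ := hx
    refine ⟨?_, hx1⟩
    rw [← card_three h Q]
    have := orderOf_dvd_natCard (⟨x, hxQ⟩ : (Q : Subgroup G))
    rwa [Subgroup.orderOf_mk] at this
  have hd1 : Disjoint (Finset.univ.filter (fun g : G => orderOf g ∣ 8))
      (Finset.univ.filter (fun g : G => orderOf g = 7)) := by
    rw [Finset.disjoint_left]
    intro x hx hx'
    simp only [Finset.mem_filter, Finset.mem_univ, true_and] at hx hx'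
    rw [hx'] at hx
    omega
  have hd2 : Disjoint ((Finset.univ.filter (fun g : G => orderOf g ∣ 8)) ∪
      (Finset.univ.filter (fun g : G => orderOf g = 7))) (Finset.univ.biUnion τ) := by
    rw [Finset.disjoint_left]
    intro x hx hx'
    obtain ⟨h9, h1⟩ := hord3 x hx'
    simp only [Finset.mem_union, Finset.mem_filter, Finset.mem_univ, true_and] at hx
    rcases hx with hx | hx
    · have h3 : orderOf x ∣ Nat.gcd 8 9 := Nat.dvd_gcd hx h9
      have h4 : orderOf x = 1 := by simpa using h3
      exact h1 (orderOf_eq_one_iff.1 h4)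
    · rw [hx] at h9
      omega
  have hle := Finset.card_le_univ (((Finset.univ.filter (fun g : G => orderOf g ∣ 8)) ∪
      (Finset.univ.filter (fun g : G => orderOf g = 7))) ∪ (Finset.univ.biUnion τ))
  rw [Finset.card_union_of_disjoint hd2, Finset.card_union_of_disjoint hd1, hA7, hA3,
    ← Nat.card_eq_fintype_card, h] at hle
  omega

theorem involution_structure (h : Nat.card G = 504) [Fintype G] [DecidableEq G]
    [∀ g : G, Decidable (orderOf g ∣ 8)] {t : G} (ht : orderOf t = 2) :
    Nat.card (Subgroup.centralizer ({t} : Set G)) = 8 ∧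
      (∀ g, orderOf g ∣ 8 → g ≠ 1 → IsConj t g) ∧
      (Finset.univ.filter (fun g : G => orderOf g ∣ 8)).card = 64 := by
  classical
  haveI : Fact (Nat.Prime 7) := ⟨by norm_num⟩
  set C := Subgroup.centralizer ({t} : Set G) with hC
  have hnot3 : ¬ 3 ∣ Nat.card C := by
    intro h3
    obtain ⟨z, hz⟩ := exists_prime_orderOf_dvd_card' 3 h3
    have hz3 : orderOf (z : G) = 3 := by rw [Subgroup.orderOf_coe]; exact hz
    obtain ⟨Q, hQ⟩ := Cfsg.Agent.Lib.Basic.SylowCount.exists_sylow_mem hz3
    have hzt : t * (z : G) = z * t := by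
      have := Subgroup.mem_centralizer_singleton_iff.1 z.2
      exact this.symm
    have hz1 : (z : G) ≠ 1 := by
      intro e; rw [e, orderOf_one] at hz3; omega
    have htQ := cent_three h Q hQ hz1 hzt
    have h2 := orderOf_dvd_natCard (⟨t, htQ⟩ : (Q : Subgroup G))
    rw [Subgroup.orderOf_mk, card_three h Q, ht] at h2
    omega
  have hnot7 : ¬ 7 ∣ Nat.card C := by
    intro h3
    obtain ⟨z, hz⟩ := exists_prime_orderOf_dvd_card' 7 h3
    have hz3 : orderOf (z : G) = 7 := by rw [Subgroup.orderOf_coe]; exact hz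
    obtain ⟨-, hcent, -⟩ := seven_structure h hz3
    have hzt : t * (z : G) = z * t := by
      have := Subgroup.mem_centralizer_singleton_iff.1 z.2
      exact this.symm
    have h2 := orderOf_dvd_of_mem_zpowers (hcent t hzt)
    rw [ht, hz3] at h2
    omega
  have hcop : Nat.Coprime (Nat.card C) 63 := by
    have e : 63 = 3 ^ 2 * 7 := by norm_num
    rw [e]
    apply Nat.Coprime.mul_right
    · apply Nat.Coprime.pow_right
      exact ((Nat.Prime.coprime_iff_not_dvd (by norm_num)).2 hnot3).symm
    · exact ((Nat.Prime.coprime_iff_not_dvd (by norm_num)).2 hnot7).symm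
  have hCdvd : Nat.card C ∣ 8 := by
    have h1 : Nat.card C ∣ 8 * 63 := by
      rw [show 8 * 63 = 504 by norm_num, ← h]
      exact Subgroup.card_subgroup_dvd_card _
    exact hcop.dvd_of_dvd_mul_right h1
  have hcl := Cfsg.Agent.Lib.Basic.ConjCount.card_isConj_mul_card_centralizer t
  rw [h, ← hC] at hcl
  rw [Nat.card_eq_fintype_card, Fintype.card_subtype] at hcl
  set clf := Finset.univ.filter (fun y : G => IsConj t y) with hclf
  have h1nin : (1 : G) ∉ clf := by
    simp only [hclf, Finset.mem_filter, Finset.mem_univ, true_and, isConj_one_right]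
    intro e
    rw [isConj_one_right.1 e.symm, orderOf_one] at ht
    omega
  have hsub : insert 1 clf ⊆ Finset.univ.filter (fun g : G => orderOf g ∣ 8) := by
    intro g hg
    simp only [Finset.mem_insert, hclf, Finset.mem_filter, Finset.mem_univ, true_and] at hg ⊢
    rcases hg with rfl | hg
    · simp
    · rw [← Cfsg.Agent.Lib.Basic.ConjCount.orderOf_eq_of_isConj hg, ht]
      norm_num
  have hle1 := Finset.card_le_card hsub
  rw [Finset.card_insert_of_notMem h1nin] at hle1
  have hle2 := card_T_le h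
  have hCle := Nat.le_of_dvd (by norm_num) hCdvd
  have hc63 : clf.card = 63 := by
    have h1 : 63 ≤ clf.card := by
      by_contra hlt
      push Not at hlt
      have : clf.card * Nat.card C ≤ 62 * 8 := Nat.mul_le_mul (by omega) hCle
      omega
    omega
  have hC8 : Nat.card C = 8 := by
    rw [hc63] at hcl
    omega
  have hT64 : (Finset.univ.filter (fun g : G => orderOf g ∣ 8)).card = 64 := by omega
  have heq : insert 1 clf = Finset.univ.filter (fun g : G => orderOf g ∣ 8) :=
    Finset.eq_of_subset_of_card_le hsub (by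
      rw [Finset.card_insert_of_notMem h1nin, hT64, hc63])
  refine ⟨hC8, ?_, hT64⟩
  intro g hg hg1
  have : g ∈ insert 1 clf := by
    rw [heq]
    simpa using hg
  simp only [Finset.mem_insert, hg1, false_or, hclf, Finset.mem_filter, Finset.mem_univ, true_and] at this
  exact this

end Count

section Two

variable [Fact (Nat.Prime 3)] [Fact (Nat.Prime 2)]

theorem card_two (h : Nat.card G = 504) (S : Sylow 2 G) : Nat.card (S : Subgroup G) = 8 := by
  simpa using card_sylow_of (p := 2) (k := 3) (m := 63) (by rw [h]; norm_num) (by norm_num) S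

theorem sq_two (h : Nat.card G = 504) (S : Sylow 2 G) {g : G} (hg : g ∈ (S : Subgroup G)) :
    g * g = 1 := by
  classical
  haveI := Fintype.ofFinite G
  by_cases hg1 : g = 1
  · rw [hg1, one_mul]
  obtain ⟨t, ht⟩ := exists_prime_orderOf_dvd_card' (G := G) 2 (by rw [h]; norm_num)
  have h8 : orderOf g ∣ 8 := by
    rw [← card_two h S]
    have := orderOf_dvd_natCard (⟨g, hg⟩ : (S : Subgroup G))
    rwa [Subgroup.orderOf_mk] at this
  obtain ⟨-, hconj, -⟩ := involution_structure h ht
  have h2 := Cfsg.Agent.Lib.Basic.ConjCount.orderOf_eq_of_isConj (hconj g h8 hg1)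
  have h3 : orderOf g = 2 := by rw [← h2, ht]
  rw [← pow_two, ← h3]
  exact pow_orderOf_eq_one g

theorem cent_two_eq (h : Nat.card G = 504) (S : Sylow 2 G) {g : G} (hg : g ∈ (S : Subgroup G))
    (hg1 : g ≠ 1) : Subgroup.centralizer ({g} : Set G) = (S : Subgroup G) := by
  classical
  haveI := Fintype.ofFinite G
  have hS : ∀ a ∈ (S : Subgroup G), ∀ b ∈ (S : Subgroup G), a * b = b * a := by
    intro a ha b hb
    have h1 := sq_two h S (mul_mem ha hb)
    have h2 := sq_two h S ha
    have h3 := sq_two h S hb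
    calc a * b = a * (a * b * (a * b)) * b := by rw [h1, mul_one]
      _ = (a * a) * (b * a) * (b * b) := by group
      _ = b * a := by rw [h2, h3, one_mul, mul_one]
  have hle : (S : Subgroup G) ≤ Subgroup.centralizer ({g} : Set G) := by
    intro v hv
    rw [Subgroup.mem_centralizer_singleton_iff]
    exact hS v hv g hg
  have h2 : orderOf g = 2 := by
    obtain ⟨t, ht⟩ := exists_prime_orderOf_dvd_card' (G := G) 2 (by rw [h]; norm_num)
    have h8 : orderOf g ∣ 8 := by
      rw [← card_two h S]
      have := orderOf_dvd_natCard (⟨g, hg⟩ : (S : Subgroup G))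
      rwa [Subgroup.orderOf_mk] at this
    obtain ⟨-, hconj, -⟩ := involution_structure h ht
    rw [← Cfsg.Agent.Lib.Basic.ConjCount.orderOf_eq_of_isConj (hconj g h8 hg1), ht]
  obtain ⟨hc8, -, -⟩ := involution_structure h h2
  exact (Subgroup.eq_of_le_of_card_ge hle (by rw [hc8, card_two h S])).symm

theorem two_TI (h : Nat.card G = 504) (S S' : Sylow 2 G) (hne : S ≠ S') {g : G}
    (hg : g ∈ (S : Subgroup G)) (hg' : g ∈ (S' : Subgroup G)) : g = 1 := by
  by_contra hg1
  apply hne
  apply Sylow.ext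
  rw [← cent_two_eq h S hg hg1, ← cent_two_eq h S' hg' hg1]

theorem card_sylow_two_eq (h : Nat.card G = 504) : Nat.card (Sylow 2 G) = 9 := by
  classical
  haveI := Fintype.ofFinite G
  haveI : Fintype (Sylow 2 G) := Fintype.ofFinite _
  obtain ⟨t, ht⟩ := exists_prime_orderOf_dvd_card' (G := G) 2 (by rw [h]; norm_num)
  obtain ⟨-, -, hT⟩ := involution_structure h ht
  let τ : Sylow 2 G → Finset G := fun Q => (Finset.univ.filter (· ∈ (Q : Subgroup G))).erase 1
  have hτc : ∀ Q, (τ Q).card = 7 := by
    intro Q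
    rw [Finset.card_erase_of_mem (by simp [Subgroup.one_mem])]
    have h1 := card_two h Q
    rw [Nat.card_eq_fintype_card, Fintype.card_subtype] at h1
    rw [show (Finset.univ.filter (· ∈ (Q : Subgroup G))).card = 8 by convert h1]
  have hU : Finset.univ.biUnion τ = (Finset.univ.filter (fun g : G => orderOf g ∣ 8)).erase 1 := by
    ext x
    simp only [τ, Finset.mem_biUnion, Finset.mem_univ, true_and, Finset.mem_erase, Finset.mem_filter]
    constructor
    · rintro ⟨Q, hx1, hxQ⟩
      refine ⟨hx1, ?_⟩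
      rw [← card_two h Q]
      have := orderOf_dvd_natCard (⟨x, hxQ⟩ : (Q : Subgroup G))
      rwa [Subgroup.orderOf_mk] at this
    · rintro ⟨hx1, hx8⟩
      obtain ⟨k, -, hk⟩ := (Nat.dvd_prime_pow Nat.prime_two).1 (show orderOf x ∣ 2 ^ 3 by simpa using hx8)
      obtain ⟨Q, hQ⟩ := Cfsg.Agent.Lib.Basic.SylowUtil.exists_sylow_of_orderOf hk
      exact ⟨Q, hx1, hQ⟩
  have hcardU : (Finset.univ.biUnion τ).card = Fintype.card (Sylow 2 G) * 7 := by
    rw [Finset.card_biUnion]
    · simp [hτc]
    · intro Q _ Q' _ hne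
      change Disjoint (τ Q) (τ Q')
      rw [Finset.disjoint_left]
      intro x hx hx'
      simp only [τ, Finset.mem_erase, Finset.mem_filter, Finset.mem_univ, true_and] at hx hx'
      exact hx.1 (two_TI h Q Q' hne hx.2 hx'.2)
  rw [hU, Finset.card_erase_of_mem (by simp), hT] at hcardU
  rw [Nat.card_eq_fintype_card]
  omega

theorem isZass (h : Nat.card G = 504) : Cfsg.IsZassenhausGroup G (Sylow 2 G) := by
  classical
  have hn2 := card_sylow_two_eq (G := G) h
  have hcard : ∀ Q : Sylow 2 G, Nat.card (Sylow 2 G) = Nat.card (Q : Subgroup G) + 1 := by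
    intro Q
    rw [hn2, card_two h Q]
  have hTI : ∀ Q R : Sylow 2 G, Q ≠ R → ∀ v, v ∈ (Q : Subgroup G) → v ∈ (R : Subgroup G) → v = 1 :=
    fun Q R hne v hv hv' => two_TI h Q R hne hv hv'
  refine Cfsg.Agent.Lib.SmallCen.SylowZass.isZassenhaus hcard hTI ?_ ?_
  · intro g a b c hab hbc hac ga gb gc
    obtain ⟨v, hv, hv1, hcomm⟩ := Cfsg.Agent.Lib.SmallCen.SylowZass.exists_comm hcard hTI
      (P := a) (Q := b) (R := c) hab.symm hac.symm hbc ga gb gc
    have hga : g ∈ (a : Subgroup G) := by
      rw [← cent_two_eq h a hv hv1, Subgroup.mem_centralizer_singleton_iff]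
      exact hcomm
    have hgb : g ∈ (b : Subgroup G) := Cfsg.Agent.Lib.SmallCen.SylowZass.mem_of_smul_eq hga gb
    exact two_TI h a b hab hga hgb
  · haveI : Fact (Nat.Prime 7) := ⟨by norm_num⟩
    obtain ⟨S⟩ : Nonempty (Sylow 2 G) := inferInstance
    set N := Subgroup.normalizer ((S : Subgroup G) : Set G) with hN
    have hNc : Nat.card N = 56 := by
      have h1 := N.card_mul_index
      have hi : N.index = Nat.card (Sylow 2 G) := (Sylow.card_eq_index_normalizer S).symm
      rw [h, hi, hn2] at h1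
      omega
    obtain ⟨y, hy⟩ := exists_prime_orderOf_dvd_card' (G := N) 7 (by rw [hNc]; norm_num)
    have hy7 : orderOf (y : G) = 7 := by rw [Subgroup.orderOf_coe]; exact hy
    have hp7 : IsPGroup 7 (zpowers (y : G)) := by
      apply IsPGroup.of_card (n := 1)
      rw [Nat.card_zpowers, hy7, pow_one]
    have hfix := hp7.card_modEq_card_fixedPoints (Sylow 2 G)
    rw [hn2] at hfix
    have hSfix : S ∈ MulAction.fixedPoints (zpowers (y : G)) (Sylow 2 G) := by
      rintro ⟨w, hw⟩
      obtain ⟨k, rfl⟩ := Subgroup.mem_zpowers_iff.1 hw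
      change (y : G) ^ k • S = S
      rw [Sylow.smul_eq_iff_mem_normalizer]
      exact Subgroup.zpow_mem _ y.2 k
    obtain ⟨Q, hQfix, hQne⟩ : ∃ Q ∈ MulAction.fixedPoints (zpowers (y : G)) (Sylow 2 G), Q ≠ S := by
      by_contra hno
      push Not at hno
      have : MulAction.fixedPoints (zpowers (y : G)) (Sylow 2 G) = {S} := by
        ext Q
        constructor
        · exact fun hQ => hno Q hQ
        · rintro rfl; exact hSfix
      rw [this, Nat.card_unique] at hfix
      simp [Nat.ModEq] at hfix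
    refine ⟨y, ?_, S, Q, hQne.symm, hSfix ⟨y, Subgroup.mem_zpowers _⟩, hQfix ⟨y, Subgroup.mem_zpowers _⟩⟩
    intro e
    rw [e, orderOf_one] at hy7
    omega

end Two


theorem card_field_eq {K : Type} [Field K] [Fintype K]
    (hK : Nat.card (Matrix.ProjectiveSpecialLinearGroup (Fin 2) K) = 504) : Fintype.card K = 8 := by
  have hq : 2 ≤ Fintype.card K := Fintype.one_lt_card
  set q := Fintype.card K with hqd
  by_cases h2 : (2 : K) = 0
  · have h1 := Cfsg.Agent.Lib.PSL2.Basic.card_PSL2_of_two_eq_zero (F := K) h2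
    rw [hK, ← hqd] at h1
    have hq9 : q < 9 := by
      by_contra hge
      push Not at hge
      have h3 : 81 ≤ q ^ 2 := by nlinarith
      have h4 : 80 ≤ q ^ 2 - 1 := by omega
      have h5 : 9 * 80 ≤ q * (q ^ 2 - 1) := Nat.mul_le_mul hge h4
      omega
    interval_cases q <;> first | rfl | (norm_num at h1)
  · exfalso
    have h1 := Cfsg.Agent.Lib.PSL2.Basic.card_PSL2_of_two_ne_zero (F := K) h2
    rw [hK, ← hqd] at h1
    have hq9 : q < 11 := by
      by_contra hge
      push Not at hge
      have h3 : 121 ≤ q ^ 2 := by nlinarith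
      have h4 : 120 ≤ q ^ 2 - 1 := by omega
      have h5 : 11 * 120 ≤ q * (q ^ 2 - 1) := Nat.mul_le_mul hge h4
      omega
    interval_cases q <;> norm_num at h1

/-- A simple group of order 504 is isomorphic to the projective special linear group of dimension 2 over the field with 8 elements. -/
theorem result {G : Type*} [Group G] [Finite G] [IsSimpleGroup G] (h : Nat.card G = 504) {F : Type*} [Field F] [Fintype F] (hF : Fintype.card F = 8) : Nonempty (G ≃* Matrix.ProjectiveSpecialLinearGroup (Fin 2) F) := by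
  haveI : Fact (Nat.Prime 3) := ⟨by norm_num⟩
  haveI : Fact (Nat.Prime 2) := ⟨Nat.prime_two⟩
  have hZ := isZass (G := G) h
  rcases Cfsg.Agent.S0340.result hZ with ⟨K, _, _, ⟨e⟩⟩ | ⟨-, m, hm, hc⟩
  · have hK := card_field_eq (K := K) (by rw [← Nat.card_congr e.toEquiv, h])
    have r : K ≃+* F := FiniteField.ringEquivOfCardEq (by rw [hK, hF])
    exact ⟨e.trans (Cfsg.Agent.Lib.Compute.SmallField.pslCongr r)⟩
  · exfalso
    have h8 : 8 ≤ 2 ^ (2 * m + 1) := by
      calc 8 = 2 ^ 3 := by norm_num
        _ ≤ 2 ^ (2 * m + 1) := Nat.pow_le_pow_right (by norm_num) (by omega)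
    set q := 2 ^ (2 * m + 1) with hq
    rw [h] at hc
    have h1 : 64 ≤ q ^ 2 := by nlinarith
    have h2 : 7 ≤ q - 1 := by omega
    have h3 : 64 * (64 + 1) * 7 ≤ q ^ 2 * (q ^ 2 + 1) * (q - 1) :=
      Nat.mul_le_mul (Nat.mul_le_mul h1 (by omega)) h2
    omega

end Cfsg.Agent.S1011
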