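import Cfsg.Statements.S1172
import Cfsg.Agent.Lib.ProdFusion.Split

set_option autoImplicit false
open scoped commutatorElement
open Cfsg

namespace Cfsg.Agent.S1172

/-- Let G be a finite group with no nontrivial normal subgroup of odd order and no proper normal subgroup of odd index, whose Sylow 2-subgroup S is not commutative and is the internal direct product of two subgroups each isomorphic to a dihedral group of order at least 4 and each strongly closed in S with respect to G (product fusion). Then G is the internal direct product of two normal subgroups G₁, G₂, and S is the internal direct product of dihedral subgroups R₁ ≤ G₁ and R₂ ≤ G₂ of odd index in G₁ and G₂ respectively (so R_i is a Sylow 2-subgroup of G_i). -/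
theorem result {G : Type*} [Group G] [Finite G] (hO : Cfsg.oddCore G = ⊥) (hO' : ∀ N : Subgroup G, N.Normal → Odd N.index → N = ⊤) (S : Sylow 2 G) (hS : ¬ IsMulCommutative (S : Subgroup G)) (S₁ S₂ : Subgroup G) (hprod : Cfsg.IsInternalDirectProduct S₁ S₂ (S : Subgroup G)) (m₁ m₂ : ℕ) (hm₁ : 2 ≤ m₁) (hm₂ : 2 ≤ m₂) (e₁ : S₁ ≃* DihedralGroup m₁) (e₂ : S₂ ≃* DihedralGroup m₂) (hcl₁ : Cfsg.IsStronglyClosed S₁ (S : Subgroup G)) (hcl₂ : Cfsg.IsStronglyClosed S₂ (S : Subgroup G)) : ∃ G₁ G₂ : Subgroup G, G₁.Normal ∧ G₂.Normal ∧ Cfsg.IsInternalDirectProduct G₁ G₂ ⊤ ∧ ∃ R₁ R₂ : Subgroup G, Cfsg.IsInternalDirectProduct R₁ R₂ (S : Subgroup G) ∧ (∃ n₁, 2 ≤ n₁ ∧ Nonempty (R₁ ≃* DihedralGroup n₁)) ∧ (∃ n₂, 2 ≤ n₂ ∧ Nonempty (R₂ ≃* DihedralGroup n₂)) ∧ R₁ ≤ G₁ ∧ R₂ ≤ G₂ ∧ Odd (R₁.relIndex G₁) ∧ Odd (R₂.relIndex G₂) := by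
  classical
  have hPF : ⁅Subgroup.normalClosure (S₁ : Set G), Subgroup.normalClosure (S₂ : Set G)⁆ = ⊥ := by
    rw [eq_bot_iff]
    have := Cfsg.Agent.Lib.ProdFusion.product_fusion_commutator S hprod.2.2.1 hprod.2.2.2.1 hcl₁ hcl₂
    rwa [hO] at this
  have hPF' : ⁅Subgroup.normalClosure (S₂ : Set G), Subgroup.normalClosure (S₁ : Set G)⁆ = ⊥ := by
    rw [Subgroup.commutator_comm]; exact hPF
  have hprod' : Cfsg.IsInternalDirectProduct S₂ S₁ (S : Subgroup G) :=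
    ⟨hprod.2.1, hprod.1, fun a ha b hb => (hprod.2.2.1 b hb a ha).symm, by rw [inf_comm]; exact hprod.2.2.2.1,
      by rw [sup_comm]; exact hprod.2.2.2.2⟩
  set N₁ := Subgroup.normalClosure (S₁ : Set G) with hN₁
  set N₂ := Subgroup.normalClosure (S₂ : Set G) with hN₂
  haveI hN₁n : N₁.Normal := Subgroup.normalClosure_normal
  haveI hN₂n : N₂.Normal := Subgroup.normalClosure_normal
  have hSN₁ : S₁ ≤ N₁ := Subgroup.subset_normalClosure
  have hSN₂ : S₂ ≤ N₂ := Subgroup.subset_normalClosure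
  have htop : N₁ ⊔ N₂ = ⊤ := by
    refine hO' _ inferInstance ?_
    have hle : (S : Subgroup G) ≤ N₁ ⊔ N₂ := by
      rw [← hprod.2.2.2.2]
      exact sup_le_sup hSN₁ hSN₂
    have hdvd := Subgroup.index_dvd_of_le hle
    have : Odd (S : Subgroup G).index := by
      rw [← Nat.not_even_iff_odd, even_iff_two_dvd]
      exact S.not_dvd_index
    exact Odd.of_dvd_nat this hdvd
  have htop' : N₂ ⊔ N₁ = ⊤ := by rw [sup_comm]; exact htop
  have hD₂ : S₂ ⊓ N₁ = ⊥ := Cfsg.Agent.Lib.ProdFusion.inf_normalClosure_eq_bot S hprod hcl₁ hPF htop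
  have hD₁ : S₁ ⊓ N₂ = ⊥ := Cfsg.Agent.Lib.ProdFusion.inf_normalClosure_eq_bot S hprod' hcl₂ hPF' htop'
  have hcomm : ∀ a ∈ S₁, ∀ b ∈ S₂, a * b = b * a := hprod.2.2.1
  have hS₁ : (S : Subgroup G) ⊓ N₁ = S₁ := by
    apply le_antisymm
    · intro x hx
      obtain ⟨hxS, hxN⟩ := Subgroup.mem_inf.mp hx
      rw [← hprod.2.2.2.2] at hxS
      obtain ⟨p, hp, q, hq, rfl⟩ := Cfsg.Agent.Lib.ProdFusion.mem_sup_comm hcomm hxS
      have hqN : q ∈ N₁ := by
        have : q = p⁻¹ * (p * q) := by group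
        rw [this]
        exact mul_mem (inv_mem (hSN₁ hp)) hxN
      have hq1 : q ∈ S₂ ⊓ N₁ := Subgroup.mem_inf.mpr ⟨hq, hqN⟩
      rw [hD₂, Subgroup.mem_bot] at hq1
      rw [hq1, mul_one]
      exact hp
    · exact le_inf hprod.1 hSN₁
  have hS₂ : (S : Subgroup G) ⊓ N₂ = S₂ := by
    apply le_antisymm
    · intro x hx
      obtain ⟨hxS, hxN⟩ := Subgroup.mem_inf.mp hx
      rw [← hprod.2.2.2.2] at hxS
      obtain ⟨p, hp, q, hq, rfl⟩ := Cfsg.Agent.Lib.ProdFusion.mem_sup_comm hcomm hxS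
      have hpN : p ∈ N₂ := by
        have : p = (p * q) * q⁻¹ := by group
        rw [this]
        exact mul_mem hxN (inv_mem (hSN₂ hq))
      have hp1 : p ∈ S₁ ⊓ N₂ := Subgroup.mem_inf.mpr ⟨hp, hpN⟩
      rw [hD₁, Subgroup.mem_bot] at hp1
      rw [hp1, one_mul]
      exact hq
    · exact le_inf hprod.2.1 hSN₂
  have hZ : N₁ ⊓ N₂ = ⊥ := by
    have hZn : (N₁ ⊓ N₂).Normal := inferInstance
    have hodd : Nat.Coprime (Nat.card ↥(N₁ ⊓ N₂)) 2 := by
      rw [Nat.coprime_two_right, ← Nat.not_even_iff_odd, even_iff_two_dvd]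
      intro hdvd
      haveI : Fact (Nat.Prime 2) := ⟨Nat.prime_two⟩
      obtain ⟨x, hx⟩ := exists_prime_orderOf_dvd_card' 2 hdvd
      have hxG : orderOf (x : G) = 2 := by rw [Subgroup.orderOf_coe]; exact hx
      obtain ⟨Q, hQ⟩ := Cfsg.Agent.Lib.ProdFusion.exists_sylow_of_invol (x := (x : G)) (y := (x : G))
        (by rw [← pow_two, ← hxG, pow_orderOf_eq_one]) (by rw [← pow_two, ← hxG, pow_orderOf_eq_one]) rfl
      obtain ⟨g, hg⟩ := MulAction.exists_smul_eq G Q S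
      have h1 : g * (x : G) * g⁻¹ ∈ (S : Subgroup G) := by
        rw [← hg, Sylow.coe_subgroup_smul]
        exact ⟨(x : G), hQ.1, rfl⟩
      have h2 : g * (x : G) * g⁻¹ ∈ N₁ ⊓ N₂ := hZn.conj_mem _ x.2 g
      have h3 : g * (x : G) * g⁻¹ ∈ S₁ ⊓ S₂ := by
        rw [← hS₁, ← hS₂]
        exact Subgroup.mem_inf.mpr ⟨Subgroup.mem_inf.mpr ⟨h1, (Subgroup.mem_inf.mp h2).1⟩,
          Subgroup.mem_inf.mpr ⟨h1, (Subgroup.mem_inf.mp h2).2⟩⟩
      rw [hprod.2.2.2.1, Subgroup.mem_bot] at h3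
      have h4 : (x : G) = 1 := by
        have e : (x : G) = g⁻¹ * (g * (x : G) * g⁻¹) * g := by group
        rw [e, h3]; group
      rw [h4, orderOf_one] at hxG
      omega
    have := Cfsg.Agent.Lib.Components.PComponent.le_pPrimeCore' hZn hodd
    rw [eq_bot_iff]
    exact this.trans hO.le
  have hcNN : ∀ a ∈ N₁, ∀ b ∈ N₂, a * b = b * a := by
    intro a ha b hb
    have := Subgroup.commutator_mem_commutator ha hb
    rw [hPF, Subgroup.mem_bot] at this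
    exact commutatorElement_eq_one_iff_mul_comm.mp this
  refine ⟨N₁, N₂, hN₁n, hN₂n, ⟨le_top, le_top, hcNN, hZ, htop⟩, S₁, S₂, hprod, ⟨m₁, hm₁, ⟨e₁⟩⟩, ⟨m₂, hm₂, ⟨e₂⟩⟩,
    hSN₁, hSN₂, ?_, ?_⟩
  · obtain ⟨Q, hQ⟩ := Cfsg.Agent.Lib.Basic.SylowUtil.exists_sylow_inf_normal S N₁
    have h1 : (Q : Subgroup ↥N₁) = S₁.subgroupOf N₁ := by
      rw [← hS₁]
      have h2 : (Q : Subgroup ↥N₁) = ((Q : Subgroup ↥N₁).map N₁.subtype).subgroupOf N₁ :=
        (Subgroup.comap_map_eq_self_of_injective N₁.subtype_injective _).symm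
      rw [h2, hQ]
    rw [Subgroup.relIndex, ← h1, ← Nat.not_even_iff_odd, even_iff_two_dvd]
    exact Q.not_dvd_index
  · obtain ⟨Q, hQ⟩ := Cfsg.Agent.Lib.Basic.SylowUtil.exists_sylow_inf_normal S N₂
    have h1 : (Q : Subgroup ↥N₂) = S₂.subgroupOf N₂ := by
      rw [← hS₂]
      have h2 : (Q : Subgroup ↥N₂) = ((Q : Subgroup ↥N₂).map N₂.subtype).subgroupOf N₂ :=
        (Subgroup.comap_map_eq_self_of_injective N₂.subtype_injective _).symm
      rw [h2, hQ]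
    rw [Subgroup.relIndex, ← h1, ← Nat.not_even_iff_odd, even_iff_two_dvd]
    exact Q.not_dvd_index

end Cfsg.Agent.S1172
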