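import Cfsg.Statements.S1249
import Mathlib
-- import your own Cfsg.Agent.* helpers here

set_option autoImplicit false
open Cfsg

namespace Cfsg.Agent.S1249

/-- Let P and Q be Sylow p-subgroups of the finite group G both containing the subgroup A. If A is strongly closed in P, then A is strongly closed in Q. -/
theorem result {G : Type*} [Group G] [Finite G] {p : ℕ} [Fact p.Prime] (P Q : Sylow p G) (A : Subgroup G) (hAQ : A ≤ Q) (hA : Cfsg.IsStronglyClosed A (P : Subgroup G)) : Cfsg.IsStronglyClosed A (Q : Subgroup G) := by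
  classical
  obtain ⟨hAP, hcl⟩ := hA
  refine ⟨hAQ, ?_⟩
  -- Q = c P c⁻¹
  obtain ⟨c, hc⟩ : ∃ c : G, c • P = Q := MulAction.exists_smul_eq G P Q
  have hmem : ∀ y : G, y ∈ (Q : Subgroup G) ↔ c⁻¹ * y * c ∈ (P : Subgroup G) := by
    intro y
    rw [← hc, Sylow.coe_subgroup_smul, Subgroup.mem_pointwise_smul_iff_inv_smul_mem]
    simp [MulAut.smul_def]
  -- c⁻¹ A c ≤ A
  have h1 : ∀ x ∈ A, c⁻¹ * x * c ∈ A := by
    intro x hx
    have := hcl x hx c⁻¹
    simp only [inv_inv] at this
    exact this ((hmem x).mp (hAQ hx))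
  -- c normalizes A by finiteness
  have h2 : ∀ x ∈ A, c * x * c⁻¹ ∈ A := by
    have hnorm : c⁻¹ ∈ Subgroup.normalizer (A : Set G) := by
      apply Subgroup.mem_normalizer_fintype
      intro n hn
      simpa using h1 n hn
    have := (Subgroup.inv_mem_iff _).mp hnorm
    intro x hx
    exact (Subgroup.mem_normalizer_iff.mp this x).mp hx
  intro x hx g hg
  have h3 : c⁻¹ * (g * x * g⁻¹) * c ∈ (P : Subgroup G) := (hmem _).mp hg
  have h4 : (c⁻¹ * g) * x * (c⁻¹ * g)⁻¹ ∈ A := by
    apply hcl x hx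
    convert h3 using 1
    group
  have h5 := h2 _ h4
  convert h5 using 1
  group

end Cfsg.Agent.S1249
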