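import Cfsg.Statements.S1250
import Mathlib
-- import your own Cfsg.Agent.* helpers here

set_option autoImplicit false
open Cfsg

namespace Cfsg.Agent.S1250

/-- Let S be a Sylow p-subgroup of the finite group G, A ≤ S strongly closed in S, and N a normal subgroup. Then the image of A in G ⧸ N is strongly closed in the image of S (which is a Sylow p-subgroup of G ⧸ N). -/
theorem result {G : Type*} [Group G] [Finite G] {p : ℕ} [Fact p.Prime] (S : Sylow p G) (A : Subgroup G) (hA : Cfsg.IsStronglyClosed A (S : Subgroup G)) (N : Subgroup G) [N.Normal] : Cfsg.IsStronglyClosed (A.map (QuotientGroup.mk' N)) ((S : Subgroup G).map (QuotientGroup.mk' N)) := by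
  obtain ⟨hAS, hcl⟩ := hA
  refine ⟨Subgroup.map_mono hAS, ?_⟩
  rintro _ ⟨x, hx, rfl⟩ gbar hgbar
  obtain ⟨g, rfl⟩ := QuotientGroup.mk'_surjective N gbar
  obtain ⟨s, hs, hsy⟩ := hgbar
  set y := g * x * g⁻¹ with hy
  have hmky : QuotientGroup.mk' N g * QuotientGroup.mk' N x * (QuotientGroup.mk' N g)⁻¹ = QuotientGroup.mk' N y := by
    simp [hy]
  rw [hmky] at hsy ⊢
  change QuotientGroup.mk' N s = QuotientGroup.mk' N y at hsy
  set H : Subgroup G := (S : Subgroup G) ⊔ N with hH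
  have hSH : (S : Subgroup G) ≤ H := le_sup_left
  have hyH : y ∈ H := by
    have h1 : s⁻¹ * y ∈ N := by
      rw [← QuotientGroup.eq_one_iff]
      have h2 : QuotientGroup.mk' N s = QuotientGroup.mk' N y := hsy
      simp only [QuotientGroup.mk'_apply] at h2
      simp only [QuotientGroup.mk_mul, QuotientGroup.mk_inv]
      rw [← h2]
      group
    have h3 : y = s * (s⁻¹ * y) := by group
    rw [h3]
    exact Subgroup.mul_mem _ (hSH hs) (Subgroup.mem_sup_right h1)
  have hyT : y ∈ ((g • S : Sylow p G) : Subgroup G) := by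
    rw [Sylow.coe_subgroup_smul]
    exact ⟨x, hAS hx, rfl⟩
  have hp : IsPGroup p (((g • S : Sylow p G) : Subgroup G).comap H.subtype) :=
    (g • S).isPGroup'.comap_of_injective H.subtype H.subtype_injective
  obtain ⟨Q, hQ⟩ := hp.exists_le_sylow
  obtain ⟨h, hh⟩ := MulAction.exists_smul_eq H (S.subtype hSH) Q
  have hyQ : (⟨y, hyH⟩ : H) ∈ (Q : Subgroup H) := hQ (Subgroup.mem_comap.mpr hyT)
  rw [← hh, Sylow.coe_subgroup_smul] at hyQ
  obtain ⟨z, hz, hzy⟩ := Subgroup.mem_smul_pointwise_iff_exists _ _ _ |>.mp hyQ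
  simp only [MulAut.smul_def, MulAut.conj_apply] at hzy
  have hzS : (z : G) ∈ (S : Subgroup G) := by
    have := hz
    rw [Sylow.coe_subtype] at this
    exact this
  have hzy' : (h : G) * (z : G) * (h : G)⁻¹ = y := congrArg Subtype.val hzy
  -- write h = s' * n
  have hh2 : (h : G) ∈ N ⊔ (S : Subgroup G) := by
    rw [sup_comm]
    exact h.2
  obtain ⟨n, hn, s', hs', hsn⟩ := Subgroup.mem_sup_of_normal_left.mp hh2
  have hw : s' * z * s'⁻¹ ∈ (S : Subgroup G) :=
    Subgroup.mul_mem _ (Subgroup.mul_mem _ hs' hzS) (Subgroup.inv_mem _ hs')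
  have hyw : n⁻¹ * y * n = s' * z * s'⁻¹ := by
    rw [← hzy', ← hsn]
    group
  have hw2 : (n⁻¹ * g) * x * (n⁻¹ * g)⁻¹ = s' * z * s'⁻¹ := by
    rw [← hyw, hy]
    group
  have hwA : s' * z * s'⁻¹ ∈ A := by
    rw [← hw2]
    apply hcl x hx
    rw [hw2]
    exact hw
  refine ⟨s' * z * s'⁻¹, hwA, ?_⟩
  have h5 : y = n * (s' * z * s'⁻¹) * n⁻¹ := by
    rw [← hyw]
    group
  rw [h5]
  have hn1 : QuotientGroup.mk' N n = 1 := (QuotientGroup.eq_one_iff n).mpr hn
  simp only [map_mul, map_inv, hn1, one_mul, inv_one, mul_one]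

end Cfsg.Agent.S1250
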