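import Cfsg.Statements.S1251
import Cfsg.Agent.S0215
import Cfsg.Agent.Lib.PGroup.ZStarCor
import Cfsg.Agent.Lib.Basic.SylowUtil
import Cfsg.Agent.Lib.Basic.PCore
import Cfsg.Agent.Lib.Solvable.PSeries
import Cfsg.Agent.Lib.Fusion.GroupSylow

set_option autoImplicit false
open Cfsg

namespace Cfsg.Agent.S1251

open Subgroup

theorem key {L : Type*} [Group L] [Finite L] (H' : Subgroup L) (c : L) (T' : Sylow 2 L)
    (hc : c ∈ T') (hgen : ∀ g : L, ∃ i : ℤ, ∃ h ∈ H', g = c ^ i * h)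
    (hprop : ∀ h ∈ H', ∀ x ∈ zpowers c, h * x * h⁻¹ ∈ T' → h * x * h⁻¹ = x) (g : L) :
    c * g * c⁻¹ * g⁻¹ ∈ Cfsg.oddCore L := by
  have hT : ∀ i : ℤ, c ^ i ∈ (T' : Subgroup L) := fun i => zpow_mem hc i
  have hw0 : ∀ x ∈ zpowers c, ∀ g : L, g * x * g⁻¹ ∈ T' → g * x * g⁻¹ = x := by
    intro x hx g hg
    obtain ⟨i, h, hh, rfl⟩ := hgen g
    have h1 : h * x * h⁻¹ ∈ T' := by
      have e : h * x * h⁻¹ = c ^ (-i) * (c ^ i * h * x * (c ^ i * h)⁻¹) * (c ^ (-i))⁻¹ := by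
        simp only [zpow_neg, mul_inv_rev, inv_inv]
        group
      rw [e]
      exact mul_mem (mul_mem (hT _) hg) (inv_mem (hT _))
    have h2 := hprop h hh x hx h1
    have e2 : c ^ i * h * x * (c ^ i * h)⁻¹ = c ^ i * (h * x * h⁻¹) * (c ^ i)⁻¹ := by group
    rw [e2, h2]
    obtain ⟨j, rfl⟩ := mem_zpowers_iff.mp hx
    rw [← zpow_add, ← zpow_neg, ← zpow_add]
    congr 1
    ring
  refine Cfsg.Agent.Lib.PGroup.ZStarCor.comm_mem_of_weakly_closed
    (fun G _ _ P u hu huP hiso => Cfsg.Agent.S0215.result P u hu huP hiso) T' hc ?_ ?_ g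
  · intro s hs
    exact hw0 c (mem_zpowers c) s (by
      exact mul_mem (mul_mem hs hc) (inv_mem hs))
  · intro x hx g hg
    rw [hw0 x hx g hg]
    exact mem_zpowers x

/-- Let S be a Sylow 2-subgroup of the finite group G and A ≤ S strongly closed in S. If H is a subgroup normalized by A with no nontrivial normal subgroup of odd order and A ∩ H = 1, then A ≤ C_G(H). -/
theorem result {G : Type*} [Group G] [Finite G] (S : Sylow 2 G) (A : Subgroup G) (hA : Cfsg.IsStronglyClosed A (S : Subgroup G)) (H : Subgroup G) (hAH : A ≤ Subgroup.normalizer (H : Set G)) (hO : Cfsg.oddCore ↥H = ⊥) (hdisj : A ⊓ H = ⊥) : A ≤ Subgroup.centralizer (H : Set G) := by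
  classical
  obtain ⟨hAS, hcl⟩ := hA
  have hAp : IsPGroup 2 A := (S.isPGroup').to_le hAS
  -- Step 1: a Sylow subgroup `U` of `H` normalized by `A`
  set K : Subgroup G := H ⊔ A with hK
  have hHK : H ≤ K := le_sup_left
  have hAK : A ≤ K := le_sup_right
  have hKN : K ≤ normalizer (H : Set G) := sup_le le_normalizer hAH
  haveI hHn : (H.subgroupOf K).Normal := normal_subgroupOf_of_le_normalizer hKN
  have hA'p : IsPGroup 2 (A.subgroupOf K) := hAp.comap_of_injective K.subtype K.subtype_injective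
  obtain ⟨T₀, hT₀⟩ := hA'p.exists_le_sylow
  obtain ⟨Q, hQ⟩ := Cfsg.Agent.Lib.Basic.SylowUtil.exists_sylow_inf_normal T₀ (H.subgroupOf K)
  set U : Subgroup G := ((T₀ : Subgroup ↥K) ⊓ H.subgroupOf K).map K.subtype with hU
  have hUH : U ≤ H := by
    rintro _ ⟨x, hx, rfl⟩
    exact hx.2
  have hT₀G : IsPGroup 2 ((T₀ : Subgroup ↥K).map K.subtype) := T₀.isPGroup'.map _
  have hUT : U ≤ (T₀ : Subgroup ↥K).map K.subtype := map_mono inf_le_left
  have hUp : IsPGroup 2 U := hT₀G.to_le hUT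
  -- `U` is maximal among the 2-subgroups of `H`
  have hUmax : ∀ W : Subgroup G, W ≤ H → IsPGroup 2 W → U ≤ W → W ≤ U := by
    intro W hWH hWp hUW
    let W' : Subgroup ↥(H.subgroupOf K) := (W.subgroupOf K).subgroupOf (H.subgroupOf K)
    have hW'p : IsPGroup 2 W' :=
      (hWp.comap_of_injective K.subtype K.subtype_injective).comap_of_injective
        (H.subgroupOf K).subtype (H.subgroupOf K).subtype_injective
    have hQW : (Q : Subgroup ↥(H.subgroupOf K)) ≤ W' := by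
      intro q hq
      have h1 : (q : ↥K) ∈ (T₀ : Subgroup ↥K) ⊓ H.subgroupOf K := by
        rw [← hQ]
        exact ⟨q, hq, rfl⟩
      have h2 : ((q : ↥K) : G) ∈ U := ⟨q, h1, rfl⟩
      exact hUW h2
    have hEq := Q.is_maximal' hW'p hQW
    intro w hw
    have hwK : w ∈ K := hHK (hWH hw)
    have hwH : (⟨w, hwK⟩ : ↥K) ∈ H.subgroupOf K := hWH hw
    have hwW : (⟨⟨w, hwK⟩, hwH⟩ : ↥(H.subgroupOf K)) ∈ W' := hw
    rw [hEq] at hwW
    have h1 : ((⟨⟨w, hwK⟩, hwH⟩ : ↥(H.subgroupOf K)) : ↥K) ∈ (T₀ : Subgroup ↥K) ⊓ H.subgroupOf K := by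
      rw [← hQ]
      exact ⟨_, hwW, rfl⟩
    exact ⟨_, h1, rfl⟩
  -- Step 2: a Sylow subgroup `S₁` of `G` containing `U` and `A`
  obtain ⟨S₁, hS₁⟩ := hT₀G.exists_le_sylow
  have hUS₁ : U ≤ S₁ := hUT.trans hS₁
  have hAS₁ : A ≤ S₁ := by
    intro x hx
    apply hS₁
    exact ⟨⟨x, hAK hx⟩, hT₀ hx, rfl⟩
  -- Step 3: `A` is strongly closed in `S₁`
  obtain ⟨k, hk⟩ := MulAction.exists_smul_eq G S S₁
  have hkmem : ∀ y : G, y ∈ S₁ → k⁻¹ * y * k ∈ S := by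
    intro y hy
    rw [← hk] at hy
    have hy' : y ∈ ((k • S : Sylow 2 G) : Subgroup G) := hy
    rw [Sylow.coe_subgroup_smul] at hy'
    obtain ⟨z, hz, rfl⟩ := Subgroup.mem_smul_pointwise_iff_exists _ _ _ |>.mp hy'
    have e : k⁻¹ * (MulAut.conj k • z) * k = z := by
      simp [MulAut.smul_def, mul_assoc]
    rw [e]
    exact hz
  have hkA : ∀ z ∈ A, k⁻¹ * z * k ∈ A := by
    intro z hz
    have h1 := hkmem z (hAS₁ hz)
    have h2 := hcl z hz k⁻¹ (by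
      rw [inv_inv]
      exact h1)
    simpa using h2
  have hkA' : ∀ w ∈ A, k * w * k⁻¹ ∈ A := by
    let f : A → A := fun z => ⟨k⁻¹ * z * k, hkA z z.2⟩
    have hf : Function.Injective f := by
      intro x y hxy
      have h1 : k⁻¹ * (x : G) * k = k⁻¹ * (y : G) * k := congrArg Subtype.val hxy
      exact Subtype.ext (by simpa [mul_assoc] using h1)
    have hfs := Finite.injective_iff_surjective.mp hf
    intro w hw
    obtain ⟨z, hz⟩ := hfs ⟨w, hw⟩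
    have h1 : k⁻¹ * (z : G) * k = w := congrArg Subtype.val hz
    have h2 : k * w * k⁻¹ = z := by rw [← h1]; group
    rw [h2]
    exact z.2
  have hclS₁ : ∀ x ∈ A, ∀ g : G, g * x * g⁻¹ ∈ S₁ → g * x * g⁻¹ ∈ A := by
    intro x hx g hg
    have h1 := hkmem _ hg
    have h2 := hcl x hx (k⁻¹ * g) (by
      have e : k⁻¹ * g * x * (k⁻¹ * g)⁻¹ = k⁻¹ * (g * x * g⁻¹) * k := by group
      rw [e]; exact h1)
    have e : g * x * g⁻¹ = k * (k⁻¹ * g * x * (k⁻¹ * g)⁻¹) * k⁻¹ := by group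
    rw [e]
    exact hkA' _ h2
  -- Step 4: fix `a ∈ A`
  intro a ha
  rw [mem_centralizer_iff]
  intro h hh
  change h ∈ (H : Subgroup G) at hh
  set L : Subgroup G := zpowers a ⊔ H with hL
  have hzA : zpowers a ≤ A := (zpowers_le).mpr ha
  have hzN : zpowers a ≤ normalizer (H : Set G) := hzA.trans hAH
  have hHL : H ≤ L := le_sup_right
  have hzL : zpowers a ≤ L := le_sup_left
  have haL : a ∈ L := hzL (mem_zpowers a)
  let c : ↥L := ⟨a, haL⟩
  let H' : Subgroup ↥L := H.subgroupOf L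
  -- the subgroup generated by `U` and `a` is a 2-group
  have hPp : IsPGroup 2 ((U ⊔ zpowers a).subgroupOf L) := by
    have : IsPGroup 2 ↥(U ⊔ zpowers a) := by
      have hle : U ⊔ zpowers a ≤ S₁ := sup_le hUS₁ (hzA.trans hAS₁)
      exact (S₁.isPGroup').to_le hle
    exact this.comap_of_injective L.subtype L.subtype_injective
  obtain ⟨T', hT'⟩ := hPp.exists_le_sylow
  have hcT : c ∈ T' := by
    apply hT'
    rw [mem_subgroupOf]
    exact (le_sup_right : zpowers a ≤ U ⊔ zpowers a) (mem_zpowers a)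
  have hgen : ∀ g : ↥L, ∃ i : ℤ, ∃ h ∈ H', g = c ^ i * h := by
    intro g
    obtain ⟨x, hx, y, hy, hxy⟩ :=
      Cfsg.Agent.Lib.Fusion.GroupSylow.exists_mul_of_mem_sup hzN g.2
    obtain ⟨i, rfl⟩ := mem_zpowers_iff.mp hx
    refine ⟨i, ⟨y, hHL hy⟩, hy, ?_⟩
    apply Subtype.ext
    simpa [c] using hxy
  -- `T'` maps into `S₁`
  have hTS₁ : ∀ t ∈ (T' : Subgroup ↥L), (t : G) ∈ S₁ := by
    intro t ht
    obtain ⟨i, h₁, hh₁, rfl⟩ := hgen t
    have hh₁T : h₁ ∈ (T' : Subgroup ↥L) := by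
      have e : h₁ = (c ^ i)⁻¹ * (c ^ i * h₁) := by group
      rw [e]
      exact mul_mem (inv_mem (zpow_mem hcT i)) ht
    let W : Subgroup G := ((T' : Subgroup ↥L).map L.subtype) ⊓ H
    have hWp : IsPGroup 2 W := (T'.isPGroup'.map L.subtype).to_le inf_le_left
    have hUW : U ≤ W := by
      intro u hu
      refine mem_inf.mpr ⟨⟨⟨u, hHL (hUH hu)⟩, ?_, rfl⟩, hUH hu⟩
      apply hT'
      rw [mem_subgroupOf]
      exact (le_sup_left : U ≤ U ⊔ zpowers a) hu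
    have hmem : (h₁ : G) ∈ U := hUmax W inf_le_right hWp hUW
      (mem_inf.mpr ⟨⟨h₁, hh₁T, rfl⟩, hh₁⟩)
    have e : ((c ^ i * h₁ : ↥L) : G) = a ^ i * (h₁ : G) := by simp [c]
    rw [e]
    exact mul_mem (zpow_mem (hAS₁ ha) i) (hUS₁ hmem)
  have hprop : ∀ h ∈ H', ∀ x ∈ zpowers c, h * x * h⁻¹ ∈ T' → h * x * h⁻¹ = x := by
    intro h hh x hx hmem
    obtain ⟨j, rfl⟩ := mem_zpowers_iff.mp hx
    apply Subtype.ext
    have hxA : a ^ j ∈ A := zpow_mem ha j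
    have h1 := hTS₁ _ hmem
    have e1 : ((h * c ^ j * h⁻¹ : ↥L) : G) = (h : G) * a ^ j * (h : G)⁻¹ := by simp [c]
    rw [e1] at h1 ⊢
    have h2 := hclS₁ _ hxA _ h1
    have h3 : (a ^ j)⁻¹ * ((h : G) * a ^ j * (h : G)⁻¹) ∈ A := mul_mem (inv_mem hxA) h2
    have h4 : (a ^ j)⁻¹ * ((h : G) * a ^ j * (h : G)⁻¹) ∈ H := by
      have hhH : (h : G) ∈ H := hh
      have e : (a ^ j)⁻¹ * ((h : G) * a ^ j * (h : G)⁻¹) =
          ((a ^ j)⁻¹ * (h : G) * ((a ^ j)⁻¹)⁻¹) * (h : G)⁻¹ := by group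
      rw [e]
      exact mul_mem ((mem_normalizer_iff.mp (hAH (inv_mem hxA)) _).mp hhH) (inv_mem hhH)
    have h5 : (a ^ j)⁻¹ * ((h : G) * a ^ j * (h : G)⁻¹) ∈ A ⊓ H := mem_inf.mpr ⟨h3, h4⟩
    rw [hdisj, mem_bot] at h5
    have := inv_mul_eq_one.mp h5
    simpa [c] using this.symm
  have hcomm := key H' c T' hcT hgen hprop ⟨h, hHL hh⟩
  -- the odd core of `L` meets `H` trivially
  let O₁ : Subgroup ↥H := ((Cfsg.oddCore ↥L).map L.subtype).subgroupOf H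
  have hO₁n : O₁.Normal := by
    constructor
    rintro ⟨x, hxH⟩ hx ⟨g, hgH⟩
    obtain ⟨o, ho, rfl⟩ := mem_subgroupOf.mp hx
    rw [mem_subgroupOf]
    refine ⟨⟨g, hHL hgH⟩ * o * ⟨g, hHL hgH⟩⁻¹, ?_, by simp⟩
    exact (inferInstance : (Cfsg.oddCore ↥L).Normal).conj_mem o ho _
  have hO₁c : (Nat.card O₁).Coprime 2 := by
    have hcop : (Nat.card (Cfsg.oddCore ↥L)).Coprime 2 :=
      Cfsg.Agent.Lib.Solvable.PSeries.pPrimeCore_coprime 2
    have hd : Nat.card O₁ ∣ Nat.card (Cfsg.oddCore ↥L) := by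
      have hx : ∀ x : O₁, (⟨((x : ↥H) : G), hHL (x : ↥H).2⟩ : ↥L) ∈ Cfsg.oddCore ↥L := by
        intro x
        obtain ⟨o, ho, he⟩ := mem_subgroupOf.mp x.2
        have : o = (⟨((x : ↥H) : G), hHL (x : ↥H).2⟩ : ↥L) := Subtype.ext he
        rwa [← this]
      let f : O₁ →* ↥(Cfsg.oddCore ↥L) :=
        { toFun := fun x => ⟨⟨((x : ↥H) : G), hHL (x : ↥H).2⟩, hx x⟩
          map_one' := rfl
          map_mul' := fun _ _ => rfl }
      refine Subgroup.card_dvd_of_injective f ?_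
      intro x y hxy
      have h1 : ((x : ↥H) : G) = ((y : ↥H) : G) :=
        congrArg (fun z : ↥(Cfsg.oddCore ↥L) => ((z : ↥L) : G)) hxy
      exact Subtype.ext (Subtype.ext h1)
    exact hcop.coprime_dvd_left hd
  have hO₁b : O₁ = ⊥ := by
    rw [eq_bot_iff, ← hO]
    exact Cfsg.Agent.Lib.Basic.PCore.le_pPrimeCore hO₁n hO₁c
  -- `[a, h] ∈ O(L) ∩ H = 1`
  have hmemH : a * h * a⁻¹ * h⁻¹ ∈ H :=
    mul_mem ((mem_normalizer_iff.mp (hAH ha) _).mp hh) (inv_mem hh)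
  have hmemO : (⟨a * h * a⁻¹ * h⁻¹, hmemH⟩ : ↥H) ∈ O₁ := by
    rw [mem_subgroupOf]
    exact ⟨_, hcomm, rfl⟩
  rw [hO₁b, mem_bot] at hmemO
  have h1 : a * h * a⁻¹ * h⁻¹ = 1 := congrArg Subtype.val hmemO
  have h2 : a * h * a⁻¹ = h := mul_inv_eq_one.mp h1
  have h3 : a * h = h * a := mul_inv_eq_iff_eq_mul.mp h2
  exact h3.symm

end Cfsg.Agent.S1251
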