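import Cfsg.Statements.S1307
import Mathlib
import Cfsg.Agent.S0201
import Cfsg.Agent.S0016
import Cfsg.Agent.Lib.Components.StdThree
-- import your own Cfsg.Agent.* helpers here

set_option autoImplicit false
open Cfsg

set_option linter.style.haveILetI false
set_option linter.unusedVariables false

namespace Cfsg.Agent.S1307

open Cfsg.Agent.Lib.Components Cfsg.Agent.Lib.Components.PComponent

/-- A nontrivial Sylow `2`-subgroup of a perfect group is not cyclic. -/
theorem not_isCyclic_sylow {X : Type*} [Group X] [Finite X] (hperf : Group.IsPerfect X) (S : Sylow 2 X)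
    (heven : Even (Nat.card X)) : ¬ IsCyclic ↥(S : Subgroup X) := by
  intro hc
  have hf2 : Fact (Nat.Prime 2) := ⟨Nat.prime_two⟩
  have hmin : (Nat.card X).minFac = 2 := by
    apply (Nat.minFac_eq_two_iff _).mpr
    exact even_iff_two_dvd.mp heven
  have hN := IsCyclic.normalizer_le_centralizer hmin hc
  haveI hab : IsMulCommutative ↥(S : Subgroup X) := by
    letI := hc.commGroup
    exact ⟨⟨mul_comm⟩⟩
  have hcomp := MonoidHom.ker_transferSylow_isComplement' S hN
  have hcomm : commutator X ≤ (MonoidHom.transferSylow S hN).ker := by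
    rw [commutator_def, Subgroup.commutator_le]
    intro a _ b _
    rw [MonoidHom.mem_ker, map_commutatorElement, commutatorElement_eq_one_iff_mul_comm]
    exact hab.is_comm.comm _ _
  have htop : (MonoidHom.transferSylow S hN).ker = ⊤ := by
    rw [eq_top_iff, ← hperf.commutator_eq_top]
    exact hcomm
  rw [htop] at hcomp
  have h1 := hcomp.index_eq_card
  rw [Subgroup.card_top] at h1
  have h3 := S.not_dvd_index
  rw [h1] at h3
  exact h3 (even_iff_two_dvd.mp heven)

/-- Let G be finite, x an involution and L ≤ C_G(x) a component of C_G(x) of even order and 2-rank 1, such that L is a component of C_G(y) for every involution y ∈ C_G(L). Then some involution of L is a classical involution of G. -/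
theorem result {G : Type*} [Group G] [Finite G] (x : G) (hx : orderOf x = 2) (L : Subgroup G) (hLx : L ≤ Subgroup.centralizer ({x} : Set G)) (hL : Cfsg.IsComponent (L.subgroupOf (Subgroup.centralizer ({x} : Set G)))) (heven : Even (Nat.card ↥L)) (hrk : Cfsg.PRankLE 2 1 ↥L) (hne : ∀ y : G, orderOf y = 2 → y ∈ Subgroup.centralizer (L : Set G) → L ≤ Subgroup.centralizer ({y} : Set G) ∧ Cfsg.IsComponent (L.subgroupOf (Subgroup.centralizer ({y} : Set G)))) : ∃ t ∈ L, Cfsg.IsClassicalInvolution t := by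
  have hf2 : Fact (Nat.Prime 2) := ⟨Nat.prime_two⟩
  have hq : IsQuasisimple ↥L := Quasisimple.isQuasisimple_of_mulEquiv (Subgroup.subgroupOfEquivOfLe hLx) hL.2
  obtain ⟨S⟩ : Nonempty (Sylow 2 ↥L) := inferInstance
  have hS2 : IsPGroup 2 ↥((S : Subgroup ↥L).map L.subtype) := S.isPGroup'.map _
  -- a unique involution
  have huniq : ∀ H K : Subgroup ↥(S : Subgroup ↥L), Nat.card H = 2 → Nat.card K = 2 → H = K := by
    intro H K hH hK
    have key : ∀ (H K : Subgroup ↥(S : Subgroup ↥L)), Nat.card H = 2 → Nat.card K = 2 → H ≤ K := by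
      intro H K hH hK
      have hH2 := hH
      have hK2 := hK
      obtain ⟨a, ha⟩ := exists_prime_orderOf_dvd_card' (G := ↥H) 2 (by rw [hH])
      obtain ⟨b, hb⟩ := exists_prime_orderOf_dvd_card' (G := ↥K) 2 (by rw [hK])
      have ha' : orderOf (((a : ↥(S : Subgroup ↥L)) : ↥L) : G) = 2 := by
        rw [Subgroup.orderOf_coe, Subgroup.orderOf_coe, Subgroup.orderOf_coe]; exact ha
      have hb' : orderOf (((b : ↥(S : Subgroup ↥L)) : ↥L) : G) = 2 := by
        rw [Subgroup.orderOf_coe, Subgroup.orderOf_coe, Subgroup.orderOf_coe]; exact hb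
      have hW : (S : Subgroup ↥L).map L.subtype ≤ L := by
        rintro _ ⟨y, -, rfl⟩
        exact y.2
      have heq := Cfsg.Agent.Lib.Components.StdThree.eq_of_involutions_of_pGroup hrk hW hS2 ha' hb'
        ⟨_, (a : ↥(S : Subgroup ↥L)).2, rfl⟩ ⟨_, (b : ↥(S : Subgroup ↥L)).2, rfl⟩
      have heq2 : (a : ↥(S : Subgroup ↥L)) = (b : ↥(S : Subgroup ↥L)) := Subtype.ext (Subtype.ext heq)
      -- `H = ⟨a⟩`
      have hHa : H = Subgroup.zpowers (a : ↥(S : Subgroup ↥L)) := by
        symm
        apply Subgroup.eq_of_le_of_card_ge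
        · rw [Subgroup.zpowers_le]; exact a.2
        · rw [Nat.card_zpowers, Subgroup.orderOf_coe, ha, hH]
      rw [hHa, Subgroup.zpowers_le, heq2]
      exact b.2
    exact le_antisymm (key H K hH hK) (key K H hK hH)
  have hnc : ¬ IsCyclic ↥(S : Subgroup ↥L) := not_isCyclic_sylow hq.1 S heven
  obtain ⟨n, ⟨e⟩⟩ : ∃ n : ℕ, Nonempty (↥(S : Subgroup ↥L) ≃* QuaternionGroup (2 ^ (n + 1))) := by
    rcases Cfsg.Agent.S0016.result (G := ↥(S : Subgroup ↥L)) 2 S.isPGroup' huniq with h | ⟨-, n, ⟨e⟩⟩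
    · exact absurd h hnc
    · cases n with
      | zero =>
        exfalso
        apply hnc
        have := QuaternionGroup.quaternionGroup_one_isCyclic
        rw [pow_zero] at e
        exact isCyclic_of_surjective e.symm e.symm.surjective
      | succ m => exact ⟨m, ⟨e⟩⟩
  -- the quotient by the core
  set O := pPrimeCore 2 ↥L with hO
  have hOn : O.Normal := Cfsg.pPrimeCore_normal 2 _
  have hOc : (Nat.card O).Coprime 2 := Transport.coprime_card_pPrimeCore 2
  have hOcen : O ≤ Subgroup.center ↥L := by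
    rcases Quasisimple.eq_top_or_le_center_of_normal hq hOn with h | h
    · exfalso
      rw [h, Subgroup.card_top] at hOc
      rw [Nat.card_congr (Equiv.refl _)] at hOc
      exact (Nat.not_even_iff_odd.mpr (Nat.coprime_two_right.mp hOc)) heven
    · exact h
  have hsurj : Function.Surjective (QuotientGroup.mk' O) := QuotientGroup.mk'_surjective O
  set Sb : Sylow 2 (↥L ⧸ O) := S.mapSurjective hsurj with hSb
  have hinj : ∀ x : ↥(S : Subgroup ↥L), (QuotientGroup.mk' O) (x : ↥L) = 1 → x = 1 := by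
    intro x hx
    rw [QuotientGroup.mk'_apply, QuotientGroup.eq_one_iff] at hx
    have h1 : orderOf (⟨_, hx⟩ : ↥O) ∣ Nat.card O := orderOf_dvd_natCard _
    rw [Subgroup.orderOf_mk] at h1
    obtain ⟨k, hk⟩ := (IsPGroup.iff_orderOf.mp S.isPGroup') x
    have hxo : orderOf (x : ↥L) = orderOf x := Subgroup.orderOf_coe x
    rw [hxo, hk] at h1
    have h2 : (2 ^ k).Coprime 2 := Nat.Coprime.coprime_dvd_left h1 hOc
    have hk0 : k = 0 := by
      by_contra hk0
      have := Nat.Coprime.eq_one_of_dvd h2.symm (dvd_pow_self 2 hk0)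
      omega
    rw [hk0, pow_zero, orderOf_eq_one_iff] at hk
    exact hk
  let φ : ↥(S : Subgroup ↥L) →* ↥(Sb : Subgroup (↥L ⧸ O)) := (QuotientGroup.mk' O).subgroupMap (S : Subgroup ↥L)
  have hφb : Function.Bijective φ := by
    refine ⟨?_, (QuotientGroup.mk' O).subgroupMap_surjective (S : Subgroup ↥L)⟩
    rw [injective_iff_map_eq_one]
    intro x hx
    exact hinj x (congrArg Subtype.val hx)
  let eb : ↥(Sb : Subgroup (↥L ⧸ O)) ≃* QuaternionGroup (2 ^ (n + 1)) :=
    (MulEquiv.ofBijective φ hφb).symm.trans e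
  have hcore : ∀ N : Subgroup (↥L ⧸ O), N.Normal → Odd (Nat.card N) → N = ⊥ := by
    intro N hN hodd
    have h1 := le_pPrimeCore_of_isSubnormal 2 hN.isSubnormal (Nat.coprime_two_right.mpr hodd)
    rw [pPrimeCore_quotient_eq_bot] at h1
    exact le_bot_iff.mp h1
  have hcen := Cfsg.Agent.S0201.result Sb n eb hcore
  obtain ⟨z, hz⟩ := exists_prime_orderOf_dvd_card' (G := ↥(Subgroup.center (↥L ⧸ O))) 2 (by rw [hcen])
  have hz1 : orderOf (z : ↥L ⧸ O) = 2 := by rw [Subgroup.orderOf_coe]; exact hz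
  have hzS : (z : ↥L ⧸ O) ∈ (Sb : Subgroup (↥L ⧸ O)) := by
    apply Cfsg.Agent.Lib.Components.StdThree.mem_sylow_of_normalizes Sb
    · intro s hs
      have h1 := Subgroup.mem_center_iff.mp z.2 s
      rw [← h1, mul_assoc, mul_inv_cancel, mul_one]
      exact hs
    · have h1 : (z : ↥L ⧸ O) ^ 2 = 1 := by
        have := pow_orderOf_eq_one (z : ↥L ⧸ O)
        rwa [hz1] at this
      rw [h1]
      exact Subgroup.one_mem _
  obtain ⟨s, hsS, hsz⟩ := hzS
  -- `s` is an involution
  have hs2 : (s : ↥L) ^ 2 = 1 := by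
    have h1 : (QuotientGroup.mk' O) (s ^ 2) = 1 := by
      have := pow_orderOf_eq_one (z : ↥L ⧸ O)
      rw [hz1] at this
      rw [map_pow, hsz, this]
    have h2 := hinj ⟨s ^ 2, (S : Subgroup ↥L).pow_mem hsS 2⟩ h1
    exact congrArg Subtype.val h2
  have hs1 : s ≠ 1 := by
    rintro rfl
    rw [map_one] at hsz
    rw [← hsz, orderOf_one] at hz1
    omega
  have hso : orderOf s = 2 := orderOf_eq_prime hs2 hs1
  have hsG : orderOf (s : G) = 2 := by rw [Subgroup.orderOf_coe]; exact hso
  -- `s` is central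
  have hsC : (s : G) ∈ Subgroup.centralizer (L : Set G) := by
    have hperf : ⁅L, L⁆ = L := Subgroup.isPerfect_iff.mp hq.1
    have hh := Balance.commute_of_central_action hperf (y := (s : G))
      (fun a ha => L.mul_mem (L.mul_mem s.2 ha) (L.inv_mem s.2))
      (by
        intro a ha b hb
        have h1 : ((⟨a, ha⟩ : ↥L)⁻¹ * (s * ⟨a, ha⟩ * s⁻¹)) ∈ O := by
          rw [← QuotientGroup.eq_one_iff]
          have h2 := Subgroup.mem_center_iff.mp z.2 ((⟨a, ha⟩ : ↥L) : ↥L ⧸ O)
          have hs' : (s : ↥L ⧸ O) = (z : ↥L ⧸ O) := hsz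
          simp only [QuotientGroup.mk_mul, QuotientGroup.mk_inv]
          rw [hs', ← h2]
          group
        have h3 := Subgroup.mem_center_iff.mp (hOcen h1) ⟨b, hb⟩
        exact congrArg Subtype.val h3)
    rw [Subgroup.mem_centralizer_iff]
    intro a ha
    exact (hh a ha).symm.eq
  obtain ⟨hLs, hLc⟩ := hne (s : G) hsG hsC
  refine ⟨(s : G), s.2, hsG, L, hLs, s.2, hLc.1, S, n, ⟨e⟩⟩

end Cfsg.Agent.S1307
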