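import Cfsg.Statements.S1322
import Cfsg.Agent.S0205
import Cfsg.Agent.Lib.Components.InvComp

set_option autoImplicit false
open Cfsg

namespace Cfsg.Agent.S1322

/-- Let G be finite with L_{2'}(G) = E(G), t an involution and L ≤ C_G(t) a component of C_G(t). Then there is a component D of G with: L = D; or L < D and D = ⁅D, ⟨t⟩⁆; or tDt⁻¹ ≠ D and L is the layer of C_{D ⊔ tDt⁻¹}(t). -/
theorem result {G : Type*} [Group G] [Finite G] (hL2 : Cfsg.pLayer 2 G = Cfsg.layer G) (t : G) (ht : orderOf t = 2) (L : Subgroup G) (hLt : L ≤ Subgroup.centralizer ({t} : Set G)) (hL : Cfsg.IsComponent (L.subgroupOf (Subgroup.centralizer ({t} : Set G)))) : ∃ D : Subgroup G, Cfsg.IsComponent D ∧ (L = D ∨ (L < D ∧ D = ⁅D, Subgroup.zpowers t⁆) ∨ (D.map (MulAut.conj t).toMonoidHom ≠ D ∧ L = (Cfsg.layer ↥((D ⊔ D.map (MulAut.conj t).toMonoidHom) ⊓ Subgroup.centralizer ({t} : Set G))).map ((D ⊔ D.map (MulAut.conj t).toMonoidHom) ⊓ Subgroup.centralizer ({t} : Set G)).subtype))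 := by
  refine Cfsg.Agent.Lib.Components.InvComp.trichotomy hL2 t ht L hLt hL ?_
  rw [← Nat.not_odd_iff_even]
  intro hodd
  have hq : Cfsg.IsQuasisimple ↥(L.subgroupOf (Subgroup.centralizer ({t} : Set G))) := hL.2
  have hq' : Cfsg.IsQuasisimple ↥L :=
    (Cfsg.Agent.Lib.Components.Quasisimple.isQuasisimple_congr
      (Subgroup.subgroupOfEquivOfLe hLt)).mp hq
  exact Cfsg.Agent.Lib.Components.Quasisimple.not_isSolvable_of_isQuasisimple hq'
    (Cfsg.Agent.S0205.result hodd)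

end Cfsg.Agent.S1322
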