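import Cfsg.Statements.S1323
import Cfsg.Agent.Lib.Components.Basic

set_option autoImplicit false
open Cfsg

namespace Cfsg.Agent.S1323

open Equiv Equiv.Perm

section Gen

variable {α : Type*} [Fintype α] [DecidableEq α]

/-- The 3-cycle `x → y → z → x`. -/
def tc (x y z : α) : Perm α := swap x y * swap y z

theorem tc_mem_alt {x y z : α} (hxy : x ≠ y) (hyz : y ≠ z) : tc x y z ∈ alternatingGroup α := by
  rw [mem_alternatingGroup, tc, map_mul, sign_swap hxy, sign_swap hyz]; simp

theorem tc_x {x y z : α} (hxy : x ≠ y) (hxz : x ≠ z) : tc x y z x = y := by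
  simp [tc, swap_apply_of_ne_of_ne hxy.symm.symm hxz]

theorem tc_y {x y z : α} (hxy : x ≠ y) (hyz : y ≠ z) (hxz : x ≠ z) : tc x y z y = z := by
  simp only [tc, Perm.mul_apply, swap_apply_left]
  exact swap_apply_of_ne_of_ne hxz.symm hyz.symm

theorem tc_other {x y z w : α} (hx : w ≠ x) (hy : w ≠ y) (hz : w ≠ z) : tc x y z w = w := by
  simp only [tc, Perm.mul_apply]
  rw [swap_apply_of_ne_of_ne hy hz, swap_apply_of_ne_of_ne hx hy]

/-- The pointwise stabiliser of `Δ` in the alternating group. -/
def fixG (Δ : Finset α) : Subgroup (alternatingGroup α) where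
  carrier := {g | ∀ x ∈ Δ, (g : Perm α) x = x}
  mul_mem' := by
    intro a b ha hb x hx
    simp only [Set.mem_setOf_eq] at ha hb
    show (a : Perm α) ((b : Perm α) x) = x
    rw [hb x hx, ha x hx]
  one_mem' := by intro x _; rfl
  inv_mem' := by
    intro a ha x hx
    simp only [Set.mem_setOf_eq] at ha
    show ((a : Perm α))⁻¹ x = x
    rw [Perm.inv_eq_iff_eq]; exact (ha x hx).symm

/-- Even permutations supported on `Δ`. -/
def supG (Δ : Finset α) : Subgroup (alternatingGroup α) where
  carrier := {g | ∀ x, x ∉ Δ → (g : Perm α) x = x}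
  mul_mem' := by
    intro a b ha hb x hx
    simp only [Set.mem_setOf_eq] at ha hb
    show (a : Perm α) ((b : Perm α) x) = x
    rw [hb x hx, ha x hx]
  one_mem' := by intro x _; rfl
  inv_mem' := by
    intro a ha x hx
    simp only [Set.mem_setOf_eq] at ha
    show ((a : Perm α))⁻¹ x = x
    rw [Perm.inv_eq_iff_eq]; exact (ha x hx).symm

theorem mem_fixG {Δ : Finset α} {g : alternatingGroup α} :
    g ∈ fixG Δ ↔ ∀ x ∈ Δ, (g : Perm α) x = x := Iff.rfl

theorem mem_supG {Δ : Finset α} {g : alternatingGroup α} :
    g ∈ supG Δ ↔ ∀ x, x ∉ Δ → (g : Perm α) x = x := Iff.rfl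

/-- Two elements outside `Δ`, with a third, produce an element of `fixG Δ` moving the first. -/
theorem exists_mover {Δ : Finset α} (hc : Δ.card + 3 ≤ Fintype.card α) {x : α} (hx : x ∉ Δ) :
    ∃ h ∈ fixG Δ, (h : Perm α) x ≠ x := by
  have hcard : 2 ≤ ((insert x Δ)ᶜ : Finset α).card := by
    rw [Finset.card_compl, Finset.card_insert_of_notMem hx]; omega
  obtain ⟨y, hy, z, hz, hyz⟩ := Finset.one_lt_card.mp (by omega : 1 < ((insert x Δ)ᶜ : Finset α).card)
  simp only [Finset.mem_compl, Finset.mem_insert, not_or] at hy hz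
  have hxy : x ≠ y := fun h => hy.1 h.symm
  have hxz : x ≠ z := fun h => hz.1 h.symm
  refine ⟨⟨tc x y z, tc_mem_alt hxy hyz⟩, ?_, ?_⟩
  · intro w hw
    apply tc_other
    · rintro rfl; exact hx hw
    · rintro rfl; exact hy.2 hw
    · rintro rfl; exact hz.2 hw
  · show tc x y z x ≠ x
    rw [tc_x hxy hxz]; exact fun h => hxy h.symm

/-- A 3-cycle of `fixG Δ` with first point `x` that fixes a given point `u ≠ x`... -/
theorem exists_mover_fixing {Δ : Finset α} (hc : Δ.card + 4 ≤ Fintype.card α) {x u : α} (hx : x ∉ Δ)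
    (hu : u ≠ x) : ∃ h ∈ fixG Δ, (h : Perm α) x ≠ x ∧ (h : Perm α) u = u := by
  have hcard : 2 ≤ ((insert u (insert x Δ))ᶜ : Finset α).card := by
    rw [Finset.card_compl]
    have : (insert u (insert x Δ)).card ≤ (insert x Δ).card + 1 := Finset.card_insert_le _ _
    have h2 : (insert x Δ).card ≤ Δ.card + 1 := Finset.card_insert_le _ _
    omega
  obtain ⟨y, hy, z, hz, hyz⟩ := Finset.one_lt_card.mp (by omega : 1 < ((insert u (insert x Δ))ᶜ : Finset α).card)
  simp only [Finset.mem_compl, Finset.mem_insert, not_or] at hy hz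
  have hxy : x ≠ y := fun h => hy.2.1 h.symm
  have hxz : x ≠ z := fun h => hz.2.1 h.symm
  refine ⟨⟨tc x y z, tc_mem_alt hxy hyz⟩, ?_, ?_, ?_⟩
  · intro w hw
    apply tc_other
    · rintro rfl; exact hx hw
    · rintro rfl; exact hy.2.2 hw
    · rintro rfl; exact hz.2.2 hw
  · show tc x y z x ≠ x
    rw [tc_x hxy hxz]; exact fun h => hxy h.symm
  · show tc x y z u = u
    exact tc_other hu (fun h => hy.1 h.symm) (fun h => hz.1 h.symm)

theorem centralizer_fixG {Δ : Finset α} (hc : Δ.card + 4 ≤ Fintype.card α) :
    Subgroup.centralizer (fixG Δ : Set (alternatingGroup α)) = supG Δ := by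
  ext g
  rw [Subgroup.mem_centralizer_iff, mem_supG]
  constructor
  · intro hg x hx
    by_contra hne
    by_cases hgx : (g : Perm α) x ∈ Δ
    · -- move `x` and fix `g x`
      obtain ⟨h, hh, hm⟩ := exists_mover (by omega) hx
      have h1 := hg h hh
      have h2 : (h : Perm α) ((g : Perm α) x) = (g : Perm α) ((h : Perm α) x) := by
        have := congrArg (fun s : alternatingGroup α => (s : Perm α) x) h1
        simpa using this
      rw [mem_fixG.mp hh _ hgx] at h2
      exact hm ((g : Perm α).injective h2.symm)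
    · -- move `g x` and fix `x`
      obtain ⟨h, hh, hm, hf⟩ := exists_mover_fixing hc hgx (Ne.symm hne)
      have h1 := hg h hh
      have h2 : (h : Perm α) ((g : Perm α) x) = (g : Perm α) ((h : Perm α) x) := by
        have := congrArg (fun s : alternatingGroup α => (s : Perm α) x) h1
        simpa using this
      rw [hf] at h2
      exact hm h2
  · intro hg h hh
    apply Subtype.ext
    apply Equiv.ext
    intro x
    show (h : Perm α) ((g : Perm α) x) = (g : Perm α) ((h : Perm α) x)
    by_cases hx : x ∈ Δ
    · rw [mem_fixG.mp hh x hx]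
      have : (g : Perm α) x ∈ Δ := by
        by_contra hn
        have h3 := (g : Perm α).injective (hg _ hn)
        exact hn (by rw [h3]; exact hx)
      rw [mem_fixG.mp hh _ this]
    · rw [hg x hx]
      have : (h : Perm α) x ∉ Δ := by
        intro hn
        have h3 := (h : Perm α).injective (mem_fixG.mp hh _ hn)
        exact hx (by rw [← h3]; exact hn)
      rw [hg _ this]

/-- Conjugation acts on fixed sets. -/
theorem map_conj_fixG (Δ : Finset α) (g : alternatingGroup α) :
    (fixG Δ).map (MulAut.conj g).toMonoidHom = fixG (Δ.image (g : Perm α)) := by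
  ext h
  simp only [Subgroup.mem_map, MulEquiv.coe_toMonoidHom, MulAut.conj_apply]
  constructor
  · rintro ⟨y, hy, rfl⟩ x hx
    obtain ⟨w, hw, rfl⟩ := Finset.mem_image.mp hx
    show (g : Perm α) ((y : Perm α) (((g : Perm α))⁻¹ ((g : Perm α) w))) = (g : Perm α) w
    simp [mem_fixG.mp hy w hw]
  · intro hh
    refine ⟨g⁻¹ * h * g, ?_, by group⟩
    intro x hx
    show ((g : Perm α))⁻¹ ((h : Perm α) ((g : Perm α) x)) = x
    rw [mem_fixG.mp hh _ (Finset.mem_image_of_mem _ hx)]; simp

theorem map_conj_supG (Δ : Finset α) (g : alternatingGroup α) :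
    (supG Δ).map (MulAut.conj g).toMonoidHom = supG (Δ.image (g : Perm α)) := by
  ext h
  simp only [Subgroup.mem_map, MulEquiv.coe_toMonoidHom, MulAut.conj_apply]
  constructor
  · rintro ⟨y, hy, rfl⟩ x hx
    show (g : Perm α) ((y : Perm α) (((g : Perm α))⁻¹ x)) = x
    have : ((g : Perm α))⁻¹ x ∉ Δ := by
      intro hn
      apply hx
      rw [Finset.mem_image]
      exact ⟨_, hn, by simp⟩
    rw [mem_supG.mp hy _ this]; simp
  · intro hh
    refine ⟨g⁻¹ * h * g, ?_, by group⟩
    intro x hx
    show ((g : Perm α))⁻¹ ((h : Perm α) ((g : Perm α) x)) = x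
    have : (g : Perm α) x ∉ Δ.image (g : Perm α) := by
      intro hn
      obtain ⟨w, hw, hwx⟩ := Finset.mem_image.mp hn
      exact hx (((g : Perm α).injective hwx) ▸ hw)
    rw [mem_supG.mp hh _ this]; simp

/-- Every point of `Δ` (of size `≥ 4`) is moved by an even permutation supported on `Δ`. -/
theorem exists_sup_mover {Δ : Finset α} (hc : 4 ≤ Δ.card) {x : α} (hx : x ∈ Δ) :
    ∃ h ∈ supG Δ, (h : Perm α) x ≠ x := by
  have h3 : 3 ≤ (Δ.erase x).card := by rw [Finset.card_erase_of_mem hx]; omega
  obtain ⟨y, hy, z, hz, hyz⟩ := Finset.one_lt_card.mp (by omega : 1 < (Δ.erase x).card)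
  simp only [Finset.mem_erase] at hy hz
  refine ⟨⟨tc x y z, tc_mem_alt (Ne.symm hy.1) hyz⟩, ?_, ?_⟩
  · intro w hw
    apply tc_other
    · rintro rfl; exact hw hx
    · rintro rfl; exact hw hy.2
    · rintro rfl; exact hw hz.2
  · show tc x y z x ≠ x
    rw [tc_x (Ne.symm hy.1) (Ne.symm hz.1)]; exact hy.1

/-- An element normalising `fixG Δ` stabilises `Δ`. -/
theorem image_eq_of_fixG_eq {Δ Δ' : Finset α} (hc : Δ.card + 3 ≤ Fintype.card α)
    (hcard : Δ'.card = Δ.card) (he : fixG Δ' = fixG Δ) : Δ' = Δ := by
  apply Finset.eq_of_subset_of_card_le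
  · intro y hy
    by_contra hn
    obtain ⟨h, hh, hm⟩ := exists_mover hc hn
    rw [← he] at hh
    exact hm (mem_fixG.mp hh y hy)
  · rw [hcard]

theorem image_eq_of_supG_eq {Δ Δ' : Finset α} (hc : 4 ≤ Δ'.card)
    (hcard : Δ'.card = Δ.card) (he : supG Δ' = supG Δ) : Δ' = Δ := by
  apply Finset.eq_of_subset_of_card_le
  · intro y hy
    by_contra hn
    obtain ⟨h, hh, hm⟩ := exists_sup_mover hc hy
    rw [he] at hh
    exact hm (mem_supG.mp hh y hn)
  · rw [hcard]

theorem normalizer_fixG_eq_supG {Δ : Finset α} (hc : Δ.card + 3 ≤ Fintype.card α)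
    (h4 : 4 ≤ Δ.card) :
    Subgroup.normalizer (fixG Δ : Set (alternatingGroup α)) =
      Subgroup.normalizer (supG Δ : Set (alternatingGroup α)) := by
  ext g
  have hcard : (Δ.image (g : Perm α)).card = Δ.card :=
    Finset.card_image_of_injective _ (g : Perm α).injective
  rw [Subgroup.mem_normalizer_iff_map_conj_eq, Subgroup.mem_normalizer_iff_map_conj_eq]
  have h1 := map_conj_fixG Δ g
  have h2 := map_conj_supG Δ g
  constructor
  · intro h
    have h' : (fixG Δ).map (MulAut.conj g).toMonoidHom = fixG Δ := h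
    rw [h1] at h'
    have h3 := image_eq_of_fixG_eq hc hcard h'
    show (supG Δ).map (MulAut.conj g).toMonoidHom = supG Δ
    rw [h2, h3]
  · intro h
    have h' : (supG Δ).map (MulAut.conj g).toMonoidHom = supG Δ := h
    rw [h2] at h'
    have h3 := image_eq_of_supG_eq (by rw [hcard]; exact h4) hcard h'
    show (fixG Δ).map (MulAut.conj g).toMonoidHom = fixG Δ
    rw [h1, h3]

/-- An even involution cannot be supported on at most three points. -/
theorem no_involution_small {S : Finset α} (hS : S.card ≤ 3) {h : Perm α}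
    (hsupp : ∀ x, x ∉ S → h x = x) (hsq : h * h = 1) (hne : h ≠ 1) (hsign : sign h = 1) : False := by
  obtain ⟨x, hx⟩ : ∃ x, h x ≠ x := by
    by_contra hcon
    push_neg at hcon
    exact hne (Equiv.ext hcon)
  have hin : ∀ w, h w ≠ w → w ∈ S := fun w hw => by
    by_contra hn; exact hw (hsupp w hn)
  have hinv : ∀ w, h (h w) = w := fun w => by
    have := congrArg (fun s : Perm α => s w) hsq
    simpa using this
  set y := h x with hy
  have hxy : x ≠ y := fun e => hx e.symm
  have hyS : y ∈ S := by
    apply hin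
    rw [hy, hinv]; exact hxy
  have hxS : x ∈ S := hin x hx
  have heq : h = swap x y := by
    apply Equiv.ext
    intro w
    by_cases hwx : w = x
    · subst hwx; simp [hy]
    by_cases hwy : w = y
    · subst hwy; rw [hy, hinv]; simp
    rw [swap_apply_of_ne_of_ne hwx hwy]
    by_contra hmove
    have hwS := hin w hmove
    have hzS : h w ∈ S := by
      apply hin
      rw [hinv]; exact fun e => hmove e.symm
    have h1 : h w ≠ x := by
      intro e
      apply hwy
      rw [hy, ← e, hinv]
    have h2 : h w ≠ y := by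
      intro e
      exact hwx (h.injective e)
    have hsub : ({x, y, w, h w} : Finset α) ⊆ S := by
      intro z hz
      simp only [Finset.mem_insert, Finset.mem_singleton] at hz
      rcases hz with rfl | rfl | rfl | rfl <;> assumption
    have hc : ({x, y, w, h w} : Finset α).card = 4 := by
      rw [Finset.card_insert_of_notMem, Finset.card_insert_of_notMem, Finset.card_pair (fun e => hmove e.symm)]
      · simp only [Finset.mem_insert, Finset.mem_singleton, not_or]
        exact ⟨fun e => hwy e.symm, fun e => h2 e.symm⟩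
      · simp only [Finset.mem_insert, Finset.mem_singleton, not_or]
        exact ⟨hxy, fun e => hwx e.symm, fun e => h1 e.symm⟩
    have := Finset.card_le_card hsub
    omega
  rw [heq, sign_swap hxy] at hsign
  exact absurd hsign (by decide)

theorem isTight {Δ : Finset α} (h4 : Δ.card = 4) :
    IsTightlyEmbedded (supG Δ) := by
  constructor
  · -- even order: a double transposition
    let e := Finset.equivFinOfCardEq h4
    set a : α := (e.symm 0 : α) with ha
    set b : α := (e.symm 1 : α) with hb
    set c : α := (e.symm 2 : α) with hc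
    set d : α := (e.symm 3 : α) with hd
    have hne : ∀ i j : Fin 4, i ≠ j → (e.symm i : α) ≠ (e.symm j : α) := by
      intro i j hij h
      exact hij (e.symm.injective (Subtype.ext h))
    have hab : a ≠ b := hne _ _ (by decide)
    have hac : a ≠ c := hne _ _ (by decide)
    have had : a ≠ d := hne _ _ (by decide)
    have hbc : b ≠ c := hne _ _ (by decide)
    have hbd : b ≠ d := hne _ _ (by decide)
    have hcd : c ≠ d := hne _ _ (by decide)
    have hmem : ∀ i : Fin 4, (e.symm i : α) ∈ Δ := fun i => (e.symm i).2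
    have hsign : swap a b * swap c d ∈ alternatingGroup α := by
      rw [mem_alternatingGroup, map_mul, sign_swap hab, sign_swap hcd]; simp
    let t : alternatingGroup α := ⟨swap a b * swap c d, hsign⟩
    have htmem : t ∈ supG Δ := by
      intro x hx
      show swap a b (swap c d x) = x
      have h1 : x ≠ c := fun h => hx (h ▸ hmem 2)
      have h2 : x ≠ d := fun h => hx (h ▸ hmem 3)
      have h3 : x ≠ a := fun h => hx (h ▸ hmem 0)
      have h5 : x ≠ b := fun h => hx (h ▸ hmem 1)
      rw [swap_apply_of_ne_of_ne h1 h2, swap_apply_of_ne_of_ne h3 h5]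
    have hsq : t ^ 2 = 1 := by
      apply Subtype.ext
      apply Equiv.ext
      intro x
      show swap a b (swap c d (swap a b (swap c d x))) = x
      have hdisj : swap c d (swap a b (swap c d x)) = swap a b x := by
        by_cases h1 : x = c
        · subst h1
          simp only [swap_apply_left]
          rw [swap_apply_of_ne_of_ne (Ne.symm had) (Ne.symm hbd), swap_apply_right,
            swap_apply_of_ne_of_ne (Ne.symm hac) (Ne.symm hbc)]
        by_cases h2 : x = d
        · subst h2
          simp only [swap_apply_right]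
          rw [swap_apply_of_ne_of_ne (Ne.symm hac) (Ne.symm hbc), swap_apply_left,
            swap_apply_of_ne_of_ne (Ne.symm had) (Ne.symm hbd)]
        rw [swap_apply_of_ne_of_ne h1 h2]
        have h5 : swap a b x ≠ c := by
          intro h
          have : x = swap a b c := by rw [← h]; simp
          rw [swap_apply_of_ne_of_ne (Ne.symm hac) (Ne.symm hbc)] at this
          exact h1 this
        have h6 : swap a b x ≠ d := by
          intro h
          have : x = swap a b d := by rw [← h]; simp
          rw [swap_apply_of_ne_of_ne (Ne.symm had) (Ne.symm hbd)] at this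
          exact h2 this
        exact swap_apply_of_ne_of_ne h5 h6
      rw [hdisj]; simp
    have hne1 : t ≠ 1 := by
      intro h
      have h1 := congrArg (fun s : alternatingGroup α => (s : Perm α) c) h
      have h2 : swap a b (swap c d c) = c := h1
      rw [swap_apply_left, swap_apply_of_ne_of_ne (Ne.symm had) (Ne.symm hbd)] at h2
      exact hcd h2.symm
    have hord : orderOf t = 2 := orderOf_eq_prime hsq hne1
    have : 2 ∣ Nat.card (supG Δ) := by
      have := Subgroup.orderOf_dvd_natCard (supG Δ) htmem
      rwa [hord] at this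
    exact (even_iff_two_dvd).mpr this
  · intro g hg
    rw [Subgroup.mem_normalizer_iff_map_conj_eq] at hg
    have h2 := map_conj_supG Δ g
    have hg' : (supG Δ).map (MulAut.conj g).toMonoidHom ≠ supG Δ := hg
    rw [h2]
    have hne : Δ.image (g : Perm α) ≠ Δ := by
      rw [h2] at hg'
      intro h
      rw [h] at hg'
      exact hg' rfl
    have hcard : (Δ.image (g : Perm α)).card = Δ.card :=
      Finset.card_image_of_injective _ (g : Perm α).injective
    have hScard : (Δ ∩ Δ.image (g : Perm α)).card ≤ 3 := by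
      by_contra hcon
      have h5 : (Δ ∩ Δ.image (g : Perm α)).card = Δ.card := by
        have := Finset.card_le_card (Finset.inter_subset_left (s₁ := Δ) (s₂ := Δ.image (g : Perm α)))
        omega
      have h6 := Finset.eq_of_subset_of_card_le (Finset.inter_subset_left (s₁ := Δ) (s₂ := Δ.image (g : Perm α))) (by omega)
      have h7 := Finset.eq_of_subset_of_card_le (Finset.inter_subset_right (s₁ := Δ) (s₂ := Δ.image (g : Perm α))) (by omega)
      exact hne (h7.symm.trans h6)
    by_contra hodd
    rw [Nat.not_odd_iff_even, even_iff_two_dvd] at hodd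
    haveI : Fact (Nat.Prime 2) := ⟨Nat.prime_two⟩
    obtain ⟨k, hk⟩ := exists_prime_orderOf_dvd_card' (G := ↥(supG Δ ⊓ supG (Δ.image (g : Perm α)))) 2 hodd
    have hk1 : (k : alternatingGroup α) ∈ supG Δ := k.2.1
    have hk2 : (k : alternatingGroup α) ∈ supG (Δ.image (g : Perm α)) := k.2.2
    have hk3 : orderOf (k : alternatingGroup α) = 2 := by rw [Subgroup.orderOf_coe]; exact hk
    have hk4 : ((k : alternatingGroup α) : Perm α) * ((k : alternatingGroup α) : Perm α) = 1 := by
      have := pow_orderOf_eq_one (k : alternatingGroup α)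
      rw [hk3, pow_two] at this
      exact congrArg Subtype.val this
    have hk5 : ((k : alternatingGroup α) : Perm α) ≠ 1 := by
      intro h
      have : (k : alternatingGroup α) = 1 := Subtype.ext h
      rw [this, orderOf_one] at hk3
      omega
    refine no_involution_small hScard ?_ hk4 hk5 (k : alternatingGroup α).2
    intro x hx
    rw [Finset.mem_inter, not_and_or] at hx
    rcases hx with hx | hx
    · exact hk1 x hx
    · exact hk2 x hx

theorem comm_ne_bot {Δ Δ' : Finset α} (h4 : Δ.card = 4) (h4' : Δ'.card = 4)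
    (hn : 9 ≤ Fintype.card α) : ⁅fixG Δ, fixG Δ'⁆ ≠ ⊥ := by
  intro hbot
  obtain ⟨c, hc⟩ : ∃ c, c ∉ Δ ∪ Δ' := by
    by_contra hcon
    push_neg at hcon
    have h1 : (Δ ∪ Δ') = Finset.univ := Finset.eq_univ_iff_forall.mpr hcon
    have h2 := Finset.card_union_le Δ Δ'
    rw [h1, Finset.card_univ] at h2
    omega
  rw [Finset.mem_union, not_or] at hc
  have hcard1 : 1 < ((insert c Δ)ᶜ : Finset α).card := by
    rw [Finset.card_compl, Finset.card_insert_of_notMem hc.1]; omega
  obtain ⟨a1, h1, a2, h2, ha12⟩ := Finset.one_lt_card.mp hcard1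
  simp only [Finset.mem_compl, Finset.mem_insert, not_or] at h1 h2
  have hcard2 : 1 < ((insert c (insert a1 (insert a2 Δ')))ᶜ : Finset α).card := by
    rw [Finset.card_compl]
    have e1 := Finset.card_insert_le c (insert a1 (insert a2 Δ'))
    have e2 := Finset.card_insert_le a1 (insert a2 Δ')
    have e3 := Finset.card_insert_le a2 Δ'
    omega
  obtain ⟨b1, h3, b2, h4'', hb12⟩ := Finset.one_lt_card.mp hcard2
  simp only [Finset.mem_compl, Finset.mem_insert, not_or] at h3 h4''
  have hca1 : c ≠ a1 := fun e => h1.1 e.symm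
  have hca2 : c ≠ a2 := fun e => h2.1 e.symm
  have hcb1 : c ≠ b1 := fun e => h3.1 e.symm
  have hcb2 : c ≠ b2 := fun e => h4''.1 e.symm
  let a : alternatingGroup α := ⟨tc c a1 a2, tc_mem_alt hca1 ha12⟩
  let b : alternatingGroup α := ⟨tc c b1 b2, tc_mem_alt hcb1 hb12⟩
  have ha : a ∈ fixG Δ := by
    intro w hw
    apply tc_other
    · rintro rfl; exact hc.1 hw
    · rintro rfl; exact h1.2 hw
    · rintro rfl; exact h2.2 hw
  have hb : b ∈ fixG Δ' := by
    intro w hw
    apply tc_other
    · rintro rfl; exact hc.2 hw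
    · rintro rfl; exact h3.2.2.2 hw
    · rintro rfl; exact h4''.2.2.2 hw
  have hcomm := Subgroup.commutator_mem_commutator ha hb
  rw [hbot, Subgroup.mem_bot, commutatorElement_eq_one_iff_mul_comm] at hcomm
  have := congrArg (fun s : alternatingGroup α => (s : Perm α) c) hcomm
  have hL : (a * b : alternatingGroup α).1 c = tc c a1 a2 (tc c b1 b2 c) := rfl
  have hR : (b * a : alternatingGroup α).1 c = tc c b1 b2 (tc c a1 a2 c) := rfl
  simp only [hL, hR] at this
  rw [tc_x hcb1 hcb2, tc_x hca1 hca2,
    tc_other (fun e => hcb1 e.symm) (fun e => h3.2.1 e) (fun e => h3.2.2.1 e),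
    tc_other (fun e => hca1 e.symm) (fun e => h3.2.1 e.symm) (fun e => h4''.2.1 e.symm)] at this
  exact h3.2.1 this

theorem alt_quasisimple {β : Type*} [Fintype β] [DecidableEq β] (h : 5 ≤ Nat.card β) :
    IsQuasisimple (alternatingGroup β) := by
  haveI := alternatingGroup.isSimpleGroup h
  refine ⟨⟨commutator_alternatingGroup_eq_top h⟩, ?_⟩
  have hcen := alternatingGroup.center_eq_bot (α := β) (by omega)
  exact ((QuotientGroup.quotientMulEquivOfEq hcen).trans QuotientGroup.quotientBot).isSimpleGroup

theorem fixG_quasisimple {Δ : Finset α} (h : Δ.card + 5 ≤ Fintype.card α) :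
    IsQuasisimple (fixG Δ) := by
  classical
  let φ : alternatingGroup {x // x ∉ Δ} →* fixG Δ :=
    { toFun := fun σ => ⟨⟨ofSubtype σ.1, by rw [mem_alternatingGroup, sign_ofSubtype]; exact σ.2⟩,
        fun x hx => ofSubtype_apply_of_not_mem _ (by simpa using hx)⟩
      map_one' := by
        apply Subtype.ext; apply Subtype.ext
        simp
      map_mul' := by
        intro a b
        apply Subtype.ext; apply Subtype.ext
        simp }
  have hinj : Function.Injective φ := by
    intro a b hab
    have h1 : ofSubtype a.1 = ofSubtype b.1 := congrArg (fun s : fixG Δ => ((s : alternatingGroup α) : Perm α)) hab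
    exact Subtype.ext (ofSubtype_injective h1)
  have hsurj : Function.Surjective φ := by
    intro g
    have hg : ∀ x ∈ Δ, ((g : alternatingGroup α) : Perm α) x = x := g.2
    have h1 : ∀ x, (((g : alternatingGroup α) : Perm α) x ∉ Δ) ↔ x ∉ Δ := by
      intro x
      simp only [not_iff_not]
      constructor
      · intro hx
        have := hg _ hx
        have h3 := ((g : alternatingGroup α) : Perm α).injective this
        rw [← h3]; exact hx
      · intro hx
        rw [hg x hx]; exact hx
    have h2 : ∀ x, ((g : alternatingGroup α) : Perm α) x ≠ x → x ∉ Δ := by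
      intro x hx hn
      exact hx (hg x hn)
    refine ⟨⟨subtypePerm ((g : alternatingGroup α) : Perm α) h1, ?_⟩, ?_⟩
    · rw [mem_alternatingGroup, sign_subtypePerm (p := fun x => x ∉ Δ) _ h1 h2]
      exact (g : alternatingGroup α).2
    · apply Subtype.ext; apply Subtype.ext
      exact ofSubtype_subtypePerm (p := fun x => x ∉ Δ) h1 h2
  let e := MulEquiv.ofBijective φ ⟨hinj, hsurj⟩
  have hc : 5 ≤ Nat.card {x // x ∉ Δ} := by
    rw [Nat.card_eq_fintype_card, Fintype.card_subtype_compl, Fintype.card_coe]
    omega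
  exact Cfsg.Agent.Lib.Components.Basic.isQuasisimple_of_mulEquiv e (alt_quasisimple hc)

theorem isStandard {Δ : Finset α} (h4 : Δ.card = 4) (hn : 9 ≤ Fintype.card α) :
    IsStandardSubgroup (fixG Δ) := by
  refine ⟨fixG_quasisimple (by omega), ?_, ?_, ?_⟩
  · rw [centralizer_fixG (by omega)]
    exact isTight h4
  · intro g _
    rw [map_conj_fixG]
    exact comm_ne_bot h4 (by rw [Finset.card_image_of_injective _ (g : Perm α).injective]; exact h4) hn
  · rw [centralizer_fixG (by omega)]
    exact normalizer_fixG_eq_supG (by omega) (by omega)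

end Gen

/-- For n ≥ 9, the subgroup of the alternating group on Fin n fixing each of the points 0, 1, 2, 3 is a standard subgroup. -/
theorem result (n : ℕ) (h4 : 4 ≤ n) (hn : 9 ≤ n) : Cfsg.IsStandardSubgroup (⨅ i : Fin 4, MulAction.stabilizer ↥(alternatingGroup (Fin n)) (Fin.castLE h4 i : Fin n)) := by
  have hΔ : (Finset.univ.image (Fin.castLE h4) : Finset (Fin n)).card = 4 := by
    rw [Finset.card_image_of_injective _ (Fin.castLE_injective h4)]; simp
  have heq : (⨅ i : Fin 4, MulAction.stabilizer ↥(alternatingGroup (Fin n)) (Fin.castLE h4 i : Fin n)) =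
      fixG (Finset.univ.image (Fin.castLE h4) : Finset (Fin n)) := by
    ext g
    rw [Subgroup.mem_iInf, mem_fixG]
    constructor
    · intro h x hx
      obtain ⟨i, -, rfl⟩ := Finset.mem_image.mp hx
      exact h i
    · intro h i
      exact h _ (Finset.mem_image_of_mem _ (Finset.mem_univ i))
  rw [heq]
  exact isStandard hΔ (by simpa using hn)

end Cfsg.Agent.S1323
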