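import Cfsg.Statements.S1339
import Mathlib
import Cfsg.Agent.Lib.Components.CharP

set_option autoImplicit false
open Cfsg

namespace Cfsg.Agent.S1339

open Matrix

section

variable {F : Type*} [Field F] {n : ℕ}

/-- The matrices of `SL` whose rows other than the `i`-th are those of the identity. -/
def rowGroup (F : Type*) [Field F] {n : ℕ} (i : Fin n) : Subgroup (SpecialLinearGroup (Fin n) F) where
  carrier := {g | ∀ r, r ≠ i → ∀ s, (g : Matrix (Fin n) (Fin n) F) r s =
    (1 : Matrix (Fin n) (Fin n) F) r s}
  one_mem' := by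
    intro r _ s
    rfl
  mul_mem' := by
    intro a b ha hb r hr s
    show ((a : Matrix (Fin n) (Fin n) F) * (b : Matrix (Fin n) (Fin n) F)) r s = _
    rw [Matrix.mul_apply]
    simp only [ha r hr]
    rw [← Matrix.mul_apply, Matrix.one_mul]
    exact hb r hr s
  inv_mem' := by
    intro a ha r hr s
    have h : ((a : Matrix (Fin n) (Fin n) F) *
        ((a⁻¹ : SpecialLinearGroup (Fin n) F) : Matrix (Fin n) (Fin n) F)) r s =
        (1 : Matrix (Fin n) (Fin n) F) r s :=
      congrArg (fun y : SpecialLinearGroup (Fin n) F => (y : Matrix (Fin n) (Fin n) F) r s)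
        (mul_inv_cancel a)
    rw [Matrix.mul_apply] at h
    simp only [ha r hr] at h
    rw [← Matrix.mul_apply, Matrix.one_mul] at h
    exact h

lemma col_zero_of_comm {c t : Matrix (Fin n) (Fin n) F} {i j : Fin n}
    (ht : t = transvection i j 1) (h : c * t = t * c) (r : Fin n) (hr : r ≠ i) : c r i = 0 := by
  have h1 : c * single i j 1 = single i j 1 * c := by
    rw [ht, transvection, mul_add, add_mul, mul_one, one_mul] at h
    exact add_left_cancel h
  have h2 := congrFun (congrFun h1 r) j
  rw [mul_single_apply_same, single_mul_apply_of_ne _ _ _ _ _ hr, mul_one] at h2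
  exact h2

lemma mul_row_apply {c g : Matrix (Fin n) (Fin n) F} {i r : Fin n} (hc : c r i = 0)
    (hg : ∀ r, r ≠ i → ∀ s, g r s = (1 : Matrix (Fin n) (Fin n) F) r s) (s : Fin n) :
    (c * g) r s = c r s := by
  have : (c * g) r s = (c * (1 : Matrix (Fin n) (Fin n) F)) r s := by
    rw [mul_apply, mul_apply]
    refine Finset.sum_congr rfl fun k _ => ?_
    by_cases hk : k = i
    · subst hk
      rw [hc, zero_mul, zero_mul]
    · rw [hg k hk s]
  rwa [mul_one] at this

variable [Fintype F]

lemma zero_or_one (hF : Fintype.card F = 2) (x : F) : x = 0 ∨ x = 1 := by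
  have h : x ^ 2 = x := by
    have := FiniteField.pow_card x
    rwa [hF] at this
  have h2 : x * (x - 1) = 0 := by linear_combination h
  rcases mul_eq_zero.1 h2 with h3 | h3
  · exact Or.inl h3
  · exact Or.inr (sub_eq_zero.1 h3)

lemma one_add_one (hF : Fintype.card F = 2) : (1 : F) + 1 = 0 := by
  have h := FiniteField.cast_card_eq_zero F
  rw [hF] at h
  have h' : (2 : F) = 0 := by exact_mod_cast h
  linear_combination h'

lemma diag_eq_one (hF : Fintype.card F = 2) {c : Matrix (Fin n) (Fin n) F} (hdet : c.det = 1)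
    {i : Fin n} (hc : ∀ r, r ≠ i → c r i = 0) : c i i = 1 := by
  rcases zero_or_one hF (c i i) with h | h
  · exfalso
    have h0 : c.det = 0 := det_eq_zero_of_column_eq_zero i (fun r => by
      by_cases hr : r = i
      · subst hr
        exact h
      · exact hc r hr)
    rw [h0] at hdet
    exact zero_ne_one hdet
  · exact h

lemma mul_self_eq_one (hF : Fintype.card F = 2) {i : Fin n} {g : Matrix (Fin n) (Fin n) F}
    (hdet : g.det = 1) (hg : ∀ r, r ≠ i → ∀ s, g r s = (1 : Matrix (Fin n) (Fin n) F) r s) :
    g * g = 1 := by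
  have hcol : ∀ r, r ≠ i → g r i = 0 := fun r hr => by rw [hg r hr i, one_apply_ne hr]
  have hii : g i i = 1 := diag_eq_one hF hdet hcol
  set D : Matrix (Fin n) (Fin n) F := g - 1 with hD
  have hgD : g = 1 + D := by rw [hD]; abel
  have hDD : D * D = 0 := by
    ext r s
    rw [mul_apply]
    refine Finset.sum_eq_zero fun k _ => ?_
    by_cases hk : k = i
    · subst hk
      by_cases hr : r = k
      · subst hr
        simp [hD, hii]
      · simp [hD, hcol r hr, one_apply_ne hr]
    · have : D k s = 0 := by simp [hD, hg k hk s]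
      rw [this, mul_zero]
  have h2 : D + D = 0 := by
    have : D + D = ((1 : F) + 1) • D := by rw [add_smul, one_smul]
    rw [this, one_add_one hF, zero_smul]
  calc g * g = (1 + D) * (1 + D) := by rw [← hgD]
    _ = 1 + (D + D) + D * D := by noncomm_ring
    _ = 1 := by rw [h2, hDD, add_zero, add_zero]

end

/-- Let F be a field with 2 elements, n ≥ 3, and t ∈ SL(n, F) a transvection (t = 1 + E_{ij}, i ≠ j). Then the generalized Fitting subgroup of C(t) is O_2(C(t)). -/
theorem result {F : Type*} [Field F] [Fintype F] [DecidableEq F] (hF : Fintype.card F = 2) (n : ℕ) (hn : 3 ≤ n) (i j : Fin n) (hij : i ≠ j) (t : Matrix.SpecialLinearGroup (Fin n) F) (ht : (t : Matrix (Fin n) (Fin n) F) = Matrix.transvection i j 1) : Cfsg.generalizedFittingSubgroup ↥(Subgroup.centralizer ({t} : Set (Matrix.SpecialLinearGroup (Fin n) F))) = Cfsg.pCore 2 ↥(Subgroup.centralizer ({t} : Set (Matrix.SpecialLinearGroup (Fin n) F))) := by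
  classical
  have hfact : Fact (Nat.Prime 2) := ⟨Nat.prime_two⟩
  set C : Subgroup (SpecialLinearGroup (Fin n) F) := Subgroup.centralizer {t} with hC
  have hfin : Finite C := inferInstance
  have hmemC : ∀ c : SpecialLinearGroup (Fin n) F, c ∈ C →
      (c : Matrix (Fin n) (Fin n) F) * (t : Matrix (Fin n) (Fin n) F) = t * c := by
    intro c hc
    have h := Subgroup.mem_centralizer_iff.1 hc t rfl
    have h' := congrArg (fun y : SpecialLinearGroup (Fin n) F => (y : Matrix (Fin n) (Fin n) F)) h
    exact h'.symm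
  have hcol : ∀ c : C, ∀ r, r ≠ i → ((c : SpecialLinearGroup (Fin n) F) : Matrix (Fin n) (Fin n) F) r i = 0 :=
    fun c r hr => col_zero_of_comm ht (hmemC c c.2) r hr
  set Q : Subgroup C := (rowGroup F i).subgroupOf C with hQdef
  have hQnormal : Q.Normal := by
    refine ⟨fun g hg c => ?_⟩
    rw [hQdef, Subgroup.mem_subgroupOf] at hg ⊢
    intro r hr s
    have hg' : ∀ r, r ≠ i → ∀ s, ((g : SpecialLinearGroup (Fin n) F) : Matrix (Fin n) (Fin n) F) r s =
        (1 : Matrix (Fin n) (Fin n) F) r s := hg
    have h1 : (((c * g * c⁻¹ : C) : SpecialLinearGroup (Fin n) F) : Matrix (Fin n) (Fin n) F) =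
        ((c : SpecialLinearGroup (Fin n) F) : Matrix (Fin n) (Fin n) F) *
          ((g : SpecialLinearGroup (Fin n) F) : Matrix (Fin n) (Fin n) F) *
          (((c⁻¹ : C) : SpecialLinearGroup (Fin n) F) : Matrix (Fin n) (Fin n) F) := rfl
    rw [h1, mul_apply]
    simp only [mul_row_apply (hcol c r hr) hg']
    rw [← mul_apply]
    have h2 : ((c : SpecialLinearGroup (Fin n) F) : Matrix (Fin n) (Fin n) F) *
        (((c⁻¹ : C) : SpecialLinearGroup (Fin n) F) : Matrix (Fin n) (Fin n) F) = 1 :=
      congrArg (fun y : C => ((y : SpecialLinearGroup (Fin n) F) : Matrix (Fin n) (Fin n) F))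
        (mul_inv_cancel c)
    rw [h2]
  have hQp : IsPGroup 2 Q := by
    rintro ⟨x, hx⟩
    refine ⟨1, ?_⟩
    apply Subtype.ext
    apply Subtype.ext
    apply Matrix.SpecialLinearGroup.ext
    intro r s
    have h := mul_self_eq_one hF (((x : SpecialLinearGroup (Fin n) F)).2) hx
    have h3 : ((((⟨x, hx⟩ : Q) ^ 2 ^ 1 : Q) : C) : SpecialLinearGroup (Fin n) F).1 =
        ((x : SpecialLinearGroup (Fin n) F)).1 * ((x : SpecialLinearGroup (Fin n) F)).1 := by
      simp [pow_two]
    rw [h3, h]
    rfl
  have hQle : Q ≤ pCore 2 C := le_sSup ⟨hQnormal, hQp⟩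
  have hcent : Subgroup.centralizer (pCore 2 C : Set C) ≤ pCore 2 C := by
    intro x hx
    apply hQle
    rw [hQdef, Subgroup.mem_subgroupOf]
    intro r hr s
    -- the transvection in row `i`
    have hri : i ≠ r := fun h => hr h.symm
    let τ : SpecialLinearGroup (Fin n) F := ⟨transvection i r 1, det_transvection_of_ne i r hri 1⟩
    have hτC : τ ∈ C := by
      rw [hC, Subgroup.mem_centralizer_iff]
      intro y hy
      have hyt : y = t := hy
      subst hyt
      apply Matrix.SpecialLinearGroup.ext
      intro a b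
      have h1 : ((y : Matrix (Fin n) (Fin n) F) * transvection i r 1) =
          transvection i r 1 * (y : Matrix (Fin n) (Fin n) F) := by
        have e1 : (single i j 1 : Matrix (Fin n) (Fin n) F) * single i r 1 = 0 :=
          single_mul_single_of_ne _ _ _ _ hij.symm _
        have e2 : (single i r 1 : Matrix (Fin n) (Fin n) F) * single i j 1 = 0 :=
          single_mul_single_of_ne _ _ _ _ hr _
        rw [ht]
        simp only [transvection, mul_add, add_mul, mul_one, one_mul, e1, e2, add_zero]
        abel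
      exact congrFun (congrFun h1 a) b
    have hτQ : (⟨τ, hτC⟩ : C) ∈ Q := by
      rw [hQdef, Subgroup.mem_subgroupOf]
      intro a ha b
      show (1 + single i r 1 : Matrix (Fin n) (Fin n) F) a b = _
      rw [Matrix.add_apply, single_apply_of_row_ne ha.symm, add_zero]
    have hcomm := Subgroup.mem_centralizer_iff.1 hx ⟨τ, hτC⟩ (hQle hτQ)
    have hcomm' : transvection i r 1 * ((x : SpecialLinearGroup (Fin n) F) : Matrix (Fin n) (Fin n) F) =
        ((x : SpecialLinearGroup (Fin n) F) : Matrix (Fin n) (Fin n) F) * transvection i r 1 :=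
      congrArg (fun y : C => ((y : SpecialLinearGroup (Fin n) F) : Matrix (Fin n) (Fin n) F)) hcomm
    have h1 : single i r 1 * ((x : SpecialLinearGroup (Fin n) F) : Matrix (Fin n) (Fin n) F) =
        ((x : SpecialLinearGroup (Fin n) F) : Matrix (Fin n) (Fin n) F) * single i r 1 := by
      rw [transvection, add_mul, mul_add, mul_one, one_mul] at hcomm'
      exact add_left_cancel hcomm'
    have h2 := congrFun (congrFun h1 i) s
    rw [single_mul_apply_same, one_mul] at h2
    have hii : ((x : SpecialLinearGroup (Fin n) F) : Matrix (Fin n) (Fin n) F) i i = 1 :=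
      diag_eq_one hF ((x : SpecialLinearGroup (Fin n) F)).2 (hcol x)
    show ((x : SpecialLinearGroup (Fin n) F) : Matrix (Fin n) (Fin n) F) r s = _
    by_cases hs : s = r
    · subst hs
      rw [h2, mul_single_apply_same, hii, one_mul, one_apply_eq]
    · rw [h2, mul_single_apply_of_ne _ _ _ _ _ hs, one_apply_ne (Ne.symm hs)]
  exact Cfsg.Agent.Lib.Components.LocalFStar.generalizedFitting_eq_pCore_iff.2
    ((Cfsg.Agent.Lib.Components.CharP.isPGroup_Fstar_iff_centralizer_le 2).2 hcent)

end Cfsg.Agent.S1339
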