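import Cfsg.Statements.S1340
import Cfsg.Agent.Lib.Classical.Lin.Transvections
import Cfsg.Agent.Lib.Components.Quasisimple
import Cfsg.Agent.Lib.Solvable.Carter
import Mathlib

set_option autoImplicit false
open Cfsg

namespace Cfsg.Agent.S1340

open Matrix

variable {F : Type*} [Field F] {m : ℕ}

/-- The block decomposition `k^(m+1) = k^m ⊕ k`, transported to `Fin (m+1)`. -/
noncomputable def blk [DecidableEq F] (A : Matrix (Fin m) (Fin m) F) (D : Matrix (Fin 1) (Fin 1) F) :
    Matrix (Fin (m + 1)) (Fin (m + 1)) F :=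
  Matrix.reindex (finSumFinEquiv (m := m) (n := 1)) (finSumFinEquiv (m := m) (n := 1))
    (fromBlocks A 0 0 D)

variable [DecidableEq F]

lemma blk_mul (A A' : Matrix (Fin m) (Fin m) F) (D D' : Matrix (Fin 1) (Fin 1) F) :
    blk A D * blk A' D' = blk (A * A') (D * D') := by
  unfold blk
  rw [Matrix.reindex_apply, Matrix.reindex_apply, Matrix.reindex_apply,
    Matrix.submatrix_mul_equiv, fromBlocks_multiply]
  simp

lemma blk_one : blk (1 : Matrix (Fin m) (Fin m) F) (1 : Matrix (Fin 1) (Fin 1) F) = 1 := by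
  unfold blk
  rw [Matrix.reindex_apply, fromBlocks_one]
  simp

lemma blk_inj {A A' : Matrix (Fin m) (Fin m) F} {D D' : Matrix (Fin 1) (Fin 1) F}
    (h : blk A D = blk A' D') : A = A' ∧ D = D' := by
  unfold blk at h
  have h1 := (Matrix.reindex (finSumFinEquiv (m := m) (n := 1))
    (finSumFinEquiv (m := m) (n := 1))).injective h
  have h2 := Matrix.fromBlocks_inj.1 h1
  exact ⟨h2.1, h2.2.2.2⟩

lemma det_blk (A : Matrix (Fin m) (Fin m) F) (D : Matrix (Fin 1) (Fin 1) F) :
    (blk A D).det = A.det * D.det := by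
  unfold blk
  rw [Matrix.det_reindex_self, det_fromBlocks_zero₁₂]

/-- The embedding `SL_m → GL_{m+1}`, with image in the lower block fixed. -/
noncomputable def phi : SpecialLinearGroup (Fin m) F →* GL (Fin (m + 1)) F where
  toFun M := ⟨blk M.1 1, blk (M⁻¹).1 1, by
    have h : M.1 * (M⁻¹).1 = 1 := congrArg Subtype.val (mul_inv_cancel M)
    rw [blk_mul, h, mul_one]; exact blk_one, by
    have h : (M⁻¹).1 * M.1 = 1 := congrArg Subtype.val (inv_mul_cancel M)
    rw [blk_mul, h, mul_one]; exact blk_one⟩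
  map_one' := by
    apply Units.ext
    exact blk_one
  map_mul' x y := by
    apply Units.ext
    show blk (x * y).1 1 = blk x.1 1 * blk y.1 1
    rw [blk_mul, mul_one]
    rfl

lemma phi_coe (M : SpecialLinearGroup (Fin m) F) :
    ((phi M : GL (Fin (m + 1)) F) : Matrix (Fin (m + 1)) (Fin (m + 1)) F) = blk M.1 1 := rfl

lemma phi_injective : Function.Injective (phi (F := F) (m := m)) := by
  intro x y h
  have h1 : blk x.1 (1 : Matrix (Fin 1) (Fin 1) F) = blk y.1 1 := by
    rw [← phi_coe, ← phi_coe, h]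
  exact Subtype.ext (blk_inj h1).1

/-- The involution `diag(1, …, 1, -1)`. -/
noncomputable def tt : GL (Fin (m + 1)) F :=
  ⟨blk 1 (-1), blk 1 (-1), by rw [blk_mul]; simp [blk_one], by rw [blk_mul]; simp [blk_one]⟩

lemma tt_coe : ((tt : GL (Fin (m + 1)) F) : Matrix (Fin (m + 1)) (Fin (m + 1)) F) = blk 1 (-1) := rfl

lemma tt_sq : (tt : GL (Fin (m + 1)) F) ^ 2 = 1 := by
  apply Units.ext
  rw [pow_two, Units.val_mul, tt_coe, blk_mul]
  simp [blk_one]

lemma phi_comm (M : SpecialLinearGroup (Fin m) F) : phi M * tt = tt * phi M := by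
  apply Units.ext
  rw [Units.val_mul, Units.val_mul, phi_coe, tt_coe, blk_mul, blk_mul]
  simp

lemma eq_zero_of_neg_eq (h2 : (2 : F) ≠ 0) {x : F} (h : -x = x) : x = 0 := by
  have : (2 : F) * x = 0 := by linear_combination -h
  exact (mul_eq_zero.1 this).resolve_left h2

lemma mat_eq_zero_of_neg_eq (h2 : (2 : F) ≠ 0) {α β : Type*} {x : Matrix α β F} (h : -x = x) : x = 0 := by
  ext i j
  exact eq_zero_of_neg_eq h2 (congrFun (congrFun h i) j)

/-- A matrix commuting with `t` is in block form. -/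
lemma exists_blk_of_commute (h2 : (2 : F) ≠ 0) (c : Matrix (Fin (m + 1)) (Fin (m + 1)) F)
    (hc : c * blk 1 (-1) = blk 1 (-1) * c) : ∃ A D, c = blk A D := by
  set e := finSumFinEquiv (m := m) (n := 1) with he
  set c' := c.submatrix e e with hc'
  have hr : c = Matrix.reindex e e c' := by
    simp [c', Matrix.reindex_apply]
  have hb0 : (blk (1 : Matrix (Fin m) (Fin m) F) (-1 : Matrix (Fin 1) (Fin 1) F)).submatrix e e =
      fromBlocks 1 0 0 (-1) := by
    simp [blk, Matrix.reindex_apply, e]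
  have h1 : c' * fromBlocks 1 0 0 (-1) = fromBlocks 1 0 0 (-1) * c' := by
    rw [← hb0, hc', Matrix.submatrix_mul_equiv, Matrix.submatrix_mul_equiv, hc]
  have h3 := fromBlocks_toBlocks c'
  rw [← h3, fromBlocks_multiply, fromBlocks_multiply] at h1
  simp only [Matrix.mul_one, Matrix.mul_zero, add_zero, zero_add, Matrix.one_mul, Matrix.zero_mul,
    Matrix.mul_neg, Matrix.neg_mul] at h1
  have h4 := Matrix.fromBlocks_inj.1 h1
  have hb : c'.toBlocks₁₂ = 0 := mat_eq_zero_of_neg_eq h2 h4.2.1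
  have hc2 : c'.toBlocks₂₁ = 0 := by
    apply mat_eq_zero_of_neg_eq h2
    exact h4.2.2.1.symm
  refine ⟨c'.toBlocks₁₁, c'.toBlocks₂₂, ?_⟩
  rw [hr]
  unfold blk
  congr 1
  rw [← hb, ← hc2, fromBlocks_toBlocks]

lemma tt_ne_one (h2 : (2 : F) ≠ 0) : (tt : GL (Fin (m + 1)) F) ≠ 1 := by
  intro h
  have h1 : blk (1 : Matrix (Fin m) (Fin m) F) (-1 : Matrix (Fin 1) (Fin 1) F) = blk 1 1 := by
    rw [blk_one, ← tt_coe, h]; rfl
  have h3 := (blk_inj h1).2
  have h4 := congrFun (congrFun h3 0) 0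
  simp at h4
  apply h2
  linear_combination -h4

lemma orderOf_tt (h2 : (2 : F) ≠ 0) : orderOf (tt : GL (Fin (m + 1)) F) = 2 := by
  haveI : Fact (Nat.Prime 2) := ⟨Nat.prime_two⟩
  exact orderOf_eq_prime tt_sq (tt_ne_one h2)

lemma tt_not_center (h2 : (2 : F) ≠ 0) (hm : 1 ≤ m) :
    (tt : GL (Fin (m + 1)) F) ∉ Subgroup.center (GL (Fin (m + 1)) F) := by
  intro hc
  set e := finSumFinEquiv (m := m) (n := 1) with he
  let i0 : Fin m := ⟨0, by omega⟩
  have hab : e (Sum.inl i0) ≠ e (Sum.inr 0) := fun h => by simpa using e.injective h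
  let g : GL (Fin (m + 1)) F := SpecialLinearGroup.toGL (SpecialLinearGroup.transvection hab (1 : F))
  have h1 := Subgroup.mem_center_iff.1 hc g
  have h3 : ((g : GL (Fin (m + 1)) F) : Matrix (Fin (m + 1)) (Fin (m + 1)) F) * blk 1 (-1) =
      blk 1 (-1) * ((g : GL (Fin (m + 1)) F) : Matrix (Fin (m + 1)) (Fin (m + 1)) F) := by
    rw [← tt_coe, ← Units.val_mul, ← Units.val_mul, h1]
  obtain ⟨A, D, hAD⟩ := exists_blk_of_commute h2 _ h3
  have h4 : ((g : GL (Fin (m + 1)) F) : Matrix (Fin (m + 1)) (Fin (m + 1)) F) (e (Sum.inl i0)) (e (Sum.inr 0)) = 1 := by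
    show (Matrix.transvection (e (Sum.inl i0)) (e (Sum.inr 0)) (1 : F)) _ _ = 1
    simp [Matrix.transvection, Matrix.one_apply, hab]
  rw [hAD] at h4
  simp [blk, Matrix.reindex_apply, e] at h4

/-- The quasisimplicity of `SL_m(F)`. -/
lemma sl_quasi [Fintype F] (hF : Odd (Fintype.card F)) (hm : 2 ≤ m)
    (h23 : ¬ (m = 2 ∧ Fintype.card F = 3)) : IsQuasisimple (SpecialLinearGroup (Fin m) F) := by
  rcases eq_or_lt_of_le hm with rfl | h3
  · have hq1 : 1 < Fintype.card F := Fintype.one_lt_card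
    have hq : 5 ≤ Fintype.card F := by
      obtain ⟨k, hk⟩ := hF
      have : Fintype.card F ≠ 3 := fun h => h23 ⟨rfl, h⟩
      omega
    refine ⟨?_, Matrix.ProjectiveSpecialLinearGroup.rank_two_simple
      (by rw [Nat.card_eq_fintype_card]; omega)⟩
    obtain ⟨a, ha⟩ := IsCyclic.exists_generator (α := Fˣ)
    have hord : orderOf a = Fintype.card F - 1 := by
      rw [orderOf_eq_card_of_forall_mem_zpowers ha, Nat.card_eq_fintype_card, Fintype.card_units]
    have hsq : (a : F) ^ 2 ≠ 1 := by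
      intro h
      have h1 : a ^ 2 = 1 := Units.ext (by simpa using h)
      have h4 := orderOf_dvd_of_pow_eq_one h1
      rw [hord] at h4
      have := Nat.le_of_dvd (by norm_num) h4
      omega
    exact ⟨Matrix.SL2.commutator_eq_top a.ne_zero hsq⟩
  · have h3' : 3 ≤ Fintype.card (Fin m) := by simp; omega
    exact ⟨⟨Cfsg.Agent.Lib.Classical.Lin.Transvections.commutator_eq_top h3'⟩,
      Cfsg.Agent.Lib.Classical.Lin.Transvections.psl_isSimpleGroup h3'⟩

lemma exists_sl_invol (h2 : (2 : F) ≠ 0) (hm : 2 ≤ m) :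
    ∃ x : SpecialLinearGroup (Fin m) F, orderOf x = 2 := by
  haveI : Fact (Nat.Prime 2) := ⟨Nat.prime_two⟩
  let i : Fin m := ⟨0, by omega⟩
  let j : Fin m := ⟨1, by omega⟩
  have hij : i ≠ j := by
    intro h
    have := congrArg Fin.val h
    simp [i, j] at this
  have hne : (-1 : F) ≠ 0 := neg_ne_zero.2 one_ne_zero
  refine ⟨SpecialLinearGroup.diag2n hij (-1 : F) hne, orderOf_eq_prime ?_ ?_⟩
  · apply Subtype.ext
    have hmul : ∀ x y : SpecialLinearGroup (Fin m) F, (x * y).1 = x.1 * y.1 := fun _ _ => rfl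
    rw [pow_two, hmul, SpecialLinearGroup.diag2n_coe]
    ext a b
    by_cases hab : a = b
    · subst hab
      simp only [Matrix.mul_apply, Matrix.diagonal_apply]
      by_cases h1 : a = i
      · simp [h1]
      · by_cases h3 : a = j <;> simp [h1, h3, hij]
    · simp [Matrix.mul_apply, Matrix.diagonal_apply, hab, Matrix.one_apply]
  · intro h
    have h1 := congrFun (congrFun (congrArg Subtype.val h) i) i
    rw [SpecialLinearGroup.diag2n_coe] at h1
    simp at h1
    apply h2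
    linear_combination -h1

/-- `SL_m` into the centralizer of `t`. -/
noncomputable def phiC : SpecialLinearGroup (Fin m) F →*
    ↥(Subgroup.centralizer ({(tt : GL (Fin (m + 1)) F)} : Set (GL (Fin (m + 1)) F))) :=
  (phi (F := F) (m := m)).codRestrict _ (fun M => by
    rw [Subgroup.mem_centralizer_iff]
    intro h hh
    rw [Set.mem_singleton_iff] at hh
    rw [hh]
    exact (phi_comm M).symm)

lemma phiC_injective : Function.Injective (phiC (F := F) (m := m)) := fun _ _ h =>
  phi_injective (congrArg Subtype.val h)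

lemma commute_coe {c : GL (Fin (m + 1)) F}
    (hc : c ∈ Subgroup.centralizer ({(tt : GL (Fin (m + 1)) F)} : Set (GL (Fin (m + 1)) F))) :
    ((c : GL (Fin (m + 1)) F) : Matrix (Fin (m + 1)) (Fin (m + 1)) F) * blk 1 (-1) =
      blk 1 (-1) * ((c : GL (Fin (m + 1)) F) : Matrix (Fin (m + 1)) (Fin (m + 1)) F) := by
  rw [Subgroup.mem_centralizer_iff] at hc
  have h := hc tt rfl
  rw [← tt_coe, ← Units.val_mul, ← Units.val_mul, h]

lemma phiC_range_normal (h2 : (2 : F) ≠ 0) : (phiC (F := F) (m := m)).range.Normal := by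
  constructor
  rintro _ ⟨M, rfl⟩ c
  obtain ⟨A, D, hAD⟩ := exists_blk_of_commute h2 _ (commute_coe c.2)
  obtain ⟨A', D', hAD'⟩ := exists_blk_of_commute h2 _ (commute_coe (c⁻¹).2)
  have h1 : blk (A * A') (D * D') = blk (1 : Matrix (Fin m) (Fin m) F) (1 : Matrix (Fin 1) (Fin 1) F) := by
    rw [← blk_mul, ← hAD, ← hAD', blk_one, ← Units.val_mul]
    have : ((c : GL (Fin (m + 1)) F) * ((c⁻¹ : _) : GL (Fin (m + 1)) F)) = 1 := by
      have := congrArg Subtype.val (mul_inv_cancel c)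
      exact this
    rw [this]
    rfl
  obtain ⟨hA, hD⟩ := blk_inj h1
  have hdet : (A * M.1 * A').det = 1 := by
    rw [Matrix.det_mul, Matrix.det_mul, M.2, mul_one, ← Matrix.det_mul, hA, Matrix.det_one]
  refine ⟨⟨A * M.1 * A', hdet⟩, ?_⟩
  apply Subtype.ext
  apply Units.ext
  show blk (A * M.1 * A') 1 = ((c : GL (Fin (m + 1)) F) : Matrix _ _ F) * blk M.1 1 *
    (((c⁻¹ : _) : GL (Fin (m + 1)) F) : Matrix _ _ F)
  rw [hAD, hAD', blk_mul, blk_mul, mul_one, hD]

theorem hasComponent_main [Fintype F] (hF : Odd (Fintype.card F)) (h2 : (2 : F) ≠ 0) (hm : 2 ≤ m)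
    (h23 : ¬ (m = 2 ∧ Fintype.card F = 3)) :
    HasComponent (↥(Subgroup.centralizer ({(tt : GL (Fin (m + 1)) F)} : Set (GL (Fin (m + 1)) F))) ⧸
      oddCore ↥(Subgroup.centralizer ({(tt : GL (Fin (m + 1)) F)} : Set (GL (Fin (m + 1)) F)))) := by
  set C := ↥(Subgroup.centralizer ({(tt : GL (Fin (m + 1)) F)} : Set (GL (Fin (m + 1)) F))) with hC
  haveI : (phiC (F := F) (m := m)).range.Normal := phiC_range_normal h2
  let π : C →* C ⧸ oddCore C := QuotientGroup.mk' (oddCore C)
  have hπ : Function.Surjective π := QuotientGroup.mk'_surjective _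
  refine ⟨(phiC (F := F) (m := m)).range.map π, (Subgroup.Normal.map inferInstance π hπ).isSubnormal, ?_⟩
  let f : SpecialLinearGroup (Fin m) F →* ↥((phiC (F := F) (m := m)).range.map π) :=
    (π.comp phiC).codRestrict _ (fun x => ⟨phiC x, ⟨x, rfl⟩, rfl⟩)
  refine Cfsg.Agent.Lib.Components.Quasisimple.isQuasisimple_of_surjective (sl_quasi hF hm h23) (f := f) ?_ ?_
  · rintro ⟨_, _, ⟨x, rfl⟩, rfl⟩
    exact ⟨x, rfl⟩
  · intro htop
    obtain ⟨x, hx⟩ := exists_sl_invol h2 hm
    have h3 : x ∈ f.ker := by rw [htop]; trivial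
    have h4 : π (phiC x) = 1 := congrArg Subtype.val (f.mem_ker.1 h3)
    have h5 : phiC x ∈ oddCore C := (QuotientGroup.eq_one_iff _).1 h4
    haveI : Finite C := inferInstance
    have hodd : Odd (Nat.card (oddCore C)) :=
      Nat.coprime_two_right.1 (Cfsg.Agent.Lib.Solvable.Carter.card_pPrimeCore_coprime (G := C) 2)
    have h6 : orderOf (phiC x) ∣ Nat.card (oddCore C) := Subgroup.orderOf_dvd_natCard _ h5
    rw [orderOf_injective _ phiC_injective, hx] at h6
    exact (Nat.not_even_iff_odd.2 hodd) (even_iff_two_dvd.2 h6)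

/-- Let F be a finite field of odd order and n ≥ 3 with (n, |F|) ≠ (3, 3). Then GL(n, F) has a non-central involution t such that C(t) / O(C(t)) has a component. -/
theorem result {F : Type*} [Field F] [Fintype F] [DecidableEq F] (hF : Odd (Fintype.card F)) (n : ℕ) (hn : 3 ≤ n) (h33 : ¬ (n = 3 ∧ Fintype.card F = 3)) : ∃ t : Matrix.GeneralLinearGroup (Fin n) F, orderOf t = 2 ∧ t ∉ Subgroup.center (Matrix.GeneralLinearGroup (Fin n) F) ∧ Cfsg.HasComponent (↥(Subgroup.centralizer ({t} : Set (Matrix.GeneralLinearGroup (Fin n) F))) ⧸ Cfsg.oddCore ↥(Subgroup.centralizer ({t} : Set (Matrix.GeneralLinearGroup (Fin n) F)))) := by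
  obtain ⟨m, rfl⟩ : ∃ m, n = m + 1 := ⟨n - 1, by omega⟩
  have hm : 2 ≤ m := by omega
  have h2 : (2 : F) ≠ 0 := by
    apply Ring.two_ne_zero
    intro hc
    have := FiniteField.even_card_iff_char_two.1 hc
    rw [Nat.odd_iff] at hF
    omega
  refine ⟨tt, orderOf_tt h2, tt_not_center h2 (by omega), ?_⟩
  exact hasComponent_main hF h2 hm (fun h => h33 ⟨by omega, h.2⟩)

end Cfsg.Agent.S1340
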