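import Cfsg.Statements.S1348
import Cfsg.Agent.S1340
import Mathlib

set_option autoImplicit false
open Cfsg

namespace Cfsg.Agent.S1348

open Matrix Cfsg.Agent.S1340

variable {F : Type*} [Field F] [DecidableEq F] {m : ℕ}

local notation "SLG" => SpecialLinearGroup (Fin (m + 1)) F
local notation "SLM" => SpecialLinearGroup (Fin m) F

lemma hmul {k : ℕ} (x y : SpecialLinearGroup (Fin k) F) : (x * y).1 = x.1 * y.1 := rfl

lemma sl_inv_mul {k : ℕ} (x : SpecialLinearGroup (Fin k) F) : (x⁻¹).1 * x.1 = 1 :=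
  congrArg Subtype.val (inv_mul_cancel x)

lemma sl_mul_inv {k : ℕ} (x : SpecialLinearGroup (Fin k) F) : x.1 * (x⁻¹).1 = 1 :=
  congrArg Subtype.val (mul_inv_cancel x)

lemma det_one1 : (1 : Matrix (Fin 1) (Fin 1) F).det = 1 := det_one

/-- The embedding of `SL_m` in `SL_{m+1}`. -/
noncomputable def phiS : SLM →* SLG where
  toFun M := ⟨blk M.1 1, by rw [det_blk, M.2, det_one, one_mul]⟩
  map_one' := Subtype.ext blk_one
  map_mul' x y := by
    apply Subtype.ext
    show blk (x * y).1 1 = blk x.1 1 * blk y.1 1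
    rw [blk_mul, mul_one]
    rfl

lemma phiS_coe (M : SLM) : (phiS M : SLG).1 = blk M.1 1 := rfl

lemma phiS_injective : Function.Injective (phiS (F := F) (m := m)) := by
  intro x y h
  have h1 : blk x.1 (1 : Matrix (Fin 1) (Fin 1) F) = blk y.1 1 := by
    rw [← phiS_coe, ← phiS_coe, h]
  exact Subtype.ext (blk_inj h1).1

/-- The diagonal form of `blk (-1) 1`. -/
lemma blk_neg_one_eq : blk (-1 : Matrix (Fin m) (Fin m) F) (1 : Matrix (Fin 1) (Fin 1) F) =
    Matrix.diagonal (fun i : Fin (m + 1) => if (i : ℕ) + 1 = m + 1 then (1 : F) else -1) := by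
  set e := finSumFinEquiv (m := m) (n := 1) with he
  ext i j
  obtain ⟨a, rfl⟩ := e.surjective i
  obtain ⟨b, rfl⟩ := e.surjective j
  unfold blk
  rw [Matrix.reindex_apply, Matrix.submatrix_apply, ← he, Equiv.symm_apply_apply,
    Equiv.symm_apply_apply]
  rcases a with a | a <;> rcases b with b | b
  · by_cases hab : a = b
    · subst hab
      have : ((e (Sum.inl a) : Fin (m + 1)) : ℕ) ≠ m := by
        have h1 : ((e (Sum.inl a) : Fin (m + 1)) : ℕ) = a := by simp [e]
        rw [h1]; have := a.2; omega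
      simp [this]
    · have h2 : e (Sum.inl a) ≠ e (Sum.inl b) := fun h => hab (by simpa using e.injective h)
      simp [hab, h2]
  · have h2 : e (Sum.inl a) ≠ e (Sum.inr b) := fun h => by simpa using e.injective h
    simp [h2]
  · have h2 : e (Sum.inr a) ≠ e (Sum.inl b) := fun h => by simpa using e.injective h
    simp [h2]
  · have hab : a = b := Subsingleton.elim _ _
    subst hab
    have : ((e (Sum.inr a) : Fin (m + 1)) : ℕ) = m := by
      have : a = 0 := Subsingleton.elim _ _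
      simp [e, this]
    simp [this]

lemma blk_neg (A : Matrix (Fin m) (Fin m) F) (D : Matrix (Fin 1) (Fin 1) F) :
    blk (-A) (-D) = - blk A D := by
  unfold blk
  have h : fromBlocks (-A) 0 0 (-D) = - fromBlocks A 0 0 D := by
    rw [fromBlocks_neg]; simp
  rw [h]
  ext i j
  simp [Matrix.reindex_apply]

/-- Commuting with `blk (-1) 1` means block form. -/
lemma exists_blk_of_commute' (h2 : (2 : F) ≠ 0) (c : Matrix (Fin (m + 1)) (Fin (m + 1)) F)
    (hc : c * blk (-1) 1 = blk (-1) 1 * c) : ∃ A D, c = blk A D := by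
  apply exists_blk_of_commute h2
  have h3 : blk (1 : Matrix (Fin m) (Fin m) F) (-1 : Matrix (Fin 1) (Fin 1) F) = - blk (-1) 1 := by
    rw [← blk_neg]; simp
  rw [h3, Matrix.mul_neg, Matrix.neg_mul, hc]

lemma coe_blk_of_comm {t g : SLG} (ht : t.1 = blk (-1) 1) (h2 : (2 : F) ≠ 0) (hg : g * t = t * g) :
    ∃ A D, g.1 = blk A D := by
  apply exists_blk_of_commute' h2
  rw [← ht, ← hmul, ← hmul, hg]

/-- `-1` in `SL_m`, `m` even. -/
noncomputable def negOne (hm2 : Even m) : SLM :=
  ⟨-1, by rw [Matrix.det_neg, det_one, mul_one, Fintype.card_fin, hm2.neg_one_pow]⟩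

lemma t_eq_phiS {t : SLG} (ht : t.1 = blk (-1) 1) (hm2 : Even m) :
    t = phiS (negOne (F := F) hm2) := Subtype.ext ht

lemma comm1 (D E : Matrix (Fin 1) (Fin 1) F) : D * E = E * D := by
  ext i j
  have hi : i = 0 := Subsingleton.elim _ _
  have hj : j = 0 := Subsingleton.elim _ _
  subst hi; subst hj
  simp [Matrix.mul_apply, mul_comm]

lemma phiS_comm {t : SLG} (ht : t.1 = blk (-1) 1) (M : SLM) : phiS M * t = t * phiS M := by
  apply Subtype.ext
  rw [hmul, hmul, phiS_coe, ht, blk_mul, blk_mul]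
  simp

/-- Block forms of an element commuting with `t` and of its inverse. -/
lemma blk_pair {t g : SLG} (ht : t.1 = blk (-1) 1) (h2 : (2 : F) ≠ 0) (hg : g * t = t * g) :
    ∃ A D A' D', g.1 = blk A D ∧ (g⁻¹).1 = blk A' D' ∧ A * A' = 1 ∧ A' * A = 1 ∧ D * D' = 1 ∧ D' * D = 1 := by
  obtain ⟨A, D, hAD⟩ := coe_blk_of_comm ht h2 hg
  have hg' : g⁻¹ * t = t * g⁻¹ := by
    rw [eq_mul_inv_iff_mul_eq, mul_assoc, inv_mul_eq_iff_eq_mul, hg]
  obtain ⟨A', D', hAD'⟩ := coe_blk_of_comm ht h2 hg'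
  have h1 : blk (A * A') (D * D') = blk 1 1 := by
    rw [← blk_mul, ← hAD, ← hAD', blk_one, sl_mul_inv]
  have h3 : blk (A' * A) (D' * D) = blk 1 1 := by
    rw [← blk_mul, ← hAD, ← hAD', blk_one, sl_inv_mul]
  exact ⟨A, D, A', D', hAD, hAD', (blk_inj h1).1, (blk_inj h3).1, (blk_inj h1).2, (blk_inj h3).2⟩

/-- Conjugation of the block `SL_m` by an element commuting with `t`. -/
lemma conj_phiS {t g : SLG} (ht : t.1 = blk (-1) 1) (h2 : (2 : F) ≠ 0) (hg : g * t = t * g) (M : SLM) :
    g * phiS M * g⁻¹ ∈ (phiS (F := F) (m := m)).range := by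
  obtain ⟨A, D, A', D', hAD, hAD', h1, h3, h4, h5⟩ := blk_pair ht h2 hg
  have hdet : (A * M.1 * A').det = 1 := by
    rw [Matrix.det_mul, Matrix.det_mul, M.2, mul_one, ← Matrix.det_mul, h1, Matrix.det_one]
  refine ⟨⟨A * M.1 * A', hdet⟩, ?_⟩
  apply Subtype.ext
  show blk (A * M.1 * A') 1 = g.1 * (phiS M).1 * (g⁻¹).1
  rw [hAD, hAD', phiS_coe, blk_mul, blk_mul, mul_one, h4]

/-- Commutators of elements commuting with `t` lie in the block `SL_m`. -/
lemma commutator_mem {t g₁ g₂ : SLG} (ht : t.1 = blk (-1) 1) (h2 : (2 : F) ≠ 0)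
    (hg₁ : g₁ * t = t * g₁) (hg₂ : g₂ * t = t * g₂) :
    g₁ * g₂ * g₁⁻¹ * g₂⁻¹ ∈ (phiS (F := F) (m := m)).range := by
  obtain ⟨A, D, A', D', hAD, hAD', h1, h3, h4, h5⟩ := blk_pair ht h2 hg₁
  obtain ⟨B, E, B', E', hBE, hBE', h1', h3', h4', h5'⟩ := blk_pair ht h2 hg₂
  have hd1 : A.det * A'.det = 1 := by rw [← Matrix.det_mul, h1, Matrix.det_one]
  have hd2 : B.det * B'.det = 1 := by rw [← Matrix.det_mul, h1', Matrix.det_one]
  have hdet : (A * B * A' * B').det = 1 := by
    simp only [Matrix.det_mul]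
    calc A.det * B.det * A'.det * B'.det = (A.det * A'.det) * (B.det * B'.det) := by ring
      _ = 1 := by rw [hd1, hd2, one_mul]
  have hD : D * E * D' * E' = 1 := by
    calc D * E * D' * E' = D * (E * D') * E' := by simp only [mul_assoc]
      _ = D * (D' * E) * E' := by rw [comm1 E D']
      _ = (D * D') * (E * E') := by simp only [mul_assoc]
      _ = 1 := by rw [h4, h4', one_mul]
  refine ⟨⟨A * B * A' * B', hdet⟩, ?_⟩
  apply Subtype.ext
  show blk (A * B * A' * B') 1 = g₁.1 * g₂.1 * (g₁⁻¹).1 * (g₂⁻¹).1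
  rw [hAD, hBE, hAD', hBE', blk_mul, blk_mul, blk_mul, hD]

/-- A quasisimple subgroup is contained in any subgroup containing all commutators. -/
lemma le_of_quasi {C : Type*} [Group C] {K R : Subgroup C} (hK : IsQuasisimple K)
    (h : ∀ a b : C, a * b * a⁻¹ * b⁻¹ ∈ R) : K ≤ R := by
  haveI := hK.1
  have h1 : (commutator K).map K.subtype ≤ R := by
    rw [commutator_def, Subgroup.map_commutator]
    apply Subgroup.commutator_le.2
    intro a _ b _
    exact h a b
  intro k hk
  apply h1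
  refine ⟨⟨k, hk⟩, ?_, rfl⟩
  rw [Group.IsPerfect.commutator_eq_top]
  trivial

/-- The layer of the centralizer. -/
theorem layer_map_eq [Fintype F] (hF : Odd (Fintype.card F)) (h2 : (2 : F) ≠ 0) (hm : 2 ≤ m)
    (h23 : ¬ (m = 2 ∧ Fintype.card F = 3)) {t : SLG} (ht : t.1 = blk (-1) 1) :
    (layer ↥(Subgroup.centralizer ({t} : Set SLG))).map (Subgroup.centralizer ({t} : Set SLG)).subtype =
      (phiS (F := F) (m := m)).range := by
  set C := Subgroup.centralizer ({t} : Set SLG) with hC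
  have hmemC : ∀ g : SLG, g ∈ C ↔ g * t = t * g := by
    intro g
    rw [hC, Subgroup.mem_centralizer_iff]
    constructor
    · intro h; exact (h t rfl).symm
    · rintro h _ rfl; exact h.symm
  let φC : SLM →* C := (phiS (F := F) (m := m)).codRestrict C (fun M => (hmemC _).2 (phiS_comm ht M))
  have hφC : ∀ M, ((φC M : C) : SLG) = phiS M := fun _ => rfl
  have hinj : Function.Injective φC := fun a b h => phiS_injective (congrArg Subtype.val h)
  have hnorm : φC.range.Normal := by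
    constructor
    rintro _ ⟨M, rfl⟩ c
    obtain ⟨M', hM'⟩ := conj_phiS ht h2 ((hmemC _).1 c.2) M
    refine ⟨M', Subtype.ext ?_⟩
    rw [hφC, hM']
    rfl
  have hq : IsQuasisimple φC.range := by
    refine Cfsg.Agent.Lib.Components.Quasisimple.isQuasisimple_of_surjective
      (sl_quasi hF hm h23) (f := φC.rangeRestrict) φC.rangeRestrict_surjective ?_
    intro htop
    have hn : ∃ x : SLM, x ≠ 1 := by
      obtain ⟨x, hx⟩ := exists_sl_invol (m := m) h2 hm
      exact ⟨x, fun h => by rw [h, orderOf_one] at hx; omega⟩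
    obtain ⟨x, hx⟩ := hn
    have h3 : x ∈ φC.rangeRestrict.ker := by rw [htop]; trivial
    have h4 : φC.rangeRestrict x = 1 := h3
    have h5 : φC x = 1 := congrArg Subtype.val h4
    exact hx (hinj (by rw [h5, map_one]))
  have hlayer : layer C = φC.range := by
    apply le_antisymm
    · refine sSup_le ?_
      rintro K ⟨-, hK⟩
      refine le_of_quasi hK ?_
      intro a b
      obtain ⟨M, hM⟩ := commutator_mem ht h2 ((hmemC _).1 a.2) ((hmemC _).1 b.2)
      exact ⟨M, Subtype.ext (by rw [hφC, hM]; rfl)⟩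
    · exact le_sSup ⟨hnorm.isSubnormal, hq⟩
  rw [hlayer]
  ext x
  constructor
  · rintro ⟨_, ⟨M, rfl⟩, rfl⟩
    exact ⟨M, rfl⟩
  · rintro ⟨M, rfl⟩
    exact ⟨φC M, ⟨M, rfl⟩, rfl⟩

lemma t_mem_range {t : SLG} (ht : t.1 = blk (-1) 1) (hm2 : Even m) : t ∈ (phiS (F := F) (m := m)).range :=
  ⟨negOne hm2, (t_eq_phiS ht hm2).symm⟩

lemma Z_form {t : SLG} (ht : t.1 = blk (-1) 1) (hm2 : Even m) (h2 : (2 : F) ≠ 0) {z : SLG}
    (hz : z ∈ Subgroup.centralizer ((phiS (F := F) (m := m)).range : Set SLG)) :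
    ∃ (l : F) (D : Matrix (Fin 1) (Fin 1) F), z.1 = blk (Matrix.scalar (Fin m) l) D := by
  rw [Subgroup.mem_centralizer_iff] at hz
  have h1 : z * t = t * z := (hz t (t_mem_range ht hm2)).symm
  obtain ⟨A, D, hAD⟩ := coe_blk_of_comm ht h2 h1
  have h3 : A ∈ Set.range (Matrix.scalar (Fin m)) := by
    apply Matrix.mem_range_scalar_of_commute_transvectionStruct
    intro tr
    have h4 := hz (phiS ⟨tr.toMatrix, tr.det⟩) ⟨_, rfl⟩
    have h5 : blk tr.toMatrix 1 * blk A D = blk A D * blk tr.toMatrix 1 := by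
      rw [← hAD]
      exact congrArg Subtype.val h4
    rw [blk_mul, blk_mul] at h5
    exact (blk_inj h5).1
  obtain ⟨l, rfl⟩ := h3
  exact ⟨l, D, hAD⟩

lemma mem_Z_of_form {z : SLG} {l : F} {D : Matrix (Fin 1) (Fin 1) F}
    (hz : z.1 = blk (Matrix.scalar (Fin m) l) D) :
    z ∈ Subgroup.centralizer ((phiS (F := F) (m := m)).range : Set SLG) := by
  rw [Subgroup.mem_centralizer_iff]
  rintro _ ⟨M, rfl⟩
  apply Subtype.ext
  rw [hmul, hmul, phiS_coe, hz, blk_mul, blk_mul, one_mul, mul_one,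
    (Matrix.scalar_commute l (fun r => Commute.all _ _) M.1).eq]

lemma Z_comm_of_blk {g z : SLG} {A : Matrix (Fin m) (Fin m) F} {D D' : Matrix (Fin 1) (Fin 1) F} {l : F}
    (hg : g.1 = blk A D) (hz : z.1 = blk (Matrix.scalar (Fin m) l) D') : g * z = z * g := by
  apply Subtype.ext
  rw [hmul, hmul, hg, hz, blk_mul, blk_mul, comm1 D D',
    (Matrix.scalar_commute l (fun r => Commute.all _ _) A).eq]

lemma eq_t_of_Z {t : SLG} (ht : t.1 = blk (-1) 1) (hm2 : Even m) (hm : 1 ≤ m) (h2 : (2 : F) ≠ 0) {z : SLG}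
    (hz : z ∈ Subgroup.centralizer ((phiS (F := F) (m := m)).range : Set SLG)) (ho : orderOf z = 2) :
    z = t := by
  obtain ⟨l, D, hlD⟩ := Z_form ht hm2 h2 hz
  have hsq : z * z = 1 := by rw [← pow_two, ← ho]; exact pow_orderOf_eq_one z
  have h3 : blk (Matrix.scalar (Fin m) l * Matrix.scalar (Fin m) l) (D * D) = blk 1 1 := by
    rw [← blk_mul, ← hlD, blk_one, ← hmul, hsq]; rfl
  have h4 := (blk_inj h3).1
  let i0 : Fin m := ⟨0, hm⟩
  have h5 : l * l = 1 := by
    have := congrFun (congrFun h4 i0) i0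
    simpa [Matrix.scalar_apply, Matrix.mul_apply, Matrix.diagonal_apply] using this
  have h6 : l ^ m = 1 := by
    obtain ⟨k, hk⟩ := hm2
    rw [hk, ← two_mul, pow_mul, pow_two, h5, one_pow]
  have hdet := z.2
  have hs : (Matrix.scalar (Fin m) l).det = l ^ m := by
    simp [Matrix.scalar_apply, Matrix.det_diagonal]
  rw [hlD, det_blk, hs, h6, one_mul] at hdet
  have hD : D = 1 := by
    ext i j
    have hi : i = 0 := Subsingleton.elim _ _
    have hj : j = 0 := Subsingleton.elim _ _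
    subst hi; subst hj
    rw [Matrix.det_fin_one] at hdet
    simpa using hdet
  rcases mul_self_eq_one_iff.1 h5 with rfl | rfl
  · exfalso
    have h7 : z = 1 := by
      apply Subtype.ext
      rw [hlD, hD, map_one, blk_one]
      rfl
    rw [h7, orderOf_one] at ho
    omega
  · apply Subtype.ext
    rw [hlD, hD, ht, map_neg, map_one]

lemma t_sq {t : SLG} (ht : t.1 = blk (-1) 1) : t * t = 1 := by
  apply Subtype.ext
  rw [hmul, ht, blk_mul]
  simp only [mul_neg, mul_one, neg_neg, blk_one]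
  rfl

lemma t_ne_one {t : SLG} (ht : t.1 = blk (-1) 1) (hm : 1 ≤ m) (h2 : (2 : F) ≠ 0) : t ≠ 1 := by
  intro h
  have h1 : blk (-1 : Matrix (Fin m) (Fin m) F) (1 : Matrix (Fin 1) (Fin 1) F) = blk 1 1 := by
    rw [← ht, blk_one, h]; rfl
  have h3 := (blk_inj h1).1
  let i0 : Fin m := ⟨0, hm⟩
  have h4 := congrFun (congrFun h3 i0) i0
  simp at h4
  apply h2
  linear_combination -h4

lemma orderOf_t {t : SLG} (ht : t.1 = blk (-1) 1) (hm : 1 ≤ m) (h2 : (2 : F) ≠ 0) : orderOf t = 2 := by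
  haveI : Fact (Nat.Prime 2) := ⟨Nat.prime_two⟩
  exact orderOf_eq_prime (by rw [pow_two]; exact t_sq ht) (t_ne_one ht hm h2)

lemma t_mem_Z {t : SLG} (ht : t.1 = blk (-1) 1) :
    t ∈ Subgroup.centralizer ((phiS (F := F) (m := m)).range : Set SLG) := by
  apply mem_Z_of_form (l := -1) (D := 1)
  rw [ht, map_neg, map_one]

/-- An element of the normalizer of `Z` commutes with `t`. -/
lemma comm_t_of_conj_Z [Fintype F] {t : SLG} (ht : t.1 = blk (-1) 1) (hm2 : Even m) (hm : 1 ≤ m) (h2 : (2 : F) ≠ 0) {g : SLG}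
    (hg : g * t * g⁻¹ ∈ Subgroup.centralizer ((phiS (F := F) (m := m)).range : Set SLG)) :
    g * t = t * g := by
  have ho : orderOf (g * t * g⁻¹) = 2 := by
    rw [show g * t * g⁻¹ = MulAut.conj g t from rfl, MulEquiv.orderOf_eq, orderOf_t ht hm h2]
  have h1 := eq_t_of_Z ht hm2 hm h2 hg ho
  rw [mul_inv_eq_iff_eq_mul] at h1
  exact h1

/-- The main theorem. -/
theorem main [Fintype F] (hF : Odd (Fintype.card F)) (h2 : (2 : F) ≠ 0) (hm2 : Even m) (hm : 3 ≤ m)
    {t : SLG} (ht : t.1 = blk (-1) 1) :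
    IsStandardSubgroup ((layer ↥(Subgroup.centralizer ({t} : Set SLG))).map
      (Subgroup.centralizer ({t} : Set SLG)).subtype) := by
  rw [layer_map_eq hF h2 (by omega) (by omega) ht]
  set L := (phiS (F := F) (m := m)).range with hL
  set Z := Subgroup.centralizer (L : Set SLG) with hZ
  have hm1 : 1 ≤ m := by omega
  haveI : Fact (Nat.Prime 2) := ⟨Nat.prime_two⟩
  have hq : IsQuasisimple L := by
    refine Cfsg.Agent.Lib.Components.Quasisimple.isQuasisimple_of_surjective
      (sl_quasi hF (by omega) (by omega)) (f := (phiS (F := F) (m := m)).rangeRestrict)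
      (phiS (F := F) (m := m)).rangeRestrict_surjective ?_
    intro htop
    obtain ⟨x, hx⟩ := exists_sl_invol (m := m) h2 (by omega)
    have h3 : x ∈ (phiS (F := F) (m := m)).rangeRestrict.ker := by rw [htop]; trivial
    have h4 : (phiS (F := F) (m := m)).rangeRestrict x = 1 := h3
    have h5 : phiS x = 1 := congrArg Subtype.val h4
    have h6 : x = 1 := phiS_injective (by rw [h5, map_one])
    rw [h6, orderOf_one] at hx
    omega
  have hZcomm : ∀ a b : SLG, a ∈ Z → b ∈ Z → a * b = b * a := by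
    intro a b ha hb
    obtain ⟨l, D, hlD⟩ := Z_form ht hm2 h2 ha
    obtain ⟨l', D', hlD'⟩ := Z_form ht hm2 h2 hb
    exact Z_comm_of_blk hlD hlD'
  have hnormZ : ∀ g : SLG, g * t = t * g → g ∈ Subgroup.normalizer (Z : Set SLG) := by
    have key : ∀ g : SLG, g * t = t * g → ∀ z ∈ Z, g * z * g⁻¹ = z := by
      intro g hg z hz
      obtain ⟨A, D, hAD⟩ := coe_blk_of_comm ht h2 hg
      obtain ⟨l, D', hlD⟩ := Z_form ht hm2 h2 hz
      rw [Z_comm_of_blk hAD hlD, mul_inv_cancel_right]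
    intro g hg
    have hg' : g⁻¹ * t = t * g⁻¹ := by
      rw [eq_mul_inv_iff_mul_eq, mul_assoc, inv_mul_eq_iff_eq_mul, hg]
    rw [Subgroup.mem_normalizer_iff]
    intro h
    constructor
    · intro hh
      rw [key g hg h hh]
      exact hh
    · intro hh
      have h3 := key g⁻¹ hg' _ hh
      have h4 : g⁻¹ * (g * h * g⁻¹) * g⁻¹⁻¹ = h := by group
      rw [h4] at h3
      rw [h3]
      exact hh
  refine ⟨hq, ⟨?_, ?_⟩, ?_, ?_⟩
  · -- even order of the centralizer
    rw [even_iff_two_dvd, ← orderOf_t ht hm1 h2]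
    exact Subgroup.orderOf_dvd_natCard _ (t_mem_Z ht)
  · -- tight embedding
    intro g hg
    by_contra hodd
    rw [Nat.not_odd_iff_even, even_iff_two_dvd] at hodd
    obtain ⟨y, hy⟩ := exists_prime_orderOf_dvd_card' 2 hodd
    have hxo : orderOf y.1 = 2 := by rw [Subgroup.orderOf_coe]; exact hy
    obtain ⟨x, hx1, hx2⟩ := y
    simp only at hxo
    have hx3 : x = t := eq_t_of_Z ht hm2 hm1 h2 hx1 hxo
    obtain ⟨z, hz, hzx⟩ := hx2
    have hzx' : g * z * g⁻¹ = x := hzx
    have hzo : orderOf z = 2 := by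
      rw [← hxo, ← hzx', show g * z * g⁻¹ = MulAut.conj g z from rfl, MulEquiv.orderOf_eq]
    have hz3 : z = t := eq_t_of_Z ht hm2 hm1 h2 hz hzo
    apply hg
    apply hnormZ
    rw [hz3, hx3, mul_inv_eq_iff_eq_mul] at hzx'
    exact hzx'
  · -- conjugates
    intro g _ hbot
    have hle : L.map (MulAut.conj g).toMonoidHom ≤ Z := by
      intro y hy
      rw [hZ, Subgroup.mem_centralizer_iff]
      intro l hl
      have h := Subgroup.commutator_eq_bot_iff_le_centralizer.1 hbot hl
      rw [Subgroup.mem_centralizer_iff] at h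
      exact (h y hy).symm
    have hcomm : ∀ a b : L, a * b = b * a := by
      intro a b
      have h1 := hZcomm (g * a.1 * g⁻¹) (g * b.1 * g⁻¹) (hle ⟨a.1, a.2, rfl⟩) (hle ⟨b.1, b.2, rfl⟩)
      have h3 : g * (a.1 * b.1) * g⁻¹ = g * (b.1 * a.1) * g⁻¹ := by
        calc g * (a.1 * b.1) * g⁻¹ = (g * a.1 * g⁻¹) * (g * b.1 * g⁻¹) := by group
          _ = (g * b.1 * g⁻¹) * (g * a.1 * g⁻¹) := h1
          _ = g * (b.1 * a.1) * g⁻¹ := by group
      apply Subtype.ext
      exact mul_left_cancel (mul_right_cancel h3)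
    exact Cfsg.Agent.Lib.Components.Quasisimple.not_isMulCommutative_of_isQuasisimple hq ⟨⟨hcomm⟩⟩
  · -- normalizers
    apply le_antisymm
    · intro g hg
      rw [Subgroup.mem_normalizer_iff] at hg ⊢
      intro z
      constructor
      · intro hz
        rw [Subgroup.mem_centralizer_iff] at hz ⊢
        intro l hl
        have h3 : g⁻¹ * l * g ∈ L := by
          rw [hg]
          have h4 : g * (g⁻¹ * l * g) * g⁻¹ = l := by group
          rw [h4]
          exact hl
        have h5 := hz _ h3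
        calc l * (g * z * g⁻¹) = g * ((g⁻¹ * l * g) * z) * g⁻¹ := by group
          _ = g * (z * (g⁻¹ * l * g)) * g⁻¹ := by rw [h5]
          _ = g * z * g⁻¹ * l := by group
      · intro hz
        rw [Subgroup.mem_centralizer_iff] at hz ⊢
        intro l hl
        have h3 : g * l * g⁻¹ ∈ L := (hg l).1 hl
        have h5 := hz _ h3
        have h6 : g * (l * z) * g⁻¹ = g * (z * l) * g⁻¹ := by
          calc g * (l * z) * g⁻¹ = (g * l * g⁻¹) * (g * z * g⁻¹) := by group
            _ = (g * z * g⁻¹) * (g * l * g⁻¹) := h5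
            _ = g * (z * l) * g⁻¹ := by group
        exact mul_left_cancel (mul_right_cancel h6)
    · intro g hg
      rw [Subgroup.mem_normalizer_iff] at hg
      have h3 : g * t = t * g := comm_t_of_conj_Z ht hm2 hm1 h2 ((hg t).1 (t_mem_Z ht))
      have hg' : g⁻¹ * t = t * g⁻¹ := by
        rw [eq_mul_inv_iff_mul_eq, mul_assoc, inv_mul_eq_iff_eq_mul, h3]
      rw [Subgroup.mem_normalizer_iff]
      intro h
      constructor
      · rintro ⟨M, rfl⟩
        exact conj_phiS ht h2 h3 M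
      · intro hh
        obtain ⟨M, hM⟩ := hh
        have h4 := conj_phiS ht h2 hg' M
        rw [hM] at h4
        have h5 : g⁻¹ * (g * h * g⁻¹) * g⁻¹⁻¹ = h := by group
        rw [h5] at h4
        exact h4

/-- Let F be a finite field of odd order, n ≥ 7 odd, and t ∈ SL(n, F) the diagonal matrix with entries −1, …, −1, 1. Then E(C(t)) is a standard subgroup of SL(n, F). -/
theorem result {F : Type*} [Field F] [Fintype F] [DecidableEq F] (hF : Odd (Fintype.card F)) (n : ℕ) (hn : 7 ≤ n) (hodd : Odd n) (t : Matrix.SpecialLinearGroup (Fin n) F) (ht : (t : Matrix (Fin n) (Fin n) F) = Matrix.diagonal (fun i : Fin n => if (i : ℕ) + 1 = n then (1 : F) else -1)) : Cfsg.IsStandardSubgroup ((Cfsg.layer ↥(Subgroup.centralizer ({t} : Set (Matrix.SpecialLinearGroup (Fin n) F)))).map (Subgroup.centralizer ({t} : Set (Matrix.SpecialLinearGroup (Fin n) F))).subtype) := by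
  obtain ⟨k, rfl⟩ := hodd
  have h2 : (2 : F) ≠ 0 := by
    apply Ring.two_ne_zero
    intro hc
    have := FiniteField.even_card_iff_char_two.1 hc
    rw [Nat.odd_iff] at hF
    omega
  exact main hF h2 (m := 2 * k) (even_two_mul k) (by omega) (ht.trans blk_neg_one_eq.symm)

end Cfsg.Agent.S1348
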