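import Cfsg.Statements.S1351
import Mathlib
import Cfsg.Agent.S1350
import Cfsg.Agent.S1404
import Cfsg.Agent.S1428
import Cfsg.Agent.S1429
import Cfsg.Agent.S1430
import Cfsg.Agent.S1431
import Cfsg.Agent.S1432
import Cfsg.Agent.Lib.OddOrder.BG12Rows
import Cfsg.Agent.Lib.OddOrder.BG14HP
import Cfsg.Agent.Lib.OddOrder.BG14HQW
import Cfsg.Agent.Lib.OddOrder.BGPartE
import Cfsg.Agent.Lib.OddOrder.BGCyc
-- import your own Cfsg.Agent.* helpers here

set_option autoImplicit false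
open Cfsg

namespace Cfsg.Agent.S1351

/-- Let G be a minimal simple group of odd order and M a maximal subgroup. Then M possesses a Hall κ(M)-subgroup, and every Hall κ(M)-subgroup of M is cyclic. -/
theorem result {G : Type*} [Group G] [Finite G] (hG : Cfsg.IsMinSimpleOddOrder G)
    (M : Subgroup G) (hM : IsCoatom M) :
    (∃ K : Subgroup G, Cfsg.IsPiHallOf (Cfsg.kappa M) K M) ∧
      ∀ K : Subgroup G, Cfsg.IsPiHallOf (Cfsg.kappa M) K M → IsCyclic K := by
  have I := Cfsg.Agent.Lib.OddOrder.BG12.inputs hG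
  have h1428 : Cfsg.Agent.Lib.OddOrder.BGRows.H1428 G := fun M hM E hE p hp P hPE hP R hRE hR =>
    Cfsg.Agent.S1428.result hG M hM E hE p hp P hPE hP R hRE hR
  have hConj : Cfsg.Agent.Lib.OddOrder.BGPart.ConjHyp G := Cfsg.Agent.Lib.OddOrder.BG14H.thmP hG h1428
  have h1350 : Cfsg.Agent.Lib.OddOrder.BGRows.H1350 G := fun M hM => Cfsg.Agent.S1350.result hG M hM
  have h1432 : Cfsg.Agent.Lib.OddOrder.BGRows.H1432 G := fun M hM x hx hx1 x2 hx2 hx21 hs =>
    Cfsg.Agent.S1432.result hG M hM x hx hx1 x2 hx2 hx21 hs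
  have h1433 := Cfsg.Agent.Lib.OddOrder.BG14H.S1433_of hG h1428 h1432
  exact Cfsg.Agent.Lib.OddOrder.BGCyc.S1351_core
    { hG := hG
      h1350 := h1350
      h1404 := fun M hM => Cfsg.Agent.S1404.result hG M hM
      h1430 := fun M hM K hK hK1 => Cfsg.Agent.S1430.result hG M hM K hK hK1
      h1431 := fun M hM K hK hK1 => Cfsg.Agent.S1431.result hG M hM K hK hK1
      h1432 := h1432
      hP := hConj }
    (fun M hM => Cfsg.Agent.Lib.OddOrder.BGPart.S1377_core I hConj h1350 h1432 h1433 M hM)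
    (fun M N hM hN hne => Cfsg.Agent.Lib.OddOrder.BGPart.tilde_disjoint I hConj h1350 h1432 h1433 M N hM hN hne)
    (fun M hM hP1 p _ hpM hp S => Cfsg.Agent.S1429.result hG M hM hP1 p hpM hp S) hM

end Cfsg.Agent.S1351
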