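import Cfsg.Statements.S1406
import Mathlib
import Cfsg.Agent.S1403
import Cfsg.Agent.Lib.OddOrder.BG10
import Cfsg.Agent.S1450
import Cfsg.Agent.S1451

set_option autoImplicit false
open Cfsg

namespace Cfsg.Agent.S1406

/-- Let G be a minimal simple group of odd order, M a maximal subgroup, and X a subgroup of M no prime divisor of whose order lies in α(M). If M_α ∩ C_G(X) has an elementary abelian subgroup of order p ^ 2 for some prime p, then C_M(X) is contained in exactly one maximal subgroup of G. -/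
theorem result {G : Type*} [Group G] [Finite G] (hG : Cfsg.IsMinSimpleOddOrder G)
    (M : Subgroup G) (hM : IsCoatom M) (X : Subgroup G) (hXM : X ≤ M) (hXα : ∀ p : ℕ, p.Prime → p ∣ Nat.card X → p ∉ Cfsg.alpha M)
    (hr : ¬ Cfsg.RankLE 1 ↥(Cfsg.alphaCore M ⊓ Subgroup.centralizer (X : Set G))) :
    Cfsg.InUniqueMaximal (M ⊓ Subgroup.centralizer (X : Set G)) := by
  have hU : Cfsg.Agent.Lib.OddOrder.BG10.UniqueHyp G := fun K hK h1 h2 => Cfsg.Agent.S1403.result hG K hK h1 h2
  have hR : Cfsg.Agent.Lib.OddOrder.BG10.LengthHyp := fun H _ _ _ ho p _ hd hr => (Cfsg.Agent.S1450.result ho p hd hr).2.2.2.2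
  have hN : Cfsg.Agent.Lib.OddOrder.BG10.NilHyp := fun H _ _ _ ho hr => (Cfsg.Agent.S1451.result ho (Or.inr hr)).1
  exact Cfsg.Agent.Lib.OddOrder.BG10.S1406_core hG hU hR hN hM X hXM hXα hr

end Cfsg.Agent.S1406
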