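import Cfsg.Statements.S1644
import Cfsg.Agent.Lib.J1Ord.UniqMain

set_option autoImplicit false
open Cfsg

namespace Cfsg.Agent.S1644

/-- The first Janko group recognised by an involution centraliser, at the level of isomorphism: a finite simple group with abelian Sylow 2-subgroups of order 8 and an involution whose centraliser is isomorphic to Z/2 × A₅ is isomorphic to the subgroup of GL(7, 11) generated by the two explicit Janko matrices. -/
theorem result {G : Type*} [Group G] [Finite G] [IsSimpleGroup G] (S : Sylow 2 G) (hS : IsMulCommutative (S : Subgroup G)) (h8 : Nat.card S = 8) (t : G) (ht : orderOf t = 2) (e : (Subgroup.centralizer ({t} : Set G)) ≃* Multiplicative (ZMod 2) × alternatingGroup (Fin 5)) : Cfsg.Spor.IsoJ1 G := by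
  have ht2 : Cfsg.IsTwoCentralInvolution t := by
    haveI hf2 : Fact (Nat.Prime 2) := ⟨Nat.prime_two⟩
    refine ⟨ht, ?_⟩
    have hp : IsPGroup 2 (Subgroup.zpowers t) :=
      IsPGroup.of_card (n := 1) (by rw [Nat.card_zpowers, ht, pow_one])
    obtain ⟨P, hP⟩ := hp.exists_le_sylow
    have htP : t ∈ P := hP (Subgroup.mem_zpowers t)
    refine ⟨P, htP, ?_⟩
    obtain ⟨g, hg⟩ := MulAction.exists_smul_eq G P S
    have hmem : ∀ x ∈ P, g * x * g⁻¹ ∈ (S : Subgroup G) := by
      intro x hx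
      rw [← hg, Sylow.coe_subgroup_smul]
      exact ⟨x, hx, rfl⟩
    intro x hx
    have h1 : (⟨g * x * g⁻¹, hmem x hx⟩ : (S : Subgroup G)) * ⟨g * t * g⁻¹, hmem t htP⟩ =
        ⟨g * t * g⁻¹, hmem t htP⟩ * ⟨g * x * g⁻¹, hmem x hx⟩ := hS.is_comm.comm _ _
    have h2 : (g * x * g⁻¹) * (g * t * g⁻¹) = (g * t * g⁻¹) * (g * x * g⁻¹) := congrArg Subtype.val h1
    have h3 : g * (x * t) * g⁻¹ = g * (t * x) * g⁻¹ := by
      calc g * (x * t) * g⁻¹ = (g * x * g⁻¹) * (g * t * g⁻¹) := by group
        _ = (g * t * g⁻¹) * (g * x * g⁻¹) := h2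
        _ = g * (t * x) * g⁻¹ := by group
    exact mul_left_cancel (mul_right_cancel h3)
  exact Cfsg.Agent.Lib.J1Ord.iso_J1 ht2 e

end Cfsg.Agent.S1644
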