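import Cfsg.Statements.S1786
import Mathlib
import Cfsg.Agent.Lib.TISub.Frame
-- import your own Cfsg.Agent.* helpers here

set_option autoImplicit false
open Cfsg

namespace Cfsg.Agent.S1786

open Subgroup Cfsg.Agent.Lib.PGroup.WeaklyClosed Cfsg.Agent.Lib.TISub.Basic
  Cfsg.Agent.Lib.TISub.Plane Cfsg.Agent.Lib.TISub.Struct
open scoped MatrixGroups

theorem quot_aux {G : Type*} [Group G] {F : Type*} [Field F] {W H Q₁ Q₂ : Subgroup G} {φ : F → F → G}
    (hH : H = Q₁ ⊔ Q₂) (R : Cfsg.Agent.Lib.TISub.SL2.Recog W Q₁ Q₂ φ)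
    (hN : ((centralizer (W : Set G)).subgroupOf H).Normal) :
    Nonempty (↥H ⧸ (centralizer (W : Set G)).subgroupOf H ≃* Matrix.SpecialLinearGroup (Fin 2) F) := by
  subst hH
  exact R.quot hN

theorem hyp_of {G : Type*} [Group G] [Finite G] (V : Subgroup G)
    (hV : Cfsg.IsElementaryAbelian 2 V)
    (h1 : (Cfsg.generalizedFittingSubgroup ↥(Subgroup.normalizer (V : Set G))).map (Subgroup.normalizer (V : Set G)).subtype =
      (Cfsg.pCore 2 ↥(Subgroup.normalizer (V : Set G))).map (Subgroup.normalizer (V : Set G)).subtype)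
    (h2 : ∀ A : Subgroup G, V ≤ A → A ≤ Subgroup.normalizer (V : Set G) → IsMulCommutative ↥A →
      (∀ m ∈ Subgroup.normalizer (V : Set G), ∀ a ∈ A, m * a * m⁻¹ ∈ A) → A = V)
    (hti : ∀ x : G, V.map (MulAut.conj x).toMonoidHom = V ∨ V.map (MulAut.conj x).toMonoidHom ⊓ V = ⊥) :
    Hyp V := by
  obtain ⟨hc, hsq⟩ := hV
  have hF := Subgroup.map_injective (normalizer (V : Set G)).subtype_injective h1
  refine
    { comm := ?_
      sq := ?_
      ti := hti
      fs := ?_
      mx := ?_ }
  · intro a ha b hb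
    have := congrArg Subtype.val (mul_comm' (⟨a, ha⟩ : V) ⟨b, hb⟩)
    exact this
  · intro a ha
    have := hsq a ha
    simpa [pow_two] using this
  · intro m hm hc'
    have h3 : (⟨m, hm⟩ : ↥(normalizer (V : Set G))) ∈
        centralizer (Cfsg.generalizedFittingSubgroup ↥(normalizer (V : Set G)) : Set ↥(normalizer (V : Set G))) := by
      rw [mem_centralizer_iff]
      intro a ha
      rw [hF] at ha
      apply Subtype.ext
      exact (hc' a.1 ⟨a, ha, rfl⟩).symm
    have h4 := Cfsg.Agent.Lib.Components.FStar.centralizer_generalizedFitting_le h3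
    rw [hF] at h4
    exact ⟨⟨m, hm⟩, h4, rfl⟩
  · intro A hVA hAN hAc hAm
    exact h2 A hVA hAN ⟨⟨fun a b => Subtype.ext (hAc _ a.2 _ b.2)⟩⟩ hAm


/-- Let G be a finite group, V an elementary abelian 2-subgroup of G and M the normalizer of V; write Q for the largest normal 2-subgroup of M. Suppose (1) the generalized Fitting subgroup of M equals Q; (2) V is a maximal abelian normal subgroup of M; (3) every conjugate of V equals V or meets V trivially, and for some g ∈ G the conjugate V' = g V g⁻¹ is different from V and contained in Q. Let P be the centralizer of V in Q, W the subgroup generated by V and V', and H the subgroup generated by P and g P g⁻¹. Then: (a) V is contained in g Q g⁻¹; (b) every non-identity element of W lies in exactly one conjugate of V contained in W, H normalizes W, and H modulo the centralizer of W in H is isomorphic to the special linear group of dimension 2 over the field with |V| elements; (c) P = Q, and V equals the Frattini subgroup, the centre and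 the commutator subgroup of Q. -/
theorem result {G : Type*} [Group G] [Finite G] (V : Subgroup G)
    (hV : Cfsg.IsElementaryAbelian 2 V)
    (h1 : (Cfsg.generalizedFittingSubgroup ↥(Subgroup.normalizer (V : Set G))).map (Subgroup.normalizer (V : Set G)).subtype =
      (Cfsg.pCore 2 ↥(Subgroup.normalizer (V : Set G))).map (Subgroup.normalizer (V : Set G)).subtype)
    (h2 : ∀ A : Subgroup G, V ≤ A → A ≤ Subgroup.normalizer (V : Set G) → IsMulCommutative ↥A →
      (∀ m ∈ Subgroup.normalizer (V : Set G), ∀ a ∈ A, m * a * m⁻¹ ∈ A) → A = V)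
    (hti : ∀ x : G, V.map (MulAut.conj x).toMonoidHom = V ∨ V.map (MulAut.conj x).toMonoidHom ⊓ V = ⊥)
    (g : G) (hg : V.map (MulAut.conj g).toMonoidHom ≠ V)
    (hgQ : V.map (MulAut.conj g).toMonoidHom ≤ (Cfsg.pCore 2 ↥(Subgroup.normalizer (V : Set G))).map (Subgroup.normalizer (V : Set G)).subtype) :
    let Q : Subgroup G := (Cfsg.pCore 2 ↥(Subgroup.normalizer (V : Set G))).map (Subgroup.normalizer (V : Set G)).subtype
    let P : Subgroup G := Q ⊓ Subgroup.centralizer (V : Set G)
    let W : Subgroup G := V ⊔ V.map (MulAut.conj g).toMonoidHom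
    let H : Subgroup G := P ⊔ P.map (MulAut.conj g).toMonoidHom
    V ≤ Q.map (MulAut.conj g).toMonoidHom ∧
      (∀ w ∈ W, w ≠ 1 → ∃! U : Subgroup G, (∃ x : G, U = V.map (MulAut.conj x).toMonoidHom) ∧ U ≤ W ∧ w ∈ U) ∧
      H ≤ Subgroup.normalizer (W : Set G) ∧
      (∀ hN : ((Subgroup.centralizer (W : Set G)).subgroupOf H).Normal, ∃ (F : Type) (_ : Field F) (_ : Fintype F), Fintype.card F = Nat.card ↥V ∧
        Nonempty (↥H ⧸ (Subgroup.centralizer (W : Set G)).subgroupOf H ≃* Matrix.SpecialLinearGroup (Fin 2) F)) ∧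
      P = Q ∧ (frattini ↥Q).map Q.subtype = V ∧ (Subgroup.center ↥Q).map Q.subtype = V ∧ (commutator ↥Q).map Q.subtype = V := by
  intro Q P W H
  have hyp : Hyp V := hyp_of V hV h1 h2 hti
  have Fr0 : Fr V (cj g V) := Fr.of_qq hyp ⟨g, rfl⟩ hg hgQ
  have hQ : Q = QQ V := rfl
  have hPQ : P = Q := by
    refine le_antisymm inf_le_left fun q hq => ⟨hq, mem_centralizer_iff.2 fun v hv => ?_⟩
    exact (Fr0.qc q hq v hv).symm
  have hQU : Q.map (MulAut.conj g).toMonoidHom = QQ (cj g V) := (qq_cj g V).symm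
  have hH : H = QQ V ⊔ QQ (cj g V) := by
    change P ⊔ P.map (MulAut.conj g).toMonoidHom = _
    rw [hPQ, hQU]
    rfl
  have hW : W = V ⊔ cj g V := rfl
  refine ⟨?_, ?_, ?_, ?_, hPQ, ?_, ?_, ?_⟩
  · rw [hQU]
    exact Fr0.vq
  · intro w hw hw1
    exact Fr0.partition hw hw1
  · rw [hH, hW]
    exact sup_le Fr0.q_norm Fr0.q_norm'
  · intro hN
    obtain ⟨F₀, fF₀, finF₀, φ, hR, hcard⟩ := Cfsg.Agent.Lib.TISub.Frame.exists_coord Fr0
    obtain ⟨F₁, fF₁, fintF₁, ⟨e⟩⟩ := Cfsg.Agent.Lib.TISub.SL2.exists_small_field F₀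
    refine ⟨F₁, fF₁, fintF₁, ?_, ?_⟩
    · rw [← Nat.card_eq_fintype_card, Nat.card_congr e.toEquiv, hcard]
    · exact quot_aux hH (hR.transfer e) hN
  · exact Fr0.frattini_eq
  · exact Fr0.center_eq
  · exact Fr0.commutator_eq

end Cfsg.Agent.S1786
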