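import Cfsg.Statements.S3919
import Mathlib
import Cfsg.Agent.Lib.PGroup.Taussky
-- import your own Cfsg.Agent.* helpers here

set_option autoImplicit false
open Cfsg

namespace Cfsg.Agent.S3919

open Subgroup Cfsg.Agent.Lib.PGroup.Taussky Cfsg.Agent.Lib.PGroup.CyclicMax Cfsg.Agent.Lib.PGroup.CyclicMax2
open scoped commutatorElement

theorem comm_of_isCyclic {G : Type*} [Group G] (hc : IsCyclic G) : IsMulCommutative G := by
  obtain ⟨g, hg⟩ := hc
  refine isMulCommutative_iff.mpr fun a c => ?_
  obtain ⟨i, rfl⟩ := hg a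
  obtain ⟨j, rfl⟩ := hg c
  exact ((Commute.refl g).zpow_zpow i j).eq

theorem three_le {G : Type*} [Group G] [Finite G] (hna : ¬ IsMulCommutative G) {n : ℕ}
    (hG : Nat.card G = 2 ^ n) : 3 ≤ n := by
  haveI : Fact (Nat.Prime 2) := ⟨Nat.prime_two⟩
  by_contra hcon
  have hn : n = 0 ∨ n = 1 ∨ n = 2 := by omega
  rcases hn with rfl | rfl | rfl
  · apply hna
    have : Subsingleton G := (Nat.card_eq_one_iff_unique.mp (by simpa using hG)).1
    exact isMulCommutative_iff.mpr fun a b => Subsingleton.elim _ _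
  · rw [pow_one] at hG
    exact hna (comm_of_isCyclic (isCyclic_of_prime_card hG))
  · exact hna (IsPGroup.isMulCommutative_of_card_eq_prime_sq hG)

theorem selfCentralizing_of_MC {G : Type*} [Group G] [Finite G] {m : ℕ} {u b : G} (h : MC m u b)
    (H : Subgroup G) (hH : ¬ IsCyclic H) : centralizer (H : Set G) ≤ H := by
  haveI : Fact (Nat.Prime 2) := ⟨Nat.prime_two⟩
  have hm := h.hm
  have hw : ∃ w ∈ H, w ∉ zpowers u := by
    by_contra hcon
    push Not at hcon
    exact hH (Subgroup.isCyclic_of_le hcon)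
  obtain ⟨w, hwH, hwu⟩ := hw
  have hi := h.index_two
  have hmul : ∀ x y : G, x ∉ zpowers u → y ∉ zpowers u → x * y⁻¹ ∈ zpowers u := by
    intro x y hx hy
    rw [Subgroup.mul_mem_iff_of_index_two hi, inv_mem_iff]
    exact iff_of_false hx hy
  have hT : H ⊓ zpowers u ≠ ⊥ := by
    intro hbot
    apply hH
    apply Subgroup.isCyclic_of_le (H' := zpowers w)
    intro x hx
    by_cases hxu : x ∈ zpowers u
    · have : x ∈ H ⊓ zpowers u := ⟨hx, hxu⟩
      rw [hbot, Subgroup.mem_bot] at this
      rw [this]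
      exact one_mem _
    · have h1 := hmul x w hxu hwu
      have : x * w⁻¹ ∈ H ⊓ zpowers u := Subgroup.mem_inf.mpr ⟨mul_mem hx (inv_mem hwH), h1⟩
      rw [hbot, Subgroup.mem_bot, mul_inv_eq_one] at this
      rw [this]
      exact mem_zpowers w
  obtain ⟨t, htt, ht2⟩ := exists_order_two_in h.isPGroup _ hT
  obtain ⟨htH, htu⟩ := Subgroup.mem_inf.mp htt
  have hz2 : orderOf (u ^ 2 ^ (m - 1)) = 2 := by
    have := h.orderOf_u_pow (i := m - 1) (by omega)
    rw [this, show m - (m - 1) = 1 by omega, pow_one]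
  have hzH : u ^ 2 ^ (m - 1) ∈ H := by
    have hU : UniqueP 2 (zpowers u) := uniqueP_of_isCyclic
    have hzu : u ^ 2 ^ (m - 1) ∈ zpowers u := pow_mem (mem_zpowers u) _
    have hzsq : (u ^ 2 ^ (m - 1)) ^ 2 = 1 := by
      have := pow_orderOf_eq_one (u ^ 2 ^ (m - 1))
      rwa [hz2] at this
    have htsq : t ^ 2 = 1 := by
      have := pow_orderOf_eq_one t
      rwa [ht2] at this
    have h1 := hU ⟨u ^ 2 ^ (m - 1), hzu⟩ ⟨t, htu⟩
      (Subtype.ext (by simpa using hzsq))
      (Subtype.ext (by simpa using htsq))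
      (fun hc => by
        have h0 : u ^ 2 ^ (m - 1) = 1 := congrArg Subtype.val hc
        rw [h0, orderOf_one] at hz2
        omega)
      (fun hc => by
        have h0 : t = 1 := congrArg Subtype.val hc
        rw [h0, orderOf_one] at ht2
        omega)
    obtain ⟨i, hi⟩ := h1
    have h2 : t ^ i = u ^ 2 ^ (m - 1) := by simpa using congrArg Subtype.val hi
    rw [← h2]
    exact zpow_mem htH i
  intro x hx
  rw [Subgroup.mem_centralizer_iff] at hx
  have hxw : w * x = x * w := hx w hwH
  by_cases hxu : x ∈ zpowers u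
  · have := h.mem_z_of_comm_out hxu hwu hxw.symm
    exact (Subgroup.zpowers_le.mpr hzH : zpowers _ ≤ H) this
  · have h1 := hmul x w hxu hwu
    have h2 : x * w⁻¹ * w = w * (x * w⁻¹) := by
      have : w * (x * w⁻¹) = x := by rw [← mul_assoc, hxw]; group
      rw [this]; group
    have h3 := h.mem_z_of_comm_out h1 hwu h2
    have h4 : x * w⁻¹ ∈ H := (Subgroup.zpowers_le.mpr hzH : zpowers _ ≤ H) h3
    have : x = x * w⁻¹ * w := by group
    rw [this]
    exact mul_mem h4 hwH

theorem card_centralizer_bound {G : Type*} [Group G] [Finite G] (v : G) :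
    (centralizer ({v} : Set G)).index ≤ Nat.card (commutator G) := by
  let f : G ⧸ centralizer ({v} : Set G) → commutator G := fun a =>
    ⟨⁅a.out, v⁆, Subgroup.commutator_mem_commutator (mem_top _) (mem_top _)⟩
  have hf : Function.Injective f := by
    intro a c hac
    have h1 : ⁅a.out, v⁆ = ⁅c.out, v⁆ := congrArg Subtype.val hac
    rw [commutatorElement_def, commutatorElement_def] at h1
    have h2 : a.out * v * a.out⁻¹ = c.out * v * c.out⁻¹ := mul_right_cancel h1
    rw [← QuotientGroup.out_eq' a, ← QuotientGroup.out_eq' c, QuotientGroup.eq, Subgroup.mem_centralizer_singleton_iff]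
    have h3 : (a.out⁻¹ * c.out) * v = v * (a.out⁻¹ * c.out) := by
      have h4 : c.out * v = a.out * v * a.out⁻¹ * c.out := by
        rw [h2]; group
      calc (a.out⁻¹ * c.out) * v = a.out⁻¹ * (c.out * v) := by group
        _ = a.out⁻¹ * (a.out * v * a.out⁻¹ * c.out) := by rw [h4]
        _ = v * (a.out⁻¹ * c.out) := by group
    exact h3
  exact Nat.card_le_card_of_injective f hf

theorem lcs_of_selfCentralizing {G : Type*} [Group G] [Finite G] (hna : ¬ IsMulCommutative G)
    (n : ℕ) (hG : Nat.card G = 2 ^ n)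
    (hS : ∀ H : Subgroup G, ¬ IsCyclic H → centralizer (H : Set G) ≤ H) :
    (⊤ : Subgroup G).lowerCentralSeries (n - 2) ≠ ⊥ := by
  haveI : Fact (Nat.Prime 2) := ⟨Nat.prime_two⟩
  have hn := three_le hna hG
  obtain ⟨m, rfl⟩ : ∃ m, n = m + 1 := ⟨n - 1, by omega⟩
  have e : m + 1 - 2 = m - 1 := by omega
  rw [e]
  have hX : IsPGroup 2 G := IsPGroup.of_card hG
  by_cases hu : UniqueP 2 G
  · rcases cyclic_or_quaternion hX hu with hc | ⟨_, u, b, k, hSC, hk, hcard, hb, hbu, hb2⟩
    · exact (hna (comm_of_isCyclic hc)).elim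
    · have hkm : k = m := by
        rw [hG] at hcard
        have := Nat.pow_right_injective (le_refl 2) hcard
        omega
      subst hkm
      exact (MC.mk hk hSC hcard hb (Or.inl ⟨hbu, Or.inr hb2⟩)).lcs_succ_pred_ne_bot
  · unfold UniqueP at hu
    push Not at hu
    obtain ⟨y, w, hy, hw, hy1, hw1, hnot⟩ := hu
    haveI : Nontrivial G := ⟨⟨y, 1, hy1⟩⟩
    obtain ⟨z, hzc, hz⟩ := exists_central_order_p hX
    have hzp : z ^ 2 = 1 := by rw [← hz]; exact pow_orderOf_eq_one z
    have hcardz : Nat.card (zpowers z) = 2 := by rw [Nat.card_zpowers, hz]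
    have hv : ∃ v : G, v ^ 2 = 1 ∧ v ∉ zpowers z := by
      by_cases hyz : y ∈ zpowers z
      · refine ⟨w, hw, fun hwz => hnot ?_⟩
        have h1 : (⟨w, hwz⟩ : zpowers z) ≠ 1 := fun hc => hw1 (congrArg Subtype.val hc)
        have h2 := mem_zpowers_of_prime_card hcardz (g' := (⟨y, hyz⟩ : zpowers z)) h1
        obtain ⟨i, hi⟩ := h2
        refine ⟨i, ?_⟩
        simpa using congrArg Subtype.val hi
      · exact ⟨y, hy, hyz⟩
    obtain ⟨v, hvp, hvz⟩ := hv
    have hv1 : v ≠ 1 := by
      rintro rfl
      exact hvz (one_mem _)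
    have hordv : orderOf v = 2 := orderOf_eq_prime hvp hv1
    have hcardv : Nat.card (zpowers v) = 2 := by rw [Nat.card_zpowers, hordv]
    haveI hzn : (zpowers z).Normal := by
      refine ⟨fun x hx g => ?_⟩
      have h1 : x ∈ center G := (zpowers_le.mpr hzc) hx
      rw [Subgroup.mem_center_iff] at h1
      have : g * x * g⁻¹ = x := by rw [h1 g]; group
      rw [this]; exact hx
    have hd : Disjoint (zpowers v) (zpowers z) := by
      rw [Subgroup.disjoint_def]
      intro x hxv hxz
      by_contra hx1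
      have h1 : (⟨x, hxv⟩ : zpowers v) ≠ 1 := fun hc => hx1 (congrArg Subtype.val hc)
      have h2 := mem_zpowers_of_prime_card hcardv (g' := (⟨v, mem_zpowers v⟩ : zpowers v)) h1
      obtain ⟨i, hi⟩ := h2
      apply hvz
      have h3 : x ^ i = v := by simpa using congrArg Subtype.val hi
      rw [← h3]
      exact zpow_mem hxz i
    have hcardH : Nat.card (zpowers v ⊔ zpowers z : Subgroup G) = 4 := by
      rw [card_sup_eq_of_disjoint _ _ hd, hcardv, hcardz]
    have hE : Cfsg.IsElementaryAbelian 2 (zpowers v ⊔ zpowers z : Subgroup G) := by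
      apply Cfsg.Agent.Lib.PGroup.Basic.IsElementaryAbelian.sup_zpowers (isElementaryAbelian_zpowers hvp) hzp
      intro a _
      exact ((Subgroup.mem_center_iff.mp hzc) a).symm
    have hHnc : ¬ IsCyclic (zpowers v ⊔ zpowers z : Subgroup G) := by
      intro hc
      obtain ⟨g, hg⟩ := IsCyclic.exists_ofOrder_eq_natCard (α := (zpowers v ⊔ zpowers z : Subgroup G))
      rw [hcardH] at hg
      have h2 : (g : G) ^ 2 = 1 := (Cfsg.Agent.Lib.PGroup.Basic.isElementaryAbelian_iff.mp hE).2 g g.2
      have h3 : g ^ 2 = 1 := Subtype.ext (by simpa using h2)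
      have h4 := orderOf_dvd_of_pow_eq_one h3
      rw [hg] at h4
      omega
    have hCle : centralizer ({v} : Set G) ≤ (zpowers v ⊔ zpowers z : Subgroup G) := by
      refine le_trans ?_ (hS _ hHnc)
      intro g hg
      rw [Subgroup.mem_centralizer_singleton_iff] at hg
      rw [Subgroup.mem_centralizer_iff]
      have hle : (zpowers v ⊔ zpowers z : Subgroup G) ≤ centralizer ({g} : Set G) := by
        apply sup_le
        · rw [zpowers_le, Subgroup.mem_centralizer_singleton_iff]
          exact hg.symm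
        · rw [zpowers_le, Subgroup.mem_centralizer_singleton_iff]
          exact ((Subgroup.mem_center_iff.mp hzc) g).symm
      intro a ha
      have := hle ha
      rw [Subgroup.mem_centralizer_singleton_iff] at this
      exact this
    have hcardC := Subgroup.card_le_of_le hCle
    rw [hcardH] at hcardC
    have hb1 := card_centralizer_bound v
    have hb2 := Subgroup.card_mul_index (centralizer ({v} : Set G))
    have hb3 := Subgroup.card_mul_index (commutator G)
    rw [hG] at hb2 hb3
    have hidx : (commutator G).index ≤ 4 := by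
      have h5 : Nat.card (commutator G) * (commutator G).index ≤ Nat.card (commutator G) * 4 := by
        rw [hb3, ← hb2, mul_comm (Nat.card (commutator G))]
        exact Nat.mul_le_mul hcardC hb1
      exact Nat.le_of_mul_le_mul_left h5 Nat.card_pos
    have hna' : ∃ a c : G, a * c ≠ c * a := by
      by_contra hcon
      push Not at hcon
      exact hna (isMulCommutative_iff.mpr hcon)
    obtain ⟨h4, h5⟩ := klein_of_index_le_four hX hna' hidx
    obtain ⟨u, b, h⟩ := exists_MC (m := m) (by omega) hG h4 h5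
    exact h.lcs_succ_pred_ne_bot

/-- Say that a group has self-centralizing non-cyclic subgroups when every non-cyclic subgroup H satisfies C_G(H) ≤ H. A finite non-abelian 2-group G of order 2^n has self-centralizing non-cyclic subgroups if and only if G has nilpotency class n − 1 (that is, G is dihedral, semidihedral or generalized quaternion). -/
theorem result {G : Type*} [Group G] [Finite G] (hna : ¬ IsMulCommutative G) (n : ℕ) (hG : Nat.card G = 2 ^ n) :
    (∀ H : Subgroup G, ¬ IsCyclic ↥H → Subgroup.centralizer (H : Set G) ≤ H) ↔ (⊤ : Subgroup G).lowerCentralSeries (n - 2) ≠ ⊥ := by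
  constructor
  · exact lcs_of_selfCentralizing hna n hG
  · intro hl H hH
    have hn := three_le hna hG
    obtain ⟨m, rfl⟩ : ∃ m, n = m + 1 := ⟨n - 1, by omega⟩
    have e : m + 1 - 2 = m - 1 := by omega
    rw [e] at hl
    obtain ⟨u, b, h⟩ := MC_of_lcs_ne_bot (m := m) (by omega) hG hl
    exact selfCentralizing_of_MC h H hH

end Cfsg.Agent.S3919
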