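import Cfsg.Statements.S4189
import Mathlib
import Cfsg.Agent.Lib.PGroup.AutMaxClass
import Cfsg.Agent.S3919
-- import your own Cfsg.Agent.* helpers here

set_option autoImplicit false
open Cfsg

namespace Cfsg.Agent.S4189

/-- Let P be a finite non-abelian 2-group whose commutator subgroup has index 4 and whose automorphism group is not a 2-group (some automorphism has order that is not a power of 2). Then P is isomorphic to the quaternion group of order 8. -/
theorem result {P : Type*} [Group P] [Finite P] (hP : IsPGroup 2 P) (hna : ¬ IsMulCommutative P) (h4 : (commutator P).index = 4) (haut : ¬ IsPGroup 2 (MulAut P)) : Nonempty (P ≃* QuaternionGroup 2) := by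
  haveI : Fact (Nat.Prime 2) := ⟨Nat.prime_two⟩
  obtain ⟨k, hk⟩ := IsPGroup.iff_card.mp hP
  have hn := Cfsg.Agent.S3919.three_le hna hk
  obtain ⟨m, rfl⟩ : ∃ m, k = m + 1 := ⟨k - 1, by omega⟩
  have hna' : ∃ a c : P, a * c ≠ c * a := by
    by_contra hcon
    push Not at hcon
    exact hna (isMulCommutative_iff.mpr hcon)
  obtain ⟨_, h5⟩ := Cfsg.Agent.Lib.PGroup.Taussky.klein_of_index_le_four hP hna' h4.le
  obtain ⟨u, b, h⟩ := Cfsg.Agent.Lib.PGroup.Taussky.exists_MC (m := m) (by omega) hk h4 h5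
  by_cases hQ : m = 2 → b ^ 2 = 1
  · exact (haut (Cfsg.Agent.Lib.PGroup.AutMaxClass.MC.aut_isPGroup h hQ)).elim
  · push Not at hQ
    obtain ⟨rfl, hQ⟩ := hQ
    rcases h.hform with ⟨hbu, hb2 | hb2⟩ | ⟨hm3, _, _⟩
    · exact (hQ hb2).elim
    · exact Cfsg.Agent.Lib.PGroup.CyclicMax2.quaternion_of_data (n := 2) (by omega) h.sc.hu h.hcard h.hb hbu hb2
    · omega

end Cfsg.Agent.S4189
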