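import Cfsg.Statements.S1896
import Cfsg.Agent.S4189
import Cfsg.Agent.Lib.Fusion.Meta.Two
import Cfsg.Agent.Lib.PGroup.OddAut
import Cfsg.Agent.Lib.PGroup.Basic

set_option autoImplicit false
open Cfsg

namespace Cfsg.Agent.S1896

open Cfsg.Agent.Lib.Fusion.Meta.Frat Cfsg.Agent.Lib.Fusion.Meta.Two Cfsg.Agent.Lib.PGroup.OddAut
open scoped commutatorElement

variable {X : Type*} [Group X] [Finite X]

lemma coords {V : Type*} [Group V] [Finite V] {p : ℕ} [Fact p.Prime] (hVc : ∀ a b : V, a * b = b * a)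
    (hVe : ∀ v : V, v ^ p = 1) (hcard : Nat.card V ≤ p ^ 2) {e₁ e₂ : V} (h1 : e₁ ≠ 1)
    (h2 : e₂ ∉ Subgroup.zpowers e₁) (w : V) : ∃ i j : ℕ, w = e₁ ^ i * e₂ ^ j := by
  letI : CommGroup V := { (inferInstance : Group V) with mul_comm := hVc }
  exact Cfsg.Agent.Lib.Fusion.Meta.Linear.exists_coords hVe hcard h1 h2 w

lemma fix_aux {V : Type*} [Group V] [Finite V] (hVc : ∀ a b : V, a * b = b * a)
    (hVe : ∀ v : V, v ^ 2 = 1) (hcard : Nat.card V ≤ 2 ^ 2)
    (β : MulAut V) {q : ℕ} (hq : Odd q) (hβ : β ^ q = 1) {v : V} (hv : v ≠ 1) (hfix : β v = v) :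
    β = 1 := by
  haveI : Fact (Nat.Prime 2) := ⟨Nat.prime_two⟩
  have hpow : ∀ i : ℕ, β (v ^ i) = v ^ i := fun i => by rw [map_pow, hfix]
  ext w
  show β w = w
  by_cases h2 : w ∈ Subgroup.zpowers v
  · obtain ⟨k, hk⟩ := mem_powers_iff_mem_zpowers.mpr h2
    rw [← hk]
    exact hpow k
  obtain ⟨i, j, hij⟩ := coords (p := 2) hVc hVe hcard hv h2 (β w)
  have hex : ∀ (y : V) (n : ℕ), Even n → y ^ n = 1 := by
    rintro y n ⟨m, rfl⟩
    rw [← two_mul, pow_mul, hVe, one_pow]
  have hox : ∀ (y : V) (n : ℕ), Odd n → y ^ n = y := by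
    rintro y n ⟨m, rfl⟩
    rw [pow_succ, pow_mul, hVe, one_pow, one_mul]
  rcases Nat.even_or_odd j with hj | hj
  · exfalso
    rw [hex w j hj, mul_one] at hij
    apply h2
    have h3 : w = v ^ i := by
      apply β.injective
      rw [hij, hpow]
    rw [h3]
    exact pow_mem (Subgroup.mem_zpowers v) i
  · rw [hox w j hj] at hij
    have h4 : β w = w * v ^ i := by rw [hij, hVc]
    have h5 := pow_apply_of_fixed β (hpow i) h4 q
    rw [hβ] at h5
    have h6 : (v ^ i) ^ q = 1 := by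
      have h7 : w = w * (v ^ i) ^ q := h5
      exact mul_left_cancel (a := w) (by rw [mul_one]; exact h7.symm)
    rw [hox _ q hq] at h6
    rw [h4, h6, mul_one]

lemma exists_odd (hA : ¬ IsPGroup 2 (MulAut X)) :
    ∃ (α : MulAut X) (q : ℕ), Odd q ∧ α ^ q = 1 ∧ α ≠ 1 := by
  by_contra hcon
  push Not at hcon
  exact hA (isPGroup_mulAut_of (fun β q hq h => hcon β q hq h))

lemma frat_facts (hX : IsPGroup 2 X) (hm : Cfsg.IsMetacyclic X) (α : MulAut X) (q : ℕ) (hq : Odd q)
    (hα : α ^ q = 1) (hα1 : α ≠ 1) :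
    Nat.card (X ⧸ frattini X) = 4 ∧ ∀ v : X ⧸ frattini X, v ≠ 1 → fratAut X α v ≠ v := by
  haveI hf2 : Fact (Nat.Prime 2) := ⟨Nat.prime_two⟩
  have hVc := frat_comm hX
  have hVe := frat_exp hX
  have hcard : Nat.card (X ⧸ frattini X) ≤ 2 ^ 2 :=
    Cfsg.Agent.Lib.PGroup.HuppertA.card_le_of_metacyclic_exponent (by norm_num)
      (Cfsg.Agent.Lib.PGroup.HuppertA.metacyclic_of_surjective (QuotientGroup.mk' _)
        (QuotientGroup.mk'_surjective _) hm) hVe
  have hβq : (fratAut X α) ^ q = 1 := by rw [← map_pow, hα, map_one]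
  have hco : (orderOf α).Coprime 2 := by
    have h1 : orderOf α ∣ q := orderOf_dvd_of_pow_eq_one hα
    exact Nat.Coprime.coprime_dvd_left h1 hq.coprime_two_right
  have hne : fratAut X α ≠ 1 := by
    intro h
    apply hα1
    apply aut_eq_one_of_frattini (p := 2) hX α hco
    intro x
    have h1 : fratAut X α (x : X ⧸ frattini X) = (x : X ⧸ frattini X) := by rw [h]; rfl
    rw [fratAut_mk] at h1
    rw [← QuotientGroup.eq_one_iff, QuotientGroup.mk_mul, QuotientGroup.mk_inv, h1, inv_mul_cancel]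
  have hfpf : ∀ v : X ⧸ frattini X, v ≠ 1 → fratAut X α v ≠ v := by
    intro v hv hfix
    exact hne (fix_aux hVc hVe hcard (fratAut X α) hq hβq hv hfix)
  refine ⟨?_, hfpf⟩
  classical
  haveI := Fintype.ofFinite (X ⧸ frattini X)
  obtain ⟨v, hv⟩ : ∃ v : X ⧸ frattini X, fratAut X α v ≠ v := by
    by_contra hcon
    push Not at hcon
    apply hne
    ext v
    exact hcon v
  have hv1 : v ≠ 1 := by
    rintro rfl
    exact hv (map_one _)
  have hβv1 : fratAut X α v ≠ 1 := by
    intro h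
    exact hv1 ((fratAut X α).injective (by rw [h, map_one]))
  have h3 : ({1, v, fratAut X α v} : Finset (X ⧸ frattini X)).card = 3 :=
    Finset.card_eq_three.mpr ⟨1, v, _, hv1.symm, hβv1.symm, hv.symm, rfl⟩
  have h4 : 3 ≤ Nat.card (X ⧸ frattini X) := by
    rw [Nat.card_eq_fintype_card, ← h3]
    exact Finset.card_le_univ _
  obtain ⟨k, hk⟩ := IsPGroup.iff_card.mp (hX.to_quotient (frattini X))
  rw [hk] at h4 hcard ⊢
  have hk2 : k ≤ 2 := (Nat.pow_le_pow_iff_right (by norm_num)).mp hcard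
  interval_cases k <;> omega

lemma index_four (hX : IsPGroup 2 X) (hcard : Nat.card (X ⧸ frattini X) = 4) (h8 : Nat.card X = 8)
    (hna : ¬ ∀ x y : X, x * y = y * x) : (commutator X).index = 4 := by
  have h1 : (frattini X).index = 4 := hcard
  have h2 := (frattini X).card_mul_index
  rw [h1, h8] at h2
  have hΦ : Nat.card (frattini X) = 2 := by omega
  have hle : commutator X ≤ frattini X := Cfsg.Agent.Lib.PGroup.FrattiniBasis.commutator_le_frattini hX
  have hne : commutator X ≠ ⊥ := by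
    intro h
    apply hna
    intro x y
    have h3 : ⁅x, y⁆ ∈ commutator X := Subgroup.commutator_mem_commutator trivial trivial
    rw [h] at h3
    exact commutatorElement_eq_one_iff_mul_comm.mp h3
  have h4 : Nat.card (commutator X) = 2 := by
    have h5 := Subgroup.card_dvd_of_le hle
    rw [hΦ] at h5
    have h6 : Nat.card (commutator X) ≠ 1 := by
      intro h
      exact hne (Subgroup.card_eq_one.mp h)
    have := (Nat.dvd_prime Nat.prime_two).mp h5
    omega
  have h5 : commutator X = frattini X := Subgroup.eq_of_le_of_card_ge hle (by omega)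
  rw [h5]
  exact h1

/-- the involution of a cyclic `2`-group -/
lemma eq_of_inv {x t : X} {b : ℕ} (hx : orderOf x = 2 ^ (b + 1)) (ht : t ∈ Subgroup.zpowers x)
    (ht2 : t ^ 2 = 1) (ht1 : t ≠ 1) : t = x ^ 2 ^ b := by
  obtain ⟨k, rfl⟩ := mem_powers_iff_mem_zpowers.mpr ht
  have h1 : 2 ^ (b + 1) ∣ k * 2 := by
    rw [← hx]
    apply orderOf_dvd_of_pow_eq_one
    rw [pow_mul]
    exact ht2
  rw [pow_succ] at h1
  have h2 : 2 ^ b ∣ k := Nat.dvd_of_mul_dvd_mul_right (by norm_num) h1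
  obtain ⟨m, rfl⟩ := h2
  have hw : (x ^ 2 ^ b) ^ 2 = 1 := by
    rw [← pow_mul, ← pow_succ, ← hx, pow_orderOf_eq_one]
  rcases Nat.even_or_odd m with ⟨r, rfl⟩ | ⟨r, rfl⟩
  · exfalso
    apply ht1
    show x ^ (2 ^ b * (r + r)) = 1
    rw [pow_mul, ← two_mul, pow_mul, hw, one_pow]
  · show x ^ (2 ^ b * (2 * r + 1)) = x ^ 2 ^ b
    rw [pow_mul, pow_succ, pow_mul, hw, one_pow, one_mul]

/-- a cyclic group of order `m` is a `ZMod m` -/
lemma cyclic_iso {C : Type*} [Group C] [IsCyclic C] [Finite C] (m : ℕ) (hm : Nat.card C = m) :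
    Nonempty (Multiplicative (ZMod m) ≃* C) := by
  subst hm
  exact ⟨zmodCyclicMulEquiv inferInstance⟩

set_option maxHeartbeats 1000000 in
lemma homocyclic (hX : IsPGroup 2 X) (hcomm : ∀ x y : X, x * y = y * x) (α : MulAut X)
    (hcard : Nat.card (X ⧸ frattini X) = 4)
    (hfpf : ∀ v : X ⧸ frattini X, v ≠ 1 → fratAut X α v ≠ v) :
    ∃ n : ℕ, Nonempty (X ≃* Multiplicative (ZMod (2 ^ n)) × Multiplicative (ZMod (2 ^ n))) := by
  haveI hf2 : Fact (Nat.Prime 2) := ⟨Nat.prime_two⟩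
  have hVe := frat_exp hX
  have hcard2 : Nat.card (X ⧸ frattini X) ≤ 2 ^ 2 := by rw [hcard]; norm_num
  -- an element of maximal order
  obtain ⟨x, hxmax⟩ := Finite.exists_max (orderOf : X → ℕ)
  obtain ⟨a, ha⟩ := (IsPGroup.iff_orderOf.mp hX) x
  have hall : ∀ y : X, y ^ 2 ^ a = 1 := by
    intro y
    obtain ⟨c, hc⟩ := (IsPGroup.iff_orderOf.mp hX) y
    have h1 := hxmax y
    rw [ha, hc] at h1
    have h2 := (Nat.pow_le_pow_iff_right (by norm_num)).mp h1
    apply orderOf_dvd_iff_pow_eq_one.mp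
    rw [hc]
    exact pow_dvd_pow 2 h2
  have ha0 : a ≠ 0 := by
    rintro rfl
    have h1 : ∀ y : X, y = 1 := by simpa using hall
    have h2 : ∀ v : X ⧸ frattini X, v = 1 := by
      intro v
      obtain ⟨y, rfl⟩ := QuotientGroup.mk_surjective v
      rw [h1 y]
      rfl
    have h3 : Nat.card (X ⧸ frattini X) = 1 := by
      rw [Nat.card_eq_one_iff_unique]
      exact ⟨⟨fun a b => by rw [h2 a, h2 b]⟩, ⟨1⟩⟩
    omega
  obtain ⟨b, rfl⟩ : ∃ b, a = b + 1 := ⟨a - 1, by omega⟩
  -- the power map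
  let π : X →* X := MonoidHom.mk' (fun y => y ^ 2 ^ b) (fun y z => (Commute.mul_pow (hcomm y z) _))
  have hπ : ∀ y, π y = y ^ 2 ^ b := fun y => rfl
  have hπα : ∀ y, π (α y) = α (π y) := fun y => by rw [hπ, hπ, map_pow]
  have hπx : π x ≠ 1 := by
    rw [hπ]
    intro h
    have h1 := orderOf_dvd_of_pow_eq_one h
    rw [ha] at h1
    have h2 := (Nat.pow_dvd_pow_iff_le_right (by norm_num)).mp h1
    omega
  have hΦK : frattini X ≤ π.ker := by
    rw [Cfsg.Agent.Lib.PGroup.Basic.frattini_eq_powCommutator hX,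
      Cfsg.Agent.Lib.PGroup.Basic.powCommutator_le_iff]
    constructor
    · intro y
      rw [MonoidHom.mem_ker, hπ, ← pow_mul, ← pow_succ']
      exact hall y
    · intro y z
      rw [commutatorElement_eq_one_iff_mul_comm.mpr (hcomm y z)]
      exact one_mem _
  -- `ker π = Φ`
  have hKΦ : ∀ w, π w = 1 → w ∈ frattini X := by
    intro w hw
    by_contra hwΦ
    have hv : (w : X ⧸ frattini X) ≠ 1 := fun h => hwΦ ((QuotientGroup.eq_one_iff _).mp h)
    have hβ := hfpf _ hv
    have h2 : fratAut X α (w : X ⧸ frattini X) ∉ Subgroup.zpowers (w : X ⧸ frattini X) := by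
      intro h
      obtain ⟨k, hk⟩ := mem_powers_iff_mem_zpowers.mpr h
      have hk' : (w : X ⧸ frattini X) ^ k = fratAut X α (w : X ⧸ frattini X) := hk
      rcases Nat.even_or_odd k with ⟨r, rfl⟩ | ⟨r, rfl⟩
      · rw [← two_mul, pow_mul, hVe, one_pow] at hk'
        apply hv
        apply (fratAut X α).injective
        rw [← hk', map_one]
      · rw [pow_succ, pow_mul, hVe, one_pow, one_mul] at hk'
        exact hβ hk'.symm
    obtain ⟨i, j, hij⟩ := coords (p := 2) (frat_comm hX) hVe hcard2 hv h2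
      (x : X ⧸ frattini X)
    rw [fratAut_mk] at hij
    have h3 : (w ^ i * (α w) ^ j)⁻¹ * x ∈ frattini X := by
      rw [← QuotientGroup.eq_one_iff, QuotientGroup.mk_mul, QuotientGroup.mk_inv, hij,
        QuotientGroup.mk_mul, QuotientGroup.mk_pow, QuotientGroup.mk_pow]
      exact inv_mul_cancel _
    have h4 := hΦK h3
    rw [MonoidHom.mem_ker, map_mul, map_inv, map_mul, map_pow, map_pow, hπα, hw, map_one, one_pow,
      one_pow, one_mul, inv_one, one_mul] at h4
    exact hπx h4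
  set y := α x with hy
  have hxΦ : x ∉ frattini X := fun h => hπx (hΦK h)
  have hv : (x : X ⧸ frattini X) ≠ 1 := fun h => hxΦ ((QuotientGroup.eq_one_iff _).mp h)
  have hβ : ((y : X) : X ⧸ frattini X) ≠ (x : X ⧸ frattini X) := hfpf _ hv
  have hπne : π x ≠ π y := by
    intro h
    have h1 : π (x⁻¹ * y) = 1 := by rw [map_mul, map_inv, h, inv_mul_cancel]
    have h2 := hKΦ _ h1
    apply hβ
    symm
    exact QuotientGroup.eq.mpr h2
  have hoy : orderOf y = 2 ^ (b + 1) := by
    rw [hy, MulEquiv.orderOf_eq, ha]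
  -- generation
  have hny : ((y : X) : X ⧸ frattini X) ∉ Subgroup.zpowers (x : X ⧸ frattini X) := by
    intro h
    obtain ⟨k, hk⟩ := mem_powers_iff_mem_zpowers.mpr h
    have hk' : (x : X ⧸ frattini X) ^ k = (y : X) := hk
    rcases Nat.even_or_odd k with ⟨r, rfl⟩ | ⟨r, rfl⟩
    · rw [← two_mul, pow_mul, hVe, one_pow] at hk'
      apply hv
      apply (fratAut X α).injective
      rw [map_one, fratAut_mk]
      exact hk'.symm
    · rw [pow_succ, pow_mul, hVe, one_pow, one_mul] at hk'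
      exact hβ hk'.symm
  have hgen : Subgroup.zpowers x ⊔ Subgroup.zpowers y = ⊤ := by
    apply frattini_nongenerating
    rw [eq_top_iff]
    intro g _
    obtain ⟨i, j, hij⟩ := coords (p := 2) (frat_comm hX) hVe hcard2 hv hny
      (g : X ⧸ frattini X)
    have hmem : (x ^ i * y ^ j)⁻¹ * g ∈ frattini X := by
      rw [← QuotientGroup.eq_one_iff, QuotientGroup.mk_mul, QuotientGroup.mk_inv, hij,
        QuotientGroup.mk_mul, QuotientGroup.mk_pow, QuotientGroup.mk_pow]
      exact inv_mul_cancel _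
    have e : g = (x ^ i * y ^ j) * ((x ^ i * y ^ j)⁻¹ * g) := by group
    rw [e]
    refine mul_mem ((le_sup_left : _ ≤ (Subgroup.zpowers x ⊔ Subgroup.zpowers y) ⊔ frattini X) ?_)
      ((le_sup_right : frattini X ≤ _) hmem)
    exact mul_mem ((le_sup_left : _ ≤ Subgroup.zpowers x ⊔ Subgroup.zpowers y)
        (pow_mem (Subgroup.mem_zpowers x) i))
      ((le_sup_right : _ ≤ Subgroup.zpowers x ⊔ Subgroup.zpowers y)
        (pow_mem (Subgroup.mem_zpowers y) j))
  -- intersection
  have hinter : Subgroup.zpowers x ⊓ Subgroup.zpowers y = ⊥ := by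
    by_contra hD
    have hDp : IsPGroup 2 ↥(Subgroup.zpowers x ⊓ Subgroup.zpowers y) := hX.to_subgroup _
    haveI : Nontrivial ↥(Subgroup.zpowers x ⊓ Subgroup.zpowers y) :=
      (Subgroup.nontrivial_iff_ne_bot _).mpr hD
    obtain ⟨e, he⟩ := IsPGroup.iff_card.mp hDp
    have he0 : e ≠ 0 := by
      rintro rfl
      have := Finite.one_lt_card (α := ↥(Subgroup.zpowers x ⊓ Subgroup.zpowers y))
      simp only [pow_zero] at he
      omega
    obtain ⟨t, ht⟩ := exists_prime_orderOf_dvd_card' (G := ↥(Subgroup.zpowers x ⊓ Subgroup.zpowers y)) 2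
      (by rw [he]; exact dvd_pow_self 2 he0)
    have ht2 : (t : X) ^ 2 = 1 := by
      have := pow_orderOf_eq_one t
      rw [ht] at this
      exact_mod_cast congrArg Subtype.val this
    have ht1 : (t : X) ≠ 1 := by
      intro h
      have h1 : t = 1 := Subtype.ext h
      rw [h1, orderOf_one] at ht
      omega
    have h1 := eq_of_inv ha t.2.1 ht2 ht1
    have h2 := eq_of_inv hoy t.2.2 ht2 ht1
    apply hπne
    rw [hπ, hπ, ← h1, ← h2]
  -- the isomorphism
  obtain ⟨e₁⟩ := cyclic_iso (C := Subgroup.zpowers x) (2 ^ (b + 1)) (by rw [Nat.card_zpowers, ha])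
  obtain ⟨e₂⟩ := cyclic_iso (C := Subgroup.zpowers y) (2 ^ (b + 1)) (by rw [Nat.card_zpowers, hoy])
  let f : Subgroup.zpowers x × Subgroup.zpowers y →* X :=
    MonoidHom.noncommCoprod (Subgroup.zpowers x).subtype (Subgroup.zpowers y).subtype
      (fun a b => hcomm _ _)
  have hf : ∀ a b, f (a, b) = (a : X) * (b : X) := fun a b => rfl
  have hfinj : Function.Injective f := by
    rw [injective_iff_map_eq_one]
    rintro ⟨a, b⟩ h
    rw [hf] at h
    have h1 : (a : X) = (b : X)⁻¹ := eq_inv_of_mul_eq_one_left h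
    have h2 : (a : X) ∈ Subgroup.zpowers x ⊓ Subgroup.zpowers y := by
      refine ⟨a.2, ?_⟩
      rw [h1]
      exact (Subgroup.zpowers y).inv_mem b.2
    rw [hinter, Subgroup.mem_bot] at h2
    have h3 : (b : X) = 1 := by
      rw [h2, one_mul] at h
      exact h
    have ha1 : a = 1 := Subtype.ext h2
    have hb1 : b = 1 := Subtype.ext h3
    rw [ha1, hb1]
    rfl
  have hfsurj : Function.Surjective f := by
    rw [← MonoidHom.range_eq_top, eq_top_iff, ← hgen, sup_le_iff]
    constructor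
    · intro g hg
      exact ⟨(⟨g, hg⟩, 1), by rw [hf]; simp⟩
    · intro g hg
      exact ⟨(1, ⟨g, hg⟩), by rw [hf]; simp⟩
  exact ⟨b + 1, ⟨((MulEquiv.ofBijective f ⟨hfinj, hfsurj⟩).symm).trans (MulEquiv.prodCongr e₁.symm e₂.symm)⟩⟩

/-- A finite metacyclic 2-group whose automorphism group is not a 2-group is isomorphic to the quaternion group of order 8 or to a homocyclic abelian group Z_{2^n} × Z_{2^n}. -/
theorem result {X : Type*} [Group X] [Finite X] (hX : IsPGroup 2 X)
    (hm : Cfsg.IsMetacyclic X) (hA : ¬ IsPGroup 2 (MulAut X)) :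
    Nonempty (X ≃* QuaternionGroup 2) ∨
      ∃ n : ℕ, Nonempty (X ≃* Multiplicative (ZMod (2 ^ n)) × Multiplicative (ZMod (2 ^ n))) := by
  obtain ⟨α, q, hq, hα, hα1⟩ := exists_odd hA
  obtain ⟨hcard, hfpf⟩ := frat_facts hX hm α q hq hα hα1
  by_cases hcomm : ∀ x y : X, x * y = y * x
  · right
    exact homocyclic hX hcomm α hcard hfpf
  · left
    rcases abelian_or_card_eight hX hcard α hfpf hm with h | h
    · exact absurd h hcomm
    · have hna : ¬ IsMulCommutative X := by
        intro h'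
        exact hcomm h'.is_comm.comm
      exact Cfsg.Agent.S4189.result hX hna (index_four hX hcard h hcomm) hA

end Cfsg.Agent.S1896
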