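import Cfsg.Statements.S1910
import Mathlib
import Cfsg.Agent.Lib.PGroup.Basic
import Cfsg.Agent.Lib.PGroup.QdRadical

set_option autoImplicit false
open Cfsg

namespace Cfsg.Agent.S1910

open Subgroup
open Cfsg.Agent.Lib.PGroup.QdRadical (exists_mul_of_mem_sup)

section aux

variable {G : Type*} [Group G] [Finite G]

/-- An element of a 2-group lying in a subgroup of odd order is trivial. -/
theorem eq_one_of_two_of_odd {P C : Subgroup G} (hP : IsPGroup 2 P) (hC : Odd (Nat.card C))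
    {x : G} (hxP : x ∈ P) (hxC : x ∈ C) : x = 1 := by
  obtain ⟨k, hk⟩ := hP ⟨x, hxP⟩
  have h1 : orderOf x ∣ 2 ^ k := orderOf_dvd_of_pow_eq_one (by
    have := congrArg Subtype.val hk
    simpa using this)
  have h2 : orderOf x ∣ Nat.card C := Subgroup.orderOf_dvd_natCard C hxC
  have hco : Nat.Coprime (2 ^ k) (Nat.card C) :=
    Nat.Coprime.pow_left _ (Nat.coprime_two_left.mpr hC)
  exact orderOf_eq_one_iff.mp (Nat.Coprime.eq_one_of_dvd (Nat.Coprime.coprime_dvd_left h1 hco) h2)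

theorem mem_cj {Q : Subgroup G} {g h : G} :
    h ∈ Q.map (MulAut.conj g).toMonoidHom ↔ g⁻¹ * h * g ∈ Q := by
  constructor
  · rintro ⟨q, hq, rfl⟩
    simpa [mul_assoc] using hq
  · intro hh
    refine ⟨_, hh, ?_⟩
    simp [mul_assoc]

theorem card_cj (Q : Subgroup G) (g : G) :
    Nat.card (Q.map (MulAut.conj g).toMonoidHom) = Nat.card Q :=
  Subgroup.card_map_of_injective (MulAut.conj g).injective

theorem card_mul_relIndex' {H K : Subgroup G} (h : H ≤ K) :
    Nat.card H * H.relIndex K = Nat.card K := by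
  have := Subgroup.relIndex_mul_relIndex ⊥ H K bot_le h
  simpa [Subgroup.relIndex_bot_left] using this

/-- Sylow intersections with a normalized subgroup, in terms of relative indices. -/
theorem relIndex_eq_of_sup {X Q S : Subgroup G} (hSQ : S ≤ normalizer (Q : Set G))
    (hsup : Q ⊔ S = X) : S.relIndex X = S.relIndex Q := by
  have hQX : Q ≤ X := hsup ▸ le_sup_left
  have hSX : S ≤ X := hsup ▸ le_sup_right
  have hXN : X ≤ normalizer (Q : Set G) := hsup ▸ sup_le Subgroup.le_normalizer hSQ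
  haveI : (Q.subgroupOf X).Normal := Subgroup.normal_subgroupOf_of_le_normalizer hXN
  have h1 : Q.relIndex X = Q.relIndex S := by
    have h := Subgroup.relIndex_sup_right (S.subgroupOf X) (Q.subgroupOf X)
    have h2 : S.subgroupOf X ⊔ Q.subgroupOf X = ⊤ := by
      rw [← Subgroup.subgroupOf_sup hSX hQX, sup_comm, hsup, Subgroup.subgroupOf_self]
    rw [h2, Subgroup.relIndex_top_right] at h
    rw [Subgroup.relIndex_subgroupOf hSX] at h
    exact h
  have hcS := card_mul_relIndex' (inf_le_right : Q ⊓ S ≤ S)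
  have hcQ := card_mul_relIndex' (inf_le_left : Q ⊓ S ≤ Q)
  have hcX := card_mul_relIndex' hQX
  have hcX' := card_mul_relIndex' hSX
  rw [Subgroup.inf_relIndex_right] at hcS
  have hcQ' : (Q ⊓ S).relIndex Q = S.relIndex Q := by
    rw [inf_comm, Subgroup.inf_relIndex_right]
  rw [hcQ'] at hcQ
  rw [h1] at hcX
  have hpos : 0 < Nat.card (Q ⊓ S : Subgroup G) * Q.relIndex S := by
    rw [hcS]; exact Nat.card_pos
  apply Nat.eq_of_mul_eq_mul_left hpos
  rw [hcS, hcX', ← hcX, ← hcQ, ← hcS]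
  ring

/-- 2-subgroups of a group with a Sylow subgroup `A` have order at most `#A`. -/
theorem card_le_of_syl {A A' B : Subgroup G} (hA : IsPGroup 2 A) (hAB : A ≤ B)
    (hi : ¬ 2 ∣ A.relIndex B) (hA' : IsPGroup 2 A') (hA'B : A' ≤ B) :
    Nat.card A' ≤ Nat.card A := by
  obtain ⟨k, hk⟩ := IsPGroup.iff_card.mp hA'
  have h1 : Nat.card A' ∣ Nat.card B := Subgroup.card_dvd_of_le hA'B
  rw [← card_mul_relIndex' hAB] at h1
  have hco : Nat.Coprime (Nat.card A') (A.relIndex B) := by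
    rw [hk]
    exact Nat.Coprime.pow_left _ ((Nat.Prime.coprime_iff_not_dvd Nat.prime_two).mpr hi)
  exact Nat.le_of_dvd Nat.card_pos (hco.dvd_of_dvd_mul_right h1)

/-- The key lemma for the pair `A`, `B`. -/
theorem key {A B T P : Subgroup G}
    (hB : ∀ x : G, x ∉ normalizer (B : Set G) → Odd (Nat.card ↥(B ⊓ B.map (MulAut.conj x).toMonoidHom)))
    (hAB : Odd (Nat.card ↥(A ⊓ B))) (hT2 : IsPGroup 2 T) (hP2 : IsPGroup 2 P) (hPA : P ≤ A)
    (hTB : T ≤ B) (hTP : T ≤ normalizer (P : Set G)) :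
    (∀ t ∈ T, ∀ p ∈ P ⊓ normalizer (B : Set G), t * p = p * t) ∧
    (∀ t ∈ T, t ≠ 1 → ∀ p ∈ P, t * p = p * t → p ∈ normalizer (B : Set G)) ∧
    (P ⊓ normalizer (B : Set G) ≠ P → ∃ θ : T →* ↥(P ⊓ normalizer (B : Set G)),
      Function.Injective θ) := by
  set R := P ⊓ normalizer (B : Set G) with hR
  have hcomm : ∀ t ∈ T, ∀ p ∈ R, t * p = p * t := by
    intro t ht p hp
    have hpP : p ∈ P := hp.1
    have hpN : p ∈ normalizer (B : Set G) := hp.2
    set c := p⁻¹ * (t⁻¹ * p * t) with hc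
    have hcP : c ∈ P := by
      refine mul_mem (inv_mem hpP) ?_
      have := (mem_normalizer_iff.mp (inv_mem (hTP ht)) p).mp hpP
      simpa using this
    have hcB : c ∈ B := by
      have h1 : p⁻¹ * t⁻¹ * p ∈ B := by
        have := (mem_normalizer_iff.mp (inv_mem hpN) t⁻¹).mp (inv_mem (hTB ht))
        simpa using this
      have h2 : c = (p⁻¹ * t⁻¹ * p) * t := by rw [hc]; group
      rw [h2]
      exact mul_mem h1 (hTB ht)
    have h1 : c = 1 := eq_one_of_two_of_odd hP2 hAB hcP (Subgroup.mem_inf.mpr ⟨hPA hcP, hcB⟩)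
    have h2 : t⁻¹ * p * t = p := by
      have : p⁻¹ * (t⁻¹ * p * t) = 1 := h1
      exact (inv_mul_eq_one.mp this).symm
    calc t * p = t * (t⁻¹ * p * t) := by rw [h2]
      _ = p * t := by group
  have hfix : ∀ t ∈ T, t ≠ 1 → ∀ p ∈ P, t * p = p * t → p ∈ normalizer (B : Set G) := by
    intro t ht ht1 p _ htp
    by_contra hpN
    apply ht1
    refine eq_one_of_two_of_odd hT2 (hB p hpN) ht (Subgroup.mem_inf.mpr ⟨hTB ht, ?_⟩)
    rw [mem_cj]
    have : p⁻¹ * t * p = t := by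
      rw [mul_assoc, htp]; group
    rw [this]
    exact hTB ht
  refine ⟨hcomm, hfix, ?_⟩
  intro hne
  have hRP : R ≤ P := inf_le_left
  have hTNR : T ≤ normalizer (R : Set G) := by
    intro t ht
    rw [mem_normalizer_iff]
    intro h
    constructor
    · intro hh
      have : t * h * t⁻¹ = h := by rw [hcomm t ht h hh]; group
      rw [this]; exact hh
    · intro hh
      have h' : t⁻¹ * (t * h * t⁻¹) * t = h := by group
      rw [← h']
      have hc := hcomm t⁻¹ (inv_mem ht) _ hh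
      rw [hc]
      simpa using hh
  -- elements of `P` in `R T` lie in `R`
  have hPR : ∀ x ∈ P, x ∈ R ⊔ T → x ∈ R := by
    intro x hx hxs
    obtain ⟨r, hr, t, ht, rfl⟩ := exists_mul_of_mem_sup hTNR hxs
    have htP : t ∈ P := by
      have : t = r⁻¹ * (r * t) := by group
      rw [this]
      exact mul_mem (inv_mem (hRP hr)) hx
    have h1 : t = 1 := eq_one_of_two_of_odd hT2 hAB ht (Subgroup.mem_inf.mpr ⟨hPA htP, hTB ht⟩)
    rw [h1, mul_one]
    exact hr
  have hW : IsPGroup 2 (T ⊔ P : Subgroup G) := IsPGroup.to_sup_of_normal_right' hT2 hP2 hTP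
  have hlt : R ⊔ T < T ⊔ P := by
    refine lt_of_le_of_ne (sup_le (hRP.trans le_sup_right) le_sup_left) ?_
    intro he
    apply hne
    refine le_antisymm hRP fun x hx => hPR x hx ?_
    rw [he]
    exact (le_sup_right : P ≤ T ⊔ P) hx
  obtain ⟨y, hyW, hyn, hyN⟩ := Cfsg.Agent.Lib.PGroup.Basic.exists_mem_normalizer_of_lt hW hlt
  rw [sup_comm] at hyW
  obtain ⟨p, hp, t₀, ht₀, rfl⟩ := exists_mul_of_mem_sup hTP hyW
  have ht₀s : t₀ ∈ R ⊔ T := (le_sup_right : T ≤ R ⊔ T) ht₀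
  have hpN : p ∈ normalizer ((R ⊔ T : Subgroup G) : Set G) := by
    have h1 : p = (p * t₀) * t₀⁻¹ := by group
    rw [h1]
    exact mul_mem hyN (inv_mem (Subgroup.le_normalizer ht₀s))
  have hpR : p ∉ R := fun h => hyn (mul_mem ((le_sup_left : R ≤ R ⊔ T) h) ht₀s)
  have hcR : ∀ t ∈ T, p * t * p⁻¹ * t⁻¹ ∈ R := by
    intro t ht
    have hts : t ∈ R ⊔ T := (le_sup_right : T ≤ R ⊔ T) ht
    apply hPR
    · have h1 : p * t * p⁻¹ * t⁻¹ = p * (t * p⁻¹ * t⁻¹) := by group
      rw [h1]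
      exact mul_mem hp ((mem_normalizer_iff.mp (hTP ht) p⁻¹).mp (inv_mem hp))
    · exact mul_mem ((mem_normalizer_iff.mp hpN t).mp hts) (inv_mem hts)
  refine ⟨MonoidHom.mk' (fun t : T => ⟨p * t * p⁻¹ * (t : G)⁻¹, hcR t t.2⟩) ?_, ?_⟩
  · intro s t
    apply Subtype.ext
    have hc := hcomm (s : G)⁻¹ (inv_mem s.2) _ (hcR t t.2)
    simp only [Subgroup.coe_mul]
    calc p * (↑s * ↑t) * p⁻¹ * (↑s * ↑t : G)⁻¹
        = p * s * p⁻¹ * (p * t * p⁻¹ * (t : G)⁻¹ * (s : G)⁻¹) := by group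
      _ = p * s * p⁻¹ * ((s : G)⁻¹ * (p * t * p⁻¹ * (t : G)⁻¹)) := by rw [hc]
      _ = p * ↑s * p⁻¹ * (↑s : G)⁻¹ * (p * ↑t * p⁻¹ * (↑t : G)⁻¹) := by group
  · rw [injective_iff_map_eq_one]
    intro t ht
    by_contra ht1
    have h1 : p * t * p⁻¹ * (t : G)⁻¹ = 1 := congrArg Subtype.val ht
    have h2 : (t : G) * p = p * t := by
      have h3 := mul_inv_eq_one.mp h1
      have h4 := mul_inv_eq_iff_eq_mul.mp h3
      exact h4.symm
    exact hpR ⟨hp, hfix t t.2 (fun h => ht1 (Subtype.ext h)) p hp h2⟩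

/-- Existence of an invariant Sylow subgroup. -/
theorem exists_inv_sylow {Y R : Subgroup G} (hR : IsPGroup 2 R)
    (hRN : R ≤ normalizer (Y : Set G)) :
    ∃ P : Subgroup G, IsPGroup 2 P ∧ P ≤ Y ∧ ¬ 2 ∣ P.relIndex Y ∧ R ≤ normalizer (P : Set G) := by
  set X := Y ⊔ R with hX
  have hRX : R ≤ X := le_sup_right
  have hXN : X ≤ normalizer (Y : Set G) := sup_le Subgroup.le_normalizer hRN
  have hR' : IsPGroup 2 (R.subgroupOf X) := hR.comap_subtype
  obtain ⟨W, hW⟩ := hR'.exists_le_sylow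
  set S := (W : Subgroup X).map X.subtype with hS
  have hSX : S ≤ X := Subgroup.map_subtype_le _
  have hRS : R ≤ S := by
    intro r hr
    exact ⟨⟨r, hRX hr⟩, hW (Subgroup.mem_subgroupOf.mpr hr), rfl⟩
  have hS2 : IsPGroup 2 S := W.isPGroup'.map X.subtype
  have hSi : ¬ 2 ∣ S.relIndex X := by
    have : S.relIndex X = (W : Subgroup X).index := by
      rw [Subgroup.relIndex, hS]
      show (Subgroup.comap X.subtype (Subgroup.map X.subtype (W : Subgroup X))).index = _
      rw [Subgroup.comap_map_eq_self_of_injective X.subtype_injective]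
    rw [this]
    exact W.not_dvd_index
  have hSN : S ≤ normalizer (Y : Set G) := hSX.trans hXN
  have hsup : Y ⊔ S = X := le_antisymm (sup_le le_sup_left hSX) (sup_le_sup_left hRS _)
  refine ⟨S ⊓ Y, hS2.to_le inf_le_left, inf_le_right, ?_, ?_⟩
  · rw [Subgroup.inf_relIndex_right, ← relIndex_eq_of_sup hSN hsup]
    exact hSi
  · intro r hr
    rw [mem_normalizer_iff]
    intro h
    have hrS := hRS hr
    have hrN := hRN hr
    constructor
    · intro hh
      have hh' := Subgroup.mem_inf.mp hh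
      exact Subgroup.mem_inf.mpr ⟨mul_mem (mul_mem hrS hh'.1) (inv_mem hrS),
        (mem_normalizer_iff.mp hrN h).mp hh'.2⟩
    · intro hh
      have hh' := Subgroup.mem_inf.mp hh
      refine Subgroup.mem_inf.mpr ⟨?_, (mem_normalizer_iff.mp hrN h).mpr hh'.2⟩
      have h' : h = r⁻¹ * (r * h * r⁻¹) * r := by group
      rw [h']
      exact mul_mem (mul_mem (inv_mem hrS) hh'.1) hrS

/-- Two 2-subgroups of maximal order are isomorphic. -/
theorem equiv_of_max {A₁ A₂ B : Subgroup G} (h1 : IsPGroup 2 A₁) (h2 : IsPGroup 2 A₂)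
    (h1B : A₁ ≤ B) (h2B : A₂ ≤ B) (hc : Nat.card A₂ = Nat.card A₁)
    (hmax : ∀ A' : Subgroup G, A' ≤ B → IsPGroup 2 A' → Nat.card A' ≤ Nat.card A₁) :
    Nonempty (↥A₁ ≃* ↥A₂) := by
  have key : ∀ {A : Subgroup G}, IsPGroup 2 A → A ≤ B → Nat.card A = Nat.card A₁ →
      ∃ W : Sylow 2 B, Nonempty (↥A ≃* ↥(W : Subgroup B)) := by
    intro A hA hAB hc
    have hA' : IsPGroup 2 (A.subgroupOf B) := hA.comap_subtype
    obtain ⟨W, hW⟩ := hA'.exists_le_sylow
    refine ⟨W, ?_⟩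
    have hcW : Nat.card (W : Subgroup B) ≤ Nat.card (A.subgroupOf B) := by
      have h3 := hmax ((W : Subgroup B).map B.subtype) (Subgroup.map_subtype_le _)
        (W.isPGroup'.map B.subtype)
      rw [Subgroup.card_map_of_injective B.subtype_injective] at h3
      rw [← hc] at h3
      have h4 : Nat.card (A.subgroupOf B) = Nat.card A :=
        Nat.card_congr (Subgroup.subgroupOfEquivOfLe hAB).toEquiv
      rwa [h4]
    have he : A.subgroupOf B = W := Subgroup.eq_of_le_of_card_ge hW hcW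
    rw [← he]
    exact ⟨(Subgroup.subgroupOfEquivOfLe hAB).symm⟩
  obtain ⟨W₁, ⟨e₁⟩⟩ := key h1 h1B rfl
  obtain ⟨W₂, ⟨e₂⟩⟩ := key h2 h2B hc
  exact ⟨e₁.trans ((Sylow.equiv W₁ W₂).trans e₂.symm)⟩

end aux

/-- Let Q be a tightly embedded subgroup of a finite group G, g an element outside N_G(Q), T a nontrivial Sylow 2-subgroup of Q^g ∩ N_G(Q), and S a Sylow 2-subgroup of QT containing T. Then T ∩ Q = 1, and N_S(T) is the direct product of T and N_S(T) ∩ Q, with N_S(T) ∩ Q isomorphic to T. -/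
theorem result {G : Type*} [Group G] [Finite G] (Q : Subgroup G) (hQ : Cfsg.IsTightlyEmbedded Q)
    (g : G) (hg : g ∉ Subgroup.normalizer (Q : Set G))
    (T : Subgroup G) (hT1 : T ≠ ⊥) (hT : T ≤ Q.map (MulAut.conj g).toMonoidHom ⊓ Subgroup.normalizer (Q : Set G))
    (hTsyl : IsPGroup 2 T ∧ ¬ 2 ∣ T.relIndex (Q.map (MulAut.conj g).toMonoidHom ⊓ Subgroup.normalizer (Q : Set G)))
    (S : Subgroup G) (hTS : T ≤ S) (hS : S ≤ Q ⊔ T) (hSsyl : IsPGroup 2 S ∧ ¬ 2 ∣ S.relIndex (Q ⊔ T)) :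
    T ⊓ Q = ⊥ ∧
      T ⊓ (S ⊓ Subgroup.normalizer (T : Set G) ⊓ Q) = ⊥ ∧
      ⁅T, S ⊓ Subgroup.normalizer (T : Set G) ⊓ Q⁆ = ⊥ ∧
      T ⊔ (S ⊓ Subgroup.normalizer (T : Set G) ⊓ Q) = S ⊓ Subgroup.normalizer (T : Set G) ∧
      Nonempty (↥(S ⊓ Subgroup.normalizer (T : Set G) ⊓ Q) ≃* T) := by
  classical
  set Y := Q.map (MulAut.conj g).toMonoidHom with hY
  have hTY : T ≤ Y := fun x hx => (hT hx).1
  have hTN : T ≤ normalizer (Q : Set G) := fun x hx => (hT hx).2
  have hQY : Odd (Nat.card ↥(Q ⊓ Y)) := hQ.2 g hg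
  have hT2 := hTsyl.1
  -- `T ∩ Q = 1`
  have hTQ : T ⊓ Q = ⊥ := by
    rw [eq_bot_iff]
    intro x hx
    exact (Subgroup.mem_bot).mpr (eq_one_of_two_of_odd hT2 hQY (Subgroup.mem_inf.mp hx).1
      (Subgroup.mem_inf.mpr ⟨(Subgroup.mem_inf.mp hx).2, hTY (Subgroup.mem_inf.mp hx).1⟩))
  -- tightness of `Y`
  have htY : ∀ x : G, x ∉ normalizer (Y : Set G) →
      Odd (Nat.card ↥(Y ⊓ Y.map (MulAut.conj x).toMonoidHom)) := by
    intro x hx
    have h1 : g⁻¹ * x * g ∉ normalizer (Q : Set G) := by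
      intro hn
      apply hx
      rw [mem_normalizer_iff]
      intro h
      rw [hY, mem_cj, mem_cj]
      have := (mem_normalizer_iff.mp hn (g⁻¹ * h * g))
      have e : g⁻¹ * x * g * (g⁻¹ * h * g) * (g⁻¹ * x * g)⁻¹ = g⁻¹ * (x * h * x⁻¹) * g := by group
      rw [e] at this
      exact this
    have h2 := hQ.2 _ h1
    have h3 : Y ⊓ Y.map (MulAut.conj x).toMonoidHom =
        (Q ⊓ Q.map (MulAut.conj (g⁻¹ * x * g)).toMonoidHom).map (MulAut.conj g).toMonoidHom := by
      ext h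
      simp only [Subgroup.mem_inf, hY, mem_cj]
      have e : (g⁻¹ * x⁻¹ * g) * (g⁻¹ * h * g) * (g⁻¹ * x * g) = g⁻¹ * (x⁻¹ * (g * g⁻¹) * h * x) * g := by
        group
      simp only [mul_inv_rev, inv_inv, mul_assoc]
      constructor
      · rintro ⟨a, b⟩
        refine ⟨a, ?_⟩
        convert b using 1
        group
      · rintro ⟨a, b⟩
        refine ⟨a, ?_⟩
        convert b using 1
        group
    rw [h3, card_cj]
    exact h2
  have hYQ : Odd (Nat.card ↥(Y ⊓ Q)) := by rw [inf_comm]; exact hQY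
  -- the Sylow subgroup `P`
  set P := S ⊓ Q with hP
  have hP2 : IsPGroup 2 P := hSsyl.1.to_le inf_le_left
  have hPQ : P ≤ Q := inf_le_right
  have hTNP : T ≤ normalizer (P : Set G) := by
    intro t ht
    rw [mem_normalizer_iff]
    intro h
    have hts := hTS ht
    have htN := hTN ht
    constructor
    · intro hh
      have hh' := Subgroup.mem_inf.mp hh
      exact Subgroup.mem_inf.mpr ⟨mul_mem (mul_mem hts hh'.1) (inv_mem hts),
        (mem_normalizer_iff.mp htN h).mp hh'.2⟩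
    · intro hh
      have hh' := Subgroup.mem_inf.mp hh
      refine Subgroup.mem_inf.mpr ⟨?_, (mem_normalizer_iff.mp htN h).mpr hh'.2⟩
      have h' : h = t⁻¹ * (t * h * t⁻¹) * t := by group
      rw [h']
      exact mul_mem (mul_mem (inv_mem hts) hh'.1) hts
  have hSN : S ≤ normalizer (Q : Set G) :=
    hS.trans (sup_le Subgroup.le_normalizer hTN)
  have hsup : Q ⊔ S = Q ⊔ T := le_antisymm (sup_le le_sup_left hS) (sup_le_sup_left hTS _)
  have hPi : ¬ 2 ∣ P.relIndex Q := by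
    rw [hP, Subgroup.inf_relIndex_right, ← relIndex_eq_of_sup hSN hsup]
    exact hSsyl.2
  -- the group `R`
  set R := S ⊓ normalizer (T : Set G) ⊓ Q with hR
  have hkey := key htY (by rw [inf_comm]; exact hYQ : Odd (Nat.card ↥(Q ⊓ Y))) hT2 hP2 hPQ hTY hTNP
  obtain ⟨hk1, hk2, hk3⟩ := hkey
  have hRc : ∀ t ∈ T, ∀ x ∈ R, t * x = x * t := by
    intro t ht x hx
    have hx' := Subgroup.mem_inf.mp hx
    have hxQ : x ∈ Q := hx'.2
    have hxN : x ∈ normalizer (T : Set G) := (Subgroup.mem_inf.mp hx'.1).2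
    set c := x * t * x⁻¹ * t⁻¹ with hc
    have hcT : c ∈ T := mul_mem ((mem_normalizer_iff.mp hxN t).mp ht) (inv_mem ht)
    have hcQ : c ∈ Q := by
      have e : c = x * (t * x⁻¹ * t⁻¹) := by rw [hc]; group
      rw [e]
      exact mul_mem hxQ ((mem_normalizer_iff.mp (hTN ht) x⁻¹).mp (inv_mem hxQ))
    have h1 : c = 1 := by
      have : c ∈ T ⊓ Q := Subgroup.mem_inf.mpr ⟨hcT, hcQ⟩
      rw [hTQ] at this
      exact (Subgroup.mem_bot).mp this
    have h2 := mul_inv_eq_one.mp h1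
    have h3 := mul_inv_eq_iff_eq_mul.mp h2
    exact h3.symm
  -- `R = P ∩ N(Y)`
  have hRe : R = P ⊓ normalizer (Y : Set G) := by
    ext x
    constructor
    · intro hx
      have hx' := Subgroup.mem_inf.mp hx
      have hxS := (Subgroup.mem_inf.mp hx'.1).1
      have hxP : x ∈ P := Subgroup.mem_inf.mpr ⟨hxS, hx'.2⟩
      obtain ⟨t, ht, ht1⟩ := T.bot_or_exists_ne_one.resolve_left hT1
      exact Subgroup.mem_inf.mpr ⟨hxP, hk2 t ht ht1 x hxP (hRc t ht x hx)⟩
    · intro hx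
      have hx' := Subgroup.mem_inf.mp hx
      have hxP := Subgroup.mem_inf.mp hx'.1
      refine Subgroup.mem_inf.mpr ⟨Subgroup.mem_inf.mpr ⟨hxP.1, ?_⟩, hxP.2⟩
      rw [mem_normalizer_iff]
      intro t
      constructor
      · intro ht
        have : x * t * x⁻¹ = t := by
          rw [← hk1 t ht x hx]; group
        rw [this]; exact ht
      · intro ht
        have h1 := hk1 (x * t * x⁻¹) ht x hx
        have e : t = x * t * x⁻¹ := by
          calc t = x⁻¹ * ((x * t * x⁻¹) * x) := by group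
            _ = x⁻¹ * (x * (x * t * x⁻¹)) := by rw [h1]
            _ = x * t * x⁻¹ := by group
        rw [e]
        exact ht
  rw [← hRe] at hk1 hk3
  have hRP : R ≤ P := by rw [hRe]; exact inf_le_left
  have hRQ : R ≤ Q := hRP.trans hPQ
  have hR2 : IsPGroup 2 R := hP2.to_le hRP
  have hRNY : R ≤ normalizer (Y : Set G) := by rw [hRe]; exact inf_le_right
  -- an `R`-invariant Sylow subgroup of `Y`
  obtain ⟨Pt, hPt2, hPtY, hPti, hRPt⟩ := exists_inv_sylow hR2 hRNY
  have hkey' := key hQ.2 hYQ hR2 hPt2 hPtY hRQ hRPt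
  have hcardP : Nat.card P = Nat.card Pt := by
    apply le_antisymm
    · have h1 := card_le_of_syl hPt2 hPtY hPti (hP2.map (MulAut.conj g).toMonoidHom)
        (Subgroup.map_mono hPQ)
      rwa [card_cj] at h1
    · have h1 : Pt.map (MulAut.conj g⁻¹).toMonoidHom ≤ Q := by
        intro x hx
        rw [mem_cj] at hx
        have h2 := hPtY hx
        rw [hY, mem_cj] at h2
        simpa [mul_assoc] using h2
      have h2 := card_le_of_syl hP2 hPQ hPi (hPt2.map (MulAut.conj g⁻¹).toMonoidHom) h1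
      rwa [card_cj] at h2
  have hsyl := hTsyl.2
  have hbound : Nat.card Pt ≤ Nat.card T ∨ Nat.card R ≤ Nat.card T := by
    by_cases he : Pt ⊓ normalizer (Q : Set G) = Pt
    · left
      refine card_le_of_syl hT2 (le_inf hTY hTN) hsyl hPt2 ?_
      exact le_inf hPtY (he ▸ inf_le_right)
    · right
      obtain ⟨θ, hθ⟩ := hkey'.2.2 he
      have h1 := Nat.card_le_card_of_injective θ hθ
      exact h1.trans (card_le_of_syl hT2 (le_inf hTY hTN) hsyl (hPt2.to_le inf_le_left)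
        (inf_le_inf_right _ hPtY))
  have hRT : Nat.card R ≤ Nat.card T := by
    rcases hbound with h | h
    · exact (Subgroup.card_le_of_le hRP).trans (hcardP ▸ h)
    · exact h
  refine ⟨hTQ, ?_, ?_, ?_, ?_⟩
  · rw [eq_bot_iff]
    intro x hx
    have hx' := Subgroup.mem_inf.mp hx
    have : x ∈ T ⊓ Q := Subgroup.mem_inf.mpr ⟨hx'.1, hRQ hx'.2⟩
    rwa [hTQ] at this
  · rw [eq_bot_iff, Subgroup.commutator_le]
    intro t ht x hx
    rw [Subgroup.mem_bot, commutatorElement_def, mul_inv_eq_one, mul_inv_eq_iff_eq_mul]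
    exact hRc t ht x hx
  · apply le_antisymm
    · refine sup_le (le_inf hTS Subgroup.le_normalizer) ?_
      exact fun x hx => (Subgroup.mem_inf.mp hx).1
    · intro x hx
      have hx' := Subgroup.mem_inf.mp hx
      obtain ⟨q, hq, t, ht, rfl⟩ := exists_mul_of_mem_sup hTN (hS hx'.1)
      have hqS : q ∈ S := by
        have e : q = (q * t) * t⁻¹ := by group
        rw [e]
        exact mul_mem hx'.1 (inv_mem (hTS ht))
      have hqN : q ∈ normalizer (T : Set G) := by
        have e : q = (q * t) * t⁻¹ := by group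
        rw [e]
        exact mul_mem hx'.2 (inv_mem (Subgroup.le_normalizer ht))
      have hqR : q ∈ R := Subgroup.mem_inf.mpr ⟨Subgroup.mem_inf.mpr ⟨hqS, hqN⟩, hq⟩
      rw [sup_comm]
      exact mul_mem ((le_sup_left : R ≤ R ⊔ T) hqR) ((le_sup_right : T ≤ R ⊔ T) ht)
  · by_cases hRPe : R = P
    · -- `T` is Sylow in `Y`
      have hPne : Nat.card T ≤ Nat.card P := by
        rw [hcardP]
        exact card_le_of_syl hPt2 hPtY hPti hT2 hTY
      have hTe : Nat.card T = Nat.card P := le_antisymm hPne (hRPe ▸ hRT)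
      have hPg2 : IsPGroup 2 (P.map (MulAut.conj g).toMonoidHom) :=
        hP2.map (MulAut.conj g).toMonoidHom
      have hmax : ∀ A' : Subgroup G, A' ≤ Y → IsPGroup 2 A' → Nat.card A' ≤ Nat.card T := by
        intro A' h1 h2
        rw [hTe, hcardP]
        exact card_le_of_syl hPt2 hPtY hPti h2 h1
      obtain ⟨e⟩ := equiv_of_max hT2 hPg2 hTY (Subgroup.map_mono hPQ)
        (by rw [card_cj, hTe]) hmax
      have e2 : ↥P ≃* ↥(P.map (MulAut.conj g).toMonoidHom) := (MulAut.conj g).subgroupMap P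
      exact ⟨(MulEquiv.subgroupCongr hRPe).trans (e2.trans e.symm)⟩
    · obtain ⟨θ, hθ⟩ := hk3 hRPe
      have hb : Function.Bijective θ := by
        rw [Nat.bijective_iff_injective_and_card]
        exact ⟨hθ, le_antisymm (Nat.card_le_card_of_injective θ hθ) hRT⟩
      exact ⟨(MulEquiv.ofBijective θ hb).symm⟩

end Cfsg.Agent.S1910
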