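import Cfsg.Statements.S1915
import Cfsg.Agent.Lib.S1915Aux.PartC
import Cfsg.Agent.Lib.Components.Layer

set_option autoImplicit false
open Cfsg

namespace Cfsg.Agent.S1915

/-- Let A be a semisimple subgroup (A = E(A)) of a finite group and U a Klein four-group normalizing A. If the subgroup of A generated by the normalizers N_A(V) of the nontrivial subgroups V of U has 2-rank exactly 1, then A has 2-rank exactly 1. -/
theorem result {G : Type*} [Group G] [Finite G] (A : Subgroup G) (hA : Cfsg.layer ↥A = ⊤)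
    (U : Subgroup G) (hU : IsKleinFour U) (hUA : U ≤ Subgroup.normalizer (A : Set G))
    (hΓ : Cfsg.PRankLE 2 1 ↥(⨆ V : {V : Subgroup G // V ≤ U ∧ V ≠ ⊥}, A ⊓ Subgroup.normalizer ((V : Subgroup G) : Set G)) ∧
      ¬ Cfsg.PRankLE 2 0 ↥(⨆ V : {V : Subgroup G // V ≤ U ∧ V ≠ ⊥}, A ⊓ Subgroup.normalizer ((V : Subgroup G) : Set G))) :
    Cfsg.PRankLE 2 1 A ∧ ¬ Cfsg.PRankLE 2 0 A := by
  classical
  obtain ⟨hΓ1, hΓ0⟩ := hΓ
  have hΓA : (⨆ V : {V : Subgroup G // V ≤ U ∧ V ≠ ⊥}, A ⊓ Subgroup.normalizer ((V : Subgroup G) : Set G)) ≤ A :=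
    iSup_le (fun V => inf_le_left)
  refine ⟨?_, fun h => hΓ0 ?_⟩
  · intro E hEc hE2
    by_contra hlt
    rw [pow_one, not_le] at hlt
    -- the perfect group
    have hcomm : ⁅(⊤ : Subgroup A), (⊤ : Subgroup A)⁆ = ⊤ := by
      have := Cfsg.Agent.Lib.Components.Layer.commutator_layer (G := A)
      rwa [hA] at this
    have hperfA : ∀ M : Subgroup A, M.Normal → M.index = 2 → False := by
      intro M hMn hMi
      have hle : ⁅(⊤ : Subgroup A), (⊤ : Subgroup A)⁆ ≤ M := by
        rw [Subgroup.commutator_le]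
        intro a _ b _
        rw [commutatorElement_def]
        by_cases hb : b ∈ M
        · exact mul_mem (hMn.conj_mem b hb a) (inv_mem hb)
        · rw [Subgroup.mul_mem_iff_of_index_two hMi]
          have h1 : a * b * a⁻¹ ∉ M := by
            intro h
            apply hb
            have h2 := hMn.conj_mem _ h a⁻¹
            have e : a⁻¹ * (a * b * a⁻¹) * a⁻¹⁻¹ = b := by group
            rwa [e] at h2
          have h3 : b⁻¹ ∉ M := fun h => hb (by simpa using inv_mem h)
          exact iff_of_false h1 h3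
      rw [hcomm, top_le_iff] at hle
      rw [hle, Subgroup.index_top] at hMi
      omega
    have hAN : A ≤ Subgroup.normalizer (A : Set G) := Subgroup.le_normalizer
    haveI hA'n : (A.subgroupOf (Subgroup.normalizer (A : Set G))).Normal :=
      Subgroup.normal_in_normalizer
    have hperf' : ∀ M : Subgroup (A.subgroupOf (Subgroup.normalizer (A : Set G))),
        M.Normal → M.index = 2 → False := by
      intro M hMn hMi
      let iso := Subgroup.subgroupOfEquivOfLe hAN
      refine hperfA (M.comap iso.symm.toMonoidHom) (hMn.comap _) ?_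
      rw [Subgroup.index_comap_of_surjective _ iso.symm.surjective]
      exact hMi
    have hUc : Nat.card U = 4 := hU.card_four
    have hU2 : ∀ v ∈ U, v ^ 2 = 1 := by
      intro v hv
      have h1 := Monoid.pow_exponent_eq_one (⟨v, hv⟩ : U)
      rw [IsKleinFour.exponent_two] at h1
      exact congrArg Subtype.val h1
    have hH : ∀ v ∈ U, v ≠ 1 → ∀ p ∈ A, ∀ q ∈ A, p ^ 2 = 1 → q ^ 2 = 1 → p ≠ 1 → q ≠ 1 → p ≠ q →
        p * q = q * p → v * p = p * v → v * q = q * v → False := by
      intro v hv hv1 p hpA q hqA hp2 hq2 hp1 hq1 hpq hpqc hvp hvq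
      have hnorm : ∀ w : G, w ∈ A → v * w = w * v →
          w ∈ (⨆ V : {V : Subgroup G // V ≤ U ∧ V ≠ ⊥},
            A ⊓ Subgroup.normalizer ((V : Subgroup G) : Set G)) := by
        intro w hwA hwv
        have hmem : w ∈ A ⊓ Subgroup.normalizer ((Subgroup.zpowers v : Subgroup G) : Set G) := by
          refine Subgroup.mem_inf.mpr ⟨hwA, ?_⟩
          rw [Subgroup.mem_normalizer_iff]
          intro h
          have hc : Commute w v := hwv.symm
          have e : h ∈ Subgroup.zpowers v → w * h * w⁻¹ = h := by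
            rintro ⟨k, rfl⟩
            have := (hc.zpow_right k).eq
            show w * v ^ k * w⁻¹ = v ^ k
            rw [this]; group
          constructor
          · intro hh
            rw [e hh]; exact hh
          · intro hh
            obtain ⟨k, hk⟩ := hh
            have h3 : w * h * w⁻¹ = v ^ k := hk.symm
            have h4 : h = w⁻¹ * v ^ k * w := by rw [← h3]; group
            have h5 : w⁻¹ * v ^ k * w = v ^ k := by
              have := (hc.zpow_right k).eq
              rw [mul_assoc, ← this]; group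
            rw [h4, h5]
            exact ⟨k, rfl⟩
        exact (le_iSup (fun V : {V : Subgroup G // V ≤ U ∧ V ≠ ⊥} =>
          A ⊓ Subgroup.normalizer ((V : Subgroup G) : Set G))
          ⟨Subgroup.zpowers v, Subgroup.zpowers_le.mpr hv, by
            rw [Ne, Subgroup.zpowers_eq_bot]; exact hv1⟩) hmem
      refine Cfsg.Agent.Lib.S1915Aux.false_of_rank hΓ1
        (p := ⟨p, hnorm p hpA hvp⟩) (q := ⟨q, hnorm q hqA hvq⟩)
        (Subtype.ext hp2) (Subtype.ext hq2) (fun h => hp1 (congrArg Subtype.val h))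
        (fun h => hq1 (congrArg Subtype.val h)) (fun h => hpq (congrArg Subtype.val h))
        (Subtype.ext hpqc)
    -- two elements of `E`
    have hE1 : E ≠ ⊥ := by
      rintro rfl
      simp at hlt
    obtain ⟨⟨e₁, he₁E⟩, he₁1⟩ := Subgroup.ne_bot_iff_exists_ne_one.mp hE1
    have he₁1' : e₁ ≠ 1 := fun h => he₁1 (Subtype.ext h)
    have hz : Nat.card (Subgroup.zpowers e₁) = 2 := by
      rw [Nat.card_zpowers]; exact orderOf_eq_prime (hE2 e₁ he₁E) he₁1'
    obtain ⟨e₂, he₂E, he₂n⟩ : ∃ x ∈ E, x ∉ Subgroup.zpowers e₁ := by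
      by_contra h
      push Not at h
      have := Subgroup.card_le_of_le (show E ≤ Subgroup.zpowers e₁ from h)
      omega
    have he₂1' : e₂ ≠ 1 := fun h => he₂n (h ▸ one_mem _)
    have he₁₂' : e₁ ≠ e₂ := fun h => he₂n (h ▸ Subgroup.mem_zpowers e₁)
    have hcE : e₁ * e₂ = e₂ * e₁ :=
      congrArg Subtype.val (hEc.is_comm.comm ⟨e₁, he₁E⟩ ⟨e₂, he₂E⟩)
    -- now apply the main lemma in the normalizer
    refine Cfsg.Agent.Lib.S1915Aux.main_lemma (A.subgroupOf (Subgroup.normalizer (A : Set G)))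
      (U.subgroupOf (Subgroup.normalizer (A : Set G))) hperf' ?_ ?_ ?_
      ⟨(e₁ : G), hAN e₁.2⟩ ⟨(e₂ : G), hAN e₂.2⟩ e₁.2 e₂.2
      (Subtype.ext (show (e₁ : G) ^ 2 = 1 from congrArg Subtype.val (hE2 e₁ he₁E)))
      (Subtype.ext (show (e₂ : G) ^ 2 = 1 from congrArg Subtype.val (hE2 e₂ he₂E)))
      (fun h => he₁1' (Subtype.ext (show (e₁ : G) = 1 from congrArg Subtype.val h)))
      (fun h => he₂1' (Subtype.ext (show (e₂ : G) = 1 from congrArg Subtype.val h)))
      (fun h => he₁₂' (Subtype.ext (Subtype.mk.inj h)))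
      (Subtype.ext (show (e₁ : G) * e₂ = e₂ * e₁ from congrArg Subtype.val hcE))
    · rw [Nat.card_congr (Subgroup.subgroupOfEquivOfLe hUA).toEquiv]; exact hUc
    · rintro ⟨v, hvN⟩ hv
      exact Subtype.ext (hU2 v hv)
    · rintro ⟨v, hvN⟩ hv hv1 ⟨p, hpN⟩ hp ⟨q, hqN⟩ hq hp2 hq2 hp1 hq1 hpq hpqc hvp hvq
      exact hH v hv (fun h => hv1 (Subtype.ext h)) p hp q hq (congrArg Subtype.val hp2)
        (congrArg Subtype.val hq2) (fun h => hp1 (Subtype.ext h)) (fun h => hq1 (Subtype.ext h))
        (fun h => hpq (Subtype.ext h)) (congrArg Subtype.val hpqc) (congrArg Subtype.val hvp)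
        (congrArg Subtype.val hvq)
  · -- monotonicity of the rank
    intro E hEc hE2
    have h1 := h (E.map (Subgroup.inclusion hΓA))
      ⟨⟨by
        rintro ⟨_, x, hx, rfl⟩ ⟨_, y, hy, rfl⟩
        apply Subtype.ext
        show Subgroup.inclusion hΓA x * Subgroup.inclusion hΓA y =
          Subgroup.inclusion hΓA y * Subgroup.inclusion hΓA x
        rw [← map_mul, ← map_mul]
        congr 1
        exact congrArg Subtype.val (hEc.is_comm.comm ⟨x, hx⟩ ⟨y, hy⟩)⟩⟩
      (by
        rintro _ ⟨x, hx, rfl⟩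
        rw [← map_pow, hE2 x hx, map_one])
    rwa [Subgroup.card_map_of_injective (Subgroup.inclusion_injective hΓA)] at h1

end Cfsg.Agent.S1915
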