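import Cfsg.Statements.S1921
import Mathlib
import Cfsg.Agent.Lib.Components.Layer
-- import your own Cfsg.Agent.* helpers here

set_option autoImplicit false
open Cfsg

namespace Cfsg.Agent.S1921

/-- Let a be an involution of a finite group H and L a component of H with a L a⁻¹ ≠ L; put M = ⟨L, aLa⁻¹⟩ and let J be the subgroup generated by the elements x · a x a⁻¹ with x ∈ L (the diagonal). Then every element of M outside J·Z(M) generates M together with J. -/
theorem result {H : Type*} [Group H] [Finite H] (a : H) (ha : orderOf a = 2) (L : Subgroup H) (hL : Cfsg.IsComponent L)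
    (hLa : L.map (MulAut.conj a).toMonoidHom ≠ L) (x : H) (hxM : x ∈ L ⊔ L.map (MulAut.conj a).toMonoidHom)
    (hxJ : x ∉ Subgroup.closure {y : H | ∃ l ∈ L, y = l * (a * l * a⁻¹)} ⊔
      ((L ⊔ L.map (MulAut.conj a).toMonoidHom) ⊓ Subgroup.centralizer ((L ⊔ L.map (MulAut.conj a).toMonoidHom : Subgroup H) : Set H))) :
    Subgroup.closure {y : H | ∃ l ∈ L, y = l * (a * l * a⁻¹)} ⊔ Subgroup.zpowers x = L ⊔ L.map (MulAut.conj a).toMonoidHom := by
  classical
  have hLq := hL.2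
  set La := L.map (MulAut.conj a).toMonoidHom with hLa_def
  have hacL : ∀ l ∈ L, a * l * a⁻¹ ∈ La := fun l hl => ⟨l, hl, rfl⟩
  have hcomm : ∀ l ∈ L, ∀ k ∈ La, l * k = k * l :=
    Cfsg.Agent.Lib.Components.Layer.commutator_eq_bot_iff_forall.1
      ((Cfsg.Agent.Lib.Components.Layer.eq_or_commutator_eq_bot hL
        (Cfsg.Agent.Lib.Components.Layer.isComponent_conj a hL)).resolve_left (Ne.symm hLa))
  -- elements of `L ⊔ La` have the form `u * a v a⁻¹`
  have hform : ∀ m ∈ L ⊔ La, ∃ u ∈ L, ∃ v ∈ L, m = u * (a * v * a⁻¹) := by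
    intro m hm
    let P : Subgroup H :=
      { carrier := {m | ∃ u ∈ L, ∃ v ∈ L, m = u * (a * v * a⁻¹)}
        one_mem' := ⟨1, one_mem _, 1, one_mem _, by simp⟩
        mul_mem' := by
          rintro _ _ ⟨u, hu, v, hv, rfl⟩ ⟨u', hu', v', hv', rfl⟩
          refine ⟨u * u', mul_mem hu hu', v * v', mul_mem hv hv', ?_⟩
          have := hcomm u' hu' _ (hacL v hv)
          calc u * (a * v * a⁻¹) * (u' * (a * v' * a⁻¹))
              = u * ((a * v * a⁻¹) * u') * (a * v' * a⁻¹) := by group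
            _ = u * (u' * (a * v * a⁻¹)) * (a * v' * a⁻¹) := by rw [this]
            _ = u * u' * (a * (v * v') * a⁻¹) := by group
        inv_mem' := by
          rintro _ ⟨u, hu, v, hv, rfl⟩
          refine ⟨u⁻¹, inv_mem hu, v⁻¹, inv_mem hv, ?_⟩
          have := hcomm u⁻¹ (inv_mem hu) _ (hacL v hv)
          calc (u * (a * v * a⁻¹))⁻¹ = (a * v * a⁻¹)⁻¹ * u⁻¹ := by group
            _ = a * v⁻¹ * a⁻¹ * u⁻¹ := by group
            _ = u⁻¹ * (a * v⁻¹ * a⁻¹) := by
              have h2 := hcomm u⁻¹ (inv_mem hu) _ (hacL v⁻¹ (inv_mem hv))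
              exact h2.symm }
    have h1 : L ≤ P := fun l hl => ⟨l, hl, 1, one_mem _, by simp⟩
    have h2 : La ≤ P := by
      rintro _ ⟨l, hl, rfl⟩
      exact ⟨1, one_mem _, l, hl, by simp⟩
    exact (sup_le h1 h2) hm
  set J := Subgroup.closure {y : H | ∃ l ∈ L, y = l * (a * l * a⁻¹)} with hJ
  have hJmem : ∀ l ∈ L, l * (a * l * a⁻¹) ∈ J := fun l hl =>
    Subgroup.subset_closure ⟨l, hl, rfl⟩
  set R := J ⊔ Subgroup.zpowers x with hR
  have hJR : J ≤ R := le_sup_left
  have hxR : x ∈ R := (le_sup_right : Subgroup.zpowers x ≤ R) (Subgroup.mem_zpowers x)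
  have hJM : J ≤ L ⊔ La := by
    rw [hJ, Subgroup.closure_le]
    rintro _ ⟨l, hl, rfl⟩
    exact mul_mem (Subgroup.mem_sup_left hl) (Subgroup.mem_sup_right (hacL l hl))
  have hRM : R ≤ L ⊔ La := sup_le hJM (by
    rw [Subgroup.zpowers_le]
    exact hxM)
  refine le_antisymm hRM ?_
  obtain ⟨u, hu, v, hv, hx⟩ := hform x hxM
  set w := u * v⁻¹ with hw
  have hwL : w ∈ L := mul_mem hu (inv_mem hv)
  have hcomm' : ∀ l ∈ L, ∀ k ∈ L, l * (a * k * a⁻¹) = (a * k * a⁻¹) * l := fun l hl k hk =>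
    hcomm l hl _ (hacL k hk)
  have hxw : x = w * (v * (a * v * a⁻¹)) := by
    rw [hx, hw]; group
  have hwR : w ∈ R := by
    have := mul_mem hxR (inv_mem (hJR (hJmem v hv)))
    rwa [hxw, mul_inv_cancel_right] at this
  -- `w` is not central in `L`
  have hwnc : ¬ (∀ l ∈ L, l * w = w * l) := by
    intro hc
    apply hxJ
    rw [hxw]
    refine mul_mem (Subgroup.mem_sup_right (Subgroup.mem_inf.2 ⟨Subgroup.mem_sup_left hwL, ?_⟩))
      (Subgroup.mem_sup_left (hJmem v hv))
    rw [Subgroup.mem_centralizer_iff]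
    intro y hy
    obtain ⟨u', hu', v', hv', rfl⟩ := hform y hy
    rw [mul_assoc, ← hcomm w hwL _ (hacL v' hv'), ← mul_assoc, hc u' hu', mul_assoc]
  -- `R ⊓ L` is normal in `L`
  have hnorm : (R.subgroupOf L).Normal := by
    refine ⟨fun n hn g => ?_⟩
    rw [Subgroup.mem_subgroupOf] at hn ⊢
    have hg := g.2
    have hnL := n.2
    have e : ((g * n * g⁻¹ : L) : H) =
        ((g : H) * (a * g * a⁻¹)) * n * ((g : H) * (a * g * a⁻¹))⁻¹ := by
      have := hcomm' n hnL g hg
      push_cast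
      calc (g : H) * n * (g : H)⁻¹ = (g : H) * (n * ((a * g * a⁻¹) * (a * g * a⁻¹)⁻¹)) * (g : H)⁻¹ := by group
        _ = (g : H) * ((n * (a * g * a⁻¹)) * (a * g * a⁻¹)⁻¹) * (g : H)⁻¹ := by group
        _ = (g : H) * (((a * g * a⁻¹) * n) * (a * g * a⁻¹)⁻¹) * (g : H)⁻¹ := by rw [this]
        _ = _ := by group
    rw [e]
    exact mul_mem (mul_mem (hJR (hJmem g hg)) hn) (inv_mem (hJR (hJmem g hg)))
  have hLR : L ≤ R := by
    rcases Cfsg.Agent.Lib.Components.Quasisimple.eq_top_or_le_center_of_normal hLq hnorm with h | h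
    · intro l hl
      have : (⟨l, hl⟩ : L) ∈ R.subgroupOf L := by rw [h]; trivial
      exact this
    · exfalso
      apply hwnc
      intro l hl
      have hc : (⟨w, hwL⟩ : L) ∈ Subgroup.center L := h (by
        rw [Subgroup.mem_subgroupOf]; exact hwR)
      have := (Subgroup.mem_center_iff.1 hc) ⟨l, hl⟩
      exact congrArg Subtype.val this
  refine sup_le hLR ?_
  rintro _ ⟨l, hl, rfl⟩
  have : (MulAut.conj a).toMonoidHom l = l⁻¹ * (l * (a * l * a⁻¹)) := by
    simp
  rw [this]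
  exact mul_mem (inv_mem (hLR hl)) (hJR (hJmem l hl))

end Cfsg.Agent.S1921
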