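import Cfsg.Statements.S1922
import Mathlib
import Cfsg.Agent.Lib.Basic.StrongP
import Cfsg.Agent.Lib.Basic.SylowInto
-- import your own Cfsg.Agent.* helpers here

set_option autoImplicit false
open Cfsg

namespace Cfsg.Agent.S1922

open scoped Pointwise

theorem aux_mem_map_conj {G : Type*} [Group G] (Q : Subgroup G) (g x : G) :
    x ∈ Q.map (MulAut.conj g).toMonoidHom ↔ g⁻¹ * x * g ∈ Q := by
  constructor
  · rintro ⟨y, hy, rfl⟩
    simpa [mul_assoc] using hy
  · intro h
    exact ⟨_, h, by simp [mul_assoc]⟩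

theorem aux_exists_conj {G : Type*} [Group G] [Finite G] {r : ℕ} [Fact r.Prime] (R : Sylow r G)
    (M : Subgroup G) (hM : ¬ r ∣ M.index) : ∃ g : G, (R : Subgroup G) ≤ M.map (MulAut.conj g).toMonoidHom := by
  obtain ⟨q, hq⟩ := R.2.nonempty_fixed_point_of_prime_not_dvd_card (G ⧸ M) hM
  obtain ⟨g, rfl⟩ := QuotientGroup.mk_surjective q
  refine ⟨g, fun x hx => ?_⟩
  rw [aux_mem_map_conj]
  have h1 : (x • (g : G ⧸ M) : G ⧸ M) = g := hq ⟨x, hx⟩
  have h2 : ((x * g : G) : G ⧸ M) = g := h1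
  have h3 := QuotientGroup.eq.1 h2
  have h4 := inv_mem h3
  simpa [mul_assoc] using h4

theorem aux_pgroup {G : Type*} [Group G] (r : G) (hr : r * r = 1) :
    IsPGroup 2 (Subgroup.zpowers r) := by
  rintro ⟨x, hx⟩
  obtain ⟨n, rfl⟩ := Subgroup.mem_zpowers_iff.1 hx
  refine ⟨1, Subtype.ext ?_⟩
  show (r ^ n) ^ (2 ^ 1) = 1
  rw [pow_one, ← zpow_natCast, ← zpow_mul, mul_comm, zpow_mul]
  have : r ^ ((2 : ℕ) : ℤ) = 1 := by
    rw [zpow_natCast, pow_two, hr]
  rw [this, one_zpow]

theorem odd_card_of_involution {α : Type*} [Finite α] (f : α → α) (hf : ∀ a, f (f a) = a) (a₀ : α)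
    (hfix : ∀ a, f a = a ↔ a = a₀) : Odd (Nat.card α) := by
  classical
  have : Fintype α := Fintype.ofFinite α
  let F : Function.End α := f
  have hF : F ^ 2 ^ 1 = 1 := by
    rw [pow_one, pow_two]
    funext a
    exact hf a
  have : Fact (Nat.Prime 2) := ⟨Nat.prime_two⟩
  have h := Equiv.Perm.card_fixedPoints_modEq (p := 2) (n := 1) hF
  have hc : Fintype.card (Function.fixedPoints F) = 1 := by
    rw [Fintype.card_eq_one_iff]
    exact ⟨⟨a₀, (hfix a₀).2 rfl⟩, fun ⟨a, ha⟩ => Subtype.ext ((hfix a).1 ha)⟩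
  rw [hc] at h
  rw [Nat.card_eq_fintype_card, Nat.odd_iff]
  exact h

theorem dihedral_mem {G : Type*} [Group G] (X : Set G) (hconj : ∀ a : G, ∀ x ∈ X, a * x * a⁻¹ ∈ X)
    (hsq : ∀ x ∈ X, x * x = 1) {a b : G} (ha : a ∈ X) (hb : b ∈ X) (m : ℕ) :
    a * (a * b) ^ m ∈ X ∧ a * (a * b) ^ (m + 1) ∈ X := by
  have hinv' : ∀ d ∈ X, d⁻¹ = d := fun d hd => inv_eq_of_mul_eq_one_left (hsq d hd)
  set r := a * b with hr
  clear_value r
  have hrinv : r⁻¹ = b * a := by
    rw [hr, mul_inv_rev, hinv' a ha, hinv' b hb]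
  have hsa : r⁻¹ * a = a * r := by
    rw [hrinv, hr, ← mul_assoc, hsq a ha, one_mul, mul_assoc, hsq a ha, mul_one]
  induction m with
  | zero =>
    refine ⟨by simpa using ha, ?_⟩
    have : a * r ^ (0 + 1) = b := by
      rw [zero_add, pow_one, hr, ← mul_assoc, hsq a ha, one_mul]
    rw [this]
    exact hb
  | succ m ih =>
    refine ⟨ih.2, ?_⟩
    have h1 : a * r ^ (m + 1 + 1) = r⁻¹ * (a * r ^ m) * r⁻¹⁻¹ := by
      calc a * r ^ (m + 1 + 1) = (a * r) * (r ^ m * r) := by group
        _ = (r⁻¹ * a) * (r ^ m * r⁻¹⁻¹) := by rw [hsa, inv_inv]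
        _ = r⁻¹ * (a * r ^ m) * r⁻¹⁻¹ := by group
    rw [h1]
    exact hconj _ _ ih.1

theorem odd_sqrt_unique {G : Type*} [Group G] {a b : G} (h : a * a = b * b) (ha : Odd (orderOf a))
    (hb : Odd (orderOf b)) : a = b := by
  obtain ⟨k, hk⟩ := ha
  obtain ⟨l, hl⟩ := hb
  have h1 : a = (a * a) ^ (k + 1) := by
    rw [← pow_two, ← pow_mul]
    have : 2 * (k + 1) = orderOf a + 1 := by omega
    rw [this, pow_succ, pow_orderOf_eq_one, one_mul]
  have h2 : b = (a * a) ^ (l + 1) := by
    rw [h, ← pow_two, ← pow_mul]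
    have : 2 * (l + 1) = orderOf b + 1 := by omega
    rw [this, pow_succ, pow_orderOf_eq_one, one_mul]
  have hc : Commute a b := by
    rw [h1, h2]
    exact (Commute.refl (a * a)).pow_pow _ _
  have hcinv : Commute a b⁻¹ := hc.inv_right
  have h3 : (a * b⁻¹) ^ 2 = 1 := by
    rw [hcinv.mul_pow, pow_two, pow_two, h]
    group
  have h4 : (a * b⁻¹) ^ (orderOf a * orderOf b) = 1 := by
    rw [hcinv.mul_pow, pow_mul, pow_orderOf_eq_one, one_pow, one_mul, mul_comm, pow_mul, inv_pow,
      pow_orderOf_eq_one, inv_one, one_pow]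
  have h5 : orderOf (a * b⁻¹) ∣ 2 := orderOf_dvd_of_pow_eq_one h3
  have h6 : orderOf (a * b⁻¹) ∣ orderOf a * orderOf b := orderOf_dvd_of_pow_eq_one h4
  have hcop : Nat.Coprime 2 (orderOf a * orderOf b) := by
    rw [Nat.coprime_two_left]
    exact Odd.mul ⟨k, hk⟩ ⟨l, hl⟩
  have h7 : orderOf (a * b⁻¹) = 1 := Nat.eq_one_of_dvd_coprimes hcop h5 h6
  have h8 := orderOf_eq_one_iff.1 h7
  exact mul_inv_eq_one.1 h8

section abstract

variable {G Ω : Type*} [Group G] [MulAction G Ω]

/-- `x` has the unique fixed point `ω`. -/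
def UF (x : G) (ω : Ω) : Prop := ∀ ω', x • ω' = ω' ↔ ω' = ω

theorem UF.conj {x : G} {ω : Ω} (h : UF x ω) (a : G) : UF (a * x * a⁻¹) (a • ω) := by
  intro ω'
  constructor
  · intro h1
    have h2 : x • (a⁻¹ • ω') = a⁻¹ • ω' := by
      have : a⁻¹ • ((a * x * a⁻¹) • ω') = a⁻¹ • ω' := by rw [h1]
      rw [← mul_smul] at this
      rw [← mul_smul]
      have e : a⁻¹ * (a * x * a⁻¹) = x * a⁻¹ := by group
      rwa [e] at this
    have h3 := (h _).1 h2
    rw [← h3, ← mul_smul, mul_inv_cancel, one_smul]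
  · rintro rfl
    rw [← mul_smul]
    have e : a * x * a⁻¹ * a = a * x := by group
    rw [e, mul_smul, (h ω).2 rfl]

theorem UF.unique {x : G} {ω ω' : Ω} (h : UF x ω) (h' : UF x ω') : ω = ω' :=
  (h' ω).1 ((h ω).2 rfl)

variable (X : Set G) (hconj : ∀ a : G, ∀ x ∈ X, a * x * a⁻¹ ∈ X) (hsq : ∀ x ∈ X, x * x = 1)
  (hprod : ∀ x ∈ X, ∀ x' ∈ X, x ≠ x' → x * x' = x' * x → ∀ ω : Ω, UF x ω → UF (x * x') ω)

include hconj hsq hprod in
theorem lemmaA [Finite G] {x y : G} (hx : x ∈ X) (hy : y ∈ X) {ω ω' : Ω} (h : UF x ω) (h' : UF y ω')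
    (hne : ω ≠ ω') : Odd (orderOf (x * y)) := by
  by_contra hnodd
  have hxinv : x⁻¹ = x := inv_eq_of_mul_eq_one_left (hsq x hx)
  have hyinv : y⁻¹ = y := inv_eq_of_mul_eq_one_left (hsq y hy)
  have hmem := fun k => (dihedral_mem X hconj hsq hx hy k).1
  set r := x * y with hr
  obtain ⟨k, hk⟩ := Nat.not_odd_iff_even.1 hnodd
  have hn0 : orderOf r ≠ 0 := (orderOf_pos r).ne'
  have hk0 : k ≠ 0 := by
    rintro rfl
    exact hn0 (by simpa using hk)
  have hrinv : r⁻¹ = y * x := by
    rw [hr, mul_inv_rev, hxinv, hyinv]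
  have hsx : SemiconjBy x r r⁻¹ := by
    show x * r = r⁻¹ * x
    rw [hrinv, hr, ← mul_assoc, hsq x hx, one_mul, mul_assoc, hsq x hx, mul_one]
  have hsy : SemiconjBy y r r⁻¹ := by
    show y * r = r⁻¹ * y
    rw [hrinv, hr, mul_assoc]
  set c := r ^ k with hc
  have hc2 : c * c = 1 := by
    rw [hc, ← pow_add, ← hk, pow_orderOf_eq_one]
  have hcinv : c⁻¹ = c := inv_eq_of_mul_eq_one_left hc2
  have hc1 : c ≠ 1 := pow_ne_one_of_lt_orderOf hk0 (by omega)
  have hxc : Commute x c := by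
    have h1 : SemiconjBy x (r ^ k) (r⁻¹ ^ k) := hsx.pow_right k
    show x * c = c * x
    have h2 : r⁻¹ ^ k = c := by rw [inv_pow, ← hc, hcinv]
    rw [h2] at h1
    exact h1.eq
  have hyc : Commute y c := by
    have h1 : SemiconjBy y (r ^ k) (r⁻¹ ^ k) := hsy.pow_right k
    show y * c = c * y
    have h2 : r⁻¹ ^ k = c := by rw [inv_pow, ← hc, hcinv]
    rw [h2] at h1
    exact h1.eq
  have ht : x * c ∈ X := hmem k
  have hne' : x ≠ x * c := by
    intro h5
    exact hc1 (by simpa using h5.symm)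
  have hcomm : x * (x * c) = (x * c) * x := by
    rw [mul_assoc, hxc.eq]
  have huf := hprod x hx (x * c) ht hne' hcomm ω h
  rw [← mul_assoc, hsq x hx, one_mul] at huf
  have hfix : c • ω' = ω' := by
    have h5 : y • (c • ω') = c • ω' := by
      rw [← mul_smul, hyc.eq, mul_smul, (h' ω').2 rfl]
    exact (h' _).1 h5
  exact hne ((huf ω').1 hfix).symm

include hconj hsq hprod in
theorem parity [Finite G] (hall : ∀ x ∈ X, ∃ ν : Ω, UF x ν) {ω₀ ω : Ω} (hne : ω₀ ≠ ω) {y₀ : G}
    (hy₀ : y₀ ∈ X) (huy : UF y₀ ω) {z : G} (hz : z ∈ X) (huz : UF z ω₀) :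
    Odd (Nat.card {x : G // x ∈ X ∧ UF x ω₀}) := by
  classical
  have hinv' : ∀ d ∈ X, d⁻¹ = d := fun d hd => inv_eq_of_mul_eq_one_left (hsq d hd)
  let S := {v : G // v ∈ X ∧ v • ω₀ = ω}
  have hS_om : ∀ v : S, v.1 • ω = ω₀ := by
    intro v
    calc v.1 • ω = v.1 • (v.1 • ω₀) := congrArg (fun w => v.1 • w) v.2.2.symm
      _ = ω₀ := by rw [← mul_smul, hsq _ v.2.1, one_smul]
  have hneq : ∀ v : S, ∀ ν : Ω, UF v.1 ν → ν ≠ ω := by
    rintro v ν hν rfl
    have h1 := (hν ν).2 rfl
    rw [hS_om v] at h1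
    exact hne h1
  let T : S → {x : G // x ∈ X ∧ UF x ω₀} := fun v => ⟨v.1 * y₀ * v.1⁻¹, hconj _ _ hy₀, by
    have := huy.conj v.1
    rwa [hS_om v] at this⟩
  have hTinj : Function.Injective T := by
    intro v v' e
    have e' : v.1 * y₀ * v.1⁻¹ = v'.1 * y₀ * v'.1⁻¹ := congrArg Subtype.val e
    obtain ⟨ν, hν⟩ := hall v.1 v.2.1
    obtain ⟨ν', hν'⟩ := hall v'.1 v'.2.1
    have h1 : Odd (orderOf (y₀ * v.1)) :=
      lemmaA X hconj hsq hprod hy₀ v.2.1 huy hν (hneq v ν hν).symm
    have h2 : Odd (orderOf (y₀ * v'.1)) :=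
      lemmaA X hconj hsq hprod hy₀ v'.2.1 huy hν' (hneq v' ν' hν').symm
    have h3 : (y₀ * v.1) * (y₀ * v.1) = (y₀ * v'.1) * (y₀ * v'.1) := by
      rw [hinv' _ v.2.1, hinv' _ v'.2.1] at e'
      calc (y₀ * v.1) * (y₀ * v.1) = y₀ * (v.1 * y₀ * v.1) := by group
        _ = y₀ * (v'.1 * y₀ * v'.1) := by rw [e']
        _ = (y₀ * v'.1) * (y₀ * v'.1) := by group
    have h4 := odd_sqrt_unique h3 h1 h2
    exact Subtype.ext (mul_left_cancel h4)
  have hTsurj : Function.Surjective T := by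
    rintro ⟨x, hxX, hxu⟩
    obtain ⟨k, hk⟩ := lemmaA X hconj hsq hprod hxX hy₀ hxu huy hne
    have hxinv := hinv' x hxX
    have hyinv := hinv' y₀ hy₀
    have hvX : x * (x * y₀) ^ (k + 1) ∈ X := (dihedral_mem X hconj hsq hxX hy₀ (k + 1)).1
    set r := x * y₀ with hr
    have hrinv : r⁻¹ = y₀ * x := by
      rw [hr, mul_inv_rev, hxinv, hyinv]
    have hsy : SemiconjBy y₀ r⁻¹ r := by
      show y₀ * r⁻¹ = r * y₀
      rw [hrinv, hr, ← mul_assoc, hsq y₀ hy₀, one_mul, mul_assoc, hsq y₀ hy₀, mul_one]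
    set s := r ^ (k + 1) with hs
    have hs1 : y₀ * s⁻¹ = s * y₀ := by
      have := hsy.pow_right (k + 1)
      rw [inv_pow, ← hs] at this
      exact this.eq
    have hs2 : s * s = r := by
      rw [hs, ← pow_add]
      have e : k + 1 + (k + 1) = orderOf r + 1 := by omega
      rw [e, pow_succ, pow_orderOf_eq_one, one_mul]
    have hconjv : (x * s) * y₀ * (x * s)⁻¹ = x := by
      rw [mul_inv_rev, hxinv]
      calc (x * s) * y₀ * (s⁻¹ * x) = x * (s * y₀) * (s⁻¹ * x) := by group
        _ = x * (y₀ * s⁻¹) * (s⁻¹ * x) := by rw [hs1]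
        _ = (x * y₀) * (s⁻¹ * s⁻¹) * x := by group
        _ = r * (s * s)⁻¹ * x := by rw [mul_inv_rev]
        _ = x := by rw [hs2]; group
    have hvom : (x * s) • ω = ω₀ := by
      have h5 := huy.conj (x * s)
      rw [hconjv] at h5
      exact h5.unique hxu
    have hvom0 : (x * s) • ω₀ = ω := by
      rw [← hvom, ← mul_smul, hsq _ hvX, one_smul]
    exact ⟨⟨x * s, hvX, hvom0⟩, Subtype.ext hconjv⟩
  have hcard : Nat.card S = Nat.card {x : G // x ∈ X ∧ UF x ω₀} :=
    Nat.card_congr (Equiv.ofBijective T ⟨hTinj, hTsurj⟩)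
  rw [← hcard]
  obtain ⟨v₀, -⟩ := hTsurj ⟨z, hz, huz⟩
  let f : S → S := fun v => ⟨v₀.1 * v.1 * v₀.1⁻¹, hconj _ _ v.2.1, by
    rw [hinv' _ v₀.2.1, mul_smul, mul_smul, v₀.2.2, hS_om v, v₀.2.2]⟩
  refine odd_card_of_involution f ?_ v₀ ?_
  · intro v
    apply Subtype.ext
    show v₀.1 * (v₀.1 * v.1 * v₀.1⁻¹) * v₀.1⁻¹ = v.1
    rw [hinv' _ v₀.2.1]
    calc v₀.1 * (v₀.1 * v.1 * v₀.1) * v₀.1 = (v₀.1 * v₀.1) * v.1 * (v₀.1 * v₀.1) := by group
      _ = v.1 := by rw [hsq _ v₀.2.1]; group
  · intro v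
    constructor
    · intro h
      have h0 : v₀.1 * v.1 * v₀.1⁻¹ = v.1 := congrArg Subtype.val h
      have hc : v₀.1 * v.1 = v.1 * v₀.1 := by
        rwa [mul_inv_eq_iff_eq_mul] at h0
      by_contra hvne
      obtain ⟨ν, hν⟩ := hall v₀.1 v₀.2.1
      have hu := hprod v₀.1 v₀.2.1 v.1 v.2.1 (fun e => hvne (Subtype.ext e.symm)) hc ν hν
      have h1 : (v₀.1 * v.1) • ω₀ = ω₀ := by
        rw [mul_smul, v.2.2, hS_om v₀]
      have h2 : (v₀.1 * v.1) • ω = ω := by
        rw [mul_smul, hS_om v, v₀.2.2]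
      exact hne (((hu ω₀).1 h1).trans ((hu ω).1 h2).symm)
    · rintro rfl
      apply Subtype.ext
      show v.1 * v.1 * v.1⁻¹ = v.1
      group

end abstract


/-- Let z be an involution of a finite group G and H a proper subgroup such that z lies in gHg⁻¹ exactly when g ∈ H. Then the following are equivalent: (1) for every conjugate t ≠ z of z commuting with z, the product zt lies in gHg⁻¹ exactly when g ∈ H; (2) z lies in the centre of some Sylow 2-subgroup of G, and for every conjugate t ≠ z of z commuting with z, the centralizer of zt is contained in H. -/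
theorem result {G : Type*} [Group G] [Finite G] (z : G) (hz : orderOf z = 2) (H : Subgroup G) (hH : H ≠ ⊤)
    (h0 : ∀ g : G, z ∈ H.map (MulAut.conj g).toMonoidHom ↔ g ∈ H) :
    (∀ t : G, IsConj z t → t ≠ z → t * z = z * t → ∀ g : G, z * t ∈ H.map (MulAut.conj g).toMonoidHom ↔ g ∈ H) ↔
      ((∃ P : Sylow 2 G, z ∈ (Subgroup.center ↥(P : Subgroup G)).map (P : Subgroup G).subtype) ∧
        ∀ t : G, IsConj z t → t ≠ z → t * z = z * t → Subgroup.centralizer ({z * t} : Set G) ≤ H) := by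
  classical
  have hzsq : z * z = 1 := by
    have := pow_orderOf_eq_one z
    rwa [hz, pow_two] at this
  have hzinv : z⁻¹ = z := inv_eq_of_mul_eq_one_left hzsq
  have hCH : Subgroup.centralizer ({z} : Set G) ≤ H := by
    intro c hc
    have h1 : c * z = z * c := Subgroup.mem_centralizer_singleton_iff.1 hc
    refine (h0 c).1 ?_
    rw [aux_mem_map_conj]
    have h2 : c⁻¹ * z * c = z := by
      calc c⁻¹ * z * c = c⁻¹ * (z * c) := by group
        _ = c⁻¹ * (c * z) := by rw [h1]
        _ = z := by group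
    rw [h2, ← hzinv]
    have := (h0 1).2 H.one_mem
    rw [aux_mem_map_conj] at this
    rw [hzinv]
    simpa using this
  have hzH : z ∈ H := hCH (by
    rw [Subgroup.mem_centralizer_singleton_iff])
  constructor
  · intro h1
    refine ⟨?_, ?_⟩
    · -- `z` is 2-central
      let ω₀ : G ⧸ H := QuotientGroup.mk 1
      have hfixmk : ∀ x g : G, x • (QuotientGroup.mk g : G ⧸ H) = QuotientGroup.mk g ↔ g⁻¹ * x * g ∈ H := by
        intro x g
        show (QuotientGroup.mk (x * g) : G ⧸ H) = QuotientGroup.mk g ↔ _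
        rw [QuotientGroup.eq]
        have e : (x * g)⁻¹ * g = (g⁻¹ * x * g)⁻¹ := by group
        rw [e, inv_mem_iff]
      have huf_of : ∀ x : G, (∀ g : G, x ∈ H.map (MulAut.conj g).toMonoidHom ↔ g ∈ H) → UF x ω₀ := by
        intro x hx ω'
        obtain ⟨g, rfl⟩ := QuotientGroup.mk_surjective ω'
        rw [hfixmk, ← aux_mem_map_conj, hx g]
        show _ ↔ (QuotientGroup.mk g : G ⧸ H) = QuotientGroup.mk 1
        rw [QuotientGroup.eq]
        have e : g⁻¹ * 1 = g⁻¹ := by group
        rw [e, inv_mem_iff]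
      have huz : UF z ω₀ := huf_of z h0
      let X : Set G := {x | ∃ a : G, x = a * z * a⁻¹}
      have hconj : ∀ a : G, ∀ x ∈ X, a * x * a⁻¹ ∈ X := by
        rintro a x ⟨b, rfl⟩
        exact ⟨a * b, by group⟩
      have hsq : ∀ x ∈ X, x * x = 1 := by
        rintro x ⟨b, rfl⟩
        calc b * z * b⁻¹ * (b * z * b⁻¹) = b * (z * z) * b⁻¹ := by group
          _ = 1 := by rw [hzsq]; group
      have hall : ∀ x ∈ X, ∃ ν : G ⧸ H, UF x ν := by
        rintro x ⟨a, rfl⟩
        exact ⟨_, huz.conj a⟩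
      have hzX : z ∈ X := ⟨1, by group⟩
      have hprod : ∀ x ∈ X, ∀ x' ∈ X, x ≠ x' → x * x' = x' * x → ∀ ω : G ⧸ H, UF x ω → UF (x * x') ω := by
        rintro x ⟨a, rfl⟩ x' ⟨b, rfl⟩ hne hcomm ω hω
        set t := (a⁻¹ * b) * z * (a⁻¹ * b)⁻¹ with ht
        have ht1 : IsConj z t := isConj_iff.2 ⟨a⁻¹ * b, rfl⟩
        have ht2 : t ≠ z := by
          intro h
          apply hne
          have e : b * z * b⁻¹ = a * t * a⁻¹ := by rw [ht]; group
          rw [e, h]
        have ht3 : t * z = z * t := by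
          have e : b * z * b⁻¹ = a * t * a⁻¹ := by rw [ht]; group
          rw [e] at hcomm
          have h5 : a * (z * t) * a⁻¹ = a * (t * z) * a⁻¹ := by
            calc a * (z * t) * a⁻¹ = a * z * a⁻¹ * (a * t * a⁻¹) := by group
              _ = a * t * a⁻¹ * (a * z * a⁻¹) := hcomm
              _ = a * (t * z) * a⁻¹ := by group
          exact (mul_left_cancel (mul_right_cancel h5)).symm
        have huzt : UF (z * t) ω₀ := huf_of _ (h1 t ht1 ht2 ht3)
        have hua := huzt.conj a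
        have e1 : a * (z * t) * a⁻¹ = a * z * a⁻¹ * (b * z * b⁻¹) := by
          rw [ht]; group
        rw [e1] at hua
        have e2 : a • ω₀ = ω := (huz.conj a).unique hω
        rwa [e2] at hua
      -- a point different from the base point
      obtain ⟨g, hg⟩ : ∃ g : G, g ∉ H := by
        by_contra hcon
        push Not at hcon
        exact hH (eq_top_iff.2 fun x _ => hcon x)
      have hne : ω₀ ≠ g • ω₀ := by
        intro h
        have h2 : (QuotientGroup.mk 1 : G ⧸ H) = QuotientGroup.mk (g * 1) := h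
        rw [QuotientGroup.eq] at h2
        apply hg
        simpa using h2
      have hodd := parity X hconj hsq hprod hall hne (y₀ := g * z * g⁻¹) ⟨g, rfl⟩ (huz.conj g) hzX huz
      -- the index of `H`
      have hoddH : Odd H.index := by
        refine odd_card_of_involution (fun ω : G ⧸ H => z • ω) ?_ ω₀ huz
        intro a
        show z • (z • a) = a
        rw [← mul_smul, hzsq, one_smul]
      -- the relative index
      set C := Subgroup.centralizer ({z} : Set G) with hC
      have hrel : Nat.card (↥H ⧸ C.subgroupOf H) = Nat.card {x : G // x ∈ X ∧ UF x ω₀} := by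
        have hFwd : ∀ a b : H, (a : G) * z * (a : G)⁻¹ = b * z * (b : G)⁻¹ ↔ a⁻¹ * b ∈ C.subgroupOf H := by
          intro a b
          rw [Subgroup.mem_subgroupOf, hC, Subgroup.mem_centralizer_singleton_iff]
          push_cast
          constructor
          · intro h
            calc (a : G)⁻¹ * b * z = (a : G)⁻¹ * (b * z * (b : G)⁻¹) * b := by group
              _ = (a : G)⁻¹ * (a * z * (a : G)⁻¹) * b := by rw [h]
              _ = z * ((a : G)⁻¹ * b) := by group
          · intro h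
            calc (a : G) * z * (a : G)⁻¹ = a * (z * ((a : G)⁻¹ * b)) * (b : G)⁻¹ := by group
              _ = a * ((a : G)⁻¹ * b * z) * (b : G)⁻¹ := by rw [h]
              _ = b * z * (b : G)⁻¹ := by group
        let φ : H → {x : G // x ∈ X ∧ UF x ω₀} := fun a => ⟨(a : G) * z * (a : G)⁻¹, ⟨a, rfl⟩, by
          have h5 := huz.conj (a : G)
          have h6 : (a : G) • ω₀ = ω₀ := by
            show (QuotientGroup.mk ((a : G) * 1) : G ⧸ H) = QuotientGroup.mk 1
            rw [QuotientGroup.eq]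
            simpa using inv_mem (mul_mem a.2 H.one_mem)
          rwa [h6] at h5⟩
        let F : ↥H ⧸ C.subgroupOf H → {x : G // x ∈ X ∧ UF x ω₀} :=
          fun q => Quotient.liftOn' q φ (fun a b h =>
            Subtype.ext ((hFwd a b).2 (QuotientGroup.leftRel_apply.1 h)))
        have hFinj : Function.Injective F := by
          intro q₁ q₂
          induction q₁ using QuotientGroup.induction_on with | H a => ?_
          induction q₂ using QuotientGroup.induction_on with | H b => ?_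
          intro h
          exact QuotientGroup.eq.2 ((hFwd a b).1 (congrArg Subtype.val h))
        have hFsurj : Function.Surjective F := by
          rintro ⟨x, ⟨c, rfl⟩, hu⟩
          have h5 := (huz.conj c).unique hu
          have hcH : c ∈ H := by
            have h6 : (QuotientGroup.mk (c * 1) : G ⧸ H) = QuotientGroup.mk 1 := h5
            rw [QuotientGroup.eq] at h6
            simpa using inv_mem h6
          exact ⟨QuotientGroup.mk ⟨c, hcH⟩, rfl⟩
        exact Nat.card_congr (Equiv.ofBijective F ⟨hFinj, hFsurj⟩)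
      have hoddrel : Odd (C.relIndex H) := by
        show Odd (Nat.card (↥H ⧸ C.subgroupOf H))
        rw [hrel]
        exact hodd
      have hoddC : Odd C.index := by
        rw [← Subgroup.relIndex_mul_index hCH]
        exact hoddrel.mul hoddH
      have : Fact (Nat.Prime 2) := ⟨Nat.prime_two⟩
      obtain ⟨P₀⟩ : Nonempty (Sylow 2 G) := inferInstance
      obtain ⟨a, ha⟩ := aux_exists_conj P₀ C (by
        rw [← even_iff_two_dvd]
        exact Nat.not_even_iff_odd.2 hoddC)
      let P' : Sylow 2 G := a⁻¹ • P₀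
      have hP'C : (P' : Subgroup G) ≤ C := by
        intro y hy
        have hy' := (Cfsg.Agent.Lib.Basic.StrongP.mem_smul_sylow a⁻¹ P₀ y).1 hy
        have h5 := ha hy'
        rw [aux_mem_map_conj] at h5
        have e : a⁻¹ * (a⁻¹⁻¹ * y * a⁻¹) * a = y := by group
        rwa [e] at h5
      have hcomm : ∀ y ∈ (P' : Subgroup G), y * z = z * y := fun y hy =>
        Subgroup.mem_centralizer_singleton_iff.1 (hP'C hy)
      have hnorm : z ∈ Subgroup.normalizer ((P' : Subgroup G) : Set G) := by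
        rw [Subgroup.mem_set_normalizer_iff]
        intro y
        constructor
        · intro hy
          have e : z * y * z⁻¹ = y := by
            rw [← hcomm y hy]
            group
          rw [SetLike.mem_coe, e]
          exact hy
        · intro hy
          have hy' : z * y * z⁻¹ ∈ (P' : Subgroup G) := hy
          have e := hcomm _ hy'
          have e2 : y = z * y * z⁻¹ := by
            have e3 : z * y * z⁻¹ * z = z * y := by group
            rw [e3] at e
            have e4 : z * y = z * (z * y * z⁻¹) := e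
            exact mul_left_cancel e4
          rw [SetLike.mem_coe, e2]
          exact hy'
      have hzP' : z ∈ (P' : Subgroup G) := by
        have h5 : z ∈ Subgroup.zpowers z ⊓ (P' : Subgroup G) :=
          ((aux_pgroup z hzsq).inf_normalizer_sylow P').le
            (Subgroup.mem_inf.2 ⟨Subgroup.mem_zpowers z, hnorm⟩)
        exact (Subgroup.mem_inf.1 h5).2
      refine ⟨P', ⟨⟨z, hzP'⟩, ?_, rfl⟩⟩
      rw [SetLike.mem_coe, Subgroup.mem_center_iff]
      rintro ⟨y, hy⟩
      exact Subtype.ext (hcomm y hy)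
    · intro t ht1 ht2 ht3 c hc
      have h2 := h1 t ht1 ht2 ht3
      have hztH : z * t ∈ H := by
        have := (h2 1).2 H.one_mem
        rw [aux_mem_map_conj] at this
        simpa using this
      refine (h2 c).1 ?_
      rw [aux_mem_map_conj]
      have h3 : c * (z * t) = (z * t) * c := Subgroup.mem_centralizer_singleton_iff.1 hc
      have h4 : c⁻¹ * (z * t) * c = z * t := by
        calc c⁻¹ * (z * t) * c = c⁻¹ * ((z * t) * c) := by group
          _ = c⁻¹ * (c * (z * t)) := by rw [h3]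
          _ = z * t := by group
      rw [h4]
      exact hztH
  · rintro ⟨⟨P, hP⟩, hC⟩ t ht1 ht2 ht3 g
    have : Fact (Nat.Prime 2) := ⟨Nat.prime_two⟩
    obtain ⟨z', hz', hzz'⟩ := hP
    have hzP : z ∈ (P : Subgroup G) := by
      rw [← hzz']
      exact z'.2
    have hcomm : ∀ y ∈ (P : Subgroup G), y * z = z * y := by
      intro y hy
      have h1 := Subgroup.mem_center_iff.1 hz' ⟨y, hy⟩
      have h2 := congrArg Subtype.val h1
      rw [← hzz']
      exact h2
    have hPH : (P : Subgroup G) ≤ H := fun y hy =>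
      hCH (Subgroup.mem_centralizer_singleton_iff.2 (hcomm y hy))
    have htH : t ∈ H := hCH (Subgroup.mem_centralizer_singleton_iff.2 ht3)
    have ht_sq : t * t = 1 := by
      obtain ⟨c, rfl⟩ := isConj_iff.1 ht1
      calc c * z * c⁻¹ * (c * z * c⁻¹) = c * (z * z) * c⁻¹ := by group
        _ = 1 := by rw [hzsq]; group
    constructor
    · intro hg
      rw [aux_mem_map_conj] at hg
      set r := g⁻¹ * (z * t) * g with hr
      have hrsq : r * r = 1 := by
        calc r * r = g⁻¹ * ((z * t) * (z * t)) * g := by rw [hr]; group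
          _ = g⁻¹ * (z * (t * z) * t) * g := by group
          _ = g⁻¹ * (z * (z * t) * t) * g := by rw [ht3]
          _ = g⁻¹ * ((z * z) * (t * t)) * g := by group
          _ = 1 := by rw [hzsq, ht_sq]; group
      obtain ⟨c, hc, hcu⟩ := Cfsg.Agent.Lib.Basic.SylowInto.conj_into_of_le H P hPH
        (Subgroup.zpowers r) (Subgroup.zpowers_le.2 hg) (aux_pgroup r hrsq)
      have h1 := hcu r (Subgroup.mem_zpowers r)
      have h2 := hcomm _ h1
      set g' := g * c⁻¹ with hg'
      have hr' : c * r * c⁻¹ = g'⁻¹ * (z * t) * g' := by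
        rw [hr, hg']; group
      rw [hr'] at h2
      have h3 : g' * z * g'⁻¹ ∈ Subgroup.centralizer ({z * t} : Set G) := by
        rw [Subgroup.mem_centralizer_singleton_iff]
        calc g' * z * g'⁻¹ * (z * t) = g' * (z * (g'⁻¹ * (z * t) * g')) * g'⁻¹ := by group
          _ = g' * ((g'⁻¹ * (z * t) * g') * z) * g'⁻¹ := by rw [h2]
          _ = z * t * (g' * z * g'⁻¹) := by group
      have h4 := hC t ht1 ht2 ht3 h3
      have h5 : g'⁻¹ ∈ H := by
        refine (h0 g'⁻¹).1 ?_
        rw [aux_mem_map_conj, inv_inv]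
        exact h4
      have h6 : g = g' * c := by rw [hg']; group
      rw [h6]
      exact mul_mem (by simpa using inv_mem h5) hc
    · intro hg
      rw [aux_mem_map_conj]
      exact mul_mem (mul_mem (inv_mem hg) (mul_mem hzH htH)) hg

end Cfsg.Agent.S1922
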