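import Cfsg.Statements.S1936
import Cfsg.Agent.S0205
import Cfsg.Agent.Lib.Loc5.Main

set_option autoImplicit false

open Cfsg

namespace Cfsg.Agent.S1936

theorem result {G : Type*} [Group G] [Finite G] (p : ℕ) [Fact p.Prime] (h : ∀ H : Subgroup G, (Nat.card ↥H).Coprime p → IsMulCommutative ↥H ∧ ∀ x ∈ H, x ^ (p - 1) = 1) : Group.IsSolvable G :=
  Cfsg.Agent.Lib.Loc5.Main.isSolvable_of_hyp (fun X _ _ hX => Cfsg.Agent.S0205.result hX) p _ G rfl h

end Cfsg.Agent.S1936
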