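import Cfsg.Statements.S1946
import Cfsg.Agent.Lib.Transfer.Basic
import Cfsg.Agent.Lib.Transfer.Frobenius
import Cfsg.Agent.Lib.PGroup.Critical
import Cfsg.Agent.Lib.Coprime.OmegaOne
import Cfsg.Agent.S0121

set_option autoImplicit false
open Cfsg

namespace Cfsg.Agent.S1946

open Subgroup
open Cfsg.Agent.Lib.Transfer.Basic Cfsg.Agent.Lib.Transfer.Frobenius
open Cfsg.Agent.Lib.Coprime.OmegaOne
open scoped commutatorElement

/-- Fusion inside `P` together with invariance forces a `p'`-element to centralize. -/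
theorem centralizes_of_fusion {G : Type*} [Group G] [Finite G] {p : ℕ} [hp : Fact p.Prime]
    (P : Subgroup G) (hP : IsPGroup p P) (X : Subgroup G) (hXP : X ≤ P) (g : G)
    (hg : Nat.Coprime (orderOf g) p) (hXg : ∀ u ∈ X, g * u * g⁻¹ ∈ X)
    (hfus : ∀ u ∈ X, ∃ y ∈ P, g * u * g⁻¹ = y * u * y⁻¹) : ∀ u ∈ X, g * u * g⁻¹ = u := by
  haveI : Group.IsNilpotent P := hP.isNilpotent
  obtain ⟨n, hn⟩ := Group.IsNilpotent.nilpotent (G := P)
  have key : ∀ i : ℕ, ∀ u ∈ X, ∀ hu : u ∈ P, (⟨u, hu⟩ : P) ∈ Subgroup.upperCentralSeries P i →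
      g * u * g⁻¹ = u := by
    intro i
    induction i with
    | zero =>
      intro u _ hu h
      have h1 : (⟨u, hu⟩ : P) = 1 := by simpa using h
      have h2 : u = 1 := congrArg Subtype.val h1
      simp [h2]
    | succ i ih =>
      intro u hu huP h
      obtain ⟨y, hy, hyu⟩ := hfus u hu
      set c : G := u⁻¹ * (g * u * g⁻¹) with hc
      have hcX : c ∈ X := X.mul_mem (X.inv_mem hu) (hXg u hu)
      have hcP : c ∈ P := hXP hcX
      have hc' : c = u⁻¹ * (y * u * y⁻¹) := by rw [hc, hyu]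
      have hmem : (⟨c, hcP⟩ : P) ∈ Subgroup.upperCentralSeries P i := by
        have h1 : (⟨u, huP⟩ : P)⁻¹ ∈ Subgroup.upperCentralSeries P (i + 1) := inv_mem h
        rw [Subgroup.mem_upperCentralSeries_succ_iff] at h1
        have h2 := h1 ⟨y, hy⟩
        convert h2 using 1
        apply Subtype.ext
        simp [commutatorElement_def, hc', mul_assoc]
      have hfix : g * c * g⁻¹ = c := ih c hcX hcP hmem
      have hpow : ∀ k : ℕ, g ^ k * u * (g ^ k)⁻¹ = u * c ^ k := by
        intro k
        induction k with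
        | zero => simp
        | succ k ihk =>
          have h3 : g * u * g⁻¹ = u * c := by rw [hc]; group
          have h4 : g * c ^ k * g⁻¹ = c ^ k := by
            rw [← conj_pow, hfix]
          calc g ^ (k + 1) * u * (g ^ (k + 1))⁻¹ = g * (g ^ k * u * (g ^ k)⁻¹) * g⁻¹ := by
                rw [pow_succ']; group
            _ = g * (u * c ^ k) * g⁻¹ := by rw [ihk]
            _ = (g * u * g⁻¹) * (g * c ^ k * g⁻¹) := by group
            _ = u * c ^ (k + 1) := by
                rw [h3, h4, pow_succ']; group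
      have h5 := hpow (orderOf g)
      rw [pow_orderOf_eq_one] at h5
      have h6 : c ^ orderOf g = 1 := by
        have : u * c ^ orderOf g = u := by rw [← h5]; group
        exact mul_eq_left.mp this
      have h7 : orderOf c ∣ orderOf g := orderOf_dvd_of_pow_eq_one h6
      obtain ⟨k, hk⟩ := (IsPGroup.iff_orderOf.mp hP) ⟨c, hcP⟩
      have hk' : orderOf c = p ^ k := by
        rw [← hk]; exact (Subgroup.orderOf_mk c hcP).symm
      have h8 : orderOf c = 1 := by
        have hcop : Nat.Coprime (orderOf c) p :=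
          Nat.Coprime.coprime_dvd_left h7 hg
        rw [hk'] at hcop ⊢
        rcases k with _ | k
        · simp
        · exfalso
          have : p ∣ Nat.gcd (p ^ (k + 1)) p :=
            Nat.dvd_gcd (dvd_pow_self p (by omega)) dvd_rfl
          rw [hcop] at this
          exact hp.out.one_lt.ne' (Nat.dvd_one.mp this)
      have h9 : c = 1 := orderOf_eq_one_iff.mp h8
      have : u * c = g * u * g⁻¹ := by rw [hc]; group
      rw [← this, h9, mul_one]
  intro u hu
  apply key n u hu (hXP hu)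
  rw [hn]; exact mem_top _

/-- Let P be a Sylow p-subgroup of the finite group G. Then G has a normal p-complement if and only if P controls the fusion of its elements of order dividing p (dividing 4 when p = 2): whenever such an element a of P has a G-conjugate g a g⁻¹ in P, that conjugate is already x a x⁻¹ for some x in P. -/
theorem result {G : Type*} [Group G] [Finite G] {p : ℕ} [Fact p.Prime] (P : Sylow p G) :
    Cfsg.HasNormalPComplement p G ↔
      ∀ a ∈ (P : Subgroup G), (a ^ p = 1 ∨ (p = 2 ∧ a ^ 4 = 1)) → ∀ g : G, g * a * g⁻¹ ∈ (P : Subgroup G) →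
        ∃ x ∈ (P : Subgroup G), g * a * g⁻¹ = x * a * x⁻¹ := by
  constructor
  · intro h a ha _ g hga
    obtain ⟨N, hn, hQ⟩ := exists_complement_of_hasNormalPComplement h P
    have hsup : N ⊔ (P : Subgroup G) = ⊤ := hQ.sup_eq_top
    have hgm : g ∈ N ⊔ (P : Subgroup G) := by rw [hsup]; exact mem_top g
    obtain ⟨n, hnN, x, hx, rfl⟩ := Subgroup.mem_sup_of_normal_left.mp hgm
    refine ⟨x, hx, ?_⟩
    set b : G := x * a * x⁻¹ with hb
    have hbP : b ∈ (P : Subgroup G) :=
      (P : Subgroup G).mul_mem ((P : Subgroup G).mul_mem hx ha) ((P : Subgroup G).inv_mem hx)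
    have e : n * x * a * (n * x)⁻¹ = n * b * n⁻¹ := by rw [hb]; group
    rw [e] at hga ⊢
    have h1 : n * b * n⁻¹ * b⁻¹ ∈ (P : Subgroup G) :=
      (P : Subgroup G).mul_mem hga ((P : Subgroup G).inv_mem hbP)
    have h2 : n * b * n⁻¹ * b⁻¹ ∈ N := by
      have h3 : b * n⁻¹ * b⁻¹ ∈ N := hn.conj_mem _ (N.inv_mem hnN) b
      have h4 := N.mul_mem hnN h3
      convert h4 using 1
      group
    have h3 : n * b * n⁻¹ * b⁻¹ = 1 := (Subgroup.disjoint_def.mp hQ.disjoint) h2 h1
    exact mul_inv_eq_one.mp h3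
  · intro h
    apply hasNormalPComplement_of_hyp
    apply frobeniusHyp_of_sylow P
    intro Q hQP g hg hc
    have hQp : IsPGroup p Q := P.isPGroup'.to_le hQP
    obtain ⟨m, hm1, hm2, hm3⟩ : ∃ m : ℕ, p ∣ m ∧ p ∣ m.choose 2 ∧
        ∀ a : G, a ^ m = 1 → (a ^ p = 1 ∨ (p = 2 ∧ a ^ 4 = 1)) := by
      by_cases hp2 : p = 2
      · refine ⟨4, ?_, ?_, fun a ha => Or.inr ⟨hp2, ha⟩⟩
        · rw [hp2]; norm_num
        · rw [hp2]; decide
      · exact ⟨p, dvd_rfl, Cfsg.Agent.Lib.PGroup.Critical.prime_dvd_choose_two hp2,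
          fun a ha => Or.inl ha⟩
    haveI : Finite Q := inferInstance
    have hc' : (orderOf (conjAut Q g hg)).Coprime p :=
      Nat.Coprime.coprime_dvd_left (orderOf_conjAut_dvd Q g hg) hc
    have ha1 : conjAut Q g hg = 1 := by
      obtain ⟨H, hchar, h1, h2, h3⟩ := Cfsg.Agent.Lib.PGroup.Critical.exists_critical hQp
      have haH : ∀ x ∈ H, conjAut Q g hg x ∈ H := fun x hx =>
        (characteristic_iff_map_le.mp hchar (conjAut Q g hg)) ⟨x, hx, rfl⟩
      refine Cfsg.Agent.S0121.result hQp H hchar h1 h2 h3 _ hc' ?_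
      refine Cfsg.Agent.Lib.PGroup.Critical.fixes_of_fixes_kernel hQp H _ hc' haH hm1
        (fun x hx y hy => Cfsg.Agent.Lib.PGroup.Critical.critical_mul_pow hQp h1 h2 hm2 hx hy) ?_
      -- the subgroup of elements of `H` killed by `m`
      let X₀ : Subgroup Q :=
        { carrier := {x | x ∈ H ∧ x ^ m = 1}
          one_mem' := ⟨H.one_mem, one_pow _⟩
          mul_mem' := by
            rintro a b ⟨ha, ha'⟩ ⟨hb, hb'⟩
            refine ⟨H.mul_mem ha hb, ?_⟩
            rw [Cfsg.Agent.Lib.PGroup.Critical.critical_mul_pow hQp h1 h2 hm2 ha hb, ha', hb',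
              one_mul]
          inv_mem' := by
            rintro a ⟨ha, ha'⟩
            exact ⟨H.inv_mem ha, by rw [inv_pow, ha', inv_one]⟩ }
      let X : Subgroup G := X₀.map Q.subtype
      have hX : ∀ u ∈ X, g * u * g⁻¹ = u := by
        refine centralizes_of_fusion (P : Subgroup G) P.isPGroup' X ?_ g hc ?_ ?_
        · rintro _ ⟨x, -, rfl⟩
          exact hQP x.2
        · rintro _ ⟨x, ⟨hxH, hxm⟩, rfl⟩
          refine ⟨conjAut Q g hg x, ⟨haH x hxH, ?_⟩, ?_⟩
          · rw [← map_pow, hxm, map_one]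
          · rfl
        · rintro _ ⟨x, ⟨hxH, hxm⟩, rfl⟩
          have hxm' : (x : G) ^ m = 1 := by
            have := congrArg (Subtype.val) hxm
            simpa using this
          have hgx : g * (x : G) * g⁻¹ ∈ (P : Subgroup G) :=
            hQP ((conjAut Q g hg x).2)
          exact h x (hQP x.2) (hm3 _ hxm') g hgx
      intro x hxH hxm
      apply Subtype.ext
      exact hX x ⟨x, ⟨hxH, hxm⟩, rfl⟩
    rw [Subgroup.mem_centralizer_iff]
    intro q hq
    have h4 := congrArg (fun φ : MulAut Q => ((φ ⟨q, hq⟩ : Q) : G)) ha1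
    simp only [conjAut_apply_coe, MulAut.one_apply] at h4
    calc q * g = (g * q * g⁻¹) * g := by rw [h4]
      _ = g * q := by group

end Cfsg.Agent.S1946
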