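import Cfsg.Statements.S1951
import Mathlib
import Cfsg.Agent.Lib.CycBS.EA2

set_option autoImplicit false
open Cfsg

namespace Cfsg.Agent.S1951

/-- Let p be a prime and P a nontrivial elementary abelian Sylow p-subgroup of a finite nonabelian simple group G whose nonidentity elements are all conjugate in G. Suppose that two elements of P are conjugate in G only if they are conjugate in N_G(P), that the centralizer of every element of order p of P has a normal p-complement, and that every two elements of order p of G generate a p-solvable subgroup. Then p = 2. -/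
theorem result {G : Type*} [Group G] [Finite G] [IsSimpleGroup G] (hG : ¬ IsMulCommutative G) {p : ℕ} [Fact p.Prime] (P : Sylow p G)
    (hP1 : (P : Subgroup G) ≠ ⊥) (hPe : Cfsg.IsElementaryAbelian p (P : Subgroup G))
    (hconj : ∀ x ∈ (P : Subgroup G), ∀ y ∈ (P : Subgroup G), x ≠ 1 → y ≠ 1 → ∃ g : G, g * x * g⁻¹ = y)
    (ha : ∀ x ∈ (P : Subgroup G), ∀ y ∈ (P : Subgroup G), (∃ g : G, g * x * g⁻¹ = y) →
      ∃ n ∈ Subgroup.normalizer ((P : Subgroup G) : Set G), n * x * n⁻¹ = y)
    (hb : ∀ x ∈ (P : Subgroup G), orderOf x = p → Cfsg.HasNormalPComplement p ↥(Subgroup.centralizer ({x} : Set G)))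
    (hc : ∀ x y : G, orderOf x = p → orderOf y = p → Cfsg.IsPSolvable p ↥(Subgroup.closure ({x, y} : Set G))) :
    p = 2 := by
  classical
  have hp := (Fact.out : p.Prime)
  by_contra hp2
  have hp3 : 3 ≤ p := by
    have := hp.two_le
    omega
  cases nonempty_fintype G
  obtain ⟨⟨x, hxP⟩, hx1'⟩ := Subgroup.ne_bot_iff_exists_ne_one.1 hP1
  have hx1 : x ≠ 1 := fun h => hx1' (Subtype.ext h)
  have hxo : orderOf x = p := by
    have h1 : x ^ p = 1 := hPe.2 x hxP
    exact orderOf_eq_prime h1 hx1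
  have hxdvd : p ∣ Nat.card G := by
    rw [← hxo]
    exact orderOf_dvd_natCard x
  have hab : ∀ a ∈ (P : Subgroup G), ∀ b ∈ (P : Subgroup G), a * b = b * a := by
    intro a ha' b hb'
    have h := hPe.1.is_comm.comm ⟨a, ha'⟩ ⟨b, hb'⟩
    exact congrArg Subtype.val h
  obtain ⟨k, hk⟩ := IsPGroup.iff_card.1 P.isPGroup'
  have hk0 : k ≠ 0 := by
    rintro rfl
    rw [pow_zero] at hk
    have h2 : p ∣ Nat.card P := by
      have := orderOf_dvd_natCard (⟨x, hxP⟩ : (P : Subgroup G))
      rwa [Subgroup.orderOf_mk, hxo] at this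
    change p ∣ Nat.card (P : Subgroup G) at h2
    rw [hk] at h2
    exact hp.one_lt.ne' (Nat.dvd_one.1 h2)
  by_cases hk1 : k = 1
  · subst hk1
    rw [pow_one] at hk
    have hcP : IsCyclic (P : Subgroup G) := isCyclic_of_prime_card hk
    have hcyc : ∀ Q : Sylow p G, IsCyclic Q := fun Q =>
      isCyclic_of_surjective (P.equiv Q).toMonoidHom (P.equiv Q).surjective
    refine Cfsg.Agent.Lib.CycBS.false_of_simple ?_ hp3 hxdvd hc hcyc
    by_contra hn
    apply hG
    push_neg at hn
    exact ⟨⟨hn⟩⟩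
  · have hc9 : 9 ≤ Nat.card P := by
      change 9 ≤ Nat.card (P : Subgroup G)
      rw [hk]
      calc 9 = 3 ^ 2 := by norm_num
        _ ≤ p ^ 2 := Nat.pow_le_pow_left hp3 2
        _ ≤ p ^ k := Nat.pow_le_pow_right hp.pos (by omega)
    exact Cfsg.Agent.Lib.CycBS.EA.false_of_ea hp3 P hab hconj hc hxP hxo (hb x hxP hxo) hc9

end Cfsg.Agent.S1951
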