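import Cfsg.Statements.S1985
import Mathlib
import Cfsg.Agent.Lib.PGroup.WeakEngel
import Cfsg.Agent.Lib.PGroup.KInfBridge
-- import your own Cfsg.Agent.* helpers here

set_option autoImplicit false
universe u
open Cfsg

namespace Cfsg.Agent.S1985

/-- Let p be an odd prime and G a finite group. Then the lower K-infinity subgroup controls weak closure of elements in G: the lower K-infinity subgroup of every p-subgroup P of G contains Z(P), and for some (equivalently, every) Sylow p-subgroup S of G, with K the lower K-infinity subgroup of S, every element of S commuting with all of N_G(K) is weakly closed in S with respect to G (every G-conjugate of it lying in S equals it). -/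
theorem result {G : Type u} [Group G] [Finite G] {p : ℕ} [Fact p.Prime] (hp : p ≠ 2) : Cfsg.ControlsWeakClosureOfElementsIn p (Cfsg.inducedFunctor (G := G) Cfsg.kInfLower) ⊤ := by
  have hp3 : 3 ≤ p := by
    have := (Fact.out : p.Prime).two_le
    omega
  have hiter : ∀ (A B : Subgroup G) (k : ℕ), ⁅⁅A, B⁆, B⁆ = ⊥ → iterCommutator A B (k + 2) = ⊥ := by
    intro A B k h
    induction k with
    | zero => exact h
    | succ k ih =>
      change ⁅iterCommutator A B (k + 2), B⁆ = ⊥
      rw [ih, Subgroup.commutator_bot_left]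
  refine Cfsg.Agent.Lib.PGroup.WeakEngel.controls_weak_closure
    Cfsg.Agent.Lib.PGroup.KInfBridge.isConj_lower Cfsg.Agent.Lib.PGroup.KInfBridge.center_le_lower ?_ ⊤
  intro H T hTH hTp hTi hN
  obtain ⟨g, hgT, hgQ, hq⟩ := Cfsg.Agent.Lib.PGroup.KInfBridge.exists_element hTH hTp hTi hN
  refine ⟨g, hgT, hgQ, fun U V _ hUZ => ?_⟩
  have h1 : ⁅⁅U.map H.subtype, Subgroup.zpowers g⁆, Subgroup.zpowers g⁆ = ⊥ := by
    rw [eq_bot_iff, ← hq]
    exact Subgroup.commutator_mono (Subgroup.commutator_mono hUZ le_rfl) le_rfl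
  obtain ⟨k, hk⟩ : ∃ k, p - 1 = k + 2 := ⟨p - 3, by omega⟩
  rw [hk, hiter _ _ k h1]
  exact bot_le

end Cfsg.Agent.S1985
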