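import Cfsg.Statements.S1988
import Cfsg.Agent.S1990
import Cfsg.Agent.S1987
import Cfsg.Agent.Lib.PGroup.KInfIso
import Cfsg.Agent.Lib.LocalY.Kieler
import Cfsg.Agent.Lib.Transfer.WellPlaced
import Cfsg.Agent.Lib.Transfer.Basic
set_option autoImplicit false
universe u
open Cfsg

namespace Cfsg.Agent.S1988


open Subgroup Cfsg.Agent.Lib.Transfer.Basic

theorem hnpc_of_centralizes {G : Type u} [Group G] [Finite G] {p : ℕ} [Fact p.Prime] (S : Sylow p G)
    {K : Subgroup G} (hSC : (S : Subgroup G) ⊓ centralizer (K : Set G) ≤ K)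
    (hSN : (S : Subgroup G) ≤ normalizer (K : Set G))
    (h : ∀ g ∈ normalizer (K : Set G), (orderOf g).Coprime p → g ∈ centralizer (K : Set G)) :
    HasNormalPComplement p ↥(normalizer (K : Set G)) := by
  classical
  set N : Subgroup G := normalizer (K : Set G) with hN
  set C : Subgroup G := centralizer (K : Set G) with hC
  have hCN : C ≤ N := Subgroup.centralizer_le_normalizer _
  have hconj : ∀ n ∈ N, ∀ x ∈ C, n * x * n⁻¹ ∈ C := by
    intro n hn x hx
    refine mem_centralizer_iff.2 fun u hu => ?_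
    have h1 : n⁻¹ * u * n ∈ K := by
      have := (Subgroup.mem_normalizer_iff.1 (N.inv_mem hn) u).1 hu
      simpa using this
    have h2 := (mem_centralizer_iff.1 hx) _ h1
    calc u * (n * x * n⁻¹) = n * ((n⁻¹ * u * n) * x) * n⁻¹ := by group
      _ = n * (x * (n⁻¹ * u * n)) * n⁻¹ := by rw [h2]
      _ = _ := by group
  have hnC : (C.subgroupOf N).Normal := by
    refine ⟨fun x hx n => ?_⟩
    rw [Subgroup.mem_subgroupOf] at hx ⊢
    exact hconj n n.2 x hx
  have hi : ¬ p ∣ ((S : Subgroup G) ⊓ C).relIndex C :=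
    Cfsg.Agent.Lib.LocalY.Kieler.not_dvd_relIndex_inf hCN hnC S.isPGroup'
      (Cfsg.Agent.Lib.Transfer.WellPlaced.not_dvd_relIndex_of_le S hSN)
  have hR' : IsPGroup p ↥(((S : Subgroup G) ⊓ C).subgroupOf C) :=
    (S.isPGroup'.to_le inf_le_left).comap_of_injective _ C.subtype_injective
  let P₁ : Sylow p C := hR'.toSylow hi
  have hP₁K : ∀ x : C, x ∈ (P₁ : Subgroup C) → (x : G) ∈ K := fun x hx => hSC hx
  have hcentral : normalizer ((P₁ : Subgroup C) : Set C) ≤ centralizer ((P₁ : Subgroup C) : Set C) := by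
    intro y _
    rw [Subgroup.mem_centralizer_iff]
    intro x hx
    apply Subtype.ext
    exact (mem_centralizer_iff.1 y.2) x (hP₁K x hx)
  have hcompl := MonoidHom.ker_transferSylow_isComplement' P₁ hcentral
  set E₀ : Subgroup C := (MonoidHom.transferSylow P₁ hcentral).ker with hE₀
  haveI hE₀n : E₀.Normal := MonoidHom.normal_ker _
  have hcop : (Nat.card E₀).Coprime p :=
    ((Nat.Prime.coprime_iff_not_dvd Fact.out).2 (MonoidHom.not_dvd_card_ker_transferSylow P₁ hcentral)).symm
  have hmemE : ∀ x : C, x ∈ E₀ ↔ Nat.Coprime (orderOf x) p :=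
    mem_iff_coprime_of_normal E₀ hcop (isPGroup_quotient_of_isComplement' hcompl)
  set E : Subgroup G := E₀.map C.subtype with hE
  have hmem : ∀ x : G, x ∈ C → Nat.Coprime (orderOf x) p → x ∈ E := by
    intro x hx hc
    refine ⟨⟨x, hx⟩, (hmemE _).2 ?_, rfl⟩
    rwa [← Subgroup.orderOf_coe]
  have hmem' : ∀ x ∈ E, x ∈ C ∧ Nat.Coprime (orderOf x) p := by
    rintro _ ⟨x, hx, rfl⟩
    refine ⟨x.2, ?_⟩
    have := (hmemE x).1 hx
    rwa [← Subgroup.orderOf_coe] at this
  refine hasNormalPComplement_iff.2 ⟨E.subgroupOf N, ?_, ?_, ?_⟩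
  · refine ⟨fun x hx n => ?_⟩
    rw [Subgroup.mem_subgroupOf] at hx ⊢
    obtain ⟨h1, h2⟩ := hmem' _ hx
    refine hmem _ (hconj n n.2 _ h1) ?_
    have e : ((n * x * n⁻¹ : N) : G) = (n : G) * x * (n : G)⁻¹ := by simp
    rwa [e, orderOf_conj_eq]
  · have h1 : Nat.card (E.subgroupOf N) ∣ Nat.card E :=
      Subgroup.card_comap_dvd_of_injective E N.subtype N.subtype_injective
    have h2 : Nat.card E = Nat.card E₀ := Subgroup.card_map_of_injective C.subtype_injective
    rw [h2] at h1
    exact Nat.Coprime.coprime_dvd_left h1 hcop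
  · intro q
    induction q using QuotientGroup.induction_on with
    | H y =>
      obtain ⟨a, b, hab, -, -, -, ⟨k, hk⟩, hb⟩ := exists_pPart_decomp (p := p) y
      haveI : (E.subgroupOf N).Normal := by
        refine ⟨fun x hx n => ?_⟩
        rw [Subgroup.mem_subgroupOf] at hx ⊢
        obtain ⟨h1, h2⟩ := hmem' _ hx
        refine hmem _ (hconj n n.2 _ h1) ?_
        have e : ((n * x * n⁻¹ : N) : G) = (n : G) * x * (n : G)⁻¹ := by simp
        rwa [e, orderOf_conj_eq]
      refine ⟨k, ?_⟩
      have hbE : b ∈ E.subgroupOf N := by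
        rw [Subgroup.mem_subgroupOf]
        refine hmem _ (h _ b.2 ?_) ?_
        · rwa [Subgroup.orderOf_coe]
        · rwa [Subgroup.orderOf_coe]
      have h1 : ((b : N) : N ⧸ E.subgroupOf N) = 1 := (QuotientGroup.eq_one_iff b).2 hbE
      rw [← hab, QuotientGroup.mk_mul, h1, mul_one, ← QuotientGroup.mk_pow, ← hk, pow_orderOf_eq_one]
      rfl


/-- Let p be an odd prime, G a finite group with Sylow p-subgroup S and K the lower K-infinity subgroup of S. If N_G(K) has a normal p-complement, or if N_G(K)/C_G(K) is a p-group (every element of N_G(K) of order prime to p centralizes K), then G has a normal p-complement. -/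
theorem result {G : Type u} [Group G] [Finite G] {p : ℕ} [Fact p.Prime] (hp : p ≠ 2) (S : Sylow p G) (h : Cfsg.HasNormalPComplement p ↥(Subgroup.normalizer ((Cfsg.inducedFunctor Cfsg.kInfLower (S : Subgroup G) : Subgroup G) : Set G)) ∨ ∀ g ∈ Subgroup.normalizer ((Cfsg.inducedFunctor Cfsg.kInfLower (S : Subgroup G) : Subgroup G) : Set G), (orderOf g).Coprime p → g ∈ Subgroup.centralizer ((Cfsg.inducedFunctor Cfsg.kInfLower (S : Subgroup G) : Subgroup G) : Set G)) : Cfsg.HasNormalPComplement p G := by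
  have hN' : HasNormalPComplement p ↥(Subgroup.normalizer ((inducedFunctor kInfLower (S : Subgroup G) : Subgroup G) : Set G)) := by
    rcases h with h | h
    · exact h
    · refine hnpc_of_centralizes S ?_ ?_ h
      · rintro x ⟨hxS, hxC⟩
        have h1 : (⟨x, hxS⟩ : (S : Subgroup G)) ∈ kInfLower ↥(S : Subgroup G) := by
          haveI : Group.IsNilpotent (S : Subgroup G) := S.isPGroup'.isNilpotent
          refine Cfsg.Agent.Lib.PGroup.KInf.centralizer_kInfLower_le (mem_centralizer_iff.2 fun k hk => ?_)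
          apply Subtype.ext
          exact (mem_centralizer_iff.1 hxC) _ ⟨k, hk, rfl⟩
        exact ⟨_, h1, rfl⟩
      · exact Subgroup.le_normalizer.trans
          (Cfsg.Agent.Lib.Transfer.FunctorComplement.normalizer_le_iW
            (Cfsg.Agent.Lib.PGroup.KInfIso.isCharPFunctor_kInfLower p) S.isPGroup')
  exact Cfsg.Agent.S1990.result hp kInfLower (Cfsg.Agent.Lib.PGroup.KInfIso.isCharPFunctor_kInfLower p) S hN'
    (fun K R _ hst T => Cfsg.Agent.S1987.result hp hst T)


end Cfsg.Agent.S1988
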