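import Cfsg.Statements.S2001
import Cfsg.Agent.Lib.Transfer.CentricControl
set_option autoImplicit false
open Cfsg

namespace Cfsg.Agent.S2001


open Subgroup Cfsg.Agent.Lib.Transfer.WellPlaced Cfsg.Agent.Lib.Transfer.WellPlacedControl
open Cfsg.Agent.Lib.Transfer.FamilyControl Cfsg.Agent.Lib.Transfer.CentricControl
open scoped commutatorElement


/-- Let p be a prime dividing the order of the finite group G, P a Sylow p-subgroup, W a conjugacy functor for p on G with Z(H) ≤ W(H) for every nontrivial p-subgroup H, and V a central functor: a conjugacy functor with V(H) ≤ Z(H), and V(H) ≤ V(K) whenever Z(H) ≤ Z(K), for nontrivial p-subgroups H, K. Say that W with V controls transfer in a subgroup L when some Sylow p-subgroup Q of L satisfies Q ∩ L' = (Q ∩ (N_L(W(Q)))')·(Q ∩ (C_L(V(Q)))') as a product of two subgroups. If W with V controls transfer in N_G(H) for every subgroup H with Z(P) ≤ H ≤ P, then W with V controls transfer in G. -/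
theorem result {G : Type*} [Group G] [Finite G] {p : ℕ} [Fact p.Prime] (hdiv : p ∣ Nat.card G) (P : Sylow p G) (W V : Subgroup G → Subgroup G) (hW : Cfsg.IsConjugacyFunctor p W) (hV : Cfsg.IsConjugacyFunctor p V) (hWZ : ∀ H : Subgroup G, IsPGroup p ↥H → H ⊓ Subgroup.centralizer ((H : Subgroup G) : Set G) ≤ W H) (hVZ : ∀ H : Subgroup G, IsPGroup p ↥H → V H ≤ H ⊓ Subgroup.centralizer ((H : Subgroup G) : Set G)) (hVmono : ∀ H K : Subgroup G, IsPGroup p ↥H → IsPGroup p ↥K → H ≠ ⊥ → K ≠ ⊥ → H ⊓ Subgroup.centralizer ((H : Subgroup G) : Set G) ≤ K ⊓ Subgroup.centralizer ((K : Subgroup G) : Set G) → V H ≤ V K) (hloc : ∀ H : Subgroup G, (P : Subgroup G) ⊓ Subgroup.centralizer (((P : Subgroup G) : Subgroup G) : Set G) ≤ H → H ≤ (P : Subgroup G) → ∃ Q : Subgroup G, Q ≤ Subgroup.normalizer ((H : Subgroup G) : Set G) ∧ IsPGroup p ↥Q ∧ ¬ p ∣ (Q).relIndex (Subgroup.normalizer ((H : Subgroup G) : Set G)) ∧ ∀ x : G, x ∈ Q ⊓ ⁅Subgroup.normalizer ((H :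 Subgroup G) : Set G), Subgroup.normalizer ((H : Subgroup G) : Set G)⁆ ↔ ∃ a ∈ Q ⊓ ⁅Subgroup.normalizer ((H : Subgroup G) : Set G) ⊓ Subgroup.normalizer ((W Q : Subgroup G) : Set G), Subgroup.normalizer ((H : Subgroup G) : Set G) ⊓ Subgroup.normalizer ((W Q : Subgroup G) : Set G)⁆, ∃ b ∈ Q ⊓ ⁅Subgroup.normalizer ((H : Subgroup G) : Set G) ⊓ Subgroup.centralizer ((V Q : Subgroup G) : Set G), Subgroup.normalizer ((H : Subgroup G) : Set G) ⊓ Subgroup.centralizer ((V Q : Subgroup G) : Set G)⁆, x = a * b) : ∃ Q : Subgroup G, IsPGroup p ↥Q ∧ ¬ p ∣ Q.index ∧ ∀ x : G, x ∈ Q ⊓ commutator G ↔ ∃ a ∈ Q ⊓ ⁅Subgroup.normalizer ((W Q : Subgroup G) : Set G), Subgroup.normalizer ((W Q : Subgroup G) : Set G)⁆, ∃ b ∈ Q ⊓ ⁅Subgroup.centralizer ((V Q : Subgroup G) : Set G), Subgroup.centralizer ((V Q : Subgroup G) : Set G)⁆, x = a * b := by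
  classical
  haveI hG : Finite G := inferInstance
  set Z : Subgroup G := (P : Subgroup G) ⊓ centralizer (((P : Subgroup G) : Subgroup G) : Set G) with hZdef
  have hPne : (P : Subgroup G) ≠ ⊥ := P.ne_bot_of_dvd_card hdiv
  have hZne : Z ≠ ⊥ := by
    intro hb
    haveI : Nontrivial (P : Subgroup G) := by
      rw [Subgroup.nontrivial_iff_ne_bot]
      exact hPne
    haveI := (P.isPGroup').center_nontrivial
    obtain ⟨z, hz⟩ := exists_ne (1 : Subgroup.center (P : Subgroup G))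
    have h1 : (((z : (P : Subgroup G)) : G)) ∈ Z := by
      refine ⟨(z : (P : Subgroup G)).2, mem_centralizer_iff.2 fun s hs => ?_⟩
      have := (Subgroup.mem_center_iff.1 z.2) ⟨s, hs⟩
      exact congrArg Subtype.val this
    rw [hb, Subgroup.mem_bot] at h1
    apply hz
    exact Subtype.ext (Subtype.ext h1)
  set N₁ : Subgroup G := Nz (W P) with hN₁
  set C₁ : Subgroup G := centralizer ((V P : Subgroup G) : Set G) with hC₁
  have hPN₁ : (P : Subgroup G) ≤ N₁ := (le_Nz_self _).trans (Nz_le_Nz_W hW P.isPGroup')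
  have hPV : (P : Subgroup G) ≤ Nz (V P) := (le_Nz_self _).trans (Nz_le_Nz_W hV P.isPGroup')
  have hPC₁ : ∀ s ∈ (P : Subgroup G), cj s C₁ = C₁ := by
    intro s hs
    have hinc : ∀ t ∈ (P : Subgroup G), cj t C₁ ≤ C₁ := by
      rintro t ht _ ⟨h, hh, rfl⟩
      refine mem_centralizer_iff.2 fun v hv => ?_
      have h1 : t⁻¹ * v * t ∈ V P := by
        have := (Subgroup.mem_normalizer_iff.1 (hPV ((P : Subgroup G).inv_mem ht)) v).1 hv
        simpa using this
      have h2 := (mem_centralizer_iff.1 hh) _ h1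
      show v * (t * h * t⁻¹) = t * h * t⁻¹ * v
      calc v * (t * h * t⁻¹) = t * ((t⁻¹ * v * t) * h) * t⁻¹ := by group
        _ = t * (h * (t⁻¹ * v * t)) * t⁻¹ := by rw [h2]
        _ = _ := by group
    refine le_antisymm (hinc s hs) ?_
    have := cj_mono (g := s) (hinc s⁻¹ ((P : Subgroup G).inv_mem hs))
    rwa [cj_cj_inv] at this
  have hcomm₁ : ∀ s ∈ (P : Subgroup G), ∀ a ∈ (P : Subgroup G) ⊓ ⁅N₁, N₁⁆, s * a * s⁻¹ ∈ (P : Subgroup G) ⊓ ⁅N₁, N₁⁆ := by
    intro s hs a ha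
    refine ⟨(P : Subgroup G).mul_mem ((P : Subgroup G).mul_mem hs ha.1) ((P : Subgroup G).inv_mem hs), ?_⟩
    have h1 : cj s ⁅N₁, N₁⁆ = ⁅N₁, N₁⁆ := by
      rw [cj_commutator, cj_eq_self_of_mem (hPN₁ hs)]
    rw [← h1]
    exact conj_mem_cj ha.2
  have hcomm₂ : ∀ s ∈ (P : Subgroup G), ∀ a ∈ (P : Subgroup G) ⊓ ⁅C₁, C₁⁆, s * a * s⁻¹ ∈ (P : Subgroup G) ⊓ ⁅C₁, C₁⁆ := by
    intro s hs a ha
    refine ⟨(P : Subgroup G).mul_mem ((P : Subgroup G).mul_mem hs ha.1) ((P : Subgroup G).inv_mem hs), ?_⟩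
    have h1 : cj s ⁅C₁, C₁⁆ = ⁅C₁, C₁⁆ := by
      rw [cj_commutator, hPC₁ s hs]
    rw [← h1]
    exact conj_mem_cj ha.2
  let D : Subgroup G :=
    { carrier := {x | ∃ a ∈ (P : Subgroup G) ⊓ ⁅N₁, N₁⁆, ∃ b ∈ (P : Subgroup G) ⊓ ⁅C₁, C₁⁆, x = a * b}
      one_mem' := ⟨1, one_mem _, 1, one_mem _, by simp⟩
      mul_mem' := by
        rintro _ _ ⟨a, ha, b, hb, rfl⟩ ⟨a', ha', b', hb', rfl⟩
        refine ⟨a * (b * a' * b⁻¹), mul_mem ha (hcomm₁ b hb.1 a' ha'), b * b', mul_mem hb hb', by group⟩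
      inv_mem' := by
        rintro _ ⟨a, ha, b, hb, rfl⟩
        refine ⟨b⁻¹ * a⁻¹ * b, ?_, b⁻¹, inv_mem hb, by group⟩
        have := hcomm₁ b⁻¹ (inv_mem hb.1) a⁻¹ (inv_mem ha)
        simpa using this }
  have hA₁D : (P : Subgroup G) ⊓ ⁅N₁, N₁⁆ ≤ D := fun a ha => ⟨a, ha, 1, one_mem _, by simp⟩
  have hB₁D : (P : Subgroup G) ⊓ ⁅C₁, C₁⁆ ≤ D := fun b hb => ⟨1, one_mem _, b, hb, by simp⟩
  have hRelD : IsRel (focalRel D) := isRel_focalRel D
  let 𝓣 : Subgroup G → Prop := fun T => ∃ x : G, cj x T ≤ P ∧ Z ≤ cj x T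
  have hZP : Z ≤ P := inf_le_left
  have hZcent : Z ≤ centralizer (((P : Subgroup G) : Subgroup G) : Set G) := inf_le_right
  have hZR : ∀ T : Subgroup G, T ≤ P → Z ≤ (P : Subgroup G) ⊓ Nz T := by
    intro T hT
    refine le_inf hZP ?_
    intro z hz
    refine Subgroup.centralizer_le_normalizer _ (mem_centralizer_iff.2 fun u hu => ?_)
    exact (mem_centralizer_iff.1 (hZcent hz)) u (hT hu)
  have hZZ : ∀ R : Subgroup G, R ≤ P → Z ≤ R → Z ≤ R ⊓ centralizer (R : Set G) := by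
    intro R hR hZ
    refine le_inf hZ ?_
    intro z hz
    exact mem_centralizer_iff.2 fun u hu => (mem_centralizer_iff.1 (hZcent hz)) u (hR hu)
  have hmain : ∀ (B : Subgroup G), B ≤ P → ∀ g : G, cj g B ≤ P → focalRel D B g := by
    refine abstract_main' P {W} (by rintro _ rfl; exact hW) hRelD 𝓣 ⟨1, ?_, ?_⟩ ?_ ?_ ?_ ?_
    · rw [cj_one]
    · rw [cj_one]
      exact hZP
    · rintro _ rfl T hT - g hg
      refine ⟨g⁻¹, ?_, ?_⟩
      · rw [cj_inv_cj]
        exact (W_le hW (isPGroup_inf P _)).trans inf_le_left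
      · rw [cj_inv_cj]
        exact (hZZ _ inf_le_left (hZR T hT)).trans (hWZ _ (isPGroup_inf P _))
    · rintro _ rfl C hC y hy hyC c hc
      refine hA₁D ⟨(P : Subgroup G).mul_mem ((P : Subgroup G).inv_mem (hC hc)) (hyC (conj_mem_cj hc)), ?_⟩
      have e2 : c⁻¹ * (y * c * y⁻¹) = ⁅c⁻¹, y⁆ := by
        rw [commutatorElement_def]; group
      rw [e2]
      exact Subgroup.commutator_mem_commutator (N₁.inv_mem (hPN₁ (hC hc))) hy
    · intro U hU hfn hU𝓣 l hl IH
      refine hout_of_congr P hRelD (fun {B g k} h hgk b hb => ?_) (Z := Z) hZP hZcent hU hfn ?_ hl IH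
      · rw [← hgk b hb]
        exact h b hb
      · intro hZU
        exact hU𝓣 ⟨1, by rwa [cj_one], by rwa [cj_one]⟩
    · rintro T hTS ⟨x, hxT, hZx⟩ hfn IHW C hC y hy hyC c hc
      obtain ⟨Q, hQN, hQp, hQi, hQc⟩ := hloc (cj x T) (hZx) hxT
      obtain ⟨τ, hτH, hτQ⟩ := exists_transport P hfn rfl hQN hQp hQi
      set H : Subgroup G := cj x T with hH
      set R : Subgroup G := (P : Subgroup G) ⊓ Nz T with hR
      have hNH : cj τ (Nz H) = Nz T := by rw [← Nz_cj, hτH]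
      have hWτ : W R = cj τ (W Q) := by rw [← hτQ, W_cj hW hQp]
      have hVτ : V R = cj τ (V Q) := by rw [← hτQ, W_cj hV hQp]
      have hRp : IsPGroup p R := isPGroup_inf P _
      have hRT : R ≤ Nz T := inf_le_right
      -- the `V` step
      have hRne : R ≠ ⊥ := by
        intro h
        apply hZne
        have := hZR T hTS
        rw [← hR, h] at this
        exact le_bot_iff.1 this
      have hVle : V (P : Subgroup G) ≤ V R := by
        refine hVmono _ _ P.isPGroup' hRp hPne hRne ?_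
        have : (P : Subgroup G) ⊓ centralizer (((P : Subgroup G) : Subgroup G) : Set G) = Z := rfl
        rw [this]
        exact hZZ R inf_le_left (hZR T hTS)
      -- the element
      have hzR : c⁻¹ * (y * c * y⁻¹) ∈ R := R.mul_mem (R.inv_mem (hC hc)) (hyC (conj_mem_cj hc))
      have hzc : c⁻¹ * (y * c * y⁻¹) ∈ ⁅Nz T, Nz T⁆ := by
        have e2 : c⁻¹ * (y * c * y⁻¹) = ⁅c⁻¹, y⁆ := by
          rw [commutatorElement_def]; group
        rw [e2]
        exact Subgroup.commutator_mem_commutator ((Nz T).inv_mem (hRT (hC hc))) hy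
      set z : G := c⁻¹ * (y * c * y⁻¹) with hz
      have hz₀ : τ⁻¹ * z * τ ∈ Q ⊓ ⁅Nz H, Nz H⁆ := by
        constructor
        · rw [← hτQ] at hzR
          exact mem_cj.1 hzR
        · rw [← hNH, ← cj_commutator] at hzc
          exact mem_cj.1 hzc
      obtain ⟨a₀, ha₀, b₀, hb₀, hab⟩ := (hQc _).1 hz₀
      have hzab : z = (τ * a₀ * τ⁻¹) * (τ * b₀ * τ⁻¹) := by
        have : z = τ * (τ⁻¹ * z * τ) * τ⁻¹ := by group
        rw [this, hab]
        group
      rw [hzab]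
      refine D.mul_mem ?_ ?_
      · -- the `W` part
        have hRL : R ≤ Nz T ⊓ Nz (W R) :=
          le_inf inf_le_right ((le_Nz_self R).trans (Nz_le_Nz_W hW hRp))
        have hle : R ⊓ ⁅Nz T ⊓ Nz (W R), Nz T ⊓ Nz (W R)⁆ ≤ D := by
          refine inf_commutator_le_of_focal_rel hRL hRp (not_dvd_relIndex_mono hRL inf_le_left hfn) ?_
          intro x u hx hu hux
          have hz1 : zpowers x ≤ R := by simpa using hx
          have hz2 : cj u (zpowers x) ≤ R := by
            rintro _ ⟨z, ⟨k, rfl⟩, rfl⟩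
            have : u * x ^ k * u⁻¹ = (u * x * u⁻¹) ^ k := by simp
            show u * x ^ k * u⁻¹ ∈ _
            rw [this]
            exact Subgroup.zpow_mem _ hux _
          exact IHW W rfl (zpowers x) hz1 u hu hz2 x (mem_zpowers x)
        refine hle ⟨?_, ?_⟩
        · rw [← hτQ]
          exact conj_mem_cj ha₀.1
        · have e : cj τ (Nz H ⊓ Nz (W Q)) = Nz T ⊓ Nz (W R) := by
            rw [cj_inf, hNH, hWτ, Nz_cj]
          rw [← e, ← cj_commutator]
          exact conj_mem_cj ha₀.2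
      · -- the `V` part
        refine hB₁D ⟨?_, ?_⟩
        · have : τ * b₀ * τ⁻¹ ∈ R := by
            rw [← hτQ]
            exact conj_mem_cj hb₀.1
          exact this.1
        · have hle : cj τ (Nz H ⊓ centralizer ((V Q : Subgroup G) : Set G)) ≤ C₁ := by
            rintro _ ⟨h, hh, rfl⟩
            refine Subgroup.centralizer_le hVle (mem_centralizer_iff.2 ?_)
            intro v hv
            rw [SetLike.mem_coe, hVτ] at hv
            obtain ⟨v₀, hv₀, rfl⟩ := hv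
            have h1 := (mem_centralizer_iff.1 hh.2) v₀ hv₀
            show τ * v₀ * τ⁻¹ * (τ * h * τ⁻¹) = τ * h * τ⁻¹ * (τ * v₀ * τ⁻¹)
            calc τ * v₀ * τ⁻¹ * (τ * h * τ⁻¹) = τ * (v₀ * h) * τ⁻¹ := by group
              _ = τ * (h * v₀) * τ⁻¹ := by rw [h1]
              _ = _ := by group
          have h2 : τ * b₀ * τ⁻¹ ∈ cj τ ⁅Nz H ⊓ centralizer ((V Q : Subgroup G) : Set G), Nz H ⊓ centralizer ((V Q : Subgroup G) : Set G)⁆ :=
            conj_mem_cj hb₀.2
          rw [cj_commutator] at h2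
          exact Subgroup.commutator_mono hle hle h2
  refine ⟨P, P.isPGroup', P.not_dvd_index, fun x => ⟨fun hx => ?_, ?_⟩⟩
  · have h1 : (P : Subgroup G) ⊓ commutator G ≤ D := by
      refine inf_commutator_le_of_focal P fun x u hx hu => ?_
      have h1 : zpowers x ≤ P := by simpa using hx
      have h2 : cj u (zpowers x) ≤ P := by
        rintro _ ⟨z, ⟨k, rfl⟩, rfl⟩
        have : u * x ^ k * u⁻¹ = (u * x * u⁻¹) ^ k := by simp
        show u * x ^ k * u⁻¹ ∈ _
        rw [this]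
        exact Subgroup.zpow_mem _ hu _
      exact hmain _ h1 u h2 x (mem_zpowers x)
    exact h1 hx
  · rintro ⟨a, ha, b, hb, rfl⟩
    refine ⟨mul_mem ha.1 hb.1, mul_mem ?_ ?_⟩
    · exact Subgroup.commutator_mono le_top le_top ha.2
    · exact Subgroup.commutator_mono le_top le_top hb.2


end Cfsg.Agent.S2001
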