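import Cfsg.Statements.S2002
import Cfsg.Agent.Lib.Transfer.CentricControl
set_option autoImplicit false
open Cfsg

namespace Cfsg.Agent.S2002


open Subgroup Cfsg.Agent.Lib.Transfer.WellPlaced Cfsg.Agent.Lib.Transfer.WellPlacedControl
open Cfsg.Agent.Lib.Transfer.FamilyControl Cfsg.Agent.Lib.Transfer.CentricControl

section chains

variable {G : Type*} [Group G] [Finite G]

/-- Chains of conjugations by elements of `A` staying in `S`. -/
inductive SChain (A : Set G) (S : Subgroup G) : Subgroup G → G → Prop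
  | nil {B : Subgroup G} : B ≤ S → SChain A S B 1
  | cons {B : Subgroup G} {x c : G} : B ≤ S → x ∈ A → SChain A S (cj x B) c → SChain A S B (c * x)

variable {A : Set G} {S₀ : Subgroup G}

theorem SChain.le {B : Subgroup G} {c : G} (h : SChain A S₀ B c) : B ≤ S₀ := by
  cases h with
  | nil h => exact h
  | cons h _ _ => exact h

theorem SChain.target {B : Subgroup G} {c : G} (h : SChain A S₀ B c) : cj c B ≤ S₀ := by
  induction h with
  | nil h => rwa [cj_one]
  | cons _ _ _ ih => rwa [cj_mul]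

theorem SChain.restrict {B : Subgroup G} {c : G} (h : SChain A S₀ B c) :
    ∀ {C : Subgroup G}, C ≤ B → SChain A S₀ C c := by
  induction h with
  | nil h => intro C hC; exact SChain.nil (hC.trans h)
  | cons hB hx _ ih =>
    intro C hC
    exact SChain.cons (hC.trans hB) hx (ih (cj_mono hC))

theorem SChain.comp {B : Subgroup G} {c : G} (h : SChain A S₀ B c) :
    ∀ {k : G}, SChain A S₀ (cj c B) k → SChain A S₀ B (k * c) := by
  induction h with
  | nil h =>
    intro k hk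
    rw [cj_one] at hk
    simpa using hk
  | cons hB hx _ ih =>
    intro k hk
    rw [cj_mul] at hk
    rw [← mul_assoc]
    exact SChain.cons hB hx (ih hk)

theorem SChain.one_step {B : Subgroup G} {x : G} (hB : B ≤ S₀)
    (hBx : cj x B ≤ S₀) (hx : x ∈ A) : SChain A S₀ B x := by
  have := SChain.cons hB hx (SChain.nil hBx)
  simpa using this

theorem SChain.inv (hA : ∀ x ∈ A, x⁻¹ ∈ A) {B : Subgroup G} {c : G} (h : SChain A S₀ B c) :
    SChain A S₀ (cj c B) c⁻¹ := by
  induction h with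
  | nil h => simpa [cj_one] using SChain.nil h
  | @cons B x c hB hx h₁ ih =>
    rw [mul_inv_rev, cj_mul]
    refine SChain.comp ih ?_
    rw [cj_inv_cj]
    refine SChain.one_step h₁.le ?_ (hA x hx)
    rwa [cj_inv_cj]

/-- The relation. -/
def sRel (A : Set G) (S : Subgroup G) : Subgroup G → G → Prop :=
  fun B g => ∃ c : G, SChain A S B c ∧ ∀ b ∈ B, c * b * c⁻¹ = g * b * g⁻¹

theorem isRel_sRel (hA : ∀ x ∈ A, x⁻¹ ∈ A) : IsRel (sRel A S₀) where
  restrict := by
    rintro B C g ⟨c, h1, h2⟩ hC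
    exact ⟨c, h1.restrict hC, fun b hb => h2 b (hC hb)⟩
  comp := by
    rintro B g k ⟨c, h1, h2⟩ ⟨c', h3, h4⟩
    rw [← cj_eq_of_agree h2] at h3 h4
    refine ⟨c' * c, h1.comp h3, fun b hb => ?_⟩
    have e1 : c' * c * b * (c' * c)⁻¹ = c' * (c * b * c⁻¹) * c'⁻¹ := by group
    have e2 : k * g * b * (k * g)⁻¹ = k * (g * b * g⁻¹) * k⁻¹ := by group
    rw [e1, h4 _ (conj_mem_cj hb), h2 b hb, e2]
  inv := by
    rintro B g ⟨c, h1, h2⟩
    rw [← cj_eq_of_agree h2]
    refine ⟨c⁻¹, h1.inv hA, ?_⟩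
    rintro _ ⟨b, hb, rfl⟩
    have := h2 b hb
    show c⁻¹ * (c * b * c⁻¹) * c⁻¹⁻¹ = g⁻¹ * (c * b * c⁻¹) * g⁻¹⁻¹
    have e1 : c⁻¹ * (c * b * c⁻¹) * c⁻¹⁻¹ = b := by group
    have e2 : g⁻¹ * (g * b * g⁻¹) * g⁻¹⁻¹ = b := by group
    rw [e1, this, e2]
  bot := by
    intro g
    refine ⟨1, SChain.nil bot_le, fun b hb => ?_⟩
    have : b = 1 := by simpa using hb
    simp [this]

theorem sRel_congr {B : Subgroup G} {g k : G} (h : sRel A S₀ B g)
    (hgk : ∀ b ∈ B, g * b * g⁻¹ = k * b * k⁻¹) : sRel A S₀ B k := by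
  obtain ⟨c, h1, h2⟩ := h
  exact ⟨c, h1, fun b hb => (h2 b hb).trans (hgk b hb)⟩

theorem SChain.toList (hA : ∀ x ∈ A, x⁻¹ ∈ A) {B : Subgroup G} {c : G} (h : SChain A S₀ B c) :
    ∃ l : List G, (∀ y ∈ l, y ∈ A) ∧ c⁻¹ = l.prod ∧
      ∀ k : ℕ, ∀ x ∈ B, ((l.take k).prod)⁻¹ * x * (l.take k).prod ∈ S₀ := by
  induction h with
  | nil h =>
    refine ⟨[], by simp, by simp, fun k x hx => ?_⟩
    simpa using h hx
  | @cons B x c hB hx h₁ ih =>
    obtain ⟨l, hl1, hl2, hl3⟩ := ih
    refine ⟨x⁻¹ :: l, ?_, ?_, ?_⟩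
    · intro y hy
      rcases List.mem_cons.1 hy with rfl | hy
      · exact hA x hx
      · exact hl1 y hy
    · rw [List.prod_cons, ← hl2, mul_inv_rev]
    · intro k y hy
      cases k with
      | zero => simpa using hB hy
      | succ k =>
        have := hl3 k _ (conj_mem_cj (g := x) hy)
        rw [List.take_succ_cons, List.prod_cons]
        have e : (x⁻¹ * (List.take k l).prod)⁻¹ * y * (x⁻¹ * (List.take k l).prod) =
            ((List.take k l).prod)⁻¹ * (x * y * x⁻¹) * (List.take k l).prod := by group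
        rw [e]
        exact this

end chains


/-- Let p be a prime dividing the order of the finite group G, P a Sylow p-subgroup, W a conjugacy functor for p on G with Z(H) ≤ W(H) for every nontrivial p-subgroup H, and V a central functor (a conjugacy functor with V(H) ≤ Z(H), and V(H) ≤ V(K) whenever Z(H) ≤ Z(K)). Say that W with V controls strong fusion in a subgroup L when some Sylow p-subgroup Q of L has the property: whenever X ⊆ Q and a ∈ L with a⁻¹Xa ⊆ Q, then a = c b with c ∈ C_L(X) and b = b₁ ⋯ bₙ a product of elements each in N_L(W(Q)) or in C_L(V(Q)) such that every partial conjugate (b₁ ⋯ bₖ)⁻¹ X (b₁ ⋯ bₖ) lies in Q. If W with V controls strong fusion in N_G(H) for every subgroup H with Z(P) ≤ H ≤ P, then W with V controls strong fusion in G. -/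
theorem result {G : Type*} [Group G] [Finite G] {p : ℕ} [Fact p.Prime] (hdiv : p ∣ Nat.card G) (P : Sylow p G) (W V : Subgroup G → Subgroup G) (hW : Cfsg.IsConjugacyFunctor p W) (hV : Cfsg.IsConjugacyFunctor p V) (hWZ : ∀ H : Subgroup G, IsPGroup p ↥H → H ⊓ Subgroup.centralizer ((H : Subgroup G) : Set G) ≤ W H) (hVZ : ∀ H : Subgroup G, IsPGroup p ↥H → V H ≤ H ⊓ Subgroup.centralizer ((H : Subgroup G) : Set G)) (hVmono : ∀ H K : Subgroup G, IsPGroup p ↥H → IsPGroup p ↥K → H ≠ ⊥ → K ≠ ⊥ → H ⊓ Subgroup.centralizer ((H : Subgroup G) : Set G) ≤ K ⊓ Subgroup.centralizer ((K : Subgroup G) : Set G) → V H ≤ V K) (hloc : ∀ H : Subgroup G, (P : Subgroup G) ⊓ Subgroup.centralizer (((P : Subgroup G) : Subgroup G) : Set G) ≤ H → H ≤ (P : Subgroup G) → ∃ Q : Subgroup G, Q ≤ Subgroup.normalizer ((H : Subgroup G) : Set G) ∧ IsPGroup p ↥Q ∧ ¬ p ∣ (Q).relIndex (Subgroup.normalizer ((H : Subgroup G) : Set G)) ∧ ∀ (X : Set G) (a : G), X ⊆ Q → a ∈ Subgroup.normalizer ((H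 : Subgroup G) : Set G) → (fun x => a⁻¹ * x * a) '' X ⊆ Q → ∃ c ∈ Subgroup.normalizer ((H : Subgroup G) : Set G) ⊓ Subgroup.centralizer X, ∃ (n : ℕ) (b : Fin n → G), (∀ i, b i ∈ Subgroup.normalizer ((H : Subgroup G) : Set G) ⊓ Subgroup.normalizer ((W Q : Subgroup G) : Set G) ∨ b i ∈ Subgroup.normalizer ((H : Subgroup G) : Set G) ⊓ Subgroup.centralizer ((V Q : Subgroup G) : Set G)) ∧ a = c * (List.ofFn b).prod ∧ ∀ k : ℕ, k ≤ n → (fun x => (((List.ofFn b).take k).prod)⁻¹ * x * ((List.ofFn b).take k).prod) '' ((fun x => c⁻¹ * x * c) '' X) ⊆ Q) : ∃ Q : Subgroup G, IsPGroup p ↥Q ∧ ¬ p ∣ Q.index ∧ ∀ (X : Set G) (a : G), X ⊆ Q → (fun x => a⁻¹ * x * a) '' X ⊆ Q → ∃ c ∈ Subgroup.centralizer X, ∃ (n : ℕ) (b : Fin n → G), (∀ i, b i ∈ ⊤ ⊓ Subgroup.normalizer ((W Q : Subgroup G) : Set G) ∨ b i ∈ ⊤ ⊓ Subgroup.centralizer ((V Q : Subgroup G) : Set G)) ∧ a = c * (List.ofFn b).prod ∧ ∀ k : ℕ, k ≤ n → (fun x => (((List.ofFn b).take k).prod)⁻¹ * x * ((List.ofFn b).take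 k).prod) '' ((fun x => c⁻¹ * x * c) '' X) ⊆ Q := by
  classical
  haveI hG : Finite G := inferInstance
  set Z : Subgroup G := (P : Subgroup G) ⊓ centralizer (((P : Subgroup G) : Subgroup G) : Set G) with hZdef
  have hPne : (P : Subgroup G) ≠ ⊥ := P.ne_bot_of_dvd_card hdiv
  have hZne : Z ≠ ⊥ := by
    intro hb
    haveI : Nontrivial (P : Subgroup G) := by
      rw [Subgroup.nontrivial_iff_ne_bot]
      exact hPne
    haveI := (P.isPGroup').center_nontrivial
    obtain ⟨z, hz⟩ := exists_ne (1 : Subgroup.center (P : Subgroup G))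
    have h1 : (((z : (P : Subgroup G)) : G)) ∈ Z := by
      refine ⟨(z : (P : Subgroup G)).2, mem_centralizer_iff.2 fun s hs => ?_⟩
      have := (Subgroup.mem_center_iff.1 z.2) ⟨s, hs⟩
      exact congrArg Subtype.val this
    rw [hb, Subgroup.mem_bot] at h1
    apply hz
    exact Subtype.ext (Subtype.ext h1)
  let A : Set G := (Nz (W P) : Set G) ∪ (centralizer ((V P : Subgroup G) : Set G) : Set G)
  have hA : ∀ x ∈ A, x⁻¹ ∈ A := by
    rintro x (hx | hx)
    · exact Or.inl ((Nz (W P)).inv_mem hx)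
    · exact Or.inr ((centralizer ((V P : Subgroup G) : Set G)).inv_mem hx)
  have hRelA : IsRel (sRel A (P : Subgroup G)) := isRel_sRel hA
  let 𝓣 : Subgroup G → Prop := fun T => ∃ x : G, cj x T ≤ P ∧ Z ≤ cj x T
  have hZP : Z ≤ P := inf_le_left
  have hZcent : Z ≤ centralizer (((P : Subgroup G) : Subgroup G) : Set G) := inf_le_right
  have hZR : ∀ T : Subgroup G, T ≤ P → Z ≤ (P : Subgroup G) ⊓ Nz T := by
    intro T hT
    refine le_inf hZP ?_
    intro z hz
    refine Subgroup.centralizer_le_normalizer _ (mem_centralizer_iff.2 fun u hu => ?_)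
    exact (mem_centralizer_iff.1 (hZcent hz)) u (hT hu)
  have hZZ : ∀ R : Subgroup G, R ≤ P → Z ≤ R → Z ≤ R ⊓ centralizer (R : Set G) := by
    intro R hR hZ
    refine le_inf hZ ?_
    intro z hz
    exact mem_centralizer_iff.2 fun u hu => (mem_centralizer_iff.1 (hZcent hz)) u (hR hu)
  have hmain : ∀ (B : Subgroup G), B ≤ P → ∀ g : G, cj g B ≤ P → sRel A (P : Subgroup G) B g := by
    refine abstract_main' P {W} (by rintro _ rfl; exact hW) hRelA 𝓣 ⟨1, ?_, ?_⟩ ?_ ?_ ?_ ?_
    · rw [cj_one]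
    · rw [cj_one]
      exact hZP
    · rintro _ rfl T hT - g hg
      refine ⟨g⁻¹, ?_, ?_⟩
      · rw [cj_inv_cj]
        exact (W_le hW (isPGroup_inf P _)).trans inf_le_left
      · rw [cj_inv_cj]
        exact (hZZ _ inf_le_left (hZR T hT)).trans (hWZ _ (isPGroup_inf P _))
    · rintro _ rfl C hC y hy hyC
      exact ⟨y, SChain.one_step hC hyC (Or.inl hy), fun _ _ => rfl⟩
    · intro U hU hfn hU𝓣 l hl IH
      refine hout_of_congr P hRelA sRel_congr (Z := Z) hZP hZcent hU hfn ?_ hl IH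
      intro hZU
      exact hU𝓣 ⟨1, by rwa [cj_one], by rwa [cj_one]⟩
    · rintro T hTS ⟨x, hxT, hZx⟩ hfn IHW C hC y hy hyC
      obtain ⟨Q, hQN, hQp, hQi, hQc⟩ := hloc (cj x T) (hZx) hxT
      obtain ⟨τ, hτH, hτQ⟩ := exists_transport P hfn rfl hQN hQp hQi
      set H : Subgroup G := cj x T with hH
      set R : Subgroup G := (P : Subgroup G) ⊓ Nz T with hR
      have hRel' := IsRel.conj hRelA τ
      have hNτ : ∀ n ∈ Nz H, τ * n * τ⁻¹ ∈ Nz T := by
        intro n hn
        rw [← hτH, Nz_cj]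
        exact conj_mem_cj hn
      have hWτ : W R = cj τ (W Q) := by rw [← hτQ, W_cj hW hQp]
      have hVτ : V R = cj τ (V Q) := by rw [← hτQ, W_cj hV hQp]
      have hQR : ∀ E : Subgroup G, E ≤ Q → cj τ E ≤ R := by
        intro E hE
        rw [← hτQ]
        exact cj_mono hE
      have hcjτ : ∀ (E : Subgroup G) (u : G), cj (τ * u * τ⁻¹) (cj τ E) = cj τ (cj u E) := by
        intro E u
        rw [← cj_mul, ← cj_mul]
        congr 1
        group
      -- the `V` step
      have hRne : R ≠ ⊥ := by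
        intro h
        apply hZne
        have := hZR T hTS
        rw [← hR, h] at this
        exact le_bot_iff.1 this
      have hVle : V (P : Subgroup G) ≤ V R := by
        refine hVmono _ _ P.isPGroup' (isPGroup_inf P _) hPne hRne ?_
        have : (P : Subgroup G) ⊓ centralizer (((P : Subgroup G) : Subgroup G) : Set G) = Z := rfl
        rw [this]
        exact hZZ R inf_le_left (hZR T hTS)
      have hVstep : ∀ C' : Subgroup G, C' ≤ R → ∀ y' ∈ centralizer ((V R : Subgroup G) : Set G), cj y' C' ≤ R →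
          sRel A (P : Subgroup G) C' y' := by
        intro C' hC' y' hy' hyC'
        refine ⟨y', SChain.one_step (hC'.trans inf_le_left) (hyC'.trans inf_le_left) (Or.inr ?_), fun _ _ => rfl⟩
        exact Subgroup.centralizer_le hVle hy'
      -- the steps
      let 𝓑 : Set G := (Nz H ⊓ Nz (W Q) : Subgroup G) ∪ (Nz H ⊓ centralizer ((V Q : Subgroup G) : Set G) : Subgroup G)
      have hsteps : ∀ y₀ ∈ 𝓑, ∀ C' : Subgroup G, C' ≤ Q → cj y₀⁻¹ C' ≤ Q →
          sRel A (P : Subgroup G) (cj τ C') (τ * y₀⁻¹ * τ⁻¹) := by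
        rintro y₀ (hy₀ | hy₀) C' hC' hyC'
        · refine IHW W rfl (cj τ C') (hQR _ hC') _ ⟨hNτ _ ((Nz H).inv_mem hy₀.1), ?_⟩ ?_
          · rw [hWτ, Nz_cj]
            exact conj_mem_cj ((Nz (W Q)).inv_mem hy₀.2)
          · rw [hcjτ]
            exact hQR _ hyC'
        · refine hVstep (cj τ C') (hQR _ hC') _ ?_ ?_
          · rw [hVτ]
            refine mem_centralizer_iff.2 ?_
            rintro _ ⟨v, hv, rfl⟩
            have h1 := (mem_centralizer_iff.1 hy₀.2) v hv
            have h2 : y₀⁻¹ * v = v * y₀⁻¹ := by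
              rw [inv_mul_eq_iff_eq_mul, ← mul_assoc, ← h1]
              simp
            show τ * v * τ⁻¹ * (τ * y₀⁻¹ * τ⁻¹) = τ * y₀⁻¹ * τ⁻¹ * (τ * v * τ⁻¹)
            calc τ * v * τ⁻¹ * (τ * y₀⁻¹ * τ⁻¹) = τ * (v * y₀⁻¹) * τ⁻¹ := by group
              _ = τ * (y₀⁻¹ * v) * τ⁻¹ := by rw [h2]
              _ = _ := by group
          · rw [hcjτ]
            exact hQR _ hyC'
      -- apply the local hypothesis
      set C₀ : Subgroup G := cj τ⁻¹ C with hC₀
      set a₀ : G := τ⁻¹ * y⁻¹ * τ with ha₀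
      have hC₀Q : (C₀ : Set G) ⊆ Q := by
        have : C₀ ≤ Q := by
          rw [hC₀, cj_le_iff, inv_inv, hτQ]
          exact hC
        exact this
      have ha₀N : a₀ ∈ Nz H := by
        have h1 : y⁻¹ ∈ Nz T := (Nz T).inv_mem hy
        rw [← hτH, Nz_cj] at h1
        have h2 := mem_cj.1 h1
        exact h2
      have ha₀C : (fun x => a₀⁻¹ * x * a₀) '' (C₀ : Set G) ⊆ Q := by
        rintro _ ⟨z, hz, rfl⟩
        have hz' := mem_cj.1 hz
        rw [inv_inv] at hz'
        have h1 : y * (τ * z * τ⁻¹) * y⁻¹ ∈ R := hyC (conj_mem_cj hz')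
        rw [← hτQ] at h1
        have h2 := mem_cj.1 h1
        have e : τ⁻¹ * (y * (τ * z * τ⁻¹) * y⁻¹) * τ = a₀⁻¹ * z * a₀ := by
          rw [ha₀]
          group
        rwa [e] at h2
      obtain ⟨c, hc, n, b, hb, hab, hpart⟩ := hQc (C₀ : Set G) a₀ hC₀Q ha₀N ha₀C
      have hczz : ∀ z ∈ C₀, c⁻¹ * z * c = z := by
        intro z hz
        have := (mem_centralizer_iff.1 hc.2) z hz
        rw [mul_assoc, this]
        group
      have hl : ∀ j : ℕ, cj ((((List.ofFn b).take j).prod)⁻¹) C₀ ≤ Q := by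
        intro j
        have hj : (List.ofFn b).take j = (List.ofFn b).take (min j n) := by
          by_cases h : j ≤ n
          · rw [min_eq_left h]
          · rw [min_eq_right (le_of_not_ge h), List.take_of_length_le (by simp; omega),
              List.take_of_length_le (by simp)]
        rw [hj]
        rintro _ ⟨z, hz, rfl⟩
        have h1 := hpart (min j n) (min_le_right _ _) ⟨c⁻¹ * z * c, ⟨z, hz, rfl⟩, rfl⟩
        simp only at h1
        rw [hczz z hz] at h1
        show (((List.ofFn b).take (min j n)).prod)⁻¹ * z * (((List.ofFn b).take (min j n)).prod)⁻¹⁻¹ ∈ Q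
        rwa [inv_inv]
      have hr := rel_of_list hRel' (Q := Q) (A := 𝓑)
        (fun C' hC' => ?_) hsteps (List.ofFn b) ?_ C₀ hl
      · have hr' : sRel A (P : Subgroup G) (cj τ C₀) (τ * ((List.ofFn b).prod)⁻¹ * τ⁻¹) := hr
        rw [hC₀, cj_cj_inv] at hr'
        refine sRel_congr hr' ?_
        intro z hz
        have hz₀ : τ⁻¹ * z * τ ∈ C₀ := by
          have := conj_mem_cj (g := τ⁻¹) hz
          rwa [inv_inv] at this
        have h1 := hczz _ hz₀
        have e : y = τ * ((List.ofFn b).prod)⁻¹ * c⁻¹ * τ⁻¹ := by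
          have h2 : y⁻¹ = τ * a₀ * τ⁻¹ := by rw [ha₀]; group
          have h3 : y = (τ * a₀ * τ⁻¹)⁻¹ := by rw [← h2]; group
          rw [h3, hab]
          group
        rw [e]
        have e2 : τ * ((List.ofFn b).prod)⁻¹ * c⁻¹ * τ⁻¹ * z * (τ * ((List.ofFn b).prod)⁻¹ * c⁻¹ * τ⁻¹)⁻¹ =
            τ * ((List.ofFn b).prod)⁻¹ * (c⁻¹ * (τ⁻¹ * z * τ) * c) * (List.ofFn b).prod * τ⁻¹ := by group
        rw [e2, h1]
        group
      · -- `Rel C' 1`
        refine ⟨1, SChain.nil ?_, fun b hb => by simp⟩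
        exact (hQR _ hC').trans inf_le_left
      · intro y hy
        obtain ⟨i, rfl⟩ := (List.mem_ofFn' _ _).1 hy
        rcases hb i with h | h
        · exact Or.inl h
        · exact Or.inr h
  refine ⟨P, P.isPGroup', P.not_dvd_index, ?_⟩
  intro X a hX hXa
  have hB : closure X ≤ (P : Subgroup G) := (closure_le _).2 hX
  have hgB : cj a⁻¹ (closure X) ≤ (P : Subgroup G) := by
    rw [cj, MonoidHom.map_closure, closure_le]
    rintro _ ⟨x, hx, rfl⟩
    have := hXa ⟨x, hx, rfl⟩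
    simpa [MulAut.conj_apply] using this
  obtain ⟨d, hd, hag⟩ := hmain _ hB a⁻¹ hgB
  obtain ⟨l, hl1, hl2, hl3⟩ := hd.toList hA
  have hcX : ∀ x ∈ X, (a * d) * x * (a * d)⁻¹ = x := by
    intro x hx
    have := hag x (subset_closure hx)
    calc (a * d) * x * (a * d)⁻¹ = a * (d * x * d⁻¹) * a⁻¹ := by group
      _ = a * (a⁻¹ * x * a⁻¹⁻¹) * a⁻¹ := by rw [this]
      _ = x := by group
  refine ⟨a * d, ?_, l.length, l.get, ?_, ?_, ?_⟩
  · refine mem_centralizer_iff.2 fun x hx => ?_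
    have := hcX x hx
    calc x * (a * d) = ((a * d) * x * (a * d)⁻¹) * (a * d) := by rw [this]
      _ = _ := by group
  · intro i
    rcases hl1 _ (List.get_mem l i) with h | h
    · exact Or.inl ⟨mem_top _, h⟩
    · exact Or.inr ⟨mem_top _, h⟩
  · rw [List.ofFn_get, ← hl2]
    group
  · intro k _
    rw [List.ofFn_get]
    rintro _ ⟨_, ⟨x, hx, rfl⟩, rfl⟩
    have e : (a * d)⁻¹ * x * (a * d) = x := by
      have := hcX x hx
      calc (a * d)⁻¹ * x * (a * d) = (a * d)⁻¹ * ((a * d) * x * (a * d)⁻¹) * (a * d) := by rw [this]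
        _ = x := by group
    simp only
    rw [e]
    exact hl3 k x (subset_closure hx)


end Cfsg.Agent.S2002
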