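import Cfsg.Statements.S2062
import Cfsg.Agent.Lib.Compute.M24OutB

set_option autoImplicit false
open Cfsg

namespace Cfsg.Agent.S2062

open Cfsg.Agent.Lib.Compute.Golay Cfsg.Agent.Lib.Compute.GolayFast
open Cfsg.Agent.Lib.Compute.M24 Cfsg.Agent.Lib.Compute.M24Enum Cfsg.Agent.Lib.Compute.M24Norm
open Cfsg.Agent.Lib.Compute.OutCert Cfsg.Agent.Lib.Compute.M24Out

/-- The table of an element normalising `δ`. -/
def fL : List ℕ := [0,1,18,15,6,13,2,8,10,7,9,14,21,20,17,3,5,19,4,11,16,12,22,23]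

/-- The generators. -/
def gensT : List (List ℕ) := [muL, dlL, fL]

/-- The candidates for the images of the generators. -/
def candsC : List (List (List ℕ)) := [[muL], [dlL], dl22acc]

/-- The relators. -/
def relsW : List (List ℕ) := [[0,2,2,0,1,0,2,2,0,1,0,2,2,0,1]]

/-- A stabilizer chain of the stabilizer of the points `0` and `23`. -/
def chainL : List Level := [⟨1,[[0,1,2,3,4,5,6,7,8,9,10,11,12,13,14,15,16,17,18,19,20,21,22,23],[0,2,4,6,8,10,12,14,16,18,20,22,1,3,5,7,9,11,13,15,17,19,21,23],[0,3,1,12,8,15,4,20,18,2,5,7,9,13,22,14,6,21,16,19,17,11,10,23],[0,4,8,12,16,20,1,5,9,13,17,21,2,6,10,14,18,22,3,7,11,15,19,23],[0,5,7,18,4,14,6,16,20,2,22,3,10,1,19,9,15,11,21,13,12,17,8,23],[0,6,2,1,16,7,8,17,13,4,10,14,18,3,21,5,12,19,9,15,11,22,20,23],[0,7,10,1,18,22,2,8,21,4,19,3,20,6,11,13,15,17,5,16,9,14,12,23],[0,8,16,1,9,17,2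,10,18,3,11,19,4,12,20,5,13,21,6,14,22,7,15,23],[0,9,8,1,2,22,6,7,12,18,17,15,13,4,19,5,3,14,16,20,10,11,21,23],[0,10,5,1,7,19,18,9,4,15,14,11,6,21,16,13,20,12,2,17,22,8,3,23],[0,11,15,8,1,21,3,13,5,4,22,12,20,16,10,9,14,19,17,2,18,7,6,23],[0,12,4,2,9,14,16,11,3,8,20,5,13,6,19,10,1,15,18,7,22,21,17,23],[0,13,12,6,4,19,2,10,9,1,14,15,16,18,11,7,3,22,8,21,20,17,5,23],[0,14,20,2,13,21,4,16,19,8,15,6,17,12,22,3,7,11,10,9,18,5,1,23],[0,15,1,21,10,3,6,16,4,18,13,8,7,20,22,17,2,12,5,11,19,14,9,23],[0,16,9,2,18,11,4,20,13,6,22,15,8,1,17,10,3,19,12,5,21,14,7,23],[0,17,19,4,12,22,13,18,14,2,11,6,10,8,5,16,7,21,20,1,9,15,3,23],[0,18,6,3,2,21,1,5,16,12,7,19,8,9,17,15,13,11,4,22,10,20,14,23],[0,19,12,13,14,11,10,5,7,20,9,3,17,4,22,18,2,6,8,16,21,1,15,23],[0,20,21,2,6,11,18,9,7,1,17,3,5,4,14,8,15,22,10,12,16,19,13,23],[0,21,6,18,7,17,5,14,15,10,16,13,20,2,11,9,1,3,4,8,22,12,19,23],[0,22,8,9,17,19,7,21,5,10,12,3,11,2,14,4,6,1,16,13,20,18,15,23]],[]⟩,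
  ⟨2,[[0,1,2,3,4,5,6,7,8,9,10,11,12,13,14,15,16,17,18,19,20,21,22,23],[0,1,3,2,6,14,4,11,16,12,22,7,9,13,5,15,8,17,18,19,21,20,10,23],[0,1,4,18,13,14,8,7,12,3,11,17,6,2,21,20,16,10,9,15,19,5,22,23],[0,1,5,15,19,4,22,20,3,9,21,17,14,12,7,11,10,8,2,18,13,6,16,23],[0,1,6,18,13,5,16,11,9,2,7,17,4,3,20,21,8,22,12,15,19,14,10,23],[0,1,7,16,13,3,11,10,6,5,15,2,21,14,18,8,12,9,19,22,4,17,20,23],[0,1,8,4,18,5,9,22,6,16,17,10,3,12,15,20,2,7,13,14,21,19,11,23],[0,1,9,12,14,4,5,21,10,3,16,20,2,19,6,18,22,17,15,13,7,11,8,23],[0,1,10,6,4,13,7,22,2,5,19,9,15,21,3,16,18,8,20,17,12,11,14,23],[0,1,11,4,16,20,18,8,21,7,10,13,9,14,19,17,15,3,5,2,22,12,6,23],[0,1,12,9,5,6,14,20,22,2,8,21,3,19,4,18,10,17,15,13,11,7,16,23],[0,1,13,12,3,20,9,11,4,18,17,22,16,6,14,19,8,7,2,21,15,5,10,23],[0,1,14,15,19,6,10,21,2,12,20,17,5,9,11,7,22,16,3,18,13,4,8,23],[0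,1,15,5,22,7,19,17,10,14,16,20,9,12,4,11,3,8,2,18,6,13,21,23],[0,1,16,12,3,5,8,17,2,6,11,22,13,18,19,14,9,10,4,21,15,20,7,23],[0,1,17,13,8,19,12,9,14,11,7,3,2,20,15,22,21,18,5,6,10,4,16,23],[0,1,18,6,16,20,13,17,8,4,10,11,2,3,5,21,9,22,12,15,14,19,7,23],[0,1,19,2,12,7,3,20,14,15,17,8,22,5,6,13,10,21,9,11,18,4,16,23],[0,1,20,21,15,16,7,14,6,4,19,22,5,2,17,11,10,8,18,12,3,13,9,23],[0,1,21,5,10,11,15,22,7,20,8,19,2,4,13,17,18,9,6,12,16,3,14,23],[0,1,22,2,12,4,10,17,9,5,20,8,19,15,13,6,3,16,14,11,18,7,21,23]],[]⟩,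
  ⟨3,[[0,1,2,3,4,5,6,7,8,9,10,11,12,13,14,15,16,17,18,19,20,21,22,23],[0,1,2,4,6,22,15,20,5,11,8,17,14,7,13,18,19,16,3,9,12,10,21,23],[0,1,2,5,22,17,15,10,7,12,8,6,21,4,14,11,16,3,19,20,18,9,13,23],[0,1,2,6,3,7,15,9,16,12,11,13,22,14,19,18,17,21,4,10,8,20,5,23],[0,1,2,7,11,6,4,16,15,3,5,10,20,8,21,14,18,19,9,22,17,13,12,23],[0,1,2,8,5,11,6,21,13,20,10,4,22,3,12,9,17,18,16,7,15,19,14,23],[0,1,2,9,19,15,12,18,17,16,4,14,5,6,20,13,7,10,3,8,22,11,21,23],[0,1,2,10,19,20,8,11,3,22,13,5,14,6,15,4,7,9,17,12,16,18,21,23],[0,1,2,11,9,8,4,22,19,17,3,21,6,20,18,14,10,12,7,13,5,16,15,23],[0,1,2,12,20,11,21,19,3,16,22,14,17,15,18,4,10,8,5,7,13,6,9,23],[0,1,2,13,6,16,20,15,14,18,12,3,5,7,4,11,19,22,17,10,8,9,21,23],[0,1,2,14,16,3,20,9,7,8,12,6,21,13,5,18,22,17,19,15,11,10,4,23],[0,1,2,15,7,9,12,18,3,13,22,5,14,21,10,16,19,20,17,8,4,11,6,23],[0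,1,2,16,8,13,5,3,10,7,19,20,15,12,22,6,18,4,9,17,21,14,11,23],[0,1,2,17,15,14,12,11,6,22,4,19,21,9,5,16,10,3,7,18,13,8,20,23],[0,1,2,18,10,12,13,16,19,3,17,21,6,15,11,5,9,8,7,4,14,22,20,23],[0,1,2,19,14,21,20,10,4,12,11,22,13,3,6,18,5,7,16,9,8,15,17,23],[0,1,2,20,7,10,8,11,17,4,16,14,5,21,9,22,19,15,3,12,13,18,6,23],[0,1,2,21,3,19,10,20,4,8,18,22,13,14,7,11,17,6,16,15,12,9,5,23],[0,1,2,22,12,4,14,17,9,7,19,15,20,8,16,6,11,13,10,3,21,5,18,23]],[]⟩,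
  ⟨4,[[0,1,2,3,4,5,6,7,8,9,10,11,12,13,14,15,16,17,18,19,20,21,22,23],[0,1,2,3,6,17,15,9,12,16,22,8,11,21,5,4,7,14,18,10,13,20,19,23],[0,1,2,3,7,14,8,12,13,15,10,16,4,6,17,20,21,5,22,18,9,11,19,23],[0,1,2,3,8,5,20,15,4,21,19,13,16,11,14,7,12,17,22,10,6,9,18,23],[0,1,2,3,9,5,12,11,21,4,22,7,6,15,14,13,20,17,19,18,16,8,10,23],[0,1,2,3,10,5,11,12,19,22,4,6,7,20,14,16,15,17,21,8,13,18,9,23],[0,1,2,3,11,14,21,6,15,13,22,20,9,12,17,16,8,5,10,19,4,7,18,23],[0,1,2,3,12,17,13,4,6,20,10,21,7,8,5,9,11,14,19,22,15,16,18,23],[0,1,2,3,13,17,12,18,15,7,21,10,20,22,5,19,16,14,9,8,6,11,4,23],[0,1,2,3,15,14,4,16,11,7,19,12,8,20,17,6,9,5,18,22,21,13,10,23],[0,1,2,3,16,17,11,8,20,6,19,9,15,4,5,21,13,14,10,18,7,12,22,23],[0,1,2,3,18,5,15,20,22,19,21,16,13,12,14,6,11,17,4,9,7,10,8,23],[0,1,2,3,19,5,13,16,10,18,8,20,15,6,14,12,7,17,9,4,11,22,21,23],[0,1,2,3,20,17,7,21,16,12,18,4,13,9,5,8,15,14,22,19,11,6,10,23],[0,1,2,3,21,5,16,13,9,8,18,15,20,7,14,11,6,17,10,22,12,4,19,23],[0,1,2,3,22,14,20,9,19,18,11,21,6,4,17,8,16,5,7,15,12,10,13,23]],[8536111]⟩,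
  ⟨5,[[0,1,2,3,4,5,6,7,8,9,10,11,12,13,14,15,16,17,18,19,20,21,22,23],[0,1,2,3,4,14,15,10,21,8,12,19,7,22,17,18,13,5,6,20,11,9,16,23],[0,1,2,3,4,17,18,12,9,21,7,20,10,16,5,6,22,14,15,11,19,8,13,23]],[8536111]⟩,
  ⟨6,[[0,1,2,3,4,5,6,7,8,9,10,11,12,13,14,15,16,17,18,19,20,21,22,23]],[2162811,8391797]⟩,
  ⟨7,[[0,1,2,3,4,5,6,7,8,9,10,11,12,13,14,15,16,17,18,19,20,21,22,23]],[262637,4325622]⟩,
  ⟨8,[[0,1,2,3,4,5,6,7,8,9,10,11,12,13,14,15,16,17,18,19,20,21,22,23]],[262637,525274]⟩,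
  ⟨9,[[0,1,2,3,4,5,6,7,8,9,10,11,12,13,14,15,16,17,18,19,20,21,22,23]],[525274,1050548]⟩,
  ⟨10,[[0,1,2,3,4,5,6,7,8,9,10,11,12,13,14,15,16,17,18,19,20,21,22,23]],[1050548,2101096]⟩,
  ⟨11,[[0,1,2,3,4,5,6,7,8,9,10,11,12,13,14,15,16,17,18,19,20,21,22,23]],[8391797]⟩,
  ⟨12,[[0,1,2,3,4,5,6,7,8,9,10,11,12,13,14,15,16,17,18,19,20,21,22,23]],[5279]⟩,
  ⟨13,[[0,1,2,3,4,5,6,7,8,9,10,11,12,13,14,15,16,17,18,19,20,21,22,23]],[10558]⟩,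
  ⟨14,[[0,1,2,3,4,5,6,7,8,9,10,11,12,13,14,15,16,17,18,19,20,21,22,23]],[18147]⟩,
  ⟨15,[[0,1,2,3,4,5,6,7,8,9,10,11,12,13,14,15,16,17,18,19,20,21,22,23]],[36294]⟩,
  ⟨16,[[0,1,2,3,4,5,6,7,8,9,10,11,12,13,14,15,16,17,18,19,20,21,22,23]],[69395]⟩,
  ⟨17,[[0,1,2,3,4,5,6,7,8,9,10,11,12,13,14,15,16,17,18,19,20,21,22,23]],[133817]⟩,
  ⟨18,[[0,1,2,3,4,5,6,7,8,9,10,11,12,13,14,15,16,17,18,19,20,21,22,23]],[262637]⟩,
  ⟨19,[[0,1,2,3,4,5,6,7,8,9,10,11,12,13,14,15,16,17,18,19,20,21,22,23]],[525274]⟩,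
  ⟨20,[[0,1,2,3,4,5,6,7,8,9,10,11,12,13,14,15,16,17,18,19,20,21,22,23]],[1050548]⟩,
  ⟨21,[[0,1,2,3,4,5,6,7,8,9,10,11,12,13,14,15,16,17,18,19,20,21,22,23]],[2101096]⟩,
  ⟨22,[[0,1,2,3,4,5,6,7,8,9,10,11,12,13,14,15,16,17,18,19,20,21,22,23]],[]⟩]

/-- A straight line program for the chain. -/
def progP : List (ℕ × ℕ) := [(1,1),(0,0),(0,0),(2,0),(6,6),(1,1),(8,7),(8,9),(9,7),(10,2),(11,2),(13,3),(15,4),(16,4),(17,4),(18,4),(19,4),(18,4),(21,16),(20,4),(21,3),(22,3),(24,2),(26,16),(20,0),(19,20),(1,1),(2,0),(2,2),(0,0),(5,4),(1,3),(2,2),(7,6),(9,3),(3,7),(11,7),(4,9),(13,4),(14,4),(4,12),(15,6),(16,5),(5,13),(18,5),(19,5),(5,16),(22,5),(22,5),(24,4),(24,0),(25,0),(14,0),(28,3),(7,0),(30,22),(12,0),(4,4),(0,0),(4,4),(0,0),(4,4),(0,0),(4,4),(7,11),(6,2),(9,11),(6,4),(13,11),(6,8),(13,12),(7,8),(19,7),(7,14),(17,9),(22,8),(8,17),(22,10),(21,11),(24,8),(8,19),(28,8),(29,7),(28,8),(31,8),(32,2),(5,0),(30,11),(18,0),(34,20),(16,0),(34,11),(15,0),(36,24),(20,0),(8,8),(7,7),(4,4),(3,3),(8,12),(4,9),(8,14),(7,13),(16,10),(9,11),(10,4),(19,3),(2,0),(0,0)]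

theorem chain_ok : chainCheck inM24 [] [0, 23] chainL = true := by decide +kernel

theorem slp_ok :
    chainL.all (fun lv => lv.T.all (fun L => (slpRun (idL :: gensT) progP).contains L)) = true := by decide +kernel

theorem gens_valid : ∀ L ∈ gensT, validL L = true := by decide +kernel

theorem mem_M22_iff (g : P) : g ∈ Spor.M22 ↔ g ∈ M24 ∧ g (idxPt 23) = idxPt 23 ∧ g (idxPt 0) = idxPt 0 := by
  simp only [Spor.M22, Spor.M23, Subgroup.mem_inf, MulAction.mem_stabilizer_iff, Equiv.Perm.smul_def, and_assoc]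
  rfl

theorem gens_mem : ∀ L ∈ gensT, ofL L ∈ Spor.M22 := by
  intro L hL
  have h1 : ∀ L ∈ gensT, inM24 L = true ∧ L.getD 23 0 = 23 ∧ L.getD 0 0 = 0 := by decide +kernel
  rw [mem_M22_iff]
  refine ⟨mem_M24_of_inM24 (codes_ofL (gens_valid L hL)) (h1 L hL).1, ?_, ?_⟩
  · rw [ofL_apply (gens_valid L hL) (by norm_num), (h1 L hL).2.1]
  · rw [ofL_apply (gens_valid L hL) (by norm_num), (h1 L hL).2.2]

theorem rels_ok : ∀ w ∈ relsW, evalWord gensT w = idL := by decide +kernel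

theorem sections_ok : sectionsOK gensT candsC relsW = true := by decide +kernel

theorem gen_le : Spor.M22 ≤ Subgroup.closure (setOf gensT) := by
  intro g hg
  have h1 : g ∈ fixIn M24 [0, 23] := by
    rw [mem_M22_iff] at hg
    refine ⟨hg.1, fun i hi => ?_⟩
    rcases List.mem_cons.1 hi with rfl | hi
    · exact hg.2.2
    · rw [List.mem_singleton.1 hi]
      exact hg.2.1
  exact chain_le_closure gens_valid progP chainL slp_ok (chain_gen ctxM24 [0, 23] chainL chain_ok g h1)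

theorem Mu_mem' : Mu ∈ Spor.M22 := gens_mem muL (by simp [gensT])
theorem Dl_mem' : Dl ∈ Spor.M22 := gens_mem dlL (by simp [gensT])
theorem f_mem' : ofL fL ∈ Spor.M22 := gens_mem fL (by simp [gensT])

theorem M22_le : Spor.M22 ≤ M24 := fun _ hg => ((mem_M22_iff _).1 hg).1

theorem validL_fL : validL fL = true := gens_valid fL (by simp [gensT])

theorem Tau_inv : Tau⁻¹ = Tau := by
  rw [inv_eq_iff_mul_eq_one]
  apply eq_of_toL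
  rw [toL_mul, toL_Tau, toL_one]
  decide +kernel

theorem Tau_0 : Tau (idxPt 0) = idxPt 23 := by
  rw [show Tau = ofL tauL from rfl, ofL_apply validL_tauL (by norm_num)]
  rfl

theorem Tau_23 : Tau (idxPt 23) = idxPt 0 := by
  rw [show Tau = ofL tauL from rfl, ofL_apply validL_tauL (by norm_num)]
  rfl

theorem norm_Tau : ∀ x ∈ Spor.M22, Tau * x * Tau⁻¹ ∈ Spor.M22 := by
  intro x hx
  rw [mem_M22_iff] at hx ⊢
  rw [Tau_inv]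
  refine ⟨M24.mul_mem (M24.mul_mem Tau_mem hx.1) Tau_mem, ?_, ?_⟩
  · simp only [Equiv.Perm.mul_apply]
    rw [Tau_23, hx.2.2, Tau_0]
  · simp only [Equiv.Perm.mul_apply]
    rw [Tau_0, hx.2.1, Tau_23]

theorem norm_Tau' : ∀ x ∈ Spor.M22, Tau⁻¹ * x * Tau ∈ Spor.M22 := by
  intro x hx
  have := norm_Tau x hx
  rw [Tau_inv] at this ⊢
  exact this

theorem Tau_ne : ∀ h ∈ Spor.M22, (h⁻¹ * Tau) (idxPt 0) ≠ idxPt 0 := by
  intro h hh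
  have h1 := (mem_M22_iff _).1 (Spor.M22.inv_mem hh)
  rw [Equiv.Perm.mul_apply, Tau_0, h1.2.1]
  decide

theorem fixed (F : P → P) (hF : PHom Spor.M22 F) (hMu : F Mu = Mu) (hDl : F Dl = Dl) :
    ∀ x ∈ Spor.M22, F x = x := by
  have h2 : ofL fL * Dl = Dl ^ 2 * ofL fL :=
    mul_eq_pow_mul (by rw [toL_ofL validL_fL, toL_Dl]; decide +kernel)
  have hy := (mem_M22_iff _).1 (hF.mem _ f_mem')
  have hf := dl22_mem hy.1 (rel_image hF f_mem' Dl_mem' h2 hDl) (by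
    intro m hm p
    rcases List.mem_cons.1 hm with rfl | hm
    · exact testBit_of_fix (b := 0) (by norm_num) hy.2.2 p
    · rw [List.mem_singleton.1 hm]
      exact testBit_of_fix (b := 23) (by norm_num) hy.2.1 p)
  refine finish hF gens_valid gens_mem gen_le rels_ok ?_ sections_ok
  refine .cons ?_ (.cons ?_ (.cons hf .nil))
  · show toL (F Mu) ∈ _
    rw [hMu, toL_Mu]
    simp
  · show toL (F Dl) ∈ _
    rw [hDl, toL_Dl]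
    simp

/-- The outer automorphism group of the Mathieu group M₂₂ has order 2. -/
theorem result : Nat.card (Cfsg.Out ↥Cfsg.Spor.M22) = 2 :=
  card_out_two M22_le Mu_mem' Dl_mem' norm_Tau norm_Tau' Tau_ne fixed

end Cfsg.Agent.S2062
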