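import Cfsg.Statements.S2036
import Cfsg.Agent.Lib.Compute.Schur2.M22ChkA
import Cfsg.Agent.Lib.Compute.Schur2.M22ChkB
import Cfsg.Agent.Lib.Compute.Schur2.M22ChkC
import Cfsg.Agent.Lib.Compute.SchurPerm
import Cfsg.Agent.S2062
import Cfsg.Agent.Lib.Fusion.MathieuInH

set_option autoImplicit false
open Cfsg

namespace Cfsg.Agent.S2036

open Cfsg.Agent.Lib.Compute.SchurLin Cfsg.Agent.Lib.Compute.Schur2 Cfsg.Agent.Lib.Compute.Schur2.M22
open Cfsg.Agent.Lib.Compute.ToddCoxeterCore (wordEl)
open Cfsg.Agent.Lib.Compute.M24 Cfsg.Agent.Lib.Compute.M24Enum Cfsg.Agent.Lib.Compute.M24Norm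
open Cfsg.Agent.Lib.Compute.OutCert Cfsg.Agent.Lib.Compute.M24Out
open Cfsg.Agent.Lib.Compute.Golay Cfsg.Agent.Lib.Compute.GolayFast

theorem hval : ∀ x < 2 * 2, validL (gT.getD x idL) = true := by decide +kernel
theorem hinv : ∀ j < 2, mulL (gT.getD (2 * j) idL) (gT.getD (2 * j + 1) idL) = idL := by decide +kernel

theorem hmem : ∀ j < 2, ofL (gT.getD (2 * j) idL) ∈ Spor.M22 := by
  intro j hj
  have h1 : ∀ j < 2, inM24 (gT.getD (2 * j) idL) = true ∧ (gT.getD (2 * j) idL).getD 23 0 = 23 ∧
      (gT.getD (2 * j) idL).getD 0 0 = 0 := by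
    decide +kernel
  have hv := hval (2 * j) (by omega)
  rw [Cfsg.Agent.S2062.mem_M22_iff]
  refine ⟨mem_M24_of_inM24 (codes_ofL hv) (h1 j hj).1, ?_, ?_⟩
  · rw [ofL_apply hv (by norm_num), (h1 j hj).2.1]
  · rw [ofL_apply hv (by norm_num), (h1 j hj).2.2]

/-- The group `M22`. -/
abbrev G : Type := ↥Spor.M22

/-- The generators. -/
noncomputable abbrev g : ℕ → G := gOf Spor.M22 gT

theorem hgen (h : G) : h ∈ Subgroup.closure (g '' Set.Iio c.n) :=
  closure_of_words hmem hval hinv Cfsg.Agent.S2062.gen_le (W := oldW) (by decide +kernel)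
    Cfsg.Agent.S2062.gens_valid h

theorem hg1 : ∀ j, c.n ≤ j → g j = 1 := by
  intro j hj
  have hj' : 2 ≤ j := hj
  have h1 : gT.getD (2 * j) idL = idL := List.getD_eq_default _ _ (by
    have : gT.length = 4 := rfl
    omega)
  apply Subtype.ext
  unfold g gOf
  rw [h1, ofL_idL, dif_pos (one_mem _)]
  rfl

theorem hrelW : ∀ k < c.nrel, evalR gT (c.W.getD k []) = idL := by decide +kernel

theorem hrel : ∀ k < c.nrel, wordEl (ltr g) (c.W.getD k []) = 1 := fun k hk =>
  wordEl_eq_one hmem hval hinv (sound.hW k) (hrelW k hk)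

theorem hcard : Nat.card G = c.N * (M22In.c.N * 11) := by
  have h1 := Cfsg.Agent.Lib.Fusion.MathieuInH.card_M22'
  have h2 : c.N * (M22In.c.N * 11) = 2 ^ 7 * 3465 := rfl
  rw [h2]
  exact h1

theorem hperf : commutator G = ⊤ := perfect_of_norm hnormC sound.hW hrel (by decide) hgen

theorem hsec : HasSec c g := by
  refine hasSec_of_coprime sound hSB hrel hgen hcard hperf [5, 11] rfl ?_
  intro p hp
  have h2 : Nat.card G = 443520 := by rw [hcard]; rfl
  rw [h2]
  simp only [List.mem_cons, List.not_mem_nil, or_false] at hp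
  rcases hp with rfl | rfl
  · exact ⟨by norm_num, by norm_num⟩
  · exact ⟨by norm_num, by norm_num⟩

/-- The Schur multiplier of the Mathieu group M₂₂ (the permutations in the automorphism group of the length-24 binary code that fix each of two given points) is cyclic of order 12; here the Schur multiplier is described through stem extensions, as in the definitions: surjective homomorphisms onto the group from a finite group, whose kernel is central in that finite group and contained in that finite group's commutator subgroup. -/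
theorem result : Cfsg.HasCyclicSchurMultiplier ↥Cfsg.Spor.M22 12 :=
  hasSchur_main (g := g) sound hSB hg1 hrel hgen hcard (by decide) hnormC hsec
    u rfl rfl rfl rfl rfl rfl (m := 10) (by decide) hnormU rfl rfl upChk d tailChk
    (fun B _ h => UP.Gen.hom1 h) l rfl rfl rfl rfl rfl lcChk (a := a1 12)
    (fun j hj => by
      obtain rfl : j = 0 := by
        have : j < 1 := hj
        omega
      exact a1_pow) a1_gen

end Cfsg.Agent.S2036
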