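import Cfsg.Statements.S2039
import Mathlib
import Cfsg.Agent.Lib.Sporadic.J1.Basic
import Cfsg.Agent.Lib.Sporadic.Stem

set_option autoImplicit false
open Cfsg

namespace Cfsg.Agent.S2039

open Cfsg.Spor Cfsg.Agent.Lib.Sporadic Cfsg.Agent.Lib.Sporadic.J1 Cfsg.Agent.Lib.Sporadic.J1.Basic

/-- The element `e_i` as an element of the subgroup. -/
def E1 : J1 := ⟨e1, e1_mem⟩
/-- The element `e_i` as an element of the subgroup. -/
def E2 : J1 := ⟨e2, e2_mem⟩
/-- The element `e_i` as an element of the subgroup. -/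
def E3 : J1 := ⟨e3, e3_mem⟩
/-- The element `X` as an element of the subgroup. -/
def U : J1 := ⟨jankoX, Orders.X_mem⟩

theorem conj1 : U * E1 * U⁻¹ = E2 := by
  rw [mul_inv_eq_iff_eq_mul]
  exact Subtype.ext conj_e1
theorem conj2 : U * E2 * U⁻¹ = E3 := by
  rw [mul_inv_eq_iff_eq_mul]
  exact Subtype.ext conj_e2
theorem conj3 : U * E3 * U⁻¹ = E1 * E2 := by
  rw [mul_inv_eq_iff_eq_mul]
  exact Subtype.ext conj_e3

theorem sq1 : E1 * E1 = 1 := Subtype.ext e1_sq
theorem c12 : E1 * E2 = E2 * E1 := Subtype.ext e12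
theorem c13 : E1 * E3 = E3 * E1 := Subtype.ext e13
theorem c23 : E2 * E3 = E3 * E2 := Subtype.ext e23

/-- The elementary abelian subgroup of order 8 in the type `J1`. -/
def Q8 : Subgroup J1 := Subgroup.closure {E1, E2, E3}

theorem map_Q8 : Q8.map J1.subtype = P8 := by
  rw [Q8, MonoidHom.map_closure]
  congr 1
  ext g
  simp only [Set.mem_image, Set.mem_insert_iff, Set.mem_singleton_iff]
  constructor
  · rintro ⟨x, (rfl | rfl | rfl), rfl⟩
    · exact Or.inl rfl
    · exact Or.inr (Or.inl rfl)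
    · exact Or.inr (Or.inr rfl)
  · rintro (rfl | rfl | rfl)
    · exact ⟨E1, Or.inl rfl, rfl⟩
    · exact ⟨E2, Or.inr (Or.inl rfl), rfl⟩
    · exact ⟨E3, Or.inr (Or.inr rfl), rfl⟩

theorem card_Q8 : Nat.card Q8 = 8 := by
  have : Nat.card (Q8.map J1.subtype) = Nat.card Q8 :=
    Subgroup.card_map_of_injective J1.subtype_injective
  rw [← this, map_Q8, card_P8]

theorem index_Q8 : Q8.index = 21945 := by
  have := Subgroup.index_mul_card Q8
  rw [card_J1, card_Q8] at this
  omega

theorem index_zpowers (g : J1) {n : ℕ} (hg : orderOf g = n) :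
    (Subgroup.zpowers g).index * n = 175560 := by
  have := Subgroup.index_mul_card (Subgroup.zpowers g)
  rwa [card_J1, Nat.card_zpowers, hg] at this

/-- An element of each order in the spectrum. -/
theorem exists_order {n : ℕ} (hn : n ∈ Orders.spectrum) : ∃ g : J1, orderOf g = n := by
  have : n ∈ Set.range (orderOf : J1 → ℕ) := by
    rw [Orders.range_orderOf]
    exact hn
  exact this

section
variable {Γ : Type} [Group Γ] [Finite Γ] (σ : Γ →* J1) (hσ : IsStemExtension σ)
include hσ

theorem pow_of_order {z : Γ} (hz : z ∈ σ.ker) {n m : ℕ} (hn : n ∈ Orders.spectrum)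
    (hm : m * n = 175560) : z ^ m = 1 := by
  obtain ⟨g, hg⟩ := exists_order hn
  have h1 := Stem.comap_zpowers_comm σ hσ.1 hσ.2.1 g
  have h2 := Stem.pow_index_eq_one _ h1 (hσ.2.1 hz) (hσ.2.2 hz)
  rw [Subgroup.index_comap_of_surjective _ hσ.1] at h2
  have h3 := index_zpowers g hg
  have hn0 : 0 < n := by
    have : n ∣ 175560 := ⟨m, by rw [← hm, mul_comm]⟩
    exact Nat.pos_of_dvd_of_pos this (by norm_num)
  have : (Subgroup.zpowers g).index = m := by
    apply Nat.eq_of_mul_eq_mul_right hn0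
    rw [h3, hm]
  rwa [this] at h2

theorem pow_two_part {z : Γ} (hz : z ∈ σ.ker) : z ^ 21945 = 1 := by
  obtain ⟨a, ha⟩ := hσ.1 E1
  obtain ⟨u, hu⟩ := hσ.1 U
  let b := u * a * u⁻¹
  let d := u * b * u⁻¹
  have hb : σ b = E2 := by simp only [b, map_mul, map_inv, ha, hu, conj1]
  have hd : σ d = E3 := by simp only [d, map_mul, map_inv, hb, hu, conj2]
  have hker : ∀ x : Γ, σ x = 1 → x ∈ Subgroup.center Γ := fun x hx => hσ.2.1 (MonoidHom.mem_ker.mpr hx)
  have hcm : ∀ x y : Γ, σ x * σ y = σ y * σ x → Stem.cm x y ∈ Subgroup.center Γ := by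
    intro x y h
    apply hker
    simp only [Stem.cm, map_mul, map_inv, h]
    group
  let w := (a * b)⁻¹ * (u * d * u⁻¹)
  have hw : w ∈ Subgroup.center Γ := by
    apply hker
    simp only [w, map_mul, map_inv, ha, hb, hd, hu, conj3]
    group
  have hcomm := Stem.f8_comm u a b d w rfl rfl (by simp only [w]; group) hw
    (hcm a b (by rw [ha, hb]; exact c12))
    (hcm d a (by rw [ha, hd]; exact c13.symm))
    (hcm b d (by rw [hb, hd]; exact c23))
    (hker _ (by rw [map_mul, ha, sq1]))
  obtain ⟨hc1, hc2, hc3⟩ := hcomm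
  let K : Subgroup Γ := Subgroup.closure {a, b, d}
  have hK : ∀ x ∈ K, ∀ y ∈ K, x * y = y * x := by
    have hgen : ∀ x ∈ ({a, b, d} : Set Γ), ∀ y ∈ ({a, b, d} : Set Γ), x * y = y * x := by
      rintro x (rfl | rfl | rfl) y (rfl | rfl | rfl)
      · rfl
      · exact hc1
      · exact hc2.symm
      · exact hc1.symm
      · rfl
      · exact hc3
      · exact hc2
      · exact hc3.symm
      · rfl
    have hKc := Subgroup.isMulCommutative_closure hgen
    intro x hx y hy
    exact congrArg Subtype.val (hKc.is_comm.comm ⟨x, hx⟩ ⟨y, hy⟩)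
  have hQ : Q8 ≤ K.map σ := by
    rw [Q8, Subgroup.closure_le]
    rintro g (rfl | rfl | rfl)
    · exact ⟨a, Subgroup.subset_closure (by simp), ha⟩
    · exact ⟨b, Subgroup.subset_closure (by simp), hb⟩
    · exact ⟨d, Subgroup.subset_closure (by simp), hd⟩
  have h1 := Stem.comap_comm σ hσ.2.1 K hK Q8 hQ
  have h2 := Stem.pow_index_eq_one _ h1 (hσ.2.1 hz) (hσ.2.2 hz)
  rwa [Subgroup.index_comap_of_surjective _ hσ.1, index_Q8] at h2

theorem ker_trivial {z : Γ} (hz : z ∈ σ.ker) : z = 1 := by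
  have h2 := orderOf_dvd_of_pow_eq_one (pow_two_part σ hσ hz)
  have h3 := orderOf_dvd_of_pow_eq_one
    (pow_of_order σ hσ hz (n := 3) (m := 58520) (by decide) (by norm_num))
  have h5 := orderOf_dvd_of_pow_eq_one
    (pow_of_order σ hσ hz (n := 5) (m := 35112) (by decide) (by norm_num))
  have h7 := orderOf_dvd_of_pow_eq_one
    (pow_of_order σ hσ hz (n := 7) (m := 25080) (by decide) (by norm_num))
  have h11 := orderOf_dvd_of_pow_eq_one
    (pow_of_order σ hσ hz (n := 11) (m := 15960) (by decide) (by norm_num))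
  have h19 := orderOf_dvd_of_pow_eq_one
    (pow_of_order σ hσ hz (n := 19) (m := 9240) (by decide) (by norm_num))
  have := Nat.dvd_gcd h2 (Nat.dvd_gcd h3 (Nat.dvd_gcd h5 (Nat.dvd_gcd h7 (Nat.dvd_gcd h11 h19))))
  norm_num at this
  exact this

end

/-- The Schur multiplier of the Janko group J₁ (the group generated by two explicit 7 × 7 matrices over the integers modulo 11) is trivial; here the Schur multiplier is described through stem extensions, as in the definitions: surjective homomorphisms onto the group from a finite group, whose kernel is central in that finite group and contained in that finite group's commutator subgroup. -/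
theorem result : Cfsg.HasCyclicSchurMultiplier ↥Cfsg.Spor.J1 1 := by
  constructor
  · have hk : ∀ x : (MonoidHom.id J1).ker, x = 1 := by
      rintro ⟨x, hx⟩
      exact Subtype.ext hx
    refine ⟨J1, inferInstance, inferInstance, MonoidHom.id J1, ⟨Function.surjective_id, ?_, ?_⟩, ?_⟩
    · intro x hx
      have h1 : x = 1 := MonoidHom.mem_ker.mp hx
      rw [h1]
      exact one_mem _
    · intro x hx
      have h1 : x = 1 := MonoidHom.mem_ker.mp hx
      rw [h1]
      exact one_mem _
    · let _ : Unique (MonoidHom.id J1).ker := ⟨⟨1⟩, hk⟩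
      let _ : Unique (Multiplicative (ZMod 1)) := ⟨⟨1⟩, fun a => Subsingleton.elim _ _⟩
      exact ⟨MulEquiv.ofUnique⟩
  · intro Γ _ _ σ hσ
    refine ⟨1, ?_⟩
    rintro ⟨x, hx⟩
    refine ⟨1, Subtype.ext ?_⟩
    exact (ker_trivial σ hσ hx).symm

end Cfsg.Agent.S2039
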