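import Cfsg.Statements.S2043
import Cfsg.Agent.Lib.Sporadic.Co1Mult.Part2
import Cfsg.Agent.S0398

set_option autoImplicit false
open Cfsg

namespace Cfsg.Agent.S2043

/-- The equivalence of the centre with the group of order two. -/
noncomputable def eKer : ↥(QuotientGroup.mk' (Subgroup.center Cfsg.Co0)).ker ≃* Multiplicative (ZMod 2) := by
  haveI : Fact (Nat.Prime 2) := ⟨Nat.prime_two⟩
  refine mulEquivOfPrimeCardEq (p := 2) ?_ ?_
  · rw [QuotientGroup.ker_mk']
    exact Cfsg.Agent.S0398.result
  · simp

/-- The Schur multiplier of the Conway group Co₁ (the automorphism group of the rank-24 lattice modulo its centre) is cyclic of order 2; here the Schur multiplier is described through stem extensions, as in the definitions: surjective homomorphisms onto the group from a finite group, whose kernel is central in that finite group and contained in that finite group's commutator subgroup. -/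
theorem result : Cfsg.HasCyclicSchurMultiplier Cfsg.Spor.Co1 2 := by
  refine Cfsg.Agent.Lib.Sporadic.Co1Mult.hasSchur_of_cover (QuotientGroup.mk' (Subgroup.center Cfsg.Co0))
    (QuotientGroup.mk'_surjective _) ?_ Cfsg.Agent.Lib.Sporadic.Co1Mult.perf_Co0
    Cfsg.Agent.Lib.Sporadic.Co1Mult.trivMult_Co0 eKer
  rw [QuotientGroup.ker_mk']

end Cfsg.Agent.S2043
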