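import Cfsg.Statements.S2064
import Cfsg.Agent.Lib.Compute.M24Out
import Cfsg.Agent.S0374

set_option autoImplicit false
open Cfsg

namespace Cfsg.Agent.S2064

open Cfsg.Agent.Lib.Compute.Golay Cfsg.Agent.Lib.Compute.GolayFast
open Cfsg.Agent.Lib.Compute.M24 Cfsg.Agent.Lib.Compute.M24Enum Cfsg.Agent.Lib.Compute.M24Norm
open Cfsg.Agent.Lib.Compute.OutCert Cfsg.Agent.Lib.Compute.M24Out

/-- The generators. -/
def gensT : List (List ℕ) := [aL, muL, tauL, dlL]

/-- The candidates for the images of the generators. -/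
def candsC : List (List (List ℕ)) := [[aL, powL aL 22], [muL], mu10acc, mu3acc]

/-- The relators. -/
def relsW : List (List ℕ) := [[2, 0, 2, 0, 2, 0], [3, 0, 3, 0, 3, 0, 3, 0, 3, 0, 3, 0],
  [3, 3, 0, 3, 3, 0, 3, 3, 0, 3, 3, 0, 3, 3, 0]]

theorem gens_valid : ∀ L ∈ gensT, validL L = true := by decide +kernel

theorem gens_mem : ∀ L ∈ gensT, ofL L ∈ M24 := by
  intro L hL
  exact mem_M24_of_inM24 (codes_ofL (gens_valid L hL))
    ((by decide +kernel : ∀ L ∈ gensT, inM24 L = true) L hL)

theorem rels_ok : ∀ w ∈ relsW, evalWord gensT w = idL := by decide +kernel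

theorem sections_ok : sectionsOK gensT candsC relsW = true := by decide +kernel

theorem gen_le : M24 ≤ Subgroup.closure (setOf gensT) := by
  have h1 : ∀ σ τ ρ : P, toL σ = aL → toL τ = tauL → toL ρ = dlL →
      Subgroup.closure {σ, τ, ρ} ≤ Subgroup.closure (setOf gensT) := by
    intro σ τ ρ h1 h2 h3
    rw [Subgroup.closure_le]
    rintro x (rfl | rfl | rfl)
    · exact Subgroup.subset_closure ⟨aL, by simp [gensT], eq_of_toL (by rw [h1, toL_ofL validL_aL])⟩
    · exact Subgroup.subset_closure ⟨tauL, by simp [gensT], eq_of_toL (by rw [h2, toL_ofL validL_tauL])⟩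
    · exact Subgroup.subset_closure ⟨dlL, by simp [gensT], eq_of_toL (by rw [h3, toL_ofL validL_dlL])⟩
  rw [← Cfsg.Agent.S0374.result]
  exact h1 _ _ _ (by decide +kernel) (by decide +kernel) (by decide +kernel)

theorem fixed (F : P → P) (hF : PHom M24 F) (e : ℕ) (he : e = 1 ∨ e = 23 - 1) (hA : F A = A ^ e) (hMu : F Mu = Mu) :
    ∀ x ∈ M24, F x = x := by
  have h10 : Tau * Mu = Mu ^ 10 * Tau :=
    mul_eq_pow_mul (by rw [toL_Tau, toL_Mu]; decide +kernel)
  have h3 : Dl * Mu = Mu ^ 3 * Dl :=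
    mul_eq_pow_mul (by rw [toL_Dl, toL_Mu]; decide +kernel)
  have hτ := mu10_mem (hF.mem Tau Tau_mem) (rel_image hF Tau_mem Mu_mem h10 hMu)
  have hδ := mu3_mem (hF.mem Dl Dl_mem) (rel_image hF Dl_mem Mu_mem h3 hMu)
  refine finish hF gens_valid gens_mem gen_le rels_ok ?_ sections_ok
  refine .cons ?_ (.cons ?_ (.cons hτ (.cons hδ .nil)))
  · show toL (F A) ∈ _
    rw [hA]
    rcases he with rfl | rfl
    · simp [toL_A]
    · rw [toL_pow, toL_A]
      simp
  · show toL (F Mu) ∈ _
    rw [hMu, toL_Mu]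
    simp

/-- The outer automorphism group of the Mathieu group M₂₄ (the automorphism group of the length-24 binary code) is trivial: every automorphism is inner. -/
theorem result : Nat.card (Cfsg.Out ↥Cfsg.M24) = 1 := by
  have : Fact (Nat.Prime 23) := ⟨by norm_num⟩
  refine card_out_eq_one fun φ => mem_inn_of_isInnerF ?_
  refine inner_of_rigid (π := A) (ρ := Mu) (p := 23) (r := 2) A_mem Mu_mem
    (not_sq_dvd_card le_rfl (by norm_num)) (pow_eq_one_of (by rw [toL_A]; decide +kernel))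
    (ne_one_of (by rw [toL_A]; decide +kernel))
    (mul_eq_pow_mul (by rw [toL_A, toL_Mu]; decide +kernel))
    (exp_of_check (by norm_num) (by decide +kernel)) ?_ fixed (pHom_ofAut φ)
  intro x hx hr
  exact conj_form validL_aL validL_muL (by decide +kernel) a2acc_eq (a2_mem hx hr)

end Cfsg.Agent.S2064
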