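import Cfsg.Statements.S2131
import Mathlib
import Cfsg.Agent.Lib.Sporadic.J1.Invol
import Cfsg.Agent.Lib.Sporadic.J1.InvolData

set_option autoImplicit false
open Cfsg

namespace Cfsg.Agent.S2131

open Cfsg.Spor Cfsg.Agent.Lib.Sporadic.J1 PackedMat Data Cert Orders Basic Invol InvolData

/-- The involution. -/
def T : J1 := ⟨e1, e1_mem⟩

/-- Its packed form. -/
def tP : Nat := wP w1

theorem tP_red : Reduced tP := wP_reduced _

theorem T_val : ((T : GL7) : Mat) = dec tP := wG_val _

theorem T_sq : T * T = 1 := Subtype.ext e1_sq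

theorem T_ne : T ≠ 1 := by
  intro h
  have h1 : ((T : GL7) : Mat) = dec oneP := by
    rw [h, dec_oneP]; rfl
  rw [T_val] at h1
  have h2 : tP = oneP := dec_injOn tP_red reduced_oneP h1
  revert h2
  decide +kernel

theorem order_T : orderOf T = 2 :=
  orderOf_eq_prime (by rw [pow_two, T_sq]) T_ne

set_option maxRecDepth 100000 in
theorem inv_ok : conjCheck tP invL invT = true := by decide +kernel

set_option maxRecDepth 100000 in
theorem inv_nodup : nodupB invL = true := by decide +kernel

set_option maxRecDepth 100000 in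
theorem inv_len : invL.length = 1463 := by decide +kernel

/-- The centraliser of the involution. -/
abbrev C : Subgroup J1 := Subgroup.centralizer ({T} : Set J1)

theorem card_C_le : Nat.card C ≤ 120 := by
  have h := orbit_bound T (I := invL)
    (conjCheck_sound (isConj_self tP_red T_val) (fun k s hs => isConj_step k s hs) _ _ inv_ok)
    (nodup_of_nodupB inv_nodup)
  rw [inv_len] at h
  have h' : 1463 * Nat.card C ≤ 175560 := h
  omega

/-! ### The alternating group -/

/-- A permutation of five points as a number. -/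
def code (σ : Equiv.Perm (Fin 5)) : Nat :=
  (σ 0 : Nat) + (σ 1 : Nat) * 5 + (σ 2 : Nat) * 25 + (σ 3 : Nat) * 125 + (σ 4 : Nat) * 625

/-- A digit. -/
def dig (a i : Nat) : Nat :=
  match i with
  | 0 => a % 5
  | 1 => a / 5 % 5
  | 2 => a / 25 % 5
  | 3 => a / 125 % 5
  | _ => a / 625 % 5

theorem dig_code (σ : Equiv.Perm (Fin 5)) (i : Fin 5) : dig (code σ) (i : Nat) = (σ i : Nat) := by
  have h0 := (σ 0).2
  have h1 := (σ 1).2
  have h2 := (σ 2).2
  have h3 := (σ 3).2
  have h4 := (σ 4).2
  fin_cases i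
  · change dig (code σ) 0 = (σ 0 : Nat)
    simp only [dig, code]; omega
  · change dig (code σ) 1 = (σ 1 : Nat)
    simp only [dig, code]; omega
  · change dig (code σ) 2 = (σ 2 : Nat)
    simp only [dig, code]; omega
  · change dig (code σ) 3 = (σ 3 : Nat)
    simp only [dig, code]; omega
  · change dig (code σ) 4 = (σ 4 : Nat)
    simp only [dig, code]; omega

/-- The product of codes. -/
def comp (a b : Nat) : Nat :=
  dig a (dig b 0) + dig a (dig b 1) * 5 + dig a (dig b 2) * 25 + dig a (dig b 3) * 125 +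
    dig a (dig b 4) * 625

theorem code_mul (σ τ : Equiv.Perm (Fin 5)) : code (σ * τ) = comp (code σ) (code τ) := by
  have h : ∀ i : Fin 5, dig (code σ) (dig (code τ) (i : Nat)) = ((σ * τ) i : Nat) := by
    intro i
    rw [dig_code τ i, dig_code σ (τ i)]
    rfl
  have h0 : dig (code σ) (dig (code τ) 0) = ((σ * τ) 0 : Nat) := h 0
  have h1 : dig (code σ) (dig (code τ) 1) = ((σ * τ) 1 : Nat) := h 1
  have h2 : dig (code σ) (dig (code τ) 2) = ((σ * τ) 2 : Nat) := h 2
  have h3 : dig (code σ) (dig (code τ) 3) = ((σ * τ) 3 : Nat) := h 3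
  have h4 : dig (code σ) (dig (code τ) 4) = ((σ * τ) 4 : Nat) := h 4
  rw [comp, h0, h1, h2, h3, h4]
  rfl

/-- Looking up a table. -/
def look : List (Nat × Nat × List Bool) → Nat → Nat × List Bool
  | [], _ => (oneP, [])
  | e :: l, c => if Nat.beq e.1 c then e.2 else look l c

/-- The check of the table. -/
def tabCheck : List (Nat × Nat × List Bool) → Bool
  | [] => true
  | e :: l => Nat.beq (wP e.2.2) e.2.1 && tabCheck l

theorem look_spec {l : List (Nat × Nat × List Bool)} (h : tabCheck l = true) (c : Nat) :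
    wP (look l c).2 = (look l c).1 := by
  induction l with
  | nil => rfl
  | cons e l ih =>
    simp only [tabCheck, Bool.and_eq_true, Nat.beq_eq] at h
    simp only [look]
    split
    · exact h.1
    · exact ih h.2

theorem tab_ok : tabCheck a5T = true := by decide +kernel

/-- The packed matrix of a code. -/
def pOf (c : Nat) : Nat := (look a5T c).1

/-- The word of a code. -/
def wOf (c : Nat) : List Bool := (look a5T c).2

theorem wP_wOf (c : Nat) : wP (wOf c) = pOf c := look_spec tab_ok c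

theorem pOf_red (c : Nat) : Reduced (pOf c) := wP_wOf c ▸ wP_reduced _

/-- The map on permutations. -/
def ψ (σ : Equiv.Perm (Fin 5)) : J1 := ⟨wG (wOf (code σ)), wG_mem _⟩

theorem ψ_val (σ : Equiv.Perm (Fin 5)) : ((ψ σ : GL7) : Mat) = dec (pOf (code σ)) := by
  rw [← wP_wOf]
  exact wG_val _

/-- The list of codes. -/
def codes : List Nat := a5T.map (·.1)

theorem codes_mem' : ∀ σ : Equiv.Perm (Fin 5), Equiv.Perm.sign σ = 1 → code σ ∈ codes := by
  decide +kernel

theorem codes_mem (σ : Equiv.Perm (Fin 5)) (h : σ ∈ alternatingGroup (Fin 5)) : code σ ∈ codes :=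
  codes_mem' σ (Equiv.Perm.mem_alternatingGroup.mp h)

theorem code_id : ∀ σ : Equiv.Perm (Fin 5), code σ = 2930 → σ = 1 := by
  decide +kernel

/-- The main check on the table. -/
def mainCheck : Bool :=
  codes.all fun a =>
    Nat.beq (mulP tP (pOf a)) (mulP (pOf a) tP) && !Nat.beq (mulP tP (pOf a)) oneP &&
      (!Nat.beq (pOf a) oneP || Nat.beq a 2930) &&
      codes.all fun b => Nat.beq (mulP (pOf a) (pOf b)) (pOf (comp a b))

set_option maxRecDepth 100000 in
theorem main_ok : mainCheck = true := by decide +kernel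

theorem main_a {a : Nat} (ha : a ∈ codes) :
    mulP tP (pOf a) = mulP (pOf a) tP ∧ mulP tP (pOf a) ≠ oneP ∧ (pOf a = oneP → a = 2930) ∧
      ∀ b ∈ codes, mulP (pOf a) (pOf b) = pOf (comp a b) := by
  have h := List.all_eq_true.mp main_ok a ha
  simp only [Bool.and_eq_true, Nat.beq_eq, Bool.not_eq_true', Bool.or_eq_true] at h
  obtain ⟨⟨⟨h1, h2⟩, h3⟩, h4⟩ := h
  refine ⟨h1, ?_, ?_, ?_⟩
  · intro e
    rw [e] at h2
    simp at h2
  · intro e
    rcases h3 with h3 | h3
    · rw [e] at h3
      simp at h3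
    · exact h3
  · intro b hb
    simpa using List.all_eq_true.mp h4 b hb

theorem ψ_mul {σ τ : Equiv.Perm (Fin 5)} (hσ : σ ∈ alternatingGroup (Fin 5))
    (hτ : τ ∈ alternatingGroup (Fin 5)) : ψ (σ * τ) = ψ σ * ψ τ := by
  apply Subtype.ext
  apply Units.ext
  have h := (main_a (codes_mem σ hσ)).2.2.2 _ (codes_mem τ hτ)
  rw [ψ_val, code_mul, ← h, dec_mulP (pOf_red _) (pOf_red _)]
  show _ = ((ψ σ : GL7) : Mat) * ((ψ τ : GL7) : Mat)
  rw [ψ_val, ψ_val]

theorem ψ_comm {σ : Equiv.Perm (Fin 5)} (hσ : σ ∈ alternatingGroup (Fin 5)) :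
    T * ψ σ = ψ σ * T := by
  apply Subtype.ext
  apply Units.ext
  have h := (main_a (codes_mem σ hσ)).1
  show ((T : GL7) : Mat) * ((ψ σ : GL7) : Mat) = ((ψ σ : GL7) : Mat) * ((T : GL7) : Mat)
  rw [ψ_val, T_val, ← dec_mulP tP_red (pOf_red _), h, dec_mulP (pOf_red _) tP_red]

theorem ψ_one : ψ 1 = 1 := by
  have h : (1 : Equiv.Perm (Fin 5)) ∈ alternatingGroup (Fin 5) := one_mem _
  have := ψ_mul h h
  rw [mul_one] at this
  exact (mul_eq_left.mp this.symm)

/-- The group of order two. -/
abbrev Z2 := Multiplicative (ZMod 2)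

theorem z2_cases (c : Z2) : c = 1 ∨ c = Multiplicative.ofAdd 1 := by
  revert c
  decide

/-- The map from the group of order 2. -/
def κ (c : Z2) : J1 := if c = 1 then 1 else T

theorem κ_mul (c d : Z2) : κ (c * d) = κ c * κ d := by
  have e : (Multiplicative.ofAdd (1 : ZMod 2)) ≠ 1 := by decide
  have e2 : (Multiplicative.ofAdd (1 : ZMod 2)) * (Multiplicative.ofAdd (1 : ZMod 2)) = 1 := by
    decide
  rcases z2_cases c with rfl | rfl <;> rcases z2_cases d with rfl | rfl <;>
    simp [κ, e, e2, T_sq]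

/-- The isomorphism. -/
def φ : Z2 × alternatingGroup (Fin 5) →* J1 where
  toFun p := κ p.1 * ψ p.2
  map_one' := by
    show κ 1 * ψ 1 = 1
    rw [ψ_one]
    simp [κ]
  map_mul' p q := by
    show κ (p.1 * q.1) * ψ ((p.2 : Equiv.Perm (Fin 5)) * q.2) = κ p.1 * ψ p.2 * (κ q.1 * ψ q.2)
    rw [ψ_mul p.2.2 q.2.2, κ_mul]
    have hc : ψ p.2 * κ q.1 = κ q.1 * ψ p.2 := by
      rcases z2_cases q.1 with h | h
      · simp [κ, h]
      · have e : (Multiplicative.ofAdd (1 : ZMod 2)) ≠ 1 := by decide
        simp only [κ, h, e, if_false]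
        exact (ψ_comm p.2.2).symm
    calc κ p.1 * κ q.1 * (ψ p.2 * ψ q.2) = κ p.1 * (κ q.1 * ψ p.2) * ψ q.2 := by group
      _ = κ p.1 * (ψ p.2 * κ q.1) * ψ q.2 := by rw [hc]
      _ = _ := by group

theorem φ_mem (p : Z2 × alternatingGroup (Fin 5)) : φ p ∈ C := by
  rw [Subgroup.mem_centralizer_singleton_iff]
  show κ p.1 * ψ p.2 * T = T * (κ p.1 * ψ p.2)
  have hc : κ p.1 * T = T * κ p.1 := by
    simp only [κ]
    split <;> simp
  rw [mul_assoc, (ψ_comm p.2.2).symm, ← mul_assoc, hc, mul_assoc]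

theorem φ_inj : Function.Injective φ := by
  rw [injective_iff_map_eq_one]
  rintro ⟨c, σ, hσ⟩ h
  have h' : κ c * ψ σ = 1 := h
  have hm := main_a (codes_mem σ hσ)
  rcases z2_cases c with rfl | hc
  · have h2 : ψ σ = 1 := by simpa [κ] using h'
    have h3 : dec (pOf (code σ)) = dec oneP := by
      rw [← ψ_val, h2, dec_oneP]; rfl
    have h4 := code_id σ (hm.2.2.1 (dec_injOn (pOf_red _) reduced_oneP h3))
    subst h4
    rfl
  · exfalso
    have e : (Multiplicative.ofAdd (1 : ZMod 2)) ≠ 1 := by decide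
    have h2 : T * ψ σ = 1 := by simpa [κ, hc, e] using h'
    have h3 : dec (mulP tP (pOf (code σ))) = dec oneP := by
      rw [dec_mulP tP_red (pOf_red _), dec_oneP, ← T_val, ← ψ_val]
      have := congrArg (fun x : J1 => ((x : GL7) : Mat)) h2
      exact this
    exact hm.2.1 (dec_injOn (reduced_mulP tP_red (pOf_red _)) reduced_oneP h3)

/-- The restriction to the centraliser. -/
def φC : Z2 × alternatingGroup (Fin 5) →* C :=
  φ.codRestrict C φ_mem

theorem φC_inj : Function.Injective φC := by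
  intro a b h
  exact φ_inj (congrArg Subtype.val h)

theorem card_dom : Nat.card (Z2 × alternatingGroup (Fin 5)) = 120 := by
  rw [Nat.card_prod]
  have h1 : Nat.card Z2 = 2 := by
    rw [Nat.card_congr Multiplicative.toAdd, Nat.card_zmod]
  have h2 : Nat.card (alternatingGroup (Fin 5)) = 60 := by
    rw [nat_card_alternatingGroup]
    simp [Nat.factorial]
  rw [h1, h2]

theorem φC_bij : Function.Bijective φC := by
  refine (Nat.bijective_iff_injective_and_card φC).mpr ⟨φC_inj, ?_⟩
  apply le_antisymm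
  · exact Nat.card_le_card_of_injective φC φC_inj
  · rw [card_dom]; exact card_C_le

/-- The Janko group J₁ (the group generated by two explicit 7 × 7 matrices over the integers modulo 11) has an involution whose centraliser is isomorphic to the direct product of a group of order 2 with the alternating group of degree 5. -/
theorem result : ∃ t : ↥Cfsg.Spor.J1, orderOf t = 2 ∧ Nonempty (↥(Subgroup.centralizer ({t} : Set ↥Cfsg.Spor.J1)) ≃* Multiplicative (ZMod 2) × ↥(alternatingGroup (Fin 5))) :=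
  ⟨T, order_T, ⟨(MulEquiv.ofBijective φC φC_bij).symm⟩⟩

end Cfsg.Agent.S2131
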