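import Cfsg.Statements.S2065
import Mathlib
import Cfsg.Agent.S2131
import Cfsg.Agent.S2039

set_option autoImplicit false
open Cfsg

namespace Cfsg.Agent.S2065

open Cfsg.Spor Cfsg.Agent.Lib.Sporadic.J1 PackedMat Data Cert Orders Basic Invol InvolData
open scoped Pointwise

/-- The involution. -/
abbrev T : J1 := Cfsg.Agent.S2131.T
/-- The generator of order 7. -/
abbrev XX : J1 := XJ

theorem XX_val : ((XX : GL7) : Mat) = dec xP := jankoX_val

theorem card_J : Nat.card J1 = 175560 := card_J1

theorem factorization_eq {p n k : ℕ} (hp : p.Prime) (hn : n ≠ 0) (h1 : p ^ k ∣ n)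
    (h2 : ¬ p ^ (k + 1) ∣ n) : n.factorization p = k := by
  apply le_antisymm
  · by_contra h
    push Not at h
    exact h2 ((hp.pow_dvd_iff_le_factorization hn).mpr h)
  · exact (hp.pow_dvd_iff_le_factorization hn).mp h1

instance fact2 : Fact (Nat.Prime 2) := ⟨by norm_num⟩
instance fact7 : Fact (Nat.Prime 7) := ⟨by norm_num⟩

/-! ### Powers of `X` -/

/-- The word of a power of `X`. -/
def rep (k : Nat) : List Bool := List.replicate k true

theorem wG_rep (k : Nat) : wG (rep k) = jankoX ^ k := by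
  induction k with
  | zero => rfl
  | succ m ih =>
    have : rep (m + 1) = true :: rep m := rfl
    rw [this, wG]
    simp only [if_true]
    rw [ih, pow_succ']

theorem coe_XX_pow (k : Nat) : ((XX ^ k : J1) : GL7) = wG (rep k) := by
  rw [wG_rep]
  rfl

theorem XX_pow_seven : XX ^ 7 = 1 := by
  apply Subtype.ext
  rw [coe_XX_pow]
  exact wG_eq_of (v := rep 7) (w := []) (by decide +kernel)

theorem order_XX : orderOf XX = 7 := by
  apply orderOf_eq_prime XX_pow_seven
  intro h
  have h1 : ((XX : GL7) : Mat) = dec oneP := by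
    rw [h, dec_oneP]; rfl
  rw [XX_val] at h1
  have h2 : xP = oneP := dec_injOn reduced_xP reduced_oneP h1
  revert h2
  decide +kernel

/-! ### Elements of order seven -/

/-- A word of an element which acts on `X` as the third power. -/
def nW : List Bool := [false,true,false,true,false,true,true,false,true,true,true,true,false,true,false,true,true,false,false]

/-- An element which acts on `X` as the third power. -/
def NN : J1 := ⟨wG nW, wG_mem _⟩

theorem NN_conj : NN * XX = XX ^ 3 * NN := by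
  apply Subtype.ext
  have e : ((XX ^ 3 : J1) : GL7) = wG (rep 3) := coe_XX_pow 3
  show wG nW * jankoX = ((XX ^ 3 : J1) : GL7) * wG nW
  rw [e]
  have e2 : jankoX = wG [true] := (mul_one _).symm
  rw [e2, ← wG_append, ← wG_append]
  exact wG_eq_of (by decide +kernel)

theorem NN_semi : SemiconjBy NN XX (XX ^ 3) := NN_conj

theorem NN_pow_semi (j : ℕ) : SemiconjBy (NN ^ j) XX (XX ^ (3 ^ j)) := by
  induction j with
  | zero => simpa using SemiconjBy.one_left XX
  | succ m ih =>
    rw [pow_succ' NN]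
    have := (NN_semi.pow_right (3 ^ m)).mul_left ih
    have e : (XX ^ 3) ^ (3 ^ m) = XX ^ (3 ^ (m + 1)) := by
      rw [← pow_mul, pow_succ' 3 m]
    rw [e] at this
    exact this

theorem exists_power : ∀ k : Fin 7, (k : ℕ) ≠ 0 → ∃ j : Fin 6, 3 ^ (j : ℕ) % 7 = (k : ℕ) := by
  decide

theorem card_zpowers_of {x : J1} {n : ℕ} (h : orderOf x = n) :
    Nat.card (Subgroup.zpowers x) = n := by
  rw [Nat.card_zpowers, h]

theorem fact7_eq : (Nat.card J1).factorization 7 = 1 := by
  rw [card_J]
  exact factorization_eq (by norm_num) (by norm_num) (by norm_num) (by norm_num)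

theorem fact2_eq : (Nat.card J1).factorization 2 = 3 := by
  rw [card_J]
  exact factorization_eq (by norm_num) (by norm_num) (by norm_num) (by norm_num)

/-- All the elements of order seven are conjugate. -/
theorem conj_of_order7 (x : J1) (hx : orderOf x = 7) : ∃ g : J1, g * x * g⁻¹ = XX := by
  let S0 : Sylow 7 J1 := Sylow.ofCard (Subgroup.zpowers XX)
    (by rw [card_zpowers_of order_XX, fact7_eq, pow_one])
  let S1 : Sylow 7 J1 := Sylow.ofCard (Subgroup.zpowers x)
    (by rw [card_zpowers_of hx, fact7_eq, pow_one])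
  obtain ⟨g, hg⟩ := MulAction.exists_smul_eq J1 S1 S0
  have hmem : g * x * g⁻¹ ∈ Subgroup.zpowers XX := by
    have h1 : x ∈ (S1 : Subgroup J1) := Subgroup.mem_zpowers x
    have h2 := Subgroup.smul_mem_pointwise_smul x (MulAut.conj g) (S1 : Subgroup J1) h1
    have h3 : (S0 : Subgroup J1) = MulAut.conj g • (S1 : Subgroup J1) := by
      rw [← hg]; rfl
    rw [← h3] at h2
    exact h2
  obtain ⟨k, hk⟩ := (mem_powers_iff_mem_zpowers).mpr hmem
  have hk' : XX ^ (k % 7) = g * x * g⁻¹ := by
    rw [← pow_eq_pow_mod k XX_pow_seven]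
    exact hk
  have hlt : k % 7 < 7 := Nat.mod_lt _ (by norm_num)
  have hne : k % 7 ≠ 0 := by
    intro h0
    rw [h0, pow_zero] at hk'
    have : x = 1 := by
      have h2 : g * x = g := by
        have := hk'.symm
        rwa [mul_inv_eq_one] at this
      exact mul_eq_left.mp h2
    rw [this, orderOf_one] at hx
    omega
  obtain ⟨j, hj⟩ := exists_power ⟨k % 7, hlt⟩ hne
  have hj' : 3 ^ (j : ℕ) % 7 = k % 7 := hj
  have e : XX ^ (3 ^ (j : ℕ)) = g * x * g⁻¹ := by
    rw [pow_eq_pow_mod _ XX_pow_seven, hj', hk']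
  have hs : NN ^ (j : ℕ) * XX = XX ^ (3 ^ (j : ℕ)) * NN ^ (j : ℕ) := NN_pow_semi j
  refine ⟨(NN ^ (j : ℕ))⁻¹ * g, ?_⟩
  have e2 : (NN ^ (j : ℕ))⁻¹ * g * x * ((NN ^ (j : ℕ))⁻¹ * g)⁻¹ =
      (NN ^ (j : ℕ))⁻¹ * (g * x * g⁻¹) * NN ^ (j : ℕ) := by group
  rw [e2, ← e, mul_assoc, ← hs, inv_mul_cancel_left]

/-! ### Involutions -/

/-- The elements of `P8` are conjugate to `e1` under the powers of `X`. -/
def p8ConjCheck : Bool :=
  p8L.all fun v => v.isEmpty || [0, 1, 2, 3, 4, 5, 6].any fun j =>
    Nat.beq (mulP (wP (rep j)) (wP w1)) (mulP (wP v) (wP (rep j)))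

theorem p8Conj_ok : p8ConjCheck = true := by decide +kernel

theorem T_coe : ((T : J1) : GL7) = wG w1 := rfl

/-- All the involutions are conjugate. -/
theorem conj_of_order2 (y : J1) (hy : orderOf y = 2) : ∃ g : J1, g * T * g⁻¹ = y := by
  have hP : IsPGroup 2 (Subgroup.zpowers y) :=
    IsPGroup.of_card (n := 1) (by rw [card_zpowers_of hy, pow_one])
  obtain ⟨Q, hQ⟩ := hP.exists_le_sylow
  let S0 : Sylow 2 J1 := Sylow.ofCard Cfsg.Agent.S2039.Q8
    (by rw [Cfsg.Agent.S2039.card_Q8, fact2_eq]; norm_num)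
  obtain ⟨g, hg⟩ := MulAction.exists_smul_eq J1 Q S0
  have hmem : g * y * g⁻¹ ∈ Cfsg.Agent.S2039.Q8 := by
    have h1 : y ∈ (Q : Subgroup J1) := hQ (Subgroup.mem_zpowers y)
    have h2 := Subgroup.smul_mem_pointwise_smul y (MulAut.conj g) (Q : Subgroup J1) h1
    have h3 : (S0 : Subgroup J1) = MulAut.conj g • (Q : Subgroup J1) := by
      rw [← hg]; rfl
    rw [← h3] at h2
    exact h2
  have hmem2 : ((g * y * g⁻¹ : J1) : GL7) ∈ P8 := by
    rw [← Cfsg.Agent.S2039.map_Q8]
    exact ⟨_, hmem, rfl⟩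
  obtain ⟨x, hx, hd⟩ := P8_sub hmem2
  obtain ⟨v, hv, rfl⟩ := List.mem_map.mp hx
  have hcheck := List.all_eq_true.mp p8Conj_ok v hv
  simp only [Bool.or_eq_true, List.any_eq_true, Nat.beq_eq, List.isEmpty_iff] at hcheck
  rcases hcheck with rfl | ⟨j, -, hj⟩
  · exfalso
    have h1 : g * y * g⁻¹ = 1 := by
      apply Subtype.ext
      apply Units.ext
      rw [hd]
      show dec oneP = _
      rw [dec_oneP]
      rfl
    have h2 : y = 1 := by
      have h3 : g * y = g := by rwa [mul_inv_eq_one] at h1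
      exact mul_eq_left.mp h3
    rw [h2, orderOf_one] at hy
    omega
  · have hj2 : XX ^ j * T = (g * y * g⁻¹) * XX ^ j := by
      apply Subtype.ext
      apply Units.ext
      have a1 : ((XX ^ j : J1) : GL7) = wG (rep j) := coe_XX_pow j
      show (((XX ^ j : J1) : GL7) : Mat) * ((wG w1 : GL7) : Mat) =
        (((g * y * g⁻¹ : J1) : GL7) : Mat) * (((XX ^ j : J1) : GL7) : Mat)
      rw [a1, hd, wG_val, wG_val, ← dec_mulP (wP_reduced _) (wP_reduced _),
        ← dec_mulP (wP_reduced _) (wP_reduced _), hj]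
    refine ⟨g⁻¹ * XX ^ j, ?_⟩
    have e : g⁻¹ * XX ^ j * T * (g⁻¹ * XX ^ j)⁻¹ = g⁻¹ * (XX ^ j * T) * (XX ^ j)⁻¹ * g := by group
    rw [e, hj2]
    group

theorem card_C : Nat.card (Subgroup.centralizer ({T} : Set J1)) = 120 := by
  have h := Nat.card_congr (MulEquiv.ofBijective _ Cfsg.Agent.S2131.φC_bij).toEquiv
  rw [Cfsg.Agent.S2131.card_dom] at h
  exact h.symm

/-- Every element of `J₁` has a packed form. -/
theorem exists_packed {g : GL7} (hg : g ∈ J1) : ∃ a, Reduced a ∧ (g : Mat) = dec a := by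
  obtain ⟨p, -, x, hx, hd⟩ := mem_TL hg
  have hrx := reduced_Ls x hx
  exact ⟨mulP (tt p) x, reduced_mulP (reduced_tt p) hrx, by
    rw [dec_mulP (reduced_tt p) hrx, hd]⟩

set_option maxRecDepth 100000 in
theorem invL_ok : ∀ s ∈ invL, IsConj T s :=
  conjCheck_sound (isConj_self Cfsg.Agent.S2131.tP_red Cfsg.Agent.S2131.T_val)
    (fun k s hs => isConj_step k s hs) _ _ Cfsg.Agent.S2131.inv_ok

/-- The list contains every conjugate of `T`. -/
theorem mem_invL (g : J1) : ∃ s ∈ invL, (((g * T * g⁻¹ : J1) : GL7) : Mat) = dec s := by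
  by_contra hcon
  push Not at hcon
  obtain ⟨a, ha, hd⟩ := exists_packed (g * T * g⁻¹ : J1).2
  have hn : a ∉ invL := fun h => hcon a h hd
  have h1 := orbit_bound T (I := a :: invL) (by
    intro s hs
    rcases List.mem_cons.mp hs with rfl | hs
    · exact ⟨ha, g, hd⟩
    · exact invL_ok s hs) (List.nodup_cons.mpr ⟨hn, nodup_of_nodupB Cfsg.Agent.S2131.inv_nodup⟩)
  rw [List.length_cons, Cfsg.Agent.S2131.inv_len, card_C] at h1
  omega

/-! ### The second generator -/

/-- The word of the involution `y`. -/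
def yW : List Bool := [false,true,false,true,true,false,false,true,true,true,false,false,true,false,false]

/-- The involution `y` -/
def yJ : J1 := ⟨wG yW, wG_mem _⟩

/-- Its packed form. -/
def yyP : Nat := wP yW

/-- The candidates. -/
def seven : List Nat :=
  [0, 1, 2, 3, 4, 5, 6].map fun k => mulP (mulP (wP (rep k)) yyP) (wP (rep (7 - k)))

/-- The check on a candidate. -/
def candOK (s : Nat) : Bool :=
  !(Nat.beq (powN (mulP xP s) 3) oneP && Nat.beq (powN (mulP (wP (rep 3)) s) 19) oneP) ||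
    memB s seven

set_option maxRecDepth 100000 in
theorem cand_ok : invL.all candOK = true := by decide +kernel

theorem mem_seven {s : Nat} (hs : s ∈ seven) :
    ∃ k, k < 7 ∧ s = mulP (mulP (wP (rep k)) yyP) (wP (rep (7 - k))) := by
  obtain ⟨k, hk, rfl⟩ := List.mem_map.mp hs
  refine ⟨k, ?_, rfl⟩
  simp only [List.mem_cons, List.not_mem_nil, or_false] at hk
  omega

theorem yyP_red : Reduced yyP := wP_reduced _

theorem yJ_val : ((yJ : GL7) : Mat) = dec yyP := wG_val _

theorem yJ_sq : yJ * yJ = 1 := by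
  apply Subtype.ext
  show wG yW * wG yW = 1
  rw [← wG_append]
  exact wG_eq_of (v := _) (w := []) (by decide +kernel)

theorem yJ_ne : yJ ≠ 1 := by
  intro h
  have h1 : ((yJ : GL7) : Mat) = dec oneP := by
    rw [h, dec_oneP]; rfl
  rw [yJ_val] at h1
  have h2 : yyP = oneP := dec_injOn yyP_red reduced_oneP h1
  revert h2
  decide +kernel

theorem order_yJ : orderOf yJ = 2 :=
  orderOf_eq_prime (by rw [pow_two, yJ_sq]) yJ_ne

/-- The relators, on packed forms. -/
theorem rel_iff {y : J1} {s : Nat} (hs : Reduced s) (hv : ((y : GL7) : Mat) = dec s) :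
    ((XX * y) ^ 3 = 1 ↔ powN (mulP xP s) 3 = oneP) ∧
    ((XX ^ 3 * y) ^ 19 = 1 ↔ powN (mulP (wP (rep 3)) s) 19 = oneP) := by
  constructor
  · have h := pow_eq_one_iff (g := jankoX * (y : GL7)) (reduced_mulP reduced_xP hs)
      (val_mul_of reduced_xP hs jankoX_val hv) 3
    rw [← h]
    constructor
    · intro e
      have := congrArg Subtype.val e
      exact this
    · intro e
      exact Subtype.ext e
  · have hv3 : ((jankoX ^ 3 : GL7) : Mat) = dec (wP (rep 3)) := by
      rw [← wG_rep, wG_val]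
    have h := pow_eq_one_iff (g := jankoX ^ 3 * (y : GL7)) (reduced_mulP (wP_reduced _) hs)
      (val_mul_of (wP_reduced _) hs hv3 hv) 19
    rw [← h]
    constructor
    · intro e
      have := congrArg Subtype.val e
      exact this
    · intro e
      exact Subtype.ext e

theorem rel1 : (XX * yJ) ^ 3 = 1 :=
  (rel_iff yyP_red yJ_val).1.mpr (by decide +kernel)

theorem rel2 : (XX ^ 3 * yJ) ^ 19 = 1 :=
  (rel_iff yyP_red yJ_val).2.mpr (by decide +kernel)

/-- Words in two elements. -/
def evalW (a b : J1) : List Bool → J1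
  | [] => 1
  | c :: w => (if c then a else b) * evalW a b w

/-- Words in two packed elements. -/
def evalP (a b : Nat) : List Bool → Nat
  | [] => oneP
  | c :: w => mulP (if c then a else b) (evalP a b w)

theorem map_evalW (f : MulAut J1) (a b : J1) (w : List Bool) :
    f (evalW a b w) = evalW (f a) (f b) w := by
  induction w with
  | nil => exact map_one f
  | cons c w ih =>
    simp only [evalW, map_mul, ih]
    cases c <;> simp

theorem evalP_spec {A B : J1} {a b : Nat} (ha : Reduced a) (hb : Reduced b)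
    (hA : ((A : GL7) : Mat) = dec a) (hB : ((B : GL7) : Mat) = dec b) (w : List Bool) :
    Reduced (evalP a b w) ∧ ((evalW A B w : J1) : GL7).val = dec (evalP a b w) := by
  induction w with
  | nil => exact ⟨reduced_oneP, by rw [evalP, dec_oneP]; rfl⟩
  | cons c w ih =>
    cases c
    · refine ⟨reduced_mulP hb ih.1, ?_⟩
      simp only [evalW, evalP, if_false, Bool.false_eq_true]
      exact val_mul_of hb ih.1 hB ih.2
    · refine ⟨reduced_mulP ha ih.1, ?_⟩
      simp only [evalW, evalP, if_true]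
      exact val_mul_of ha ih.1 hA ih.2

/-- The word for `Y` in `X` and `y`. -/
def yOfW : List Bool := [false,true,true,true,true,false,true,true,true,true,false,true,true,false,true,true,true,true,false,true,true,true,true,false,true,true,false,true,true,true,true,false,true,true,true,true,false,true]

theorem Y_eq : evalW XX yJ yOfW = YJ := by
  apply Subtype.ext
  apply Units.ext
  rw [(evalP_spec reduced_xP yyP_red XX_val yJ_val yOfW).2]
  have : evalP xP yyP yOfW = yP := by decide +kernel
  rw [this]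
  exact jankoY_val.symm

/-- An automorphism which fixes `X` and `y` is the identity. -/
theorem eq_one_of_fix (γ : MulAut J1) (h1 : γ XX = XX) (h2 : γ yJ = yJ) : γ = 1 := by
  have hY : γ YJ = YJ := by
    rw [← Y_eq, map_evalW, h1, h2]
  ext ⟨g, hg⟩
  have key : ∀ (g : GL7) (hg : g ∈ J1), γ ⟨g, hg⟩ = ⟨g, hg⟩ := by
    intro g hg
    induction hg using Subgroup.closure_induction with
    | mem x hx =>
      rcases hx with rfl | hx
      · exact h1
      · rw [Set.mem_singleton_iff] at hx
        subst hx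
        exact hY
    | one => exact map_one γ
    | mul x y hx hy ihx ihy =>
      have e : (⟨x * y, mul_mem hx hy⟩ : J1) = ⟨x, hx⟩ * ⟨y, hy⟩ := rfl
      rw [e, map_mul, ihx, ihy]
    | inv x hx ih =>
      have e : (⟨x⁻¹, inv_mem hx⟩ : J1) = (⟨x, hx⟩ : J1)⁻¹ := rfl
      rw [e, map_inv, ih]
  rw [key g hg]
  rfl

/-- Every automorphism of `J₁` is inner. -/
theorem inner (α : MulAut J1) : α ∈ Inn J1 := by
  -- move `α X` to `X`
  have ho : orderOf (α XX) = 7 := by
    rw [MulEquiv.orderOf_eq, order_XX]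
  obtain ⟨g, hg⟩ := conj_of_order7 _ ho
  let β : MulAut J1 := MulAut.conj g * α
  have hβ : β XX = XX := by
    show MulAut.conj g (α XX) = XX
    rw [MulAut.conj_apply, hg]
  -- `β y` is a candidate
  have hoy : orderOf (β yJ) = 2 := by
    rw [MulEquiv.orderOf_eq, order_yJ]
  obtain ⟨h, hh⟩ := conj_of_order2 _ hoy
  obtain ⟨s, hs, hsd⟩ := mem_invL h
  rw [hh] at hsd
  have hred : Reduced s := (invL_ok s hs).1
  have r1 : (XX * β yJ) ^ 3 = 1 := by
    have := congrArg β rel1
    rwa [map_pow, map_mul, hβ, map_one] at this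
  have r2 : (XX ^ 3 * β yJ) ^ 19 = 1 := by
    have := congrArg β rel2
    rwa [map_pow, map_mul, map_pow, hβ, map_one] at this
  have hrel := rel_iff hred hsd
  have hcand := List.all_eq_true.mp cand_ok s hs
  simp only [candOK, Bool.or_eq_true, Bool.not_eq_true', Bool.and_eq_false_iff] at hcand
  have hs7 : s ∈ seven := by
    rcases hcand with (h1 | h1) | h1
    · exfalso
      rw [hrel.1.mp r1] at h1
      simp at h1
    · exfalso
      rw [hrel.2.mp r2] at h1
      simp at h1
    · exact mem_of_memB h1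
  obtain ⟨k, hk, rfl⟩ := mem_seven hs7
  -- `β y` is a conjugate of `y` under a power of `X`
  have hconj : β yJ = XX ^ k * yJ * (XX ^ k)⁻¹ := by
    have hinv : (XX ^ k)⁻¹ = XX ^ (7 - k) := by
      rw [inv_eq_iff_mul_eq_one, ← pow_add]
      have : k + (7 - k) = 7 := by omega
      rw [this, XX_pow_seven]
    rw [hinv]
    apply Subtype.ext
    apply Units.ext
    rw [hsd]
    show _ = (((XX ^ k : J1) : GL7) : Mat) * ((wG yW : GL7) : Mat) * (((XX ^ (7 - k) : J1) : GL7) : Mat)
    rw [coe_XX_pow, coe_XX_pow, wG_val, wG_val, wG_val,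
      dec_mulP (reduced_mulP (wP_reduced _) yyP_red) (wP_reduced _),
      dec_mulP (wP_reduced _) yyP_red]
    rfl
  -- compare
  let γ : MulAut J1 := (MulAut.conj (XX ^ k))⁻¹ * β
  have hγ1 : γ XX = XX := by
    show (MulAut.conj (XX ^ k)).symm (β XX) = XX
    rw [hβ, MulEquiv.symm_apply_eq, MulAut.conj_apply]
    rw [eq_mul_inv_iff_mul_eq, ← pow_succ, ← pow_succ']
  have hγ2 : γ yJ = yJ := by
    show (MulAut.conj (XX ^ k)).symm (β yJ) = yJ
    rw [hconj, MulEquiv.symm_apply_eq, MulAut.conj_apply]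
  have hγ := eq_one_of_fix γ hγ1 hγ2
  have hβ2 : β = MulAut.conj (XX ^ k) := by
    have : (MulAut.conj (XX ^ k))⁻¹ * β = 1 := hγ
    rw [inv_mul_eq_one] at this
    exact this.symm
  have hα : α = MulAut.conj (g⁻¹ * XX ^ k) := by
    have : MulAut.conj g * α = MulAut.conj (XX ^ k) := hβ2
    rw [map_mul, map_inv, eq_inv_mul_iff_mul_eq]
    exact this
  rw [hα]
  exact ⟨_, rfl⟩

/-- The outer automorphism group of the Janko group J₁ (the group generated by two explicit 7 × 7 matrices over the integers modulo 11) is trivial: every automorphism is inner. -/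
theorem result : Nat.card (Cfsg.Out ↥Cfsg.Spor.J1) = 1 := by
  have h : Inn J1 = ⊤ := (Subgroup.eq_top_iff' _).mpr inner
  show (Inn J1).index = 1
  rw [h, Subgroup.index_top]

end Cfsg.Agent.S2065
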