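import Cfsg.Statements.S2077
import Mathlib
import Cfsg.Agent.Lib.RuAut.BridgeP
import Cfsg.Agent.Lib.Sporadic.RuOut.Main

set_option autoImplicit false
open Cfsg

namespace Cfsg.Agent.S2077

/-- The outer automorphism group of the Rudvalis group (the unitary automorphism group of the rank-28 Gaussian lattice modulo its centre) is trivial: every automorphism is inner. -/
theorem result : Nat.card (Cfsg.Out Cfsg.Spor.Ru) = 1 := by
  obtain ⟨e⟩ := Cfsg.Agent.Lib.RuAut.BridgeP.iso_P
  exact (Cfsg.Agent.Lib.Compute.PermOut.card_out_congr e).trans Cfsg.Agent.Lib.Sporadic.RuOut.Main.card_out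

end Cfsg.Agent.S2077
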