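import Cfsg.Statements.S2096
import Mathlib
import Cfsg.Agent.Lib.SpinD.Final
import Cfsg.Agent.S0790
-- import your own Cfsg.Agent.* helpers here

set_option autoImplicit false
open Cfsg

namespace Cfsg.Agent.S2096



/-- Schur multipliers of the even-dimensional orthogonal groups of plus type and odd rank: for odd l ≥ 5 and a field F with q elements, the Schur multiplier of PΩ⁺_2l(F) (for the form Σ xᵢyᵢ) is cyclic of order gcd(4, q^l − 1); here the Schur multiplier is described through stem extensions, as in the definitions. -/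
theorem result {F : Type*} [Field F] [Fintype F] {q : ℕ} (hF : Fintype.card F = q) (l : ℕ) (hl : 5 ≤ l) (hodd : Odd l) : Cfsg.HasCyclicSchurMultiplier (Cfsg.POmega F (Cfsg.quadFormPlus l F)) (Nat.gcd 4 (q ^ l - 1)) := by
  classical
  obtain ⟨r, rfl⟩ : ∃ r, l = r + 4 := ⟨l - 4, by omega⟩
  have H4 : r = 0 → Fintype.card F ≠ 2 := fun h => by omega
  have hq2 : 2 ≤ q := by
    rw [← hF]
    exact Fintype.one_lt_card
  have hpos : 1 ≤ q ^ (r + 4) := Nat.one_le_pow _ _ (by omega)
  by_cases h2 : (2 : F) = 0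
  · -- characteristic two
    have hev : Even q := by
      rw [← hF]
      exact Cfsg.Agent.Lib.Classical.Orth.Center.card_even_iff h2
    have hev' : Even (q ^ (r + 4)) := hev.pow_of_ne_zero (by omega)
    have hg : Nat.gcd 4 (q ^ (r + 4) - 1) = 1 := by
      obtain ⟨a, ha⟩ := hev'
      have h1 : (q ^ (r + 4) - 1) % 4 = 1 ∨ (q ^ (r + 4) - 1) % 4 = 3 := by omega
      rw [Nat.gcd_rec]
      rcases h1 with h1 | h1 <;> rw [h1] <;> norm_num
    rw [hg]
    exact Cfsg.Agent.Lib.SpinD.schur_char2 h2 H4
  · have hod : Odd q := by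
      rw [← hF]
      exact Cfsg.Agent.Lib.Classical.Orth.Center.card_odd_iff h2
    have hod' : Odd (q ^ (r + 4)) := hod.pow
    by_cases h4 : q ^ (r + 4) % 4 = 1
    · -- `-1` is a square
      have hg : Nat.gcd 4 (q ^ (r + 4) - 1) = 4 := by
        apply Nat.gcd_eq_left
        omega
      rw [hg]
      have hsq : IsSquare (-1 : F) := by
        rw [FiniteField.isSquare_neg_one_iff, hF]
        intro h3
        obtain ⟨k, hk⟩ := hodd
        rw [hk, Nat.pow_mod, h3, pow_succ, pow_mul] at h4
        have h5 : (3 ^ 2) ^ k % 4 = 1 := by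
          rw [Nat.pow_mod]
          norm_num
        rw [Nat.mul_mod, h5] at h4
        norm_num at h4
      obtain ⟨i, hi⟩ := hsq
      exact Cfsg.Agent.Lib.SpinD.schur_z4 h2 hi.symm hodd
    · have h3 : q ^ (r + 4) % 4 = 3 := by
        obtain ⟨a, ha⟩ := hod'
        omega
      have hg : Nat.gcd 4 (q ^ (r + 4) - 1) = 2 := by
        have h1 : (q ^ (r + 4) - 1) % 4 = 2 := by omega
        rw [Nat.gcd_rec, h1]
        norm_num
      rw [hg]
      apply Cfsg.Agent.Lib.SpinD.schur_z2 h2
      intro x hx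
      have key := (Cfsg.Agent.S0790.result hF hod (r + 4) (by omega)).mp (by
        have hmem := (Cfsg.Agent.Lib.PresOm.OmLinks.omEquiv (r + 4) (by omega) F).symm x
        refine ⟨((Cfsg.Agent.Lib.PresOm.OmLinks.omEquiv (r + 4) (by omega) F).symm x).1,
          ((Cfsg.Agent.Lib.PresOm.OmLinks.omEquiv (r + 4) (by omega) F).symm x).2, ?_⟩
        have h1 := (Cfsg.Agent.Lib.PresOm.OmLinks.omEquiv (r + 4) (by omega) F).apply_symm_apply x
        have h5 := congrArg Subtype.val h1
        rw [← hx, ← h5]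
        rfl)
      exact h4 key

end Cfsg.Agent.S2096
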