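import Cfsg.Statements.S2097
import Mathlib
import Cfsg.Agent.Lib.SpinD.Final
-- import your own Cfsg.Agent.* helpers here

set_option autoImplicit false
open Cfsg

namespace Cfsg.Agent.S2097



/-- Schur multipliers of the even-dimensional orthogonal groups of plus type and even rank: for even l ≥ 4 and a field F with q elements, (l, q) ≠ (4, 2), the Schur multiplier of PΩ⁺_2l(F) (for the form Σ xᵢyᵢ) is the product of two cyclic groups of order gcd(2, q^l − 1) (so trivial for q even and a four-group for q odd; here the Schur multiplier is described through stem extensions, as in the definitions). -/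
theorem result {F : Type*} [Field F] [Fintype F] {q : ℕ} (hF : Fintype.card F = q) (l : ℕ) (hl : 4 ≤ l) (heven : Even l) (hexc : ¬ (l = 4 ∧ q = 2)) : Cfsg.HasSchurMultiplier (Cfsg.POmega F (Cfsg.quadFormPlus l F)) (Multiplicative (ZMod (Nat.gcd 2 (q ^ l - 1)) × ZMod (Nat.gcd 2 (q ^ l - 1)))) := by
  classical
  obtain ⟨r, rfl⟩ : ∃ r, l = r + 4 := ⟨l - 4, by omega⟩
  have H4 : r = 0 → Fintype.card F ≠ 2 := fun h h' => hexc ⟨by omega, by rw [← hF]; exact h'⟩
  have hq2 : 2 ≤ q := by
    rw [← hF]
    exact Fintype.one_lt_card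
  have hpos : 1 ≤ q ^ (r + 4) := Nat.one_le_pow _ _ (by omega)
  by_cases h2 : (2 : F) = 0
  · -- characteristic two
    have hev : Even q := by
      rw [← hF]
      exact Cfsg.Agent.Lib.Classical.Orth.Center.card_even_iff h2
    have hev' : Even (q ^ (r + 4)) := hev.pow_of_ne_zero (by omega)
    have hg : Nat.gcd 2 (q ^ (r + 4) - 1) = 1 := by
      obtain ⟨a, ha⟩ := hev'
      have h1 : (q ^ (r + 4) - 1) % 2 = 1 := by omega
      rw [Nat.gcd_rec, h1]
      norm_num
    rw [hg]
    exact Cfsg.Agent.Lib.SpinD.schur_char2 h2 H4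
  · have hod : Odd q := by
      rw [← hF]
      exact Cfsg.Agent.Lib.Classical.Orth.Center.card_odd_iff h2
    have hod' : Odd (q ^ (r + 4)) := hod.pow
    have hg : Nat.gcd 2 (q ^ (r + 4) - 1) = 2 := by
      apply Nat.gcd_eq_left
      obtain ⟨a, ha⟩ := hod'
      omega
    rw [hg]
    exact Cfsg.Agent.Lib.SpinD.schur_v4 h2 heven

end Cfsg.Agent.S2097
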