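import Cfsg.Statements.S2099
import Cfsg.Agent.Lib.SpinM.Final
-- import your own Cfsg.Agent.* helpers here

set_option autoImplicit false
open Cfsg

namespace Cfsg.Agent.S2099

/-- Schur multipliers of the even-dimensional orthogonal groups of minus type: for l ≥ 4 and a field F with q elements, the Schur multiplier of PΩ⁻_2l(F) (for the form Σ_{i<l−1} xᵢyᵢ + z₁² + a z₁z₂ + b z₂² with the binary part anisotropic) is cyclic of order gcd(4, q^l + 1); here the Schur multiplier is described through stem extensions, as in the definitions. -/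
theorem result {F : Type*} [Field F] [Fintype F] {q : ℕ} (hF : Fintype.card F = q) (l : ℕ) (hl : 4 ≤ l) (a b : F) (hab : ∀ z₁ z₂ : F, z₁ ^ 2 + a * z₁ * z₂ + b * z₂ ^ 2 = 0 → z₁ = 0 ∧ z₂ = 0) : Cfsg.HasCyclicSchurMultiplier (Cfsg.POmega F (Cfsg.quadFormMinus (l - 1) F a b)) (Nat.gcd 4 (q ^ l + 1)) := by
  classical
  obtain ⟨m, rfl⟩ : ∃ m, l = m + 1 := ⟨l - 1, by omega⟩
  rw [Nat.add_sub_cancel]
  haveI := Cfsg.Agent.Lib.SpinM.fact_of_hab a b hab
  have h3 : 3 ≤ m := by omega
  rw [← Cfsg.Agent.Lib.Classical.Orth.Models.coe_minusForm m F a b]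
  by_cases h2 : (2 : F) = 0
  · have hev : Even q := by
      rw [← hF]
      exact Cfsg.Agent.Lib.Classical.Orth.Center.card_even_iff h2
    have hev' : Even (q ^ (m + 1)) := hev.pow_of_ne_zero (by omega)
    have hg : Nat.gcd 4 (q ^ (m + 1) + 1) = 1 := by
      obtain ⟨k, hk⟩ := hev'
      have h1 : (q ^ (m + 1) + 1) % 4 = 1 ∨ (q ^ (m + 1) + 1) % 4 = 3 := by omega
      rw [Nat.gcd_rec]
      rcases h1 with h1 | h1 <;> rw [h1] <;> norm_num
    rw [hg]
    exact Cfsg.Agent.Lib.SpinM.schur_char2 h2 h3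
  · have hod : Odd q := by
      rw [← hF]
      exact Cfsg.Agent.Lib.Classical.Orth.Center.card_odd_iff h2
    have hod' : Odd (q ^ (m + 1)) := hod.pow
    by_cases h4 : q ^ (m + 1) % 4 = 3
    · have hg : Nat.gcd 4 (q ^ (m + 1) + 1) = 4 := by
        apply Nat.gcd_eq_left
        omega
      rw [hg]
      have hq : Fintype.card F % 4 = 3 := by
        rw [hF]
        obtain ⟨k, hk⟩ := hod
        have h5 : q % 4 = 1 ∨ q % 4 = 3 := by omega
        rcases h5 with h5 | h5
        · exfalso
          rw [Nat.pow_mod, h5] at h4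
          norm_num at h4
        · exact h5
      have he : Even m := by
        by_contra hne
        have ho : Odd m := Nat.not_even_iff_odd.mp hne
        obtain ⟨k, hk⟩ := ho
        have h5 : q ^ (m + 1) = (q ^ 2) ^ (k + 1) := by
          rw [← pow_mul, hk]
          congr 1
        have h6 : q ^ 2 % 4 = 1 := by
          rw [← hF, Nat.pow_mod, hq]
        rw [h5, Nat.pow_mod, h6] at h4
        norm_num at h4
      exact Cfsg.Agent.Lib.SpinM.schur_z4 h2 h3 hq he
    · have h5 : q ^ (m + 1) % 4 = 1 := by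
        obtain ⟨k, hk⟩ := hod'
        omega
      have hg : Nat.gcd 4 (q ^ (m + 1) + 1) = 2 := by
        have h1 : (q ^ (m + 1) + 1) % 4 = 2 := by omega
        rw [Nat.gcd_rec, h1]
        norm_num
      rw [hg]
      apply Cfsg.Agent.Lib.SpinM.schur_z2 h2 h3
      intro x hx
      have key := Cfsg.Agent.Lib.Classical.Orth.NegPairs.minus_neg_one_iff hF hod m a b hab
      rw [← Cfsg.Agent.Lib.Classical.Orth.Models.coe_minusForm m F a b] at key
      exact h4 (key.mp ⟨x.1, x.2, hx⟩)

end Cfsg.Agent.S2099
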