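import Cfsg.Statements.S2119
import Cfsg.Agent.Lib.Perm.IndexAlt
set_option autoImplicit false
open Cfsg

namespace Cfsg.Agent.S2119
open Equiv Equiv.Perm Cfsg.Agent.Lib.Perm.IndexAlt

/-- Automorphisms of the alternating groups: for n ≥ 4 with n ≠ 6, every automorphism of the alternating group of degree n is conjugation by a unique permutation, i.e. conjugation induces an isomorphism from the symmetric group of degree n onto the automorphism group of the alternating group (so the outer automorphism group has order 2). -/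
theorem result (n : ℕ) (hn : 4 ≤ n) (h6 : n ≠ 6) : Function.Bijective (MulAut.conjNormal : Equiv.Perm (Fin n) →* MulAut ↥(alternatingGroup (Fin n))) := by
  have hcard : Fintype.card (Fin n) = n := Fintype.card_fin n
  constructor
  · rw [injective_iff_map_eq_one]
    intro σ hσ
    by_contra hne
    obtain ⟨a, ha⟩ : ∃ a, σ a ≠ a := by
      by_contra hcon
      push Not at hcon
      exact hne (Equiv.ext hcon)
    obtain ⟨d, e, hd, he, hde⟩ : ∃ d e, d ∉ ({a, σ a} : Finset (Fin n)) ∧
        e ∉ ({a, σ a} : Finset (Fin n)) ∧ d ≠ e := by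
      have h1 : 1 < (({a, σ a} : Finset (Fin n))ᶜ).card := by
        rw [Finset.card_compl, Finset.card_pair ha.symm, hcard]; omega
      obtain ⟨x, hx, y, hy, hxy⟩ := Finset.one_lt_card.mp h1
      exact ⟨x, y, Finset.mem_compl.mp hx, Finset.mem_compl.mp hy, hxy⟩
    simp only [Finset.mem_insert, Finset.mem_singleton, not_or] at hd he
    have hc : cyc a d e ∈ alternatingGroup (Fin n) :=
      cyc_mem_alt (Ne.symm hd.1) (Ne.symm he.1) hde
    have h1 := congrArg (fun f : MulAut (alternatingGroup (Fin n)) => ((f ⟨_, hc⟩ : alternatingGroup (Fin n)) : Perm (Fin n))) hσ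
    simp only [MulAut.conjNormal_apply, MulAut.one_apply] at h1
    have h2 : (σ * cyc a d e * σ⁻¹) (σ a) = cyc a d e (σ a) := by rw [h1]
    have h3 : σ⁻¹ (σ a) = a := by simp
    simp only [Perm.coe_mul, Function.comp_apply, h3] at h2
    rw [cyc_apply_left (Ne.symm hd.1) (Ne.symm he.1) hde,
      cyc_apply_of_ne ha (Ne.symm hd.2) (Ne.symm he.2)] at h2
    exact he.1 (σ.injective h2)
  · intro α
    obtain ⟨σ, hσ⟩ := aut_main (Ω := Fin n) (by omega) (by omega) α
    refine ⟨σ, ?_⟩
    ext g
    simp only [MulAut.conjNormal_apply]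
    rw [hσ]

end Cfsg.Agent.S2119
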