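import Cfsg.Statements.S2186
import Cfsg.Agent.Lib.ChevOrder.RootPair
import Cfsg.Agent.Lib.Chevalley.All
import Cfsg.Agent.Lib.ChevBN.FastData
-- import your own Cfsg.Agent.* helpers here

set_option autoImplicit false
open Cfsg

namespace Cfsg.Agent.S2186

/-- Words moving two non-opposite roots into the positive system, type G2. -/
def wordsG2 : List (List ℕ) :=
  [[],[1,0],[0,1,0],[0,1],[0],[1],[],[],[],[],[],[]]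

/-- Words moving two non-opposite roots into the positive system, type D4. -/
def wordsD4 : List (List ℕ) :=
  [[],[3,1,2,0],[2,1,0],[3,1,0],[1,0],[0],[3,1,2],[2,1],[3,1],[1],[2],[3],[],[],[],[],[],[],[],[],[],[],[],[]]

/-- Words moving two non-opposite roots into the positive system, type E6. -/
def wordsE6 : List (List ℕ) :=
  [[],[5,4,3,2,1,3,4,0,2,3],[5,4,3,2,1,3,4,0,2],[5,4,3,2,1,3,0,2],[4,3,2,1,3,0,2],[5,4,3,2,1,3,4,0],[5,4,3,2,1,3,0],[4,3,2,1,3,0],[5,4,3,2,1,0],[4,3,2,1,0],[3,2,1,0],[5,4,3,2,0],[4,3,2,0],[3,2,0],[2,0],[0],[5,4,3,2,1,3,4],[5,4,3,2,1,3],[4,3,2,1,3],[5,4,3,2,1],[4,3,2,1],[3,2,1],[5,4,3,1],[4,3,1],[3,1],[1],[5,4,3,2],[4,3,2],[3,2],[2],[5,4,3],[4,3],[3],[5,4],[4],[5],[],[],[],[],[],[],[],[],[],[],[],[],[],[],[],[],[],[],[],[],[],[],[],[],[],[],[],[],[],[],[],[],[],[],[],[]]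

/-- Words moving two non-opposite roots into the positive system, type E7. -/
def wordsE7 : List (List ℕ) :=
  [[],[6,5,4,3,2,1,3,4,5,0,2,3,4,1,3,2],[6,5,4,3,2,1,3,4,5,0,2,3,4,1,3],[6,5,4,3,2,1,3,4,5,0,2,3,4,1],[6,5,4,3,2,1,3,4,5,0,2,3,1],[6,5,4,3,2,1,3,4,0,2,3,1],[5,4,3,2,1,3,4,0,2,3,1],[6,5,4,3,2,1,3,4,5,0,2,3,4],[6,5,4,3,2,1,3,4,5,0,2,3],[6,5,4,3,2,1,3,4,0,2,3],[5,4,3,2,1,3,4,0,2,3],[6,5,4,3,2,1,3,4,5,0,2],[6,5,4,3,2,1,3,4,0,2],[5,4,3,2,1,3,4,0,2],[6,5,4,3,2,1,3,0,2],[5,4,3,2,1,3,0,2],[4,3,2,1,3,0,2],[6,5,4,3,2,1,3,4,5,0],[6,5,4,3,2,1,3,4,0],[5,4,3,2,1,3,4,0],[6,5,4,3,2,1,3,0],[5,4,3,2,1,3,0],[4,3,2,1,3,0],[6,5,4,3,2,1,0],[5,4,3,2,1,0],[4,3,2,1,0],[3,2,1,0],[6,5,4,3,2,0],[5,4,3,2,0],[4,3,2,0],[3,2,0],[2,0],[0],[6,5,4,3,2,1,3,4,5],[6,5,4,3,2,1,3,4],[5,4,3,2,1,3,4],[6,5,4,3,2,1,3],[5,4,3,2,1,3],[4,3,2,1,3],[6,5,4,3,2,1],[5,4,3,2,1],[4,3,2,1],[3,2,1],[6,5,4,3,1],[5,4,3,1],[4,3,1],[3,1],[1],[6,5,4,3,2],[5,4,3,2],[4,3,2],[3,2],[2],[6,5,4,3],[5,4,3],[4,3],[3],[6,5,4],[5,4],[4],[6,5],[5],[6],[],[],[],[],[],[],[],[],[],[],[],[],[],[],[],[],[],[],[],[],[],[],[],[],[],[],[],[],[],[],[],[],[],[],[],[],[],[],[],[],[],[],[],[],[],[],[],[],[],[],[],[],[],[],[],[],[],[],[],[],[],[],[]]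

/-- Words moving two non-opposite roots into the positive system, type E8. -/
def wordsE8 : List (List ℕ) :=
  [[],[7,6,5,4,3,2,1,3,4,5,6,0,2,3,4,5,1,3,4,2,3,0,2,1,3,4,5,6],[7,6,5,4,3,2,1,3,4,5,6,0,2,3,4,5,1,3,4,2,3,0,2,1,3,4,5],[7,6,5,4,3,2,1,3,4,5,6,0,2,3,4,5,1,3,4,2,3,0,2,1,3,4],[7,6,5,4,3,2,1,3,4,5,6,0,2,3,4,5,1,3,4,2,3,0,2,1,3],[7,6,5,4,3,2,1,3,4,5,6,0,2,3,4,5,1,3,4,2,3,0,2,1],[7,6,5,4,3,2,1,3,4,5,6,0,2,3,4,5,1,3,4,2,3,1,0],[7,6,5,4,3,2,1,3,4,5,6,0,2,3,4,5,1,3,4,2,3,0,2],[7,6,5,4,3,2,1,3,4,5,6,0,2,3,4,5,1,3,4,2,3,0],[7,6,5,4,3,2,1,3,4,5,6,0,2,3,4,5,1,3,4,2,0],[7,6,5,4,3,2,1,3,4,5,6,0,2,3,4,5,1,3,2,0],[7,6,5,4,3,2,1,3,4,5,6,0,2,3,4,1,3,2,0],[7,6,5,4,3,2,1,3,4,5,0,2,3,4,1,3,2,0],[6,5,4,3,2,1,3,4,5,0,2,3,4,1,3,2,0],[7,6,5,4,3,2,1,3,4,5,6,0,2,3,4,5,1,3,4,2,3,1],[7,6,5,4,3,2,1,3,4,5,6,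0,2,3,4,5,1,3,4,2,3],[7,6,5,4,3,2,1,3,4,5,6,0,2,3,4,5,1,3,4,2],[7,6,5,4,3,2,1,3,4,5,6,0,2,3,4,5,1,3,2],[7,6,5,4,3,2,1,3,4,5,6,0,2,3,4,1,3,2],[7,6,5,4,3,2,1,3,4,5,0,2,3,4,1,3,2],[6,5,4,3,2,1,3,4,5,0,2,3,4,1,3,2],[7,6,5,4,3,2,1,3,4,5,6,0,2,3,4,5,1,3,4],[7,6,5,4,3,2,1,3,4,5,6,0,2,3,4,5,1,3],[7,6,5,4,3,2,1,3,4,5,6,0,2,3,4,1,3],[7,6,5,4,3,2,1,3,4,5,0,2,3,4,1,3],[6,5,4,3,2,1,3,4,5,0,2,3,4,1,3],[7,6,5,4,3,2,1,3,4,5,6,0,2,3,4,5,1],[7,6,5,4,3,2,1,3,4,5,6,0,2,3,4,1],[7,6,5,4,3,2,1,3,4,5,0,2,3,4,1],[6,5,4,3,2,1,3,4,5,0,2,3,4,1],[7,6,5,4,3,2,1,3,4,5,6,0,2,3,1],[7,6,5,4,3,2,1,3,4,5,0,2,3,1],[6,5,4,3,2,1,3,4,5,0,2,3,1],[7,6,5,4,3,2,1,3,4,0,2,3,1],[6,5,4,3,2,1,3,4,0,2,3,1],[5,4,3,2,1,3,4,0,2,3,1],[7,6,5,4,3,2,1,3,4,5,6,0,2,3,4,5],[7,6,5,4,3,2,1,3,4,5,6,0,2,3,4],[7,6,5,4,3,2,1,3,4,5,0,2,3,4],[6,5,4,3,2,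1,3,4,5,0,2,3,4],[7,6,5,4,3,2,1,3,4,5,6,0,2,3],[7,6,5,4,3,2,1,3,4,5,0,2,3],[6,5,4,3,2,1,3,4,5,0,2,3],[7,6,5,4,3,2,1,3,4,0,2,3],[6,5,4,3,2,1,3,4,0,2,3],[5,4,3,2,1,3,4,0,2,3],[7,6,5,4,3,2,1,3,4,5,6,0,2],[7,6,5,4,3,2,1,3,4,5,0,2],[6,5,4,3,2,1,3,4,5,0,2],[7,6,5,4,3,2,1,3,4,0,2],[6,5,4,3,2,1,3,4,0,2],[5,4,3,2,1,3,4,0,2],[7,6,5,4,3,2,1,3,0,2],[6,5,4,3,2,1,3,0,2],[5,4,3,2,1,3,0,2],[4,3,2,1,3,0,2],[7,6,5,4,3,2,1,3,4,5,6,0],[7,6,5,4,3,2,1,3,4,5,0],[6,5,4,3,2,1,3,4,5,0],[7,6,5,4,3,2,1,3,4,0],[6,5,4,3,2,1,3,4,0],[5,4,3,2,1,3,4,0],[7,6,5,4,3,2,1,3,0],[6,5,4,3,2,1,3,0],[5,4,3,2,1,3,0],[4,3,2,1,3,0],[7,6,5,4,3,2,1,0],[6,5,4,3,2,1,0],[5,4,3,2,1,0],[4,3,2,1,0],[3,2,1,0],[7,6,5,4,3,2,0],[6,5,4,3,2,0],[5,4,3,2,0],[4,3,2,0],[3,2,0],[2,0],[0],[7,6,5,4,3,2,1,3,4,5,6],[7,6,5,4,3,2,1,3,4,5],[6,5,4,3,2,1,3,4,5]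,[7,6,5,4,3,2,1,3,4],[6,5,4,3,2,1,3,4],[5,4,3,2,1,3,4],[7,6,5,4,3,2,1,3],[6,5,4,3,2,1,3],[5,4,3,2,1,3],[4,3,2,1,3],[7,6,5,4,3,2,1],[6,5,4,3,2,1],[5,4,3,2,1],[4,3,2,1],[3,2,1],[7,6,5,4,3,1],[6,5,4,3,1],[5,4,3,1],[4,3,1],[3,1],[1],[7,6,5,4,3,2],[6,5,4,3,2],[5,4,3,2],[4,3,2],[3,2],[2],[7,6,5,4,3],[6,5,4,3],[5,4,3],[4,3],[3],[7,6,5,4],[6,5,4],[5,4],[4],[7,6,5],[6,5],[5],[7,6],[6],[7],[],[],[],[],[],[],[],[],[],[],[],[],[],[],[],[],[],[],[],[],[],[],[],[],[],[],[],[],[],[],[],[],[],[],[],[],[],[],[],[],[],[],[],[],[],[],[],[],[],[],[],[],[],[],[],[],[],[],[],[],[],[],[],[],[],[],[],[],[],[],[],[],[],[],[],[],[],[],[],[],[],[],[],[],[],[],[],[],[],[],[],[],[],[],[],[],[],[],[],[],[],[],[],[],[],[],[],[],[],[],[],[],[],[],[],[],[],[],[],[]]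

theorem negG2 : Cfsg.Lie.chevG2.neg (Cfsg.Lie.chevG2.nroots - 1) = 0 := by decide +kernel
theorem chkUG2 : Cfsg.Agent.Lib.ChevOrder.RootPair.checkU Cfsg.Lie.chevG2 (Cfsg.Lie.chevG2.nroots - 1) = true := by decide +kernel
theorem chkWG2 : Cfsg.Agent.Lib.ChevOrder.RootPair.checkWords Cfsg.Lie.chevG2 (Cfsg.Lie.chevG2.nroots - 1) wordsG2 = true := by decide +kernel

theorem negD4 : Cfsg.Lie.chevD4.neg (Cfsg.Lie.chevD4.nroots - 1) = 0 := by decide +kernel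
theorem chkUD4 : Cfsg.Agent.Lib.ChevOrder.RootPair.checkU Cfsg.Lie.chevD4 (Cfsg.Lie.chevD4.nroots - 1) = true := by decide +kernel
theorem chkWD4 : Cfsg.Agent.Lib.ChevOrder.RootPair.checkWords Cfsg.Lie.chevD4 (Cfsg.Lie.chevD4.nroots - 1) wordsD4 = true := by decide +kernel

theorem negE6 : Cfsg.Lie.chevE6.neg (Cfsg.Lie.chevE6.nroots - 1) = 0 := by decide +kernel
theorem chkUE6 : Cfsg.Agent.Lib.ChevOrder.RootPair.checkU Cfsg.Lie.chevE6 (Cfsg.Lie.chevE6.nroots - 1) = true := by decide +kernel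
theorem chkWE6 : Cfsg.Agent.Lib.ChevOrder.RootPair.checkWords Cfsg.Lie.chevE6 (Cfsg.Lie.chevE6.nroots - 1) wordsE6 = true := by decide +kernel

theorem negE7 : Cfsg.Lie.chevE7.neg (Cfsg.Lie.chevE7.nroots - 1) = 0 := by decide +kernel
theorem chkUE7 : Cfsg.Agent.Lib.ChevOrder.RootPair.checkU Cfsg.Lie.chevE7 (Cfsg.Lie.chevE7.nroots - 1) = true := by decide +kernel
theorem chkWE7 : Cfsg.Agent.Lib.ChevOrder.RootPair.checkWords Cfsg.Lie.chevE7 (Cfsg.Lie.chevE7.nroots - 1) wordsE7 = true := by decide +kernel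

theorem negE8 : Cfsg.Lie.chevE8.neg (Cfsg.Lie.chevE8.nroots - 1) = 0 := by decide +kernel
theorem chkUE8 : Cfsg.Agent.Lib.ChevOrder.RootPair.checkU Cfsg.Lie.chevE8 (Cfsg.Lie.chevE8.nroots - 1) = true := by decide +kernel
theorem chkWE8 : Cfsg.Agent.Lib.ChevOrder.RootPair.checkWords Cfsg.Lie.chevE8 (Cfsg.Lie.chevE8.nroots - 1) wordsE8 = true := by decide +kernel

/-- Let G be the Chevalley group of type G₂ (over a field with at least four elements), D₄, E₆, E₇ or E₈ over a finite field F of characteristic two, and let X be the root subgroup of the highest root (the last root index) — a long root subgroup, of order |F|. For every g in G, the subgroup generated by X and its conjugate g X g⁻¹ is either a 2-group or is conjugate by an element of G to the subgroup generated by X and the root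 subgroup of the lowest root (index 0, the negative of the highest root), which is a copy of SL₂(F). -/
theorem result {F : Type*} [Field F] [Fintype F] [CharP F 2] (D : Cfsg.Lie.ChevalleyDatum) (hD : D ∈ [Cfsg.Lie.chevG2, Cfsg.Lie.chevD4, Cfsg.Lie.chevE6, Cfsg.Lie.chevE7, Cfsg.Lie.chevE8]) (hF : D = Cfsg.Lie.chevG2 → 4 ≤ Fintype.card F) (g : GL D.Idx F) (hg : g ∈ D.group F) :
    IsPGroup 2 ↥(D.rootSubgroup F (D.nroots - 1) ⊔ (D.rootSubgroup F (D.nroots - 1)).map (MulAut.conj g).toMonoidHom) ∨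
    ∃ h ∈ D.group F, (D.rootSubgroup F (D.nroots - 1) ⊔ (D.rootSubgroup F (D.nroots - 1)).map (MulAut.conj g).toMonoidHom).map (MulAut.conj h).toMonoidHom = D.rootSubgroup F (D.nroots - 1) ⊔ D.rootSubgroup F 0 := by
  open Cfsg.Agent.Lib.ChevOrder.RootPair in
  have hC := Cfsg.Agent.Lib.Chevalley.All.comm_all (F := F) D (by
    simp only [List.mem_cons, List.not_mem_nil, or_false] at hD ⊢
    tauto)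
  simp only [List.mem_cons, List.not_mem_nil, or_false] at hD
  rcases hD with rfl | rfl | rfl | rfl | rfl
  · exact dichotomy_check Cfsg.Agent.Lib.Chevalley.Tbl.G2.sys Cfsg.Agent.Lib.ChevBN.FastData.tbl_chevG2
      hC negG2 chkUG2 chkWG2 hg
  · exact dichotomy_check Cfsg.Agent.Lib.Chevalley.Tbl.D4.sys Cfsg.Agent.Lib.ChevBN.FastData.tbl_chevD4
      hC negD4 chkUD4 chkWD4 hg
  · exact dichotomy_check Cfsg.Agent.Lib.Chevalley.Tbl.E6.sys Cfsg.Agent.Lib.ChevBN.FastData.tbl_chevE6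
      hC negE6 chkUE6 chkWE6 hg
  · exact dichotomy_check Cfsg.Agent.Lib.Chevalley.Tbl.E7.sys Cfsg.Agent.Lib.ChevBN.FastData.tbl_chevE7
      hC negE7 chkUE7 chkWE7 hg
  · exact dichotomy_check Cfsg.Agent.Lib.Chevalley.Tbl.E8.sys Cfsg.Agent.Lib.ChevBN.FastData.tbl_chevE8
      hC negE8 chkUE8 chkWE8 hg

end Cfsg.Agent.S2186
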