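import Cfsg.Statements.S2247
import Mathlib
import Cfsg.Agent.Lib.Suzuki.Fix

set_option autoImplicit false
open Cfsg

namespace Cfsg.Agent.S2247

open Cfsg.Agent.Lib.Suzuki.Basic Cfsg.Agent.Lib.Suzuki.Struct Cfsg.Agent.Lib.Suzuki.Zass
  Cfsg.Agent.Lib.Suzuki.Sub Cfsg.Agent.Lib.Suzuki.Gen Cfsg.Agent.Lib.Suzuki.Fix
  Cfsg.Agent.Lib.Suzuki.Order Cfsg.Agent.Lib.Suzuki.Syl

variable {F : Type*} [Field F] [Fintype F] {m : ℕ}

theorem Bor_ne_top (h : Hyp F m) : Bor F m ≠ ⊤ := by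
  intro hc
  have h1 : Tg h ∈ Bor F m := by rw [hc]; exact Subgroup.mem_top _
  have h2 := MulAction.mem_stabilizer_iff.mp h1
  rw [Tg_oI h] at h2
  exact oA_ne_oI 0 0 h2

theorem coatom_Bor (h : Hyp F m) : IsCoatom (Bor F m) := by
  refine ⟨Bor_ne_top h, fun K hK => ?_⟩
  apply eq_top_of_U_not_Bor h K (le_trans (Usub_le_Bor h) hK.le)
  exact fun hle => absurd (le_antisymm hle hK.le) hK.ne'

theorem unique_Bor (h : Hyp F m) (M : Subgroup (G F m)) (hM : IsCoatom M) (hU : Usub h ≤ M) :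
    M = Bor F m := by
  by_contra hne
  have hnle : ¬ M ≤ Bor F m := by
    intro hle
    exact hne ((hM.le_iff_eq (Bor_ne_top h)).mp hle).symm
  exact hM.1 (eq_top_of_U_not_Bor h M hU hnle)

theorem main (h : Hyp F m) (P : Sylow 2 (G F m)) :
    IsCoatom (Subgroup.normalizer ((P : Subgroup (G F m)) : Set (G F m))) ∧
    ∀ M : Subgroup (G F m), IsCoatom M → (P : Subgroup (G F m)) ≤ M →
      M = Subgroup.normalizer ((P : Subgroup (G F m)) : Set (G F m)) := by
  obtain ⟨x, hx⟩ := exists_conj h P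
  let φ : G F m ≃* G F m := MulAut.conj x
  have hN : Subgroup.normalizer ((P : Subgroup (G F m)) : Set (G F m)) =
      (Bor F m).map φ.toMonoidHom := by
    rw [hx, ← normalizer_U h]
    exact (Subgroup.map_equiv_normalizer_eq (Usub h) φ).symm
  rw [hN]
  constructor
  · exact ((MulEquiv.mapSubgroup φ).isCoatom_iff (Bor F m)).mpr (coatom_Bor h)
  · intro M hM hPM
    have hM' : M = (M.map φ.symm.toMonoidHom).map φ.toMonoidHom := by
      rw [Subgroup.map_map]
      ext y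
      simp
    have hco : IsCoatom (M.map φ.symm.toMonoidHom) := by
      apply ((MulEquiv.mapSubgroup φ).isCoatom_iff _).mp
      change IsCoatom ((M.map φ.symm.toMonoidHom).map φ.toMonoidHom)
      rw [← hM']
      exact hM
    have hle : Usub h ≤ M.map φ.symm.toMonoidHom := by
      intro u hu
      refine ⟨φ u, hPM ?_, by simp⟩
      rw [hx]
      exact ⟨u, hu, rfl⟩
    rw [hM']
    congr 1
    exact unique_Bor h _ hco hle

/-- In the Suzuki group with q = 2^(2m+1), m ≥ 1, the normalizer of a Sylow 2-subgroup P is a maximal subgroup and is the only maximal subgroup containing P. -/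
theorem result {F : Type*} [Field F] [Fintype F] {m : ℕ} (hm : 1 ≤ m) (hF : Fintype.card F = 2 ^ (2 * m + 1)) (P : Sylow 2 ↥(Cfsg.Sz F m)) :
    IsCoatom (Subgroup.normalizer ((P : Subgroup ↥(Cfsg.Sz F m)) : Set ↥(Cfsg.Sz F m))) ∧
    ∀ M : Subgroup ↥(Cfsg.Sz F m), IsCoatom M → (P : Subgroup ↥(Cfsg.Sz F m)) ≤ M → M = Subgroup.normalizer ((P : Subgroup ↥(Cfsg.Sz F m)) : Set ↥(Cfsg.Sz F m)) :=
  main ⟨hm, hF⟩ P

end Cfsg.Agent.S2247
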