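import Cfsg.Statements.S2271
-- import your own Cfsg.Agent.* helpers here

set_option autoImplicit false
open Cfsg

namespace Cfsg.Agent.S2271

open Equiv MulAction



variable {n : ℕ}

/-- A tuple can be moved by an even permutation when two points are left over. -/
theorem exists_alt_tuple {k : ℕ} (hk : k + 2 ≤ n) (f g : Fin k → Fin n) (hf : Function.Injective f)
    (hg : Function.Injective g) : ∃ h ∈ alternatingGroup (Fin n), ∀ i, h (f i) = g i := by
  have hm : IsMultiplyPretransitive (alternatingGroup (Fin n)) (Fin n) k := by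
    have h1 := alternatingGroup.isMultiplyPretransitive (Fin n)
    have hc : Nat.card (Fin n) = n := Nat.card_fin n
    rw [hc] at h1
    exact isMultiplyPretransitive_of_le (n := n - 2) (by omega) (by simp)
  obtain ⟨h, hh⟩ := exists_smul_eq (alternatingGroup (Fin n)) (⟨f, hf⟩ : Fin k ↪ Fin n) ⟨g, hg⟩
  refine ⟨h, h.2, fun i => ?_⟩
  have := congrArg (fun e : Fin k ↪ Fin n => e i) hh
  exact this

/-- A tuple can be moved by a permutation. -/
theorem exists_perm_tuple {k : ℕ} (f g : Fin k → Fin n) (hf : Function.Injective f)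
    (hg : Function.Injective g) : ∃ h : Perm (Fin n), ∀ i, h (f i) = g i := by
  have hm : IsMultiplyPretransitive (Perm (Fin n)) (Fin n) k := Equiv.Perm.isMultiplyPretransitive _ _
  obtain ⟨h, hh⟩ := exists_smul_eq (Perm (Fin n)) (⟨f, hf⟩ : Fin k ↪ Fin n) ⟨g, hg⟩
  refine ⟨h, fun i => ?_⟩
  have := congrArg (fun e : Fin k ↪ Fin n => e i) hh
  exact this

theorem inj2 {α : Type*} {x y : α} (h : x ≠ y) : Function.Injective ![x, y] := by
  intro i j hij
  fin_cases i <;> fin_cases j <;> simp_all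

theorem inj3 {α : Type*} {x y z : α} (h1 : x ≠ y) (h2 : x ≠ z) (h3 : y ≠ z) :
    Function.Injective ![x, y, z] := by
  intro i j hij
  fin_cases i <;> fin_cases j <;> simp_all

theorem inj4 {α : Type*} {x y z w : α} (h1 : x ≠ y) (h2 : x ≠ z) (h3 : x ≠ w) (h4 : y ≠ z) (h5 : y ≠ w)
    (h6 : z ≠ w) : Function.Injective ![x, y, z, w] := by
  intro i j hij
  fin_cases i <;> fin_cases j <;> simp_all

theorem alt2 (hn : 4 ≤ n) {x y x' y' : Fin n} (h : x ≠ y) (h' : x' ≠ y') :
    ∃ g ∈ alternatingGroup (Fin n), g x = x' ∧ g y = y' := by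
  obtain ⟨g, hg, hh⟩ := exists_alt_tuple (k := 2) (by omega) _ _ (inj2 h) (inj2 h')
  exact ⟨g, hg, hh 0, hh 1⟩

theorem alt3 (hn : 5 ≤ n) {x y z x' y' z' : Fin n} (h1 : x ≠ y) (h2 : x ≠ z) (h3 : y ≠ z)
    (h1' : x' ≠ y') (h2' : x' ≠ z') (h3' : y' ≠ z') :
    ∃ g ∈ alternatingGroup (Fin n), g x = x' ∧ g y = y' ∧ g z = z' := by
  obtain ⟨g, hg, hh⟩ := exists_alt_tuple (k := 3) (by omega) _ _ (inj3 h1 h2 h3) (inj3 h1' h2' h3')
  exact ⟨g, hg, hh 0, hh 1, hh 2⟩

theorem perm4 {x y z w x' y' z' w' : Fin n} (h1 : x ≠ y) (h2 : x ≠ z) (h3 : x ≠ w) (h4 : y ≠ z)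
    (h5 : y ≠ w) (h6 : z ≠ w) (h1' : x' ≠ y') (h2' : x' ≠ z') (h3' : x' ≠ w') (h4' : y' ≠ z')
    (h5' : y' ≠ w') (h6' : z' ≠ w') :
    ∃ g : Perm (Fin n), g x = x' ∧ g y = y' ∧ g z = z' ∧ g w = w' := by
  obtain ⟨g, hh⟩ := exists_perm_tuple (k := 4) _ _ (inj4 h1 h2 h3 h4 h5 h6) (inj4 h1' h2' h3' h4' h5' h6')
  exact ⟨g, hh 0, hh 1, hh 2, hh 3⟩

/-- Number of fixed points. -/
noncomputable def cnt (f : Perm (Fin n)) : ℕ := (Finset.univ.filter (fun x => f x = x)).card

theorem card_fixedPoints (f : Perm (Fin n)) : Nat.card (Function.fixedPoints ⇑f) = cnt f := by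
  classical
  rw [cnt, Nat.card_eq_fintype_card, Fintype.card_subtype]
  congr

theorem cnt_mul_comm (f g : Perm (Fin n)) : cnt (f * g) = cnt (g * f) := by
  classical
  unfold cnt
  apply Finset.card_bij (fun x _ => g x)
  · intro x hx
    have hx' : f (g x) = x := (Finset.mem_filter.1 hx).2
    refine Finset.mem_filter.2 ⟨Finset.mem_univ _, ?_⟩
    show g (f (g x)) = g x
    rw [hx']
  · intro x _ y _ h
    exact g.injective h
  · intro y hy
    have hy' : g (f y) = y := (Finset.mem_filter.1 hy).2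
    refine ⟨f y, ?_, hy'⟩
    refine Finset.mem_filter.2 ⟨Finset.mem_univ _, ?_⟩
    show f (g (f y)) = f y
    rw [hy']

/-- The property to prove, in terms of `b`-conjugates only. -/
def Q (a b : Perm (Fin n)) : Prop :=
  ∃ h₁ ∈ alternatingGroup (Fin n), ∃ h₂ ∈ alternatingGroup (Fin n),
    cnt (a * (h₁ * b * h₁⁻¹)) ≠ cnt (a * (h₂ * b * h₂⁻¹))

/-- Local move: `b` with two fixed points. -/
theorem Q_of_two_fixed (hn : 5 ≤ n) {a b : Perm (Fin n)} (ha : a ≠ 1) (hb : b ≠ 1)
    {v₀ w₀ : Fin n} (hv₀ : b v₀ = v₀) (hw₀ : b w₀ = w₀) (hvw : v₀ ≠ w₀) : Q a b := by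
  classical
  -- a moved point of `a⁻¹`
  set A := a⁻¹ with hA
  have hA1 : A ≠ 1 := by
    intro h
    apply ha
    rw [hA, inv_eq_one] at h
    exact h
  obtain ⟨p, hp⟩ : ∃ p, A p ≠ p := by
    by_contra hcon
    push Not at hcon
    exact hA1 (Equiv.ext hcon)
  obtain ⟨α, hα⟩ : ∃ α, b α ≠ α := by
    by_contra hcon
    push Not at hcon
    exact hb (Equiv.ext hcon)
  obtain ⟨h, hh, h1, h2⟩ := alt2 (n := n) (by omega) (x := α) (y := b α) (x' := p) (y' := A p)
    (Ne.symm hα) (Ne.symm hp)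
  set c := h * b * h⁻¹ with hc
  have hcapp : ∀ x, c (h x) = h (b x) := by
    intro x
    simp [hc]
  have hcp : c p = A p := by
    rw [← h1, hcapp, h1, h2]
  set u := A p with hu
  set q := c u with hq
  have hfix : ∀ x, b x = x → c (h x) = h x := fun x hx => by rw [hcapp, hx]
  -- the two fixed points, choose the good one
  obtain ⟨v, w, hcv, hcw, hvw', hAv⟩ : ∃ v w, c v = v ∧ c w = w ∧ v ≠ w ∧ A v ≠ q := by
    by_cases hAv : A (h v₀) = q
    · refine ⟨h w₀, h v₀, hfix _ hw₀, hfix _ hv₀, fun e => hvw (h.injective e).symm, ?_⟩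
      intro hAw
      exact hvw (h.injective (A.injective (hAv.trans hAw.symm)))
    · exact ⟨h v₀, h w₀, hfix _ hv₀, hfix _ hw₀, fun e => hvw (h.injective e), hAv⟩
  -- distinctness
  have hcu_ne : c p ≠ p := by rw [hcp]; exact hp
  have hu_ne_p : u ≠ p := hp
  have hAu : A u ≠ u := by
    intro e
    exact hu_ne_p (A.injective e)
  have hcu : c u ≠ u := by
    intro e
    have : c u = c p := by rw [e, hcp]
    exact hu_ne_p (c.injective this)
  have hpv : p ≠ v := by
    rintro rfl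
    exact hcu_ne hcv
  have hpw : p ≠ w := by
    rintro rfl
    exact hcu_ne hcw
  have huv : u ≠ v := by
    rintro rfl
    exact hcu hcv
  have huw : u ≠ w := by
    rintro rfl
    exact hcu hcw
  have hqv : q ≠ v := by
    intro e
    have : c u = c v := by rw [hcv]; exact e
    exact huv (c.injective this)
  have hqw : q ≠ w := by
    intro e
    have : c u = c w := by rw [hcw]; exact e
    exact huw (c.injective this)
  have hqu : q ≠ u := hcu
  -- the three cycle with `u ↦ v ↦ w ↦ u`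
  set κ : Perm (Fin n) := swap u v * swap v w with hκ
  have hκu : κ u = v := by
    simp [hκ, swap_apply_of_ne_of_ne huv huw]
  have hκv : κ v = w := by
    simp only [hκ, Perm.mul_apply, swap_apply_left]
    exact swap_apply_of_ne_of_ne (Ne.symm huw) (Ne.symm hvw')
  have hκw : κ w = u := by
    simp [hκ]
  have hκo : ∀ x, x ≠ u → x ≠ v → x ≠ w → κ x = x := by
    intro x h1 h2 h3
    simp only [hκ, Perm.mul_apply]
    rw [swap_apply_of_ne_of_ne h2 h3, swap_apply_of_ne_of_ne h1 h2]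
  have hκA : κ ∈ alternatingGroup (Fin n) := by
    rw [Perm.mem_alternatingGroup, hκ, map_mul, Perm.sign_swap huv, Perm.sign_swap hvw']
    rfl
  have hκinv : ∀ x y, κ y = x → κ⁻¹ x = y := fun x y e => by
    rw [Perm.inv_eq_iff_eq]; exact e.symm
  set c' := κ * c * κ⁻¹ with hc'
  have hc'p : c' p = v := by
    simp only [hc', Perm.mul_apply]
    rw [hκinv p p (hκo p (Ne.symm hu_ne_p) hpv hpw), hcp, hκu]
  have hc'u : c' u = u := by
    simp only [hc', Perm.mul_apply]
    rw [hκinv u w hκw, hcw, hκw]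
  have hc'v : c' v = q := by
    simp only [hc', Perm.mul_apply]
    rw [hκinv v u hκu, hκo q hqu hqv hqw]
  have hc'o : ∀ x, x ≠ p → x ≠ u → x ≠ v → c' x = c x := by
    intro x h1 h2 h3
    by_cases hxw : x = w
    · subst hxw
      simp only [hc', Perm.mul_apply]
      rw [hκinv x v hκv, hcv, hκv, hcw]
    · simp only [hc', Perm.mul_apply]
      rw [hκinv x x (hκo x h2 h3 hxw)]
      apply hκo
      · intro e
        apply h1
        apply c.injective
        rw [e, hcp]
      · intro e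
        apply h3
        apply c.injective
        rw [e, hcv]
      · intro e
        apply hxw
        apply c.injective
        rw [e, hcw]
  -- conclusion
  refine ⟨h, hh, κ * h, (alternatingGroup (Fin n)).mul_mem hκA hh, ?_⟩
  have hconj : κ * h * b * (κ * h)⁻¹ = c' := by
    rw [hc', hc]; group
  rw [hconj, ← hc]
  have hmem : ∀ d : Perm (Fin n), ∀ x, (a * d) x = x ↔ d x = A x := by
    intro d x
    rw [Perm.mul_apply, hA, eq_comm, ← Perm.inv_eq_iff_eq, eq_comm]
  intro heq
  unfold cnt at heq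
  have hsub : Finset.univ.filter (fun x => (a * c') x = x) ⊂ Finset.univ.filter (fun x => (a * c) x = x) := by
    rw [Finset.ssubset_iff_of_subset]
    · refine ⟨p, ?_, ?_⟩
      · simp only [Finset.mem_filter, Finset.mem_univ, true_and, hmem]
        exact hcp
      · simp only [Finset.mem_filter, Finset.mem_univ, true_and, hmem]
        rw [hc'p]
        exact fun e => huv e.symm
    · intro x hx
      simp only [Finset.mem_filter, Finset.mem_univ, true_and, hmem] at hx ⊢
      by_cases h1 : x = p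
      · subst h1; exact hcp
      by_cases h2 : x = u
      · subst h2
        rw [hc'u] at hx
        exact absurd hx.symm hAu
      by_cases h3 : x = v
      · subst h3
        rw [hc'v] at hx
        exact absurd hx.symm hAv
      rw [← hc'o x h1 h2 h3]
      exact hx
  exact absurd heq (Nat.ne_of_lt (Finset.card_lt_card hsub)).symm

section Mean

variable [NeZero n]

/-- Elements sending a pair to a pair. -/
noncomputable def NN (x w α β : Fin n) : ℕ := by
  classical
  exact (Finset.univ.filter (fun g : alternatingGroup (Fin n) => (g : Perm (Fin n)) x = α ∧ (g : Perm (Fin n)) w = β)).card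

theorem NN_def (x w α β : Fin n) [DecidablePred (fun g : alternatingGroup (Fin n) => (g : Perm (Fin n)) x = α ∧ (g : Perm (Fin n)) w = β)] :
    NN x w α β = (Finset.univ.filter (fun g : alternatingGroup (Fin n) => (g : Perm (Fin n)) x = α ∧ (g : Perm (Fin n)) w = β)).card := by
  unfold NN
  congr

theorem NN_eq (hn : 5 ≤ n) {x w α β x' w' α' β' : Fin n} (h1 : x ≠ w) (h2 : α ≠ β) (h3 : x' ≠ w')
    (h4 : α' ≠ β') : NN x w α β = NN x' w' α' β' := by
  classical
  obtain ⟨g₁, hg₁, h11, h12⟩ := alt2 (n := n) (by omega) h3 h1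
  obtain ⟨g₂, hg₂, h21, h22⟩ := alt2 (n := n) (by omega) h2 h4
  rw [NN_def, NN_def]
  let γ₁ : alternatingGroup (Fin n) := ⟨g₁, hg₁⟩
  let γ₂ : alternatingGroup (Fin n) := ⟨g₂, hg₂⟩
  apply Finset.card_bij' (fun g _ => γ₂ * g * γ₁) (fun g _ => γ₂⁻¹ * g * γ₁⁻¹)
  · rintro g hg
    obtain ⟨-, h5, h6⟩ := Finset.mem_filter.1 hg
    refine Finset.mem_filter.2 ⟨Finset.mem_univ _, ?_, ?_⟩
    · show g₂ ((g : Perm (Fin n)) (g₁ x')) = α'
      rw [h11, h5, h21]
    · show g₂ ((g : Perm (Fin n)) (g₁ w')) = β'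
      rw [h12, h6, h22]
  · rintro g hg
    obtain ⟨-, h5, h6⟩ := Finset.mem_filter.1 hg
    refine Finset.mem_filter.2 ⟨Finset.mem_univ _, ?_, ?_⟩
    · show g₂⁻¹ ((g : Perm (Fin n)) (g₁⁻¹ x)) = α
      have e1 : g₁⁻¹ x = x' := by rw [Perm.inv_eq_iff_eq]; exact h11.symm
      rw [e1, h5, Perm.inv_eq_iff_eq]; exact h21.symm
    · show g₂⁻¹ ((g : Perm (Fin n)) (g₁⁻¹ w)) = β
      have e1 : g₁⁻¹ w = w' := by rw [Perm.inv_eq_iff_eq]; exact h12.symm
      rw [e1, h6, Perm.inv_eq_iff_eq]; exact h22.symm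
  · intro g _; group
  · intro g _; group

theorem NN_self {x w α : Fin n} (h1 : x ≠ w) : NN x w α α = 0 := by
  classical
  rw [NN_def, Finset.card_eq_zero, Finset.filter_eq_empty_iff]
  rintro g - ⟨h2, h3⟩
  exact h1 ((g : Perm (Fin n)).injective (h2.trans h3.symm))

/-- `#{g : g x = α}`. -/
theorem card_fib1 (hn : 5 ≤ n) {x w : Fin n} (h1 : x ≠ w) (α : Fin n) {s : ℕ}
    (hs : ∀ {x w α β : Fin n}, x ≠ w → α ≠ β → NN x w α β = s)
    [DecidablePred (fun g : alternatingGroup (Fin n) => (g : Perm (Fin n)) x = α)] :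
    (Finset.univ.filter (fun g : alternatingGroup (Fin n) => (g : Perm (Fin n)) x = α)).card = (n - 1) * s := by
  classical
  rw [Finset.card_eq_sum_card_fiberwise (t := (Finset.univ : Finset (Fin n)))
    (f := fun g : alternatingGroup (Fin n) => (g : Perm (Fin n)) w) (fun _ _ => Finset.mem_coe.2 (Finset.mem_univ _))]
  rw [← Finset.add_sum_erase _ _ (Finset.mem_univ α)]
  have h2 : ∀ β ∈ (Finset.univ : Finset (Fin n)).erase α,
      ((Finset.univ.filter (fun g : alternatingGroup (Fin n) => (g : Perm (Fin n)) x = α)).filter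
        (fun g : alternatingGroup (Fin n) => (g : Perm (Fin n)) w = β)).card = s := by
    intro β hβ
    rw [← hs h1 (Ne.symm (Finset.ne_of_mem_erase hβ)), NN_def, Finset.filter_filter]
  rw [Finset.sum_congr rfl h2, Finset.sum_const, smul_eq_mul, Finset.card_erase_of_mem (Finset.mem_univ _),
    Finset.card_univ, Fintype.card_fin]
  have h3 : ((Finset.univ.filter (fun g : alternatingGroup (Fin n) => (g : Perm (Fin n)) x = α)).filter
        (fun g : alternatingGroup (Fin n) => (g : Perm (Fin n)) w = α)).card = 0 := by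
    rw [← NN_self (α := α) h1, NN_def, Finset.filter_filter]
  rw [h3, zero_add]

/-- `#{g : b (g x) = g w}` for `x ≠ w`. -/
theorem card_T_ne (hn : 5 ≤ n) {x w : Fin n} (h1 : x ≠ w) (b : Perm (Fin n)) {s : ℕ}
    (hs : ∀ {x w α β : Fin n}, x ≠ w → α ≠ β → NN x w α β = s) :
    (Finset.univ.filter (fun g : alternatingGroup (Fin n) => b ((g : Perm (Fin n)) x) = (g : Perm (Fin n)) w)).card
      = (n - cnt b) * s := by
  classical
  rw [Finset.card_eq_sum_card_fiberwise (t := (Finset.univ : Finset (Fin n)))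
    (f := fun g : alternatingGroup (Fin n) => (g : Perm (Fin n)) x) (fun _ _ => Finset.mem_coe.2 (Finset.mem_univ _))]
  have h2 : ∀ α ∈ (Finset.univ : Finset (Fin n)),
      ((Finset.univ.filter (fun g : alternatingGroup (Fin n) => b ((g : Perm (Fin n)) x) = (g : Perm (Fin n)) w)).filter
        (fun g : alternatingGroup (Fin n) => (g : Perm (Fin n)) x = α)).card = if b α = α then 0 else s := by
    intro α _
    have h3 : ((Finset.univ.filter (fun g : alternatingGroup (Fin n) => b ((g : Perm (Fin n)) x) = (g : Perm (Fin n)) w)).filter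
        (fun g : alternatingGroup (Fin n) => (g : Perm (Fin n)) x = α)).card = NN x w α (b α) := by
      rw [NN_def, Finset.filter_filter]
      congr 1
      ext g
      simp only [Finset.mem_filter, Finset.mem_univ, true_and]
      constructor
      · rintro ⟨h4, h5⟩
        rw [← h5, ← h4]
        exact ⟨rfl, rfl⟩
      · rintro ⟨h4, h5⟩
        rw [h4]
        exact ⟨h5.symm, rfl⟩
    rw [h3]
    split_ifs with h4
    · rw [h4]; exact NN_self h1
    · exact hs h1 (Ne.symm h4)
  rw [Finset.sum_congr rfl h2, Finset.sum_ite, Finset.sum_const_zero, zero_add, Finset.sum_const, smul_eq_mul]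
  congr 1
  have h5 := Finset.card_filter_add_card_filter_not (s := (Finset.univ : Finset (Fin n))) (fun α => b α = α)
  rw [Finset.card_univ, Fintype.card_fin] at h5
  have h6 : cnt b = (Finset.univ.filter (fun α => b α = α)).card := by
    unfold cnt; congr
  rw [h6]
  omega

/-- `#{g : b (g x) = g x}`. -/
theorem card_T_eq (hn : 5 ≤ n) {x w : Fin n} (h1 : x ≠ w) (b : Perm (Fin n)) {s : ℕ}
    (hs : ∀ {x w α β : Fin n}, x ≠ w → α ≠ β → NN x w α β = s) :
    (Finset.univ.filter (fun g : alternatingGroup (Fin n) => b ((g : Perm (Fin n)) x) = (g : Perm (Fin n)) x)).card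
      = cnt b * ((n - 1) * s) := by
  classical
  rw [Finset.card_eq_sum_card_fiberwise (t := (Finset.univ : Finset (Fin n)))
    (f := fun g : alternatingGroup (Fin n) => (g : Perm (Fin n)) x) (fun _ _ => Finset.mem_coe.2 (Finset.mem_univ _))]
  have h2 : ∀ α ∈ (Finset.univ : Finset (Fin n)),
      ((Finset.univ.filter (fun g : alternatingGroup (Fin n) => b ((g : Perm (Fin n)) x) = (g : Perm (Fin n)) x)).filter
        (fun g : alternatingGroup (Fin n) => (g : Perm (Fin n)) x = α)).card = if b α = α then (n - 1) * s else 0 := by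
    intro α _
    split_ifs with h4
    · rw [← card_fib1 hn h1 α hs]
      congr 1
      ext g
      simp only [Finset.mem_filter, Finset.mem_univ, true_and]
      constructor
      · rintro ⟨_, h5⟩; exact h5
      · intro h5
        rw [h5]
        exact ⟨h4, rfl⟩
    · rw [Finset.card_eq_zero, Finset.filter_eq_empty_iff]
      intro g hg h5
      have h6 := (Finset.mem_filter.1 hg).2
      rw [h5] at h6
      exact h4 h6
  rw [Finset.sum_congr rfl h2, Finset.sum_ite, Finset.sum_const_zero, add_zero, Finset.sum_const, smul_eq_mul]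
  congr 1

/-- The average formula. -/
theorem mean_formula (hn : 5 ≤ n) (a b : Perm (Fin n)) (K : ℕ)
    (hK : ∀ h ∈ alternatingGroup (Fin n), cnt (a * (h * b * h⁻¹)) = K) :
    K * (n * (n - 1)) = cnt a⁻¹ * cnt b * (n - 1) + (n - cnt a⁻¹) * (n - cnt b) := by
  classical
  let z₀ : Fin n := ⟨0, by omega⟩
  let z₁ : Fin n := ⟨1, by omega⟩
  have hz : z₀ ≠ z₁ := by simp [z₀, z₁]
  set s := NN z₀ z₁ z₀ z₁ with hs'
  have hs : ∀ {x w α β : Fin n}, x ≠ w → α ≠ β → NN x w α β = s := fun h1 h2 => NN_eq hn h1 h2 hz hz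
  set A := a⁻¹ with hA
  have hne : ∀ x : Fin n, ∃ w, x ≠ w := by
    intro x
    by_cases h : x = z₀
    · exact ⟨z₁, by rw [h]; exact hz⟩
    · exact ⟨z₀, h⟩
  -- order of the group
  have hcard : Fintype.card (alternatingGroup (Fin n)) = n * ((n - 1) * s) := by
    rw [← Finset.card_univ, Finset.card_eq_sum_card_fiberwise (t := (Finset.univ : Finset (Fin n)))
      (f := fun g : alternatingGroup (Fin n) => (g : Perm (Fin n)) z₀) (fun _ _ => Finset.mem_coe.2 (Finset.mem_univ _))]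
    have h2 : ∀ α ∈ (Finset.univ : Finset (Fin n)),
        ((Finset.univ : Finset (alternatingGroup (Fin n))).filter (fun g : alternatingGroup (Fin n) => (g : Perm (Fin n)) z₀ = α)).card = (n - 1) * s :=
      fun α _ => card_fib1 hn hz α hs
    rw [Finset.sum_congr rfl h2, Finset.sum_const, smul_eq_mul, Finset.card_univ, Fintype.card_fin]
  have hspos : 0 < s := by
    rcases Nat.eq_zero_or_pos s with h | h
    · rw [h, mul_zero, mul_zero] at hcard
      exact absurd hcard Fintype.card_ne_zero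
    · exact h
  -- double counting
  have hcnt : ∀ g : alternatingGroup (Fin n), cnt (a * (((g⁻¹ : alternatingGroup (Fin n)) : Perm (Fin n)) * b * ((g⁻¹ : alternatingGroup (Fin n)) : Perm (Fin n))⁻¹))
      = (Finset.univ.filter (fun x => b ((g : Perm (Fin n)) x) = (g : Perm (Fin n)) (A x))).card := by
    intro g
    unfold cnt
    congr 1
    ext x
    simp only [Finset.mem_filter, Finset.mem_univ, true_and]
    have e1 : (a * (((g⁻¹ : alternatingGroup (Fin n)) : Perm (Fin n)) * b * ((g⁻¹ : alternatingGroup (Fin n)) : Perm (Fin n))⁻¹)) x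
        = a ((g : Perm (Fin n))⁻¹ (b ((g : Perm (Fin n)) x))) := by
      simp [Perm.mul_apply]
    rw [e1]
    constructor
    · intro h
      have h2 : (g : Perm (Fin n))⁻¹ (b ((g : Perm (Fin n)) x)) = A x := by
        rw [hA, Perm.eq_inv_iff_eq]; exact h
      rw [Perm.inv_eq_iff_eq] at h2
      exact h2
    · intro h
      have h2 : (g : Perm (Fin n))⁻¹ (b ((g : Perm (Fin n)) x)) = A x := by
        rw [Perm.inv_eq_iff_eq]; exact h
      rw [h2, hA]
      simp
  have hsum : ∑ g : alternatingGroup (Fin n), cnt (a * (((g⁻¹ : alternatingGroup (Fin n)) : Perm (Fin n)) * b * ((g⁻¹ : alternatingGroup (Fin n)) : Perm (Fin n))⁻¹))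
      = K * Fintype.card (alternatingGroup (Fin n)) := by
    rw [Finset.sum_congr rfl (fun g _ => hK _ (g⁻¹).2), Finset.sum_const, smul_eq_mul, Finset.card_univ, mul_comm]
  have hsum2 : ∑ g : alternatingGroup (Fin n), (Finset.univ.filter (fun x => b ((g : Perm (Fin n)) x) = (g : Perm (Fin n)) (A x))).card
      = ∑ x : Fin n, (Finset.univ.filter (fun g : alternatingGroup (Fin n) => b ((g : Perm (Fin n)) x) = (g : Perm (Fin n)) (A x))).card :=
    Finset.sum_card_bipartiteAbove_eq_sum_card_bipartiteBelow _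
  have hterm : ∀ x : Fin n, (Finset.univ.filter (fun g : alternatingGroup (Fin n) => b ((g : Perm (Fin n)) x) = (g : Perm (Fin n)) (A x))).card
      = if A x = x then cnt b * ((n - 1) * s) else (n - cnt b) * s := by
    intro x
    split_ifs with h
    · rw [h]
      obtain ⟨w, hw⟩ := hne x
      exact card_T_eq hn hw b hs
    · exact card_T_ne hn (Ne.symm h) b hs
  rw [Finset.sum_congr rfl (fun g _ => hcnt g), hsum2, Finset.sum_congr rfl (fun x _ => hterm x),
    Finset.sum_ite, Finset.sum_const, Finset.sum_const, smul_eq_mul, smul_eq_mul, hcard] at hsum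
  have h5 := Finset.card_filter_add_card_filter_not (s := (Finset.univ : Finset (Fin n))) (fun x => A x = x)
  rw [Finset.card_univ, Fintype.card_fin] at h5
  have h6 : cnt A = (Finset.univ.filter (fun x => A x = x)).card := by
    unfold cnt; congr
  have h7 : (Finset.univ.filter (fun x => ¬ A x = x)).card = n - cnt A := by
    rw [h6]; omega
  rw [h7, ← h6] at hsum
  have h8 : (K * (n * (n - 1))) * s = (cnt A * cnt b * (n - 1) + (n - cnt A) * (n - cnt b)) * s := by
    calc (K * (n * (n - 1))) * s = K * (n * ((n - 1) * s)) := by ring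
      _ = cnt A * (cnt b * ((n - 1) * s)) + (n - cnt A) * ((n - cnt b) * s) := hsum.symm
      _ = _ := by ring
  exact Nat.eq_of_mul_eq_mul_right hspos h8

end Mean

theorem exists_not_mem4 (hn : 5 ≤ n) (p q r w : Fin n) : ∃ y, y ≠ p ∧ y ≠ q ∧ y ≠ r ∧ y ≠ w := by
  classical
  by_contra hcon
  push Not at hcon
  have hsub : (Finset.univ : Finset (Fin n)) ⊆ {p, q, r, w} := by
    intro y _
    simp only [Finset.mem_insert, Finset.mem_singleton]
    by_cases h1 : y = p
    · exact Or.inl h1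
    by_cases h2 : y = q
    · exact Or.inr (Or.inl h2)
    by_cases h3 : y = r
    · exact Or.inr (Or.inr (Or.inl h3))
    exact Or.inr (Or.inr (Or.inr (hcon y h1 h2 h3)))
  have h4 := Finset.card_le_card hsub
  have h5 : ({p, q, r, w} : Finset (Fin n)).card ≤ 4 := Finset.card_le_four
  rw [Finset.card_univ, Fintype.card_fin] at h4
  omega

theorem cnt_inv (f : Perm (Fin n)) : cnt f⁻¹ = cnt f := by
  unfold cnt
  congr 1
  ext x
  simp only [Finset.mem_filter, Finset.mem_univ, true_and]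
  rw [Perm.inv_eq_iff_eq, eq_comm]

/-- Two aligned points give at least two fixed points of the product. -/
theorem two_le_cnt {a c : Perm (Fin n)} {p₁ p₂ : Fin n} (hp : p₁ ≠ p₂) (h1 : c p₁ = a⁻¹ p₁)
    (h2 : c p₂ = a⁻¹ p₂) : 2 ≤ cnt (a * c) := by
  classical
  have hmem : ∀ x, c x = a⁻¹ x → x ∈ Finset.univ.filter (fun x => (a * c) x = x) := by
    intro x hx
    refine Finset.mem_filter.2 ⟨Finset.mem_univ _, ?_⟩
    rw [Perm.mul_apply, hx]
    simp
  have hsub : ({p₁, p₂} : Finset (Fin n)) ⊆ Finset.univ.filter (fun x => (a * c) x = x) := by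
    intro x hx
    simp only [Finset.mem_insert, Finset.mem_singleton] at hx
    rcases hx with rfl | rfl
    · exact hmem _ h1
    · exact hmem _ h2
  have := Finset.card_le_card hsub
  rw [Finset.card_pair hp] at this
  unfold cnt
  convert this

theorem exists_two_fixed_of_two_le {b : Perm (Fin n)} (h : 2 ≤ cnt b) :
    ∃ v w, b v = v ∧ b w = w ∧ v ≠ w := by
  unfold cnt at h
  obtain ⟨v, hv, w, hw, hvw⟩ := Finset.one_lt_card.1 h
  exact ⟨v, w, (Finset.mem_filter.1 hv).2, (Finset.mem_filter.1 hw).2, hvw⟩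

/-- Placement for `(1,1)`. -/
theorem place_one_one (hn : 5 ≤ n) {a b : Perm (Fin n)} (ha : a ≠ 1) (hb : b ≠ 1)
    (hca : cnt a⁻¹ = 1) (hcb : cnt b = 1) :
    ∃ h ∈ alternatingGroup (Fin n), 2 ≤ cnt (a * (h * b * h⁻¹)) := by
  classical
  set A := a⁻¹ with hA
  have hA1 : A ≠ 1 := by
    intro h
    apply ha
    rw [hA, inv_eq_one] at h
    exact h
  obtain ⟨x, hx⟩ : ∃ p, A p ≠ p := by
    by_contra hcon
    push Not at hcon
    exact hA1 (Equiv.ext hcon)
  obtain ⟨α, hα⟩ : ∃ α, b α ≠ α := by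
    by_contra hcon
    push Not at hcon
    exact hb (Equiv.ext hcon)
  obtain ⟨z, hz⟩ : ∃ z, A z = z := by
    have : 0 < cnt A := by omega
    unfold cnt at this
    obtain ⟨z, hz⟩ := Finset.card_pos.1 this
    exact ⟨z, (Finset.mem_filter.1 hz).2⟩
  obtain ⟨z₀, hz₀⟩ : ∃ z, b z = z := by
    have : 0 < cnt b := by omega
    unfold cnt at this
    obtain ⟨z, hz⟩ := Finset.card_pos.1 this
    exact ⟨z, (Finset.mem_filter.1 hz).2⟩
  have h1 : z₀ ≠ α := by
    rintro rfl
    exact hα hz₀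
  have h2 : z₀ ≠ b α := by
    intro e
    apply hα
    apply b.injective
    rw [← e, hz₀]
  have h3 : z ≠ x := by
    rintro rfl
    exact hx hz
  have h4 : z ≠ A x := by
    intro e
    apply h3
    apply A.injective
    rw [hz]
    exact e
  obtain ⟨h, hh, e1, e2, e3⟩ := alt3 hn h1 h2 (Ne.symm hα) h3 h4 (Ne.symm hx)
  refine ⟨h, hh, two_le_cnt h3 ?_ ?_⟩
  · have : (h * b * h⁻¹) z = h (b (h⁻¹ z)) := rfl
    rw [this, show h⁻¹ z = z₀ by rw [Perm.inv_eq_iff_eq]; exact e1.symm, hz₀, e1]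
    exact hz.symm
  · have : (h * b * h⁻¹) x = h (b (h⁻¹ x)) := rfl
    rw [this, show h⁻¹ x = α by rw [Perm.inv_eq_iff_eq]; exact e2.symm, e3]

/-- Placement for `(0,1)`. -/
theorem place_zero_one (hn : 5 ≤ n) {a b : Perm (Fin n)} (hca : cnt a⁻¹ = 0) (hcb : cnt b = 1) :
    ∃ h ∈ alternatingGroup (Fin n), 2 ≤ cnt (a * (h * b * h⁻¹)) := by
  classical
  set A := a⁻¹ with hA
  have hder : ∀ x, A x ≠ x := by
    intro x hx
    have : x ∈ Finset.univ.filter (fun x => A x = x) := Finset.mem_filter.2 ⟨Finset.mem_univ _, hx⟩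
    unfold cnt at hca
    rw [Finset.card_eq_zero] at hca
    rw [hca] at this
    simp at this
  obtain ⟨z₀, hz₀⟩ : ∃ z₀, (Finset.univ.filter (fun x => b x = x)) = {z₀} := by
    unfold cnt at hcb
    exact Finset.card_eq_one.1 hcb
  have hbmoved : ∀ x, x ≠ z₀ → b x ≠ x := by
    intro x hx hfix
    have : x ∈ Finset.univ.filter (fun x => b x = x) := Finset.mem_filter.2 ⟨Finset.mem_univ _, hfix⟩
    rw [hz₀, Finset.mem_singleton] at this
    exact hx this
  have hbz : b z₀ = z₀ := by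
    have : z₀ ∈ Finset.univ.filter (fun x => b x = x) := by rw [hz₀]; simp
    exact (Finset.mem_filter.1 this).2
  obtain ⟨α₀, hα₀⟩ : ∃ y, y ≠ z₀ := by
    obtain ⟨y, h1, -⟩ := exists_not_mem4 hn z₀ z₀ z₀ z₀
    exact ⟨y, h1⟩
  have hconj : ∀ (h : Perm (Fin n)) (u v : Fin n), h u = v → (h * b * h⁻¹) v = h (b u) := by
    intro h u v e
    have : (h * b * h⁻¹) v = h (b (h⁻¹ v)) := rfl
    rw [this, show h⁻¹ v = u by rw [Perm.inv_eq_iff_eq]; exact e.symm]
  by_cases hA2 : ∃ x, A (A x) ≠ x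
  · by_cases hb2 : ∃ α, b (b α) ≠ α
    · -- both have long cycles
      obtain ⟨x, hx⟩ := hA2
      obtain ⟨α, hα⟩ := hb2
      have hαm : b α ≠ α := by
        intro e
        apply hα
        rw [e, e]
      have hαm2 : b (b α) ≠ b α := fun e => hαm (b.injective e)
      have hxm2 : A (A x) ≠ A x := fun e => hder x (A.injective e)
      obtain ⟨h, hh, e1, e2, e3⟩ := alt3 hn (Ne.symm hαm) (Ne.symm hα) (Ne.symm hαm2)
        (Ne.symm (hder x)) (Ne.symm hx) (Ne.symm hxm2)
      refine ⟨h, hh, two_le_cnt (hder x).symm ?_ ?_⟩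
      · rw [hconj h α x e1, e2]
      · rw [hconj h (b α) (A x) e2, e3]
    · -- `b` is an involution
      push Not at hb2
      have hαm := hbmoved α₀ hα₀
      obtain ⟨α', h1, h2, h3, -⟩ := exists_not_mem4 hn z₀ α₀ (b α₀) (b α₀)
      have hαm' := hbmoved α' h1
      have h4 : b α' ≠ α₀ := by
        intro e
        apply h3
        rw [← e, hb2]
      have h5 : b α' ≠ b α₀ := fun e => h2 (b.injective e)
      obtain ⟨x⟩ : Nonempty (Fin n) := ⟨α₀⟩
      obtain ⟨x', k1, k2, k3, -⟩ := exists_not_mem4 hn x (A x) (A⁻¹ x) (A⁻¹ x)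
      have k4 : A x' ≠ x := by
        intro e
        apply k3
        rw [Perm.eq_inv_iff_eq]; exact e
      have k5 : A x' ≠ A x := fun e => k1 (A.injective e)
      obtain ⟨g, g1, g2, g3, g4⟩ := perm4 (x := α₀) (y := b α₀) (z := α') (w := b α')
        (x' := x) (y' := A x) (z' := x') (w' := A x')
        (Ne.symm hαm) (Ne.symm h2) (Ne.symm h4) (Ne.symm h3) (Ne.symm h5) (Ne.symm hαm')
        (Ne.symm (hder x)) (Ne.symm k1) (Ne.symm k4) (Ne.symm k2) (Ne.symm k5) (Ne.symm (hder x'))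
      -- parity correction
      have hcomm : b * swap α₀ (b α₀) = swap α₀ (b α₀) * b := by
        have h6 := Equiv.swap_apply_apply b α₀ (b α₀)
        rw [hb2, swap_comm] at h6
        calc b * swap α₀ (b α₀) = b * swap α₀ (b α₀) * b⁻¹ * b := by group
          _ = swap α₀ (b α₀) * b := by rw [← h6]
      have hcx : (g * b * g⁻¹) x = A x := by rw [hconj g α₀ x g1, g2]
      have hcx' : (g * b * g⁻¹) x' = A x' := by rw [hconj g α' x' g3, g4]
      rcases Int.units_eq_one_or (Perm.sign g) with hs | hs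
      · exact ⟨g, Perm.mem_alternatingGroup.2 hs, two_le_cnt (Ne.symm k1) hcx hcx'⟩
      · refine ⟨g * swap α₀ (b α₀), ?_, ?_⟩
        · rw [Perm.mem_alternatingGroup, map_mul, hs, Perm.sign_swap (Ne.symm hαm)]
          rfl
        · have h7 : g * swap α₀ (b α₀) * b * (g * swap α₀ (b α₀))⁻¹ = g * b * g⁻¹ := by
            calc g * swap α₀ (b α₀) * b * (g * swap α₀ (b α₀))⁻¹
                = g * (swap α₀ (b α₀) * b) * (swap α₀ (b α₀))⁻¹ * g⁻¹ := by group
              _ = g * (b * swap α₀ (b α₀)) * (swap α₀ (b α₀))⁻¹ * g⁻¹ := by rw [hcomm]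
              _ = g * b * g⁻¹ := by group
          rw [h7]
          exact two_le_cnt (Ne.symm k1) hcx hcx'
  · -- `A` is an involution
    push Not at hA2
    have hαm := hbmoved α₀ hα₀
    obtain ⟨α', h1, h2, h3, h3'⟩ := exists_not_mem4 hn z₀ α₀ (b α₀) (b⁻¹ α₀)
    have hαm' := hbmoved α' h1
    have h4 : b α' ≠ α₀ := by
      intro e
      apply h3'
      rw [Perm.eq_inv_iff_eq]; exact e
    have h5 : b α' ≠ b α₀ := fun e => h2 (b.injective e)
    obtain ⟨x⟩ : Nonempty (Fin n) := ⟨α₀⟩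
    obtain ⟨x', k1, k2, -, -⟩ := exists_not_mem4 hn x (A x) x x
    have k4 : A x' ≠ x := by
      intro e
      apply k2
      rw [← e, hA2]
    have k5 : A x' ≠ A x := fun e => k1 (A.injective e)
    obtain ⟨g, g1, g2, g3, g4⟩ := perm4 (x := α₀) (y := b α₀) (z := α') (w := b α')
      (x' := x) (y' := A x) (z' := x') (w' := A x')
      (Ne.symm hαm) (Ne.symm h2) (Ne.symm h4) (Ne.symm h3) (Ne.symm h5) (Ne.symm hαm')
      (Ne.symm (hder x)) (Ne.symm k1) (Ne.symm k4) (Ne.symm k2) (Ne.symm k5) (Ne.symm (hder x'))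
    rcases Int.units_eq_one_or (Perm.sign g) with hs | hs
    · refine ⟨g, Perm.mem_alternatingGroup.2 hs, two_le_cnt (Ne.symm k1) ?_ ?_⟩
      · rw [hconj g α₀ x g1, g2]
      · rw [hconj g α' x' g3, g4]
    · set t := swap x (A x) with ht
      have ht1 : t (A x) = x := by simp [ht]
      have ht2 : t x = A x := by simp [ht]
      have ht3 : t x' = x' := swap_apply_of_ne_of_ne k1 k2
      have ht4 : t (A x') = A x' := swap_apply_of_ne_of_ne k4 k5
      refine ⟨t * g, ?_, two_le_cnt (p₁ := A x) (p₂ := x') (Ne.symm k2) ?_ ?_⟩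
      · rw [Perm.mem_alternatingGroup, map_mul, hs, ht, Perm.sign_swap (Ne.symm (hder x))]
        rfl
      · have e1 : (t * g) α₀ = A x := by rw [Perm.mul_apply, g1, ht2]
        rw [hconj (t * g) α₀ (A x) e1, Perm.mul_apply, g2, ht1, hA2]
      · have e1 : (t * g) α' = x' := by rw [Perm.mul_apply, g3, ht3]
        rw [hconj (t * g) α' x' e1, Perm.mul_apply, g4, ht4]

/-- Let n ≥ 5 and let a, b be non-identity permutations in the symmetric group S_n. Then the number of fixed points is not constant on the set of products a′b′ with a′ conjugate to a and b′ conjugate to b under the alternating group: there are even permutations g₁, h₁, g₂, h₂ such that (g₁ a g₁⁻¹)(h₁ b h₁⁻¹) and (g₂ a g₂⁻¹)(h₂ b h₂⁻¹) have different numbers of fixed points. -/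
theorem result (n : ℕ) (hn : 5 ≤ n) (a b : Equiv.Perm (Fin n)) (ha : a ≠ 1) (hb : b ≠ 1) :
    ∃ g₁ h₁ g₂ h₂ : Equiv.Perm (Fin n), g₁ ∈ alternatingGroup (Fin n) ∧ h₁ ∈ alternatingGroup (Fin n) ∧ g₂ ∈ alternatingGroup (Fin n) ∧ h₂ ∈ alternatingGroup (Fin n) ∧
      Nat.card (Function.fixedPoints ⇑(g₁ * a * g₁⁻¹ * (h₁ * b * h₁⁻¹))) ≠
        Nat.card (Function.fixedPoints ⇑(g₂ * a * g₂⁻¹ * (h₂ * b * h₂⁻¹))) := by
  classical
  haveI : NeZero n := ⟨by omega⟩
  -- from `Q`
  have hfromQ : Q a b → ∃ g₁ h₁ g₂ h₂ : Equiv.Perm (Fin n), g₁ ∈ alternatingGroup (Fin n) ∧ h₁ ∈ alternatingGroup (Fin n) ∧ g₂ ∈ alternatingGroup (Fin n) ∧ h₂ ∈ alternatingGroup (Fin n) ∧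
      Nat.card (Function.fixedPoints ⇑(g₁ * a * g₁⁻¹ * (h₁ * b * h₁⁻¹))) ≠
        Nat.card (Function.fixedPoints ⇑(g₂ * a * g₂⁻¹ * (h₂ * b * h₂⁻¹))) := by
    rintro ⟨h₁, hh₁, h₂, hh₂, hne⟩
    refine ⟨1, h₁, 1, h₂, one_mem _, hh₁, one_mem _, hh₂, ?_⟩
    rw [card_fixedPoints, card_fixedPoints]
    simpa using hne
  have hfromQ' : Q b a → ∃ g₁ h₁ g₂ h₂ : Equiv.Perm (Fin n), g₁ ∈ alternatingGroup (Fin n) ∧ h₁ ∈ alternatingGroup (Fin n) ∧ g₂ ∈ alternatingGroup (Fin n) ∧ h₂ ∈ alternatingGroup (Fin n) ∧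
      Nat.card (Function.fixedPoints ⇑(g₁ * a * g₁⁻¹ * (h₁ * b * h₁⁻¹))) ≠
        Nat.card (Function.fixedPoints ⇑(g₂ * a * g₂⁻¹ * (h₂ * b * h₂⁻¹))) := by
    rintro ⟨h₁, hh₁, h₂, hh₂, hne⟩
    refine ⟨h₁, 1, h₂, 1, hh₁, one_mem _, hh₂, one_mem _, ?_⟩
    rw [card_fixedPoints, card_fixedPoints]
    simp only [one_mul, inv_one, mul_one]
    rw [cnt_mul_comm, cnt_mul_comm (h₂ * a * h₂⁻¹)]
    exact hne
  -- two fixed points
  by_cases hb2 : 2 ≤ cnt b
  · obtain ⟨v, w, hv, hw, hvw⟩ := exists_two_fixed_of_two_le hb2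
    exact hfromQ (Q_of_two_fixed hn ha hb hv hw hvw)
  by_cases ha2 : 2 ≤ cnt a
  · obtain ⟨v, w, hv, hw, hvw⟩ := exists_two_fixed_of_two_le ha2
    exact hfromQ' (Q_of_two_fixed hn hb ha hv hw hvw)
  -- the mean argument
  have hmean : ∀ {a b : Perm (Fin n)}, ¬ Q a b → ∃ K, K * (n * (n - 1)) = cnt a⁻¹ * cnt b * (n - 1) + (n - cnt a⁻¹) * (n - cnt b) ∧
      ∀ h ∈ alternatingGroup (Fin n), cnt (a * (h * b * h⁻¹)) = K := by
    intro a b hQ
    have hK : ∀ h ∈ alternatingGroup (Fin n), cnt (a * (h * b * h⁻¹)) = cnt (a * (1 * b * 1⁻¹)) := by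
      intro h hh
      by_contra hne
      exact hQ ⟨h, hh, 1, one_mem _, hne⟩
    exact ⟨_, mean_formula hn a b _ hK, hK⟩
  have hnpos : 0 < n * (n - 1) := Nat.mul_pos (by omega) (by omega)
  have h01 : ∀ {a b : Perm (Fin n)}, cnt a⁻¹ = 0 → cnt b = 1 → Q a b := by
    intro a b h1 h2
    by_contra hQ
    obtain ⟨K, hK, hKall⟩ := hmean hQ
    rw [h1, h2] at hK
    have hK1 : K = 1 := by
      have : K * (n * (n - 1)) = 1 * (n * (n - 1)) := by
        rw [hK]; simp
      exact Nat.eq_of_mul_eq_mul_right hnpos this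
    obtain ⟨h, hh, h2'⟩ := place_zero_one hn h1 h2
    rw [hKall h hh, hK1] at h2'
    omega
  have hcaeq : cnt a⁻¹ = cnt a := cnt_inv a
  have hcbeq : cnt b⁻¹ = cnt b := cnt_inv b
  have hcases : (cnt a = 0 ∨ cnt a = 1) ∧ (cnt b = 0 ∨ cnt b = 1) := by omega
  obtain ⟨ha', hb'⟩ := hcases
  rcases ha' with ha0 | ha1
  · rcases hb' with hb0 | hb1
    · -- `(0,0)`
      apply hfromQ
      by_contra hQ
      obtain ⟨K, hK, -⟩ := hmean hQ
      rw [hcaeq, ha0, hb0] at hK
      simp only [Nat.sub_zero, mul_zero, zero_mul, zero_add] at hK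
      have h1 : K * (n - 1) = n := by
        have : n * (K * (n - 1)) = n * n := by
          rw [← hK]; ring
        exact Nat.eq_of_mul_eq_mul_left (by omega) this
      have h2 : (n - 1) ∣ n := ⟨K, by rw [mul_comm]; exact h1.symm⟩
      have h3 : (n - 1) ∣ n - (n - 1) := Nat.dvd_sub h2 (dvd_refl _)
      have h4 : n - (n - 1) = 1 := by omega
      rw [h4] at h3
      have := Nat.dvd_one.1 h3
      omega
    · -- `(0,1)`
      exact hfromQ (h01 (by rw [hcaeq]; exact ha0) hb1)
  · rcases hb' with hb0 | hb1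
    · -- `(1,0)`
      exact hfromQ' (h01 (by rw [hcbeq]; exact hb0) ha1)
    · -- `(1,1)`
      apply hfromQ
      by_contra hQ
      obtain ⟨K, hK, hKall⟩ := hmean hQ
      rw [hcaeq, ha1, hb1] at hK
      have hK1 : K = 1 := by
        have : K * (n * (n - 1)) = 1 * (n * (n - 1)) := by
          rw [hK]
          obtain ⟨m, rfl⟩ : ∃ m, n = m + 1 := ⟨n - 1, by omega⟩
          simp only [Nat.add_sub_cancel]
          ring
        exact Nat.eq_of_mul_eq_mul_right hnpos this
      obtain ⟨h, hh, h2'⟩ := place_one_one hn ha hb (by rw [hcaeq]; exact ha1) hb1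
      rw [hKall h hh, hK1] at h2'
      omega

end Cfsg.Agent.S2271
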