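import Cfsg.Statements.S2272
import Cfsg.Agent.Lib.Linalg.Bridge

set_option autoImplicit false
open Cfsg

namespace Cfsg.Agent.S2272

open Matrix in
theorem tv_mul_apply {F : Type*} [Field F] {d : ℕ} (i j : Fin d) (s : F)
    (M : Matrix (Fin d) (Fin d) F) (r c : Fin d) :
    ((1 + single i j s) * M) r c = M r c + if r = i then s * M j c else 0 := by
  rw [Matrix.add_mul, Matrix.one_mul, Matrix.add_apply]
  by_cases hr : r = i
  · subst hr
    rw [Matrix.single_mul_apply_same, if_pos rfl]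
  · rw [Matrix.single_mul_apply_of_ne (h := hr), if_neg hr]

open Matrix in
theorem mul_tv_apply {F : Type*} [Field F] {d : ℕ} (i j : Fin d) (s : F)
    (M : Matrix (Fin d) (Fin d) F) (r c : Fin d) :
    (M * (1 + single i j s)) r c = M r c + if c = j then M r i * s else 0 := by
  rw [Matrix.mul_add, Matrix.mul_one, Matrix.add_apply]
  by_cases hc : c = j
  · subst hc
    rw [Matrix.mul_single_apply_same, if_pos rfl]
  · rw [Matrix.mul_single_apply_of_ne (hbj := hc), if_neg hc]

open Matrix in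
/-- A noncentral element of `SL` has a conjugate whose `i`-th column is the `k`-th basis vector. -/
theorem exists_conj_col {F : Type*} [Field F] {d : ℕ} (hd : 3 ≤ d)
    (a : Matrix.SpecialLinearGroup (Fin d) F) (ha : a ∉ Subgroup.center (Matrix.SpecialLinearGroup (Fin d) F))
    (i k : Fin d) (hik : i ≠ k) :
    ∃ g : Matrix.SpecialLinearGroup (Fin d) F,
      ∀ r, ((g * a * g⁻¹ : Matrix.SpecialLinearGroup (Fin d) F) : Matrix (Fin d) (Fin d) F) r i
        = if r = k then 1 else 0 := by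
  classical
  -- a vector moved off its line
  obtain ⟨z, hz⟩ : ∃ z : Fin d → F, LinearIndependent F ![z, (a : Matrix (Fin d) (Fin d) F) *ᵥ z] := by
    by_contra hall
    push Not at hall
    obtain ⟨c, hc⟩ := LinearMap.exists_eq_smul_id_of_forall_notLinearIndependent
      (f := Matrix.toLin' (a : Matrix (Fin d) (Fin d) F)) (R := F) (V := Fin d → F)
      (fun v => by simpa using hall v)
    apply ha
    rw [Subgroup.mem_center_iff]
    intro B
    apply Subtype.ext
    have h1 : (a : Matrix (Fin d) (Fin d) F) = c • 1 := by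
      apply Matrix.toLin'.injective
      rw [hc, map_smul, Matrix.toLin'_one]
      rfl
    simp [Matrix.SpecialLinearGroup.coe_mul, h1]
  have hv' : LinearIndependent F ![(Pi.single i 1 : Fin d → F), Pi.single k 1] := by
    rw [LinearIndependent.pair_iff]
    intro s t hst
    have h1 := congrFun hst i
    have h2 := congrFun hst k
    simp [Pi.single_apply, hik, hik.symm] at h1 h2
    exact ⟨h1, h2⟩
  obtain ⟨g, hg⟩ := Cfsg.Agent.Lib.Linalg.Bridge.exists_SL_of_linearIndependent hz hv'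
    (by simp; omega)
  refine ⟨g, fun r => ?_⟩
  have h0 := hg 0
  have h1 := hg 1
  simp only [Matrix.cons_val_zero, Matrix.cons_val_one] at h0 h1
  have hinv : ((g⁻¹ : Matrix.SpecialLinearGroup (Fin d) F) : Matrix (Fin d) (Fin d) F) *ᵥ Pi.single i 1 = z := by
    rw [← h0, Matrix.mulVec_mulVec, ← Matrix.SpecialLinearGroup.coe_mul, inv_mul_cancel]
    simp
  have hcol : ((g * a * g⁻¹ : Matrix.SpecialLinearGroup (Fin d) F) : Matrix (Fin d) (Fin d) F) *ᵥ Pi.single i 1
      = Pi.single k 1 := by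
    rw [Matrix.SpecialLinearGroup.coe_mul, ← Matrix.mulVec_mulVec, hinv, Matrix.SpecialLinearGroup.coe_mul,
      ← Matrix.mulVec_mulVec, h1]
  have := congrFun hcol r
  simpa [Pi.single_apply] using this

open Matrix in
/-- Two conjugates of `a` whose products with a conjugate of `b` have traces `0` and `1`. -/
theorem exists_traces {F : Type*} [Field F] {d : ℕ} (hd : 3 ≤ d)
    (a b : Matrix.SpecialLinearGroup (Fin d) F)
    (ha : a ∉ Subgroup.center (Matrix.SpecialLinearGroup (Fin d) F))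
    (hb : b ∉ Subgroup.center (Matrix.SpecialLinearGroup (Fin d) F)) :
    ∃ g₀ g₁ h : Matrix.SpecialLinearGroup (Fin d) F,
      trace (((g₀ * a * g₀⁻¹ * (h * b * h⁻¹) : Matrix.SpecialLinearGroup (Fin d) F) :
        Matrix (Fin d) (Fin d) F)) = 0 ∧
      trace (((g₁ * a * g₁⁻¹ * (h * b * h⁻¹) : Matrix.SpecialLinearGroup (Fin d) F) :
        Matrix (Fin d) (Fin d) F)) = 1 := by
  classical
  let i0 : Fin d := ⟨0, by omega⟩
  let i1 : Fin d := ⟨1, by omega⟩
  let i2 : Fin d := ⟨2, by omega⟩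
  have h01 : i0 ≠ i1 := by simp [i0, i1, Fin.ext_iff]
  have h02 : i0 ≠ i2 := by simp [i0, i2, Fin.ext_iff]
  have h12 : i1 ≠ i2 := by simp [i1, i2, Fin.ext_iff]
  obtain ⟨g₁, hA⟩ := exists_conj_col hd a ha i0 i1 h01
  obtain ⟨g₂, hB⟩ := exists_conj_col hd b hb i0 i2 h02
  set A : Matrix.SpecialLinearGroup (Fin d) F := g₁ * a * g₁⁻¹ with hAdef
  set B : Matrix.SpecialLinearGroup (Fin d) F := g₂ * b * g₂⁻¹ with hBdef
  -- the second choice of conjugate of `b`
  let τ : Matrix.SpecialLinearGroup (Fin d) F := Matrix.SpecialLinearGroup.transvection h01 1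
  have hτ : (τ : Matrix (Fin d) (Fin d) F) = 1 + single i0 i1 1 :=
    Matrix.SpecialLinearGroup.transvection_coe h01 1
  have hτi : ((τ⁻¹ : Matrix.SpecialLinearGroup (Fin d) F) : Matrix (Fin d) (Fin d) F) = 1 + single i0 i1 (-1) := by
    rw [Matrix.SpecialLinearGroup.transvection_inv h01 1, Matrix.SpecialLinearGroup.transvection_coe h01 (-1)]
  have hB0 : ∀ r, (B : Matrix (Fin d) (Fin d) F) r i0 = if r = i2 then 1 else 0 := hB
  have hA0 : ∀ r, (A : Matrix (Fin d) (Fin d) F) r i0 = if r = i1 then 1 else 0 := hA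
  have hτB : ∀ r c, ((τ * B * τ⁻¹ : Matrix.SpecialLinearGroup (Fin d) F) : Matrix (Fin d) (Fin d) F) r c
      = (((B : Matrix (Fin d) (Fin d) F) * (1 + single i0 i1 (-1)) : Matrix (Fin d) (Fin d) F) r c
        + if r = i0 then 1 * ((B : Matrix (Fin d) (Fin d) F) * (1 + single i0 i1 (-1)) :
            Matrix (Fin d) (Fin d) F) i1 c else 0) := by
    intro r c
    rw [Matrix.SpecialLinearGroup.coe_mul, Matrix.SpecialLinearGroup.coe_mul, hτ, hτi, Matrix.mul_assoc,
      tv_mul_apply]
  have hB'0 : ∀ r, ((τ * B * τ⁻¹ : Matrix.SpecialLinearGroup (Fin d) F) : Matrix (Fin d) (Fin d) F) r i0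
      = if r = i2 then 1 else 0 := by
    intro r
    rw [hτB, mul_tv_apply, mul_tv_apply, hB0, hB0]
    simp only [if_neg h01, if_neg h12, add_zero, mul_zero, ite_self]
  have hB'1 : ((τ * B * τ⁻¹ : Matrix.SpecialLinearGroup (Fin d) F) : Matrix (Fin d) (Fin d) F) i2 i1
      = (B : Matrix (Fin d) (Fin d) F) i2 i1 - 1 := by
    rw [hτB, mul_tv_apply, if_neg h02.symm, if_pos rfl, hB0, if_pos rfl]
    ring
  -- one of the two conjugates of `b` gives a nonzero slope
  obtain ⟨h, hC0, hD⟩ : ∃ h : Matrix.SpecialLinearGroup (Fin d) F,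
      (∀ r, ((h * b * h⁻¹ : Matrix.SpecialLinearGroup (Fin d) F) : Matrix (Fin d) (Fin d) F) r i0
        = if r = i2 then 1 else 0) ∧
      (A : Matrix (Fin d) (Fin d) F) i2 i2
        - ((h * b * h⁻¹ : Matrix.SpecialLinearGroup (Fin d) F) : Matrix (Fin d) (Fin d) F) i2 i1 ≠ 0 := by
    by_cases h0 : (A : Matrix (Fin d) (Fin d) F) i2 i2 - (B : Matrix (Fin d) (Fin d) F) i2 i1 = 0
    · refine ⟨τ * g₂, ?_, ?_⟩
      · have : τ * g₂ * b * (τ * g₂)⁻¹ = τ * B * τ⁻¹ := by
          rw [hBdef]; group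
        rw [this]
        exact hB'0
      · have : τ * g₂ * b * (τ * g₂)⁻¹ = τ * B * τ⁻¹ := by
          rw [hBdef]; group
        rw [this, hB'1]
        intro h3
        have h4 : (A : Matrix (Fin d) (Fin d) F) i2 i2 - (B : Matrix (Fin d) (Fin d) F) i2 i1
            = -1 := by linear_combination h3
        rw [h0] at h4
        exact one_ne_zero (by linear_combination h4 : (1 : F) = 0)
    · exact ⟨g₂, hB0, h0⟩
  set C : Matrix.SpecialLinearGroup (Fin d) F := h * b * h⁻¹ with hCdef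
  set D : F := (A : Matrix (Fin d) (Fin d) F) i2 i2 - (C : Matrix (Fin d) (Fin d) F) i2 i1 with hDdef
  -- the trace is an affine function along the root group
  let t : F → Matrix.SpecialLinearGroup (Fin d) F := fun s => Matrix.SpecialLinearGroup.transvection h02 s
  have ht : ∀ s, ((t s : Matrix.SpecialLinearGroup (Fin d) F) : Matrix (Fin d) (Fin d) F) = 1 + single i0 i2 s :=
    fun s => Matrix.SpecialLinearGroup.transvection_coe h02 s
  have hti : ∀ s, (((t s)⁻¹ : Matrix.SpecialLinearGroup (Fin d) F) : Matrix (Fin d) (Fin d) F)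
      = 1 + single i0 i2 (-s) := fun s => by
    rw [Matrix.SpecialLinearGroup.transvection_inv h02 s, Matrix.SpecialLinearGroup.transvection_coe h02 (-s)]
  have htr : ∀ s, trace (((t s * A * (t s)⁻¹ * C : Matrix.SpecialLinearGroup (Fin d) F) :
      Matrix (Fin d) (Fin d) F)) = trace ((A : Matrix (Fin d) (Fin d) F) * (C : Matrix (Fin d) (Fin d) F)) + s * D := by
    intro s
    simp only [Matrix.SpecialLinearGroup.coe_mul, ht, hti]
    have e1 : single i0 i2 s * (A : Matrix (Fin d) (Fin d) F) * single i0 i2 (-s) = 0 := by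
      rw [single_mul_mul_single, hA0, if_neg h12.symm]
      simp
    have e2 : ((1 + single i0 i2 s) * (A : Matrix (Fin d) (Fin d) F) * (1 + single i0 i2 (-s)))
        * (C : Matrix (Fin d) (Fin d) F)
        = (A : Matrix (Fin d) (Fin d) F) * (C : Matrix (Fin d) (Fin d) F)
          + single i0 i2 s * ((A : Matrix (Fin d) (Fin d) F) * (C : Matrix (Fin d) (Fin d) F))
          + (A : Matrix (Fin d) (Fin d) F) * (single i0 i2 (-s) * (C : Matrix (Fin d) (Fin d) F)) := by
      have e3 : ((1 + single i0 i2 s) * (A : Matrix (Fin d) (Fin d) F) * (1 + single i0 i2 (-s)))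
          = (A : Matrix (Fin d) (Fin d) F) + single i0 i2 s * (A : Matrix (Fin d) (Fin d) F)
            + (A : Matrix (Fin d) (Fin d) F) * single i0 i2 (-s) := by
        simp only [Matrix.add_mul, Matrix.mul_add, Matrix.one_mul, Matrix.mul_one, e1, add_zero]
      rw [e3]
      simp only [Matrix.add_mul, Matrix.mul_assoc]
    have e6 : trace ((A : Matrix (Fin d) (Fin d) F) * (single i0 i2 (-s) * (C : Matrix (Fin d) (Fin d) F)))
        = trace (single i0 i2 (-s) * ((C : Matrix (Fin d) (Fin d) F) * (A : Matrix (Fin d) (Fin d) F))) := by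
      rw [trace_mul_comm, Matrix.mul_assoc]
    rw [e2, trace_add, trace_add, e6, trace_single_mul, trace_single_mul]
    have e4 : ((A : Matrix (Fin d) (Fin d) F) * (C : Matrix (Fin d) (Fin d) F)) i2 i0
        = (A : Matrix (Fin d) (Fin d) F) i2 i2 := by
      rw [Matrix.mul_apply, Finset.sum_eq_single i2]
      · rw [hC0, if_pos rfl, mul_one]
      · intro r _ hr
        rw [hC0, if_neg hr, mul_zero]
      · simp
    have e5 : ((C : Matrix (Fin d) (Fin d) F) * (A : Matrix (Fin d) (Fin d) F)) i2 i0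
        = (C : Matrix (Fin d) (Fin d) F) i2 i1 := by
      rw [Matrix.mul_apply, Finset.sum_eq_single i1]
      · rw [hA0, if_pos rfl, mul_one]
      · intro r _ hr
        rw [hA0, if_neg hr, mul_zero]
      · simp
    rw [e4, e5, hDdef]
    ring
  set T : F := trace ((A : Matrix (Fin d) (Fin d) F) * (C : Matrix (Fin d) (Fin d) F)) with hT
  refine ⟨t (-T / D) * g₁, t ((1 - T) / D) * g₁, h, ?_, ?_⟩
  · have : t (-T / D) * g₁ * a * (t (-T / D) * g₁)⁻¹ = t (-T / D) * A * (t (-T / D))⁻¹ := by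
      rw [hAdef]; group
    rw [this, htr]
    field_simp
    ring
  · have : t ((1 - T) / D) * g₁ * a * (t ((1 - T) / D) * g₁)⁻¹
        = t ((1 - T) / D) * A * (t ((1 - T) / D))⁻¹ := by
      rw [hAdef]; group
    rw [this, htr]
    field_simp
    ring

/-- Let F be a finite field and d ≥ 3, and let a, b be non-identity elements of PSL_d(F). Then the product of the conjugacy classes of a and b is not a single conjugacy class: there are conjugates a′ of a and b′ of b such that a′b′ is not conjugate to ab. -/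
theorem result {F : Type*} [Field F] [Fintype F] (d : ℕ) (hd : 3 ≤ d)
    (a b : Matrix.ProjectiveSpecialLinearGroup (Fin d) F) (ha : a ≠ 1) (hb : b ≠ 1) :
    ∃ g h : Matrix.ProjectiveSpecialLinearGroup (Fin d) F, ¬ IsConj (a * b) (g * a * g⁻¹ * (h * b * h⁻¹)) := by
  classical
  obtain ⟨a₀, rfl⟩ := QuotientGroup.mk_surjective a
  obtain ⟨b₀, rfl⟩ := QuotientGroup.mk_surjective b
  have ha₀ : a₀ ∉ Subgroup.center (Matrix.SpecialLinearGroup (Fin d) F) :=
    fun h => ha ((QuotientGroup.eq_one_iff a₀).mpr h)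
  have hb₀ : b₀ ∉ Subgroup.center (Matrix.SpecialLinearGroup (Fin d) F) :=
    fun h => hb ((QuotientGroup.eq_one_iff b₀).mpr h)
  obtain ⟨g₀, g₁, h, h0, h1⟩ := exists_traces hd a₀ b₀ ha₀ hb₀
  by_contra hall
  push Not at hall
  have c0 := hall (g₀ : Matrix.ProjectiveSpecialLinearGroup (Fin d) F) h
  have c1 := hall (g₁ : Matrix.ProjectiveSpecialLinearGroup (Fin d) F) h
  have c := c0.symm.trans c1
  obtain ⟨x, hx⟩ := isConj_iff.mp c
  obtain ⟨x₀, rfl⟩ := QuotientGroup.mk_surjective x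
  set X₀ : Matrix.SpecialLinearGroup (Fin d) F := g₀ * a₀ * g₀⁻¹ * (h * b₀ * h⁻¹) with hX₀
  set X₁ : Matrix.SpecialLinearGroup (Fin d) F := g₁ * a₀ * g₁⁻¹ * (h * b₀ * h⁻¹) with hX₁
  have hq : ((x₀ * X₀ * x₀⁻¹ : Matrix.SpecialLinearGroup (Fin d) F) :
      Matrix.ProjectiveSpecialLinearGroup (Fin d) F) = (X₁ : _) := hx
  have hz := QuotientGroup.eq.mp hq
  obtain ⟨r, -, hr⟩ := Matrix.SpecialLinearGroup.mem_center_iff.mp hz
  have hX : X₁ = (x₀ * X₀ * x₀⁻¹) * ((x₀ * X₀ * x₀⁻¹)⁻¹ * X₁) := by group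
  have htr : Matrix.trace ((X₁ : Matrix.SpecialLinearGroup (Fin d) F) : Matrix (Fin d) (Fin d) F)
      = r * Matrix.trace ((x₀ * X₀ * x₀⁻¹ : Matrix.SpecialLinearGroup (Fin d) F) :
        Matrix (Fin d) (Fin d) F) := by
    rw [hX, Matrix.SpecialLinearGroup.coe_mul _ ((x₀ * X₀ * x₀⁻¹)⁻¹ * X₁), ← hr, Matrix.scalar_apply]
    have key : ∀ M : Matrix (Fin d) (Fin d) F,
        Matrix.trace (M * Matrix.diagonal (fun _ => r)) = r * Matrix.trace M := by
      intro M
      simp [Matrix.trace, Finset.mul_sum, Matrix.mul_diagonal, mul_comm]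
    exact key _
  have h2 : Matrix.trace ((x₀ * X₀ * x₀⁻¹ : Matrix.SpecialLinearGroup (Fin d) F) :
      Matrix (Fin d) (Fin d) F) = 0 := by
    rw [Matrix.SpecialLinearGroup.coe_mul, Matrix.SpecialLinearGroup.coe_mul, Matrix.trace_mul_comm,
      ← Matrix.mul_assoc, ← Matrix.SpecialLinearGroup.coe_mul, inv_mul_cancel]
    simpa using h0
  rw [h2, mul_zero, h1] at htr
  exact one_ne_zero htr

end Cfsg.Agent.S2272
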