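import Cfsg.Statements.S2276
import Cfsg.Agent.Lib.AltPFree.Main

set_option autoImplicit false
open Cfsg

namespace Cfsg.Agent.S2276

/-- Let n ≥ 5, p ≥ 3 a prime, and u, w non-identity elements of p-power order in the alternating group A_n. Then there is g ∈ A_n such that u·(g w g⁻¹) does not have p-power order and ⟨u, g w g⁻¹⟩ is not solvable. -/
theorem result (n : ℕ) (hn : 5 ≤ n) (p : ℕ) (hp : p.Prime) (hp3 : 3 ≤ p) (u w : alternatingGroup (Fin n)) (hu : u ≠ 1) (hw : w ≠ 1)
    (hu' : ∃ k : ℕ, orderOf u = p ^ k) (hw' : ∃ k : ℕ, orderOf w = p ^ k) :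
    ∃ g : alternatingGroup (Fin n), (¬ ∃ k : ℕ, orderOf (u * (g * w * g⁻¹)) = p ^ k) ∧
      ¬ Group.IsSolvable ↥(Subgroup.closure ({u, g * w * g⁻¹} : Set (alternatingGroup (Fin n)))) := by
  classical
  haveI : Fact p.Prime := ⟨hp⟩
  obtain ⟨ku, hku⟩ := hu'
  obtain ⟨kw, hkw⟩ := hw'
  have hku0 : ku ≠ 0 := by
    rintro rfl
    rw [pow_zero, orderOf_eq_one_iff] at hku
    exact hu hku
  have hkw0 : kw ≠ 0 := by
    rintro rfl
    rw [pow_zero, orderOf_eq_one_iff] at hkw
    exact hw hkw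
  obtain ⟨a, rfl⟩ : ∃ a, ku = a + 1 := ⟨ku - 1, by omega⟩
  obtain ⟨b, rfl⟩ : ∃ b, kw = b + 1 := ⟨kw - 1, by omega⟩
  have hcard : 5 ≤ Fintype.card (Fin n) := by simpa using hn
  have hu2 : orderOf ((u : alternatingGroup (Fin n)) : Equiv.Perm (Fin n)) = p ^ (a + 1) := by
    rw [Subgroup.orderOf_coe]; exact hku
  have hw2 : orderOf ((w : alternatingGroup (Fin n)) : Equiv.Perm (Fin n)) = p ^ (b + 1) := by
    rw [Subgroup.orderOf_coe]; exact hkw
  rcases le_total a b with hab | hab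
  · exact Cfsg.Agent.Lib.AltPFree.main_ordered hp hp3 u w a b hu2 hw2 hab hcard
  · obtain ⟨g, h1, h2⟩ := Cfsg.Agent.Lib.AltPFree.main_ordered hp hp3 w u b a hw2 hu2 hab hcard
    refine ⟨g⁻¹, ?_, ?_⟩
    · rintro ⟨k, hk⟩
      apply h1
      refine ⟨k, ?_⟩
      have e : w * (g * u * g⁻¹) = (MulAut.conj (w * g)) (u * (g⁻¹ * w * g⁻¹⁻¹)) := by
        simp only [MulAut.conj_apply]
        group
      rw [e, MulEquiv.orderOf_eq]
      exact hk
    · intro hs
      apply h2
      haveI := hs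
      let K : Subgroup (alternatingGroup (Fin n)) :=
        Subgroup.closure ({u, g⁻¹ * w * g⁻¹⁻¹} : Set (alternatingGroup (Fin n)))
      haveI : Group.IsSolvable K := hs
      have hK : K.map (MulAut.conj g).toMonoidHom =
          Subgroup.closure ({w, g * u * g⁻¹} : Set (alternatingGroup (Fin n))) := by
        rw [MonoidHom.map_closure, Set.image_pair, Set.pair_comm]
        congr 2
        simp only [MulEquiv.coe_toMonoidHom, MulAut.conj_apply]
        group
      rw [← hK]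
      exact Group.isSolvable_of_surjective (f := (MulAut.conj g).toMonoidHom.subgroupMap K)
        (MonoidHom.subgroupMap_surjective _ _)

end Cfsg.Agent.S2276
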