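import Cfsg.Statements.S2277
import Mathlib
import Cfsg.Agent.Lib.Coprime.Coset
import Cfsg.Agent.Lib.Coprime.FrattiniAct
import Cfsg.Agent.Lib.Coprime.InvSylow
import Cfsg.Agent.Lib.PGroup.WeaklyClosed
import Cfsg.Agent.Lib.PGroup.Basic
-- import your own Cfsg.Agent.* helpers here

set_option autoImplicit false
open Cfsg

namespace Cfsg.Agent.S2277

section Core

open Subgroup

/-- algebra: independence of the three "eigenspaces". -/
theorem alg3 {W : Type*} [AddCommGroup W] (w : W →+ W) (hinj : Function.Injective w)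
    (h1 : ∀ y, w y = y → y = 0)
    (h2 : ∀ y, w (w y) = y → y = 0) {x a b : W} (e0 : x + a + b = 0)
    (e1 : x + w a + w (w b) = 0) (e2 : x + w (w a) + w (w (w (w b))) = 0) :
    x = 0 ∧ a = 0 ∧ b = 0 := by
  have A : w a - a + (w (w b) - b) = 0 := by
    have : w a - a + (w (w b) - b) = (x + w a + w (w b)) - (x + a + b) := by abel
    rw [this, e0, e1, sub_zero]
  have A' : w (w a) - w a + (w (w (w b)) - w b) = 0 := by
    have := congrArg w A
    simpa [map_add, map_sub] using this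
  have B : w (w a) - w a + (w (w (w (w b))) - w (w b)) = 0 := by
    have : w (w a) - w a + (w (w (w (w b))) - w (w b)) =
      (x + w (w a) + w (w (w (w b)))) - (x + w a + w (w b)) := by abel
    rw [this, e1, e2, sub_zero]
  set y := w (w b) - b with hy
  have hy1 : w y = w (w (w b)) - w b := by simp [hy, map_sub]
  have hy2 : w (w y) = w (w (w (w b))) - w (w b) := by simp [hy, map_sub]
  have C : w (w y) - w y = 0 := by
    have : w (w y) - w y = (w (w a) - w a + (w (w (w (w b))) - w (w b))) -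
        (w (w a) - w a + (w (w (w b)) - w b)) := by
      rw [hy2, hy1]; abel
    rw [this, A', B, sub_zero]
  have hy0 : y = 0 := h1 y (hinj (sub_eq_zero.1 C))
  have hb : b = 0 := h2 b (sub_eq_zero.1 (by rw [← hy, hy0]))
  have ha : a = 0 := by
    apply h1 a
    rw [hy0, add_zero] at A
    exact sub_eq_zero.1 A
  refine ⟨?_, ha, hb⟩
  simpa [ha, hb] using e0

theorem alg3' {W : Type*} [CommGroup W] (w : W →* W) (hinj : Function.Injective w)
    (h1 : ∀ y, w y = y → y = 1)
    (h2 : ∀ y, w (w y) = y → y = 1) {x a b : W} (e0 : x * a * b = 1)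
    (e1 : x * w a * w (w b) = 1) (e2 : x * w (w a) * w (w (w (w b))) = 1) :
    x = 1 ∧ a = 1 ∧ b = 1 :=
  alg3 (W := Additive W) (MonoidHom.toAdditive w) hinj h1 h2 (x := Additive.ofMul x)
    (a := Additive.ofMul a) (b := Additive.ofMul b) e0 e1 e2

/-- Fixed points of an automorphism. -/
def fixS {V : Type*} [Group V] (h : MulAut V) : Subgroup V where
  carrier := {v | h v = v}
  mul_mem' := by
    intro a b ha hb
    simp only [Set.mem_setOf_eq] at *
    rw [map_mul, ha, hb]
  one_mem' := map_one h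
  inv_mem' := by
    intro a ha
    simp only [Set.mem_setOf_eq] at *
    rw [map_inv, ha]

theorem mem_fixS {V : Type*} [Group V] {h : MulAut V} {v : V} : v ∈ fixS h ↔ h v = v := Iff.rfl

theorem card_fix_cube {V : Type*} [Group V] [Finite V] (hV : ∀ a b : V, a * b = b * a)
    (c u ω : MulAut V) (hcu : c * u = ω * u * c) (hωc : ω * c = c * ω) (hωu : ω * u = u * ω)
    (h1 : ∀ y, ω y = y → y = 1) (h2 : ∀ y, ω (ω y) = y → y = 1) :
    Nat.card (fixS c) ^ 3 ≤ Nat.card V := by
  letI : CommGroup V := { (inferInstance : Group V) with mul_comm := hV }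
  let F : fixS c × fixS c × fixS c →* V :=
    { toFun := fun f => (f.1 : V) * u (f.2.1 : V) * u (u (f.2.2 : V))
      map_one' := by simp
      map_mul' := by
        intro f g
        simp only [Prod.fst_mul, Prod.snd_mul, Subgroup.coe_mul, map_mul]
        generalize (f.1 : V) = x1
        generalize (g.1 : V) = x2
        generalize u (f.2.1 : V) = x3
        generalize u (g.2.1 : V) = x4
        generalize u (u (f.2.2 : V)) = x5
        generalize u (u (g.2.2 : V)) = x6
        rw [show x1 * x2 * (x3 * x4) * (x5 * x6) = x1 * x3 * x5 * (x2 * x4 * x6) by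
          simp only [mul_assoc, mul_left_comm]] }
  have hcu' : ∀ y, c (u y) = ω (u (c y)) := by
    intro y
    have := congrArg (fun f : MulAut V => f y) hcu
    simpa [MulAut.mul_apply] using this
  have hωc' : ∀ y, ω (c y) = c (ω y) := by
    intro y
    have := congrArg (fun f : MulAut V => f y) hωc
    simpa [MulAut.mul_apply] using this
  have hωu' : ∀ y, ω (u y) = u (ω y) := by
    intro y
    have := congrArg (fun f : MulAut V => f y) hωu
    simpa [MulAut.mul_apply] using this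
  have hinj : Function.Injective F := by
    rw [injective_iff_map_eq_one]
    rintro ⟨f0, f1, f2⟩ hf
    have hf' : (f0 : V) * u (f1 : V) * u (u (f2 : V)) = 1 := hf
    have hc0 : c (f0 : V) = f0 := f0.2
    have hc1 : c (u (f1 : V)) = ω (u (f1 : V)) := by
      rw [hcu', show c (f1 : V) = f1 from f1.2]
    have hc2 : c (u (u (f2 : V))) = ω (ω (u (u (f2 : V)))) := by
      rw [hcu', hcu', show c (f2 : V) = f2 from f2.2, ← hωu']
    have e1 : (f0 : V) * ω (u (f1 : V)) * ω (ω (u (u (f2 : V)))) = 1 := by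
      have := congrArg c hf'
      rwa [map_mul, map_mul, hc0, hc1, hc2, map_one] at this
    have e2 : (f0 : V) * ω (ω (u (f1 : V))) * ω (ω (ω (ω (u (u (f2 : V)))))) = 1 := by
      have := congrArg c e1
      rwa [map_mul, map_mul, hc0, ← hωc', hc1, ← hωc', ← hωc', hc2, map_one] at this
    obtain ⟨h0, ha, hb⟩ := alg3' ω.toMonoidHom ω.injective h1 h2 hf' e1 e2
    have hf1 : (f1 : V) = 1 := u.injective (by rw [map_one]; exact ha)
    have hf2 : (f2 : V) = 1 := u.injective (u.injective (by simpa using hb))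
    ext <;> simp [h0, hf1, hf2]
  have h := Nat.card_le_card_of_injective F hinj
  simpa [Nat.card_prod, pow_succ, mul_assoc] using h

/-- The core of the argument: a nontrivial `p`-group (`p` odd) acting irreducibly on the abelian
group `V` cannot have two generating sets `C`, `D` with `V = C_V(c) C_V(d)` for all `c ∈ C`, `d ∈ D`. -/
theorem core {V : Type*} [Group V] [Finite V] (hV : ∀ a b : V, a * b = b * a) {p : ℕ} [Fact p.Prime]
    (hp : p ≠ 2) (H : Subgroup (MulAut V)) (hH : IsPGroup p H)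
    (hirr : ∀ W : Subgroup V, (∀ h ∈ H, ∀ w ∈ W, h w ∈ W) → W = ⊥ ∨ W = ⊤)
    (C D : Set (MulAut V)) (hCH : C ⊆ H) (hDH : D ⊆ H)
    (hCg : ∀ K : Subgroup (MulAut V), C ⊆ K → H ≤ K) (hDg : ∀ K : Subgroup (MulAut V), D ⊆ K → H ≤ K)
    (rel : ∀ c ∈ C, ∀ d ∈ D, ∀ v : V, ∃ a b : V, c a = a ∧ d b = b ∧ a * b = v) : H = ⊥ := by
  by_contra hne
  have triv : (∀ v : V, v = 1) → False := by
    intro h0
    apply hne
    rw [eq_bot_iff]
    intro h _
    rw [Subgroup.mem_bot]
    ext v
    rw [h0 (h v), h0 ((1 : MulAut V) v)]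
  have F1 : ∀ z ∈ H, (∀ h ∈ H, z * h = h * z) → z ≠ 1 → ∀ v, z v = v → v = 1 := by
    intro z hz hc hz1 v hv
    rcases hirr (fixS z) (by
      intro h hh w hw
      rw [mem_fixS] at hw ⊢
      have := congrArg (fun f : MulAut V => f w) (hc h hh)
      simp only [MulAut.mul_apply] at this
      rw [this, hw]) with h | h
    · have : v ∈ fixS z := hv
      rw [h] at this
      simpa using this
    · exfalso
      apply hz1
      ext x
      have : x ∈ fixS z := by rw [h]; trivial
      exact this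
  have hex : ∀ (S : Set (MulAut V)), (∀ K : Subgroup (MulAut V), S ⊆ K → H ≤ K) →
      ∀ K : Subgroup (MulAut V), ¬ H ≤ K → ∃ s ∈ S, s ∉ K := by
    intro S hS K hK
    by_contra hcon
    push_neg at hcon
    exact hK (hS K hcon)
  by_cases hab : ∀ x ∈ H, ∀ y ∈ H, x * y = y * x
  · obtain ⟨c, hc, hc1⟩ := hex C hCg ⊥ (by
      intro h
      exact hne (le_bot_iff.1 h))
    obtain ⟨d, hd, hd1⟩ := hex D hDg ⊥ (by
      intro h
      exact hne (le_bot_iff.1 h))
    apply triv
    intro v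
    obtain ⟨a, b, ha, hb, rfl⟩ := rel c hc d hd v
    rw [F1 c (hCH hc) (fun h hh => hab _ (hCH hc) _ hh) (by simpa using hc1) a ha,
      F1 d (hDH hd) (fun h hh => hab _ (hDH hd) _ hh) (by simpa using hd1) b hb, one_mul]
  -- nonabelian case: an element of the second centre
  have hnot : Subgroup.center ↥H ≠ ⊤ := by
    intro h
    apply hab
    intro x hx y hy
    have hxc : (⟨x, hx⟩ : ↥H) ∈ Subgroup.center ↥H := by rw [h]; trivial
    have := (Subgroup.mem_center_iff.1 hxc) ⟨y, hy⟩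
    exact (congrArg Subtype.val this).symm
  haveI : Nontrivial (↥H ⧸ Subgroup.center ↥H) := QuotientGroup.nontrivial_iff.2 hnot
  have hQ : IsPGroup p (↥H ⧸ Subgroup.center ↥H) := hH.to_quotient _
  haveI := hQ.center_nontrivial
  obtain ⟨ub, hub⟩ := exists_ne (1 : Subgroup.center (↥H ⧸ Subgroup.center ↥H))
  obtain ⟨u, hu⟩ := QuotientGroup.mk'_surjective (Subgroup.center ↥H) (ub : ↥H ⧸ Subgroup.center ↥H)
  have huc : ∀ c : ↥H, c * u * c⁻¹ * u⁻¹ ∈ Subgroup.center ↥H := by
    intro c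
    rw [← QuotientGroup.eq_one_iff]
    have h2 := Subgroup.mem_center_iff.1 ub.2 (c : ↥H ⧸ Subgroup.center ↥H)
    have h3 : ((u : ↥H) : ↥H ⧸ Subgroup.center ↥H) = ub := hu
    have h4 : ((c * u * c⁻¹ * u⁻¹ : ↥H) : ↥H ⧸ Subgroup.center ↥H) =
        (c : ↥H ⧸ Subgroup.center ↥H) * (u : ↥H ⧸ Subgroup.center ↥H) *
          (c : ↥H ⧸ Subgroup.center ↥H)⁻¹ * (u : ↥H ⧸ Subgroup.center ↥H)⁻¹ := rfl
    rw [h4, h3, h2]
    group
  have hu0 : u ∉ Subgroup.center ↥H := by
    intro h
    apply hub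
    apply Subtype.ext
    rw [← hu]
    exact (QuotientGroup.eq_one_iff u).2 h
  have hnc : ¬ H ≤ Subgroup.centralizer ({(u : MulAut V)} : Set (MulAut V)) := by
    intro h
    apply hu0
    rw [Subgroup.mem_center_iff]
    intro x
    apply Subtype.ext
    have := Subgroup.mem_centralizer_iff.1 (h x.2) (u : MulAut V) (Set.mem_singleton _)
    exact this.symm
  have hcube : ∀ c ∈ C ∪ D, c ∉ Subgroup.centralizer ({(u : MulAut V)} : Set (MulAut V)) →
      Nat.card (fixS c) ^ 3 ≤ Nat.card V := by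
    intro c hc hcu
    have hcH : c ∈ H := by
      rcases hc with hc | hc
      · exact hCH hc
      · exact hDH hc
    set cR : ↥H := ⟨c, hcH⟩ with hcR
    set ωR : ↥H := cR * u * cR⁻¹ * u⁻¹ with hωR
    have hωZ : ωR ∈ Subgroup.center ↥H := huc cR
    have hωcomm : ∀ h ∈ H, (ωR : MulAut V) * h = h * ωR := by
      intro h hh
      have := (Subgroup.mem_center_iff.1 hωZ) ⟨h, hh⟩
      exact (congrArg Subtype.val this).symm
    have hω1 : ωR ≠ 1 := by
      intro h1
      apply hcu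
      rw [Subgroup.mem_centralizer_iff]
      intro y hy
      rw [Set.mem_singleton_iff] at hy
      subst hy
      have h2 : cR * u = u * cR := by
        have : cR * u * cR⁻¹ * u⁻¹ = 1 := h1
        calc cR * u = (cR * u * cR⁻¹ * u⁻¹) * (u * cR) := by group
          _ = u * cR := by rw [this, one_mul]
      exact (congrArg Subtype.val h2).symm
    have hω2 : ωR * ωR ≠ 1 := by
      intro h2
      apply hω1
      obtain ⟨k, hk⟩ := (IsPGroup.iff_orderOf.1 hH) ωR
      have hdvd : orderOf ωR ∣ 2 := orderOf_dvd_of_pow_eq_one (by rw [pow_two]; exact h2)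
      rw [hk] at hdvd
      have hk0 : k = 0 := by
        by_contra hk0
        have hpd : p ∣ 2 := (dvd_pow_self p hk0).trans hdvd
        exact hp ((Nat.prime_dvd_prime_iff_eq Fact.out Nat.prime_two).1 hpd)
      rw [hk0, pow_zero] at hk
      exact orderOf_eq_one_iff.1 hk
    have hcu' : c * (u : MulAut V) = (ωR : MulAut V) * u * c := by
      have : cR * u = ωR * u * cR := by rw [hωR]; group
      exact congrArg Subtype.val this
    refine card_fix_cube hV c u ωR hcu' (hωcomm c hcH) (hωcomm u u.2) ?_ ?_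
    · exact F1 _ ωR.2 hωcomm (by
        intro h
        exact hω1 (Subtype.ext h))
    · intro y hy
      refine F1 ((ωR : MulAut V) * ωR) (mul_mem ωR.2 ωR.2) (fun h hh => ?_) (by
        intro h
        exact hω2 (Subtype.ext h)) y hy
      rw [mul_assoc, hωcomm h hh, ← mul_assoc, hωcomm h hh, mul_assoc]
  obtain ⟨c, hc, hcu⟩ := hex C hCg _ hnc
  obtain ⟨d, hd, hdu⟩ := hex D hDg _ hnc
  have h1 := hcube c (Or.inl hc) hcu
  have h2 := hcube d (Or.inr hd) hdu
  have h3 : Nat.card V ≤ Nat.card (fixS c) * Nat.card (fixS d) := by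
    rw [← Nat.card_prod]
    apply Nat.card_le_card_of_surjective (fun f : fixS c × fixS d => (f.1 : V) * f.2)
    intro v
    obtain ⟨a, b, ha, hb, rfl⟩ := rel c hc d hd v
    exact ⟨(⟨a, ha⟩, ⟨b, hb⟩), rfl⟩
  have hn : 0 < Nat.card V := Nat.card_pos
  have h4 : Nat.card V ^ 3 ≤ Nat.card V ^ 2 := by
    calc Nat.card V ^ 3 ≤ (Nat.card (fixS c) * Nat.card (fixS d)) ^ 3 := Nat.pow_le_pow_left h3 3
      _ = Nat.card (fixS c) ^ 3 * Nat.card (fixS d) ^ 3 := mul_pow _ _ _
      _ ≤ Nat.card V * Nat.card V := Nat.mul_le_mul h1 h2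
      _ = Nat.card V ^ 2 := (pow_two _).symm
  have h5 : Nat.card V ≤ 1 := by
    by_contra hlt
    have : 1 < Nat.card V := not_le.1 hlt
    exact absurd h4 (not_le.2 (Nat.pow_lt_pow_right this (by norm_num)))
  apply triv
  intro v
  have : Subsingleton V := (Finite.card_le_one_iff_subsingleton).1 h5
  exact Subsingleton.elim _ _

end Core

section Main

open Subgroup Cfsg.Agent.Lib.PGroup.WeaklyClosed
open scoped commutatorElement

/-- Action on a section. -/
def secHom {Γ X : Type*} [Group Γ] [Group X] (ρ : Γ →* MulAut X) (L : Subgroup X) [L.Normal]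
    (hL : ∀ g, ∀ l ∈ L, ρ g l ∈ L) : Γ →* MulAut (X ⧸ L) :=
  MonoidHom.mk' (fun g => QuotientGroup.congr L L (ρ g) (by
      apply le_antisymm
      · rintro _ ⟨l, hl, rfl⟩
        exact hL g l hl
      · intro l hl
        refine ⟨ρ g⁻¹ l, hL _ l hl, ?_⟩
        show ρ g (ρ g⁻¹ l) = l
        rw [← MulAut.mul_apply, ← map_mul, mul_inv_cancel, map_one]
        rfl))
    (by
      intro g h
      ext v
      induction v using QuotientGroup.induction_on with
      | H t =>
        show ((ρ (g * h) t : X) : X ⧸ L) = ((ρ g (ρ h t) : X) : X ⧸ L)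
        rw [map_mul, MulAut.mul_apply])

theorem secHom_mk {Γ X : Type*} [Group Γ] [Group X] (ρ : Γ →* MulAut X) (L : Subgroup X) [L.Normal]
    (hL : ∀ g, ∀ l ∈ L, ρ g l ∈ L) (g : Γ) (t : X) :
    secHom ρ L hL g (t : X ⧸ L) = ((ρ g t : X) : X ⧸ L) := rfl

theorem commute_of_conj_mem {G : Type*} [Group G] {N P : Subgroup G} [N.Normal] (hNP : N ⊓ P = ⊥)
    {u e : G} (hu : u ∈ N) (he : e ∈ P) (h : u * e * u⁻¹ ∈ P) : u * e = e * u := by
  have h1 : u * e * u⁻¹ * e⁻¹ ∈ P := P.mul_mem h (P.inv_mem he)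
  have h2 : u * e * u⁻¹ * e⁻¹ ∈ N := by
    have : u * e * u⁻¹ * e⁻¹ = u * (e * u⁻¹ * e⁻¹) := by group
    rw [this]
    exact N.mul_mem hu (‹N.Normal›.conj_mem _ (N.inv_mem hu) e)
  have h3 : u * e * u⁻¹ * e⁻¹ ∈ N ⊓ P := ⟨h2, h1⟩
  rw [hNP, Subgroup.mem_bot] at h3
  calc u * e = (u * e * u⁻¹ * e⁻¹) * (e * u) := by group
    _ = e * u := by rw [h3, one_mul]

theorem rel_of {G : Type*} [Group G] [Finite G] {p : ℕ} [Fact p.Prime] (P : Sylow p G)
    (N : Subgroup G) [N.Normal] (hN : (Nat.card N).Coprime p) (hNP : N ⊓ (P : Subgroup G) = ⊥)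
    (Q : Subgroup G) (hQN : Q ≤ N) (hPQ : (P : Subgroup G) ≤ normalizer (Q : Set G))
    {c d x : G} (hc : c ∈ (P : Subgroup G)) (hd : d ∈ (P : Subgroup G)) (hx : x ∈ Q)
    (hp : IsPGroup p ↥(closure ({x * c * x⁻¹, d} : Set G))) :
    ∃ a ∈ Q, ∃ b ∈ Q, a * d = d * a ∧ b * c = c * b ∧ a * b = x := by
  classical
  set Y : Subgroup G := Q ⊔ (P : Subgroup G) with hY
  have hle : (P : Subgroup G) ≤ Y := le_sup_right
  set R : Subgroup G := closure ({x * c * x⁻¹, d} : Set G) with hR
  have hRY : R ≤ Y := by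
    rw [hR, closure_le]
    rintro y (rfl | rfl)
    · have h1 : x ∈ Y := Subgroup.mem_sup_left hx
      exact Y.mul_mem (Y.mul_mem h1 (hle hc)) (Y.inv_mem h1)
    · exact hle hd
  have hR' : IsPGroup p ↥(R.subgroupOf Y) := hp.comap_subtype
  obtain ⟨S, hS⟩ := hR'.exists_le_sylow
  set A' : Subgroup G := (S : Subgroup ↥Y).map Y.subtype with hA'
  have hcardS : Nat.card A' = Nat.card (P : Subgroup G) := by
    have h1 : Nat.card A' = Nat.card (S : Subgroup ↥Y) :=
      Nat.card_congr (Subgroup.equivMapOfInjective _ Y.subtype Y.subtype_injective).toEquiv.symm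
    have h2 : Nat.card (S : Subgroup ↥Y) = Nat.card ((P.subtype hle : Sylow p ↥Y) : Subgroup ↥Y) := by
      rw [Sylow.card_eq_multiplicity, Sylow.card_eq_multiplicity]
    have h3 : Nat.card ((P.subtype hle : Sylow p ↥Y) : Subgroup ↥Y) = Nat.card (P : Subgroup G) := by
      rw [Sylow.coe_subtype]
      exact Nat.card_congr (Subgroup.subgroupOfEquivOfLe hle).toEquiv
    rw [h1, h2, h3]
  have hQcop : (Nat.card (P : Subgroup G)).Coprime (Nat.card Q) := by
    have h1 : (Nat.card (P : Subgroup G)).Coprime (Nat.card N) := by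
      obtain ⟨k, hk⟩ := IsPGroup.iff_card.1 P.isPGroup'
      rw [hk]
      exact (Nat.Coprime.pow_right k hN).symm
    exact h1.coprime_dvd_right (Subgroup.card_dvd_of_le hQN)
  have hsolv : Group.IsSolvable (P : Subgroup G) ∨ Group.IsSolvable Q := by
    left
    have := P.isPGroup'.isNilpotent
    infer_instance
  have hA'le : A' ≤ Q ⊔ (P : Subgroup G) := by
    rintro _ ⟨y, -, rfl⟩
    exact y.2
  obtain ⟨n, hn, hnA⟩ := Cfsg.Agent.Lib.Coprime.Coset.exists_conj_eq_of_card_eq hPQ hQcop hsolv hA'le hcardS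
  have hRA : R ≤ A' := by
    intro y hy
    have : (⟨y, hRY hy⟩ : ↥Y) ∈ (S : Subgroup ↥Y) := hS (by exact hy)
    exact ⟨_, this, rfl⟩
  have hmem : ∀ y ∈ R, n⁻¹ * y * n ∈ (P : Subgroup G) := by
    intro y hy
    have h1 := hRA hy
    rw [← hnA] at h1
    obtain ⟨z, hz, rfl⟩ := h1
    have : n⁻¹ * (MulAut.conj n).toMonoidHom z * n = z := by simp [mul_assoc]
    rw [this]
    exact hz
  have h1 := hmem (x * c * x⁻¹) (subset_closure (Set.mem_insert _ _))
  have h2 := hmem d (subset_closure (Set.mem_insert_of_mem _ rfl))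
  have hnN : n ∈ N := hQN hn
  have hxN : x ∈ N := hQN hx
  have h3 : n⁻¹ * d = d * n⁻¹ :=
    commute_of_conj_mem hNP (N.inv_mem hnN) hd (by simpa using h2)
  have h4 : (n⁻¹ * x) * c = c * (n⁻¹ * x) :=
    commute_of_conj_mem hNP (N.mul_mem (N.inv_mem hnN) hxN) hc (by
      have : n⁻¹ * x * c * (n⁻¹ * x)⁻¹ = n⁻¹ * (x * c * x⁻¹) * n := by group
      rw [this]
      exact h1)
  refine ⟨n, hn, n⁻¹ * x, Q.mul_mem (Q.inv_mem hn) hx, ?_, h4, by group⟩
  calc n * d = n * (d * n⁻¹) * n := by group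
    _ = n * (n⁻¹ * d) * n := by rw [h3]
    _ = d * n := by group

theorem centralizes_q {G : Type*} [Group G] [Finite G] {p : ℕ} [Fact p.Prime] (hp2 : p ≠ 2)
    (P : Sylow p G) (N : Subgroup G) [N.Normal] (hN : (Nat.card N).Coprime p)
    (hNP : N ⊓ (P : Subgroup G) = ⊥)
    (C D : Set G) (hC : closure C = (P : Subgroup G)) (hD : closure D = (P : Subgroup G))
    (h : ∀ x ∈ N, ∀ c ∈ C, ∀ d ∈ D, IsPGroup p ↥(closure ({x * c * x⁻¹, d} : Set G)))
    {q : ℕ} [Fact q.Prime] (hqp : q ≠ p) (Q : Subgroup G) (hQ : IsPGroup q Q) (hQN : Q ≤ N)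
    (hPQ : (P : Subgroup G) ≤ normalizer (Q : Set G)) :
    (P : Subgroup G) ≤ centralizer (Q : Set G) := by
  classical
  by_contra hnc
  have hPp : IsPGroup p (P : Subgroup G) := P.isPGroup'
  have hPq : (Nat.card (P : Subgroup G)).Coprime q := by
    obtain ⟨k, hk⟩ := IsPGroup.iff_card.1 hPp
    rw [hk]
    exact Nat.Coprime.pow_left k ((Nat.coprime_primes Fact.out Fact.out).2 hqp.symm)
  have hPQc : (Nat.card (P : Subgroup G)).Coprime (Nat.card Q) := by
    obtain ⟨k, hk⟩ := IsPGroup.iff_card.1 hQ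
    rw [hk]
    exact Nat.Coprime.pow_right k hPq
  have hsolv : Group.IsSolvable (P : Subgroup G) ∨ Group.IsSolvable Q := by
    left
    have := hPp.isNilpotent
    infer_instance
  set Φ : Subgroup G := (frattini ↥Q).map Q.subtype with hΦ
  have hΦQ : Φ ≤ Q := by
    rintro _ ⟨x, _, rfl⟩
    exact x.2
  have hNΦ : normalizer (Q : Set G) ≤ normalizer (Φ : Set G) := fun b hb =>
    Cfsg.Agent.Lib.Coprime.FrattiniAct.map_char_mem_normalizer _ inferInstance hb
  set Z : Subgroup G := Q ⊓ centralizer ((P : Subgroup G) : Set G) with hZ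
  have hZQ : Z ≤ Q := inf_le_left
  have hPZ : (P : Subgroup G) ≤ normalizer (Z : Set G) := by
    intro a ha
    rw [mem_normalizer_iff]
    intro x
    have hcomm : ∀ y ∈ Z, a * y * a⁻¹ = y := by
      intro y hy
      have := mem_centralizer_iff.1 hy.2 a ha
      rw [this]
      group
    constructor
    · intro hx
      rw [hcomm x hx]
      exact hx
    · intro hx
      have h1 := hcomm _ hx
      have h2 : x = a * x * a⁻¹ := by
        have := congrArg (fun w => a⁻¹ * w * a) h1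
        simpa [mul_assoc] using this.symm
      rw [h2]
      exact hx
  set T : Subgroup G := Φ ⊔ Z with hT
  have hTQ : T ≤ Q := sup_le hΦQ hZQ
  have hPT : (P : Subgroup G) ≤ normalizer (T : Set G) := by
    intro a ha
    rw [← cj_eq_self_iff, hT, cj, Subgroup.map_sup]
    have h1 := cj_eq_self_iff.2 (hNΦ (hPQ ha))
    have h2 := cj_eq_self_iff.2 (hPZ ha)
    unfold cj at h1 h2
    rw [h1, h2]
  have hZΦ : Z ≤ normalizer (Φ : Set G) := fun x hx => hNΦ (Subgroup.le_normalizer (hZQ hx))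
  have hTne : T ≠ Q := by
    intro hTe
    apply hnc
    apply Cfsg.Agent.Lib.Coprime.FrattiniAct.le_centralizer_of_frattini hQ hPQ hPq
    intro t ht a ha
    rw [← hTe, hT] at ht
    obtain ⟨f, hf, z, hz, rfl⟩ :=
      (Cfsg.Agent.Lib.Coprime.Coset.mem_sup_iff_of_le_normalizer hZΦ t).1 ht
    have h1 : a * z * a⁻¹ = z := by
      have := mem_centralizer_iff.1 hz.2 a ha
      rw [this]
      group
    have h2 : a * f * a⁻¹ ∈ Φ := (mem_normalizer_iff.1 (hNΦ (hPQ ha)) f).1 hf
    have h3 : (f * z)⁻¹ * (a * (f * z) * a⁻¹) = z⁻¹ * (f⁻¹ * (a * f * a⁻¹)) * z := by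
      have : a * (f * z) * a⁻¹ = (a * f * a⁻¹) * (a * z * a⁻¹) := by group
      rw [this, h1]
      group
    rw [h3]
    have h4 := (mem_normalizer_iff.1 (hZΦ (Z.inv_mem hz)) (f⁻¹ * (a * f * a⁻¹))).1
      (Φ.mul_mem (Φ.inv_mem hf) h2)
    rw [inv_inv] at h4
    exact h4
  -- a maximal invariant subgroup
  have hfin : {L : Subgroup G | L ≤ Q ∧ L ≠ Q ∧ (P : Subgroup G) ≤ normalizer (L : Set G)}.Finite :=
    Set.toFinite _
  obtain ⟨L, hTL, hLmax⟩ := hfin.exists_le_maximal (a := T) ⟨hTQ, hTne, hPT⟩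
  obtain ⟨hLQ, hLne, hPL⟩ := hLmax.1
  have hΦL : Φ ≤ L := le_sup_left.trans hTL
  have hZL : Z ≤ L := le_sup_right.trans hTL
  -- the section
  have hQp : IsPGroup q ↥Q := hQ
  have hcommΦ : ∀ s t : ↥Q, ((⁅s, t⁆ : ↥Q) : G) ∈ L := by
    intro s t
    apply hΦL
    exact ⟨_, Cfsg.Agent.Lib.PGroup.Basic.commutatorElement_mem_frattini hQp s t, rfl⟩
  set L' : Subgroup ↥Q := L.subgroupOf Q with hL'
  haveI hL'n : L'.Normal := by
    refine ⟨fun l hl t => ?_⟩
    rw [hL', Subgroup.mem_subgroupOf] at hl ⊢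
    have h1 := L.mul_mem (hcommΦ t l) hl
    have : ((t * l * t⁻¹ : ↥Q) : G) = ((⁅t, l⁆ : ↥Q) : G) * (l : G) := by
      rw [commutatorElement_def]
      push_cast
      group
    rw [this]
    exact h1
  have hVcomm : ∀ a b : (↥Q ⧸ L'), a * b = b * a := by
    intro a b
    induction a using QuotientGroup.induction_on with
    | H s =>
      induction b using QuotientGroup.induction_on with
      | H t =>
        rw [← QuotientGroup.mk_mul, ← QuotientGroup.mk_mul, QuotientGroup.eq]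
        rw [hL', Subgroup.mem_subgroupOf]
        have h1 := hcommΦ t⁻¹ s⁻¹
        have : (((s * t)⁻¹ * (t * s) : ↥Q) : G) = ((⁅t⁻¹, s⁻¹⁆ : ↥Q) : G) := by
          rw [commutatorElement_def]
          push_cast
          group
        rw [this]
        exact h1
  let ρ : ↥(P : Subgroup G) →* MulAut ↥Q :=
    Q.normalizerMonoidHom.comp (Subgroup.inclusion hPQ)
  have hρ : ∀ (a : ↥(P : Subgroup G)) (t : ↥Q), ((ρ a t : ↥Q) : G) = (a : G) * t * (a : G)⁻¹ := by
    intro a t
    rfl
  have hρL : ∀ g, ∀ l ∈ L', ρ g l ∈ L' := by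
    intro g l hl
    rw [hL', Subgroup.mem_subgroupOf] at hl ⊢
    rw [hρ]
    exact (mem_normalizer_iff.1 (hPL g.2) _).1 hl
  let φ := secHom ρ L' hρL
  have hφ : ∀ (a : ↥(P : Subgroup G)) (t : ↥Q), φ a (t : ↥Q ⧸ L') = ((ρ a t : ↥Q) : ↥Q ⧸ L') := fun a t => rfl
  let C' : Set (MulAut (↥Q ⧸ L')) := φ '' {x | (x : G) ∈ C}
  let D' : Set (MulAut (↥Q ⧸ L')) := φ '' {x | (x : G) ∈ D}
  have hgen : ∀ S : Set G, closure S = (P : Subgroup G) → ∀ K : Subgroup (MulAut (↥Q ⧸ L')),
      φ '' {x | (x : G) ∈ S} ⊆ K → φ.range ≤ K := by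
    intro S hS K hK
    have hSP : ∀ s ∈ S, s ∈ (P : Subgroup G) := fun s hs => hS ▸ subset_closure hs
    have h1 : closure S ≤ (K.comap φ).map (P : Subgroup G).subtype := by
      rw [closure_le]
      intro s hs
      exact ⟨⟨s, hSP s hs⟩, hK ⟨_, hs, rfl⟩, rfl⟩
    rintro _ ⟨x, rfl⟩
    have h2 : (x : G) ∈ closure S := by rw [hS]; exact x.2
    obtain ⟨y, hy, hyx⟩ := h1 h2
    have : y = x := Subtype.ext hyx
    rw [← this]
    exact hy
  have hcore := core hVcomm (p := p) hp2 φ.range (hPp.of_surjective φ.rangeRestrict φ.rangeRestrict_surjective) (by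
      intro W hW
      -- irreducibility
      set M : Subgroup G := (W.comap (QuotientGroup.mk' L')).map Q.subtype with hM
      have hMQ : M ≤ Q := by
        rintro _ ⟨x, -, rfl⟩
        exact x.2
      have hLM : L ≤ M := by
        intro l hl
        refine ⟨⟨l, hLQ hl⟩, ?_, rfl⟩
        have : ((⟨l, hLQ hl⟩ : ↥Q) : ↥Q ⧸ L') = 1 := (QuotientGroup.eq_one_iff _).2 (by
          rw [hL', Subgroup.mem_subgroupOf]
          exact hl)
        show ((⟨l, hLQ hl⟩ : ↥Q) : ↥Q ⧸ L') ∈ W
        rw [this]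
        exact W.one_mem
      have hPM : (P : Subgroup G) ≤ normalizer (M : Set G) := by
        apply le_normalizer_of_conj_mem
        intro a ha x hx
        obtain ⟨t, ht, rfl⟩ := hx
        refine ⟨ρ ⟨a, ha⟩ t, ?_, rfl⟩
        show ((ρ ⟨a, ha⟩ t : ↥Q) : ↥Q ⧸ L') ∈ W
        rw [← hφ]
        exact hW _ ⟨_, rfl⟩ _ ht
      by_cases hMe : M = Q
      · right
        rw [eq_top_iff]
        intro v _
        induction v using QuotientGroup.induction_on with
        | H t =>
          have h1 : (t : G) ∈ M := by rw [hMe]; exact t.2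
          obtain ⟨t', ht', hte⟩ := h1
          have : t' = t := Subtype.ext hte
          rw [← this]
          exact ht'
      · left
        have h1 : M = L := le_antisymm (hLmax.2 ⟨hMQ, hMe, hPM⟩ hLM) hLM
        rw [eq_bot_iff]
        intro v hv
        induction v using QuotientGroup.induction_on with
        | H t =>
          have h2 : (t : G) ∈ M := ⟨t, hv, rfl⟩
          rw [h1] at h2
          rw [Subgroup.mem_bot, QuotientGroup.eq_one_iff, hL', Subgroup.mem_subgroupOf]
          exact h2)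
    C' D' (by
      rintro _ ⟨x, -, rfl⟩
      exact ⟨x, rfl⟩) (by
      rintro _ ⟨x, -, rfl⟩
      exact ⟨x, rfl⟩) (hgen C hC) (hgen D hD) (by
      rintro _ ⟨x, hx, rfl⟩ _ ⟨y, hy, rfl⟩ v
      induction v using QuotientGroup.induction_on with
      | H t =>
        have hhyp := h t (hQN t.2) x hx y hy
        obtain ⟨a, ha, b, hb, hay, hbx, hab⟩ := rel_of P N hN hNP Q hQN hPQ x.2 y.2 t.2 hhyp
        refine ⟨((⟨b, hb⟩ : ↥Q) : ↥Q ⧸ L'), ((⟨a, ha⟩ : ↥Q) : ↥Q ⧸ L'), ?_, ?_, ?_⟩
        · rw [hφ]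
          congr 1
          apply Subtype.ext
          rw [hρ]
          show (x : G) * b * (x : G)⁻¹ = b
          rw [← hbx]
          group
        · rw [hφ]
          congr 1
          apply Subtype.ext
          rw [hρ]
          show (y : G) * a * (y : G)⁻¹ = a
          rw [← hay]
          group
        · rw [hVcomm]
          rw [← QuotientGroup.mk_mul]
          congr 1
          exact Subtype.ext hab)
  -- the action is trivial; contradiction
  apply hLne
  apply le_antisymm hLQ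
  intro t ht
  have hall : ∀ a ∈ (P : Subgroup G), t⁻¹ * (a * t * a⁻¹) ∈ L := by
    intro a ha
    have h1 : φ ⟨a, ha⟩ ∈ φ.range := ⟨_, rfl⟩
    rw [hcore, Subgroup.mem_bot] at h1
    have h2 := congrArg (fun f : MulAut (↥Q ⧸ L') => f ((⟨t, ht⟩ : ↥Q) : ↥Q ⧸ L')) h1
    simp only [MulAut.one_apply] at h2
    rw [hφ] at h2
    have h3 := (QuotientGroup.eq.1 h2.symm)
    rw [hL', Subgroup.mem_subgroupOf] at h3
    exact h3
  obtain ⟨c, hc1, hc2⟩ := Cfsg.Agent.Lib.Coprime.Coset.exists_centralizer_mem_coset hPQ hPQc hsolv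
    hLQ hPL t ht hall
  have hcL : c ∈ L := hZL (by
    refine ⟨hc1.1, ?_⟩
    exact hc1.2)
  have : t = c * (t⁻¹ * c)⁻¹ := by group
  rw [this]
  exact L.mul_mem hcL (L.inv_mem hc2)

end Main

/-- Let p ≥ 3 be prime and G a finite group with a Sylow p-subgroup P and a normal p-complement N (N normal, of order prime to p, with NP = G). Suppose P is generated by a subset C and also by a subset D, and that ⟨x c x⁻¹, d⟩ is a p-group for all x ∈ N, c ∈ C, d ∈ D. Then P centralizes N, so that G = N × P. -/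
theorem result {G : Type*} [Group G] [Finite G] (p : ℕ) [Fact p.Prime] (hp3 : 3 ≤ p) (P : Sylow p G)
    (N : Subgroup G) [N.Normal] (hN : (Nat.card N).Coprime p) (hNP : N ⊔ (P : Subgroup G) = ⊤)
    (C D : Set G) (hC : Subgroup.closure C = (P : Subgroup G)) (hD : Subgroup.closure D = (P : Subgroup G))
    (h : ∀ x ∈ N, ∀ c ∈ C, ∀ d ∈ D, IsPGroup p ↥(Subgroup.closure ({x * c * x⁻¹, d} : Set G))) :
    ⁅(P : Subgroup G), N⁆ = ⊥ := by
  classical
  have hp2 : p ≠ 2 := by
    rintro rfl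
    omega
  have hPp : IsPGroup p (P : Subgroup G) := P.isPGroup'
  have hcop : (Nat.card (P : Subgroup G)).Coprime (Nat.card N) := by
    obtain ⟨k, hk⟩ := IsPGroup.iff_card.1 hPp
    rw [hk]
    exact (Nat.Coprime.pow_right k hN).symm
  have hNP' : N ⊓ (P : Subgroup G) = ⊥ :=
    Cfsg.Agent.Lib.Coprime.Coset.inf_eq_bot_of_coprime hcop.symm
  have hsolv : Group.IsSolvable (P : Subgroup G) ∨ Group.IsSolvable N := by
    left
    have := hPp.isNilpotent
    infer_instance
  have hPN : (P : Subgroup G) ≤ Subgroup.normalizer (N : Set G) := by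
    rw [Subgroup.normalizer_eq_top]
    exact le_top
  set W : Subgroup G := N ⊓ Subgroup.centralizer ((P : Subgroup G) : Set G) with hW
  have hSyl : ∀ q : ℕ, q.Prime → q ≠ p → ∃ Q : Sylow q N, (Q : Subgroup N) ≤ W.subgroupOf N := by
    intro q hq hqp
    haveI : Fact q.Prime := ⟨hq⟩
    obtain ⟨Q, hQ⟩ := Cfsg.Agent.Lib.Coprime.InvSylow.exists_invariant_sylow hPN hcop hsolv q
    refine ⟨Q, ?_⟩
    have hle : (Q : Subgroup N).map N.subtype ≤ N := Subgroup.map_subtype_le _
    have hc := centralizes_q hp2 P N hN hNP' C D hC hD h hqp _ (Q.isPGroup'.map N.subtype) hle hQ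
    intro x hx
    rw [Subgroup.mem_subgroupOf]
    refine Subgroup.mem_inf.2 ⟨x.2, ?_⟩
    rw [Subgroup.mem_centralizer_iff]
    intro a ha
    exact (Subgroup.mem_centralizer_iff.1 (hc ha) (x : G) ⟨x, hx, rfl⟩).symm
  have htop : W.subgroupOf N = ⊤ := by
    by_contra hne
    have hidx : (W.subgroupOf N).index ≠ 1 := by
      rw [Ne, Subgroup.index_eq_one]
      exact hne
    obtain ⟨q, hq, hqd⟩ := Nat.exists_prime_and_dvd hidx
    have hqN : q ∣ Nat.card N := hqd.trans (Subgroup.index_dvd_card _)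
    have hqp : q ≠ p := by
      rintro rfl
      exact hq.one_lt.ne' (Nat.eq_one_of_dvd_coprimes hN.symm (dvd_refl _) hqN)
    obtain ⟨Q, hQ⟩ := hSyl q hq hqp
    haveI : Fact q.Prime := ⟨hq⟩
    have h1 := Subgroup.relIndex_mul_index hQ
    exact Q.not_dvd_index (h1 ▸ Dvd.dvd.mul_left hqd _)
  rw [Subgroup.commutator_eq_bot_iff_le_centralizer]
  intro a ha
  rw [Subgroup.mem_centralizer_iff]
  intro x hx
  have : (⟨x, hx⟩ : N) ∈ W.subgroupOf N := by
    rw [htop]
    trivial
  rw [Subgroup.mem_subgroupOf] at this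
  exact (Subgroup.mem_centralizer_iff.1 this.2 a ha).symm

end Cfsg.Agent.S2277
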