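import Cfsg.Statements.S2290
import Cfsg.Agent.Lib.PresSL.ThreeGlue
import Cfsg.Agent.Lib.PresSL.Final
import Cfsg.Agent.Lib.Presentations.Tietze
import Cfsg.Agent.S2278
import Cfsg.Agent.S2279
import Cfsg.Agent.S2288
-- import your own Cfsg.Agent.* helpers here

set_option autoImplicit false
open Cfsg

namespace Cfsg.Agent.S2290

open Cfsg.Agent.Lib.Presentations.Tietze

/-- A generating pair of `SL_n` maps to a generating pair of `PSL_n`. -/
private theorem pair_psl {F : Type*} [Field F] [Fintype F] {n : ℕ}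
    {u v : Matrix.SpecialLinearGroup (Fin n) F} (h : Subgroup.closure ({u, v} : Set _) = ⊤) :
    Subgroup.closure ({(QuotientGroup.mk' (Subgroup.center (Matrix.SpecialLinearGroup (Fin n) F))) u,
      (QuotientGroup.mk' (Subgroup.center (Matrix.SpecialLinearGroup (Fin n) F))) v} :
      Set (Matrix.ProjectiveSpecialLinearGroup (Fin n) F)) = ⊤ := by
  have h1 := MonoidHom.map_closure
    (QuotientGroup.mk' (Subgroup.center (Matrix.SpecialLinearGroup (Fin n) F))) ({u, v} : Set _)
  rw [h, Set.image_pair] at h1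
  rw [← h1]
  exact Subgroup.map_top_of_surjective _ (QuotientGroup.mk'_surjective _)

/-- For every finite field F with q elements and n ≥ 2, with q ≥ 4 when n = 2, the simple group PSL_n(F) has a presentation with 2 generators and at most 80 relations. -/
theorem result {F : Type*} [Field F] [Fintype F] (n : ℕ) (hn : 2 ≤ n) (h2 : n = 2 → 4 ≤ Fintype.card F) :
    ∃ rels : Finset (FreeGroup (Fin 2)), rels.card ≤ 80 ∧ Nonempty (PresentedGroup (↑rels : Set (FreeGroup (Fin 2))) ≃* Matrix.ProjectiveSpecialLinearGroup (Fin n) F) := by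
  classical
  have final : ∀ {m : ℕ} (r : Finset (FreeGroup (Fin m))) (_ : r.card ≤ 78)
      (_ : Nonempty (PresentedGroup (↑r : Set (FreeGroup (Fin m))) ≃*
        Matrix.ProjectiveSpecialLinearGroup (Fin n) F))
      (u v : Matrix.SpecialLinearGroup (Fin n) F) (_ : Subgroup.closure ({u, v} : Set _) = ⊤),
      ∃ rels : Finset (FreeGroup (Fin 2)), rels.card ≤ 80 ∧
        Nonempty (PresentedGroup (↑rels : Set (FreeGroup (Fin 2))) ≃*
          Matrix.ProjectiveSpecialLinearGroup (Fin n) F) := by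
    intro m r hr hE u v huv
    obtain ⟨E⟩ := hE
    obtain ⟨r', hr', E', -, -⟩ := tietze_pair E _ _ (pair_psl huv)
    exact ⟨r', by omega, ⟨E'⟩⟩
  by_cases h4 : 4 ≤ n
  · obtain ⟨-, ⟨r, hr, hE⟩, -, -⟩ := Cfsg.Agent.S2288.result (F := F) n h4
    obtain ⟨⟨u, v, -, -, huv⟩, -⟩ := Cfsg.Agent.S2279.result (F := F) n h4
    exact final r (by omega) hE u v huv
  · obtain rfl | rfl : n = 2 ∨ n = 3 := by omega
    · obtain ⟨-, ⟨r, hr, hE⟩, -⟩ := Cfsg.Agent.S2286.result (F := F)
      obtain ⟨u, v, huv⟩ := Cfsg.Agent.Lib.PresSL.SL2Data.exists_pair (F := F)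
      exact final r (by omega) hE u v huv
    · obtain ⟨r, hr, ⟨E⟩⟩ := Cfsg.Agent.Lib.PresSL.Three.sl_three (F := F)
      obtain ⟨r', hr', hE⟩ := Cfsg.Agent.Lib.PresSL.Final.psl_of_sl E
      obtain ⟨u, g, -, -, huv⟩ := Cfsg.Agent.S2278.result (F := F)
      exact final r' (by omega) hE u (g * u * g⁻¹) huv

end Cfsg.Agent.S2290
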