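import Cfsg.Statements.S2296
import Cfsg.Agent.Lib.PresSp.Links
import Cfsg.Agent.Lib.PresSL.Final
import Cfsg.Agent.Lib.PresSL.ThreeFinal
import Cfsg.Agent.S2286

set_option autoImplicit false
open Cfsg

namespace Cfsg.Agent.S2296

open Cfsg.Agent.Lib.PresSp.Links Cfsg.Agent.Lib.PresSL

variable {F : Type*} [Field F] [Fintype F]

/-- At least six coordinates. -/
theorem sp_ge6 (n : ℕ) (hn : 6 ≤ n) : ∃ rels : Finset (FreeGroup (Fin 9)), rels.card ≤ 48 ∧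
    Nonempty (PresentedGroup (↑rels : Set (FreeGroup (Fin 9))) ≃* Matrix.symplecticGroup (Fin n) F) := by
  obtain ⟨m, rfl⟩ : ∃ m, n = m + 2 := ⟨n - 2, by omega⟩
  obtain ⟨rA, hrA, ⟨EA⟩⟩ := Final.sl_ge6 (F := F) (m + 2) hn
  obtain ⟨⟨rS, hrS, ⟨ES⟩⟩, -, -⟩ := Cfsg.Agent.S2286.result (F := F)
  obtain ⟨rels, hr, hE⟩ := main_sp EA ES
  exact ⟨rels, by omega, hE⟩

/-- Five coordinates. -/
theorem sp_five : ∃ rels : Finset (FreeGroup (Fin 8)), rels.card ≤ 45 ∧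
    Nonempty (PresentedGroup (↑rels : Set (FreeGroup (Fin 8))) ≃* Matrix.symplecticGroup (Fin 5) F) := by
  obtain ⟨rA, hrA, ⟨EA⟩⟩ := Final.sl_five (F := F)
  obtain ⟨⟨rS, hrS, ⟨ES⟩⟩, -, -⟩ := Cfsg.Agent.S2286.result (F := F)
  obtain ⟨rels, hr, hE⟩ := main_sp (m := 3) EA ES
  exact ⟨rels, by omega, hE⟩

/-- Four coordinates. -/
theorem sp_four : ∃ rels : Finset (FreeGroup (Fin 8)), rels.card ≤ 44 ∧
    Nonempty (PresentedGroup (↑rels : Set (FreeGroup (Fin 8))) ≃* Matrix.symplecticGroup (Fin 4) F) := by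
  obtain ⟨rA, hrA, ⟨EA⟩⟩ := Final.sl_four (F := F)
  obtain ⟨⟨rS, hrS, ⟨ES⟩⟩, -, -⟩ := Cfsg.Agent.S2286.result (F := F)
  obtain ⟨rels, hr, hE⟩ := main_sp (m := 2) EA ES
  exact ⟨rels, by omega, hE⟩

/-- Three coordinates. -/
theorem sp_three : ∃ rels : Finset (FreeGroup (Fin 8)), rels.card ≤ 52 ∧
    Nonempty (PresentedGroup (↑rels : Set (FreeGroup (Fin 8))) ≃* Matrix.symplecticGroup (Fin 3) F) := by
  by_cases h9 : Fintype.card F = 9
  · obtain ⟨rA, hrA, ⟨EA⟩⟩ := Three.sl_three (F := F)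
    obtain ⟨rS, hrS, ⟨ES⟩⟩ := SL2Data.nine_main (F := F) h9
    obtain ⟨rels, hr, hE⟩ := main_sp (m := 1) EA ES
    exact ⟨rels, by omega, hE⟩
  · obtain ⟨rA, hrA, ⟨EA⟩⟩ := Three.sl_three_tight (F := F) h9
    obtain ⟨⟨rS, hrS, ⟨ES⟩⟩, -, -⟩ := Cfsg.Agent.S2286.result (F := F)
    obtain ⟨rels, hr, ⟨E⟩⟩ := main_sp (m := 1) EA ES
    obtain ⟨rels', hr', hE'⟩ := Glue.pad E
    exact ⟨rels', by omega, hE'⟩

/-- Ten generators from at most nine. -/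
theorem sp_ten (n : ℕ) (hn : 4 ≤ n) : ∃ rels : Finset (FreeGroup (Fin 10)), rels.card ≤ 58 ∧
    Nonempty (PresentedGroup (↑rels : Set (FreeGroup (Fin 10))) ≃* Matrix.symplecticGroup (Fin n) F) := by
  by_cases h6 : 6 ≤ n
  · obtain ⟨rels, hr, ⟨E⟩⟩ := sp_ge6 (F := F) n h6
    obtain ⟨rels', hr', hE'⟩ := Glue.pad E
    exact ⟨rels', by omega, hE'⟩
  · have h45 : n = 4 ∨ n = 5 := by omega
    rcases h45 with rfl | rfl
    · obtain ⟨rels, hr, ⟨E⟩⟩ := sp_four (F := F)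
      obtain ⟨rels', hr', ⟨E'⟩⟩ := Glue.pad E
      obtain ⟨rels'', hr'', hE''⟩ := Glue.pad E'
      exact ⟨rels'', by omega, hE''⟩
    · obtain ⟨rels, hr, ⟨E⟩⟩ := sp_five (F := F)
      obtain ⟨rels', hr', ⟨E'⟩⟩ := Glue.pad E
      obtain ⟨rels'', hr'', hE''⟩ := Glue.pad E'
      exact ⟨rels'', by omega, hE''⟩

/-- Nine generators from eight. -/
theorem sp_nine (n : ℕ) (hn : n = 4 ∨ n = 5) : ∃ rels : Finset (FreeGroup (Fin 9)), rels.card ≤ 57 ∧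
    Nonempty (PresentedGroup (↑rels : Set (FreeGroup (Fin 9))) ≃* Matrix.symplecticGroup (Fin n) F) := by
  rcases hn with rfl | rfl
  · obtain ⟨rels, hr, ⟨E⟩⟩ := sp_four (F := F)
    obtain ⟨rels', hr', hE'⟩ := Glue.pad E
    exact ⟨rels', by omega, hE'⟩
  · obtain ⟨rels, hr, ⟨E⟩⟩ := sp_five (F := F)
    obtain ⟨rels', hr', hE'⟩ := Glue.pad E
    exact ⟨rels', by omega, hE'⟩

/-- Let F be a finite field. Sp_2n(F) has a presentation with 10 generators and at most 58 relations for n ≥ 4, with 9 generators and at most 57 relations for n = 4 or 5, and with 8 generators and at most 52 relations for n = 3; in each case PSp_2n(F) has a presentation with the same number of generators and at most one more relation. -/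
theorem result {F : Type*} [Field F] [Fintype F] (n : ℕ) :
    (4 ≤ n → (∃ rels : Finset (FreeGroup (Fin 10)), rels.card ≤ 58 ∧ Nonempty (PresentedGroup (↑rels : Set (FreeGroup (Fin 10))) ≃* Matrix.symplecticGroup (Fin n) F)) ∧ (∃ rels : Finset (FreeGroup (Fin 10)), rels.card ≤ 59 ∧ Nonempty (PresentedGroup (↑rels : Set (FreeGroup (Fin 10))) ≃* Cfsg.PSp n F))) ∧
    ((n = 4 ∨ n = 5) → (∃ rels : Finset (FreeGroup (Fin 9)), rels.card ≤ 57 ∧ Nonempty (PresentedGroup (↑rels : Set (FreeGroup (Fin 9))) ≃* Matrix.symplecticGroup (Fin n) F)) ∧ (∃ rels : Finset (FreeGroup (Fin 9)), rels.card ≤ 58 ∧ Nonempty (PresentedGroup (↑rels : Set (FreeGroup (Fin 9))) ≃* Cfsg.PSp n F))) ∧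
    (n = 3 → (∃ rels : Finset (FreeGroup (Fin 8)), rels.card ≤ 52 ∧ Nonempty (PresentedGroup (↑rels : Set (FreeGroup (Fin 8))) ≃* Matrix.symplecticGroup (Fin n) F)) ∧ (∃ rels : Finset (FreeGroup (Fin 8)), rels.card ≤ 53 ∧ Nonempty (PresentedGroup (↑rels : Set (FreeGroup (Fin 8))) ≃* Cfsg.PSp n F))) := by
  refine ⟨fun hn => ?_, fun hn => ?_, fun hn => ?_⟩
  · obtain ⟨rels, hr, ⟨E⟩⟩ := sp_ten (F := F) n hn
    refine ⟨⟨rels, hr, ⟨E⟩⟩, ?_⟩
    obtain ⟨rels', hr', hE'⟩ := psp_of_sp (by omega) E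
    exact ⟨rels', by omega, hE'⟩
  · obtain ⟨rels, hr, ⟨E⟩⟩ := sp_nine (F := F) n hn
    refine ⟨⟨rels, hr, ⟨E⟩⟩, ?_⟩
    obtain ⟨rels', hr', hE'⟩ := psp_of_sp (by omega) E
    exact ⟨rels', by omega, hE'⟩
  · subst hn
    obtain ⟨rels, hr, ⟨E⟩⟩ := sp_three (F := F)
    refine ⟨⟨rels, hr, ⟨E⟩⟩, ?_⟩
    obtain ⟨rels', hr', hE'⟩ := psp_of_sp (by omega) E
    exact ⟨rels', by omega, hE'⟩

end Cfsg.Agent.S2296
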