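import Cfsg.Statements.S2292
import Cfsg.Agent.Lib.PresSp.Gen2C
import Cfsg.Agent.Lib.Presentations.Tietze
import Cfsg.Agent.S2293
import Cfsg.Agent.S2296

set_option autoImplicit false
open Cfsg

namespace Cfsg.Agent.S2292

open Cfsg.Agent.Lib.Presentations.Tietze

/-- Let F be a finite field with q elements and m ≥ 2 with (m, q) ≠ (2, 2). Then the simple group PSp_2m(F) has a presentation with 2 generators and at most 80 relations. -/
theorem result {F : Type*} [Field F] [Fintype F] (m : ℕ) (hm : 2 ≤ m) (h22 : ¬ (m = 2 ∧ Fintype.card F = 2)) :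
    ∃ rels : Finset (FreeGroup (Fin 2)), rels.card ≤ 80 ∧ Nonempty (PresentedGroup (↑rels : Set (FreeGroup (Fin 2))) ≃* Cfsg.PSp m F) := by
  classical
  obtain ⟨a, b, hab⟩ := Cfsg.Agent.Lib.PresSp.psp_two_gen (F := F) m hm h22
  have final : ∀ {r : ℕ} (rl : Finset (FreeGroup (Fin r))) (_ : rl.card ≤ 78)
      (_ : Nonempty (PresentedGroup (↑rl : Set (FreeGroup (Fin r))) ≃* Cfsg.PSp m F)),
      ∃ rels : Finset (FreeGroup (Fin 2)), rels.card ≤ 80 ∧
        Nonempty (PresentedGroup (↑rels : Set (FreeGroup (Fin 2))) ≃* Cfsg.PSp m F) := by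
    intro r rl hr hE
    obtain ⟨E⟩ := hE
    obtain ⟨r', hr', E', -, -⟩ := tietze_pair E a b hab
    exact ⟨r', by omega, ⟨E'⟩⟩
  by_cases h4 : 4 ≤ m
  · obtain ⟨-, rl, hr, hE⟩ := (Cfsg.Agent.S2296.result (F := F) m).1 h4
    exact final rl (by omega) hE
  · obtain rfl | rfl : m = 2 ∨ m = 3 := by omega
    · obtain ⟨-, rl, hr, hE⟩ := Cfsg.Agent.S2293.result (F := F)
      exact final rl (by omega) hE
    · obtain ⟨-, rl, hr, hE⟩ := (Cfsg.Agent.S2296.result (F := F) 3).2.2 rfl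
      exact final rl (by omega) hE

end Cfsg.Agent.S2292
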