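import Cfsg.Statements.S2295
import Mathlib
import Cfsg.Agent.Lib.PresOm.OmLinks

set_option autoImplicit false
open Cfsg

namespace Cfsg.Agent.S2295

open Cfsg.Agent.Lib.PresOm.OmLinks Cfsg.Agent.Lib.PresSL

variable {F : Type*} [Field F] [Fintype F]

/-- From `Ω` to `PΩ`. -/
theorem pom_of_om {n r : ℕ} (hn : 4 ≤ n) {rels : Finset (FreeGroup (Fin r))}
    (E : PresentedGroup (↑rels : Set (FreeGroup (Fin r))) ≃* ↥(Cfsg.Omega F (Cfsg.quadFormPlus n F))) :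
    ∃ rels' : Finset (FreeGroup (Fin r)), rels'.card ≤ rels.card + 1 ∧
      Nonempty (PresentedGroup (↑rels' : Set (FreeGroup (Fin r))) ≃* Cfsg.POmega F (Cfsg.quadFormPlus n F)) := by
  have hnd := Cfsg.Agent.Lib.Classical.Orth.Models.plusForm_nondegenerate (F := F) n
  have hcard : 5 ≤ Fintype.card (Fin n ⊕ Fin n) := by
    rw [Fintype.card_sum, Fintype.card_fin]
    omega
  have key := Cfsg.Agent.Lib.PresOm.OmCard.center_cyclic hnd hcard
  rw [Cfsg.Agent.Lib.Classical.Orth.Models.coe_plusForm] at key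
  obtain ⟨z, hz⟩ := key
  refine Glue.quot E (QuotientGroup.mk' (Subgroup.center ↥(Cfsg.Omega F (Cfsg.quadFormPlus n F))))
    (QuotientGroup.mk'_surjective _) z ?_
  rw [QuotientGroup.ker_mk', hz]

/-- At least six coordinates. -/
theorem om_ge6 (n : ℕ) (hn : 6 ≤ n) : ∃ rels : Finset (FreeGroup (Fin 8)), rels.card ≤ 31 ∧
    Nonempty (PresentedGroup (↑rels : Set (FreeGroup (Fin 8))) ≃* ↥(Cfsg.Omega F (Cfsg.quadFormPlus n F))) := by
  obtain ⟨r, rfl⟩ : ∃ r, n = r + 4 := ⟨n - 4, by omega⟩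
  obtain ⟨rA, hrA, ⟨EA⟩⟩ := Final.sl_ge6 (F := F) (r + 4) hn
  obtain ⟨rels, hr, ⟨E⟩⟩ := main_om EA
  have hr0 : r ≠ 0 := by omega
  rw [if_neg hr0] at hr
  obtain ⟨rels', hr', hE'⟩ := Glue.pad E
  exact ⟨rels', by omega, hE'⟩

/-- Five coordinates. -/
theorem om_five : ∃ rels : Finset (FreeGroup (Fin 8)), rels.card ≤ 29 ∧
    Nonempty (PresentedGroup (↑rels : Set (FreeGroup (Fin 8))) ≃* ↥(Cfsg.Omega F (Cfsg.quadFormPlus 5 F))) := by
  obtain ⟨rA, hrA, ⟨EA⟩⟩ := Final.sl_five (F := F)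
  obtain ⟨rels, hr, ⟨E⟩⟩ := main_om (r := 1) EA
  rw [if_neg (by omega)] at hr
  obtain ⟨rels', hr', ⟨E'⟩⟩ := Glue.pad E
  obtain ⟨rels'', hr'', hE''⟩ := Glue.pad E'
  exact ⟨rels'', by omega, hE''⟩

/-- Four coordinates. -/
theorem om_four : ∃ rels : Finset (FreeGroup (Fin 8)), rels.card ≤ 29 ∧
    Nonempty (PresentedGroup (↑rels : Set (FreeGroup (Fin 8))) ≃* ↥(Cfsg.Omega F (Cfsg.quadFormPlus 4 F))) := by
  obtain ⟨rA, hrA, ⟨EA⟩⟩ := Final.sl_four (F := F)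
  obtain ⟨rels, hr, ⟨E⟩⟩ := main_om (r := 0) EA
  rw [if_pos rfl] at hr
  obtain ⟨rels', hr', ⟨E'⟩⟩ := Glue.pad E
  obtain ⟨rels'', hr'', hE''⟩ := Glue.pad E'
  exact ⟨rels'', by omega, hE''⟩

theorem om_small (n : ℕ) (hn : 4 ≤ n) (h5 : n ≤ 5) : ∃ rels : Finset (FreeGroup (Fin 8)), rels.card ≤ 29 ∧
    Nonempty (PresentedGroup (↑rels : Set (FreeGroup (Fin 8))) ≃* ↥(Cfsg.Omega F (Cfsg.quadFormPlus n F))) := by
  have : n = 4 ∨ n = 5 := by omega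
  rcases this with rfl | rfl
  · exact om_four
  · exact om_five

theorem om_all (n : ℕ) (hn : 4 ≤ n) : ∃ rels : Finset (FreeGroup (Fin 8)), rels.card ≤ 31 ∧
    Nonempty (PresentedGroup (↑rels : Set (FreeGroup (Fin 8))) ≃* ↥(Cfsg.Omega F (Cfsg.quadFormPlus n F))) := by
  by_cases h6 : 6 ≤ n
  · exact om_ge6 n h6
  · obtain ⟨rels, hr, hE⟩ := om_small (F := F) n hn (by omega)
    exact ⟨rels, by omega, hE⟩

/-- Let F be a finite field and n ≥ 4, and let Ω⁺_2n(F) be the commutator subgroup of the orthogonal group of the hyperbolic quadratic form Σ x_i y_i, with PΩ⁺_2n(F) its central quotient. Then Ω⁺_2n(F) has a presentation with 8 generators and at most 31 relations (at most 29 if n = 4 or 5), and PΩ⁺_2n(F) one with 8 generators and at most 32 relations (at most 30 if n = 4 or 5). -/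
theorem result {F : Type*} [Field F] [Fintype F] (n : ℕ) (hn : 4 ≤ n) :
    (∃ rels : Finset (FreeGroup (Fin 8)), rels.card ≤ 31 ∧ Nonempty (PresentedGroup (↑rels : Set (FreeGroup (Fin 8))) ≃* ↥(Cfsg.Omega F (Cfsg.quadFormPlus n F)))) ∧ (∃ rels : Finset (FreeGroup (Fin 8)), rels.card ≤ 32 ∧ Nonempty (PresentedGroup (↑rels : Set (FreeGroup (Fin 8))) ≃* Cfsg.POmega F (Cfsg.quadFormPlus n F))) ∧
    (n ≤ 5 → (∃ rels : Finset (FreeGroup (Fin 8)), rels.card ≤ 29 ∧ Nonempty (PresentedGroup (↑rels : Set (FreeGroup (Fin 8))) ≃* ↥(Cfsg.Omega F (Cfsg.quadFormPlus n F)))) ∧ (∃ rels : Finset (FreeGroup (Fin 8)), rels.card ≤ 30 ∧ Nonempty (PresentedGroup (↑rels : Set (FreeGroup (Fin 8))) ≃* Cfsg.POmega F (Cfsg.quadFormPlus n F)))) := by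
  refine ⟨om_all n hn, ?_, fun h5 => ⟨om_small n hn h5, ?_⟩⟩
  · obtain ⟨rels, hr, ⟨E⟩⟩ := om_all (F := F) n hn
    obtain ⟨rels', hr', hE'⟩ := pom_of_om hn E
    exact ⟨rels', by omega, hE'⟩
  · obtain ⟨rels, hr, ⟨E⟩⟩ := om_small (F := F) n hn h5
    obtain ⟨rels', hr', hE'⟩ := pom_of_om hn E
    exact ⟨rels', by omega, hE'⟩

end Cfsg.Agent.S2295
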