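import Cfsg.Statements.S2382
import Mathlib
import Cfsg.Agent.Lib.ModHecke.Braid
import Cfsg.Agent.Lib.ChevFix.Main
import Cfsg.Agent.Lib.Chevalley.Tbl.G2Sys
import Cfsg.Agent.Lib.Chevalley.Tbl.G2NF
import Cfsg.Agent.Lib.Chevalley.Tbl.F4Sys
import Cfsg.Agent.Lib.Chevalley.Tbl.F4NF
import Cfsg.Agent.Lib.Chevalley.Tbl.E8Sys
import Cfsg.Agent.Lib.Chevalley.Tbl.E8NF
import Cfsg.Agent.Lib.ChevBN.FastData
-- import your own Cfsg.Agent.* helpers here

set_option autoImplicit false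
open Cfsg

namespace Cfsg.Agent.S2382

open Cfsg.Agent.Lib.ModHecke.Braid Cfsg.Agent.Lib.Chevalley.SysOf in
theorem braid_G2 : chkBrAll Cfsg.Agent.Lib.ChevBN.FastData.tabG2 Cfsg.Lie.chevG2 (etaOf Cfsg.Agent.Lib.Chevalley.Tbl.G2.wT) = true := by
  decide +kernel

open Cfsg.Agent.Lib.ModHecke.Braid Cfsg.Agent.Lib.Chevalley.SysOf in
theorem braid_F4 : chkBrAll Cfsg.Agent.Lib.ChevBN.FastData.tabF4 Cfsg.Lie.chevF4 (etaOf Cfsg.Agent.Lib.Chevalley.Tbl.F4.wT) = true := by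
  decide +kernel

open Cfsg.Agent.Lib.ModHecke.Braid Cfsg.Agent.Lib.Chevalley.SysOf in
theorem braid_E8 : chkBrAll Cfsg.Agent.Lib.ChevBN.FastData.tabE8 Cfsg.Lie.chevE8 (etaOf Cfsg.Agent.Lib.Chevalley.Tbl.E8.wT) = true := by
  decide +kernel

theorem inv_of_unimod {D : Cfsg.Lie.ChevalleyDatum} (h : Cfsg.Agent.Lib.ChevFix.Unimod D) :
    Cfsg.Agent.Lib.ModHecke.Braid.InvUpTo D 1 := by
  obtain ⟨M, hM⟩ := h
  exact ⟨M, by simpa using hM⟩

/-- Steinberg's count of semisimple classes for the three types whose simply connected and adjoint groups coincide: in the Chevalley group of type G₂, F₄ or E₈ over a field with `q` elements of characteristic `p`, the conjugacy classes of elements of order prime to `p` number exactly `q^l`, `l = 2, 4, 8` the rank. -/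
theorem result {F : Type*} [Field F] [Fintype F] {q : ℕ} (hq : Fintype.card F = q) (p : ℕ) [Fact p.Prime] [CharP F p]
    (D : Cfsg.Lie.ChevalleyDatum) (hD : D ∈ [Cfsg.Lie.chevG2, Cfsg.Lie.chevF4, Cfsg.Lie.chevE8]) :
    Nat.card {c : ConjClasses ↥(D.group F) // ∃ g : ↥(D.group F), ConjClasses.mk g = c ∧ (orderOf g).Coprime p} = q ^ D.rank := by
  subst hq
  have hcop : Nat.Coprime 1 (Fintype.card F - 1) := Nat.coprime_one_left _
  simp only [List.mem_cons, List.not_mem_nil, or_false] at hD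
  rcases hD with rfl | rfl | rfl
  · exact Cfsg.Agent.Lib.ModHecke.Braid.card_of_checks p Cfsg.Agent.Lib.Chevalley.Tbl.G2.sys
      Cfsg.Agent.Lib.ChevBN.FastData.tbl_chevG2 (by decide +kernel)
      (fun i hi => Cfsg.Agent.Lib.Chevalley.NForm.eta_simple_of_check _ Cfsg.Agent.Lib.Chevalley.Tbl.G2.nform_check hi)
      Cfsg.Agent.Lib.ChevBN.FastData.hW_G2 braid_G2 (inv_of_unimod Cfsg.Agent.Lib.ChevFix.unimod_G2) hcop
  · exact Cfsg.Agent.Lib.ModHecke.Braid.card_of_checks p Cfsg.Agent.Lib.Chevalley.Tbl.F4.sys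
      Cfsg.Agent.Lib.ChevBN.FastData.tbl_chevF4 (by decide +kernel)
      (fun i hi => Cfsg.Agent.Lib.Chevalley.NForm.eta_simple_of_check _ Cfsg.Agent.Lib.Chevalley.Tbl.F4.nform_check hi)
      Cfsg.Agent.Lib.ChevBN.FastData.hW_F4 braid_F4 (inv_of_unimod Cfsg.Agent.Lib.ChevFix.unimod_F4) hcop
  · exact Cfsg.Agent.Lib.ModHecke.Braid.card_of_checks p Cfsg.Agent.Lib.Chevalley.Tbl.E8.sys
      Cfsg.Agent.Lib.ChevBN.FastData.tbl_chevE8 (by decide +kernel)
      (fun i hi => Cfsg.Agent.Lib.Chevalley.NForm.eta_simple_of_check _ Cfsg.Agent.Lib.Chevalley.Tbl.E8.nform_check hi)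
      Cfsg.Agent.Lib.ChevBN.FastData.hW_E8 braid_E8 (inv_of_unimod Cfsg.Agent.Lib.ChevFix.unimod_E8) hcop

end Cfsg.Agent.S2382
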