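import Cfsg.Statements.S2468
import Mathlib
import Cfsg.Agent.Lib.Classical.Herm.PGLinear

set_option autoImplicit false
open Cfsg

namespace Cfsg.Agent.S2468

/-- Adjacency of two odd primes in the prime graph of PSL(n,q): let F be a finite field of characteristic p with q elements, n ≥ 2 with PSL(n,F) simple, and let r ≠ s be odd primes different from p dividing the order of PSL(n,F). Let k and l be the multiplicative orders of q modulo r and modulo s, and suppose 2 ≤ k ≤ l. Then PSL(n,F) has NO element of order r·s if and only if k + l > n and k does not divide l. -/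
theorem result {F : Type*} [Field F] [Fintype F] (p : ℕ) [Fact p.Prime] [CharP F p] (n : ℕ) (hn : 2 ≤ n) (hsmall : n = 2 → 4 ≤ Fintype.card F)
    (r s : ℕ) (hr : r.Prime) (hs : s.Prime) (hr2 : r ≠ 2) (hs2 : s ≠ 2) (hrp : r ≠ p) (hsp : s ≠ p) (hrs : r ≠ s)
    (hrG : r ∣ Nat.card (Matrix.ProjectiveSpecialLinearGroup (Fin n) F)) (hsG : s ∣ Nat.card (Matrix.ProjectiveSpecialLinearGroup (Fin n) F))
    (k l : ℕ) (hk : k = orderOf ((Fintype.card F : ℕ) : ZMod r)) (hl : l = orderOf ((Fintype.card F : ℕ) : ZMod s))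
    (h2k : 2 ≤ k) (hkl : k ≤ l) :
    (r * s ∉ Set.range (orderOf : Matrix.ProjectiveSpecialLinearGroup (Fin n) F → ℕ)) ↔ (n < k + l ∧ ¬ k ∣ l) := by
  classical
  open Cfsg.Agent.Lib.Classical.Herm.PGLinear Cfsg.Agent.Lib.Classical.Herm.PGRoots in
  haveI := Fact.mk hr
  haveI := Fact.mk hs
  have hrq := not_dvd_card (F := F) p hr hrp
  have hsq := not_dvd_card (F := F) p hs hsp
  have hr0 := cast_prime_ne_zero (F := F) p hr hrp
  have hs0 := cast_prime_ne_zero (F := F) p hs hsp
  have hrc : ¬ r ∣ Fintype.card F - 1 := by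
    intro h
    have := order_eq_one_of_dvd (F := F) h
    omega
  have hsc : ¬ s ∣ Fintype.card F - 1 := by
    intro h
    have := order_eq_one_of_dvd (F := F) h
    omega
  have hcr : r.Coprime (Fintype.card F - 1) := (Nat.Prime.coprime_iff_not_dvd hr).2 hrc
  have hcs : s.Coprime (Fintype.card F - 1) := (Nat.Prime.coprime_iff_not_dvd hs).2 hsc
  have hcop : (r * s).Coprime (Fintype.card F - 1) := Nat.Coprime.mul_left hcr hcs
  have hn1 : 1 ≤ n := by omega
  have hk0 : 0 < k := by omega
  have hl0 : 0 < l := by omega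
  have hrs' : r.Coprime s := (Nat.coprime_primes hr hs).2 hrs
  have hln : l ≤ n := by
    obtain ⟨g, hg⟩ := exists_prime_orderOf_dvd_card' s hsG
    obtain ⟨x, hx, hxo⟩ := exists_lift g hn1 hg hcs
    have hx1 : (x : Matrix (Fin n) (Fin n) F) ^ s = 1 := by
      have : x ^ s = 1 := by rw [← hxo]; exact pow_orderOf_eq_one x
      exact congrArg Subtype.val this
    have hx2 : (x : Matrix (Fin n) (Fin n) F) ≠ 1 := by
      intro h
      have h3 : x = 1 := Subtype.ext h
      rw [h3, orderOf_one] at hxo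
      exact hs.one_lt.ne hxo
    have := ord_le_of_ne_one hsq hs0 hl hx1 hx2
    simpa using this
  constructor
  · intro hno
    by_contra hcon
    apply hno
    have hcases : k + l ≤ n ∨ k ∣ l := by
      by_contra h
      push Not at h
      exact hcon ⟨by omega, h.2⟩
    have hord : IsOrdGL F n (r * s) := by
      rcases hcases with h | h
      · have h1 : IsOrdGL F k r := isOrdGL_of_dvd hk0 (dvd_pow_sub_one hk dvd_rfl)
        have h2 : IsOrdGL F l s := isOrdGL_of_dvd hl0 (dvd_pow_sub_one hl dvd_rfl)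
        have h3 := h1.add h2
        rw [Nat.Coprime.lcm_eq_mul hrs'] at h3
        exact h3.mono h
      · have h1 : r * s ∣ Fintype.card F ^ l - 1 :=
          Nat.Coprime.mul_dvd_of_dvd_of_dvd hrs' (dvd_pow_sub_one hk h) (dvd_pow_sub_one hl dvd_rfl)
        exact (isOrdGL_of_dvd hl0 h1).mono hln
    obtain ⟨x, hx⟩ := hord
    obtain ⟨g, hg⟩ := exists_psl_of_gl hn1 x hx hcop
    exact ⟨g, hg⟩
  · rintro ⟨hlt, hnd⟩ ⟨g, hg⟩
    obtain ⟨x, hx, hxo⟩ := exists_lift g hn1 hg hcop
    have hval : ∀ t, (x : Matrix (Fin n) (Fin n) F) ^ t = 1 ↔ x ^ t = 1 := by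
      intro t
      constructor
      · intro h
        exact Subtype.ext h
      · intro h
        exact congrArg Subtype.val h
    have h1 : (x : Matrix (Fin n) (Fin n) F) ^ (r * s) = 1 := by
      rw [hval, ← hxo]
      exact pow_orderOf_eq_one x
    have h2 : (x : Matrix (Fin n) (Fin n) F) ^ r ≠ 1 := by
      rw [Ne, hval, ← orderOf_dvd_iff_pow_eq_one, hxo]
      intro h
      have := Nat.le_of_dvd hr.pos h
      have := hs.two_le
      have := hr.pos
      nlinarith
    have h3 : (x : Matrix (Fin n) (Fin n) F) ^ s ≠ 1 := by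
      rw [Ne, hval, ← orderOf_dvd_iff_pow_eq_one, hxo]
      intro h
      have := Nat.le_of_dvd hs.pos h
      have := hr.two_le
      have := hs.pos
      nlinarith
    have h4 := lcm_or_add_le (A := (x : Matrix (Fin n) (Fin n) F)) hrs hrq hsq hr0 hs0 hk hl h1 h2 h3
    rw [Fintype.card_fin] at h4
    have h5 := add_le_lcm hl0 hk0 hkl hnd
    omega

end Cfsg.Agent.S2468
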