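import Cfsg.Statements.S2469
import Mathlib
import Cfsg.Agent.Lib.Classical.Herm.PGSymp

set_option autoImplicit false
open Cfsg

namespace Cfsg.Agent.S2469

/-- Adjacency of two odd primes in the prime graph of PSp(2n,q): let F be a finite field of characteristic p with q elements, n ≥ 2 with PSp(2n,F) simple, and let r ≠ s be odd primes different from p dividing the order of PSp(2n,F). Let k, l be the multiplicative orders of q modulo r and s, put η(m) = m for odd m and η(m) = m/2 for even m, and suppose η(k) ≤ η(l). Then PSp(2n,F) has NO element of order r·s if and only if η(k) + η(l) > n and l/k is not an odd integer. -/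
theorem result {F : Type*} [Field F] [Fintype F] (p : ℕ) [Fact p.Prime] [CharP F p] (n : ℕ) (hn : 2 ≤ n) (hsmall : n = 2 → 3 ≤ Fintype.card F)
    (r s : ℕ) (hr : r.Prime) (hs : s.Prime) (hr2 : r ≠ 2) (hs2 : s ≠ 2) (hrp : r ≠ p) (hsp : s ≠ p) (hrs : r ≠ s)
    (hrG : r ∣ Nat.card (Cfsg.PSp n F)) (hsG : s ∣ Nat.card (Cfsg.PSp n F))
    (k l ηk ηl : ℕ) (hk : k = orderOf ((Fintype.card F : ℕ) : ZMod r)) (hl : l = orderOf ((Fintype.card F : ℕ) : ZMod s))
    (hηk : (Odd k ∧ ηk = k) ∨ (Even k ∧ 2 * ηk = k)) (hηl : (Odd l ∧ ηl = l) ∨ (Even l ∧ 2 * ηl = l)) (hkl : ηk ≤ ηl) :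
    (r * s ∉ Set.range (orderOf : Cfsg.PSp n F → ℕ)) ↔ (n < ηk + ηl ∧ ¬ ∃ t : ℕ, Odd t ∧ l = k * t) := by
  classical
  open Cfsg.Agent.Lib.Classical.Herm.PGLinear Cfsg.Agent.Lib.Classical.Herm.PGSymp
    Cfsg.Agent.Lib.Classical.Symp.OrdModels in
  haveI := Fact.mk hr
  haveI := Fact.mk hs
  have hrq := not_dvd_card (F := F) p hr hrp
  have hsq := not_dvd_card (F := F) p hs hsp
  have hr0 := cast_prime_ne_zero (F := F) p hr hrp
  have hs0 := cast_prime_ne_zero (F := F) p hs hsp
  have hk0 : 0 < k := order_pos hrq hk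
  have hl0 : 0 < l := order_pos hsq hl
  have hrs' : r.Coprime s := (Nat.coprime_primes hr hs).2 hrs
  have hn1 : 1 ≤ n := by omega
  have hodd : Odd (r * s) := Odd.mul (hr.odd_of_ne_two hr2) (hs.odd_of_ne_two hs2)
  have hln : ηl ≤ n := by
    obtain ⟨g, hg⟩ := exists_prime_orderOf_dvd_card' s hsG
    obtain ⟨A, -, hA⟩ := Cfsg.Agent.Lib.Classical.Symp.OrdClass.exists_lift hn1 g (by
      rw [hg]
      exact hs.odd_of_ne_two hs2)
    rw [hg] at hA
    have h1 : A.1 ^ s = 1 := by
      rw [← sp_pow_eq_one_iff, ← hA]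
      exact pow_orderOf_eq_one A
    have h2 : A.1 ≠ 1 := by
      intro h
      have h3 : A = 1 := Subtype.ext h
      rw [h3, orderOf_one] at hA
      exact hs.one_lt.ne hA
    exact eta_le A hs2 hsq hs0 hl hηl h1 h2
  constructor
  · intro hno
    by_contra hcon
    apply hno
    have hcases : ηk + ηl ≤ n ∨ ∃ t : ℕ, Odd t ∧ l = k * t := by
      by_contra h
      push Not at h
      exact hcon ⟨by omega, by
        rintro ⟨t, ht, hlt⟩
        exact h.2 t ht hlt⟩
    have hord : IsOrd F n (r * s) := by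
      rcases hcases with h | ⟨t, ht, hlt⟩
      · have h1 : IsOrd F ηk r := isOrd_eta p hrq hk hηk
        have h2 : IsOrd F ηl s := isOrd_eta p hsq hl hηl
        have h3 := h1.sum h2
        rw [Nat.Coprime.lcm_eq_mul hrs'] at h3
        exact Cfsg.Agent.Lib.Classical.Herm.PGSymp.IsOrd.mono h3 h
      · rcases hηl with ⟨hlo, hle⟩ | ⟨hle, hle2⟩
        · have h1 : r * s ∣ Fintype.card F ^ l - 1 :=
            Nat.Coprime.mul_dvd_of_dvd_of_dvd hrs' (dvd_pow_sub_one hk ⟨t, hlt⟩) (dvd_pow_sub_one hl dvd_rfl)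
          exact Cfsg.Agent.Lib.Classical.Herm.PGSymp.IsOrd.mono (isOrd_plus p hl0 h1) (by omega)
        · have hk2 : 2 * ηk = k := by
            rcases hηk with ⟨hko, -⟩ | ⟨-, h⟩
            · exfalso
              rw [hlt] at hle
              exact (Nat.not_even_iff_odd.2 (hko.mul ht)) hle
            · exact h
          have hηt : ηl = ηk * t := by
            have : 2 * ηl = 2 * (ηk * t) := by
              rw [hle2, hlt, ← hk2, mul_assoc]
            omega
          have h1 : r ∣ Fintype.card F ^ ηl + 1 := by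
            have h2 : r ∣ Fintype.card F ^ ηk + 1 := dvd_pow_add_one hrq hk hk2
            have h3 : Fintype.card F ^ ηk + 1 ∣ Fintype.card F ^ ηl + 1 := by
              rw [hηt, pow_mul]
              have := ht.nat_add_dvd_pow_add_pow (Fintype.card F ^ ηk) 1
              simpa using this
            exact h2.trans h3
          have h2 : s ∣ Fintype.card F ^ ηl + 1 := dvd_pow_add_one hsq hl hle2
          have h3 : r * s ∣ Fintype.card F ^ ηl + 1 := Nat.Coprime.mul_dvd_of_dvd_of_dvd hrs' h1 h2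
          exact Cfsg.Agent.Lib.Classical.Herm.PGSymp.IsOrd.mono (isOrd_minus p (by omega) h3) hln
    obtain ⟨A, hA⟩ := hord
    exact ⟨QuotientGroup.mk A, order_mk hn1 A hA (Or.inl hodd)⟩
  · rintro ⟨hlt, hnot⟩ ⟨g, hg⟩
    obtain ⟨A, -, hA⟩ := Cfsg.Agent.Lib.Classical.Symp.OrdClass.exists_lift hn1 g (by rw [hg]; exact hodd)
    rw [hg] at hA
    have h1 : A.1 ^ (r * s) = 1 := by
      rw [← sp_pow_eq_one_iff, ← hA]
      exact pow_orderOf_eq_one A
    have h2 : A.1 ^ r ≠ 1 := by
      rw [Ne, ← sp_pow_eq_one_iff, ← orderOf_dvd_iff_pow_eq_one, hA]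
      intro h
      have := Nat.le_of_dvd hr.pos h
      have := hs.two_le
      have := hr.pos
      nlinarith
    have h3 : A.1 ^ s ≠ 1 := by
      rw [Ne, ← sp_pow_eq_one_iff, ← orderOf_dvd_iff_pow_eq_one, hA]
      intro h
      have := Nat.le_of_dvd hs.pos h
      have := hr.two_le
      have := hs.pos
      nlinarith
    rcases sp_bound A hr2 hs2 hrq hsq hr0 hs0 hk hl hηk hηl h1 h2 h3 with h | h | ⟨h, j, hj1, hj2⟩
    · omega
    · rcases arith1 hk0 hl0 hηk hηl hkl h with h4 | h4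
      · omega
      · exact hnot h4
    · obtain ⟨h5, h6⟩ := order_of_pow_neg hr2 hj1
      obtain ⟨h7, h8⟩ := order_of_pow_neg hs2 hj2
      rw [← hk] at h5 h6
      rw [← hl] at h7 h8
      rcases arith2 hk0 hl0 hηk hηl hkl h5 h6 h7 h8 h with h4 | h4
      · omega
      · exact hnot h4

end Cfsg.Agent.S2469
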