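import Cfsg.Statements.S2470
import Mathlib
import Cfsg.Agent.Lib.Classical.Herm.PGChar

set_option autoImplicit false
open Cfsg

namespace Cfsg.Agent.S2470

/-- Adjacency of an odd prime and the characteristic in the prime graph of PSL(n,q): let F be a finite field of characteristic p with q elements, n ≥ 2 with PSL(n,F) simple, and let r ≠ p be an odd prime dividing the order of PSL(n,F), with k the multiplicative order of q modulo r. Then PSL(n,F) has NO element of order r·p if and only if either k > n − 2, or n = 3, r = 3 and 3 divides q − 1 exactly once. -/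
theorem result {F : Type*} [Field F] [Fintype F] (p : ℕ) [Fact p.Prime] [CharP F p] (n : ℕ) (hn : 2 ≤ n) (hsmall : n = 2 → 4 ≤ Fintype.card F)
    (r : ℕ) (hr : r.Prime) (hr2 : r ≠ 2) (hrp : r ≠ p) (hrG : r ∣ Nat.card (Matrix.ProjectiveSpecialLinearGroup (Fin n) F))
    (k : ℕ) (hk : k = orderOf ((Fintype.card F : ℕ) : ZMod r)) :
    (r * p ∉ Set.range (orderOf : Matrix.ProjectiveSpecialLinearGroup (Fin n) F → ℕ)) ↔
      (n - 2 < k ∨ (n = 3 ∧ r = 3 ∧ 3 ∣ Fintype.card F - 1 ∧ ¬ 9 ∣ Fintype.card F - 1)) := by
  classical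
  open Cfsg.Agent.Lib.Classical.Herm.PGLinear Cfsg.Agent.Lib.Classical.Herm.PGRoots
    Cfsg.Agent.Lib.Classical.Herm.PGChar in
  haveI := Fact.mk hr
  have hrq := not_dvd_card (F := F) p hr hrp
  have hk0 : 0 < k := order_pos hrq hk
  have hcrp : r.Coprime p := (Nat.coprime_primes hr (Fact.out : p.Prime)).2 hrp
  constructor
  · intro hno
    by_contra hcon
    push Not at hcon
    obtain ⟨h1, h2⟩ := hcon
    apply hno
    by_cases hk1 : k = 1
    · have hrq1 : r ∣ Fintype.card F - 1 := dvd_sub_one_of_order_eq_one (hk ▸ hk1)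
      obtain ⟨m, rfl⟩ : ∃ m, n = m + 3 := ⟨n - 3, by omega⟩
      by_cases hm : 1 ≤ m
      · obtain ⟨a, ha0, ha⟩ := exists_root (F := F) hrq1
        obtain ⟨g, hg⟩ := exists_order_of_model (m := m) p ha0 (N := r * p) (fun t => by
          constructor
          · rintro ⟨c, hp, h3, -, h5⟩
            have h6 : a ^ t = 1 := by rw [h3, h5 hm]
            exact Nat.Coprime.mul_dvd_of_dvd_of_dvd hcrp ((ha t).1 h6) hp
          · intro h
            have h6 : a ^ t = 1 := (ha t).2 ((dvd_mul_right r p).trans h)
            refine ⟨1, (dvd_mul_left p r).trans h, h6, ?_, fun _ => rfl⟩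
            rw [inv_pow, ← pow_mul, mul_comm, pow_mul, h6]
            simp)
        exact ⟨g, hg⟩
      · have hm0 : m = 0 := by omega
        subst hm0
        obtain ⟨a, ha0, ha⟩ : ∃ a : F, a ≠ 0 ∧ ∀ t : ℕ, a ^ (3 * t) = 1 ↔ r ∣ t := by
          by_cases hr3 : r = 3
          · subst hr3
            have h9 := h2 rfl rfl hrq1
            obtain ⟨a, ha0, ha⟩ := exists_root (F := F) h9
            refine ⟨a, ha0, fun t => ?_⟩
            rw [ha]
            constructor
            · intro h
              exact Nat.dvd_of_mul_dvd_mul_left (by norm_num : 0 < 3) (by simpa using h)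
            · intro h
              exact (by simpa using Nat.mul_dvd_mul_left 3 h)
          · obtain ⟨a, ha0, ha⟩ := exists_root (F := F) hrq1
            refine ⟨a, ha0, fun t => ?_⟩
            rw [ha]
            have hc3 : r.Coprime 3 := (Nat.coprime_primes hr Nat.prime_three).2 hr3
            exact hc3.dvd_mul_left
        obtain ⟨g, hg⟩ := exists_order_of_model (m := 0) p ha0 (N := r * p) (fun t => by
          constructor
          · rintro ⟨c, hp, h3, h4, -⟩
            have h6 : a ^ (3 * t) = 1 := by
              rw [← h3, inv_pow] at h4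
              have h7 : (a ^ 2) ^ t ≠ 0 := pow_ne_zero _ (pow_ne_zero _ ha0)
              have h8 : a ^ (3 * t) = a ^ t * (a ^ 2) ^ t := by
                rw [← pow_mul, ← pow_add]
                congr 1
                ring
              rw [h8, ← h4, inv_mul_cancel₀ h7]
            exact Nat.Coprime.mul_dvd_of_dvd_of_dvd hcrp ((ha t).1 h6) hp
          · intro h
            have h6 : a ^ (3 * t) = 1 := (ha t).2 ((dvd_mul_right r p).trans h)
            refine ⟨a ^ t, (dvd_mul_left p r).trans h, rfl, ?_, fun h0 => by omega⟩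
            have h7 : (a ^ 2) ^ t ≠ 0 := pow_ne_zero _ (pow_ne_zero _ ha0)
            have h8 : a ^ (3 * t) = a ^ t * (a ^ 2) ^ t := by
              rw [← pow_mul, ← pow_add]
              congr 1
              ring
            rw [inv_pow]
            rw [h8] at h6
            exact (eq_inv_of_mul_eq_one_left h6).symm)
        exact ⟨g, hg⟩
    · have hrc : ¬ r ∣ Fintype.card F - 1 := by
        intro h
        exact hk1 (hk.trans (order_eq_one_of_dvd h))
      have hcr : r.Coprime (Fintype.card F - 1) := (Nat.Prime.coprime_iff_not_dvd hr).2 hrc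
      have hpc : ¬ p ∣ Fintype.card F - 1 := by
        obtain ⟨f, hp', hf⟩ := FiniteField.card F p
        have hq1 : 1 < Fintype.card F := Fintype.one_lt_card
        intro h
        have h3 : p ∣ Fintype.card F := by
          rw [hf]
          exact dvd_pow_self _ f.ne_zero
        have h4 : p ∣ 1 := by
          have : Fintype.card F - (Fintype.card F - 1) = 1 := by omega
          rw [← this]
          exact Nat.dvd_sub h3 h
        exact hp'.one_lt.ne' (Nat.dvd_one.1 h4)
      have hcp : p.Coprime (Fintype.card F - 1) := (Nat.Prime.coprime_iff_not_dvd Fact.out).2 hpc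
      have h3 : IsOrdGL F k r := isOrdGL_of_dvd hk0 (dvd_pow_sub_one hk dvd_rfl)
      have h4 : IsOrdGL F 2 p := isOrdGL_two p
      have h5 := h3.add h4
      rw [Nat.Coprime.lcm_eq_mul hcrp] at h5
      obtain ⟨x, hx⟩ := h5.mono (show k + 2 ≤ n by omega)
      obtain ⟨g, hg⟩ := exists_psl_of_gl (by omega) x hx (Nat.Coprime.mul_left hcr hcp)
      exact ⟨g, hg⟩
  · rintro hcases ⟨g, hg⟩
    obtain ⟨x, rfl⟩ := QuotientGroup.mk_surjective g
    obtain ⟨h1, h2⟩ := rp_bound p hrp hk x hg
    rcases hcases with h | ⟨rfl, rfl, h3, h4⟩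
    · omega
    · exact h4 (h2 rfl rfl h3)

end Cfsg.Agent.S2470
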