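import Cfsg.Statements.S2472
import Mathlib
import Cfsg.Agent.Lib.Classical.Herm.PGSymp

set_option autoImplicit false
open Cfsg

namespace Cfsg.Agent.S2472

/-- Adjacency of a prime and the characteristic in the prime graph of PSp(2n,q): let F be a finite field of characteristic p with q elements, n ≥ 2 with PSp(2n,F) simple, and let r ≠ p be an odd prime dividing the order of PSp(2n,F), with k the multiplicative order of q modulo r and η(k) = k for odd k, k/2 for even k. Then PSp(2n,F) has NO element of order r·p if and only if η(k) > n − 1. -/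
theorem result {F : Type*} [Field F] [Fintype F] (p : ℕ) [Fact p.Prime] [CharP F p] (n : ℕ) (hn : 2 ≤ n) (hsmall : n = 2 → 3 ≤ Fintype.card F)
    (r : ℕ) (hr : r.Prime) (hr2 : r ≠ 2) (hrp : r ≠ p) (hrG : r ∣ Nat.card (Cfsg.PSp n F))
    (k ηk : ℕ) (hk : k = orderOf ((Fintype.card F : ℕ) : ZMod r)) (hηk : (Odd k ∧ ηk = k) ∨ (Even k ∧ 2 * ηk = k)) :
    (r * p ∉ Set.range (orderOf : Cfsg.PSp n F → ℕ)) ↔ n - 1 < ηk := by
  classical
  open Cfsg.Agent.Lib.Classical.Herm.PGLinear Cfsg.Agent.Lib.Classical.Herm.PGSymp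
    Cfsg.Agent.Lib.Classical.Symp.OrdModels in
  haveI := Fact.mk hr
  have hrq := not_dvd_card (F := F) p hr hrp
  have hcrp : r.Coprime p := (Nat.coprime_primes hr (Fact.out : p.Prime)).2 hrp
  constructor
  · intro hno
    by_contra hcon
    apply hno
    have hle : ηk + 1 ≤ n := by omega
    have h1 : IsOrd F ηk r := isOrd_eta p hrq hk hηk
    have h2 : IsOrd F 1 p := isOrd_one_char p
    have h3 := h1.sum h2
    rw [Nat.Coprime.lcm_eq_mul hcrp] at h3
    obtain ⟨A, hA⟩ := Cfsg.Agent.Lib.Classical.Herm.PGSymp.IsOrd.mono h3 hle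
    refine ⟨QuotientGroup.mk A, order_mk (by omega) A hA ?_⟩
    by_cases h20 : (2 : F) = 0
    · exact Or.inr h20
    · left
      refine Odd.mul (hr.odd_of_ne_two hr2) ((Fact.out : p.Prime).odd_of_ne_two ?_)
      rintro rfl
      exact h20 (by exact_mod_cast CharP.cast_eq_zero F 2)
  · rintro hlt ⟨g, hg⟩
    obtain ⟨A, rfl⟩ := QuotientGroup.mk_surjective g
    have := rp_bound_sp p (by omega) hr2 hrp hk hηk A hg
    omega

end Cfsg.Agent.S2472
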