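import Cfsg.Statements.S2490
import Mathlib
import Cfsg.Agent.Lib.SmallOrd.InvolTools
import Cfsg.Agent.Lib.Basic.SylowUtil
import Cfsg.Agent.Lib.Basic.PCore
import Cfsg.Agent.Lib.Solvable.PSeries
import Cfsg.Agent.Lib.Components.Transport

set_option autoImplicit false
open Cfsg

namespace Cfsg.Agent.S2490

open Subgroup Cfsg.Agent.Lib.SmallCen.SmallOrder Cfsg.Agent.Lib.SmallOrd
open Cfsg.Agent.Lib.SmallOrd.ClassSign Cfsg.Agent.Lib.SmallOrd.InvolTools
open scoped Pointwise

section General

variable {G : Type*} [Group G] [Finite G]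

/-- Commuting nontrivial elements of prime power orders give an element of order `p q`. -/
theorem exists_order_mul {p q : ℕ} (hp : p.Prime) (hq : q.Prime) (hpq : p ≠ q) {u v : G} {a b : ℕ}
    (hu : u ^ (q ^ a) = 1) (hv : v ^ (p ^ b) = 1) (hu1 : u ≠ 1) (hv1 : v ≠ 1) (hc : u * v = v * u) :
    ∃ g : G, orderOf g = p * q := by
  have h1 : q ∣ orderOf u := by
    obtain ⟨k, -, hk⟩ := (Nat.dvd_prime_pow hq).1 (orderOf_dvd_of_pow_eq_one hu)
    rw [hk]
    rcases k with _ | k
    · rw [pow_zero, orderOf_eq_one_iff] at hk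
      exact absurd hk hu1
    · exact dvd_pow_self q (by omega)
  have h2 : p ∣ orderOf v := by
    obtain ⟨k, -, hk⟩ := (Nat.dvd_prime_pow hp).1 (orderOf_dvd_of_pow_eq_one hv)
    rw [hk]
    rcases k with _ | k
    · rw [pow_zero, orderOf_eq_one_iff] at hk
      exact absurd hk hv1
    · exact dvd_pow_self p (by omega)
  have hu' := orderOf_pow_orderOf_div (orderOf_pos u).ne' h1
  have hv' := orderOf_pow_orderOf_div (orderOf_pos v).ne' h2
  refine ⟨v ^ (orderOf v / p) * u ^ (orderOf u / q), ?_⟩
  have hcomm : Commute (v ^ (orderOf v / p)) (u ^ (orderOf u / q)) :=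
    (Commute.pow_pow (show Commute v u from hc.symm) _ _)
  rw [hcomm.orderOf_mul_eq_mul_orderOf_of_coprime, hu', hv']
  rw [hu', hv']
  exact (Nat.coprime_primes hp hq).2 hpq

/-- A free action on the nonidentity elements. -/
theorem card_dvd_sub_one (Q P : Subgroup G) (hQP : Q ≤ normalizer (P : Set G))
    (hfree : ∀ u ∈ Q, u ≠ 1 → ∀ v ∈ P, v ≠ 1 → u * v ≠ v * u) :
    Nat.card Q ∣ Nat.card P - 1 := by
  classical
  let X := {v : P // v ≠ 1}
  letI : MulAction Q X :=
    { smul := fun u v => ⟨⟨u.1 * v.1.1 * u.1⁻¹, (mem_normalizer_iff.1 (hQP u.2) _).1 v.1.2⟩, by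
        intro h
        apply v.2
        have h1 := congrArg Subtype.val h
        apply Subtype.ext
        simpa using h1⟩
      one_smul := fun v => by
        apply Subtype.ext
        apply Subtype.ext
        show (1 : G) * v.1.1 * (1 : G)⁻¹ = v.1.1
        simp
      mul_smul := fun a b v => by
        apply Subtype.ext
        apply Subtype.ext
        show (a.1 * b.1) * v.1.1 * (a.1 * b.1)⁻¹ = a.1 * (b.1 * v.1.1 * b.1⁻¹) * a.1⁻¹
        group }
  have hstab : ∀ b : X, MulAction.stabilizer Q b = ⊥ := by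
    intro b
    rw [eq_bot_iff]
    intro u hu
    rw [Subgroup.mem_bot]
    by_contra hne
    have h1 : u.1 ≠ 1 := fun h => hne (Subtype.ext h)
    have h2 : (u • b) = b := hu
    have h3 : u.1 * b.1.1 * u.1⁻¹ = b.1.1 := congrArg (fun y : X => (y.1.1 : G)) h2
    apply hfree u.1 u.2 h1 b.1.1 b.1.2 (fun h => b.2 (Subtype.ext h))
    calc u.1 * b.1.1 = u.1 * b.1.1 * u.1⁻¹ * u.1 := by group
      _ = b.1.1 * u.1 := by rw [h3]
  have e := MulAction.selfEquivOrbitsQuotientProd hstab
  have h4 : Nat.card X = Nat.card (Quotient (MulAction.orbitRel Q X)) * Nat.card Q := by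
    rw [Nat.card_congr e, Nat.card_prod]
  have hX : Nat.card X = Nat.card P - 1 := by
    haveI : Fintype P := Fintype.ofFinite _
    rw [Nat.card_eq_fintype_card, Nat.card_eq_fintype_card]
    exact Set.card_ne_eq (1 : P)
  rw [← hX, h4]
  exact dvd_mul_left _ _

/-- The product formula for a normal subgroup. -/
theorem index_mul_card_inf (K N : Subgroup G) [K.Normal] (hsup : N ⊔ K = ⊤) :
    N.index * Nat.card (K ⊓ N : Subgroup G) = Nat.card K := by
  have h1 : K.relIndex N = K.index := by
    have := Subgroup.relIndex_sup_right N K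
    rw [hsup, Subgroup.relIndex_top_right] at this
    exact this.symm
  have h2 : Nat.card (K ⊓ N : Subgroup G) * K.relIndex N = Nat.card N := by
    have := Cfsg.Agent.Lib.Perm.SylowIn.card_mul_relIndex (Q := K ⊓ N) (A := N) inf_le_right
    rwa [Subgroup.inf_relIndex_right] at this
  have h3 := Subgroup.card_mul_index N
  have h4 := Subgroup.card_mul_index K
  have h5 : K.index ≠ 0 := Subgroup.index_ne_zero_of_finite
  rw [← h2, ← h4, h1] at h3
  apply Nat.eq_of_mul_eq_mul_right (Nat.pos_of_ne_zero h5)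
  rw [← h3]
  ring

/-- A Sylow subgroup of a normal subgroup normalized by a Sylow subgroup of the group. -/
theorem exists_sylow_pair (K : Subgroup G) [K.Normal] (p q : ℕ) [Fact p.Prime] [Fact q.Prime]
    (hqK : ¬ q ∣ Nat.card K) :
    ∃ P₀ : Subgroup G, P₀ ≤ K ∧ IsPGroup p P₀ ∧ (p ∣ Nat.card K → p ∣ Nat.card P₀) ∧
      ∃ Q : Sylow q G, (Q : Subgroup G) ≤ normalizer (P₀ : Set G) := by
  obtain ⟨P₁⟩ := (inferInstance : Nonempty (Sylow p K))
  refine ⟨(P₁ : Subgroup K).map K.subtype, Subgroup.map_subtype_le _, P₁.2.map _, ?_, ?_⟩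
  · intro h
    have h1 : p ∣ Nat.card (P₁ : Subgroup K) := P₁.dvd_card_of_dvd_card h
    rwa [Subgroup.card_subtype]
  · have hsup := Sylow.normalizer_sup_eq_top P₁
    set N := normalizer (((P₁ : Subgroup K).map K.subtype : Subgroup G) : Set G) with hN
    have hq : ¬ q ∣ N.index := by
      intro h
      exact hqK (h.trans (Dvd.intro _ (index_mul_card_inf K N hsup)))
    obtain ⟨Q₁⟩ := (inferInstance : Nonempty (Sylow q N))
    obtain ⟨Q, hQ⟩ := Cfsg.Agent.Lib.Basic.SylowUtil.sylow_map_of_not_dvd_index hq Q₁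
    exact ⟨Q, by rw [hQ]; exact Subgroup.map_subtype_le _⟩

/-- The basic criterion: if there is no element of order `p q` then a Sylow `q`-subgroup acts freely
on a Sylow `p`-subgroup of the normal subgroup `K`. -/
theorem exists_card_dvd (K : Subgroup G) [K.Normal] (p q : ℕ) (hp : p.Prime) (hq : q.Prime) (hpq : p ≠ q)
    (hqK : ¬ q ∣ Nat.card K) (hpK : p ∣ Nat.card K) (hno : ¬ ∃ g : G, orderOf g = p * q)
    (Q : Sylow q G) :
    ∃ e : ℕ, 1 ≤ e ∧ p ^ e ∣ Nat.card K ∧ Nat.card (Q : Subgroup G) ∣ p ^ e - 1 := by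
  haveI : Fact p.Prime := ⟨hp⟩
  haveI : Fact q.Prime := ⟨hq⟩
  obtain ⟨P₀, hP₀K, hP₀, hP₀d, Q', hQ'⟩ := exists_sylow_pair K p q hqK
  obtain ⟨e, he⟩ := hP₀.exists_card_eq
  have hcard : Nat.card (Q' : Subgroup G) = Nat.card (Q : Subgroup G) := by
    rw [Sylow.card_eq_multiplicity, Sylow.card_eq_multiplicity]
  have hd := P₀
  have hfree := card_dvd_sub_one (Q' : Subgroup G) P₀ hQ' (by
    intro u hu hu1 v hv hv1 hc
    obtain ⟨a, ha⟩ := Q'.2 ⟨u, hu⟩
    obtain ⟨b, hb⟩ := hP₀ ⟨v, hv⟩
    have ha' : u ^ (q ^ a) = 1 := by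
      have := congrArg Subtype.val ha
      simpa using this
    have hb' : v ^ (p ^ b) = 1 := by
      have := congrArg Subtype.val hb
      simpa using this
    exact hno (exists_order_mul hp hq hpq ha' hb' hu1 hv1 hc))
  refine ⟨e, ?_, ?_, ?_⟩
  · rcases e with _ | e
    · rw [he] at hP₀d
      have := hP₀d hpK
      simp only [pow_zero, Nat.dvd_one] at this
      exact absurd this hp.one_lt.ne'
    · omega
  · rw [← he]
    exact Subgroup.card_dvd_of_le hP₀K
  · rw [← hcard, ← he]
    exact hfree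

/-- Burnside's transfer theorem in a normal subgroup: the complement is normal in the whole group. -/
theorem exists_normal_complement (H : Subgroup G) [H.Normal] {p : ℕ} (hp : p.Prime) (P : Subgroup G)
    (hPH : P ≤ H) (hP : Nat.card P = p) (hp2 : ¬ p ^ 2 ∣ Nat.card H)
    (hnc : ∀ h ∈ H, h ∈ normalizer (P : Set G) → h ∈ centralizer (P : Set G)) :
    ∃ A : Subgroup G, A.Normal ∧ A ≤ H ∧ Nat.card A * p = Nat.card H := by
  classical
  haveI : Fact p.Prime := ⟨hp⟩
  have hP1 : Nat.card (P.subgroupOf H) = p := by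
    rw [← hP]
    exact Nat.card_congr (Subgroup.subgroupOfEquivOfLe hPH).toEquiv
  have hPg : IsPGroup p (P.subgroupOf H) := IsPGroup.of_card (n := 1) (by rw [hP1, pow_one])
  have hnd : ¬ p ∣ (P.subgroupOf H).index := by
    intro hd
    apply hp2
    have h1 := Subgroup.card_mul_index (P.subgroupOf H)
    rw [hP1] at h1
    rw [← h1, pow_two]
    exact mul_dvd_mul_left _ hd
  let P' : Sylow p H := hPg.toSylow hnd
  have hP'c : ((P' : Subgroup H) : Subgroup H) = P.subgroupOf H := rfl
  have hP' : normalizer ((P' : Subgroup H) : Set H) ≤ centralizer ((P' : Subgroup H) : Set H) := by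
    intro h hh
    rw [Subgroup.mem_normalizer_iff] at hh
    have h1 : h.1 ∈ normalizer (P : Set G) := by
      rw [Subgroup.mem_normalizer_iff]
      intro g
      constructor
      · intro hg
        have := (hh ⟨g, hPH hg⟩).1 (by rw [hP'c]; exact hg)
        rw [hP'c] at this
        exact this
      · intro hg
        have hgH : g ∈ H := by
          have h3 : h.1⁻¹ * (h.1 * g * h.1⁻¹) * h.1 ∈ H :=
            H.mul_mem (H.mul_mem (H.inv_mem h.2) (hPH hg)) h.2
          simpa [mul_assoc] using h3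
        have := (hh ⟨g, hgH⟩).2 (by rw [hP'c]; exact hg)
        rw [hP'c] at this
        exact this
    have h2 := hnc h.1 h.2 h1
    rw [Subgroup.mem_centralizer_iff] at h2 ⊢
    intro y hy
    rw [hP'c] at hy
    apply Subtype.ext
    exact h2 y.1 hy
  set f := MonoidHom.transferSylow P' hP' with hf
  have hcomp := MonoidHom.ker_transferSylow_isComplement' P' hP'
  have hcard := hcomp.card_mul
  have hP'card : Nat.card (P' : Subgroup H) = p := hP1
  rw [hP'card] at hcard
  have hnotp : ¬ p ∣ Nat.card f.ker := by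
    intro hd
    apply hp2
    rw [← hcard, pow_two, mul_comm p p]
    exact mul_dvd_mul_right hd _
  have hmem : ∀ g : G, g ∈ f.ker.map H.subtype ↔ g ∈ H ∧ ¬ p ∣ orderOf g := by
    intro g
    constructor
    · rintro ⟨a, ha, rfl⟩
      refine ⟨a.2, ?_⟩
      intro hd
      apply hnotp
      have h1 : orderOf (⟨a, ha⟩ : f.ker) ∣ Nat.card f.ker := orderOf_dvd_natCard _
      have h2 : orderOf (⟨a, ha⟩ : f.ker) = orderOf (a.1) := by
        rw [Subgroup.orderOf_mk, Subgroup.orderOf_coe]
      rw [h2] at h1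
      exact hd.trans h1
    · rintro ⟨hgH, hd⟩
      refine ⟨⟨g, hgH⟩, ?_, rfl⟩
      rw [SetLike.mem_coe, MonoidHom.mem_ker]
      have h1 : orderOf (f ⟨g, hgH⟩) ∣ orderOf g := by
        have h0 := orderOf_map_dvd f (⟨g, hgH⟩ : H)
        rwa [show orderOf (⟨g, hgH⟩ : H) = orderOf g from Subgroup.orderOf_mk _ _] at h0
      have h2 : orderOf (f ⟨g, hgH⟩) ∣ p := by
        have := orderOf_dvd_natCard (f ⟨g, hgH⟩)
        rwa [hP'card] at this
      rcases (Nat.dvd_prime hp).1 h2 with h3 | h3
      · exact orderOf_eq_one_iff.1 h3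
      · rw [h3] at h1
        exact absurd h1 hd
  refine ⟨f.ker.map H.subtype, ?_, Subgroup.map_subtype_le _, ?_⟩
  · constructor
    intro a ha g
    rw [hmem] at ha ⊢
    refine ⟨(inferInstance : H.Normal).conj_mem a ha.1 g, ?_⟩
    have h3 : orderOf (g * a * g⁻¹) = orderOf a := by
      rw [← MulAut.conj_apply, MulEquiv.orderOf_eq]
    rw [h3]
    exact ha.2
  · rw [Subgroup.card_subtype, hcard]

/-- `|N_G(P)| = |C_G(P)| e` with `e ∣ p - 1`. -/
theorem exists_card_norm_eq {p : ℕ} (hp : p.Prime) (P : Subgroup G) (hP : Nat.card P = p) :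
    ∃ e, e ∣ p - 1 ∧ Nat.card (normalizer (P : Set G)) = Nat.card (centralizer (P : Set G)) * e := by
  haveI : Fact p.Prime := ⟨hp⟩
  have hcyc : IsCyclic P := isCyclic_of_prime_card (p := p) hP
  have h6 : Nat.card (MulAut P) = p - 1 := by
    rw [IsCyclic.card_mulAut, hP, Nat.totient_prime hp]
  have key := Subgroup.card_dvd_of_injective _ (QuotientGroup.kerLift_injective P.normalizerMonoidHom)
  rw [Subgroup.normalizerMonoidHom_ker, ← Subgroup.index, ← Subgroup.relIndex, h6] at key
  refine ⟨_, key, ?_⟩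
  have hle : centralizer (P : Set G) ≤ normalizer (P : Set G) := Subgroup.centralizer_le_normalizer _
  exact (Cfsg.Agent.Lib.Perm.SylowIn.card_mul_relIndex hle).symm

theorem card_norm_mul {p : ℕ} [Fact p.Prime] (P : Sylow p G) :
    Nat.card (normalizer ((P : Subgroup G) : Set G)) * Nat.card (Sylow p G) = Nat.card G := by
  rw [P.card_eq_index_normalizer]
  exact Subgroup.card_mul_index _

/-- `zpowers x` centralizes what commutes with `x`. -/
theorem mem_centralizer_of_comm {P : Subgroup G} {x c : G} (hP : zpowers x = P) (hc : c * x = x * c) :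
    c ∈ centralizer (P : Set G) := by
  rw [Subgroup.mem_centralizer_iff]
  intro y hy
  rw [SetLike.mem_coe, ← hP, Subgroup.mem_zpowers_iff] at hy
  obtain ⟨k, rfl⟩ := hy
  exact ((Commute.zpow_right (show Commute c x from hc) k)).symm.eq

/-- The subgroup generated by the elements of odd order. -/
def oTwo (G : Type*) [Group G] : Subgroup G := normalClosure {g : G | Odd (orderOf g)}

instance oTwo_normal : (oTwo G).Normal := by
  unfold oTwo
  infer_instance

theorem mem_oTwo {g : G} (h : Odd (orderOf g)) : g ∈ oTwo G := Subgroup.subset_normalClosure h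

theorem oTwo_hom (f : ↥(oTwo G) →* ℤˣ) (h : ↥(oTwo G)) : f h = 1 := by
  have key : oTwo G ≤ f.ker.map (oTwo G).subtype := by
    refine (Subgroup.closure_le (f.ker.map (oTwo G).subtype)).2 ?_
    intro v hv
    rw [Group.mem_conjugatesOfSet_iff] at hv
    obtain ⟨a, ha, hav⟩ := hv
    have hvo : Odd (orderOf v) := by
      obtain ⟨c, hc⟩ := isConj_iff.1 hav
      rw [← hc, ← MulAut.conj_apply, MulEquiv.orderOf_eq]
      exact ha
    have hvH : v ∈ oTwo G := mem_oTwo hvo
    refine ⟨⟨v, hvH⟩, ?_, rfl⟩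
    rw [SetLike.mem_coe, MonoidHom.mem_ker]
    have h1 : (f ⟨v, hvH⟩) ^ orderOf v = 1 := by
      rw [← map_pow]
      have : (⟨v, hvH⟩ : ↥(oTwo G)) ^ orderOf v = 1 := by
        apply Subtype.ext
        simp [pow_orderOf_eq_one]
      rw [this, map_one]
    rcases Int.units_eq_one_or (f ⟨v, hvH⟩) with h2 | h2
    · exact h2
    · rw [h2, hvo.neg_one_pow] at h1
      exact absurd h1 (by decide)
  obtain ⟨a, ha, hah⟩ := key h.2
  have : a = h := Subtype.ext hah
  rw [← this]
  exact ha

/-- The parity congruence with the sign homomorphisms trivial. -/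
theorem card_comm_modEq_four' {X : Type*} [Group X] [Finite X] [DecidableEq X]
    (hf : ∀ f : X →* ℤˣ, ∀ g, f g = 1) (S : Finset X) (hS : ∀ g : X, ∀ v ∈ S, g * v * g⁻¹ ∈ S) (w : X)
    (hw : w * w = 1) : (S.filter fun v => w * v = v * w).card % 4 = S.card % 4 := by
  classical
  set σ := conjOn S hS w with hσ
  have hσ2 : σ * σ = 1 := by
    rw [hσ, ← map_mul, hw, map_one]
  have hsign : Equiv.Perm.sign σ = 1 := by
    have := hf ((Equiv.Perm.sign : Equiv.Perm ↥S →* ℤˣ).comp (conjOn S hS)) w
    simpa using this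
  have h4 := four_dvd_card_support σ hσ2 hsign
  have hinv : w⁻¹ = w := inv_eq_of_mul_eq_one_left hw
  have hsupp : σ.support.card = (S.filter fun v => ¬ (w * v = v * w)).card := by
    rw [← Finset.card_map (Function.Embedding.subtype _)]
    congr 1
    ext v
    simp only [Finset.mem_map, Equiv.Perm.mem_support, Function.Embedding.subtype_apply, Finset.mem_filter]
    constructor
    · rintro ⟨a, ha, rfl⟩
      refine ⟨a.2, fun hc => ha ?_⟩
      apply Subtype.ext
      rw [hσ, conjOn_apply, hc, mul_assoc, hinv, hw, mul_one]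
    · rintro ⟨hv, hc⟩
      refine ⟨⟨v, hv⟩, fun ha => hc ?_, rfl⟩
      have := congrArg Subtype.val ha
      rw [hσ, conjOn_apply, hinv] at this
      simp only at this
      calc w * v = w * v * w * w := by rw [mul_assoc (w * v), hw, mul_one]
        _ = v * w := by rw [this]
  have hsum := Finset.card_filter_add_card_filter_not (s := S) (fun v => w * v = v * w)
  omega

/-- With the sign homomorphisms trivial, the order is not twice an odd number. -/
theorem four_dvd_of_hom {X : Type*} [Group X] [Finite X] (hf : ∀ f : X →* ℤˣ, ∀ g, f g = 1)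
    (h2 : 2 ∣ Nat.card X) : 4 ∣ Nat.card X := by
  classical
  haveI : Fintype X := Fintype.ofFinite _
  haveI : Fact (Nat.Prime 2) := ⟨Nat.prime_two⟩
  obtain ⟨t, ht⟩ := exists_prime_orderOf_dvd_card' 2 h2
  have ht2 : t * t = 1 := by
    rw [← pow_two, ← ht, pow_orderOf_eq_one]
  have ht1 : t ≠ 1 := by
    rintro rfl
    rw [orderOf_one] at ht
    omega
  set σ := MulAction.toPermHom X X t with hσ
  have hσ2 : σ * σ = 1 := by
    rw [hσ, ← map_mul, ht2, map_one]
  have hsign : Equiv.Perm.sign σ = 1 := by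
    exact hf ((Equiv.Perm.sign : Equiv.Perm X →* ℤˣ).comp (MulAction.toPermHom X X)) t
  have h4 := four_dvd_card_support σ hσ2 hsign
  have hsupp : σ.support = Finset.univ := by
    ext v
    simp only [Equiv.Perm.mem_support, Finset.mem_univ, iff_true]
    intro h
    have h3 : t * v = v := h
    exact ht1 (by simpa using h3)
  rw [hsupp, Finset.card_univ] at h4
  rwa [Nat.card_eq_fintype_card]

/-- Pairwise commuting involutions generate a `2`-group. -/
theorem exists_two_pow_of_commuting {X : Type*} [Group X] [Finite X] (D : Finset X)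
    (hD : ∀ v ∈ D, v * v = 1) (hc : ∀ v ∈ D, ∀ w ∈ D, v * w = w * v) :
    ∃ m, 2 ^ m ∣ Nat.card X ∧ D.card ≤ 2 ^ m := by
  classical
  set B := closure (D : Set X) with hB
  have hcomm : ∀ a ∈ B, ∀ b ∈ B, a * b = b * a := by
    have hI := Subgroup.isMulCommutative_closure (k := (D : Set X)) (fun a ha b hb => hc a ha b hb)
    intro a ha b hb
    exact congrArg Subtype.val (hI.is_comm.comm (⟨a, ha⟩ : B) ⟨b, hb⟩)
  have hsq : ∀ a ∈ B, a * a = 1 := by
    intro a ha
    induction ha using Subgroup.closure_induction with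
    | mem v hv => exact hD v hv
    | one => simp
    | mul a b ha hb h1 h2 =>
      calc a * b * (a * b) = a * (b * a) * b := by group
        _ = a * (a * b) * b := by rw [hcomm b hb a ha]
        _ = (a * a) * (b * b) := by group
        _ = 1 := by rw [h1, h2, one_mul]
    | inv a ha h1 =>
      calc a⁻¹ * a⁻¹ = (a * a)⁻¹ := by group
        _ = 1 := by rw [h1, inv_one]
  have hp : IsPGroup 2 B := by
    intro a
    refine ⟨1, ?_⟩
    apply Subtype.ext
    simp only [pow_one, pow_two, Subgroup.coe_mul, Subgroup.coe_one]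
    exact hsq a.1 a.2
  obtain ⟨m, hm⟩ := hp.exists_card_eq
  refine ⟨m, ?_, ?_⟩
  · rw [← hm]
    exact Subgroup.card_subgroup_dvd_card B
  · rw [← hm]
    have hsub : ∀ v ∈ D, v ∈ B := fun v hv => Subgroup.subset_closure hv
    have : D.card = Nat.card {v // v ∈ D} := (Nat.subtype_card D (fun _ => Iff.rfl)).symm
    rw [this]
    exact Nat.card_le_card_of_injective (fun v => (⟨v.1, hsub v.1 v.2⟩ : B)) (by
      intro a b hab
      apply Subtype.ext
      exact congrArg (fun y : B => (y : X)) hab)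

/-- The commuting part of the class has one element. -/
theorem Kset_card_one {X : Type*} [Group X] [Finite X] (hf : ∀ f : X →* ℤˣ, ∀ g, f g = 1)
    (h2pow : ∀ m, 2 ^ m ∣ Nat.card X → m ≤ 4) (x u : X) (hx : orderOf x = 11) (hu2 : u * u = 1)
    (hxu : x * u = u * x) (hcls : (cls u).card = 45)
    (hCu : ∀ v, v * x = x * v → IsConj u v → v = u) : (Kset u).card = 1 := by
  classical
  have p11 : Nat.Prime 11 := by norm_num
  have hinv : ∀ g : X, ∀ v ∈ cls u, g * v * g⁻¹ ∈ cls u := by
    intro g v hv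
    rw [mem_cls] at hv ⊢
    exact hv.trans (isConj_iff.2 ⟨g, rfl⟩)
  have h4 := card_comm_modEq_four' hf (cls u) hinv u hu2
  have hKeq : Kset u = (cls u).filter fun v => u * v = v * u := by
    ext v
    simp [mem_Kset, mem_cls]
  rw [← hKeq] at h4
  have hxinv : x⁻¹ * u = u * x⁻¹ := by
    calc x⁻¹ * u = x⁻¹ * (u * x) * x⁻¹ := by group
      _ = x⁻¹ * (x * u) * x⁻¹ := by rw [hxu]
      _ = u * x⁻¹ := by group
  have h5 := card_modEq_fixed (Kset u) (fun v => x * v * x⁻¹) (by
      intro v hv
      rw [mem_Kset] at hv ⊢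
      refine ⟨hv.1.trans (isConj_iff.2 ⟨x, rfl⟩), ?_⟩
      calc u * (x * v * x⁻¹) = (u * x) * v * x⁻¹ := by group
        _ = x * (u * v) * x⁻¹ := by rw [← hxu]; group
        _ = x * (v * u) * x⁻¹ := by rw [hv.2]
        _ = x * v * (u * x⁻¹) := by group
        _ = x * v * (x⁻¹ * u) := by rw [hxinv]
        _ = _ := by group) p11 (by
      intro v _
      rw [iter_conj, ← hx, pow_orderOf_eq_one]
      simp)
  have hfix : ((Kset u).filter fun a => x * a * x⁻¹ = a) = {u} := by
    ext v
    simp only [Finset.mem_filter, mem_Kset, Finset.mem_singleton]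
    constructor
    · rintro ⟨⟨hv1, -⟩, hv2⟩
      apply hCu v _ hv1
      calc v * x = x * v * x⁻¹ * x := by rw [hv2]
        _ = x * v := by group
    · rintro rfl
      refine ⟨⟨IsConj.refl _, rfl⟩, ?_⟩
      rw [hxu]
      group
  rw [hfix, Finset.card_singleton] at h5
  have hlt : (Kset u).card < (cls u).card := by
    apply Finset.card_lt_card
    rw [Finset.ssubset_iff_of_subset]
    · by_contra hcon
      push_neg at hcon
      have hcomm : ∀ v, IsConj u v → u * v = v * u := by
        intro v hv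
        have := hcon v ((mem_cls u v).2 hv)
        exact ((mem_Kset u v).1 this).2
      obtain ⟨m, hm1, hm2⟩ := exists_two_pow_of_commuting (cls u) (by
          intro v hv
          obtain ⟨g, rfl⟩ := isConj_iff.1 ((mem_cls u v).1 hv)
          calc g * u * g⁻¹ * (g * u * g⁻¹) = g * (u * u) * g⁻¹ := by group
            _ = 1 := by rw [hu2]; group) (by
          intro v hv w hw
          obtain ⟨g, rfl⟩ := isConj_iff.1 ((mem_cls u v).1 hv)
          have h1 : IsConj u (g⁻¹ * w * g) := by
            have h3 : IsConj u w := (mem_cls u w).1 hw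
            refine h3.trans (isConj_iff.2 ⟨g⁻¹, ?_⟩)
            group
          have h6 := hcomm _ h1
          calc g * u * g⁻¹ * w = g * (u * (g⁻¹ * w * g)) * g⁻¹ := by group
            _ = g * ((g⁻¹ * w * g) * u) * g⁻¹ := by rw [h6]
            _ = w * (g * u * g⁻¹) := by group)
      have h7 := h2pow m hm1
      have h8 : 2 ^ m ≤ 2 ^ 4 := Nat.pow_le_pow_right (by norm_num) h7
      rw [hcls] at hm2
      omega
    · intro v hv
      rw [mem_Kset] at hv
      rw [mem_cls]
      exact hv.1
  rw [hcls] at h4 hlt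
  omega

end General

section Sep

variable {G : Type*} [Group G] [Finite G]

/-- The separation property of the set `A`. -/
def Sep (G : Type*) [Group G] (A : Set ℕ) : Prop :=
  ∀ a ∈ A, ∀ b ∉ A, a.Prime → b.Prime → a ∣ Nat.card G → b ∣ Nat.card G → ¬ ∃ g : G, orderOf g = a * b

/-- All the primes on the same side. -/
def AllSame (A : Set ℕ) : Prop := (2 ∈ A ↔ 3 ∈ A) ∧ (2 ∈ A ↔ 5 ∈ A) ∧ (2 ∈ A ↔ 11 ∈ A)

theorem same_of_adj {A : Set ℕ} (hA : Sep G A) {p q : ℕ} (hp : p.Prime) (hq : q.Prime)
    (hpd : p ∣ Nat.card G) (hqd : q ∣ Nat.card G) (h : ∃ g : G, orderOf g = p * q) : p ∈ A ↔ q ∈ A := by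
  by_contra hne
  by_cases hpA : p ∈ A
  · have hqA : q ∉ A := fun hq' => hne ⟨fun _ => hq', fun _ => hpA⟩
    exact hA p hpA q hqA hp hq hpd hqd h
  · have hqA : q ∈ A := by
      by_contra hq'
      exact hne ⟨fun h' => absurd h' hpA, fun h' => absurd h' hq'⟩
    obtain ⟨g, hg⟩ := h
    exact hA q hqA p hpA hq hp hqd hpd ⟨g, by rw [hg, mul_comm]⟩

theorem same_of_commute {A : Set ℕ} (hA : Sep G A) {p q : ℕ} (hp : p.Prime) (hq : q.Prime) (hpq : p ≠ q)
    (hpd : p ∣ Nat.card G) (hqd : q ∣ Nat.card G) {x y : G} (hx : orderOf x = p) (hy : orderOf y = q)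
    (hc : y * x = x * y) : p ∈ A ↔ q ∈ A := by
  apply same_of_adj hA hp hq hpd hqd
  apply exists_order_mul hp hq hpq (a := 1) (b := 1) (u := y) (v := x)
  · rw [pow_one, ← hy, pow_orderOf_eq_one]
  · rw [pow_one, ← hx, pow_orderOf_eq_one]
  · intro h
    rw [h, orderOf_one] at hy
    exact hq.one_lt.ne hy
  · intro h
    rw [h, orderOf_one] at hx
    exact hp.one_lt.ne hx
  · exact hc

theorem edge {A : Set ℕ} (hA : Sep G A) (K : Subgroup G) [K.Normal] {p q c : ℕ} (hp : p.Prime) (hq : q.Prime)
    (hpd : p ∣ Nat.card G) (hqd : q ∣ Nat.card G) (hpq : p ≠ q) (hc : ∀ Q : Sylow q G, Nat.card (Q : Subgroup G) = c)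
    (hqK : ¬ q ∣ Nat.card K) (hpK : p ∣ Nat.card K) (hnum : ∀ e, 1 ≤ e → p ^ e ∣ Nat.card K → ¬ c ∣ p ^ e - 1) :
    p ∈ A ↔ q ∈ A := by
  haveI : Fact q.Prime := ⟨hq⟩
  obtain ⟨Q⟩ := (inferInstance : Nonempty (Sylow q G))
  apply same_of_adj hA hp hq hpd hqd
  by_contra hno
  obtain ⟨e, he1, he2, he3⟩ := exists_card_dvd K p q hp hq hpq hqK hpK hno Q
  rw [hc Q] at he3
  exact hnum e he1 he2 he3

theorem exp_le {p e n : ℕ} (hp : 2 ≤ p) (h : p ^ e ∣ n) (hn : n ∣ 7920) : e ≤ 12 := by
  by_contra hne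
  have h1 : 2 ^ 13 ≤ 2 ^ e := Nat.pow_le_pow_right (by norm_num) (by omega)
  have h2 : 2 ^ e ≤ p ^ e := Nat.pow_le_pow_left hp e
  have h3 : p ^ e ≤ 7920 := Nat.le_of_dvd (by norm_num) (h.trans hn)
  omega

theorem num_check {p c : ℕ} (hp : 2 ≤ p) (hcheck : ∀ e ∈ Finset.Icc 1 12, p ^ e ∣ 7920 → ¬ c ∣ p ^ e - 1)
    {d : ℕ} (hd : d ∣ 7920) : ∀ e, 1 ≤ e → p ^ e ∣ d → ¬ c ∣ p ^ e - 1 := by
  intro e he1 he2
  exact hcheck e (Finset.mem_Icc.2 ⟨he1, exp_le hp he2 hd⟩) (he2.trans hd)

theorem dvd_sixteen {d : ℕ} (hd : d ∣ 7920) (h3 : ¬ 3 ∣ d) (h5 : ¬ 5 ∣ d) (h11 : ¬ 11 ∣ d) : d ∣ 16 := by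
  have h30 : Nat.Coprime d 3 := ((Nat.Prime.coprime_iff_not_dvd Nat.prime_three).2 h3).symm
  have h50 : Nat.Coprime d 5 := ((Nat.Prime.coprime_iff_not_dvd Nat.prime_five).2 h5).symm
  have h110 : Nat.Coprime d 11 := ((Nat.Prime.coprime_iff_not_dvd (by norm_num)).2 h11).symm
  have hc : Nat.Coprime d 495 := by
    have : (495 : ℕ) = 3 * 3 * 5 * 11 := by norm_num
    rw [this]
    exact Nat.Coprime.mul_right (Nat.Coprime.mul_right (Nat.Coprime.mul_right h30 h30) h50) h110
  have h7920 : (7920 : ℕ) = 16 * 495 := by norm_num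
  rw [h7920] at hd
  exact hc.dvd_of_dvd_mul_right hd

variable (hG : Nat.card G = 7920) {A : Set ℕ} (hA : Sep G A)

include hG in
theorem dvd_card {p : ℕ} (h : p ∣ 7920) : p ∣ Nat.card G := by rwa [hG]

include hG in
theorem card_syl2 (Q : Sylow 2 G) : Nat.card (Q : Subgroup G) = 16 := by
  haveI : Fact (Nat.Prime 2) := ⟨Nat.prime_two⟩
  exact card_sylow_eq (a := 4) (m := 495) (by rw [hG]; norm_num) (by norm_num) Q

include hG in
theorem card_syl3 (Q : Sylow 3 G) : Nat.card (Q : Subgroup G) = 9 := by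
  haveI : Fact (Nat.Prime 3) := ⟨Nat.prime_three⟩
  exact card_sylow_eq (a := 2) (m := 880) (by rw [hG]; norm_num) (by norm_num) Q

include hG in
theorem card_syl5 (Q : Sylow 5 G) : Nat.card (Q : Subgroup G) = 5 := by
  haveI : Fact (Nat.Prime 5) := ⟨Nat.prime_five⟩
  exact card_sylow_eq (a := 1) (m := 1584) (by rw [hG]; norm_num) (by norm_num) Q

include hG in
theorem card_syl11 [Fact (Nat.Prime 11)] (Q : Sylow 11 G) : Nat.card (Q : Subgroup G) = 11 := by
  exact card_sylow_eq (a := 1) (m := 720) (by rw [hG]; norm_num) (by norm_num) Q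

include hG hA in
/-- A nontrivial normal subgroup of order prime to `11`, not of order `16`. -/
theorem step1a (K : Subgroup G) [K.Normal] (hK : K ≠ ⊥) (h11 : ¬ 11 ∣ Nat.card K) (h16 : Nat.card K ≠ 16) :
    AllSame A := by
  haveI : Fact (Nat.Prime 11) := ⟨by norm_num⟩
  have p2 : Nat.Prime 2 := Nat.prime_two
  have p3 : Nat.Prime 3 := Nat.prime_three
  have p5 : Nat.Prime 5 := Nat.prime_five
  have p11 : Nat.Prime 11 := by norm_num
  have d2 : 2 ∣ Nat.card G := dvd_card hG (by norm_num)
  have d3 : 3 ∣ Nat.card G := dvd_card hG (by norm_num)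
  have d5 : 5 ∣ Nat.card G := dvd_card hG (by norm_num)
  have d11 : 11 ∣ Nat.card G := dvd_card hG (by norm_num)
  have hd : Nat.card K ∣ 7920 := by
    rw [← hG]
    exact Subgroup.card_subgroup_dvd_card K
  by_cases h5 : 5 ∣ Nat.card K
  · have e1 : 5 ∈ A ↔ 11 ∈ A := edge hA K p5 p11 d5 d11 (by norm_num) (card_syl11 hG) h11 h5
      (num_check (by norm_num) (by decide) hd)
    have e2 : 3 ∈ A ↔ 5 ∈ A := by
      by_cases h3 : 3 ∣ Nat.card K
      · have : 3 ∈ A ↔ 11 ∈ A := edge hA K p3 p11 d3 d11 (by norm_num) (card_syl11 hG) h11 h3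
          (num_check (by norm_num) (by decide) hd)
        tauto
      · have : 5 ∈ A ↔ 3 ∈ A := edge hA K p5 p3 d5 d3 (by norm_num) (card_syl3 hG) h3 h5
          (num_check (by norm_num) (by decide) hd)
        tauto
    have e3 : 2 ∈ A ↔ 5 ∈ A := by
      by_cases h2 : 2 ∣ Nat.card K
      · have : 2 ∈ A ↔ 11 ∈ A := edge hA K p2 p11 d2 d11 (by norm_num) (card_syl11 hG) h11 h2
          (num_check (by norm_num) (by decide) hd)
        tauto
      · have : 5 ∈ A ↔ 2 ∈ A := edge hA K p5 p2 d5 d2 (by norm_num) (card_syl2 hG) h2 h5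
          (num_check (by norm_num) (by decide) hd)
        tauto
    exact ⟨by tauto, by tauto, by tauto⟩
  · by_cases h3 : 3 ∣ Nat.card K
    · have e1 : 3 ∈ A ↔ 5 ∈ A := edge hA K p3 p5 d3 d5 (by norm_num) (card_syl5 hG) h5 h3
        (num_check (by norm_num) (by decide) hd)
      have e2 : 3 ∈ A ↔ 11 ∈ A := edge hA K p3 p11 d3 d11 (by norm_num) (card_syl11 hG) h11 h3
        (num_check (by norm_num) (by decide) hd)
      have e3 : 2 ∈ A ↔ 3 ∈ A := by
        by_cases h2 : 2 ∣ Nat.card K
        · have : 2 ∈ A ↔ 11 ∈ A := edge hA K p2 p11 d2 d11 (by norm_num) (card_syl11 hG) h11 h2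
            (num_check (by norm_num) (by decide) hd)
          tauto
        · have : 3 ∈ A ↔ 2 ∈ A := edge hA K p3 p2 d3 d2 (by norm_num) (card_syl2 hG) h2 h3
            (num_check (by norm_num) (by decide) hd)
          tauto
      exact ⟨by tauto, by tauto, by tauto⟩
    · have h16' := dvd_sixteen hd h3 h5 h11
      have h8 : Nat.card K ∣ 8 := by
        obtain ⟨k, -, hk⟩ := (Nat.dvd_prime_pow p2).1 (show Nat.card K ∣ 2 ^ 4 from h16')
        have hk4 : k ≤ 4 := by
          obtain ⟨k', hk'4, hk'⟩ := (Nat.dvd_prime_pow p2).1 (show Nat.card K ∣ 2 ^ 4 from h16')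
          have : 2 ^ k = 2 ^ k' := by rw [← hk, hk']
          have := Nat.pow_right_injective (le_refl 2) this
          omega
        interval_cases k <;> simp_all
      have h2 : 2 ∣ Nat.card K := by
        by_contra h2
        have h1 : Nat.card K = 1 := by
          obtain ⟨k, hk4, hk⟩ := (Nat.dvd_prime_pow p2).1 (show Nat.card K ∣ 2 ^ 4 from h16')
          rcases k with _ | k
          · simpa using hk
          · exact absurd (hk ▸ dvd_pow_self 2 (by omega)) h2
        exact hK (Subgroup.card_eq_one.1 h1)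
      have e1 : 2 ∈ A ↔ 11 ∈ A := edge hA K p2 p11 d2 d11 (by norm_num) (card_syl11 hG) h11 h2
        (num_check (by norm_num) (by decide) hd)
      have e2 : 2 ∈ A ↔ 3 ∈ A := edge hA K p2 p3 d2 d3 (by norm_num) (card_syl3 hG) h3 h2
        (num_check (by norm_num) (by decide) hd)
      have e3 : 2 ∈ A ↔ 5 ∈ A := edge hA K p2 p5 d2 d5 (by norm_num) (card_syl5 hG) h5 h2 (by
        intro e he1 he2
        have he4 : e ≤ 3 := by
          by_contra hne
          have h1 : 2 ^ 4 ≤ 2 ^ e := Nat.pow_le_pow_right (by norm_num) (by omega)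
          have h2 : 2 ^ e ≤ 8 := Nat.le_of_dvd (by norm_num) (he2.trans h8)
          omega
        interval_cases e <;> norm_num)
      exact ⟨e2, e3, e1⟩

theorem exists_elt (C : Subgroup G) (r : ℕ) (hr : r.Prime) (h : r ∣ Nat.card C) : ∃ y ∈ C, orderOf y = r := by
  haveI : Fact r.Prime := ⟨hr⟩
  obtain ⟨y, hy⟩ := exists_prime_orderOf_dvd_card' r h
  exact ⟨y.1, y.2, by rw [Subgroup.orderOf_coe, hy]⟩

include hG in
theorem card_norm_cases [Fact (Nat.Prime 11)] (P : Sylow 11 G) :
    Nat.card (normalizer ((P : Subgroup G) : Set G)) = 7920 ∨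
    Nat.card (normalizer ((P : Subgroup G) : Set G)) = 660 ∨
    Nat.card (normalizer ((P : Subgroup G) : Set G)) = 176 ∨
    Nat.card (normalizer ((P : Subgroup G) : Set G)) = 55 := by
  have h1 := card_norm_mul P
  have h2 : Nat.card (Sylow 11 G) % 11 = 1 := card_sylow_modEq_one 11 G
  have h3 : 11 ∣ Nat.card (normalizer ((P : Subgroup G) : Set G)) := by
    have h4 := Subgroup.card_dvd_of_le (Subgroup.le_normalizer (H := (P : Subgroup G)))
    rwa [card_syl11 hG P] at h4
  obtain ⟨m, hm⟩ := h3
  rw [hG, hm] at h1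
  rw [hm]
  set n := Nat.card (Sylow 11 G)
  obtain ⟨k, hk⟩ : ∃ k, n = 11 * k + 1 := ⟨n / 11, by omega⟩
  have hm0 : 1 ≤ m := by
    rcases m with _ | m
    · simp at h1
    · omega
  have hk65 : k ≤ 65 := by
    by_contra hne
    have : 66 ≤ k := by omega
    have h5 : 66 * 11 + 1 ≤ n := by omega
    have h6 : 1 * n ≤ m * n := Nat.mul_le_mul_right n hm0
    have : 11 * m * n = 7920 := h1
    nlinarith
  rw [hk] at h1
  interval_cases k <;> omega

/-- A generator. -/
theorem exists_gen [Fact (Nat.Prime 11)] (P : Subgroup G) (hP : Nat.card P = 11) :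
    ∃ x ∈ P, orderOf x = 11 ∧ zpowers x = P := by
  obtain ⟨x, hxP, hx⟩ := exists_elt P 11 (by norm_num) (by rw [hP])
  refine ⟨x, hxP, hx, ?_⟩
  apply Subgroup.eq_of_le_of_card_ge
  · exact (Subgroup.zpowers_le).2 hxP
  · rw [Nat.card_zpowers, hx, hP]

include hG hA in
theorem case_one [Fact (Nat.Prime 11)] (P : Sylow 11 G)
    (hN : Nat.card (normalizer ((P : Subgroup G) : Set G)) = 7920) : AllSame A := by
  have p2 : Nat.Prime 2 := Nat.prime_two
  have p3 : Nat.Prime 3 := Nat.prime_three
  have p5 : Nat.Prime 5 := Nat.prime_five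
  have p11 : Nat.Prime 11 := by norm_num
  have d2 : 2 ∣ Nat.card G := dvd_card hG (by norm_num)
  have d3 : 3 ∣ Nat.card G := dvd_card hG (by norm_num)
  have d5 : 5 ∣ Nat.card G := dvd_card hG (by norm_num)
  have d11 : 11 ∣ Nat.card G := dvd_card hG (by norm_num)
  have hNt : normalizer ((P : Subgroup G) : Set G) = ⊤ :=
    Subgroup.eq_top_of_card_eq _ (by rw [hN, hG])
  haveI hPn : (P : Subgroup G).Normal := Subgroup.normalizer_eq_top_iff.1 hNt
  obtain ⟨x, hxP, hx, hzx⟩ := exists_gen (P : Subgroup G) (card_syl11 hG P)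
  obtain ⟨e, he, hcard⟩ := exists_card_norm_eq p11 (P : Subgroup G) (card_syl11 hG P)
  haveI hCn : (centralizer (((P : Subgroup G)) : Set G)).Normal := inferInstance
  set C := centralizer (((P : Subgroup G)) : Set G) with hC
  rw [hN] at hcard
  have he' : e ≤ 10 := Nat.le_of_dvd (by norm_num) he
  have hcomm : ∀ y ∈ C, y * x = x * y := fun y hy => (Subgroup.mem_centralizer_iff.1 hy x hxP).symm
  have hd2 : 2 ∣ Nat.card C ∧ 3 ∣ Nat.card C := by
    interval_cases e <;> first | omega | (exfalso; revert he; norm_num)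
  obtain ⟨y2, hy2, hy2o⟩ := exists_elt C 2 p2 hd2.1
  obtain ⟨y3, hy3, hy3o⟩ := exists_elt C 3 p3 hd2.2
  have e1 : 11 ∈ A ↔ 2 ∈ A := same_of_commute hA p11 p2 (by norm_num) d11 d2 hx hy2o (hcomm _ hy2)
  have e2 : 11 ∈ A ↔ 3 ∈ A := same_of_commute hA p11 p3 (by norm_num) d11 d3 hx hy3o (hcomm _ hy3)
  have hd : Nat.card C ∣ 7920 := by
    rw [← hG]
    exact Subgroup.card_subgroup_dvd_card C
  have e3 : 3 ∈ A ↔ 5 ∈ A := by
    by_cases h5 : 5 ∣ Nat.card C
    · obtain ⟨y5, hy5, hy5o⟩ := exists_elt C 5 p5 h5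
      have : 11 ∈ A ↔ 5 ∈ A := same_of_commute hA p11 p5 (by norm_num) d11 d5 hx hy5o (hcomm _ hy5)
      tauto
    · exact edge hA C p3 p5 d3 d5 (by norm_num) (card_syl5 hG) h5 hd2.2
        (num_check (by norm_num) (by decide) hd)
  exact ⟨by tauto, by tauto, by tauto⟩

/-- An element of order 11 is centralized by a normal subgroup of order 16. -/
theorem le_centralizer_of_sixteen (K : Subgroup G) [K.Normal] (hK : Nat.card K = 16) (x : G)
    (hx : orderOf x = 11) (c : G) (hc : c ∈ K) : c * x = x * c := by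
  classical
  have p11 : Nat.Prime 11 := by norm_num
  set S : Finset G := (Set.toFinite (K : Set G)).toFinset with hS
  have hSm : ∀ v, v ∈ S ↔ v ∈ K := by
    intro v
    simp [hS]
  have hScard : S.card = 16 := by
    rw [← hK]
    exact (Nat.subtype_card S hSm).symm
  have h1 := card_modEq_fixed S (fun v => x * v * x⁻¹)
    (by
      intro v hv
      rw [hSm] at hv ⊢
      exact (inferInstance : K.Normal).conj_mem v hv x) p11
    (by
      intro v _
      rw [iter_conj, ← hx, pow_orderOf_eq_one]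
      simp)
  set L : Subgroup G := K ⊓ centralizer ({x} : Set G) with hL
  have hFm : ∀ v, v ∈ (S.filter fun a => x * a * x⁻¹ = a) ↔ v ∈ L := by
    intro v
    rw [Finset.mem_filter, hSm, hL, Subgroup.mem_inf, Subgroup.mem_centralizer_singleton_iff]
    refine and_congr_right fun _ => ?_
    constructor
    · intro h
      calc v * x = x * v * x⁻¹ * x := by rw [h]
        _ = x * v := by group
    · intro h
      rw [← h]
      group
  have hFcard : (S.filter fun a => x * a * x⁻¹ = a).card = Nat.card L :=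
    (Nat.subtype_card _ hFm).symm
  rw [hFcard, hScard] at h1
  have hLd : Nat.card L ∣ 16 := by
    rw [← hK]
    exact Subgroup.card_dvd_of_le inf_le_left
  have hL16 : Nat.card L = 16 := by
    have hle := Nat.le_of_dvd (by norm_num) hLd
    interval_cases h : Nat.card L <;> omega
  have hLK : L = K := by
    apply Subgroup.eq_of_le_of_card_ge inf_le_left
    rw [hK, hL16]
  have : c ∈ L := hLK ▸ hc
  have h2 : c ∈ centralizer ({x} : Set G) := (Subgroup.mem_inf.1 this).2
  rw [Subgroup.mem_centralizer_singleton_iff] at h2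
  exact h2

include hG hA in
/-- A nontrivial normal subgroup of order prime to `11`. -/
theorem step1 (K : Subgroup G) [K.Normal] (hK : K ≠ ⊥) (h11 : ¬ 11 ∣ Nat.card K) : AllSame A := by
  by_cases h16 : Nat.card K = 16
  · haveI : Fact (Nat.Prime 11) := ⟨by norm_num⟩
    have p11 : Nat.Prime 11 := by norm_num
    obtain ⟨P⟩ := (inferInstance : Nonempty (Sylow 11 G))
    obtain ⟨x, hxP, hx, hzx⟩ := exists_gen (P : Subgroup G) (card_syl11 hG P)
    obtain ⟨e, he, hcard⟩ := exists_card_norm_eq p11 (P : Subgroup G) (card_syl11 hG P)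
    have hKC : K ≤ centralizer (((P : Subgroup G)) : Set G) := by
      intro c hc
      exact mem_centralizer_of_comm hzx (le_centralizer_of_sixteen K h16 x hx c hc)
    have hPC : (P : Subgroup G) ≤ centralizer (((P : Subgroup G)) : Set G) := by
      intro c hc
      apply mem_centralizer_of_comm hzx
      rw [← hzx, Subgroup.mem_zpowers_iff] at hc
      obtain ⟨k, rfl⟩ := hc
      exact (Commute.zpow_left (Commute.refl x) k).eq
    have h1 : 16 ∣ Nat.card (centralizer (((P : Subgroup G)) : Set G)) := by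
      rw [← h16]
      exact Subgroup.card_dvd_of_le hKC
    have h2 : 11 ∣ Nat.card (centralizer (((P : Subgroup G)) : Set G)) := by
      have := Subgroup.card_dvd_of_le hPC
      rwa [card_syl11 hG P] at this
    have h3 : 176 ∣ Nat.card (centralizer (((P : Subgroup G)) : Set G)) :=
      Nat.Coprime.mul_dvd_of_dvd_of_dvd (by norm_num : Nat.Coprime 16 11) h1 h2
    rcases card_norm_cases hG P with h | h | h | h
    · exact case_one hG hA P h
    · exfalso
      rw [h] at hcard
      exact absurd (h3.trans (Dvd.intro _ hcard.symm)) (by norm_num)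
    · -- `N(P) = C(P)`
      have hCle : centralizer (((P : Subgroup G)) : Set G) ≤ normalizer (((P : Subgroup G)) : Set G) :=
        Subgroup.centralizer_le_normalizer _
      have hCeq : centralizer (((P : Subgroup G)) : Set G) = normalizer (((P : Subgroup G)) : Set G) := by
        apply Subgroup.eq_of_le_of_card_ge hCle
        rw [h]
        exact Nat.le_of_dvd (Nat.pos_of_ne_zero Nat.card_pos.ne') (by
          rw [h] at hcard
          obtain ⟨b, hb⟩ := h3
          have h4 := Nat.le_of_dvd (by norm_num) (Dvd.intro_left _ (Eq.symm hcard))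
          omega)
      obtain ⟨A', hA'n, -, hA'c⟩ := exists_normal_complement (⊤ : Subgroup G) p11 (P : Subgroup G) le_top
        (card_syl11 hG P) (by rw [Subgroup.card_top, hG]; norm_num) (by
          intro g _ hg
          rw [hCeq]
          exact hg)
      rw [Subgroup.card_top, hG] at hA'c
      have hA'720 : Nat.card A' = 720 := by omega
      exact step1a hG hA A' (by
        rintro rfl
        simp at hA'720) (by rw [hA'720]; norm_num) (by rw [hA'720]; norm_num)
    · exfalso
      rw [h] at hcard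
      exact absurd (h3.trans (Dvd.intro _ hcard.symm)) (by norm_num)
  · exact step1a hG hA K hK h11 h16

/-- A normal subgroup containing an element of order `p` contains a Sylow subgroup of order `p`. -/
theorem sylow_le_normal {p : ℕ} [Fact p.Prime] (hcard : ∀ Q : Sylow p G, Nat.card (Q : Subgroup G) = p)
    (K : Subgroup G) [K.Normal] (hd : p ∣ Nat.card K) (P : Sylow p G) : (P : Subgroup G) ≤ K := by
  obtain ⟨y, hyK, hy⟩ := exists_elt K p Fact.out hd
  have hQ : IsPGroup p (Subgroup.zpowers y) :=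
    IsPGroup.of_card (n := 1) (by rw [Nat.card_zpowers, hy, pow_one])
  obtain ⟨R, hR⟩ := hQ.exists_le_sylow
  have hRz : (R : Subgroup G) = zpowers y := by
    symm
    apply Subgroup.eq_of_le_of_card_ge hR
    rw [hcard R, Nat.card_zpowers, hy]
  obtain ⟨g, hg⟩ := MulAction.exists_smul_eq G R P
  intro a ha
  rw [← hg] at ha
  have h1 : a ∈ (MulAut.conj g • (R : Subgroup G) : Subgroup G) := ha
  rw [Subgroup.mem_pointwise_smul_iff_inv_smul_mem] at h1
  have h2 : (MulAut.conj g)⁻¹ • a ∈ K := by
    have : (MulAut.conj g)⁻¹ • a ∈ zpowers y := hRz ▸ h1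
    exact (Subgroup.zpowers_le.2 hyK) this
  have h3 : g * ((MulAut.conj g)⁻¹ • a) * g⁻¹ ∈ K := (inferInstance : K.Normal).conj_mem _ h2 g
  have h4 : g * ((MulAut.conj g)⁻¹ • a) * g⁻¹ = a := by
    rw [MulAut.smul_def, MulAut.conj_inv_apply]
    group
  rwa [h4] at h3

include hG hA in
theorem case_twelve [Fact (Nat.Prime 11)] (P : Sylow 11 G)
    (hN : Nat.card (normalizer ((P : Subgroup G) : Set G)) = 660) : AllSame A := by
  classical
  have p11 : Nat.Prime 11 := by norm_num
  set N := normalizer ((P : Subgroup G) : Set G) with hNdef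
  obtain ⟨x, hxP, hx, hzx⟩ := exists_gen (P : Subgroup G) (card_syl11 hG P)
  have hPc := card_syl11 hG P
  by_cases hK : N.normalCore = ⊥
  · exfalso
    obtain ⟨e, he, hcard⟩ := exists_card_norm_eq p11 (P : Subgroup G) hPc
    rw [hN] at hcard
    have he' : e ≤ 10 := Nat.le_of_dvd (by norm_num) he
    have hd2 : 2 ∣ Nat.card (centralizer (((P : Subgroup G)) : Set G)) := by
      interval_cases e <;> first | omega | (exfalso; revert he; norm_num)
    obtain ⟨c, hcC, hco⟩ := exists_elt _ 2 Nat.prime_two hd2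
    have hcx : c * x = x * c := (Subgroup.mem_centralizer_iff.1 hcC x hxP).symm
    have hcN : c ∈ N := Subgroup.centralizer_le_normalizer _ hcC
    haveI : Fintype (G ⧸ N) := Fintype.ofFinite _
    have hΩ : Fintype.card (G ⧸ N) = 12 := by
      rw [← Nat.card_eq_fintype_card]
      have h1 := Subgroup.card_mul_index N
      rw [hN, hG] at h1
      have h2 : N.index = Nat.card (G ⧸ N) := rfl
      omega
    set F : Finset (G ⧸ N) := Finset.univ.filter fun ω => c • ω = ω with hF
    have hF2 := card_modEq_fixed (Finset.univ : Finset (G ⧸ N)) (fun ω => c • ω)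
      (fun _ _ => Finset.mem_univ _) Nat.prime_two (by
        intro ω _
        rw [smul_iterate]
        show c ^ 2 • ω = ω
        rw [← hco, pow_orderOf_eq_one, one_smul])
    rw [Finset.card_univ, hΩ] at hF2
    have hF11 := card_modEq_fixed F (fun ω => x • ω)
      (by
        intro ω hω
        rw [hF, Finset.mem_filter] at hω ⊢
        refine ⟨Finset.mem_univ _, ?_⟩
        rw [smul_smul, hcx, mul_smul, hω.2]) p11 (by
        intro ω _
        rw [smul_iterate]
        show x ^ 11 • ω = ω
        rw [← hx, pow_orderOf_eq_one, one_smul])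
    have hfix : (F.filter fun ω => x • ω = ω) = {((1 : G) : G ⧸ N)} := by
      ext ω
      rw [Finset.mem_filter, Finset.mem_singleton]
      constructor
      · rintro ⟨-, hω⟩
        induction ω using QuotientGroup.induction_on with
        | H g =>
          rw [MulAction.Quotient.smul_mk] at hω
          have h2 := QuotientGroup.eq.mp hω.symm
          have h3 : g⁻¹ * x * g ∈ N := by simpa [mul_assoc] using h2
          have h4 : g ∈ N := mem_normalizer_of_conj_mem P hPc x hxP hx g h3
          rw [QuotientGroup.eq]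
          simpa using h4
      · rintro rfl
        constructor
        · rw [hF, Finset.mem_filter]
          refine ⟨Finset.mem_univ _, ?_⟩
          rw [MulAction.Quotient.smul_mk, QuotientGroup.eq]
          simpa using hcN
        · rw [MulAction.Quotient.smul_mk, QuotientGroup.eq]
          have : x ∈ N := Subgroup.le_normalizer hxP
          simpa using this
    rw [hfix, Finset.card_singleton] at hF11
    have hFle : F.card ≤ 12 := by
      rw [← hΩ]
      exact Finset.card_le_univ _
    have hF12 : F.card = 12 := by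
      interval_cases h : F.card <;> omega
    have hFuniv : F = Finset.univ := by
      apply Finset.eq_univ_of_card
      rw [hF12, hΩ]
    have hcK : c ∈ N.normalCore := by
      change ∀ h : G, h * c * h⁻¹ ∈ N
      intro h
      have h1 : ((h⁻¹ : G) : G ⧸ N) ∈ F := by
        rw [hFuniv]
        exact Finset.mem_univ _
      rw [hF, Finset.mem_filter, MulAction.Quotient.smul_mk] at h1
      have h2 := QuotientGroup.eq.mp h1.2.symm
      simpa [mul_assoc] using h2
    rw [hK, Subgroup.mem_bot] at hcK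
    rw [hcK, orderOf_one] at hco
    omega
  · apply step1 hG hA N.normalCore hK
    intro h11
    have hPK : (P : Subgroup G) ≤ N.normalCore := sylow_le_normal (card_syl11 hG) _ h11 P
    have hxK : x ∈ N.normalCore := hPK hxP
    have htop : N = ⊤ := by
      rw [eq_top_iff]
      intro g _
      apply mem_normalizer_of_conj_mem P hPc x hxP hx g
      have h1 : g⁻¹ * x * g⁻¹⁻¹ ∈ N.normalCore :=
        (inferInstance : (N.normalCore).Normal).conj_mem x hxK g⁻¹
      rw [inv_inv] at h1
      exact Subgroup.normalCore_le _ h1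
    rw [htop, Subgroup.card_top, hG] at hN
    omega

include hG hA in
theorem case_144 [Fact (Nat.Prime 11)] (P : Sylow 11 G)
    (hN : Nat.card (normalizer ((P : Subgroup G) : Set G)) = 55)
    (M : Subgroup G) [M.Normal] (h1 : M ≠ ⊥) (h2 : M ≠ ⊤) : AllSame A := by
  have p11 : Nat.Prime 11 := by norm_num
  by_cases h11 : 11 ∣ Nat.card M
  · have hPc := card_syl11 hG P
    have hPM : (P : Subgroup G) ≤ M := sylow_le_normal (card_syl11 hG) _ h11 P
    have hsup : normalizer (((P : Subgroup G)) : Set G) ⊔ M = ⊤ := Sylow.normalizer_sup_eq_top' P hPM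
    have h3 := index_mul_card_inf M _ hsup
    have hidx : (normalizer (((P : Subgroup G)) : Set G)).index = 144 := by
      have h4 := Subgroup.card_mul_index (normalizer (((P : Subgroup G)) : Set G))
      rw [hN, hG] at h4
      omega
    rw [hidx] at h3
    set I : Subgroup G := M ⊓ normalizer (((P : Subgroup G)) : Set G) with hI
    have hPI : (P : Subgroup G) ≤ I := le_inf hPM Subgroup.le_normalizer
    have hId : Nat.card I ∣ 55 := by
      rw [← hN]
      exact Subgroup.card_dvd_of_le inf_le_right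
    have hPId : 11 ∣ Nat.card I := by
      have := Subgroup.card_dvd_of_le hPI
      rwa [hPc] at this
    have hI11 : Nat.card I = 11 := by
      have hle := Nat.le_of_dvd (by norm_num) hId
      have hne : Nat.card I ≠ 55 := by
        intro h55
        rw [h55] at h3
        apply h2
        apply Subgroup.eq_top_of_card_eq
        rw [hG, ← h3]
      obtain ⟨k, hk⟩ := hPId
      rw [hk] at hle hne ⊢
      have hk5 : k ≤ 5 := by omega
      interval_cases k <;> first | omega | (exfalso; rw [hk] at hId; revert hId; norm_num)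
    have hIP : I = (P : Subgroup G) := by
      symm
      apply Subgroup.eq_of_le_of_card_ge hPI
      rw [hI11, hPc]
    rw [hI11] at h3
    obtain ⟨x, hxP, hx, hzx⟩ := exists_gen (P : Subgroup G) hPc
    obtain ⟨A', hA'n, -, hA'c⟩ := exists_normal_complement M p11 (P : Subgroup G) hPM hPc
      (by rw [← h3]; norm_num) (by
        intro g hgM hg
        have h5 : g ∈ I := ⟨hgM, hg⟩
        rw [hIP] at h5
        apply mem_centralizer_of_comm hzx
        rw [← hzx, Subgroup.mem_zpowers_iff] at h5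
        obtain ⟨k, rfl⟩ := h5
        exact (Commute.zpow_left (Commute.refl x) k).eq)
    have hA'144 : Nat.card A' = 144 := by omega
    exact step1a hG hA A' (by
      rintro rfl
      simp at hA'144) (by rw [hA'144]; norm_num) (by rw [hA'144]; norm_num)
  · exact step1 hG hA M h1 h11

include hG hA in
/-- A nontrivial normal subgroup of odd order, `N(P)` of order `176`. -/
theorem reduce_odd [Fact (Nat.Prime 11)] (P : Sylow 11 G)
    (hN : Nat.card (normalizer ((P : Subgroup G) : Set G)) = 176)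
    (K : Subgroup G) [K.Normal] (hK : K ≠ ⊥) (hodd : ¬ 2 ∣ Nat.card K) : AllSame A := by
  have p11 : Nat.Prime 11 := by norm_num
  by_cases h11 : 11 ∣ Nat.card K
  · have hPc := card_syl11 hG P
    have hPK : (P : Subgroup G) ≤ K := sylow_le_normal (card_syl11 hG) _ h11 P
    set I : Subgroup G := K ⊓ normalizer (((P : Subgroup G)) : Set G) with hI
    have hPI : (P : Subgroup G) ≤ I := le_inf hPK Subgroup.le_normalizer
    have hId : Nat.card I ∣ 176 := by
      rw [← hN]
      exact Subgroup.card_dvd_of_le inf_le_right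
    have hIK : Nat.card I ∣ Nat.card K := Subgroup.card_dvd_of_le inf_le_left
    have hPId : 11 ∣ Nat.card I := by
      have := Subgroup.card_dvd_of_le hPI
      rwa [hPc] at this
    have hI2 : ¬ 2 ∣ Nat.card I := fun h => hodd (h.trans hIK)
    have hI11 : Nat.card I = 11 := by
      obtain ⟨k, hk⟩ := hPId
      rw [hk] at hId hI2
      have hk16 : k ∣ 16 := by
        have : 11 * k ∣ 11 * 16 := hId
        exact Nat.dvd_of_mul_dvd_mul_left (by norm_num) this
      have hk2 : ¬ 2 ∣ k := fun h => hI2 (h.trans (dvd_mul_left _ _))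
      obtain ⟨j, -, hj⟩ := (Nat.dvd_prime_pow Nat.prime_two).1 (show k ∣ 2 ^ 4 from hk16)
      rcases j with _ | j
      · rw [hk, hj]
        norm_num
      · exact absurd (hj ▸ dvd_pow_self 2 (by omega)) hk2
    have hIP : I = (P : Subgroup G) := by
      symm
      apply Subgroup.eq_of_le_of_card_ge hPI
      rw [hI11, hPc]
    have hKd : Nat.card K ∣ 7920 := by
      rw [← hG]
      exact Subgroup.card_subgroup_dvd_card K
    have h121 : ¬ 11 ^ 2 ∣ Nat.card K := fun h => absurd (h.trans hKd) (by norm_num)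
    obtain ⟨x, hxP, hx, hzx⟩ := exists_gen (P : Subgroup G) hPc
    obtain ⟨A', hA'n, -, hA'c⟩ := exists_normal_complement K p11 (P : Subgroup G) hPK hPc h121 (by
        intro g hgM hg
        have h5 : g ∈ I := ⟨hgM, hg⟩
        rw [hIP] at h5
        apply mem_centralizer_of_comm hzx
        rw [← hzx, Subgroup.mem_zpowers_iff] at h5
        obtain ⟨k, rfl⟩ := h5
        exact (Commute.zpow_left (Commute.refl x) k).eq)
    apply step1 hG hA A'
    · rintro rfl
      simp only [Subgroup.card_bot, one_mul] at hA'c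
      have hKP : (P : Subgroup G) = K := by
        apply Subgroup.eq_of_le_of_card_ge hPK
        rw [hPc, ← hA'c]
      haveI : (P : Subgroup G).Normal := hKP ▸ (inferInstance : K.Normal)
      have htop : normalizer (((P : Subgroup G)) : Set G) = ⊤ := Subgroup.normalizer_eq_top_iff.2 this
      rw [htop, Subgroup.card_top, hG] at hN
      omega
    · intro h
      apply h121
      rw [← hA'c, pow_two]
      exact mul_dvd_mul_right h _
  · exact step1 hG hA K hK h11

include hG in
/-- A central involution of the Sylow `2`-subgroup `T` in `H`, centralizing `P`. -/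
theorem exists_z [Fact (Nat.Prime 11)] [Fact (Nat.Prime 2)] (P : Sylow 11 G)
    (hN : Nat.card (normalizer ((P : Subgroup G) : Set G)) = 176)
    (H : Subgroup G) [H.Normal] (T : Sylow 2 G) (hTN : (T : Subgroup G) ≤ normalizer ((P : Subgroup G) : Set G))
    (hd : 4 ≤ Nat.card (H ⊓ (T : Subgroup G) : Subgroup G)) :
    ∃ z : G, z ∈ H ∧ z ∈ (T : Subgroup G) ∧ z ∈ centralizer ((P : Subgroup G) : Set G) ∧ z * z = 1 ∧ z ≠ 1 ∧
      ∀ t ∈ (T : Subgroup G), t * z = z * t := by
  classical
  have p11 : Nat.Prime 11 := by norm_num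
  have hPc := card_syl11 hG P
  set C := centralizer ((P : Subgroup G) : Set G) with hC
  set Nn := normalizer ((P : Subgroup G) : Set G) with hNn
  set U : Subgroup G := H ⊓ (T : Subgroup G) with hU
  obtain ⟨e, he, hcard⟩ := exists_card_norm_eq p11 (P : Subgroup G) hPc
  have hle : C ≤ Nn := Subgroup.centralizer_le_normalizer _
  have hrel := Cfsg.Agent.Lib.Perm.SylowIn.card_mul_relIndex hle
  have he2 : e ≤ 2 := by
    rw [hN] at hcard
    have he' : e ≤ 10 := Nat.le_of_dvd (by norm_num) he
    have hed : e ∣ 176 := Dvd.intro_left _ hcard.symm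
    interval_cases e <;> first | omega | (exfalso; revert he; norm_num) | (exfalso; revert hed; norm_num)
  have hrel2 : C.relIndex Nn ≤ 2 := by
    have hCpos : 0 < Nat.card C := Nat.card_pos
    have : C.relIndex Nn = e := by
      apply Nat.eq_of_mul_eq_mul_left hCpos
      rw [hrel, hcard]
    omega
  have hUN : U ≤ Nn := inf_le_right.trans hTN
  have hrelU : C.relIndex U ≤ 2 := by
    refine le_trans (Subgroup.relIndex_le_of_le_right hUN ?_) hrel2
    intro h0
    rw [h0, mul_zero] at hrel
    have hpos : 0 < Nat.card Nn := Nat.card_pos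
    omega
  have hCU := Cfsg.Agent.Lib.Perm.SylowIn.card_mul_relIndex (Q := C ⊓ U) (A := U) inf_le_right
  rw [Subgroup.inf_relIndex_right] at hCU
  have hCU2 : 2 ≤ Nat.card (C ⊓ U : Subgroup G) := by
    by_contra hne
    have h1 : Nat.card (C ⊓ U : Subgroup G) ≤ 1 := by omega
    have h2 : Nat.card (C ⊓ U : Subgroup G) * C.relIndex U ≤ 1 * 2 := Nat.mul_le_mul h1 hrelU
    omega
  set W' : Subgroup (T : Subgroup G) := (C ⊓ U).subgroupOf (T : Subgroup G) with hW'
  haveI hW'n : W'.Normal := by
    constructor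
    intro a ha t
    rw [hW', Subgroup.mem_subgroupOf] at ha ⊢
    have h3 := ha.1
    have h4 := ha.2
    refine ⟨?_, ?_, ?_⟩
    · -- conjugation by an element of the normalizer preserves the centralizer
      show (t : G) * a * (t : G)⁻¹ ∈ C
      rw [hC, Subgroup.mem_centralizer_iff]
      intro y hy
      have hty := hTN t.2
      rw [hNn, Subgroup.mem_normalizer_iff] at hty
      have h5 : (t : G)⁻¹ * y * t ∈ (P : Subgroup G) := by
        have h6 := (hty ((t : G)⁻¹ * y * t)).2
        apply h6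
        have : (t : G) * ((t : G)⁻¹ * y * t) * (t : G)⁻¹ = y := by group
        rw [this]
        exact hy
      have h7 := (Subgroup.mem_centralizer_iff.1 h3) _ h5
      calc y * ((t : G) * a * (t : G)⁻¹) = t * (((t : G)⁻¹ * y * t) * a) * (t : G)⁻¹ := by group
        _ = t * (a * ((t : G)⁻¹ * y * t)) * (t : G)⁻¹ := by rw [h7]
        _ = _ := by group
    · exact (inferInstance : H.Normal).conj_mem _ h4.1 _
    · exact Subgroup.mul_mem _ (Subgroup.mul_mem _ t.2 a.2) (Subgroup.inv_mem _ t.2)
  have hW'ne : W' ≠ ⊥ := by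
    intro hbot
    have h1 : Nat.card W' = Nat.card (C ⊓ U : Subgroup G) := by
      rw [hW']
      exact Nat.card_congr (Subgroup.subgroupOfEquivOfLe (inf_le_right.trans inf_le_right)).toEquiv
    rw [hbot, Subgroup.card_bot] at h1
    omega
  have hcen := Cfsg.Agent.Lib.Basic.SylowUtil.inf_center_ne_bot_of_isPGroup T.isPGroup' hW'ne
  obtain ⟨t, ht⟩ := (Subgroup.ne_bot_iff_exists_ne_one).1 hcen
  set t' : (T : Subgroup G) := t.1 with ht'
  have ht'1 : t' ≠ 1 := fun h => ht (Subtype.ext h)
  obtain ⟨k, hk⟩ := T.isPGroup' t'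
  have hd2 : 2 ∣ orderOf t' := by
    obtain ⟨j, -, hj⟩ := (Nat.dvd_prime_pow Nat.prime_two).1 (orderOf_dvd_of_pow_eq_one hk)
    rw [hj]
    rcases j with _ | j
    · rw [pow_zero, orderOf_eq_one_iff] at hj
      exact absurd hj ht'1
    · exact dvd_pow_self 2 (by omega)
  have hz' := orderOf_pow_orderOf_div (orderOf_pos t').ne' hd2
  set n := orderOf t' / 2 with hn
  have hmem : t' ^ n ∈ W' ⊓ Subgroup.center (T : Subgroup G) := Subgroup.pow_mem _ t.2 n
  have hz'2 : (t' ^ n) * (t' ^ n) = 1 := by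
    have h8 := pow_orderOf_eq_one (t' ^ n)
    rw [hz', pow_two] at h8
    exact h8
  have hz'1 : t' ^ n ≠ 1 := by
    intro h
    rw [h, orderOf_one] at hz'
    omega
  have hmemW : ((t' ^ n : (T : Subgroup G)) : G) ∈ C ⊓ U := by
    have h8 : t' ^ n ∈ W' := (Subgroup.mem_inf.1 hmem).1
    rwa [hW', Subgroup.mem_subgroupOf] at h8
  refine ⟨((t' ^ n : (T : Subgroup G)) : G), hmemW.2.1, (t' ^ n).2, hmemW.1, ?_, ?_, ?_⟩
  · exact congrArg Subtype.val hz'2
  · exact fun h => hz'1 (Subtype.ext h)
  · intro s hs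
    have h9 := (Subgroup.mem_center_iff.1 (Subgroup.mem_inf.1 hmem).2) ⟨s, hs⟩
    exact congrArg Subtype.val h9

include hG hA in
theorem case_45 [Fact (Nat.Prime 11)] (P : Sylow 11 G)
    (hN : Nat.card (normalizer ((P : Subgroup G) : Set G)) = 176) : AllSame A := by
  classical
  have p11 : Nat.Prime 11 := by norm_num
  haveI : Fact (Nat.Prime 2) := ⟨Nat.prime_two⟩
  haveI : Fact (Nat.Prime 3) := ⟨Nat.prime_three⟩
  haveI : Fact (Nat.Prime 5) := ⟨Nat.prime_five⟩
  have hPc := card_syl11 hG P
  set Nn := normalizer ((P : Subgroup G) : Set G) with hNn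
  obtain ⟨x, hxP, hx, hzx⟩ := exists_gen (P : Subgroup G) hPc
  have hidx : Nn.index = 45 := by
    have h4 := Subgroup.card_mul_index Nn
    rw [hN, hG] at h4
    omega
  obtain ⟨T₁⟩ := (inferInstance : Nonempty (Sylow 2 Nn))
  obtain ⟨T, hT⟩ := Cfsg.Agent.Lib.Basic.SylowUtil.sylow_map_of_not_dvd_index (by rw [hidx]; norm_num) T₁
  have hTN : (T : Subgroup G) ≤ Nn := by
    rw [hT]
    exact Subgroup.map_subtype_le _
  have hTc := card_syl2 hG T
  set H := oTwo G with hH
  -- every subgroup of odd order lies in `H`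
  have hoddle : ∀ S : Subgroup G, ¬ 2 ∣ Nat.card S → S ≤ H := by
    intro S hS g hg
    apply mem_oTwo
    rw [← Nat.not_even_iff_odd, even_iff_two_dvd]
    intro h2
    apply hS
    have := orderOf_dvd_natCard (⟨g, hg⟩ : S)
    rw [Subgroup.orderOf_mk] at this
    exact h2.trans this
  have h9 : 9 ∣ Nat.card H := by
    obtain ⟨S⟩ := (inferInstance : Nonempty (Sylow 3 G))
    have := Subgroup.card_dvd_of_le (hoddle S (by rw [card_syl3 hG S]; norm_num))
    rwa [card_syl3 hG S] at this
  have h5 : 5 ∣ Nat.card H := by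
    obtain ⟨S⟩ := (inferInstance : Nonempty (Sylow 5 G))
    have := Subgroup.card_dvd_of_le (hoddle S (by rw [card_syl5 hG S]; norm_num))
    rwa [card_syl5 hG S] at this
  have h11 : 11 ∣ Nat.card H := by
    have := Subgroup.card_dvd_of_le (hoddle P (by rw [hPc]; norm_num))
    rwa [hPc] at this
  have h495 : 495 ∣ Nat.card H := by
    have h45 : 45 ∣ Nat.card H := Nat.Coprime.mul_dvd_of_dvd_of_dvd (by norm_num : Nat.Coprime 9 5) h9 h5
    exact Nat.Coprime.mul_dvd_of_dvd_of_dvd (by norm_num : Nat.Coprime 45 11) h45 h11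
  have hHd : Nat.card H ∣ 7920 := by
    rw [← hG]
    exact Subgroup.card_subgroup_dvd_card H
  obtain ⟨d, hd⟩ := h495
  have hd16 : d ∣ 16 := by
    rw [hd] at hHd
    exact Nat.dvd_of_mul_dvd_mul_left (by norm_num : 0 < 495) (by simpa using hHd)
  obtain ⟨a, ha4, hda⟩ := (Nat.dvd_prime_pow Nat.prime_two).1 (show d ∣ 2 ^ 4 from hd16)
  -- the product formula
  have htop_of : ∀ L : Subgroup G, 16 ∣ Nat.card L → L ⊔ H = ⊤ := by
    intro L hL
    apply Subgroup.eq_top_of_card_eq
    rw [hG]
    have h1 : 16 ∣ Nat.card (L ⊔ H : Subgroup G) := hL.trans (Subgroup.card_dvd_of_le le_sup_left)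
    have h2 : 495 ∣ Nat.card (L ⊔ H : Subgroup G) :=
      (Dvd.intro _ hd.symm).trans (Subgroup.card_dvd_of_le le_sup_right)
    have h3 : 7920 ∣ Nat.card (L ⊔ H : Subgroup G) :=
      Nat.Coprime.mul_dvd_of_dvd_of_dvd (by norm_num : Nat.Coprime 16 495) h1 h2
    have h4 : Nat.card (L ⊔ H : Subgroup G) ∣ 7920 := by
      rw [← hG]
      exact Subgroup.card_subgroup_dvd_card _
    exact Nat.dvd_antisymm h4 h3
  have hsupT := htop_of T (by rw [hTc])
  have hTidx : (T : Subgroup G).index = 495 := by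
    have h4 := Subgroup.card_mul_index (T : Subgroup G)
    rw [hTc, hG] at h4
    omega
  have hU := index_mul_card_inf H T hsupT
  rw [hTidx, hd] at hU
  have hUc : Nat.card (H ⊓ (T : Subgroup G) : Subgroup G) = d := by omega
  have hfH : ∀ f : ↥H →* ℤˣ, ∀ g, f g = 1 := fun f g => oTwo_hom f g
  have hapos : a ≠ 0 → a ≠ 1 → 4 ≤ d := by
    intro h0 h1
    have : 2 ^ 2 ≤ 2 ^ a := Nat.pow_le_pow_right (by norm_num) (by omega)
    rw [hda]
    simpa using this
  by_cases ha0 : a = 0
  · -- `H` has odd order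
    subst ha0
    apply reduce_odd hG hA P hN H
    · rintro h0
      rw [h0, Subgroup.card_bot] at hd
      omega
    · rw [hd, hda]
      norm_num
  by_cases ha1 : a = 1
  · -- twice an odd number
    exfalso
    subst ha1
    have h4 := four_dvd_of_hom hfH (by rw [hd, hda]; norm_num)
    rw [hd, hda] at h4
    revert h4
    norm_num
  obtain ⟨z, hzH, hzT, hzC, hz2, hz1, hzcomm⟩ := exists_z hG P hN H T hTN (by rw [hUc]; exact hapos ha0 ha1)
  have hzx' : x * z = z * x := Subgroup.mem_centralizer_iff.1 hzC x hxP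
  set M := centralizer ({z} : Set G) with hM
  have hPM : (P : Subgroup G) ≤ M := by
    intro y hy
    rw [hM, Subgroup.mem_centralizer_singleton_iff]
    exact Subgroup.mem_centralizer_iff.1 hzC y hy
  have hTM : (T : Subgroup G) ≤ M := by
    intro t ht
    rw [hM, Subgroup.mem_centralizer_singleton_iff]
    exact hzcomm t ht
  have hNM : Nn ≤ M := by
    have h1 : 16 ∣ Nat.card (M ⊓ Nn : Subgroup G) := by
      have := Subgroup.card_dvd_of_le (le_inf hTM hTN)
      rwa [hTc] at this
    have h2 : 11 ∣ Nat.card (M ⊓ Nn : Subgroup G) := by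
      have := Subgroup.card_dvd_of_le (le_inf hPM (Subgroup.le_normalizer (H := (P : Subgroup G))))
      rwa [hPc] at this
    have h3 : 176 ∣ Nat.card (M ⊓ Nn : Subgroup G) :=
      Nat.Coprime.mul_dvd_of_dvd_of_dvd (by norm_num : Nat.Coprime 16 11) h1 h2
    have h4 : Nat.card (M ⊓ Nn : Subgroup G) ∣ 176 := by
      rw [← hN]
      exact Subgroup.card_dvd_of_le inf_le_right
    have h5 : M ⊓ Nn = Nn := by
      apply Subgroup.eq_of_le_of_card_ge inf_le_right
      rw [hN, Nat.dvd_antisymm h4 h3]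
    exact inf_eq_right.1 h5
  obtain ⟨k, hk1, hk2⟩ := exists_card_eq_inf_mul P M hPM
  rw [inf_eq_right.2 hNM, hN] at hk1
  have hMd : Nat.card M ∣ 7920 := by
    rw [← hG]
    exact Subgroup.card_subgroup_dvd_card M
  have hk45 : k ∣ 45 := by
    rw [hk1] at hMd
    exact Nat.dvd_of_mul_dvd_mul_left (by norm_num : 0 < 176) (by simpa using hMd)
  have hkc : k = 1 ∨ k = 45 := by
    have hle := Nat.le_of_dvd (by norm_num) hk45
    interval_cases k <;> first | omega | (exfalso; revert hk45; norm_num)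
  rcases hkc with hk | hk
  swap
  · -- `z` is central
    have hMtop : M = ⊤ := by
      apply Subgroup.eq_top_of_card_eq
      rw [hk1, hk, hG]
    have hzZ : z ∈ center G := by
      rw [Subgroup.mem_center_iff]
      intro g
      have : g ∈ M := by rw [hMtop]; trivial
      rwa [hM, Subgroup.mem_centralizer_singleton_iff] at this
    apply step1 hG hA (center G)
    · intro h0
      rw [h0, Subgroup.mem_bot] at hzZ
      exact hz1 hzZ
    · intro hd11
      have hPZ : (P : Subgroup G) ≤ center G := sylow_le_normal (card_syl11 hG) _ hd11 P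
      have hPn : (P : Subgroup G).Normal := by
        constructor
        intro y hy g
        have h1 := Subgroup.mem_center_iff.1 (hPZ hy) g
        have h2 : g * y * g⁻¹ = y := by
          rw [h1]
          group
        rwa [h2]
      have htop : Nn = ⊤ := Subgroup.normalizer_eq_top_iff.2 hPn
      rw [htop, Subgroup.card_top, hG] at hN
      omega
  -- `C(z) = N(P)`
  have hMN : M = Nn := by
    symm
    apply Subgroup.eq_of_le_of_card_ge hNM
    rw [hk1, hk, hN]
  have hxH : x ∈ H := mem_oTwo (by rw [hx]; decide)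
  set z' : ↥H := ⟨z, hzH⟩ with hz'
  set x' : ↥H := ⟨x, hxH⟩ with hx'
  have hu2 : z' * z' = 1 := Subtype.ext hz2
  have hu1 : z' ≠ 1 := fun h => hz1 (congrArg Subtype.val h)
  have hxu : x' * z' = z' * x' := Subtype.ext hzx'
  have hx'o : orderOf x' = 11 := by
    rw [hx', Subgroup.orderOf_mk, hx]
  have hCmap : (centralizer ({z'} : Set ↥H)).map H.subtype = H ⊓ Nn := by
    ext g
    constructor
    · rintro ⟨h, hh, rfl⟩
      rw [SetLike.mem_coe, Subgroup.mem_centralizer_singleton_iff] at hh
      refine ⟨h.2, ?_⟩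
      show h.1 ∈ Nn
      rw [← hMN, hM, Subgroup.mem_centralizer_singleton_iff]
      exact congrArg Subtype.val hh
    · rintro ⟨hg1, hg2⟩
      refine ⟨⟨g, hg1⟩, ?_, rfl⟩
      rw [SetLike.mem_coe, Subgroup.mem_centralizer_singleton_iff]
      have h1 : g ∈ M := by rw [hMN]; exact hg2
      rw [hM, Subgroup.mem_centralizer_singleton_iff] at h1
      exact Subtype.ext h1
  have hCcard : Nat.card (centralizer ({z'} : Set ↥H)) = Nat.card (H ⊓ Nn : Subgroup G) := by
    rw [← hCmap, Subgroup.card_subtype]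
  have hNsup := htop_of Nn (by
    have := Subgroup.card_dvd_of_le hTN
    rwa [hTc] at this)
  have hI := index_mul_card_inf H Nn hNsup
  rw [hidx] at hI
  have hclsm := card_cls_mul z'
  rw [hCcard, ← hI] at hclsm
  have hcls : (cls z').card = 45 := by
    have hpos : 0 < Nat.card (H ⊓ Nn : Subgroup G) := Nat.card_pos
    exact Nat.eq_of_mul_eq_mul_right hpos hclsm
  have h2pow : ∀ m, 2 ^ m ∣ Nat.card ↥H → m ≤ 4 := by
    intro m hm
    have hle := exp_le (le_refl 2) hm hHd
    have h2 : 2 ^ m ∣ 7920 := hm.trans hHd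
    interval_cases m <;> first | omega | (exfalso; revert h2; norm_num)
  have hCu : ∀ v : ↥H, v * x' = x' * v → IsConj z' v → v = z' := by
    intro v hv hc
    obtain ⟨g, rfl⟩ := isConj_iff.1 hc
    have hv' : (g : G) * z * (g : G)⁻¹ * x = x * ((g : G) * z * (g : G)⁻¹) := congrArg Subtype.val hv
    have h1 : (g : G)⁻¹ * x * g ∈ M := by
      rw [hM, Subgroup.mem_centralizer_singleton_iff]
      calc (g : G)⁻¹ * x * g * z = (g : G)⁻¹ * (x * ((g : G) * z * (g : G)⁻¹)) * g := by group
        _ = (g : G)⁻¹ * ((g : G) * z * (g : G)⁻¹ * x) * g := by rw [hv']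
        _ = z * ((g : G)⁻¹ * x * g) := by group
    rw [hMN] at h1
    have h2 : (g : G) ∈ Nn := mem_normalizer_of_conj_mem P hPc x hxP hx g h1
    have h3 : (g : G) ∈ M := hNM h2
    rw [hM, Subgroup.mem_centralizer_singleton_iff] at h3
    apply Subtype.ext
    show (g : G) * z * (g : G)⁻¹ = z
    rw [h3]
    group
  have hK1 := Kset_card_one hfH h2pow x' z' hx'o hu2 hxu hcls hCu
  have hHfact : Nat.card ↥H = 2 ^ a * 495 := by
    rw [hd, hda]
    ring
  have hCdvd : 2 ^ a ∣ Nat.card (centralizer ({z'} : Set ↥H)) := by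
    rw [hCcard]
    have h1 : Nat.card (H ⊓ Nn : Subgroup G) = 11 * d := by omega
    rw [h1, hda]
    exact dvd_mul_left _ _
  obtain ⟨T', hzT', hT'C⟩ := exists_sylow_le_centralizer hHfact (by norm_num) z' hu2 hu1 hCdvd
  have hord : orderOf z' = 2 := orderOf_eq_prime (by rw [pow_two]; exact hu2) hu1
  have huK : z' ∈ Kset z' := (mem_Kset z' z').2 ⟨IsConj.refl _, rfl⟩
  have hKu : Kset z' = {z'} := by
    rw [Finset.card_eq_one] at hK1
    obtain ⟨b, hb⟩ := hK1
    rw [hb] at huK ⊢
    rw [Finset.mem_singleton] at huK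
    rw [huK]
  obtain ⟨O₀, hO₀n, hO₀o, hO₀g⟩ := Cfsg.Agent.S0215.result T' z' hord hzT' (by
    intro g hg
    have h1 : g * z' * g⁻¹ ∈ Kset z' := by
      rw [mem_Kset]
      refine ⟨isConj_iff.2 ⟨g, rfl⟩, ?_⟩
      have := hT'C hg
      rw [Subgroup.mem_centralizer_singleton_iff] at this
      exact this.symm
    rw [hKu, Finset.mem_singleton] at h1
    exact h1)
  have hO₀ne : O₀ ≠ ⊥ := by
    rintro rfl
    have htop : centralizer ({z'} : Set ↥H) = ⊤ := by
      rw [eq_top_iff]
      intro g _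
      rw [Subgroup.mem_centralizer_singleton_iff]
      have h1 := hO₀g g
      rw [Subgroup.mem_bot, mul_inv_eq_one] at h1
      calc g * z' = z' * g * z'⁻¹ * z' := by rw [h1]
        _ = z' * g := by group
    have h1 := card_cls_mul z'
    rw [htop, Subgroup.card_top, hcls] at h1
    have hpos : 0 < Nat.card ↥H := Nat.card_pos
    omega
  have hO₀c : (Nat.card O₀).Coprime 2 := by
    exact hO₀o.coprime_two_right
  have hle : O₀ ≤ pPrimeCore 2 ↥H := Cfsg.Agent.Lib.Basic.PCore.le_pPrimeCore hO₀n hO₀c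
  haveI hchar : (pPrimeCore 2 ↥H).Characteristic := Cfsg.Agent.Lib.Solvable.PSeries.pPrimeCore_char 2 ↥H
  haveI hOn : ((pPrimeCore 2 ↥H).map H.subtype).Normal :=
    Cfsg.Agent.Lib.Basic.PCore.map_subtype_normal_of_characteristic _
  apply reduce_odd hG hA P hN ((pPrimeCore 2 ↥H).map H.subtype)
  · intro h0
    rw [Subgroup.map_eq_bot_iff_of_injective _ H.subtype_injective] at h0
    rw [h0] at hle
    exact hO₀ne (le_bot_iff.1 hle)
  · rw [Subgroup.card_subtype]
    intro h2
    have hco := Cfsg.Agent.Lib.Components.Transport.coprime_card_pPrimeCore (G := ↥H) 2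
    have := Nat.dvd_gcd h2 (dvd_refl 2)
    rw [hco] at this
    omega

end Sep

/-- Let G be a finite group of order 7920 = 2⁴·3²·5·11 (the order of the smallest Mathieu group) and suppose its prime graph (vertices the prime divisors of the order, distinct p, q joined when there is an element of order pq) is disconnected: the prime divisors split into two non-empty parts with no element of order pq for p in one part and q in the other. Then G is simple. -/
theorem result {G : Type*} [Group G] [Finite G] (hord : Nat.card G = 7920)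
    (hdisc : (∃ A : Set ℕ, (∃ a ∈ A, a.Prime ∧ a ∣ Nat.card G) ∧ (∃ b ∉ A, b.Prime ∧ b ∣ Nat.card G) ∧
      ∀ a ∈ A, ∀ b ∉ A, a.Prime → b.Prime → a ∣ Nat.card G → b ∣ Nat.card G → ¬ ∃ g : G, orderOf g = a * b)) :
    IsSimpleGroup G := by
  obtain ⟨A, ⟨a, ha, hap, had⟩, ⟨b, hb, hbp, hbd⟩, hsep⟩ := hdisc
  have hA : Sep G A := hsep
  have hprime : ∀ p : ℕ, p.Prime → p ∣ Nat.card G → p = 2 ∨ p = 3 ∨ p = 5 ∨ p = 11 := by
    intro p hp hd
    rw [hord] at hd
    have h7920 : (7920 : ℕ) = 2 ^ 4 * 3 ^ 2 * 5 * 11 := by norm_num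
    rw [h7920] at hd
    rcases (Nat.Prime.dvd_mul hp).1 hd with h | h
    · rcases (Nat.Prime.dvd_mul hp).1 h with h | h
      · rcases (Nat.Prime.dvd_mul hp).1 h with h | h
        · left
          exact (Nat.prime_dvd_prime_iff_eq hp Nat.prime_two).1 (hp.dvd_of_dvd_pow h)
        · right; left
          exact (Nat.prime_dvd_prime_iff_eq hp Nat.prime_three).1 (hp.dvd_of_dvd_pow h)
      · right; right; left
        exact (Nat.prime_dvd_prime_iff_eq hp Nat.prime_five).1 h
    · right; right; right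
      exact (Nat.prime_dvd_prime_iff_eq hp (by norm_num)).1 h
  have hne : ¬ AllSame A := by
    rintro ⟨h1, h2, h3⟩
    rcases hprime a hap had with rfl | rfl | rfl | rfl <;>
      rcases hprime b hbp hbd with rfl | rfl | rfl | rfl <;> tauto
  haveI : Nontrivial G := by
    apply Finite.one_lt_card_iff_nontrivial.1
    rw [hord]
    norm_num
  refine ⟨?_⟩
  intro M hM
  by_contra hcon
  push_neg at hcon
  apply hne
  haveI : Fact (Nat.Prime 11) := ⟨by norm_num⟩
  obtain ⟨P⟩ := (inferInstance : Nonempty (Sylow 11 G))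
  rcases card_norm_cases hord P with h | h | h | h
  · exact case_one hord hA P h
  · exact case_twelve hord hA P h
  · exact case_45 hord hA P h
  · exact case_144 hord hA P h M hcon.1 hcon.2

end Cfsg.Agent.S2490
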