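import Cfsg.Statements.S4623
import Mathlib
import Cfsg.Agent.Lib.Basic.SylowUtil

set_option autoImplicit false
open Cfsg

namespace Cfsg.Agent.S4623

open Equiv Equiv.Perm

/-- the generated-by-exponent-`p` property together with the Sylow order. -/
structure Good (p : ℕ) {α : Type} [Fintype α] [DecidableEq α] (H : Subgroup (Perm α)) : Prop where
  card : Nat.card H = p ^ padicValNat p (Nat.card α).factorial
  gen : ∀ x ∈ H, x ∈ Subgroup.closure {y | y ∈ H ∧ y ^ p = 1}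
  agen : ∀ x ∈ H, sign x = 1 → x ∈ Subgroup.closure {y | y ∈ H ∧ sign y = 1 ∧ y ^ p = 1}

theorem Good.map {p : ℕ} {α β : Type} [Fintype α] [DecidableEq α] [Fintype β] [DecidableEq β]
    {H : Subgroup (Perm α)} (hH : Good p H) (φ : Perm α →* Perm β) (hφ : Function.Injective φ)
    (hs : ∀ x, sign (φ x) = sign x)
    (hc : padicValNat p (Nat.card β).factorial = padicValNat p (Nat.card α).factorial) :
    Good p (H.map φ) := by
  refine ⟨?_, ?_, ?_⟩
  · rw [Subgroup.card_map_of_injective hφ, hH.card, hc]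
  · rintro _ ⟨x, hx, rfl⟩
    have h := hH.gen x hx
    have h2 : φ x ∈ (Subgroup.closure {y | y ∈ H ∧ y ^ p = 1}).map φ := ⟨x, h, rfl⟩
    rw [MonoidHom.map_closure] at h2
    refine Subgroup.closure_mono ?_ h2
    rintro _ ⟨y, ⟨hy, hy2⟩, rfl⟩
    exact ⟨⟨y, hy, rfl⟩, by rw [← map_pow, hy2, map_one]⟩
  · rintro _ ⟨x, hx, rfl⟩ hs1
    have h := hH.agen x hx (by rw [← hs]; exact hs1)
    have h2 : φ x ∈ (Subgroup.closure {y | y ∈ H ∧ sign y = 1 ∧ y ^ p = 1}).map φ := ⟨x, h, rfl⟩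
    rw [MonoidHom.map_closure] at h2
    refine Subgroup.closure_mono ?_ h2
    rintro _ ⟨y, ⟨hy, hy1, hy2⟩, rfl⟩
    exact ⟨⟨y, hy, rfl⟩, by rw [hs]; exact hy1, by rw [← map_pow, hy2, map_one]⟩

section Step
variable {γ : Type} [Fintype γ] [DecidableEq γ] (p : ℕ) [Fact p.Prime]

/-- translation in the fibres -/
def bb (f : γ → ZMod p) : Perm (γ × ZMod p) :=
  Equiv.prodCongrRight (fun g => Equiv.addRight (f g))

/-- lift of a permutation of the base -/
def ii (σ : Perm γ) : Perm (γ × ZMod p) :=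
  Equiv.prodCongrLeft (fun _ => σ)

@[simp] theorem bb_apply (f : γ → ZMod p) (g : γ) (i : ZMod p) : bb p f (g, i) = (g, i + f g) := rfl
@[simp] theorem ii_apply (σ : Perm γ) (g : γ) (i : ZMod p) : ii p σ (g, i) = (σ g, i) := rfl

theorem bb_add (f f' : γ → ZMod p) : bb p (f + f') = bb p f * bb p f' := by
  ext ⟨g, i⟩ <;> simp [add_comm, add_left_comm, add_assoc]

theorem bb_zero : bb p (0 : γ → ZMod p) = 1 := by
  ext ⟨g, i⟩ <;> simp

theorem ii_mul (σ τ : Perm γ) : ii p (σ * τ) = ii p σ * ii p τ := by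
  ext ⟨g, i⟩ <;> simp

theorem ii_one : ii p (1 : Perm γ) = 1 := by
  ext ⟨g, i⟩ <;> simp

theorem ii_bb (σ : Perm γ) (f : γ → ZMod p) :
    ii p σ * bb p f = bb p (f ∘ ⇑(σ⁻¹)) * ii p σ := by
  ext ⟨g, i⟩ <;> simp

theorem bb_pow (f : γ → ZMod p) (k : ℕ) : bb p f ^ k = bb p (k • f) := by
  induction k with
  | zero => simp [bb_zero]
  | succ k ih => rw [pow_succ, ih, ← bb_add, succ_nsmul]

theorem bb_pow_p (f : γ → ZMod p) : bb p f ^ p = 1 := by
  rw [bb_pow]
  have : p • f = 0 := by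
    ext g
    simp
  rw [this, bb_zero]

theorem ii_pow (σ : Perm γ) (k : ℕ) : ii p σ ^ k = ii p (σ ^ k) := by
  induction k with
  | zero => simp [ii_one]
  | succ k ih => rw [pow_succ, ih, ← ii_mul, pow_succ]

theorem bb_inv (f : γ → ZMod p) : (bb p f)⁻¹ = bb p (-f) := by
  rw [inv_eq_iff_mul_eq_one, ← bb_add]
  simp [bb_zero]

theorem ii_inv (σ : Perm γ) : (ii p σ)⁻¹ = ii p σ⁻¹ := by
  rw [inv_eq_iff_mul_eq_one, ← ii_mul]
  simp [ii_one]

theorem sign_ii (σ : Perm γ) : sign (ii p σ) = sign σ ^ p := by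
  unfold ii
  rw [sign_prodCongrLeft]
  simp [ZMod.card]

theorem inj_aux {f f' : γ → ZMod p} {σ σ' : Perm γ} (h : bb p f * ii p σ = bb p f' * ii p σ') :
    f = f' ∧ σ = σ' := by
  have h1 : ∀ g, σ g = σ' g ∧ f (σ g) = f' (σ' g) := by
    intro g
    have := congrArg (fun x : Perm (γ × ZMod p) => x (g, 0)) h
    simpa using this
  have h2 : σ = σ' := Equiv.ext fun g => (h1 g).1
  subst h2
  refine ⟨?_, rfl⟩
  ext g
  have := (h1 (σ⁻¹ g)).2
  simpa using this

/-- the wreath product of `ℤ/p` with `Q`. -/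
def HH (Q : Subgroup (Perm γ)) : Subgroup (Perm (γ × ZMod p)) where
  carrier := {x | ∃ f σ, σ ∈ Q ∧ x = bb p f * ii p σ}
  mul_mem' := by
    rintro _ _ ⟨f, σ, hσ, rfl⟩ ⟨f', σ', hσ', rfl⟩
    refine ⟨f + f' ∘ ⇑(σ⁻¹), σ * σ', Q.mul_mem hσ hσ', ?_⟩
    rw [bb_add, ii_mul, mul_assoc, mul_assoc, ← mul_assoc (ii p σ), ii_bb, mul_assoc]
  one_mem' := ⟨0, 1, Q.one_mem, by rw [bb_zero, ii_one, one_mul]⟩
  inv_mem' := by
    rintro _ ⟨f, σ, hσ, rfl⟩
    refine ⟨(-f) ∘ σ, σ⁻¹, Q.inv_mem hσ, ?_⟩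
    rw [mul_inv_rev, bb_inv, ii_inv, ii_bb]
    simp

theorem bb_mem (Q : Subgroup (Perm γ)) (f : γ → ZMod p) : bb p f ∈ HH p Q :=
  ⟨f, 1, Q.one_mem, by rw [ii_one, mul_one]⟩

theorem ii_mem (Q : Subgroup (Perm γ)) {σ : Perm γ} (hσ : σ ∈ Q) : ii p σ ∈ HH p Q :=
  ⟨0, σ, hσ, by rw [bb_zero, one_mul]⟩

theorem card_HH (Q : Subgroup (Perm γ)) :
    Nat.card (HH p Q) = p ^ Nat.card γ * Nat.card Q := by
  have e : (HH p Q) ≃ (γ → ZMod p) × Q := by
    refine (Equiv.ofBijective (fun c : (γ → ZMod p) × Q =>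
      (⟨bb p c.1 * ii p c.2, c.1, c.2, c.2.2, rfl⟩ : HH p Q)) ?_).symm
    constructor
    · rintro ⟨f, σ, hσ⟩ ⟨f', σ', hσ'⟩ h
      have h' := inj_aux p (Subtype.ext_iff.mp h)
      obtain ⟨h1, h2⟩ := h'
      simp only at h1 h2
      subst h1
      subst h2
      rfl
    · rintro ⟨_, f, σ, hσ, rfl⟩
      exact ⟨(f, ⟨σ, hσ⟩), rfl⟩
  rw [Nat.card_congr e, Nat.card_prod, Nat.card_fun, Nat.card_zmod]

theorem good_HH {Q : Subgroup (Perm γ)} (hQ : Good p Q) : Good p (HH p Q) := by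
  have hgen0 : ∀ σ ∈ Subgroup.closure {y | y ∈ Q ∧ y ^ p = 1},
      ii p σ ∈ Subgroup.closure {y | y ∈ HH p Q ∧ sign y = 1 ∧ y ^ p = 1} := by
    intro σ h
    induction h using Subgroup.closure_induction with
    | mem x hx =>
      refine Subgroup.subset_closure ⟨ii_mem p Q hx.1, ?_, ?_⟩
      · rw [sign_ii, ← map_pow, hx.2, map_one]
      · rw [ii_pow, hx.2, ii_one]
    | one => rw [ii_one]; exact Subgroup.one_mem _
    | mul x y hx hy h1 h2 =>
      rw [ii_mul]
      exact Subgroup.mul_mem _ h1 h2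
    | inv x hx h1 =>
      rw [← ii_inv]
      exact Subgroup.inv_mem _ h1
  have hgen : ∀ σ ∈ Q, ii p σ ∈ Subgroup.closure {y | y ∈ HH p Q ∧ sign y = 1 ∧ y ^ p = 1} :=
    fun σ hσ => hgen0 σ (hQ.gen σ hσ)
  have hsign : ∀ z ∈ Subgroup.closure {y : Perm (γ × ZMod p) | y ∈ HH p Q ∧ sign y = 1 ∧ y ^ p = 1},
      sign z = 1 := by
    intro z hz
    induction hz using Subgroup.closure_induction with
    | mem x hx => exact hx.2.1
    | one => simp
    | mul x y hx hy h1 h2 => rw [map_mul, h1, h2, one_mul]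
    | inv x hx h1 => rw [map_inv, h1, inv_one]
  refine ⟨?_, ?_, ?_⟩
  · rw [card_HH, hQ.card, Nat.card_prod, Nat.card_zmod, mul_comm (Nat.card γ) p,
      padicValNat_factorial_mul, add_comm, pow_add]
  · rintro _ ⟨f, σ, hσ, rfl⟩
    refine Subgroup.mul_mem _ (Subgroup.subset_closure ⟨bb_mem p Q f, bb_pow_p p f⟩) ?_
    refine Subgroup.closure_mono ?_ (hgen σ hσ)
    rintro y ⟨h1, -, h3⟩
    exact ⟨h1, h3⟩
  · rintro _ ⟨f, σ, hσ, rfl⟩ hs
    have h1 := hsign _ (hgen σ hσ)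
    rw [map_mul, h1, mul_one] at hs
    exact Subgroup.mul_mem _ (Subgroup.subset_closure ⟨bb_mem p Q f, hs, bb_pow_p p f⟩) (hgen σ hσ)

end Step

/-- extension by fixed points. -/
def extHom (α δ : Type) : Perm α →* Perm (α ⊕ δ) :=
  (sumCongrHom α δ).comp (MonoidHom.inl _ _)

theorem extHom_inj (α δ : Type) : Function.Injective (extHom α δ) := by
  intro x y h
  have := sumCongrHom_injective h
  simpa using congrArg Prod.fst this

theorem sign_extHom {α δ : Type} [Fintype α] [DecidableEq α] [Fintype δ] [DecidableEq δ]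
    (x : Perm α) : sign (extHom α δ x) = sign x := by
  show sign (Equiv.Perm.sumCongr x 1) = sign x
  rw [sign_sumCongr]
  simp

theorem exists_good (p : ℕ) [hp : Fact p.Prime] (n : ℕ) : ∃ H : Subgroup (Perm (Fin n)), Good p H := by
  induction n using Nat.strong_induction_on with
  | _ n ih =>
    rcases Nat.eq_zero_or_pos n with rfl | hn
    · refine ⟨⊥, ?_, ?_, ?_⟩
      · simp
      · intro x hx
        rw [Subgroup.mem_bot] at hx
        rw [hx]
        exact Subgroup.one_mem _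
      · intro x hx _
        rw [Subgroup.mem_bot] at hx
        rw [hx]
        exact Subgroup.one_mem _
    · have hp2 := hp.out.two_le
      have hm : n / p < n := Nat.div_lt_self hn hp2
      obtain ⟨Q, hQ⟩ := ih (n / p) hm
      have h1 := good_HH p hQ
      have hr : n % p < p := Nat.mod_lt _ (by omega)
      have h2 := Good.map h1 (extHom _ (Fin (n % p))) (extHom_inj _ _) sign_extHom (by
        rw [Nat.card_sum]
        simp only [Nat.card_eq_fintype_card, Fintype.card_fin, Fintype.card_prod, ZMod.card]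
        rw [mul_comm (n / p) p, padicValNat_factorial_mul_add _ hr])
      have hcard : Nat.card (((Fin (n / p)) × ZMod p) ⊕ Fin (n % p)) = n := by
        rw [Nat.card_sum]
        simp only [Nat.card_eq_fintype_card, Fintype.card_fin, Fintype.card_prod, ZMod.card]
        rw [mul_comm]
        exact Nat.div_add_mod n p
      have e : (((Fin (n / p)) × ZMod p) ⊕ Fin (n % p)) ≃ Fin n :=
        Finite.equivFinOfCardEq hcard
      refine ⟨_, Good.map h2 (Equiv.permCongrHom e).toMonoidHom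
        (Equiv.permCongrHom e).injective (fun x => sign_permCongr e x) (by
          rw [hcard]; simp)⟩

section final
variable {X : Type*} [Group X] {p : ℕ}

theorem pow_mem_comm (H : Subgroup X) (h : ∀ x ∈ H, x ∈ Subgroup.closure {y | y ∈ H ∧ y ^ p = 1})
    (x : H) : x ^ p ∈ commutator H := by
  let K : Subgroup H := ((powMonoidHom p : Abelianization H →* _).comp Abelianization.of).ker
  have hK : Subgroup.closure {y | y ∈ H ∧ y ^ p = 1} ≤ K.map H.subtype := by
    rw [Subgroup.closure_le]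
    rintro y ⟨hy, hy2⟩
    refine ⟨⟨y, hy⟩, ?_, rfl⟩
    show ((powMonoidHom p : Abelianization H →* _).comp Abelianization.of) ⟨y, hy⟩ = 1
    simp only [MonoidHom.comp_apply, powMonoidHom_apply]
    rw [← map_pow]
    have : (⟨y, hy⟩ : H) ^ p = 1 := Subtype.ext (by simpa using hy2)
    rw [this, map_one]
  obtain ⟨z, hz, hzx⟩ := hK (h x x.2)
  have hzx' : z = x := Subtype.ext hzx
  subst hzx'
  have h3 : ((powMonoidHom p : Abelianization H →* _).comp Abelianization.of) z = 1 := hz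
  simp only [MonoidHom.comp_apply, powMonoidHom_apply] at h3
  rw [← map_pow] at h3
  rw [← Abelianization.ker_of]
  exact h3

theorem gen_map (H : Subgroup X) (h : ∀ x ∈ H, x ∈ Subgroup.closure {y | y ∈ H ∧ y ^ p = 1})
    (c : X ≃* X) : ∀ x ∈ H.map c.toMonoidHom,
      x ∈ Subgroup.closure {y | y ∈ H.map c.toMonoidHom ∧ y ^ p = 1} := by
  rintro _ ⟨x, hx, rfl⟩
  have h2 : c.toMonoidHom x ∈ (Subgroup.closure {y | y ∈ H ∧ y ^ p = 1}).map c.toMonoidHom :=
    ⟨x, h x hx, rfl⟩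
  rw [MonoidHom.map_closure] at h2
  refine Subgroup.closure_mono ?_ h2
  rintro _ ⟨y, ⟨hy, hy2⟩, rfl⟩
  exact ⟨⟨y, hy, rfl⟩, by rw [← map_pow, hy2, map_one]⟩

theorem sylow_pow [Finite X] [Fact p.Prime] (P₀ P : Sylow p X)
    (h : ∀ x ∈ (P₀ : Subgroup X), x ∈ Subgroup.closure {y | y ∈ (P₀ : Subgroup X) ∧ y ^ p = 1})
    (x : P) : x ^ p ∈ commutator (P : Subgroup X) := by
  obtain ⟨g, hg⟩ := Cfsg.Agent.Lib.Basic.SylowUtil.exists_conj_smul_eq P₀ P
  have hm : (P : Subgroup X) = (P₀ : Subgroup X).map (MulAut.conj g).toMonoidHom := by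
    rw [← hg]
    rfl
  apply pow_mem_comm
  rw [hm]
  exact gen_map _ h _

end final


/-- For every prime p and every n, a Sylow p-subgroup P of the symmetric group on n letters has P/P' elementary abelian (the p-th power of every element of P lies in the derived subgroup of P), and the same holds for a Sylow p-subgroup of the alternating group on n letters. -/
theorem result (p : ℕ) [Fact p.Prime] (n : ℕ) (P : Sylow p (Equiv.Perm (Fin n))) (Q : Sylow p (alternatingGroup (Fin n))) :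
    (∀ x : (P : Subgroup (Equiv.Perm (Fin n))), x ^ p ∈ commutator (P : Subgroup (Equiv.Perm (Fin n)))) ∧
    (∀ x : (Q : Subgroup (alternatingGroup (Fin n))), x ^ p ∈ commutator (Q : Subgroup (alternatingGroup (Fin n)))) := by
  obtain ⟨H, hH⟩ := exists_good p n
  have hcard : Nat.card H = p ^ (Nat.card (Equiv.Perm (Fin n))).factorization p := by
    rw [hH.card, Nat.factorization_def _ (Fact.out : p.Prime)]
    simp [Fintype.card_perm]
  let P₀ : Sylow p (Equiv.Perm (Fin n)) := Sylow.ofCard H hcard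
  constructor
  · exact sylow_pow P₀ P hH.gen
  · obtain ⟨Q₀, hQ₀⟩ := Cfsg.Agent.Lib.Basic.SylowUtil.exists_sylow_inf_normal P₀ (alternatingGroup (Fin n))
    refine sylow_pow Q₀ Q ?_
    intro x hx
    have hx1 : (x : Equiv.Perm (Fin n)) ∈ (P₀ : Subgroup _) ⊓ alternatingGroup (Fin n) := by
      rw [← hQ₀]
      exact ⟨x, hx, rfl⟩
    have hx2 : (x : Equiv.Perm (Fin n)) ∈ H := hx1.1
    have hx3 := hH.agen _ hx2 (Equiv.Perm.mem_alternatingGroup.mp x.2)
    have hk : Subgroup.closure {y | y ∈ H ∧ Equiv.Perm.sign y = 1 ∧ y ^ p = 1} ≤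
        (Subgroup.closure {y | y ∈ (Q₀ : Subgroup (alternatingGroup (Fin n))) ∧ y ^ p = 1}).map
          (alternatingGroup (Fin n)).subtype := by
      rw [Subgroup.closure_le]
      rintro y ⟨hy1, hy2, hy3⟩
      have hya : y ∈ alternatingGroup (Fin n) := Equiv.Perm.mem_alternatingGroup.mpr hy2
      refine ⟨⟨y, hya⟩, Subgroup.subset_closure ⟨?_, Subtype.ext hy3⟩, rfl⟩
      have : y ∈ (P₀ : Subgroup _) ⊓ alternatingGroup (Fin n) := ⟨hy1, hya⟩
      rw [← hQ₀] at this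
      obtain ⟨z, hz, hzy⟩ := this
      have : z = ⟨y, hya⟩ := Subtype.ext hzy
      rwa [← this]
    obtain ⟨z, hz, hzx⟩ := hk hx3
    have : z = x := Subtype.ext hzx
    rwa [← this]

end Cfsg.Agent.S4623
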