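import Cfsg.Statements.S4624
import Mathlib
import Cfsg.Agent.Lib.OrthSyl.Whole
import Cfsg.Agent.Lib.OrthSyl.Count
import Cfsg.Agent.Lib.SpSyl.Basic
import Cfsg.Agent.Lib.PSL2.Quat
import Cfsg.Agent.Lib.PSL2.ClassSizes
import Cfsg.Agent.Lib.Basic.QuatSylow
import Cfsg.Agent.Lib.Classical.Symp.Count
import Cfsg.Agent.S4623
-- import your own Cfsg.Agent.* helpers here

set_option autoImplicit false
open Cfsg

namespace Cfsg.Agent.S4624

open Matrix Equiv Cfsg.Agent.Lib.SpSyl Cfsg.Agent.Lib.OrthSyl.Count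
open scoped MatrixGroups

theorem quat_sq_mem {k : ℕ} (hk : 1 ≤ k) (g : QuaternionGroup (2 ^ k)) :
    g ^ 2 ∈ commutator (QuaternionGroup (2 ^ k)) := by
  haveI : NeZero (2 ^ k) := ⟨by positivity⟩
  haveI : NeZero (2 * 2 ^ k) := ⟨by positivity⟩
  rw [commutator_def, Cfsg.Agent.Lib.Basic.QuatSylow.commutator_top]
  rcases g with i | i
  · refine ⟨(i.val : ℤ), ?_⟩
    simp only [zpow_natCast]
    show (QuaternionGroup.a 2) ^ i.val = _
    rw [Cfsg.Agent.Lib.Basic.QuatSylow.a_pow, ZMod.natCast_zmod_val, pow_two,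
      QuaternionGroup.a_mul_a]
    congr 1
    ring
  · refine ⟨((2 ^ (k - 1) : ℕ) : ℤ), ?_⟩
    simp only [zpow_natCast]
    show (QuaternionGroup.a 2) ^ (2 ^ (k - 1)) = _
    rw [Cfsg.Agent.Lib.Basic.QuatSylow.a_pow, pow_two, QuaternionGroup.xa_mul_xa]
    congr 1
    have h : (2 : ℕ) ^ k = 2 ^ (k - 1) * 2 := by
      rw [← pow_succ]
      congr 1
      omega
    have h2 : ((2 ^ k : ℕ) : ZMod (2 * 2 ^ k)) = ((2 ^ (k - 1) : ℕ) : ZMod (2 * 2 ^ k)) * 2 := by
      rw [h]
      push_cast
      ring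
    rw [add_sub_cancel_right, ← h2]

theorem sylow_sq_mem {F : Type*} [Field F] [Fintype F] (hF : Odd (Fintype.card F))
    (Q : Sylow 2 SL(2, F)) (x : (Q : Subgroup SL(2, F))) :
    x ^ 2 ∈ commutator (Q : Subgroup SL(2, F)) := by
  obtain ⟨k, hk, ⟨e⟩⟩ := Cfsg.Agent.Lib.PSL2.Quat.sylow_two_equiv_quaternion hF Q
  have h1 := quat_sq_mem hk (e x)
  have h2 := Cfsg.Agent.Lib.OrthSyl.Core.apply_mem_commutator e.symm.toMonoidHom h1
  simpa using h2

/-- Let F be a finite field of odd order and n ≥ 1. A Sylow 2-subgroup P of the symplectic group Sp_{2n}(F) has P/P' elementary abelian: the square of every element of P lies in the derived subgroup of P. -/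
theorem result {F : Type*} [Field F] [Fintype F] (hF : Odd (Fintype.card F)) (n : ℕ) (hn : 1 ≤ n) (P : Sylow 2 (Matrix.symplecticGroup (Fin n) F)) :
    ∀ x : (P : Subgroup (Matrix.symplecticGroup (Fin n) F)), x ^ 2 ∈ commutator (P : Subgroup (Matrix.symplecticGroup (Fin n) F)) := by
  intro x
  classical
  haveI : Fact (Nat.Prime 2) := ⟨Nat.prime_two⟩
  have hq1 : 1 < Fintype.card F := Fintype.one_lt_card
  let D : Sylow 2 SL(2, F) := default
  let T : Sylow 2 (Perm (Fin n)) := default
  refine Cfsg.Agent.Lib.OrthSyl.Whole.main_whole (c := cHomOf (n := n) (D : Subgroup SL(2, F)))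
    (π := pHom n F) (isWreath_cHomOf _) (T : Subgroup (Perm (Fin n)))
    (Cfsg.Agent.S4623.result 2 n T default).1 (injective_mul _ _) ?_ (sylow_sq_mem hF D)
    (fun _ => rfl) P x
  have h1 : (Nat.card SL(2, F)).factorization 2 =
      padicValNat 2 (Fintype.card F - 1) + padicValNat 2 (Fintype.card F + 1) := by
    rw [Cfsg.Agent.Lib.PSL2.ClassSizes.card_SL2_mul, Nat.factorization_def _ Nat.prime_two,
      padicValNat.mul (by positivity) (by have : 0 < Fintype.card F - 1 := by omega
                                          positivity),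
      padicValNat.mul (by omega) (by omega)]
    have h3 : padicValNat 2 (Fintype.card F) = 0 := by
      have := val_pow_odd hF 1
      rwa [pow_one] at this
    rw [h3, zero_add]
  have h2 : (Nat.card (symplecticGroup (Fin n) F)).factorization 2 =
      n * (padicValNat 2 (Fintype.card F - 1) + padicValNat 2 (Fintype.card F + 1)) +
        padicValNat 2 n.factorial := by
    rw [Cfsg.Agent.Lib.Classical.Symp.Count.card_symplecticGroup (q := Fintype.card F)
      Nat.card_eq_fintype_card n, Nat.factorization_def _ Nat.prime_two,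
      padicValNat.mul (by positivity) (prod_ne_zero hq1 n), val_pow_odd hF, zero_add, val_prod hF hq1]
  rw [Sylow.card_eq_multiplicity D, Sylow.card_eq_multiplicity T, h1, h2, Nat.card_unique, mul_one,
    Nat.card_eq_fintype_card (α := Perm (Fin n)), Fintype.card_perm, Fintype.card_fin,
    Nat.factorization_def _ Nat.prime_two, ← pow_mul, ← pow_add, mul_comm n]

end Cfsg.Agent.S4624
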