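import Cfsg.Statements.S2648
import Mathlib
import Cfsg.Agent.S4624
import Cfsg.Agent.Lib.DerLen.Lower
-- import your own Cfsg.Agent.* helpers here

set_option autoImplicit false
open Cfsg

namespace Cfsg.Agent.S2648

open Matrix Equiv Cfsg.Agent.Lib.SpSyl Cfsg.Agent.Lib.OrthSyl.Count Cfsg.Agent.Lib.OrthSyl.Core
open Cfsg.Agent.Lib.DerLen.Basic Cfsg.Agent.Lib.DerLen.Wreath Cfsg.Agent.Lib.DerLen.Lower
open scoped MatrixGroups commutatorElement

theorem quat_derived_two {k : ℕ} : derivedSeries (QuaternionGroup (2 ^ k)) 2 = ⊥ := by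
  haveI : NeZero (2 ^ k) := ⟨by positivity⟩
  rw [show (2 : ℕ) = 1 + 1 from rfl, derivedSeries_succ, derivedSeries_succ, derivedSeries_zero,
    Cfsg.Agent.Lib.Basic.QuatSylow.commutator_top, eq_bot_iff, Subgroup.commutator_le]
  intro a ha b hb
  rw [Subgroup.mem_bot, commutatorElement_eq_one_iff_mul_comm]
  obtain ⟨i, rfl⟩ := ha
  obtain ⟨j, rfl⟩ := hb
  simp only
  group

theorem quat_noncomm {k : ℕ} (hk : 1 ≤ k) :
    ⁅(QuaternionGroup.a 1 : QuaternionGroup (2 ^ k)), (QuaternionGroup.xa 0 : QuaternionGroup (2 ^ k))⁆ ≠ 1 := by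
  haveI : NeZero (2 ^ k) := ⟨by positivity⟩
  rw [Cfsg.Agent.Lib.Basic.QuatSylow.comm_a_one]
  intro h
  have h1 : (QuaternionGroup.a 2 : QuaternionGroup (2 ^ k)) = QuaternionGroup.a 0 := h
  have h2 : (2 : ZMod (2 * 2 ^ k)) = 0 := QuaternionGroup.a.inj h1
  have h3 : ((2 : ℕ) : ZMod (2 * 2 ^ k)) = 0 := by exact_mod_cast h2
  rw [ZMod.natCast_eq_zero_iff] at h3
  have h4 : 2 * 2 ^ k ≤ 2 := Nat.le_of_dvd (by norm_num) h3
  have h5 : 2 ≤ 2 ^ k := by
    calc 2 = 2 ^ 1 := rfl
      _ ≤ 2 ^ k := Nat.pow_le_pow_right (by norm_num) hk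
  omega

/-- Let q be odd, F a field with q elements and n ≥ 1. A Sylow 2-subgroup R of the symplectic group Sp_{2n}(F) has derived length exactly k + 1, where 2^k ≤ 2n < 2^{k+1}: the (k+1)-st term of its derived series is trivial and the k-th is not. -/
theorem result {F : Type*} [Field F] [Fintype F] [DecidableEq F] (q : ℕ) (hF : Fintype.card F = q) (hq : Odd q) (n : ℕ) (hn : 1 ≤ n) (R : Sylow 2 ↥(Matrix.symplecticGroup (Fin n) F)) : derivedSeries ↥(R : Subgroup ↥(Matrix.symplecticGroup (Fin n) F)) (Nat.log 2 (2 * n) + 1) = ⊥ ∧ derivedSeries ↥(R : Subgroup ↥(Matrix.symplecticGroup (Fin n) F)) (Nat.log 2 (2 * n)) ≠ ⊥ := by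
  classical
  subst hF
  haveI : Fact (Nat.Prime 2) := ⟨Nat.prime_two⟩
  have hq1 : 1 < Fintype.card F := Fintype.one_lt_card
  let D : Sylow 2 SL(2, F) := default
  let T : Sylow 2 (Perm (Fin n)) := default
  obtain ⟨k, hk, ⟨e⟩⟩ := Cfsg.Agent.Lib.PSL2.Quat.sylow_two_equiv_quaternion hq D
  have hw := isWreath_cHomOf (n := n) (D : Subgroup SL(2, F))
  have hlog : Nat.log 2 (2 * n) = Nat.log 2 n + 1 := by
    rw [mul_comm, Nat.log_mul_base (by norm_num) (by omega)]
  rw [hlog]
  -- the order
  have hcount : Nat.card (D : Subgroup SL(2, F)) ^ Fintype.card (Fin n) * Nat.card PUnit.{1} *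
      Nat.card (T : Subgroup (Perm (Fin n))) =
      2 ^ (Nat.card (symplecticGroup (Fin n) F)).factorization 2 := by
    have h1 : (Nat.card SL(2, F)).factorization 2 =
        padicValNat 2 (Fintype.card F - 1) + padicValNat 2 (Fintype.card F + 1) := by
      rw [Cfsg.Agent.Lib.PSL2.ClassSizes.card_SL2_mul, Nat.factorization_def _ Nat.prime_two,
        padicValNat.mul (by positivity) (by have : 0 < Fintype.card F - 1 := by omega
                                            positivity),
        padicValNat.mul (by omega) (by omega)]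
      have h3 : padicValNat 2 (Fintype.card F) = 0 := by
        have := val_pow_odd hq 1
        rwa [pow_one] at this
      rw [h3, zero_add]
    have h2 : (Nat.card (symplecticGroup (Fin n) F)).factorization 2 =
        n * (padicValNat 2 (Fintype.card F - 1) + padicValNat 2 (Fintype.card F + 1)) +
          padicValNat 2 n.factorial := by
      rw [Cfsg.Agent.Lib.Classical.Symp.Count.card_symplecticGroup (q := Fintype.card F)
        Nat.card_eq_fintype_card n, Nat.factorization_def _ Nat.prime_two,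
        padicValNat.mul (by positivity) (prod_ne_zero hq1 n), val_pow_odd hq, zero_add, val_prod hq hq1]
    rw [Sylow.card_eq_multiplicity D, Sylow.card_eq_multiplicity T, h1, h2, Nat.card_unique, mul_one,
      Nat.card_eq_fintype_card (α := Perm (Fin n)), Fintype.card_perm, Fintype.card_fin,
      Nat.factorization_def _ Nat.prime_two, ← pow_mul, ← pow_add, mul_comm n]
  have hcard := card_wreathSub hw (T : Subgroup (Perm (Fin n))) (injective_mul _ _)
  let R₀ : Sylow 2 (symplecticGroup (Fin n) F) :=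
    Sylow.ofCard (wreathSub hw (T : Subgroup (Perm (Fin n)))) (by rw [hcard, hcount])
  have hR₀ : (R₀ : Subgroup (symplecticGroup (Fin n) F)) = wreathSub hw (T : Subgroup (Perm (Fin n))) := rfl
  constructor
  · -- the upper bound
    have hTd : derivedSeries (T : Subgroup (Perm (Fin n))) (Nat.log 2 n) = ⊥ := by
      have := derivedSeries_perm_eq_bot (T : Subgroup (Perm (Fin n))) T.isPGroup'
      simpa using this
    have hDd : derivedSeries (D : Subgroup SL(2, F)) 2 = ⊥ :=
      derivedSeries_eq_bot_of_mulEquiv e.symm quat_derived_two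
    have h1 := dser_wreath_eq_bot hw (T : Subgroup (Perm (Fin n))) hTd hDd
    rw [← hR₀, ← derivedSeries_eq_bot_iff] at h1
    exact derivedSeries_eq_bot_of_mulEquiv (Sylow.equiv R₀ R) h1
  · -- the lower bound
    have hinj : ∀ (m m' : (Fin n → (D : Subgroup SL(2, F))) × PUnit.{1}) (s s' : Perm (Fin n)),
        cHomOf (n := n) (D : Subgroup SL(2, F)) m * pHom n F s =
          cHomOf (n := n) (D : Subgroup SL(2, F)) m' * pHom n F s' → m = m' ∧ s = s' := by
      intro m m' s s' h
      have h1 := injective_mul (n := n) (D : Subgroup SL(2, F)) ⊤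
        (a₁ := (m, ⟨s, trivial⟩)) (a₂ := (m', ⟨s', trivial⟩)) h
      exact ⟨congrArg Prod.fst h1, congrArg (fun p => (p.2 : Perm (Fin n))) h1⟩
    have hne : ⁅e.symm (QuaternionGroup.a 1), e.symm (QuaternionGroup.xa 0)⁆ ≠ 1 := by
      rw [← map_commutatorElement]
      intro h
      exact quat_noncomm hk (e.symm.injective (by rw [h, map_one]))
    have hn2 : 2 ^ Nat.log 2 n ≤ Fintype.card (Fin n) := by
      rw [Fintype.card_fin]
      exact Nat.pow_log_le_self 2 (by omega)
    obtain ⟨X, hXp, hX⟩ := exists_pgroup hw hinj D.isPGroup' hne hn2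
    obtain ⟨R₁, hR₁⟩ := hXp.exists_le_sylow
    intro hbot
    have h1 : derivedSeries (R₁ : Subgroup (symplecticGroup (Fin n) F)) (Nat.log 2 n + 1) = ⊥ :=
      derivedSeries_eq_bot_of_mulEquiv (Sylow.equiv R R₁) hbot
    rw [derivedSeries_eq_bot_iff] at h1
    apply hX
    rw [eq_bot_iff, ← h1]
    exact dser_mono hR₁ _

end Cfsg.Agent.S2648
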