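import Cfsg.Statements.S2649
import Cfsg.Agent.Lib.Compute.M23Ext.TwoEnd

set_option autoImplicit false
open Cfsg

namespace Cfsg.Agent.S2649

/-- The data of the extension, from the statement. -/
noncomputable def pextOf {E : Type*} [Group E] (N : Subgroup E) [hN : N.Normal]
    (φ : E ⧸ N ≃* ↥Cfsg.Spor.M23)
    (ψ : Additive ↥N →+ (Cfsg.GolayPt → ZMod 2)) (hinj : Function.Injective ψ)
    (hrange : ∀ w : Cfsg.GolayPt → ZMod 2, w ∈ Set.range ψ ↔ (w ∈ Cfsg.golayCode ∧ w none = 0))
    (hψ : ∀ (g : E) (n : ↥N),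
      ψ (Additive.ofMul ⟨g * n * g⁻¹, hN.conj_mem n n.2 g⟩)
        = ψ (Additive.ofMul n) ∘ ⇑(((φ (QuotientGroup.mk g) : ↥Cfsg.Spor.M23) : Equiv.Perm Cfsg.GolayPt)⁻¹)) :
    Cfsg.Agent.Lib.Compute.M23Ext.PExt E := by
  classical
  have hker : ∀ a : E, φ.toMonoidHom.comp (QuotientGroup.mk' N) a = 1 ↔ a ∈ N := by
    intro a
    show φ (QuotientGroup.mk a) = 1 ↔ _
    rw [map_eq_one_iff φ φ.injective]
    exact QuotientGroup.eq_one_iff a
  have hvl : ∀ (a : E) (h : a ∈ N),
      (if h : a ∈ N then ψ (Additive.ofMul ⟨a, h⟩) else 0) = ψ (Additive.ofMul ⟨a, h⟩) := fun a h => dif_pos h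
  exact
  { π := φ.toMonoidHom.comp (QuotientGroup.mk' N)
    hs := φ.surjective.comp (QuotientGroup.mk'_surjective N)
    vl := fun e => if h : e ∈ N then ψ (Additive.ofMul ⟨e, h⟩) else 0
    hadd := by
      intro a b ha hb
      have ha' := (hker a).1 ha
      have hb' := (hker b).1 hb
      simp only [dif_pos ha', dif_pos hb', dif_pos (N.mul_mem ha' hb')]
      rw [← map_add]
      rfl
    hinj := by
      intro a ha h0
      have ha' := (hker a).1 ha
      simp only [dif_pos ha'] at h0
      have h1 : ψ (Additive.ofMul ⟨a, ha'⟩) = ψ 0 := by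
        rw [h0, map_zero]
      have h2 := hinj h1
      have h3 : (⟨a, ha'⟩ : N) = 1 := Additive.ofMul.injective h2
      exact congrArg Subtype.val h3
    hcode := by
      intro a ha
      have ha' := (hker a).1 ha
      simp only [dif_pos ha']
      exact (hrange _).1 ⟨_, rfl⟩
    hsurj := by
      intro w h1 h2
      obtain ⟨x, hx⟩ := (hrange w).2 ⟨h1, h2⟩
      refine ⟨((x.toMul : N) : E), (hker _).2 (x.toMul : N).2, ?_⟩
      simp only [dif_pos (x.toMul : N).2]
      exact hx
    hconj := by
      intro e a ha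
      have ha' := (hker a).1 ha
      simp only [dif_pos ha', dif_pos (hN.conj_mem a ha' e)]
      exact hψ e ⟨a, ha'⟩ }


/-- Extensions of the Mathieu group M₂₃ by its code module split. Let E be a finite group with a normal subgroup N, an isomorphism φ from E/N onto M₂₃ = `Spor.M23` (the stabiliser of the extra point `none` in M₂₄ acting on the 24 points `GolayPt`), and an injective additive homomorphism ψ from N onto the set of words of the binary Golay code `golayCode` that vanish at `none` (an 11-dimensional space over the field with two elements), such that conjugation by g ∈ E on N corresponds under ψ to the coordinate permutation w ↦ w ∘ σ⁻¹, σ the permutation φ(gN). Then N has a complement in E: some subgroup H meets N trivially and generates E together with N. (Equivalently, the second cohomology group of M₂₃ with coefficients in this module vanishes.) -/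
theorem result
    {E : Type*} [Group E] [Finite E] (N : Subgroup E) [hN : N.Normal]
    (φ : E ⧸ N ≃* ↥Cfsg.Spor.M23)
    (ψ : Additive ↥N →+ (Cfsg.GolayPt → ZMod 2)) (hinj : Function.Injective ψ)
    (hrange : ∀ w : Cfsg.GolayPt → ZMod 2, w ∈ Set.range ψ ↔ (w ∈ Cfsg.golayCode ∧ w none = 0))
    (hψ : ∀ (g : E) (n : ↥N),
      ψ (Additive.ofMul ⟨g * n * g⁻¹, hN.conj_mem n n.2 g⟩)
        = ψ (Additive.ofMul n) ∘ ⇑(((φ (QuotientGroup.mk g) : ↥Cfsg.Spor.M23) : Equiv.Perm Cfsg.GolayPt)⁻¹)) :
    ∃ H : Subgroup E, H ⊓ N = ⊥ ∧ H ⊔ N = ⊤ := by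
  open Cfsg.Agent.Lib.Compute.M23Ext in
  obtain ⟨H, h1, h2⟩ := (pextOf N φ ψ hinj hrange hψ).exists_complement
  have hk : (pextOf N φ ψ hinj hrange hψ).π.ker = N := by
    ext a
    show φ (QuotientGroup.mk a) = 1 ↔ _
    rw [map_eq_one_iff φ φ.injective]
    exact QuotientGroup.eq_one_iff a
  rw [hk] at h1 h2
  exact ⟨H, h1, h2⟩

end Cfsg.Agent.S2649
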