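import Cfsg.Statements.S2806
import Mathlib
import Cfsg.Agent.Lib.LocalY.KielerLocal

set_option autoImplicit false
open Cfsg

namespace Cfsg.Agent.S2806

open Subgroup Cfsg.Agent.Lib.Nilpotent.Subnormal Cfsg.Agent.Lib.LocalY.KielerLocal

section aux

variable {G : Type*} [Group G] [Finite G] {p : ℕ} [Fact p.Prime]

/-- If `T ⊓ X` is trivial then `X` has no nontrivial `p`-elements. -/
theorem eq_one_of_bot {X T : Subgroup G} (hX : X.IsSubnormal) (hT : IsPGroup p T)
    (hTi : ¬ p ∣ T.index) (hbot : T ⊓ X = ⊥) {x : G} (hx : x ∈ X) {k : ℕ} (hxk : x ^ p ^ k = 1) :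
    x = 1 := by
  have hi : ¬ p ∣ T.relIndex X := by
    have := Cfsg.Agent.Lib.Nilpotent.SylowJoin.relIndex_dvd_of_sn T (sn_top_of_isSubnormal hX)
    rw [Subgroup.relIndex_top_right] at this
    exact fun hd => hTi (hd.trans this)
  have hi' : ¬ p ∣ (T ⊓ X).relIndex X := by
    rwa [Subgroup.inf_relIndex_right]
  have := mem_of_sn_of_sylow (E := T ⊓ X) (Y := X) (R := T ⊓ X) ?_ le_rfl
    (hT.to_le inf_le_left) hi' hx hxk
  · rw [hbot] at this
    exact Subgroup.mem_bot.mp this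
  · rw [hbot]
    exact sn_bot X

/-- The `p`-elements of `C` generate a subgroup normal in `C`. -/
theorem normalIn_closure (C : Subgroup G) :
    NormalIn (closure {x : G | x ∈ C ∧ ∃ k : ℕ, orderOf x = p ^ k}) C := by
  refine ⟨(Subgroup.closure_le _).mpr fun x hx => hx.1, ?_⟩
  intro b hb a ha
  refine Cfsg.Agent.Lib.LocalY.Kieler.conj_mem_closure ?_ a ha
  rintro x ⟨hxC, k, hk⟩
  apply Subgroup.subset_closure
  refine ⟨C.mul_mem (C.mul_mem hb hxC) (C.inv_mem hb), k, ?_⟩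
  rw [← hk]
  exact MulEquiv.orderOf_eq (MulAut.conj b) x

theorem pointStabilizer_eq (hH : IsOfLocalCharacteristic p G) {L X T : Subgroup G}
    (hL : L.IsSubnormal) (hXL : SN X L) (hT : IsPGroup p T) (hTi : ¬ p ∣ T.index) :
    pointStabilizer p X (T ⊓ X) =
      closure {x : G | x ∈ X ⊓ centralizer ((Om p (T ⊓ L) : Subgroup G) : Set G) ∧
        ∃ k : ℕ, orderOf x = p ^ k} := by
  have hX : X.IsSubnormal := (SN.trans hXL (sn_top_of_isSubnormal hL)).isSubnormal_top
  by_cases hbot : T ⊓ X = ⊥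
  · have h1 : ∀ x : G, x ∈ X → (∃ k : ℕ, orderOf x = p ^ k) → x = 1 := by
      rintro x hx ⟨k, hk⟩
      exact eq_one_of_bot hX hT hTi hbot hx (k := k) (by rw [← hk]; exact pow_orderOf_eq_one x)
    unfold pointStabilizer
    have e1 : ∀ S : Subgroup G, S ≤ X → closure {x : G | x ∈ S ∧ ∃ k : ℕ, orderOf x = p ^ k} = ⊥ := by
      intro S hS
      rw [Subgroup.closure_eq_bot_iff]
      rintro x ⟨hx, hk⟩
      exact h1 x (hS hx) hk
    rw [e1 _ inf_le_left, e1 _ inf_le_left]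
  · have hi : ¬ p ∣ (T ⊓ L).relIndex L := by
      rw [Subgroup.inf_relIndex_right]
      have := Cfsg.Agent.Lib.Nilpotent.SylowJoin.relIndex_dvd_of_sn T (sn_top_of_isSubnormal hL)
      rw [Subgroup.relIndex_top_right] at this
      exact fun hd => hTi (hd.trans this)
    have hinf : T ⊓ L ⊓ X = T ⊓ X := by
      rw [inf_assoc, inf_eq_right.mpr hXL.le]
    have h2 := kieler_local hH hXL hL (hT.to_le inf_le_left) inf_le_right hi (by rw [hinf]; exact hbot)
    rw [hinf] at h2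
    rw [h2]
    rfl

theorem main (hH : IsOfLocalCharacteristic p G) (T : Sylow p G) (L₁ L₂ : Subgroup G)
    (h₁ : L₁.IsSubnormal) (h₂ : L₂.IsSubnormal) :
    pointStabilizer p (L₁ ⊔ L₂) ((T : Subgroup G) ⊓ (L₁ ⊔ L₂)) =
      pointStabilizer p L₁ ((T : Subgroup G) ⊓ L₁) ⊔ pointStabilizer p L₂ ((T : Subgroup G) ⊓ L₂) := by
  have hTp : IsPGroup p (T : Subgroup G) := T.isPGroup'
  have hTi : ¬ p ∣ (T : Subgroup G).index := T.not_dvd_index
  have hL : (L₁ ⊔ L₂).IsSubnormal := isSubnormal_sup h₁ h₂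
  have hs1 : SN L₁ (L₁ ⊔ L₂) := (sn_top_of_isSubnormal h₁).of_le le_sup_left le_top
  have hs2 : SN L₂ (L₁ ⊔ L₂) := (sn_top_of_isSubnormal h₂).of_le le_sup_right le_top
  rw [pointStabilizer_eq hH hL hs1 hTp hTi, pointStabilizer_eq hH hL hs2 hTp hTi]
  set R : Subgroup G := (T : Subgroup G) ⊓ (L₁ ⊔ L₂) with hR
  set Z : Subgroup G := Om p R with hZ
  have hE : pointStabilizer p (L₁ ⊔ L₂) R =
      closure {x : G | x ∈ (L₁ ⊔ L₂) ⊓ centralizer (Z : Set G) ∧ ∃ k : ℕ, orderOf x = p ^ k} := rfl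
  rw [hE]
  have hZc : ∀ u ∈ R, ∀ z ∈ Z, z * u = u * z := by
    intro u hu z hz
    have h1 : Z ≤ R ⊓ centralizer (R : Set G) := by
      refine (Subgroup.closure_le _).mpr ?_
      rintro x ⟨hx, -⟩
      exact hx
    exact (mem_centralizer_iff.mp (h1 hz).2 u hu).symm
  apply le_antisymm
  · refine (Subgroup.closure_le _).mpr ?_
    rintro x ⟨hxC, k, hk⟩
    set C : Subgroup G := (L₁ ⊔ L₂) ⊓ centralizer (Z : Set G) with hC
    have hsn : ∀ X : Subgroup G, SN X (L₁ ⊔ L₂) →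
        SN (closure {x : G | x ∈ X ⊓ centralizer (Z : Set G) ∧ ∃ k : ℕ, orderOf x = p ^ k}) C := by
      intro X hX
      exact (normalIn_closure (p := p) (X ⊓ centralizer (Z : Set G))).sn.trans (hX.inf _)
    have hsup := joinIn C _ _ (hsn L₁ hs1) (hsn L₂ hs2)
    have hmem : ∀ X : Subgroup G, X ≤ L₁ ⊔ L₂ → X ⊓ (T : Subgroup G) ≤
        closure {x : G | x ∈ X ⊓ centralizer (Z : Set G) ∧ ∃ k : ℕ, orderOf x = p ^ k} := by
      rintro X hX u ⟨huX, huT⟩
      apply Subgroup.subset_closure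
      refine ⟨⟨huX, ?_⟩, ?_⟩
      · show u ∈ centralizer (Z : Set G)
        rw [mem_centralizer_iff]
        intro z hz
        exact hZc u ⟨huT, hX huX⟩ z hz
      · obtain ⟨n, hn⟩ := IsPGroup.iff_card.mp hTp
        have h3 : orderOf (⟨u, huT⟩ : ↥(T : Subgroup G)) ∣ p ^ n := by
          rw [← hn]
          exact orderOf_dvd_natCard _
        obtain ⟨m, -, hm⟩ := (Nat.dvd_prime_pow (Fact.out : p.Prime)).mp h3
        refine ⟨m, ?_⟩
        rw [← hm]
        exact (Subgroup.orderOf_mk u huT).symm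
    have hRle : R ≤ closure {x : G | x ∈ L₁ ⊓ centralizer (Z : Set G) ∧ ∃ k : ℕ, orderOf x = p ^ k} ⊔
        closure {x : G | x ∈ L₂ ⊓ centralizer (Z : Set G) ∧ ∃ k : ℕ, orderOf x = p ^ k} := by
      have h4 := Cfsg.Agent.Lib.Nilpotent.SylowJoin.inf_sup_eq hTp hTi h₁ h₂
      rw [hR, inf_comm, h4]
      exact sup_le_sup (hmem L₁ le_sup_left) (hmem L₂ le_sup_right)
    have hRC : R ≤ C := by
      intro u hu
      refine ⟨hu.2, ?_⟩
      show u ∈ centralizer (Z : Set G)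
      rw [mem_centralizer_iff]
      intro z hz
      exact hZc u hu z hz
    have hi : ¬ p ∣ R.relIndex C := by
      intro hd
      apply hTi
      have h5 : R.relIndex C ∣ R.relIndex (L₁ ⊔ L₂) := by
        rw [← Subgroup.relIndex_mul_relIndex R C (L₁ ⊔ L₂) hRC inf_le_left]
        exact dvd_mul_right _ _
      have h6 : R.relIndex (L₁ ⊔ L₂) ∣ (T : Subgroup G).index := by
        rw [hR, Subgroup.inf_relIndex_right]
        have := Cfsg.Agent.Lib.Nilpotent.SylowJoin.relIndex_dvd_of_sn (T : Subgroup G)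
          (sn_top_of_isSubnormal hL)
        rwa [Subgroup.relIndex_top_right] at this
      exact hd.trans (h5.trans h6)
    exact mem_of_sn_of_sylow hsup hRle (hTp.to_le inf_le_left) hi hxC
      (k := k) (by rw [← hk]; exact pow_orderOf_eq_one x)
  · apply sup_le
    · apply Subgroup.closure_mono
      rintro x ⟨hx, hk⟩
      exact ⟨⟨le_sup_left (a := L₁) hx.1, hx.2⟩, hk⟩
    · apply Subgroup.closure_mono
      rintro x ⟨hx, hk⟩
      exact ⟨⟨le_sup_right (b := L₂) hx.1, hx.2⟩, hk⟩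

end aux

/-- Let H be a finite group of local characteristic p, T a Sylow p-subgroup, and L₁, L₂ subnormal subgroups of H generating the subgroup L. Then the point stabilizer of L with respect to T ∩ L is generated by the point stabilizers of L₁ and L₂ with respect to T ∩ L₁ and T ∩ L₂ (point stabilizer of X w.r.t. R: the subgroup generated by the p-elements of X centralizing Ω₁(Z(R))). -/
theorem result {H : Type*} [Group H] [Finite H] {p : ℕ} [Fact p.Prime] (hH : Cfsg.IsOfLocalCharacteristic p H) (T : Sylow p H) (L₁ L₂ : Subgroup H) (h₁ : L₁.IsSubnormal) (h₂ : L₂.IsSubnormal) : Cfsg.pointStabilizer p (L₁ ⊔ L₂) ((T : Subgroup H) ⊓ (L₁ ⊔ L₂)) = Cfsg.pointStabilizer p L₁ ((T : Subgroup H) ⊓ L₁) ⊔ Cfsg.pointStabilizer p L₂ ((T : Subgroup H) ⊓ L₂) := by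
  exact main hH T L₁ L₂ h₁ h₂

end Cfsg.Agent.S2806
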