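import Cfsg.Statements.S2809
import Cfsg.Agent.Lib.Coprime.Stability
import Mathlib

set_option autoImplicit false
open Cfsg
open scoped commutatorElement
open Cfsg.Agent.Lib.Coprime.Stability

namespace Cfsg.Agent.S2809

/-- Let H be a finite group, p a prime, R a p-subgroup of H with C_H(R) ≤ R, and L a subgroup of N_H(R) acting nilpotently on R (some iterated commutator [R, L, …, L] is trivial). Then L is a p-group. -/
theorem result {H : Type*} [Group H] [Finite H] {p : ℕ} [Fact p.Prime] (R : Subgroup H) (hR : IsPGroup p ↥R) (hC : Subgroup.centralizer (R : Set H) ≤ R) (L : Subgroup H) (hL : L ≤ Subgroup.normalizer (R : Set H)) (hnil : ∃ n : ℕ, Cfsg.iterCommutator R L n = ⊥) : IsPGroup p ↥L := by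
  obtain ⟨n, hn⟩ := hnil
  have hp : p.Prime := Fact.out
  have hle : ∀ i, Cfsg.iterCommutator R L i ≤ R := by
    intro i
    induction i with
    | zero => exact le_rfl
    | succ i ih =>
      show ⁅Cfsg.iterCommutator R L i, L⁆ ≤ R
      rw [Subgroup.commutator_le]
      intro r hr l hl
      have hr' := ih hr
      have h2 : l * r⁻¹ * l⁻¹ ∈ R :=
        (Subgroup.mem_normalizer_iff.mp (hL hl) r⁻¹).mp (R.inv_mem hr')
      rw [commutatorElement_def, show r * l * r⁻¹ * l⁻¹ = r * (l * r⁻¹ * l⁻¹) by group]
      exact R.mul_mem hr' h2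
  apply isPGroup_of_forall_coprime hp
  intro x hx hcop
  apply eq_one_of_mem_of_coprime hR (hC ?_) hcop
  -- downward induction along the chain
  have key : ∀ k i, i + k = n → ∀ r ∈ Cfsg.iterCommutator R L i, Commute x r := by
    intro k
    induction k with
    | zero =>
      intro i hi r hr
      have : i = n := by omega
      subst this
      rw [hn] at hr
      have : r = 1 := by simpa using hr
      rw [this]
      exact Commute.one_right x
    | succ k ih =>
      intro i hi r hr
      have hz : ⁅r, x⁆ ∈ Cfsg.iterCommutator R L (i + 1) :=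
        Subgroup.commutator_mem_commutator hr hx
      have hz' : ⁅x, r⁆ ∈ Cfsg.iterCommutator R L (i + 1) := by
        rw [← commutatorElement_inv]
        exact Subgroup.inv_mem _ hz
      refine commute_of_commute_commutator hp x r hcop (ih (i + 1) (by omega) _ hz') ?_
      exact exists_pow_eq_one_of_mem hR (hle _ hz')
  rw [Subgroup.mem_centralizer_iff]
  intro r hr
  exact (key n 0 (by omega) r hr).symm.eq

end Cfsg.Agent.S2809
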