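import Cfsg.Statements.S2810
import Cfsg.Agent.Lib.Coprime.Stability
import Cfsg.Agent.Lib.Basic.PCore
import Mathlib

set_option autoImplicit false
open Cfsg
open scoped commutatorElement
open Cfsg.Agent.Lib.Coprime.Stability
open Cfsg.Agent.Lib.Basic.PCore

namespace Cfsg.Agent.S2810

/-- Let H be a finite group of characteristic p and L a subgroup of H centralizing every factor of some H-invariant chain 1 = A₀ ≤ A₁ ≤ … ≤ Aₙ = O_p(H) of normal subgroups (that is, [A_{i+1}, L] ≤ Aᵢ for each i). Then L ≤ O_p(H). -/
theorem result {H : Type*} [Group H] [Finite H] {p : ℕ} [Fact p.Prime] (hchar : Subgroup.centralizer (Cfsg.pCore p H : Set H) ≤ Cfsg.pCore p H) (L : Subgroup H) (n : ℕ) (A : Fin (n + 1) → Subgroup H) (h0 : A 0 = ⊥) (hn : A (Fin.last n) = Cfsg.pCore p H) (hmono : Monotone A) (hnorm : ∀ i, (A i).Normal) (hcent : ∀ i : Fin n, ⁅A i.succ, L⁆ ≤ A i.castSucc) : L ≤ Cfsg.pCore p H := by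
  have hp : p.Prime := Fact.out
  have hpcore : IsPGroup p (Cfsg.pCore p H) := pCore_isPGroup p
  -- stabilizer of the chain
  let S : Subgroup H :=
    { carrier := {h | ∀ i : Fin n, ∀ a ∈ A i.succ, ⁅a, h⁆ ∈ A i.castSucc}
      mul_mem' := by
        intro x y hx hy i a ha
        have h1 := hx i a ha
        have h2 := hy i a ha
        have h3 := (hnorm i.castSucc).conj_mem _ h2 x
        have : ⁅a, x * y⁆ = ⁅a, x⁆ * (x * ⁅a, y⁆ * x⁻¹) := by
          simp only [commutatorElement_def]; group
        rw [this]
        exact Subgroup.mul_mem _ h1 h3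
      one_mem' := by
        intro i a _
        simp [commutatorElement_def, Subgroup.one_mem]
      inv_mem' := by
        intro x hx i a ha
        have h1 := hx i a ha
        have h3 := (hnorm i.castSucc).conj_mem _ (Subgroup.inv_mem _ h1) x⁻¹
        have : ⁅a, x⁻¹⁆ = x⁻¹ * ⁅a, x⁆⁻¹ * x⁻¹⁻¹ := by
          simp only [commutatorElement_def]; group
        rw [this]
        exact h3 }
  have hLS : L ≤ S := by
    intro l hl i a ha
    exact hcent i (Subgroup.commutator_mem_commutator ha hl)
  have hSnormal : S.Normal := by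
    constructor
    intro s hs g i a ha
    have h1 := hs i (g⁻¹ * a * g) (by
      have := (hnorm i.succ).conj_mem a ha g⁻¹
      simpa using this)
    have h2 := (hnorm i.castSucc).conj_mem _ h1 g
    have : ⁅a, g * s * g⁻¹⁆ = g * ⁅g⁻¹ * a * g, s⁆ * g⁻¹ := by
      simp only [commutatorElement_def]; group
    rw [this]
    exact h2
  have hSp : IsPGroup p S := by
    apply isPGroup_of_forall_coprime hp
    intro x hx hcop
    apply eq_one_of_mem_of_coprime hpcore (hchar ?_) hcop
    -- x centralizes the chain, by induction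
    have key : ∀ (i : ℕ) (hi : i < n + 1), ∀ a ∈ A ⟨i, hi⟩, Commute x a := by
      intro i
      induction i with
      | zero =>
        intro hi a ha
        have : A ⟨0, hi⟩ = ⊥ := h0
        rw [this] at ha
        have : a = 1 := by simpa using ha
        rw [this]
        exact Commute.one_right x
      | succ i ih =>
        intro hi a ha
        have hi' : i < n := by omega
        have hsucc : (⟨i + 1, hi⟩ : Fin (n + 1)) = (⟨i, hi'⟩ : Fin n).succ := rfl
        have hcast : (⟨i, by omega⟩ : Fin (n + 1)) = (⟨i, hi'⟩ : Fin n).castSucc := rfl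
        rw [hsucc] at ha
        have hz : ⁅a, x⁆ ∈ A (⟨i, hi'⟩ : Fin n).castSucc := hx _ a ha
        have hz' : ⁅x, a⁆ ∈ A (⟨i, hi'⟩ : Fin n).castSucc := by
          rw [← commutatorElement_inv]
          exact Subgroup.inv_mem _ hz
        rw [← hcast] at hz'
        refine commute_of_commute_commutator hp x a hcop (ih (by omega) _ hz') ?_
        have hle : A ⟨i, by omega⟩ ≤ Cfsg.pCore p H := by
          rw [← hn]
          exact hmono (Fin.le_last _)
        exact exists_pow_eq_one_of_mem hpcore (hle hz')
    rw [Subgroup.mem_centralizer_iff]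
    intro r hr
    have hr' : r ∈ A (Fin.last n) := by rw [hn]; exact hr
    exact (key n (by omega) r hr').symm.eq
  exact hLS.trans (le_pCore hSnormal hSp)

end Cfsg.Agent.S2810
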