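import Cfsg.Statements.S2812
import Mathlib
import Cfsg.Agent.Lib.Components.YAction
-- import your own Cfsg.Agent.* helpers here

set_option autoImplicit false
open Cfsg

namespace Cfsg.Agent.S2812

/-- Let H be a subgroup of the finite group G with O_p(H) = 1, Y a p-subgroup of G normalizing H, and L a subgroup of the generalized Fitting subgroup F*(H) that is subnormal in H and normalized by Y. Then L = [L, Y]·C_L(Y) and [L, Y] = [L, Y, Y]. -/
theorem result {G : Type*} [Group G] [Finite G] {p : ℕ} [Fact p.Prime] (H : Subgroup G) (hO : Cfsg.pCore p ↥H = ⊥) (Y : Subgroup G) (hY : IsPGroup p ↥Y) (hYH : Y ≤ Subgroup.normalizer (H : Set G)) (L : Subgroup G) (hLF : L ≤ (Cfsg.generalizedFittingSubgroup ↥H).map H.subtype) (hLsn : (L.subgroupOf H).IsSubnormal) (hYL : Y ≤ Subgroup.normalizer (L : Set G)) : ⁅L, Y⁆ ⊔ (L ⊓ Subgroup.centralizer (Y : Set G)) = L ∧ ⁅L, Y⁆ = ⁅⁅L, Y⁆, Y⁆ := by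
  have hLH : L ≤ H := hLF.trans (Subgroup.map_subtype_le _)
  have hSF : L.subgroupOf H ≤ Cfsg.generalizedFittingSubgroup ↥H := by
    intro x hx
    obtain ⟨y, hy, hyx⟩ := hLF (Subgroup.mem_subgroupOf.mp hx)
    have : y = x := Subtype.ext hyx
    rwa [← this]
  let e : ↥(L.subgroupOf H) ≃* ↥L := Subgroup.subgroupOfEquivOfLe hLH
  have h1 := Cfsg.Agent.Lib.Components.FStarFactor.fitting_sup_layer_eq_top hSF hLsn
  have hL : Cfsg.fittingSubgroup ↥L ⊔ Cfsg.layer ↥L = ⊤ := by
    rw [← Cfsg.Agent.Lib.Components.Fitting.fitting_map_eq e,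
      ← Cfsg.Agent.Lib.Components.FStar.layer_map_equiv e, ← Subgroup.map_sup, h1,
      ← MonoidHom.range_eq_map]
    exact MonoidHom.range_eq_top.mpr e.surjective
  have hc := Cfsg.Agent.Lib.Components.YAction.card_fitting_coprime
    (Cfsg.Agent.Lib.Components.YAction.pCore_eq_bot_of_subnormal hO hLsn)
  have hcop : (Nat.card ↥(Cfsg.fittingSubgroup ↥L)).Coprime p := by
    have e2 : Nat.card ↥(Cfsg.fittingSubgroup ↥L) =
        Nat.card ↥(Cfsg.fittingSubgroup ↥(L.subgroupOf H)) := by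
      rw [← Cfsg.Agent.Lib.Components.Fitting.fitting_map_eq e]
      exact (Nat.card_congr (Subgroup.equivMapOfInjective _ _ e.injective).toEquiv).symm
    rwa [e2]
  obtain ⟨h2, h3⟩ := Cfsg.Agent.Lib.Components.YAction.action_of_top L Y hL hcop hY hYL
  exact ⟨h2, h3.symm⟩

end Cfsg.Agent.S2812
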