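import Cfsg.Statements.S2813
import Mathlib
-- import your own Cfsg.Agent.* helpers here

set_option autoImplicit false
open Cfsg

namespace Cfsg.Agent.S2813

open scoped commutatorElement


/-- Let K be a subgroup of the finite group H with O_p(K) = 1 and Y a p-subgroup of N_H(K) with [K, Y, Y] = 1. Then [K, Y] = 1. -/
theorem result {H : Type*} [Group H] [Finite H] {p : ℕ} [Fact p.Prime] (K : Subgroup H) (hO : Cfsg.pCore p ↥K = ⊥) (Y : Subgroup H) (hY : IsPGroup p ↥Y) (hYK : Y ≤ Subgroup.normalizer (K : Set H)) (hq : ⁅⁅K, Y⁆, Y⁆ = ⊥) : ⁅K, Y⁆ = ⊥ := by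
  classical
  set D := ⁅K, Y⁆ with hD
  have hDK : D ≤ K := by
    rw [hD, Subgroup.commutator_le]
    intro x hx y hy
    have hy' := (Subgroup.mem_set_normalizer_iff).1 (hYK hy)
    have h1 : y * x⁻¹ * y⁻¹ ∈ K := (hy' x⁻¹).1 (inv_mem hx)
    show x * y * x⁻¹ * y⁻¹ ∈ K
    have e : x * y * x⁻¹ * y⁻¹ = x * (y * x⁻¹ * y⁻¹) := by group
    rw [e]
    exact mul_mem hx h1
  have hDY : ∀ c ∈ D, ∀ y ∈ Y, Commute c y := by
    intro c hc y hy
    have h := Subgroup.commutator_mem_commutator hc hy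
    rw [hq, Subgroup.mem_bot] at h
    exact commutatorElement_eq_one_iff_commute.1 h
  -- K normalizes D
  have hKD : ∀ k ∈ K, ∀ d ∈ D, k * d * k⁻¹ ∈ D := by
    intro k hk d hd
    have hle : D ≤ D.comap (MulAut.conj k).toMonoidHom ⊔ D := le_sup_right
    have : D ≤ D.comap (MulAut.conj k).toMonoidHom := by
      rw [hD, Subgroup.commutator_def, Subgroup.closure_le]
      rintro _ ⟨x, hx, y, hy, rfl⟩
      show k * ⁅x, y⁆ * k⁻¹ ∈ ⁅K, Y⁆
      have e : k * ⁅x, y⁆ * k⁻¹ = ⁅k * x, y⁆ * ⁅k, y⁆⁻¹ := by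
        simp only [commutatorElement_def]
        group
      rw [e]
      exact mul_mem (Subgroup.commutator_mem_commutator (mul_mem hk hx) hy)
        (inv_mem (Subgroup.commutator_mem_commutator hk hy))
    exact this hd
  -- D is abelian
  have hDD : ⁅D, D⁆ = ⊥ := by
    apply Subgroup.commutator_commutator_eq_bot_of_rotate (H₁ := K) (H₂ := Y) (H₃ := D)
    · rw [Subgroup.commutator_comm Y D, hq, Subgroup.commutator_bot_left]
    · have h1 : ⁅D, K⁆ ≤ D := by
        rw [Subgroup.commutator_le]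
        intro d hd k hk
        show d * k * d⁻¹ * k⁻¹ ∈ D
        have e : d * k * d⁻¹ * k⁻¹ = d * (k * d⁻¹ * k⁻¹) := by group
        rw [e]
        exact mul_mem hd (hKD k hk _ (inv_mem hd))
      apply le_bot_iff.1
      rw [← hq]
      exact Subgroup.commutator_mono h1 le_rfl
  have hDcomm : ∀ a ∈ D, ∀ b ∈ D, Commute a b := by
    intro a ha b hb
    have h := Subgroup.commutator_mem_commutator ha hb
    rw [hDD, Subgroup.mem_bot] at h
    exact commutatorElement_eq_one_iff_commute.1 h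
  -- every element of D is a p-element
  have hDp : ∀ d ∈ D, ∃ n : ℕ, d ^ p ^ n = 1 := by
    intro d hd
    rw [hD, Subgroup.commutator_def] at hd
    induction hd using Subgroup.closure_induction with
    | mem x hx =>
      obtain ⟨a, ha, y, hy, rfl⟩ := hx
      obtain ⟨m, hm⟩ := hY ⟨y, hy⟩
      have hm' : y ^ p ^ m = 1 := congrArg Subtype.val hm
      refine ⟨m, ?_⟩
      have hc : Commute ⁅a, y⁆ y := hDY _ (Subgroup.commutator_mem_commutator ha hy) y hy
      have h1 : a * y * a⁻¹ = ⁅a, y⁆ * y := by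
        simp only [commutatorElement_def]
        group
      have h2 : (a * y * a⁻¹) ^ p ^ m = 1 := by
        rw [conj_pow, hm']
        group
      rw [h1, hc.mul_pow, hm', mul_one] at h2
      exact h2
    | one => exact ⟨0, by simp⟩
    | mul a b ha hb iha ihb =>
      obtain ⟨m, hm⟩ := iha
      obtain ⟨n, hn⟩ := ihb
      refine ⟨m + n, ?_⟩
      have hc : Commute a b := hDcomm a (by rw [hD, Subgroup.commutator_def]; exact ha) b
        (by rw [hD, Subgroup.commutator_def]; exact hb)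
      rw [hc.mul_pow, pow_add, pow_mul, hm, one_pow, mul_comm (p ^ m), pow_mul, hn, one_pow, one_mul]
    | inv a ha iha =>
      obtain ⟨m, hm⟩ := iha
      exact ⟨m, by rw [inv_pow, hm, inv_one]⟩
  -- pass to K
  let D' : Subgroup ↥K := D.subgroupOf K
  have hD'n : D'.Normal := by
    refine ⟨?_⟩
    intro n hn g
    rw [Subgroup.mem_subgroupOf] at hn ⊢
    exact hKD g g.2 n hn
  have hD'p : IsPGroup p ↥D' := by
    rintro ⟨x, hx⟩
    obtain ⟨n, hn⟩ := hDp x hx
    refine ⟨n, ?_⟩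
    apply Subtype.ext
    apply Subtype.ext
    exact hn
  have hle : D' ≤ Cfsg.pCore p ↥K := le_sSup ⟨hD'n, hD'p⟩
  rw [hO] at hle
  rw [eq_bot_iff]
  intro d hd
  have hm : (⟨d, hDK hd⟩ : ↥K) ∈ D' := by
    show (⟨d, hDK hd⟩ : ↥K) ∈ D.subgroupOf K
    rw [Subgroup.mem_subgroupOf]
    exact hd
  have := hle hm
  rw [Subgroup.mem_bot] at this
  exact Subgroup.mem_bot.2 (congrArg Subtype.val this)

end Cfsg.Agent.S2813
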