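import Cfsg.Statements.S2814
import Cfsg.Agent.Lib.Nilpotent.SubnormalRadical
import Cfsg.Agent.Lib.Transfer.Basic
import Mathlib

set_option autoImplicit false
open Cfsg
open scoped commutatorElement

namespace Cfsg.Agent.S2814

section aux
variable {G : Type*} [Group G]

theorem conj_left_mem (A B : Subgroup G) (a : G) (ha : a ∈ A) (c : G) (hc : c ∈ ⁅A, B⁆) :
    a * c * a⁻¹ ∈ ⁅A, B⁆ := by
  rw [Subgroup.commutator_def] at hc ⊢
  induction hc using Subgroup.closure_induction with
  | mem z hz =>
    obtain ⟨x, hx, h, hh, rfl⟩ := hz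
    have e : a * ⁅x, h⁆ * a⁻¹ = ⁅a * x, h⁆ * ⁅a, h⁆⁻¹ := by
      simp only [commutatorElement_def]; group
    rw [e]
    exact Subgroup.mul_mem _ (Subgroup.subset_closure ⟨_, A.mul_mem ha hx, h, hh, rfl⟩)
      (Subgroup.inv_mem _ (Subgroup.subset_closure ⟨a, ha, h, hh, rfl⟩))
  | one => simp
  | mul x y _ _ hx hy =>
    have e : a * (x * y) * a⁻¹ = (a * x * a⁻¹) * (a * y * a⁻¹) := by group
    rw [e]; exact Subgroup.mul_mem _ hx hy
  | inv x _ hx =>
    have e : a * x⁻¹ * a⁻¹ = (a * x * a⁻¹)⁻¹ := by group
    rw [e]; exact Subgroup.inv_mem _ hx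

theorem sInf_isSubnormal [Finite G] (F : Set (Subgroup G)) (hF : ∀ L ∈ F, L.IsSubnormal) :
    (sInf F).IsSubnormal := by
  have hf : F.Finite := Set.toFinite F
  induction F, hf using Set.Finite.induction_on with
  | empty => simpa using Subgroup.IsSubnormal.top
  | @insert a s _ _ ih =>
    rw [sInf_insert]
    exact (hF _ (Set.mem_insert _ _)).inf (ih fun A hA => hF _ (Set.mem_insert_of_mem _ hA))

end aux

/-- Let A be a subgroup of the finite group H and K the subnormal closure of A (intersection of the subnormal subgroups containing A). Then K is the normal closure of A inside K and N_H(A) ≤ N_H(K); K = A·O^p(K), O^p(K) being generated by the elements of K of order prime to p; and if A is a p-group, O^p(K) = [O^p(K), A]. -/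
theorem result {H : Type*} [Group H] [Finite H] {p : ℕ} [Fact p.Prime] (A : Subgroup H) (K : Subgroup H) (hK : K = Cfsg.subnormalClosure A) : (Subgroup.normalClosure ((A.subgroupOf K : Subgroup ↥K) : Set ↥K)).map K.subtype = K ∧ Subgroup.normalizer (A : Set H) ≤ Subgroup.normalizer (K : Set H) ∧ A ⊔ (Cfsg.pResidual p ↥K).map K.subtype = K ∧ (IsPGroup p ↥A → ⁅(Cfsg.pResidual p ↥K).map K.subtype, A⁆ = (Cfsg.pResidual p ↥K).map K.subtype) := by
  have hKs : K.IsSubnormal := by
    rw [hK]
    exact sInf_isSubnormal _ (fun L hL => hL.2)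
  have hAK : A ≤ K := by
    rw [hK]
    exact le_sInf fun L hL => hL.1
  have hmin : ∀ L : Subgroup H, A ≤ L → L.IsSubnormal → K ≤ L := by
    intro L h1 h2
    rw [hK]
    exact sInf_le ⟨h1, h2⟩
  -- subnormal subgroups of `K` containing `A` are everything
  have hX : ∀ M : Subgroup ↥K, M.IsSubnormal → A.subgroupOf K ≤ M → M = ⊤ := by
    intro M hM hAM
    have h1 : (M.map K.subtype).IsSubnormal := hM.trans' hKs
    have h2 : A ≤ M.map K.subtype := by
      intro a ha
      exact ⟨⟨a, hAK ha⟩, hAM (show (⟨a, hAK ha⟩ : K) ∈ A.subgroupOf K from ha), rfl⟩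
    have h3 := hmin _ h2 h1
    rw [eq_top_iff]
    rintro x -
    obtain ⟨y, hy, hyx⟩ := h3 x.2
    have : y = x := Subtype.ext hyx
    rwa [← this]
  have hmapTop : ∀ M : Subgroup ↥K, M = ⊤ → M.map K.subtype = K := by
    rintro M rfl
    rw [← MonoidHom.range_eq_map, Subgroup.range_subtype]
  set A' : Subgroup ↥K := A.subgroupOf K with hA'
  set R : Subgroup ↥K := Cfsg.pResidual p ↥K with hR
  have hRn : R.Normal := Cfsg.Agent.Lib.Transfer.Basic.pResidual_normal p ↥K
  have hRp : IsPGroup p (↥K ⧸ R) := Cfsg.Agent.Lib.Transfer.Basic.isPGroup_quotient_pResidual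
  have hA'map : A'.map K.subtype = A := by
    ext a
    constructor
    · rintro ⟨y, hy, rfl⟩
      exact hy
    · intro ha
      exact ⟨⟨a, hAK ha⟩, ha, rfl⟩
  -- `A' ⊔ R = ⊤`
  have hAR : A' ⊔ R = ⊤ := by
    apply hX _ _ le_sup_left
    -- subnormal because the quotient is a `p`-group
    have hnil : Group.IsNilpotent (↥K ⧸ R) := by
      haveI : Finite (↥K ⧸ R) := inferInstance
      exact hRp.isNilpotent
    have h1 := Cfsg.Agent.Lib.Nilpotent.SubnormalRadical.isSubnormal_of_isNilpotent
      ((A' ⊔ R).map (QuotientGroup.mk' R))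
    have h2 := h1.comap (QuotientGroup.mk' R)
    rwa [Subgroup.comap_map_eq, QuotientGroup.ker_mk', sup_eq_left.mpr le_sup_right] at h2
  refine ⟨?_, ?_, ?_, ?_⟩
  · apply hmapTop
    apply hX
    · exact (Subgroup.normalClosure_normal).isSubnormal
    · exact Subgroup.le_normalClosure
  · -- the normalizer statement
    have hconj : ∀ g : H, g ∈ Subgroup.normalizer (A : Set H) → K ≤ K.map (MulAut.conj g).toMonoidHom := by
      intro g hg
      apply hmin
      · intro a ha
        have h1 : g⁻¹ * a * g⁻¹⁻¹ ∈ A := (Subgroup.mem_normalizer_iff.mp (Subgroup.inv_mem _ hg) a).mp ha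
        refine ⟨g⁻¹ * a * g⁻¹⁻¹, hAK h1, ?_⟩
        show g * (g⁻¹ * a * g⁻¹⁻¹) * g⁻¹ = a
        group
      · exact hKs.map (MulAut.conj g).surjective
    intro g hg
    rw [Subgroup.mem_normalizer_iff]
    intro h
    constructor
    · intro hh
      obtain ⟨k, hk, hke⟩ := hconj g⁻¹ (Subgroup.inv_mem _ hg) hh
      have hke' : g⁻¹ * k * g⁻¹⁻¹ = h := hke
      have : g * h * g⁻¹ = k := by rw [← hke']; group
      rw [this]; exact hk
    · intro hh
      obtain ⟨k, hk, hke⟩ := hconj g hg hh
      have hke' : g * k * g⁻¹ = g * h * g⁻¹ := hke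
      have : k = h := by simpa using hke'
      rwa [← this]
  · have h1 := hmapTop _ hAR
    rw [Subgroup.map_sup, hA'map] at h1
    exact h1
  · intro hAp
    have hA'p : IsPGroup p A' :=
      IsPGroup.comap_of_ker_isPGroup hAp K.subtype (by
        rw [Subgroup.ker_subtype]; exact IsPGroup.of_bot)
    rw [← hA'map, ← Subgroup.map_commutator]
    congr 1
    set C : Subgroup ↥K := ⁅R, A'⁆ with hC
    have hCle : C ≤ R := Subgroup.commutator_le_left R A'
    have hCn : C.Normal := by
      rw [← Subgroup.normalizer_eq_top_iff, eq_top_iff, ← hAR]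
      refine sup_le ?_ ?_
      · intro a ha
        rw [Subgroup.mem_normalizer_iff]
        have hcomm : C = ⁅A', R⁆ := Subgroup.commutator_comm R A'
        intro c
        constructor
        · intro hc
          rw [hcomm] at hc ⊢
          exact conj_left_mem A' R a ha c hc
        · intro hc
          rw [hcomm] at hc ⊢
          have := conj_left_mem A' R a⁻¹ (A'.inv_mem ha) _ hc
          simpa [mul_assoc] using this
      · intro r hr
        rw [Subgroup.mem_normalizer_iff]
        intro c
        constructor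
        · intro hc
          exact conj_left_mem R A' r hr c hc
        · intro hc
          have := conj_left_mem R A' r⁻¹ (R.inv_mem hr) _ hc
          simpa [mul_assoc] using this
    -- `A' ⊔ C` is normal in `K`
    have hMn : (A' ⊔ C).Normal := by
      rw [← Subgroup.normalizer_eq_top_iff, eq_top_iff, ← hAR]
      have hconj2 : ∀ g : ↥K, (g ∈ A' ∨ g ∈ R) → ∀ d ∈ A' ⊔ C, g * d * g⁻¹ ∈ A' ⊔ C := by
        intro g hg d hd
        have hle : A' ⊔ C ≤ (A' ⊔ C).comap (MulAut.conj g).toMonoidHom := by
          refine sup_le ?_ ?_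
          · intro a ha
            show g * a * g⁻¹ ∈ A' ⊔ C
            rcases hg with hg | hg
            · exact (le_sup_left : A' ≤ A' ⊔ C) (A'.mul_mem (A'.mul_mem hg ha) (A'.inv_mem hg))
            · have e : g * a * g⁻¹ = ⁅g, a⁆ * a := by
                rw [commutatorElement_def]; group
              rw [e]
              exact Subgroup.mul_mem _ ((le_sup_right : C ≤ A' ⊔ C)
                (Subgroup.commutator_mem_commutator hg ha)) ((le_sup_left : A' ≤ A' ⊔ C) ha)
          · intro c hc
            show g * c * g⁻¹ ∈ A' ⊔ C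
            exact (le_sup_right : C ≤ A' ⊔ C) (hCn.conj_mem c hc g)
        exact hle hd
      refine sup_le ?_ ?_
      · intro a ha
        rw [Subgroup.mem_normalizer_iff]
        intro d
        constructor
        · exact hconj2 a (Or.inl ha) d
        · intro hd
          have := hconj2 a⁻¹ (Or.inl (A'.inv_mem ha)) _ hd
          simpa [mul_assoc] using this
      · intro r hr
        rw [Subgroup.mem_normalizer_iff]
        intro d
        constructor
        · exact hconj2 r (Or.inr hr) d
        · intro hd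
          have := hconj2 r⁻¹ (Or.inr (R.inv_mem hr)) _ hd
          simpa [mul_assoc] using this
    have hMtop : A' ⊔ C = ⊤ := hX _ hMn.isSubnormal le_sup_left
    have hqp : IsPGroup p (↥K ⧸ C) := by
      intro x
      obtain ⟨g, rfl⟩ := QuotientGroup.mk_surjective x
      have hg : g ∈ A' ⊔ C := by rw [hMtop]; trivial
      obtain ⟨a, ha, c, hc, rfl⟩ := Subgroup.mem_sup_of_normal_right.mp hg
      obtain ⟨k, hk⟩ := hA'p ⟨a, ha⟩
      refine ⟨k, ?_⟩
      have hak : a ^ p ^ k = 1 := congrArg Subtype.val hk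
      have hc1 : (QuotientGroup.mk c : ↥K ⧸ C) = 1 := (QuotientGroup.eq_one_iff c).mpr hc
      rw [QuotientGroup.mk_mul, hc1, mul_one, ← QuotientGroup.mk_pow, hak, QuotientGroup.mk_one]
    have hRC : R ≤ C := Cfsg.Agent.Lib.Transfer.Basic.pResidual_le_of_isPGroup_quotient C hqp
    exact le_antisymm hCle hRC

end Cfsg.Agent.S2814
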