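import Cfsg.Statements.S2815
import Mathlib
import Cfsg.Agent.Lib.Transfer.Basic
import Cfsg.Agent.Lib.Basic.PCore
import Cfsg.Agent.Lib.Components.Layer
-- import your own Cfsg.Agent.* helpers here

set_option autoImplicit false
open Cfsg

namespace Cfsg.Agent.S2815

open scoped commutatorElement

open Cfsg.Agent.Lib.Components.Layer Cfsg.Agent.Lib.Components.Quasisimple

section aux

variable {H : Type*} [Group H] [Finite H] {p : ℕ} [Fact p.Prime]

theorem isComponent_res (hq : IsQuasisimple ↥(pResidual p H)) : IsComponent (pResidual p H) :=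
  ⟨(Cfsg.Agent.Lib.Transfer.Basic.pResidual_normal p H).isSubnormal, hq⟩

theorem centralizer_facts (hO : pCore p H = ⊥) :
    (Nat.card (Subgroup.centralizer (pResidual p H : Set H))).Coprime p ∧
      Subgroup.centralizer (pResidual p H : Set H) ≤ pResidual p H := by
  set K := pResidual p H with hK
  set C := Subgroup.centralizer (K : Set H) with hC
  haveI hKn : K.Normal := Cfsg.Agent.Lib.Transfer.Basic.pResidual_normal p H
  have hCn : C.Normal := Subgroup.normal_centralizer
  let f : C →* H ⧸ K := (QuotientGroup.mk' K).comp C.subtype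
  have hker : f.ker ≤ Subgroup.center C := by
    intro x hx
    rw [MonoidHom.mem_ker] at hx
    have hxK : (x : H) ∈ K := (QuotientGroup.eq_one_iff _).1 hx
    rw [Subgroup.mem_center_iff]
    intro y
    apply Subtype.ext
    exact (Subgroup.mem_centralizer_iff.1 y.2 x hxK).symm
  have hP : IsPGroup p (H ⧸ K) := Cfsg.Agent.Lib.Transfer.Basic.isPGroup_quotient_pResidual
  haveI := hP.isNilpotent
  have hnil : Group.IsNilpotent C :=
    Subgroup.isNilpotent_of_ker_le_center f hker
  obtain ⟨P0⟩ : Nonempty (Sylow p C) := inferInstance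
  have hP0n : (P0 : Subgroup C).Normal := inferInstance
  haveI hP0c : (P0 : Subgroup C).Characteristic := Sylow.characteristic_of_normal P0 hP0n
  have hmapn : ((P0 : Subgroup C).map C.subtype).Normal :=
    Cfsg.Agent.Lib.Basic.PCore.map_subtype_normal_of_characteristic _
  have hmaple : (P0 : Subgroup C).map C.subtype ≤ pCore p H :=
    Cfsg.Agent.Lib.Basic.PCore.le_pCore hmapn (P0.isPGroup'.map _)
  rw [hO, le_bot_iff, Subgroup.map_eq_bot_iff_of_injective _ C.subtype_injective] at hmaple
  have hnd : ¬ p ∣ Nat.card C := by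
    have := P0.not_dvd_index
    rwa [hmaple, Subgroup.index_bot] at this
  have hcop : (Nat.card C).Coprime p :=
    ((Nat.Prime.coprime_iff_not_dvd Fact.out).2 hnd).symm
  refine ⟨hcop, fun x hx => ?_⟩
  apply Subgroup.subset_closure
  have h1 : orderOf (⟨x, hx⟩ : C) ∣ Nat.card C := orderOf_dvd_natCard _
  have h2 : orderOf (⟨x, hx⟩ : C) = orderOf x := Subgroup.orderOf_mk x hx
  rw [h2] at h1
  exact Nat.Coprime.coprime_dvd_left h1 hcop

theorem le_normalizer_commutator_left {G : Type*} [Group G] (A Y : Subgroup G) :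
    A ≤ Subgroup.normalizer ((⁅A, Y⁆ : Subgroup G) : Set G) := by
  rw [Subgroup.commutator_def, Subgroup.le_normalizer_closure_iff]
  rintro h hh _ ⟨k, hk, y, hy, rfl⟩
  have e : h * ⁅k, y⁆ * h⁻¹ = ⁅h * k, y⁆ * ⁅h, y⁆⁻¹ := by
    simp only [commutatorElement_def]
    group
  rw [e]
  exact mul_mem (Subgroup.subset_closure ⟨_, mul_mem hh hk, y, hy, rfl⟩)
    (inv_mem (Subgroup.subset_closure ⟨h, hh, y, hy, rfl⟩))

theorem eq_bot_of_isPGroup_of_coprime {G : Type*} [Group G] [Finite G] {p : ℕ} [Fact p.Prime]
    {P : Subgroup G} (hP : IsPGroup p P) (hc : (Nat.card P).Coprime p) : P = ⊥ := by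
  rcases hP.card_eq_or_dvd with h | h
  · exact Subgroup.eq_bot_of_card_eq P h
  · exfalso
    have h1 : p ∣ Nat.gcd (Nat.card P) p := Nat.dvd_gcd h dvd_rfl
    rw [hc] at h1
    exact (Fact.out : p.Prime).one_lt.ne' (Nat.dvd_one.1 h1)

end aux

/-- Let H be a finite group and p a prime dividing its order with O_p(H) = 1, and suppose K = O^p(H) (generated by the elements of order prime to p) is quasisimple. Then K = F*(H); for every nontrivial p-subgroup Y of H, K = [K, Y] and K lies in the subgroup generated by the K-conjugates of Y; every normal subgroup of H not containing K has order prime to p; and H is p-irreducible. -/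
theorem result {H : Type*} [Group H] [Finite H] {p : ℕ} [Fact p.Prime] (hp : p ∣ Nat.card H) (hO : Cfsg.pCore p H = ⊥) (hq : Cfsg.IsQuasisimple ↥(Cfsg.pResidual p H)) : Cfsg.pResidual p H = Cfsg.generalizedFittingSubgroup H ∧ (∀ Y : Subgroup H, IsPGroup p ↥Y → Y ≠ ⊥ → ⁅Cfsg.pResidual p H, Y⁆ = Cfsg.pResidual p H ∧ Cfsg.pResidual p H ≤ ⨆ k : ↥(Cfsg.pResidual p H), Y.map (MulAut.conj (k : H)).toMonoidHom) ∧ (∀ C : Subgroup H, C.Normal → ¬ Cfsg.pResidual p H ≤ C → (Nat.card ↥C).Coprime p) ∧ Cfsg.IsPIrreducible p H := by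
  classical
  have hKc := isComponent_res hq
  haveI hKn : (pResidual p H).Normal := Cfsg.Agent.Lib.Transfer.Basic.pResidual_normal p H
  obtain ⟨hCcop, hCle⟩ := centralizer_facts (p := p) (H := H) hO
  have hperf : ⁅pResidual p H, pResidual p H⁆ = pResidual p H :=
    Subgroup.isPerfect_iff.1 hq.1
  -- normal subgroups not containing K
  have hC : ∀ C : Subgroup H, C.Normal → ¬ pResidual p H ≤ C → (Nat.card ↥C).Coprime p := by
    intro C hCn hnle
    have h1 := (le_or_commutator_eq_bot_of_normal hKc hCn).resolve_left hnle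
    have h2 : C ≤ Subgroup.centralizer (pResidual p H : Set H) := by
      rw [Subgroup.commutator_comm] at h1
      exact (Subgroup.commutator_eq_bot_iff_le_centralizer).1 h1
    exact Nat.Coprime.coprime_dvd_left (Subgroup.card_dvd_of_le h2) hCcop
  refine ⟨?_, ?_, hC, ?_, ?_⟩
  · -- K = F*(H)
    apply le_antisymm
    · exact le_sup_of_le_left (le_sSup hKc)
    · refine sup_le (sSup_le fun L hL => ?_) ?_
      · rcases eq_or_commutator_eq_bot hL hKc with h | h
        · exact h.le
        · exact ((Subgroup.commutator_eq_bot_iff_le_centralizer).1 h).trans hCle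
      · have hFn : (fittingSubgroup H).Normal := Cfsg.Agent.Lib.Basic.PCore.fittingSubgroup_normal H
        rcases le_or_commutator_eq_bot_of_normal hKc hFn with h | h
        · exfalso
          have hnil : Group.IsNilpotent (fittingSubgroup H) :=
            Cfsg.Agent.Lib.Basic.PCore.fittingSubgroup_isNilpotent
          exact not_le_of_isSolvable hKc (inferInstance) h
        · rw [Subgroup.commutator_comm] at h
          exact ((Subgroup.commutator_eq_bot_iff_le_centralizer).1 h).trans hCle
  · -- `Y`
    intro Y hY hYne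
    have hnotle : ¬ Y ≤ Subgroup.centralizer (pResidual p H : Set H) := by
      intro hle
      apply hYne
      exact eq_bot_of_isPGroup_of_coprime hY
        (Nat.Coprime.coprime_dvd_left (Subgroup.card_dvd_of_le hle) hCcop)
    have hAK : ⁅pResidual p H, Y⁆ ≤ pResidual p H := Subgroup.commutator_le_left _ _
    have hcomm : ⁅pResidual p H, Y⁆ = pResidual p H := by
      have hn : (⁅pResidual p H, Y⁆.subgroupOf (pResidual p H)).Normal :=
        Subgroup.normal_subgroupOf_iff_le_normalizer hAK |>.2 (le_normalizer_commutator_left _ _)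
      rcases eq_top_or_le_center_of_normal hq hn with h | h
      · apply le_antisymm hAK
        intro k hk
        have : (⟨k, hk⟩ : pResidual p H) ∈ ⁅pResidual p H, Y⁆.subgroupOf (pResidual p H) := by
          rw [h]; trivial
        exact this
      · exfalso
        apply hnotle
        have h0 : ⁅⁅pResidual p H, Y⁆, pResidual p H⁆ = ⊥ := by
          rw [commutator_eq_bot_iff_forall]
          intro a ha b hb
          have ha' : (⟨a, hAK ha⟩ : pResidual p H) ∈ Subgroup.center (pResidual p H) :=
            h (by rw [Subgroup.mem_subgroupOf]; exact ha)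
          have := (Subgroup.mem_center_iff.1 ha') ⟨b, hb⟩
          exact (congrArg Subtype.val this).symm
        have h1 := commutator_eq_bot_of_perfect hperf h0
        rw [Subgroup.commutator_comm] at h1
        exact (Subgroup.commutator_eq_bot_iff_le_centralizer).1 h1
    refine ⟨hcomm, ?_⟩
    refine hcomm.symm.le.trans ?_
    rw [Subgroup.commutator_le]
    intro k hk y hy
    have e : ⁅k, y⁆ = (k * y * k⁻¹) * y⁻¹ := rfl
    rw [e]
    have h1 : k * y * k⁻¹ ∈ ⨆ k : ↥(pResidual p H), Y.map (MulAut.conj (k : H)).toMonoidHom :=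
      (le_iSup (fun k : ↥(pResidual p H) => Y.map (MulAut.conj (k : H)).toMonoidHom) ⟨k, hk⟩)
        ⟨y, hy, rfl⟩
    have h2 : y ∈ ⨆ k : ↥(pResidual p H), Y.map (MulAut.conj (k : H)).toMonoidHom :=
      (le_iSup (fun k : ↥(pResidual p H) => Y.map (MulAut.conj (k : H)).toMonoidHom) 1)
        ⟨y, hy, by simp⟩
    exact mul_mem h1 (inv_mem h2)
  · -- not p-closed
    intro hpc
    obtain ⟨P⟩ : Nonempty (Sylow p H) := inferInstance
    have h1 : (P : Subgroup H) ≤ pCore p H :=
      Cfsg.Agent.Lib.Basic.PCore.le_pCore (hpc P) P.isPGroup'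
    rw [hO, le_bot_iff] at h1
    have := P.not_dvd_index
    rw [h1, Subgroup.index_bot] at this
    exact this hp
  · intro N hN hnp
    by_contra hle
    apply hnp
    intro P
    have h1 := hC N hN hle
    have h2 : (P : Subgroup N) = ⊥ := eq_bot_of_isPGroup_of_coprime P.isPGroup'
      (Nat.Coprime.coprime_dvd_left (Subgroup.card_subgroup_dvd_card _) h1)
    rw [h2]
    exact Subgroup.normal_bot

end Cfsg.Agent.S2815
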