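import Cfsg.Statements.S2816
import Mathlib
import Cfsg.Agent.Lib.Components.YAction
-- import your own Cfsg.Agent.* helpers here

set_option autoImplicit false
open Cfsg
open scoped commutatorElement

namespace Cfsg.Agent.S2816

/-- Let H be a finite group and p a prime with O_p(H) = 1, and Y a p-subgroup of H. Then for every subnormal subgroup K of H containing Y, [F*(H), Y] = [F*(K), Y] = [F*(K), Y, Y]; and if Y₀ ≤ Y with [F*(H), Y, Y₀] = 1 then Y₀ = 1 (in particular [F*(H), Y] = 1 forces Y = 1). -/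
theorem result {H : Type*} [Group H] [Finite H] {p : ℕ} [Fact p.Prime] (hO : Cfsg.pCore p H = ⊥) (Y : Subgroup H) (hY : IsPGroup p ↥Y) : (∀ K : Subgroup H, K.IsSubnormal → Y ≤ K → ⁅Cfsg.generalizedFittingSubgroup H, Y⁆ = ⁅(Cfsg.generalizedFittingSubgroup ↥K).map K.subtype, Y⁆ ∧ ⁅(Cfsg.generalizedFittingSubgroup ↥K).map K.subtype, Y⁆ = ⁅⁅(Cfsg.generalizedFittingSubgroup ↥K).map K.subtype, Y⁆, Y⁆) ∧ (∀ Y₀ : Subgroup H, Y₀ ≤ Y → ⁅⁅Cfsg.generalizedFittingSubgroup H, Y⁆, Y₀⁆ = ⊥ → Y₀ = ⊥) := by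
  have hXn : (Cfsg.generalizedFittingSubgroup H).Normal := inferInstance
  have hXs : (Cfsg.generalizedFittingSubgroup H).IsSubnormal := hXn.isSubnormal
  have hmain := fun (Z : Subgroup H) (hZ : IsPGroup p ↥Z) =>
    Cfsg.Agent.Lib.Components.YAction.action_of_le_generalizedFitting hO le_rfl hXs hZ
      (by rw [Subgroup.normalizer_eq_top_iff.mpr hXn]; exact le_top)
  have hT := (hmain Y hY).2
  refine ⟨?_, ?_⟩
  · intro K hK hYK
    -- `[X, Y] ≤ K`
    have hTK : ⁅Cfsg.generalizedFittingSubgroup H, Y⁆ ≤ K := by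
      induction hK with
      | top => exact le_top
      | step K K₁ hKK₁ hK₁ hN ih =>
        have h1 := ih (hYK.trans hKK₁)
        rw [← hT]
        rw [Subgroup.commutator_le]
        intro t ht y hy
        have htK₁ := h1 ht
        have hyK := hYK hy
        rw [Subgroup.normal_subgroupOf_iff_le_normalizer hKK₁] at hN
        have h2 : t * y⁻¹ * t⁻¹ ∈ K := (Subgroup.mem_normalizer_iff.mp (hN htK₁) _).mp (inv_mem hyK)
        have e : ⁅t, y⁆ = t * y * t⁻¹ * y⁻¹ := rfl
        have e2 : t * y * t⁻¹ = t * y⁻¹⁻¹ * t⁻¹ := by rw [inv_inv]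
        rw [e, e2]
        refine mul_mem ?_ (inv_mem hyK)
        have h3 : t * y⁻¹⁻¹ * t⁻¹ = (t * y⁻¹ * t⁻¹)⁻¹ := by group
        rw [h3]
        exact inv_mem h2
    have hXK : (Cfsg.generalizedFittingSubgroup ↥K).map K.subtype ≤ Cfsg.generalizedFittingSubgroup H := by
      rw [← Cfsg.Agent.Lib.Components.YAction.generalizedFitting_inf_subnormal hK]
      exact inf_le_left
    have hT2 : ⁅Cfsg.generalizedFittingSubgroup H, Y⁆ ≤ (Cfsg.generalizedFittingSubgroup ↥K).map K.subtype := by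
      rw [← Cfsg.Agent.Lib.Components.YAction.generalizedFitting_inf_subnormal hK]
      exact le_inf (Subgroup.commutator_le_left _ _) hTK
    have hXKs : ((Cfsg.generalizedFittingSubgroup ↥K).map K.subtype).IsSubnormal := by
      rw [← Cfsg.Agent.Lib.Components.YAction.generalizedFitting_inf_subnormal hK]
      exact Subgroup.IsSubnormal.inf hXs hK
    have hYn : Y ≤ Subgroup.normalizer (((Cfsg.generalizedFittingSubgroup ↥K).map K.subtype : Subgroup H) : Set H) :=
      (hYK.trans Subgroup.le_normalizer).trans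
        (Cfsg.Agent.Lib.Components.LocalFStar.normalizer_le_normalizer_map_generalizedFitting K)
    have h5 := Cfsg.Agent.Lib.Components.YAction.action_of_le_generalizedFitting hO hXK hXKs hY hYn
    refine ⟨le_antisymm ?_ (Subgroup.commutator_mono hXK le_rfl), h5.2.symm⟩
    calc ⁅Cfsg.generalizedFittingSubgroup H, Y⁆ = ⁅⁅Cfsg.generalizedFittingSubgroup H, Y⁆, Y⁆ := hT.symm
      _ ≤ _ := Subgroup.commutator_mono hT2 le_rfl
  · intro Y₀ hY₀ hc
    have hpY₀ : IsPGroup p ↥Y₀ := hY.to_le hY₀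
    have h1 := (hmain Y₀ hpY₀).2
    apply Cfsg.Agent.Lib.Components.YAction.eq_bot_of_commutator_generalizedFitting hO hpY₀
    rw [← h1, ← le_bot_iff, ← hc]
    exact Subgroup.commutator_mono (Subgroup.commutator_mono le_rfl hY₀) le_rfl

end Cfsg.Agent.S2816
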