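import Cfsg.Statements.S2818
import Mathlib
import Cfsg.Agent.S0013

set_option autoImplicit false
open Cfsg

namespace Cfsg.Agent.S2818

/-- Let P be a finite p-subgroup of a group G and H a subgroup of N_G(P) with [P, H] ≤ Ω₁(Z(P)) (the elements of order dividing p in the centre of P). Then H centralizes the Frattini subgroup of P. -/
theorem result {G : Type*} [Group G] [Finite G] {p : ℕ} [Fact p.Prime] (P : Subgroup G) (hP : IsPGroup p ↥P) (H : Subgroup G) (hH : H ≤ Subgroup.normalizer (P : Set G)) (h : ⁅P, H⁆ ≤ Cfsg.omegaOne p (P ⊓ Subgroup.centralizer (P : Set G))) : ⁅(frattini ↥P).map P.subtype, H⁆ = ⊥ := by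
  classical
  have hc : ∀ c ∈ Cfsg.omegaOne p (P ⊓ Subgroup.centralizer (P : Set G)),
      c ∈ P ∧ (∀ a ∈ P, c * a = a * c) ∧ c ^ p = 1 := by
    intro c hc
    unfold Cfsg.omegaOne at hc
    induction hc using Subgroup.closure_induction with
    | mem x hx =>
      obtain ⟨⟨h1, h2⟩, h3⟩ := hx
      refine ⟨h1, fun a ha => ?_, h3⟩
      exact (Subgroup.mem_centralizer_iff.1 h2 a ha).symm
    | one => exact ⟨one_mem _, by simp, by simp⟩
    | mul x y _ _ hx hy =>
      refine ⟨mul_mem hx.1 hy.1, fun a ha => ?_, ?_⟩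
      · rw [mul_assoc, hy.2.1 a ha, ← mul_assoc, hx.2.1 a ha, mul_assoc]
      · have : Commute x y := hx.2.1 y hy.1
        rw [this.mul_pow, hx.2.2, hy.2.2, one_mul]
    | inv x _ hx =>
      refine ⟨inv_mem hx.1, fun a ha => ?_, ?_⟩
      · have h1 := hx.2.1 a ha
        have h2 : x⁻¹ * a = a * x⁻¹ := by
          rw [inv_mul_eq_iff_eq_mul, ← mul_assoc, h1, mul_assoc, mul_inv_cancel, mul_one]
        exact h2
      · rw [inv_pow, hx.2.2, inv_one]
  rw [Subgroup.commutator_eq_bot_iff_le_centralizer]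
  rintro _ ⟨u, hu, rfl⟩
  rw [Subgroup.mem_centralizer_iff]
  intro g hg
  have hgn := hH hg
  rw [Subgroup.mem_normalizer_iff] at hgn
  have hcg : ∀ a : P, (g * a * g⁻¹ * (a : G)⁻¹) ∈ Cfsg.omegaOne p (P ⊓ Subgroup.centralizer (P : Set G)) := by
    intro a
    have h5 := h (Subgroup.commutator_mem_commutator a.2 hg)
    have h6 := inv_mem h5
    have h7 : (g * a * g⁻¹ * (a : G)⁻¹) = ((a : G) * g * (a : G)⁻¹ * g⁻¹)⁻¹ := by group
    rw [h7]
    exact h6
  -- the conjugation automorphism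
  let σ : P →* P :=
    { toFun := fun a => ⟨g * a * g⁻¹, (hgn a).1 a.2⟩
      map_one' := by ext; simp
      map_mul' := fun a b => by
        apply Subtype.ext
        show g * ((a : G) * b) * g⁻¹ = (g * a * g⁻¹) * (g * b * g⁻¹)
        group }
  have hσ : ∀ a : P, ((σ a : P) : G) = g * a * g⁻¹ := fun a => rfl
  let W : Subgroup P := σ.eqLocus (MonoidHom.id P)
  have hWmem : ∀ x, x ∈ W ↔ σ x = x := fun x => Iff.rfl
  have hsig : ∀ a : P, ∃ c : G, (σ a : G) = c * a ∧ c ∈ P ∧ (∀ b ∈ P, c * b = b * c) ∧ c ^ p = 1 := by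
    intro a
    refine ⟨g * a * g⁻¹ * (a : G)⁻¹, by rw [hσ]; group, hc _ (hcg a)⟩
  have hWn : W.Normal := by
    refine ⟨fun n hn x => ?_⟩
    rw [hWmem] at hn ⊢
    obtain ⟨c, hc1, hc2, hc3, -⟩ := hsig x
    have hxinv : ((σ x⁻¹ : P) : G) = (σ x : G)⁻¹ := by simp
    apply Subtype.ext
    simp only [map_mul, Subgroup.coe_mul]
    rw [hn, hxinv, hc1]
    have h8 := hc3 n n.2
    simp only [mul_inv_rev]
    have h9 : c * (x : G) * n * ((x : G)⁻¹ * c⁻¹) = c * ((x : G) * n * (x : G)⁻¹) * c⁻¹ := by group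
    rw [h9, hc3 _ (mul_mem (mul_mem x.2 n.2) (inv_mem x.2))]
    simp [mul_assoc]
  have hcomm : commutator P ≤ W := by
    rw [_root_.commutator_def, Subgroup.commutator_le]
    intro a _ b _
    rw [hWmem]
    obtain ⟨c, hc1, hc2, hc3, -⟩ := hsig a
    obtain ⟨d, hd1, hd2, hd3, -⟩ := hsig b
    apply Subtype.ext
    simp only [commutatorElement_def, map_mul, map_inv, Subgroup.coe_mul, Subgroup.coe_inv]
    rw [hc1, hd1]
    have hc' : ∀ x ∈ P, c * x * c⁻¹ = x := fun x hx => by rw [hc3 x hx]; group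
    have hd' : ∀ x ∈ P, d * x * d⁻¹ = x := fun x hx => by rw [hd3 x hx]; group
    simp only [mul_inv_rev]
    calc c * a * (d * b) * ((a : G)⁻¹ * c⁻¹) * ((b : G)⁻¹ * d⁻¹)
        = c * (a * d * b * (a : G)⁻¹) * c⁻¹ * ((b : G)⁻¹ * d⁻¹) := by group
      _ = (a * d * b * (a : G)⁻¹) * ((b : G)⁻¹ * d⁻¹) := by
          rw [hc' _ (mul_mem (mul_mem (mul_mem a.2 hd2) b.2) (inv_mem a.2))]
      _ = a * (d * (b * (a : G)⁻¹ * (b : G)⁻¹) * d⁻¹) := by group
      _ = a * (b * (a : G)⁻¹ * (b : G)⁻¹) := by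
          rw [hd' _ (mul_mem (mul_mem b.2 (inv_mem a.2)) (inv_mem b.2))]
      _ = a * b * (a : G)⁻¹ * (b : G)⁻¹ := by group
  have hpow : ∀ x : P, x ^ p ∈ W := by
    intro x
    rw [hWmem]
    obtain ⟨c, hc1, hc2, hc3, hc4⟩ := hsig x
    apply Subtype.ext
    rw [map_pow, Subgroup.coe_pow, Subgroup.coe_pow, hc1]
    have h10 : Commute c (x : G) := hc3 _ x.2
    rw [h10.mul_pow, hc4, one_mul]
  have hW := Cfsg.Agent.S0013.result p hP W hcomm hpow hu
  rw [hWmem] at hW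
  have h15 := congrArg Subtype.val hW
  rw [hσ] at h15
  have : g * u * g⁻¹ * g = u * g := by rw [h15]
  simpa [mul_assoc] using this

end Cfsg.Agent.S2818
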