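import Cfsg.Statements.S2819
import Mathlib
import Cfsg.Agent.Lib.PGroup.ActionFrattini

set_option autoImplicit false
open Cfsg

namespace Cfsg.Agent.S2819

/-- Let P be a finite p-subgroup of a group G, H a subgroup of N_G(P), and Y a subgroup of H centralizing the derived subgroup P' such that [P, Y] is elementary abelian. Then O^p(⟨Y^H⟩), the subgroup of the normal closure of Y in H generated by its elements of order prime to p, centralizes the Frattini subgroup of P. -/
theorem result {G : Type*} [Group G] [Finite G] {p : ℕ} [Fact p.Prime] (P : Subgroup G) (hP : IsPGroup p ↥P) (H : Subgroup G) (hH : H ≤ Subgroup.normalizer (P : Set G)) (Y : Subgroup G) (hYH : Y ≤ H) (hYc : Y ≤ Subgroup.centralizer ((⁅P, P⁆ : Subgroup G) : Set G)) (hel : Cfsg.IsElementaryAbelian p ⁅P, Y⁆) (NY : Subgroup G) (hNY : NY = (Subgroup.normalClosure ((Y.subgroupOf H : Subgroup ↥H) : Set ↥H)).map H.subtype) : (Cfsg.pResidual p ↥NY).map NY.subtype ≤ Subgroup.centralizer (((frattini ↥P).map P.subtype : Subgroup G) : Set G) := by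
  classical
  have hle : H ≤ Subgroup.normalizer (P : Set G) := hH
  let ρ : H →* MulAut P := P.normalizerMonoidHom.comp (Subgroup.inclusion hle)
  have hρ : ∀ (h : H) (a : P), ((ρ h a : P) : G) = (h : G) * a * (h : G)⁻¹ := fun h a => rfl
  rw [Subgroup.map_le_iff_le_comap]
  unfold Cfsg.pResidual
  rw [Subgroup.closure_le]
  intro g hg
  have hg' : Nat.Coprime (orderOf g) p := hg
  show (g : G) ∈ Subgroup.centralizer _
  rw [Subgroup.mem_centralizer_iff]
  rintro _ ⟨u, hu, rfl⟩
  obtain ⟨h, hh, hhg⟩ := hNY.le g.2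
  have hord : orderOf h = orderOf g := by
    rw [← Subgroup.orderOf_coe h, ← Subgroup.orderOf_coe g]
    simp [← hhg]
  have hfix := Cfsg.Agent.Lib.PGroup.ActionFrattini.normalClosure_coprime_fixes_frattini hP ρ
    ((Y.subgroupOf H : Subgroup H) : Set H)
    (by
      intro y hy d hd
      have hy' : (y : G) ∈ Y := hy
      apply Subtype.ext
      rw [hρ]
      have hdmem : (d : G) ∈ (⁅P, P⁆ : Subgroup G) := by
        rw [← Subgroup.map_subtype_commutator]
        exact ⟨d, hd, rfl⟩
      have := Subgroup.mem_centralizer_iff.1 (hYc hy') _ hdmem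
      rw [← this]
      group)
    (by
      intro y hy a
      have hy' : (y : G) ∈ Y := hy
      apply Subtype.ext
      have h1 : ((ρ y a * a⁻¹ : P) : G) ∈ ⁅P, Y⁆ := by
        have h5 : (a : G) * y * (a : G)⁻¹ * (y : G)⁻¹ ∈ ⁅P, Y⁆ :=
          Subgroup.commutator_mem_commutator a.2 hy'
        have h6 := inv_mem h5
        have h7 : ((ρ y a * a⁻¹ : P) : G) = ((a : G) * y * (a : G)⁻¹ * (y : G)⁻¹)⁻¹ := by
          rw [Subgroup.coe_mul, hρ]
          simp
          group
        rw [h7]
        exact h6
      have h2 := hel.2 _ h1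
      simpa using h2)
    hh (m := orderOf h) (pow_orderOf_eq_one h) (by rw [hord]; exact hg') u hu
  have h3 := congrArg Subtype.val hfix
  rw [hρ] at h3
  show (u : G) * (Subgroup.subtype NY g) = (Subgroup.subtype NY g) * u
  simp only [Subgroup.subtype_apply] at *
  rw [← hhg]
  have h4 : (h : G) * u * (h : G)⁻¹ * h = u * h := by rw [h3]
  simpa [mul_assoc] using h4.symm

end Cfsg.Agent.S2819
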