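import Cfsg.Statements.S2820
import Mathlib
import Cfsg.Agent.Lib.Basic.PCore
import Cfsg.Agent.Lib.LocalY.Basic
-- import your own Cfsg.Agent.* helpers here

set_option autoImplicit false
open Cfsg

namespace Cfsg.Agent.S2820

open Subgroup in
theorem mem_of_coprime_sup {H : Type*} [Group H] [Finite H] {p : ℕ} [Fact p.Prime] {Q : Subgroup H}
    (hQn : Q.Normal) (hQp : IsPGroup p Q) {K : Subgroup H} (hK : K.IsSubnormal) :
    ∀ x ∈ K ⊔ Q, (orderOf x).Coprime p → x ∈ K := by
  induction hK with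
  | top => intro x _ _; trivial
  | step K J hKJ hJ hn ih =>
    intro x hx hc
    have hxJ : x ∈ J := ih x (sup_le_sup_right hKJ _ hx) hc
    rw [← SetLike.mem_coe, Subgroup.mul_normal] at hx
    obtain ⟨k, hk, q, hq, rfl⟩ := Set.mem_mul.mp hx
    have hqJ : q ∈ J := by
      have h1 : q = k⁻¹ * (k * q) := by group
      rw [h1]
      exact J.mul_mem (J.inv_mem (hKJ hk)) hxJ
    have hconj : ∀ j ∈ J, ∀ l ∈ K, j * l * j⁻¹ ∈ K := fun j hj l hl => by
      have h2 := hn.conj_mem ⟨l, hKJ hl⟩ (Subgroup.mem_subgroupOf.mpr hl) ⟨j, hj⟩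
      exact Subgroup.mem_subgroupOf.mp h2
    have hpow : ∀ n : ℕ, (k * q) ^ n * (q ^ n)⁻¹ ∈ K := by
      intro n
      induction n with
      | zero => simp
      | succ n ih2 =>
        have h3 : (k * q) ^ (n + 1) * (q ^ (n + 1))⁻¹ =
            ((k * q) ^ n * (q ^ n)⁻¹) * (q ^ n * k * (q ^ n)⁻¹) := by
          rw [pow_succ (k * q) n, pow_succ q n]
          group
        rw [h3]
        exact K.mul_mem ih2 (hconj _ (J.pow_mem hqJ n) k hk)
    have h4 := hpow (orderOf (k * q))
    rw [pow_orderOf_eq_one, one_mul] at h4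
    have h5 : q ^ orderOf (k * q) ∈ K := by
      have := K.inv_mem h4
      rwa [inv_inv] at this
    obtain ⟨a, ha⟩ := hQp ⟨q, hq⟩
    have h6 : q ^ p ^ a ∈ K := by
      have h7 : q ^ p ^ a = 1 := congrArg Subtype.val ha
      rw [h7]
      exact K.one_mem
    have hcop : (orderOf (k * q)).Coprime (p ^ a) := Nat.Coprime.pow_right a hc
    have h8 : q ∈ K := Cfsg.Agent.Lib.LocalY.Basic.mem_of_pow_mem_of_coprime h5 h6 hcop
    exact K.mul_mem hk h8


/-- Let A and B be subnormal subgroups of the finite group H with A a p-group and B = O^p(B) (B generated by its elements of order prime to p). Then A normalizes B and B = O^p(AB), the subgroup of ⟨A, B⟩ generated by its elements of order prime to p. -/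
theorem result {H : Type*} [Group H] [Finite H] {p : ℕ} [Fact p.Prime] (A B : Subgroup H) (hA : A.IsSubnormal) (hB : B.IsSubnormal) (hAp : IsPGroup p ↥A) (hBres : (Cfsg.pResidual p ↥B).map B.subtype = B) : A ≤ Subgroup.normalizer (B : Set H) ∧ (Cfsg.pResidual p ↥(A ⊔ B)).map (A ⊔ B).subtype = B := by
  have hQn : (Cfsg.pCore p H).Normal := Cfsg.Agent.Lib.Basic.PCore.pCore_normal p H
  have hQp : IsPGroup p (Cfsg.pCore p H) := Cfsg.Agent.Lib.Basic.PCore.pCore_isPGroup p
  have hAQ : A ≤ Cfsg.pCore p H := Cfsg.Agent.Lib.Basic.PCore.le_pCore_of_subnormal hA hAp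
  have key := mem_of_coprime_sup hQn hQp hB
  have hnorm : ∀ a ∈ A, ∀ b ∈ B, a * b * a⁻¹ ∈ B := by
    intro a ha b hb
    rw [← hBres] at hb
    obtain ⟨b₀, hb₀, rfl⟩ := hb
    show a * ((b₀ : ↥B) : H) * a⁻¹ ∈ B
    induction hb₀ using Subgroup.closure_induction with
    | mem y hy =>
      apply key
      · have h1 : a * (y : H) * a⁻¹ = (a * (y : H) * a⁻¹ * (y : H)⁻¹) * (y : H) := by group
        rw [h1, sup_comm]
        apply Subgroup.mul_mem _ _ (Subgroup.mem_sup_right y.2)
        apply Subgroup.mem_sup_left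
        have h2 : a * (y : H) * a⁻¹ * (y : H)⁻¹ = a * ((y : H) * a⁻¹ * (y : H)⁻¹) := by group
        rw [h2]
        exact Subgroup.mul_mem _ (hAQ ha) (hQn.conj_mem _ (Subgroup.inv_mem _ (hAQ ha)) _)
      · have h3 : orderOf (a * (y : H) * a⁻¹) = orderOf (y : H) := by
          have := orderOf_injective (MulAut.conj a).toMonoidHom (MulAut.conj a).injective (y : H)
          simpa using this
        rw [h3, Subgroup.orderOf_coe]
        exact hy
    | one => simp
    | mul x y _ _ ihx ihy =>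
      have h1 : a * ((x * y : ↥B) : H) * a⁻¹ = (a * (x : H) * a⁻¹) * (a * (y : H) * a⁻¹) := by
        rw [Subgroup.coe_mul]
        group
      rw [h1]
      exact B.mul_mem ihx ihy
    | inv x _ ihx =>
      have h1 : a * ((x⁻¹ : ↥B) : H) * a⁻¹ = (a * (x : H) * a⁻¹)⁻¹ := by
        rw [Subgroup.coe_inv]
        group
      rw [h1]
      exact B.inv_mem ihx
  constructor
  · intro a ha
    rw [Subgroup.mem_normalizer_iff]
    intro h
    constructor
    · exact hnorm a ha h
    · intro h1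
      have h2 := hnorm a⁻¹ (A.inv_mem ha) _ h1
      have h3 : a⁻¹ * (a * h * a⁻¹) * a⁻¹⁻¹ = h := by group
      rwa [h3] at h2
  · apply le_antisymm
    · rw [Cfsg.pResidual, MonoidHom.map_closure, Subgroup.closure_le]
      rintro _ ⟨x, hx, rfl⟩
      apply key
      · have hxx : (x : H) ∈ A ⊔ B := x.2
        have hle : A ⊔ B ≤ B ⊔ Cfsg.pCore p H := sup_le (hAQ.trans le_sup_right) le_sup_left
        exact hle hxx
      · show (orderOf (x : H)).Coprime p
        rw [Subgroup.orderOf_coe]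
        exact hx
    · conv_lhs => rw [← hBres]
      rw [Cfsg.pResidual, MonoidHom.map_closure, Subgroup.closure_le]
      rintro _ ⟨y, hy, rfl⟩
      have hyS : ((y : H)) ∈ A ⊔ B := (le_sup_right : B ≤ A ⊔ B) y.2
      refine ⟨⟨(y : H), hyS⟩, Subgroup.subset_closure ?_, rfl⟩
      show (orderOf (⟨(y : H), hyS⟩ : ↥(A ⊔ B))).Coprime p
      rw [Subgroup.orderOf_mk]
      have h9 : (orderOf y).Coprime p := hy
      rwa [← Subgroup.orderOf_coe] at h9

end Cfsg.Agent.S2820
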