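import Cfsg.Statements.S2821
import Mathlib
import Cfsg.Agent.Lib.LocalY.Transfer
-- import your own Cfsg.Agent.* helpers here

set_option autoImplicit false
open Cfsg

namespace Cfsg.Agent.S2821

open Cfsg.Agent.Lib.LocalY.Transfer Cfsg.Agent.Lib.LocalY.Basic Cfsg.Agent.Lib.LocalY.Structure Subgroup

theorem center_le_largest {G : Type*} [Group G] [Finite G] {p : ℕ} [Fact p.Prime]
    (hchar : centralizer (Cfsg.pCore p G : Set G) ≤ Cfsg.pCore p G) (S : Sylow p G) {y : G}
    (hy : y ∈ (S : Subgroup G)) (hcomm : ∀ s ∈ (S : Subgroup G), s * y = y * s) (hp : y ^ p = 1) :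
    y ∈ Cfsg.largestPReduced p G := by
  set R : Subgroup G := (S : Subgroup G) with hR
  set Z' : Subgroup G := Cfsg.omegaOne p (R ⊓ centralizer (R : Set G)) with hZ'
  have hZ'le : Z' ≤ R ⊓ centralizer (R : Set G) := by
    rw [hZ', Cfsg.omegaOne, Subgroup.closure_le]
    rintro x ⟨hx, -⟩
    exact hx
  have hZR : Z' ≤ R := hZ'le.trans inf_le_left
  have hZC : Z' ≤ centralizer (R : Set G) := hZ'le.trans inf_le_right
  have hcommZ : ∀ a ∈ Z', ∀ b ∈ Z', a * b = b * a := fun a ha b hb =>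
    mem_centralizer_iff.mp (hZC hb) a (hZR ha)
  have hpowZ : ∀ a ∈ Z', a ^ p = 1 := by
    intro a ha
    rw [hZ', Cfsg.omegaOne] at ha
    induction ha using Subgroup.closure_induction with
    | mem x hx => exact hx.2
    | one => exact one_pow p
    | mul a b ha hb ih1 ih2 =>
      have hcm : Commute a b := hcommZ a ha b hb
      rw [hcm.mul_pow, ih1, ih2, one_mul]
    | inv a ha ih => rw [inv_pow, ih, inv_one]
  have hred : Cfsg.IsPReducedNormal p (Z'.subgroupOf R) := by
    apply isPReducedNormal_of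
    · constructor
      rintro ⟨x, hxR⟩ hx ⟨g, hg⟩
      rw [Subgroup.mem_subgroupOf] at hx ⊢
      have h1 := mem_centralizer_iff.mp (hZC hx) g hg
      show g * x * g⁻¹ ∈ Z'
      rw [h1]
      simpa using hx
    · rintro ⟨a, _⟩ ha ⟨b, _⟩ hb
      exact Subtype.ext (hcommZ a (Subgroup.mem_subgroupOf.mp ha) b (Subgroup.mem_subgroupOf.mp hb))
    · rintro ⟨a, _⟩ ha
      exact Subtype.ext (hpowZ a (Subgroup.mem_subgroupOf.mp ha))
    · intro M _ _ m _
      rw [mem_centralizer_subgroupOf hZR]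
      refine mem_centralizer_iff.mpr ?_
      intro x hx
      exact (mem_centralizer_iff.mp (hZC hx) m m.2).symm
  have hcl := Cfsg.Agent.S2802.result hchar S R le_rfl (Z'.subgroupOf R) hred
  refine le_largestPReduced hcl (Subgroup.le_normalClosure ?_)
  have hyZ : y ∈ Z' := by
    apply Subgroup.subset_closure
    refine ⟨⟨hy, ?_⟩, hp⟩
    refine mem_centralizer_iff.mpr ?_
    exact hcomm
  exact ⟨⟨y, hy⟩, Subgroup.mem_subgroupOf.mpr hyZ, rfl⟩


/-- Let H be a finite group, p a prime, T a Sylow p-subgroup and L a subgroup of characteristic p containing T; let Y_L be the largest p-reduced normal subgroup of L (the join of the normal elementary abelian p-subgroups V of L with O_p(L/C_L(V)) = 1). Then T₀ := C_T(Y_L) is a Sylow p-subgroup of C_H(Y_L); moreover O_p(L) ≤ T₀ ≤ C_L(Y_L) and Ω₁(Z(T)) ≤ Z_L ≤ Y_L ≤ Ω₁(Z(O_p(L))), where Z_L is generated by the Ω₁(Z(S)) over the Sylow p-subgroups S of L. -/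
theorem result {H : Type*} [Group H] [Finite H] {p : ℕ} [Fact p.Prime] (T : Sylow p H) (L : Subgroup H) (hTL : (T : Subgroup H) ≤ L) (hL : Subgroup.centralizer (Cfsg.pCore p ↥L : Set ↥L) ≤ Cfsg.pCore p ↥L) (T₀ : Subgroup H) (hT₀ : T₀ = (T : Subgroup H) ⊓ Subgroup.centralizer (((Cfsg.largestPReducedOf p L) : Subgroup H) : Set H)) : (∃ P : Sylow p ↥(Subgroup.centralizer (((Cfsg.largestPReducedOf p L) : Subgroup H) : Set H)), (P : Subgroup ↥(Subgroup.centralizer (((Cfsg.largestPReducedOf p L) : Subgroup H) : Set H))) = T₀.subgroupOf (Subgroup.centralizer (((Cfsg.largestPReducedOf p L) : Subgroup H) : Set H))) ∧ (Cfsg.pCoreOf p L) ≤ T₀ ∧ T₀ ≤ L ⊓ Subgroup.centralizer (((Cfsg.largestPReducedOf p L) : Subgroup H) : Set H) ∧ (Cfsg.omegaOne p ((T : Subgroup H) ⊓ Subgroup.centralizer (((T : Subgroup H) : Subgroup H) : Set H))) ≤ Cfsg.sylowCenterClosure p L ∧ Cfsg.sylowCenterClosure p L ≤ (Cfsg.largestPReducedOf p L) ∧ (Cfsg.largestPReducedOf p L) ≤ (Cfsg.omegaOne p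 ((Cfsg.pCoreOf p L) ⊓ Subgroup.centralizer (((Cfsg.pCoreOf p L) : Subgroup H) : Set H))) := by
  classical
  set Y : Subgroup H := Cfsg.largestPReducedOf p L with hY
  set C : Subgroup H := centralizer (Y : Set H) with hC
  have hYL : Y ≤ L := largestPReducedOf_le_subgroup L
  have hred : Cfsg.IsPReducedNormal p (Y.subgroupOf L) := largest_subgroupOf L hL
  have hLN : L ≤ normalizer (Y : Set H) := le_normalizer_of_normal hYL hred.1
  have hLNC : L ≤ normalizer (C : Set H) := hLN.trans (normalizer_le_normalizer_centralizer Y)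
  have hredY := isPReducedNormal_largest hL
  have hcenter := le_center_pCore hL hredY
  have hT₀T : T₀ ≤ T := by rw [hT₀]; exact inf_le_left
  have hT₀C : T₀ ≤ C := by rw [hT₀]; exact inf_le_right
  refine ⟨?_, ?_, ?_, ?_, ?_, ?_⟩
  · have hnd := not_dvd_relIndex_of_le_normalizer T C (hTL.trans hLNC)
    have hpg : IsPGroup p (T₀.subgroupOf C) := (T.isPGroup'.to_le hT₀T).comap_subtype
    rw [← hT₀] at hnd
    refine ⟨hpg.toSylow hnd, ?_⟩
    rfl
  · rintro _ ⟨x, hx, rfl⟩
    rw [hT₀]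
    constructor
    · have h1 := Cfsg.Agent.Lib.Basic.PCore.pCore_le_sylow (T.subtype hTL) hx
      rw [Sylow.coe_subtype] at h1
      exact Subgroup.mem_subgroupOf.mp h1
    · refine (mem_centralizer_iff (g := L.subtype x) (s := (Y : Set H))).mpr ?_
      rintro _ ⟨y, hy, rfl⟩
      have h2 : y ∈ centralizer (Cfsg.pCore p ↥L : Set ↥L) := (hcenter hy).2
      have h3 := mem_centralizer_iff.mp h2 x hx
      exact (congrArg Subtype.val h3).symm
  · exact le_inf (hT₀T.trans hTL) hT₀C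
  · have hS : ((T.subtype hTL : Sylow p ↥L) : Subgroup ↥L).map L.subtype = T := by
      rw [Sylow.coe_subtype]
      exact Subgroup.map_subgroupOf_eq_of_le hTL
    have h1 := le_iSup (fun S : Sylow p ↥L => Cfsg.omegaOne p (((S : Subgroup ↥L).map L.subtype) ⊓
      centralizer (((S : Subgroup ↥L).map L.subtype : Subgroup H) : Set H))) (T.subtype hTL)
    simp only [hS] at h1
    exact h1
  · refine iSup_le fun S => ?_
    rw [Cfsg.omegaOne, Subgroup.closure_le]
    rintro x ⟨⟨hx1, hx2⟩, hx3⟩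
    obtain ⟨y, hy, rfl⟩ := hx1
    have hyY : y ∈ Cfsg.largestPReduced p ↥L := by
      refine center_le_largest hL S hy ?_ (Subtype.ext hx3)
      intro s hs
      have h1 := mem_centralizer_iff.mp hx2 (L.subtype s) ⟨s, hs, rfl⟩
      exact Subtype.ext h1
    exact ⟨y, hyY, rfl⟩
  · rintro _ ⟨y, hy, rfl⟩
    apply Subgroup.subset_closure
    have h1 := hcenter hy
    have h2 : y ∈ centralizer (Cfsg.pCore p ↥L : Set ↥L) := h1.2
    refine ⟨⟨⟨y, h1.1, rfl⟩, ?_⟩, congrArg Subtype.val (hredY.2.1.2 y hy)⟩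
    refine (mem_centralizer_iff (g := L.subtype y) (s := ((Cfsg.pCoreOf p L : Subgroup H) : Set H))).mpr ?_
    rintro _ ⟨o, ho, rfl⟩
    have h3 := mem_centralizer_iff.mp h2 o ho
    exact congrArg Subtype.val h3

end Cfsg.Agent.S2821
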