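import Cfsg.Statements.S2823
import Mathlib
import Cfsg.Prelude.Def_Amalgam
import Cfsg.Agent.Lib.LocalY.Kieler
import Cfsg.Agent.Lib.Transfer.Basic
-- import your own Cfsg.Agent.* helpers here

set_option autoImplicit false
open Cfsg

namespace Cfsg.Agent.S2823

open Subgroup Cfsg.Agent.Lib.LocalY.Kieler Cfsg.Agent.Lib.LocalY.Norm Cfsg.Agent.Lib.Components.CharP
open scoped commutatorElement

variable {H : Type*} [Group H] [Finite H] {p : ℕ} [Fact p.Prime]

/-- Membership in a conjugate Sylow subgroup of `L`, in `H`. -/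
theorem mem_map_smul {L T : Subgroup H} (S₀ : Sylow p ↥L) (hS₀ : (S₀ : Subgroup ↥L).map L.subtype = T)
    (g : ↥L) (u : H) :
    u ∈ ((g • S₀ : Sylow p ↥L) : Subgroup ↥L).map L.subtype ↔ u ∈ L ∧ (g : H)⁻¹ * u * g ∈ T := by
  rw [← hS₀]
  constructor
  · rintro ⟨s, hs, rfl⟩
    refine ⟨s.2, ?_⟩
    have hs' : s ∈ ((g • S₀ : Sylow p ↥L) : Subgroup ↥L) := hs
    rw [Sylow.coe_subgroup_smul, Subgroup.mem_pointwise_smul_iff_inv_smul_mem] at hs'
    have h2 : g⁻¹ * s * g ∈ (S₀ : Subgroup ↥L) := by simpa using hs'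
    exact ⟨g⁻¹ * s * g, h2, by simp⟩
  · rintro ⟨huL, s, hs, hs2⟩
    refine ⟨⟨u, huL⟩, ?_, rfl⟩
    show (⟨u, huL⟩ : ↥L) ∈ ((g • S₀ : Sylow p ↥L) : Subgroup ↥L)
    rw [Sylow.coe_subgroup_smul, Subgroup.mem_pointwise_smul_iff_inv_smul_mem]
    have h1 : g⁻¹ * ⟨u, huL⟩ * g = s := Subtype.ext hs2.symm
    have hs' : s ∈ (S₀ : Subgroup ↥L) := hs
    rw [← h1] at hs'
    simpa [MulAut.smul_def, MulAut.conj_apply] using hs'

/-- `Z_L` as the closure of the `L`-conjugates of `Ω₁(Z(T))`. -/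
theorem sylowCenterClosure_eq {L T : Subgroup H} (S₀ : Sylow p ↥L)
    (hS₀ : (S₀ : Subgroup ↥L).map L.subtype = T) :
    sylowCenterClosure p L =
      closure {v | ∃ x ∈ L, ∃ z ∈ omegaOne p (T ⊓ centralizer (T : Set H)), v = x * z * x⁻¹} := by
  have hTab : ∀ x ∈ T ⊓ centralizer (T : Set H), ∀ y ∈ T ⊓ centralizer (T : Set H), x * y = y * x := by
    intro x hx y hy
    exact (mem_centralizer_iff.mp hy.2 x hx.1)
  apply le_antisymm
  · apply iSup_le
    intro S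
    rw [omegaOne, Subgroup.closure_le]
    rintro u ⟨⟨hu1, hu2⟩, hup⟩
    obtain ⟨g, hg⟩ := MulAction.exists_smul_eq ↥L S₀ S
    rw [← hg] at hu1 hu2
    have hu1 : u ∈ ((g • S₀ : Sylow p ↥L) : Subgroup ↥L).map L.subtype := hu1
    rw [mem_map_smul S₀ hS₀] at hu1
    apply Subgroup.subset_closure
    refine ⟨g, g.2, (g : H)⁻¹ * u * g, ?_, by group⟩
    apply Subgroup.subset_closure
    refine ⟨⟨hu1.2, ?_⟩, ?_⟩
    · show (g : H)⁻¹ * u * g ∈ centralizer (T : Set H)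
      rw [mem_centralizer_iff]
      intro t ht
      have h1 : (g : H) * t * (g : H)⁻¹ ∈ ((g • S₀ : Sylow p ↥L) : Subgroup ↥L).map L.subtype := by
        rw [mem_map_smul S₀ hS₀]
        have hTL : T ≤ L := by
          rw [← hS₀]
          exact Subgroup.map_subtype_le _
        refine ⟨L.mul_mem (L.mul_mem g.2 (hTL ht)) (L.inv_mem g.2), ?_⟩
        have h2 : (g : H)⁻¹ * ((g : H) * t * (g : H)⁻¹) * g = t := by group
        rw [h2]
        exact ht
      have h3 := mem_centralizer_iff.mp hu2 _ h1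
      calc t * ((g : H)⁻¹ * u * g) = (g : H)⁻¹ * (((g : H) * t * (g : H)⁻¹) * u) * g := by group
        _ = (g : H)⁻¹ * (u * ((g : H) * t * (g : H)⁻¹)) * g := by rw [h3]
        _ = (g : H)⁻¹ * u * g * t := by group
    · have h4 : ((g : H)⁻¹ * u * g) ^ p = (g : H)⁻¹ * u ^ p * g := by
        have := conj_pow (a := (g : H)⁻¹) (b := u) (i := p)
        simpa using this
      rw [h4, hup]
      group
  · rw [Subgroup.closure_le]
    rintro _ ⟨x, hxL, z, hz, rfl⟩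
    obtain ⟨⟨hzT, hzC⟩, hzp⟩ := mem_omegaOne_of_commute hTab hz
    have hmem := le_iSup (fun S : Sylow p ↥L =>
      omegaOne p (((S : Subgroup ↥L).map L.subtype) ⊓
      centralizer (((S : Subgroup ↥L).map L.subtype : Subgroup H) : Set H))) ((⟨x, hxL⟩ : ↥L) • S₀)
    apply hmem
    apply Subgroup.subset_closure
    refine ⟨⟨?_, ?_⟩, ?_⟩
    · show x * z * x⁻¹ ∈ (((⟨x, hxL⟩ : ↥L) • S₀ : Sylow p ↥L) : Subgroup ↥L).map L.subtype
      rw [mem_map_smul S₀ hS₀]
      have hTL : T ≤ L := by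
        rw [← hS₀]
        exact Subgroup.map_subtype_le _
      refine ⟨L.mul_mem (L.mul_mem hxL (hTL hzT)) (L.inv_mem hxL), ?_⟩
      show x⁻¹ * (x * z * x⁻¹) * x ∈ T
      have h2 : x⁻¹ * (x * z * x⁻¹) * x = z := by group
      rw [h2]
      exact hzT
    · show x * z * x⁻¹ ∈ centralizer _
      rw [mem_centralizer_iff]
      intro u hu
      have hu' : u ∈ ((((⟨x, hxL⟩ : ↥L) • S₀ : Sylow p ↥L) : Subgroup ↥L).map L.subtype) := hu
      rw [mem_map_smul S₀ hS₀] at hu'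
      have h3 : (x⁻¹ * u * x) * z = z * (x⁻¹ * u * x) := mem_centralizer_iff.mp hzC _ hu'.2
      calc u * (x * z * x⁻¹) = x * ((x⁻¹ * u * x) * z) * x⁻¹ := by group
        _ = x * (z * (x⁻¹ * u * x)) * x⁻¹ := by rw [h3]
        _ = x * z * x⁻¹ * u := by group
    · rw [conj_pow, hzp]
      simp


/-- Let H be a finite group, p a prime, T a Sylow p-subgroup and L a subgroup of characteristic p containing T; let Z_L be the subgroup generated by the Ω₁(Z(S)) over the Sylow p-subgroups S of L and O^p(L) the subgroup generated by the elements of L of order prime to p. Then Z_L = Ω₁(Z(L))·[Z_L, O^p(L)] and [Z_L, L] = [Z_L, O^p(L)]. -/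
theorem result {H : Type*} [Group H] [Finite H] {p : ℕ} [Fact p.Prime] (T : Sylow p H) (L : Subgroup H) (hTL : (T : Subgroup H) ≤ L) (hL : Subgroup.centralizer (Cfsg.pCore p ↥L : Set ↥L) ≤ Cfsg.pCore p ↥L) : Cfsg.sylowCenterClosure p L = (Cfsg.omegaOne p (L ⊓ Subgroup.centralizer ((L : Subgroup H) : Set H))) ⊔ ⁅Cfsg.sylowCenterClosure p L, (Cfsg.pResidual p ↥L).map L.subtype⁆ ∧ ⁅Cfsg.sylowCenterClosure p L, L⁆ = ⁅Cfsg.sylowCenterClosure p L, (Cfsg.pResidual p ↥L).map L.subtype⁆ := by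
  set V : Subgroup H := sylowCenterClosure p L with hV
  set R : Subgroup H := (pResidual p ↥L).map L.subtype with hR
  set Z : Subgroup H := omegaOne p ((T : Subgroup H) ⊓ centralizer ((T : Subgroup H) : Set H)) with hZ
  have hTab : ∀ x ∈ (T : Subgroup H) ⊓ centralizer ((T : Subgroup H) : Set H),
      ∀ y ∈ (T : Subgroup H) ⊓ centralizer ((T : Subgroup H) : Set H), x * y = y * x := by
    intro x hx y hy
    exact (mem_centralizer_iff.mp hy.2 x hx.1)
  have hZm : ∀ z ∈ Z, z ∈ (T : Subgroup H) ⊓ centralizer ((T : Subgroup H) : Set H) ∧ z ^ p = 1 :=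
    fun z hz => mem_omegaOne_of_commute hTab hz
  let S₀ : Sylow p ↥L := T.subtype hTL
  have hS₀ : (S₀ : Subgroup ↥L).map L.subtype = (T : Subgroup H) := by
    rw [Sylow.coe_subtype]
    exact Subgroup.map_subgroupOf_eq_of_le hTL
  have hTi : ¬ p ∣ (T : Subgroup H).relIndex L := by
    intro h
    apply T.not_dvd_index
    rw [← Subgroup.relIndex_mul_index hTL]
    exact Dvd.dvd.mul_right h _
  have hQT : pCoreOf p L ≤ (T : Subgroup H) := pCoreOf_le_of_not_dvd hTL T.isPGroup' hTi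
  have hLc := inf_centralizer_pCoreOf_le hL
  have hzQ : ∀ z, z ∈ L → z ∈ centralizer ((T : Subgroup H) : Set H) → z ∈ pCoreOf p L := by
    intro z hzL hzC
    apply hLc
    refine ⟨hzL, ?_⟩
    show z ∈ centralizer _
    rw [mem_centralizer_iff]
    intro q hq
    exact mem_centralizer_iff.mp hzC q (hQT hq)
  have hVeq : V = closure {v | ∃ x ∈ L, ∃ z ∈ Z, v = x * z * x⁻¹} := sylowCenterClosure_eq S₀ hS₀
  set X : Set H := {v | ∃ x ∈ L, ∃ z ∈ Z, v = x * z * x⁻¹} with hX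
  have hZL : ∀ z ∈ Z, z ∈ L := fun z hz => hTL (hZm z hz).1.1
  have hXQ : ∀ v ∈ X, v ∈ pCoreOf p L ∧ v ∈ centralizer ((pCoreOf p L : Subgroup H) : Set H) ∧ v ^ p = 1 := by
    rintro _ ⟨x, hx, z, hz, rfl⟩
    have h1 := hzQ z (hZL z hz) (hZm z hz).1.2
    refine ⟨conj_mem_pCoreOf hx h1, ?_, ?_⟩
    · rw [mem_centralizer_iff]
      intro q hq
      have h2 : x⁻¹ * q * x⁻¹⁻¹ ∈ pCoreOf p L := conj_mem_pCoreOf (L.inv_mem hx) hq
      rw [inv_inv] at h2
      have h3 : (x⁻¹ * q * x) * z = z * (x⁻¹ * q * x) :=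
        mem_centralizer_iff.mp (hZm z hz).1.2 _ (hQT h2)
      calc q * (x * z * x⁻¹) = x * ((x⁻¹ * q * x) * z) * x⁻¹ := by group
        _ = x * (z * (x⁻¹ * q * x)) * x⁻¹ := by rw [h3]
        _ = x * z * x⁻¹ * q := by group
    · rw [conj_pow, (hZm z hz).2]
      simp
  have hXcomm : ∀ x ∈ X, ∀ y ∈ X, x * y = y * x := by
    intro x hx y hy
    exact mem_centralizer_iff.mp (hXQ y hy).2.1 x (hXQ x hx).1
  have hXp : ∀ x ∈ X, x ^ p = 1 := fun x hx => (hXQ x hx).2.2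
  have hVc : ∀ a ∈ V, ∀ b ∈ V, a * b = b * a := by
    rw [hVeq]
    exact closure_comm hXcomm
  have hVp : ∀ a ∈ V, a ^ p = 1 := by
    rw [hVeq]
    exact closure_pow hXcomm hXp
  have hVL : V ≤ L := by
    rw [hVeq, Subgroup.closure_le]
    rintro _ ⟨x, hx, z, hz, rfl⟩
    exact L.mul_mem (L.mul_mem hx (hZL z hz)) (L.inv_mem hx)
  have hVn : ∀ a ∈ L, ∀ u ∈ V, a * u * a⁻¹ ∈ V := by
    intro a ha
    rw [hVeq]
    apply conj_mem_closure
    rintro _ ⟨b, hb, z, hz, rfl⟩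
    apply Subgroup.subset_closure
    refine ⟨a * b, L.mul_mem ha hb, z, hz, ?_⟩
    group
  have hZV : Z ≤ V := by
    intro z hz
    rw [hVeq]
    exact Subgroup.subset_closure ⟨1, L.one_mem, z, hz, by simp⟩
  have hRL : R ≤ L := Subgroup.map_subtype_le _
  have hRn : ∀ a ∈ L, ∀ r ∈ R, a * r * a⁻¹ ∈ R := by
    rintro a ha _ ⟨r, hr, rfl⟩
    have hn : (pResidual p ↥L).Normal := Cfsg.Agent.Lib.Transfer.Basic.pResidual_normal p _
    exact ⟨⟨a, ha⟩ * r * ⟨a, ha⟩⁻¹, hn.conj_mem r hr _, rfl⟩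
  -- `L = O^p(L) T`
  have hfac : ∀ l ∈ L, ∃ e ∈ R, ∃ t ∈ (T : Subgroup H), l = e * t := by
    intro l hl
    have hn : (pResidual p ↥L).Normal := Cfsg.Agent.Lib.Transfer.Basic.pResidual_normal p _
    have hπ : Function.Surjective (QuotientGroup.mk' (pResidual p ↥L)) := QuotientGroup.mk'_surjective _
    let P := S₀.mapSurjective hπ
    have hpg : IsPGroup p (↥L ⧸ pResidual p ↥L) :=
      Cfsg.Agent.Lib.Transfer.Basic.isPGroup_quotient_pResidual
    have htop : (⊤ : Subgroup (↥L ⧸ pResidual p ↥L)) = (P : Subgroup _) :=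
      P.is_maximal' (hpg.to_subgroup ⊤) le_top
    have hmem : QuotientGroup.mk' (pResidual p ↥L) (⟨l, hl⟩ : ↥L) ∈ (P : Subgroup _) := by
      rw [← htop]
      trivial
    obtain ⟨t, ht, hte⟩ := hmem
    have ht' : t ∈ (S₀ : Subgroup ↥L) := ht
    have h1 : (⟨l, hl⟩ : ↥L) * t⁻¹ ∈ pResidual p ↥L := by
      rw [← QuotientGroup.eq_one_iff]
      show QuotientGroup.mk' (pResidual p ↥L) ((⟨l, hl⟩ : ↥L) * t⁻¹) = 1
      rw [map_mul, map_inv, ← hte]
      simp
    have htT : (t : H) ∈ (T : Subgroup H) := by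
      rw [← hS₀]
      exact ⟨t, ht', rfl⟩
    refine ⟨_, ⟨_, h1, rfl⟩, t, htT, ?_⟩
    simp
  set W : Subgroup H := ⁅V, R⁆ with hW
  have hWn : ∀ a ∈ L, ∀ w ∈ W, a * w * a⁻¹ ∈ W := by
    intro a ha
    rw [hW, Subgroup.commutator_def]
    apply conj_mem_closure
    rintro _ ⟨v, hv, r, hr, rfl⟩
    rw [← Subgroup.commutator_def]
    have h1 : a * ⁅v, r⁆ * a⁻¹ = ⁅a * v * a⁻¹, a * r * a⁻¹⁆ := by
      simp only [commutatorElement_def]
      group
    rw [h1]
    exact Subgroup.commutator_mem_commutator (hVn a ha v hv) (hRn a ha r hr)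
  have hWV : W ≤ V := by
    rw [hW, Subgroup.commutator_le]
    intro v hv r hr
    have h1 : ⁅v, r⁆ = v * (r * v⁻¹ * r⁻¹) := by
      simp only [commutatorElement_def]
      group
    rw [h1]
    exact V.mul_mem hv (hVn r (hRL hr) _ (V.inv_mem hv))
  -- conjugates of `Z` modulo `W`
  have hcz : ∀ x ∈ L, ∀ z ∈ Z, x * z * x⁻¹ * z⁻¹ ∈ W := by
    intro x hx z hz
    obtain ⟨e, he, t, ht, rfl⟩ := hfac x hx
    have h1 : t * z = z * t := mem_centralizer_iff.mp (hZm z hz).1.2 t ht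
    have h2 : (e * t) * z * (e * t)⁻¹ * z⁻¹ = (⁅z, e⁆)⁻¹ := by
      calc (e * t) * z * (e * t)⁻¹ * z⁻¹ = e * (t * z) * t⁻¹ * e⁻¹ * z⁻¹ := by group
        _ = e * (z * t) * t⁻¹ * e⁻¹ * z⁻¹ := by rw [h1]
        _ = (⁅z, e⁆)⁻¹ := by
          simp only [commutatorElement_def]
          group
    rw [h2]
    exact W.inv_mem (Subgroup.commutator_mem_commutator (hZV hz) he)
  have hcv : ∀ x ∈ L, ∀ v ∈ V, x * v * x⁻¹ * v⁻¹ ∈ W := by
    intro x hx v hv
    rw [hVeq] at hv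
    induction hv using Subgroup.closure_induction with
    | mem v hv =>
      obtain ⟨y, hy, z, hz, rfl⟩ := hv
      have h1 := hcz (x * y) (L.mul_mem hx hy) z hz
      have h2 := W.inv_mem (hcz y hy z hz)
      have h3 : x * (y * z * y⁻¹) * x⁻¹ * (y * z * y⁻¹)⁻¹ =
          ((x * y) * z * (x * y)⁻¹ * z⁻¹) * (y * z * y⁻¹ * z⁻¹)⁻¹ := by group
      rw [h3]
      exact W.mul_mem h1 h2
    | one => simp
    | mul a b ha hb iha ihb =>
      have hb' := hWn a (hVL (by rw [hVeq]; exact ha)) _ ihb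
      have h3 : x * (a * b) * x⁻¹ * (a * b)⁻¹ =
          (x * a * x⁻¹ * a⁻¹) * (a * (x * b * x⁻¹ * b⁻¹) * a⁻¹) := by group
      rw [h3]
      exact W.mul_mem iha hb'
    | inv a ha iha =>
      have ha' : a⁻¹ ∈ L := L.inv_mem (hVL (by rw [hVeq]; exact ha))
      have h4 := hWn _ ha' _ (W.inv_mem iha)
      rw [inv_inv] at h4
      have h3 : x * a⁻¹ * x⁻¹ * a⁻¹⁻¹ = a⁻¹ * (x * a * x⁻¹ * a⁻¹)⁻¹ * a := by group
      rw [h3]
      exact h4
  have hcomm2 : ⁅V, L⁆ = W := by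
    apply le_antisymm
    · rw [Subgroup.commutator_le]
      intro v hv l hl
      have h1 : ⁅v, l⁆ = (l * v * l⁻¹ * v⁻¹)⁻¹ := by
        simp only [commutatorElement_def]
        group
      rw [h1]
      exact W.inv_mem (hcv l hl v hv)
    · exact Subgroup.commutator_mono le_rfl hRL
  refine ⟨?_, hcomm2⟩
  -- the norm
  have hTLa : ∀ x ∈ L ⊓ centralizer ((L : Subgroup H) : Set H),
      ∀ y ∈ L ⊓ centralizer ((L : Subgroup H) : Set H), x * y = y * x := by
    intro x hx y hy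
    exact (mem_centralizer_iff.mp hy.2 x hx.1)
  obtain ⟨N, Na, -, Nc, -⟩ := exists_norm hTL hVc hVn
  have hpp : p.Prime := Fact.out
  set m := (T : Subgroup H).relIndex L with hm
  have hmcop : m.Coprime p := by
    rw [Nat.coprime_comm]
    exact (Nat.Prime.coprime_iff_not_dvd hpp).mpr hTi
  obtain ⟨m', -, hm'⟩ := Nat.exists_mul_mod_eq_one_of_coprime hmcop hpp.one_lt
  set Y : Subgroup H := omegaOne p (L ⊓ centralizer ((L : Subgroup H) : Set H)) with hY
  have hzY : ∀ z ∈ Z, z ∈ Y ⊔ W := by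
    intro z hz
    have hzV := hZV hz
    have hzT := (hZm z hz).1.1
    have hzC := (hZm z hz).1.2
    have hzp := (hZm z hz).2
    obtain ⟨r, hrW, hrN⟩ := Nc W ⟨z, hzV⟩ (fun s hs => mem_centralizer_iff.mp hzC s hs) (fun a ha => by
      have h1 := hWn _ (L.inv_mem (hTL hzT)) _ (hcz a ha z hz)
      rw [inv_inv] at h1
      have h2 : z⁻¹ * (a * z * a⁻¹) = z⁻¹ * (a * z * a⁻¹ * z⁻¹) * z := by group
      rw [h2]
      exact h1)
    set t : H := ((N ⟨z, hzV⟩ : ↥V) : H) with ht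
    have htV : t ∈ V := (N ⟨z, hzV⟩).2
    have htL : ∀ a ∈ L, a * t = t * a := Na ⟨z, hzV⟩ (fun s hs => mem_centralizer_iff.mp hzC s hs)
    have htY : t ∈ Y := by
      apply Subgroup.subset_closure
      refine ⟨⟨hVL htV, ?_⟩, hVp t htV⟩
      show t ∈ centralizer _
      rw [mem_centralizer_iff]
      exact htL
    have hzpow : (z ^ m) ^ m' = z := by
      rw [← pow_mul]
      conv_lhs => rw [← Nat.div_add_mod (m * m') p, hm']
      rw [pow_add, pow_mul, hzp, one_pow, one_mul, pow_one]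
    have htr : t = z ^ m * (r : H) := by
      have h1 := congrArg (Subtype.val) hrN
      simpa using h1
    have hzm : z ^ m = t * (r : H)⁻¹ := by
      rw [htr]
      group
    have hcomm : Commute t ((r : H)⁻¹) := hVc t htV _ (V.inv_mem r.2)
    rw [← hzpow, hzm, hcomm.mul_pow]
    exact Subgroup.mul_mem _ (Subgroup.mem_sup_left (Y.pow_mem htY _))
      (Subgroup.mem_sup_right (W.pow_mem (W.inv_mem hrW) _))
  apply le_antisymm
  · rw [hVeq, Subgroup.closure_le]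
    rintro _ ⟨x, hx, z, hz, rfl⟩
    have h1 : x * z * x⁻¹ = (x * z * x⁻¹ * z⁻¹) * z := by group
    rw [h1]
    exact Subgroup.mul_mem _ (Subgroup.mem_sup_right (hcz x hx z hz)) (hzY z hz)
  · apply sup_le _ hWV
    intro a ha
    obtain ⟨⟨haL, haC⟩, hap⟩ := mem_omegaOne_of_commute hTLa ha
    apply hZV
    apply Subgroup.subset_closure
    have haQ := hQT (hzQ a haL (Subgroup.centralizer_le (SetLike.coe_subset_coe.mpr hTL) haC))
    exact ⟨⟨haQ, Subgroup.centralizer_le (SetLike.coe_subset_coe.mpr hTL) haC⟩, hap⟩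

end Cfsg.Agent.S2823
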