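import Cfsg.Statements.S2824
import Mathlib
import Cfsg.Agent.Lib.LocalY.Transfer
-- import your own Cfsg.Agent.* helpers here

set_option autoImplicit false
open Cfsg

namespace Cfsg.Agent.S2824

open Cfsg.Agent.Lib.LocalY.Transfer Cfsg.Agent.Lib.LocalY.Basic Cfsg.Agent.Lib.LocalY.Structure Subgroup


/-- Let H be a finite group, p a prime, T a Sylow p-subgroup, L and M subgroups of characteristic p containing T, Y_L the largest p-reduced normal subgroup of L and T₀ = C_T(Y_L). If M·C_H(Y_L) = L·C_H(Y_L), then L* := N_M(T₀) has Y_{L*} = Y_L and L·C_H(Y_L) = L*·C_H(Y_L). -/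
theorem result {H : Type*} [Group H] [Finite H] {p : ℕ} [Fact p.Prime] (T : Sylow p H) (L M : Subgroup H) (hTL : (T : Subgroup H) ≤ L) (hTM : (T : Subgroup H) ≤ M) (hL : Subgroup.centralizer (Cfsg.pCore p ↥L : Set ↥L) ≤ Cfsg.pCore p ↥L) (hM : Subgroup.centralizer (Cfsg.pCore p ↥M : Set ↥M) ≤ Cfsg.pCore p ↥M) (T₀ : Subgroup H) (hT₀ : T₀ = (T : Subgroup H) ⊓ Subgroup.centralizer (((Cfsg.largestPReducedOf p L) : Subgroup H) : Set H)) (hfac : M ⊔ Subgroup.centralizer (((Cfsg.largestPReducedOf p L) : Subgroup H) : Set H) = L ⊔ Subgroup.centralizer (((Cfsg.largestPReducedOf p L) : Subgroup H) : Set H)) (Ls : Subgroup H) (hLs : Ls = M ⊓ Subgroup.normalizer ((T₀ : Subgroup H) : Set H)) : (Cfsg.largestPReducedOf p Ls) = (Cfsg.largestPReducedOf p L) ∧ L ⊔ Subgroup.centralizer (((Cfsg.largestPReducedOf p L) : Subgroup H) : Set H) = Ls ⊔ Subgroup.centralizer (((Cfsg.largestPReducedOf p L) : Subgroup H) : Set H) := by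
  classical
  set Y : Subgroup H := Cfsg.largestPReducedOf p L with hY
  set C : Subgroup H := centralizer (Y : Set H) with hC
  have hYT : Y ≤ T := largestPReducedOf_le_sylow T L hTL hL
  have hYL : Y ≤ L := hYT.trans hTL
  have hYM : Y ≤ M := hYT.trans hTM
  have hredL : Cfsg.IsPReducedNormal p (Y.subgroupOf L) := largest_subgroupOf L hL
  have hredM : Cfsg.IsPReducedNormal p (Y.subgroupOf M) :=
    isPReducedNormal_transfer hYL hYM hredL hfac
  have hLN : L ≤ normalizer (Y : Set H) := le_normalizer_of_normal hYL hredL.1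
  have hLNC : L ≤ normalizer (C : Set H) := hLN.trans (normalizer_le_normalizer_centralizer Y)
  have hT₀T : T₀ ≤ T := by rw [hT₀]; exact inf_le_left
  have hT₀C : T₀ ≤ C := by rw [hT₀]; exact inf_le_right
  have hT₀p : IsPGroup p T₀ := T.isPGroup'.to_le hT₀T
  have hT₀M : T₀ ≤ M := hT₀T.trans hTM
  -- T normalizes T₀
  have hTN : (T : Subgroup H) ≤ normalizer (T₀ : Set H) := by
    intro t ht
    rw [Subgroup.mem_normalizer_iff]
    intro x
    rw [hT₀]
    have hNC := Subgroup.mem_normalizer_iff.mp (hLNC (hTL ht)) x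
    constructor
    · rintro ⟨h1, h2⟩
      exact ⟨T.1.mul_mem (T.1.mul_mem ht h1) (T.1.inv_mem ht), hNC.mp h2⟩
    · rintro ⟨h1, h2⟩
      refine ⟨?_, hNC.mpr h2⟩
      have h3 : x = t⁻¹ * (t * x * t⁻¹) * t := by group
      rw [h3]
      exact T.1.mul_mem (T.1.mul_mem (T.1.inv_mem ht) h1) ht
  have hTLs : (T : Subgroup H) ≤ Ls := by
    rw [hLs]
    exact le_inf hTM hTN
  have hT₀Ls : T₀ ≤ Ls := hT₀T.trans hTLs
  have hLsM : Ls ≤ M := by rw [hLs]; exact inf_le_left
  have hLsN : Ls ≤ normalizer (T₀ : Set H) := by rw [hLs]; exact inf_le_right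
  have hYLs : Y ≤ Ls := hYT.trans hTLs
  -- Frattini in M
  have hMfact : M ≤ Ls ⊔ C := by
    intro m hm
    have hYMn : (Y.subgroupOf M).Normal := hredM.1
    obtain ⟨a, ha, c, hc, hac⟩ := exists_factor (T.subtype hTM) (Y.subgroupOf M) hYMn ⟨m, hm⟩
    have h1 : (a : H) ∈ normalizer (T₀ : Set H) := by
      rw [Subgroup.mem_normalizer_iff]
      intro x
      have hsub : ((T.subtype hTM : Sylow p ↥M) : Subgroup ↥M) ⊓
          centralizer ((Y.subgroupOf M : Subgroup ↥M) : Set ↥M) = T₀.subgroupOf M := by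
        rw [Sylow.coe_subtype]
        ext z
        rw [hT₀]
        simp only [Subgroup.mem_inf, Subgroup.mem_subgroupOf]
        rw [mem_centralizer_subgroupOf hYM]
      rw [hsub] at ha
      have ha' := Subgroup.mem_normalizer_iff.mp ha
      constructor
      · intro hx
        have := (ha' ⟨x, hT₀M hx⟩).mp (Subgroup.mem_subgroupOf.mpr hx)
        exact Subgroup.mem_subgroupOf.mp this
      · intro hx
        have hxM : x ∈ M := by
          have h3 : x = (a : H)⁻¹ * ((a : H) * x * (a : H)⁻¹) * a := by group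
          rw [h3]
          exact M.mul_mem (M.mul_mem (M.inv_mem a.2) (hT₀M hx)) a.2
        have := (ha' ⟨x, hxM⟩).mpr (Subgroup.mem_subgroupOf.mpr hx)
        exact Subgroup.mem_subgroupOf.mp this
    have h2 : (a : H) ∈ Ls := by rw [hLs]; exact ⟨a.2, h1⟩
    have h3 : (c : H) ∈ C := (mem_centralizer_subgroupOf hYM).mp hc
    have h4 : m = a * c := congrArg Subtype.val hac
    rw [h4]
    exact (Ls ⊔ C).mul_mem ((le_sup_left : Ls ≤ Ls ⊔ C) h2) ((le_sup_right : C ≤ Ls ⊔ C) h3)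
  have hfac2 : L ⊔ C = Ls ⊔ C := by
    apply le_antisymm
    · rw [← hfac]
      exact sup_le hMfact le_sup_right
    · rw [← hfac]
      exact sup_le_sup_right hLsM C
  have hredLs : Cfsg.IsPReducedNormal p (Y.subgroupOf Ls) :=
    isPReducedNormal_transfer hYL hYLs hredL hfac2.symm
  refine ⟨?_, hfac2⟩
  -- `Ls` has characteristic p
  have hT₀core : T₀.subgroupOf Ls ≤ Cfsg.pCore p ↥Ls := by
    apply Cfsg.Agent.Lib.Basic.PCore.le_pCore
    · constructor
      rintro ⟨x, hxN⟩ hx ⟨g, hg⟩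
      rw [Subgroup.mem_subgroupOf] at hx ⊢
      exact (Subgroup.mem_normalizer_iff.mp (hLsN hg) x).mp hx
    · exact hT₀p.comap_subtype
  have hOMT₀ : ∀ x : ↥M, x ∈ Cfsg.pCore p ↥M → (x : H) ∈ T₀ := by
    intro x hx
    have h1 := Cfsg.Agent.Lib.Basic.PCore.pCore_le_sylow (T.subtype hTM) hx
    rw [Sylow.coe_subtype] at h1
    rw [hT₀]
    refine ⟨Subgroup.mem_subgroupOf.mp h1, ?_⟩
    refine (mem_centralizer_iff (g := (x : H)) (s := (Y : Set H))).mpr ?_
    intro y hy
    have h2 := le_center_pCore hM hredM (Subgroup.mem_subgroupOf.mpr hy : (⟨y, hYM hy⟩ : ↥M) ∈ Y.subgroupOf M)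
    have h3 : (⟨y, hYM hy⟩ : ↥M) ∈ centralizer (Cfsg.pCore p ↥M : Set ↥M) := h2.2
    have h4 := mem_centralizer_iff.mp h3 x hx
    exact (congrArg Subtype.val h4).symm
  have hLschar : centralizer (Cfsg.pCore p ↥Ls : Set ↥Ls) ≤ Cfsg.pCore p ↥Ls := by
    intro z hz
    have hzM : (⟨z, hLsM z.2⟩ : ↥M) ∈ centralizer (Cfsg.pCore p ↥M : Set ↥M) := by
      rw [mem_centralizer_iff]
      intro o ho
      have ho1 := hOMT₀ o ho
      have ho2 := hT₀core (Subgroup.mem_subgroupOf.mpr ho1 : (⟨o, hT₀Ls ho1⟩ : ↥Ls) ∈ T₀.subgroupOf Ls)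
      have h3 := mem_centralizer_iff.mp hz _ ho2
      have h5 : (o : H) * z = z * o := congrArg Subtype.val h3
      exact Subtype.ext h5
    have h4 := hOMT₀ _ (hM hzM)
    exact hT₀core (Subgroup.mem_subgroupOf.mpr h4)
  apply le_antisymm
  · -- Y_{Ls} ≤ Y
    rintro _ ⟨x, hx, rfl⟩
    have hred := isPReducedNormal_largest hLschar
    have hx1 := le_center_pCore hLschar hred hx
    have hxpow : x ^ p = 1 := hred.2.1.2 x hx
    have hxO : x ∈ Cfsg.pCore p ↥Ls := hx1.1
    have hxC : x ∈ centralizer (Cfsg.pCore p ↥Ls : Set ↥Ls) := hx1.2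
    -- x ∈ T₀
    have hxT : (x : H) ∈ T := by
      have h1 := Cfsg.Agent.Lib.Basic.PCore.pCore_le_sylow (T.subtype hTLs) hxO
      rw [Sylow.coe_subtype] at h1
      exact Subgroup.mem_subgroupOf.mp h1
    have hxYC : (x : H) ∈ C := by
      rw [hC, mem_centralizer_iff]
      intro y hy
      have h2 := le_center_pCore hLschar hredLs (Subgroup.mem_subgroupOf.mpr hy : (⟨y, hYLs hy⟩ : ↥Ls) ∈ Y.subgroupOf Ls)
      have h3 : (⟨y, hYLs hy⟩ : ↥Ls) ∈ centralizer (Cfsg.pCore p ↥Ls : Set ↥Ls) := h2.2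
      have h4 := mem_centralizer_iff.mp h3 x hxO
      exact (congrArg Subtype.val h4).symm
    have hxT₀ : (x : H) ∈ T₀ := by rw [hT₀]; exact ⟨hxT, hxYC⟩
    have hxcomm : ∀ t ∈ T₀, t * (x : H) = x * t := by
      intro t ht
      have h2 := hT₀core (Subgroup.mem_subgroupOf.mpr ht : (⟨t, hT₀Ls ht⟩ : ↥Ls) ∈ T₀.subgroupOf Ls)
      have h3 := mem_centralizer_iff.mp hxC _ h2
      exact congrArg Subtype.val h3
    -- use the structure theorem in `L`
    have hmain := structure_main hL (T.subtype hTL) (Cfsg.largestPReduced p ↥L)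
      (isPReducedNormal_largest hL) (fun V hV => le_largestPReduced hV)
      _ rfl
    have hxL : (x : H) ∈ L := hTL hxT
    have hxY : (⟨x, hxL⟩ : ↥L) ∈ Cfsg.largestPReduced p ↥L := by
      rw [hmain.2.2]
      apply Subgroup.subset_closure
      have hcentL : (⟨x, hxL⟩ : ↥L) ∈ centralizer ((Cfsg.largestPReduced p ↥L : Subgroup ↥L) : Set ↥L) := by
        rw [mem_centralizer_iff]
        intro y hy
        have hy' : (y : H) ∈ Y := ⟨y, hy, rfl⟩
        exact Subtype.ext (mem_centralizer_iff.mp hxYC _ hy')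
      have h6 : (x : H) ^ p = 1 := congrArg Subtype.val hxpow
      refine ⟨⟨⟨?_, hcentL⟩, ?_⟩, Subtype.ext h6⟩
      · rw [Sylow.coe_subtype]
        exact Subgroup.mem_subgroupOf.mpr hxT
      · refine mem_centralizer_iff.mpr ?_
        rintro ⟨t, htL⟩ ⟨ht1, ht2⟩
        rw [Sylow.coe_subtype] at ht1
        have ht1' : t ∈ T := Subgroup.mem_subgroupOf.mp ht1
        have ht2' : t ∈ C := by
          rw [hC, mem_centralizer_iff]
          rintro _ ⟨y, hy, rfl⟩
          have h5 := mem_centralizer_iff.mp ht2 y hy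
          exact congrArg Subtype.val h5
        have ht3 : t ∈ T₀ := by rw [hT₀]; exact ⟨ht1', ht2'⟩
        exact Subtype.ext (hxcomm t ht3)
    exact ⟨⟨x, hxL⟩, hxY, rfl⟩
  · exact le_largestPReducedOf_of hYLs hredLs

end Cfsg.Agent.S2824
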