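import Cfsg.Statements.S2826
import Mathlib
import Cfsg.Agent.Lib.Transfer.Basic

set_option autoImplicit false
open Cfsg
open scoped commutatorElement

namespace Cfsg.Agent.S2826

/-- Averaging over the cosets of `T`. -/
theorem average_aux {M H : Type*} [Group M] [Group H] [Finite H]
    (hcomm : ∀ x y : M, x * y = y * x)
    (φ : H →* MulAut M) (T : Subgroup H) (a : M) (hT : ∀ t ∈ T, φ t a = a) {p : ℕ}
    (hp : 1 < p) (hexp : ∀ v : M, v ^ p = 1) (hcop : Nat.Coprime T.index p) (U : Subgroup M)
    (hU : ∀ h : H, φ h a * a⁻¹ ∈ U) :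
    ∃ z : M, (∀ h, φ h z = z) ∧ a * z⁻¹ ∈ U := by
  classical
  let _ : CommGroup M := { (inferInstance : Group M) with mul_comm := hcomm }
  have : Fintype (H ⧸ T) := Fintype.ofFinite _
  set σ : H ⧸ T → M := fun q => φ q.out a with hσ
  have hσ' : ∀ (h : H) (q : H ⧸ T), φ h (σ q) = σ (h • q) := by
    intro h q
    have h1 : ((h • q).out)⁻¹ * (h * q.out) ∈ T := by
      have e : ((h * q.out : H) : H ⧸ T) = h • q := by
        conv_rhs => rw [← QuotientGroup.out_eq' q]
        rfl
      rw [← QuotientGroup.eq, QuotientGroup.out_eq', e]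
    have h2 : h * q.out = (h • q).out * (((h • q).out)⁻¹ * (h * q.out)) := by group
    simp only [hσ]
    rw [← MulAut.mul_apply, ← map_mul, h2, map_mul, MulAut.mul_apply, hT _ h1]
  set τ : M := ∏ q : H ⧸ T, σ q with hτ
  have hτfix : ∀ h, φ h τ = τ := by
    intro h
    rw [hτ, map_prod]
    simp only [hσ']
    exact Equiv.prod_comp (MulAction.toPerm h) σ
  obtain ⟨m, hm⟩ := Nat.exists_mul_mod_eq_one_of_coprime
    (show Nat.Coprime T.index p from hcop) hp
  set c : M := ∏ q : H ⧸ T, (σ q * a⁻¹) with hc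
  have hcU : c ∈ U := by
    apply Subgroup.prod_mem
    intro q _
    exact hU _
  have hn : Fintype.card (H ⧸ T) = T.index := by
    rw [Subgroup.index, Nat.card_eq_fintype_card]
  have hτc : τ = c * a ^ T.index := by
    rw [hc, Finset.prod_mul_distrib, Finset.prod_const, Finset.card_univ, hn, inv_pow, hτ]
    simp
  have hpow : a ^ (T.index * m) = a := by
    have h3 : T.index * m = 1 + p * (T.index * m / p) := by
      have := Nat.div_add_mod (T.index * m) p
      omega
    rw [h3, pow_add, pow_mul, hexp, one_pow, mul_one, pow_one]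
  refine ⟨τ ^ m, ?_, ?_⟩
  · intro h
    rw [map_pow, hτfix]
  · have : a * (τ ^ m)⁻¹ = (c ^ m)⁻¹ := by
      rw [hτc, mul_pow, ← pow_mul, hpow]
      simp [mul_comm]
    rw [this]
    exact inv_mem (pow_mem hcU m)


/-- Let H be a finite group of characteristic p, T a Sylow p-subgroup, and V a normal elementary abelian p-subgroup of H containing Ω₁(Z(T)). Then C_H(Ω₁(Z(T))) = C_H([V, O^p(H)] ∩ Ω₁(Z(T))), O^p(H) being generated by the elements of order prime to p. -/
theorem result {H : Type*} [Group H] [Finite H] {p : ℕ} [Fact p.Prime] (hH : Subgroup.centralizer (Cfsg.pCore p H : Set H) ≤ Cfsg.pCore p H) (T : Sylow p H) (V : Subgroup H) [V.Normal] (hV : Cfsg.IsElementaryAbelian p V) (hZV : (Cfsg.omegaOne p ((T : Subgroup H) ⊓ Subgroup.centralizer (((T : Subgroup H) : Subgroup H) : Set H))) ≤ V) : Subgroup.centralizer ((Cfsg.omegaOne p ((T : Subgroup H) ⊓ Subgroup.centralizer (((T : Subgroup H) : Subgroup H) : Set H))) : Set H) = Subgroup.centralizer (((⁅V, Cfsg.pResidual p H⁆ ⊓ (Cfsg.omegaOne p ((T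 : Subgroup H) ⊓ Subgroup.centralizer (((T : Subgroup H) : Subgroup H) : Set H)))) : Subgroup H) : Set H) := by
  set A : Subgroup H := Cfsg.omegaOne p ((T : Subgroup H) ⊓ Subgroup.centralizer (((T : Subgroup H) : Subgroup H) : Set H)) with hA
  have hp : p.Prime := Fact.out
  have hAle : A ≤ (T : Subgroup H) ⊓ Subgroup.centralizer (((T : Subgroup H) : Subgroup H) : Set H) := by
    rw [hA, Cfsg.omegaOne, Subgroup.closure_le]
    rintro x ⟨hx, _⟩
    exact hx
  -- `V` lies in `T`
  have hVp : IsPGroup p V := by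
    refine IsPGroup.iff_orderOf.2 ?_
    rintro ⟨x, hx⟩
    have h1 : (⟨x, hx⟩ : V) ^ p = 1 := Subtype.ext (hV.2 x hx)
    by_cases hx1 : (⟨x, hx⟩ : V) = 1
    · exact ⟨0, by simp [hx1]⟩
    · exact ⟨1, by rw [pow_one]; exact orderOf_eq_prime h1 hx1⟩
  have hVT : V ≤ (T : Subgroup H) := by
    have h1 : IsPGroup p (↑T ⊔ V : Subgroup H) :=
      IsPGroup.to_sup_of_normal_right T.isPGroup' hVp
    have h2 := T.is_maximal' h1 le_sup_left
    have h3 : V ≤ (↑T ⊔ V : Subgroup H) := le_sup_right
    rwa [h2] at h3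
  apply le_antisymm
  · apply Subgroup.centralizer_le
    exact fun x hx => hx.2
  · intro g hg
    rw [Subgroup.mem_centralizer_iff] at hg ⊢
    intro a ha
    have ha' : a ∈ A := ha
    have haV : a ∈ V := hZV ha'
    -- the group `O^p(H) T` is everything
    have hNT : ∀ h : H, ∃ o ∈ Cfsg.pResidual p H, ∃ t ∈ (T : Subgroup H), h = o * t := by
      intro h
      have hq : IsPGroup p (H ⧸ Cfsg.pResidual p H) :=
        Cfsg.Agent.Lib.Transfer.Basic.isPGroup_quotient_pResidual
      obtain ⟨m, hm⟩ := IsPGroup.iff_card.1 hq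
      have h1 : (Cfsg.pResidual p H ⊔ (T : Subgroup H)).index ∣ (T : Subgroup H).index :=
        Subgroup.index_dvd_of_le le_sup_right
      have h2 : (Cfsg.pResidual p H ⊔ (T : Subgroup H)).index ∣ p ^ m := by
        rw [← hm, ← Subgroup.index_eq_card]
        exact Subgroup.index_dvd_of_le le_sup_left
      have h3 : Nat.Coprime (T : Subgroup H).index (p ^ m) :=
        Nat.Coprime.pow_right _ ((Nat.Prime.coprime_iff_not_dvd hp).2 T.not_dvd_index).symm
      have h4 : (Cfsg.pResidual p H ⊔ (T : Subgroup H)).index = 1 :=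
        Nat.eq_one_of_dvd_coprimes h3 h1 h2
      rw [Subgroup.index_eq_one] at h4
      have h5 : h ∈ ((Cfsg.pResidual p H ⊔ (T : Subgroup H) : Subgroup H) : Set H) := by
        rw [h4]; trivial
      rw [Subgroup.normal_mul] at h5
      obtain ⟨o, ho, t, ht, rfl⟩ := h5
      exact ⟨o, ho, t, ht, rfl⟩
    have hcent : ∀ t ∈ (T : Subgroup H), t * a = a * t := by
      intro t ht
      have := (Subgroup.mem_centralizer_iff.1 (hAle ha').2) t ht
      exact this
    obtain ⟨z, hz1, hz2⟩ := average_aux (M := V) (H := H)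
      (fun x y => Subtype.ext (by have := hV.1; exact setLike_mul_comm x.2 y.2))
      (MulAut.conjNormal) (T : Subgroup H) ⟨a, haV⟩
      (by
        intro t ht
        apply Subtype.ext
        simp only [MulAut.conjNormal_apply]
        rw [hcent t ht]; simp)
      hp.one_lt (fun v => Subtype.ext (hV.2 v v.2))
      ((Nat.Prime.coprime_iff_not_dvd hp).2 T.not_dvd_index).symm
      ((⁅V, Cfsg.pResidual p H⁆).subgroupOf V)
      (by
        intro h
        obtain ⟨o, ho, t, ht, rfl⟩ := hNT h
        rw [Subgroup.mem_subgroupOf]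
        have e : ((MulAut.conjNormal (o * t) (⟨a, haV⟩ : V) * (⟨a, haV⟩ : V)⁻¹ : V) : H) =
            ⁅a, o⁆⁻¹ := by
          simp only [MulAut.conjNormal_apply, commutatorElement_def, Subgroup.coe_mul,
            Subgroup.coe_inv]
          have h6 : o * t * a * (o * t)⁻¹ = o * a * o⁻¹ := by
            have := hcent t ht
            calc o * t * a * (o * t)⁻¹ = o * (t * a) * (o * t)⁻¹ := by group
              _ = o * (a * t) * (o * t)⁻¹ := by rw [this]
              _ = o * a * o⁻¹ := by group
          rw [h6]; group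
        rw [e]
        exact inv_mem (Subgroup.commutator_mem_commutator haV ho))
    have hzH : ∀ h : H, h * (z : H) * h⁻¹ = z := fun h => by
      have := congrArg Subtype.val (hz1 h)
      simpa [MulAut.conjNormal_apply] using this
    have hzA : (z : H) ∈ A := by
      apply Subgroup.subset_closure
      refine ⟨⟨hVT z.2, ?_⟩, hV.2 z z.2⟩
      refine Subgroup.mem_centralizer_iff.2 ?_
      intro t _
      have := hzH t
      rw [mul_inv_eq_iff_eq_mul] at this
      exact this
    have hu : a * (z : H)⁻¹ ∈ ⁅V, Cfsg.pResidual p H⁆ ⊓ A := by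
      refine Subgroup.mem_inf.2 ⟨?_, A.mul_mem ha' (A.inv_mem hzA)⟩
      have := Subgroup.mem_subgroupOf.1 hz2
      simpa using this
    have h1 := hg _ hu
    have h2 : g * (z : H) = z * g := by
      have := hzH g
      rw [mul_inv_eq_iff_eq_mul] at this
      exact this
    calc a * g = (a * (z : H)⁻¹ * g) * (g⁻¹ * z * g) := by group
      _ = (g * (a * (z : H)⁻¹)) * (g⁻¹ * z * g) := by rw [h1]
      _ = g * a * ((z : H)⁻¹ * (g⁻¹ * z * g)) := by group
      _ = g * a := by
        have : g⁻¹ * z * g = z := by rw [mul_assoc, ← h2]; group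
        rw [this]; group

end Cfsg.Agent.S2826
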