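import Cfsg.Statements.S2827
import Mathlib
import Cfsg.Agent.Lib.Basic.PCore
import Cfsg.Agent.Lib.Transfer.Basic

set_option autoImplicit false
open Cfsg

namespace Cfsg.Agent.S2827

open Subgroup
open Cfsg.Agent.Lib.Basic.PCore Cfsg.Agent.Lib.Transfer.Basic
open scoped commutatorElement

variable {H : Type*} [Group H] [Finite H] {p : ℕ} [hp : Fact p.Prime]

/-- A `p`-subgroup of a `p`-closed normal subgroup lies in `O_p`. -/
theorem le_pCore_of_isPClosed {W Y : Subgroup H} (hW : W.Normal) (hc : IsPClosed p W) (hYW : Y ≤ W)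
    (hY : IsPGroup p Y) : Y ≤ pCore p H := by
  obtain ⟨S⟩ : Nonempty (Sylow p W) := inferInstance
  have hSn : (S : Subgroup W).Normal := hc S
  haveI hSc : (S : Subgroup W).Characteristic := Sylow.characteristic_of_normal S hSn
  have hS' : ((S : Subgroup W).map W.subtype).Normal := map_subtype_normal_of_characteristic _
  have hS'p : IsPGroup p ((S : Subgroup W).map W.subtype) := S.isPGroup'.map W.subtype
  have hle : (S : Subgroup W).map W.subtype ≤ pCore p H := le_pCore hS' hS'p
  refine le_trans ?_ hle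
  haveI hss := Sylow.unique_of_normal S hSn
  have hY' : IsPGroup p (Y.comap W.subtype) := hY.comap_of_injective W.subtype W.subtype_injective
  obtain ⟨S', hS'le⟩ := hY'.exists_le_sylow
  rw [Subsingleton.elim S' S] at hS'le
  intro y hy
  exact ⟨⟨y, hYW hy⟩, hS'le hy, rfl⟩

/-- `H = O^p(H) T`. -/
theorem pResidual_sup_sylow (T : Sylow p H) : pResidual p H ⊔ (T : Subgroup H) = ⊤ := by
  have hq : IsPGroup p (H ⧸ pResidual p H) := isPGroup_quotient_pResidual
  obtain ⟨m, hm⟩ := IsPGroup.iff_card.1 hq
  have h1 : (pResidual p H ⊔ (T : Subgroup H)).index ∣ (T : Subgroup H).index :=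
    Subgroup.index_dvd_of_le le_sup_right
  have h2 : (pResidual p H ⊔ (T : Subgroup H)).index ∣ p ^ m := by
    rw [← hm, ← Subgroup.index_eq_card]
    exact Subgroup.index_dvd_of_le le_sup_left
  have h3 : Nat.Coprime (T : Subgroup H).index (p ^ m) :=
    Nat.Coprime.pow_right _ ((Nat.Prime.coprime_iff_not_dvd hp.out).2 T.not_dvd_index).symm
  have h4 : (pResidual p H ⊔ (T : Subgroup H)).index = 1 :=
    Nat.eq_one_of_dvd_coprimes h3 h1 h2
  rwa [Subgroup.index_eq_one] at h4

theorem le_normalizer_of_conj_mem {S A : Subgroup H} (h : ∀ s ∈ S, ∀ x ∈ A, s * x * s⁻¹ ∈ A) :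
    S ≤ normalizer (A : Set H) := by
  intro s hs
  rw [mem_normalizer_iff]
  intro x
  refine ⟨h s hs x, fun hx => ?_⟩
  have h1 := h s⁻¹ (inv_mem hs) _ hx
  have h2 : s⁻¹ * (s * x * s⁻¹) * s⁻¹⁻¹ = x := by group
  rwa [h2] at h1

/-- Let H be a finite p-irreducible group (not p-closed, and O^p(H) lies in every normal subgroup that is not p-closed) and T a Sylow p-subgroup. Then H is generated by the conjugates of T and H = H'·T; O^p(H) ≤ H'; and for every normal subgroup Y of T not contained in O_p(H), O^p(H) = [O^p(H), Y] and O^p(H) is contained in the normal closure of Y in H. -/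
theorem result {H : Type*} [Group H] [Finite H] {p : ℕ} [Fact p.Prime] (hH : Cfsg.IsPIrreducible p H) (T : Sylow p H) : Subgroup.normalClosure ((T : Subgroup H) : Set H) = ⊤ ∧ commutator H ⊔ (T : Subgroup H) = ⊤ ∧ Cfsg.pResidual p H ≤ commutator H ∧ ∀ Y : Subgroup H, Y ≤ (T : Subgroup H) → (T : Subgroup H) ≤ Subgroup.normalizer (Y : Set H) → ¬ Y ≤ Cfsg.pCore p H → ⁅Cfsg.pResidual p H, Y⁆ = Cfsg.pResidual p H ∧ Cfsg.pResidual p H ≤ Subgroup.normalClosure (Y : Set H) := by
  classical
  have hTp : IsPGroup p (T : Subgroup H) := T.isPGroup'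
  obtain ⟨hnc, hirr⟩ := hH
  have hRT := pResidual_sup_sylow T
  have hRn : (pResidual p H).Normal := closure_normal_of_conj_invariant (by
    intro x hx g
    show Nat.Coprime _ _
    rw [orderOf_conj_eq]
    exact hx)
  -- a normal subgroup containing `T` contains `R`
  have hnp : ∀ N : Subgroup H, N.Normal → (T : Subgroup H) ≤ N → ¬ IsPClosed p N := by
    intro N hN hTN hc
    apply hnc
    have hle := le_pCore_of_isPClosed hN hc hTN hTp
    have hT : pCore p H = (T : Subgroup H) :=
      T.is_maximal' (pCore_isPGroup p) hle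
    have hTn : (T : Subgroup H).Normal := hT ▸ pCore_normal p H
    haveI hss := Sylow.unique_of_normal T hTn
    intro P
    rw [Subsingleton.elim P T]
    exact hTn
  have hcl : normalClosure ((T : Subgroup H) : Set H) = ⊤ := by
    have hN : (normalClosure ((T : Subgroup H) : Set H)).Normal := normalClosure_normal
    have hTN : (T : Subgroup H) ≤ normalClosure ((T : Subgroup H) : Set H) := subset_normalClosure
    have h1 := hirr _ hN (hnp _ hN hTN)
    rw [eq_top_iff, ← hRT]
    exact sup_le h1 hTN
  have hcomm : commutator H ⊔ (T : Subgroup H) = ⊤ := by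
    have hN : (commutator H ⊔ (T : Subgroup H)).Normal := Subgroup.Normal.of_commutator_le H le_sup_left
    rw [eq_top_iff, ← hcl]
    exact normalClosure_le_normal (fun x hx => (le_sup_right : (T : Subgroup H) ≤ _) hx)
  have hres : pResidual p H ≤ commutator H := by
    apply pResidual_le_of_isPGroup_quotient
    let f : (T : Subgroup H) →* H ⧸ commutator H :=
      (QuotientGroup.mk' (commutator H)).comp (T : Subgroup H).subtype
    have hf : Function.Surjective f := by
      intro x
      obtain ⟨g, rfl⟩ := QuotientGroup.mk_surjective x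
      have hg : g ∈ commutator H ⊔ (T : Subgroup H) := by rw [hcomm]; trivial
      rw [mem_sup_of_normal_left] at hg
      obtain ⟨d, hd, t, ht, rfl⟩ := hg
      refine ⟨⟨t, ht⟩, ?_⟩
      show (QuotientGroup.mk t : H ⧸ commutator H) = QuotientGroup.mk (d * t)
      rw [QuotientGroup.mk_mul, (QuotientGroup.eq_one_iff d).mpr hd, one_mul]
    exact hTp.of_surjective f hf
  refine ⟨hcl, hcomm, hres, ?_⟩
  intro Y hYT hYN hYO
  have hYp : IsPGroup p Y := hTp.to_le hYT
  set R := pResidual p H with hR
  -- the normal closure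
  have hZ : R ≤ normalClosure (Y : Set H) := by
    have hN : (normalClosure (Y : Set H)).Normal := normalClosure_normal
    refine hirr _ hN (fun hc => hYO (le_pCore_of_isPClosed hN hc subset_normalClosure hYp))
  refine ⟨?_, hZ⟩
  -- `K = [R, Y]` is normal
  set K : Subgroup H := ⁅R, Y⁆ with hKdef
  have hKR : K ≤ R := commutator_le_left R Y
  have htop : ∀ A : Subgroup H, R ≤ normalizer (A : Set H) → (T : Subgroup H) ≤ normalizer (A : Set H) → A.Normal := by
    intro A h1 h2
    rw [← normalizer_eq_top_iff, eq_top_iff, ← hRT]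
    exact sup_le h1 h2
  have hKn : K.Normal := by
    apply htop
    · apply le_normalizer_of_conj_mem
      intro r hr x hx
      have hmap : K.map (MulAut.conj r).toMonoidHom ≤ K := by
        rw [hKdef, Subgroup.commutator_def, MonoidHom.map_closure, closure_le]
        rintro _ ⟨_, ⟨a, ha, y, hy, rfl⟩, rfl⟩
        have e : (MulAut.conj r).toMonoidHom ⁅a, y⁆ = ⁅r * a, y⁆ * ⁅r, y⁆⁻¹ := by
          simp only [commutatorElement_def, MulEquiv.toMonoidHom_eq_coe, MonoidHom.coe_coe, MulAut.conj_apply]
          group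
        rw [e]
        exact mul_mem (commutator_mem_commutator (mul_mem hr ha) hy)
          (inv_mem (commutator_mem_commutator hr hy))
      exact hmap ⟨x, hx, rfl⟩
    · intro t ht
      have h1 : Y.map (MulAut.conj t : H →* H) = Y := mem_normalizer_iff_map_conj_eq.mp (hYN ht)
      have h2 : R.map (MulAut.conj t : H →* H) = R :=
        mem_normalizer_iff_map_conj_eq.mp ((normalizer_eq_top_iff.mpr hRn) ▸ mem_top t)
      rw [mem_normalizer_iff_map_conj_eq, hKdef, map_commutator, h1, h2]
  -- `W = K Y` is normal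
  set W : Subgroup H := K ⊔ Y with hWdef
  have hWn : W.Normal := by
    apply htop
    · apply le_normalizer_of_conj_mem
      intro r hr x hx
      have hmap : W.map (MulAut.conj r).toMonoidHom ≤ W := by
        rw [hWdef, Subgroup.map_sup]
        apply sup_le
        · rintro _ ⟨k, hk, rfl⟩
          exact mem_sup_left (hKn.conj_mem k hk r)
        · rintro _ ⟨y, hy, rfl⟩
          have e : (MulAut.conj r).toMonoidHom y = ⁅r, y⁆ * y := by
            simp only [commutatorElement_def, MulEquiv.toMonoidHom_eq_coe, MonoidHom.coe_coe, MulAut.conj_apply]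
            group
          rw [e]
          exact mul_mem (mem_sup_left (commutator_mem_commutator hr hy)) (mem_sup_right hy)
      exact hmap ⟨x, hx, rfl⟩
    · intro t ht
      have h1 : Y.map (MulAut.conj t : H →* H) = Y := mem_normalizer_iff_map_conj_eq.mp (hYN ht)
      have h2 : K.map (MulAut.conj t : H →* H) = K :=
        mem_normalizer_iff_map_conj_eq.mp ((normalizer_eq_top_iff.mpr hKn) ▸ mem_top t)
      rw [mem_normalizer_iff_map_conj_eq, hWdef, Subgroup.map_sup, h1, h2]
  have hRW : R ≤ W := hirr _ hWn (fun hc => hYO (le_pCore_of_isPClosed hWn hc le_sup_right hYp))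
  apply le_antisymm hKR
  rw [hR, pResidual, closure_le]
  intro g hg
  have hg' : g ∈ W := hRW (subset_closure hg)
  rw [hWdef, mem_sup_of_normal_left] at hg'
  obtain ⟨k, hk, y, hy, hgdef⟩ := hg'
  have h1 : (QuotientGroup.mk g : H ⧸ K) = QuotientGroup.mk y := by
    rw [← hgdef, QuotientGroup.mk_mul, (QuotientGroup.eq_one_iff k).mpr hk, one_mul]
  obtain ⟨e, he⟩ := IsPGroup.iff_orderOf.mp hYp ⟨y, hy⟩
  have hy1 : y ^ p ^ e = 1 := by
    have := pow_orderOf_eq_one (⟨y, hy⟩ : Y)
    rw [he] at this
    exact congrArg Subtype.val this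
  have h2 : orderOf (QuotientGroup.mk g : H ⧸ K) ∣ p ^ e := by
    apply orderOf_dvd_of_pow_eq_one
    rw [h1, ← QuotientGroup.mk_pow, hy1, QuotientGroup.mk_one]
  have h3 : orderOf (QuotientGroup.mk g : H ⧸ K) ∣ orderOf g := by
    apply orderOf_dvd_of_pow_eq_one
    rw [← QuotientGroup.mk_pow, pow_orderOf_eq_one, QuotientGroup.mk_one]
  have h4 : Nat.Coprime (orderOf g) (p ^ e) := Nat.Coprime.pow_right _ hg
  have h5 := Nat.eq_one_of_dvd_coprimes h4 h3 h2
  rw [orderOf_eq_one_iff, QuotientGroup.eq_one_iff] at h5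
  exact h5

end Cfsg.Agent.S2827
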