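import Cfsg.Statements.S2828
import Mathlib
import Cfsg.Agent.Lib.Basic.PCore
import Cfsg.Agent.Lib.LocalY.PClosed
import Cfsg.Agent.S2820
-- import your own Cfsg.Agent.* helpers here

set_option autoImplicit false
open Cfsg

namespace Cfsg.Agent.S2828

open Subgroup in
/-- `p`-closedness for a subgroup and its image. -/
theorem closed_map_iff {H : Type*} [Group H] [Finite H] {p : ℕ} [Fact p.Prime] (D : Subgroup H) [D.Normal]
    (hD : IsPGroup p ↥D) (N : Subgroup H) :
    IsPClosed p ↥N ↔ IsPClosed p ↥(N.map (QuotientGroup.mk' D)) := by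
  apply Cfsg.Agent.Lib.LocalY.PClosed.isPClosed_iff_of_surjective
    (f := (QuotientGroup.mk' D).subgroupMap N)
  · exact MonoidHom.subgroupMap_surjective _ _
  · rintro ⟨⟨x, hxN⟩, hx⟩
    have h1 : (QuotientGroup.mk' D) x = 1 := congrArg Subtype.val (MonoidHom.mem_ker.mp hx)
    have h2 : x ∈ D := (QuotientGroup.eq_one_iff x).mp h1
    obtain ⟨k, hk⟩ := hD ⟨x, h2⟩
    refine ⟨k, ?_⟩
    have hk' : x ^ p ^ k = 1 := by
      have h3 := congrArg Subtype.val hk
      simpa using h3
    apply Subtype.ext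
    apply Subtype.ext
    simpa using hk'


/-- Let H be a finite group, p a prime and D a normal p-subgroup of H. Then H is p-irreducible if and only if H/D is p-irreducible, and H is strongly p-irreducible if and only if H/D is strongly p-irreducible. -/
theorem result {H : Type*} [Group H] [Finite H] {p : ℕ} [Fact p.Prime] (D : Subgroup H) [D.Normal] (hD : IsPGroup p ↥D) : (Cfsg.IsPIrreducible p H ↔ Cfsg.IsPIrreducible p (H ⧸ D)) ∧ (Cfsg.IsStronglyPIrreducible p H ↔ Cfsg.IsStronglyPIrreducible p (H ⧸ D)) := by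
  have hDn : D.Normal := inferInstance
  set π : H →* H ⧸ D := QuotientGroup.mk' D with hπdef
  have hπ : Function.Surjective π := QuotientGroup.mk'_surjective D
  have hker : IsPGroup p π.ker := by
    rw [hπdef, QuotientGroup.ker_mk']
    exact hD
  have hcl : IsPClosed p H ↔ IsPClosed p (H ⧸ D) :=
    Cfsg.Agent.Lib.LocalY.PClosed.isPClosed_iff_of_surjective hπ hker
  have hOp : (pResidual p H).map π = pResidual p (H ⧸ D) :=
    Cfsg.Agent.Lib.LocalY.PClosed.map_pResidual_of_surjective hπ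
  have hres : ∀ N : Subgroup H, N.Normal → pResidual p (H ⧸ D) ≤ N.map π → pResidual p H ≤ N := by
    intro N hN hle
    rw [pResidual, Subgroup.closure_le]
    intro x hx
    have h1 : π x ∈ N.map π := hle (hOp ▸ ⟨x, Subgroup.subset_closure hx, rfl⟩)
    obtain ⟨n, hn, hnx⟩ := h1
    have h2 : n⁻¹ * x ∈ D := by
      rw [← QuotientGroup.eq_one_iff (n⁻¹ * x)]
      show π (n⁻¹ * x) = 1
      rw [map_mul, map_inv, ← hnx]
      simp
    have h3 : x ∈ N ⊔ D := by
      have h4 : x = n * (n⁻¹ * x) := by group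
      rw [h4]
      exact Subgroup.mul_mem _ (Subgroup.mem_sup_left hn) (Subgroup.mem_sup_right h2)
    exact Cfsg.Agent.S2820.mem_of_coprime_sup hDn hD hN.isSubnormal x h3 hx
  have hcomap : ∀ N : Subgroup (H ⧸ D), (N.comap π).map π = N := fun N =>
    Subgroup.map_comap_eq_self_of_surjective hπ N
  refine ⟨⟨?_, ?_⟩, ⟨?_, ?_⟩⟩
  · rintro ⟨h1, h2⟩
    refine ⟨fun h => h1 (hcl.mpr h), fun N hN hNc => ?_⟩
    have h3 : ¬ IsPClosed p ↥(N.comap π) := by
      intro h
      apply hNc
      have h4 := (closed_map_iff D hD (N.comap π)).mp h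
      rwa [hcomap] at h4
    have h5 := h2 _ (hN.comap π) h3
    rw [← hOp, ← hcomap N]
    exact Subgroup.map_mono h5
  · rintro ⟨h1, h2⟩
    refine ⟨fun h => h1 (hcl.mp h), fun N hN hNc => ?_⟩
    apply hres N hN
    apply h2 _ (hN.map π hπ)
    intro h
    exact hNc ((closed_map_iff D hD N).mpr h)
  · rintro ⟨h1, h2⟩
    refine ⟨fun h => h1 (hcl.mpr h), fun N hN hNc => ?_⟩
    have h3 : ¬ ⁅N.comap π, (⊤ : Subgroup H)⁆ ≤ pCore p H := by
      intro h
      apply hNc
      have h4 := Subgroup.map_mono (f := π) h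
      rw [Subgroup.map_commutator, hcomap, Subgroup.map_top_of_surjective π hπ] at h4
      exact h4.trans (Cfsg.Agent.Lib.Basic.PCore.map_pCore_le_of_surjective hπ)
    have h5 := h2 _ (hN.comap π) h3
    rw [← hOp, ← hcomap N]
    exact Subgroup.map_mono h5
  · rintro ⟨h1, h2⟩
    refine ⟨fun h => h1 (hcl.mp h), fun N hN hNc => ?_⟩
    apply hres N hN
    apply h2 _ (hN.map π hπ)
    intro h
    apply hNc
    have hOn : (pCore p (H ⧸ D)).Normal := Cfsg.Agent.Lib.Basic.PCore.pCore_normal p _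
    have hOpp : IsPGroup p (pCore p (H ⧸ D)) := Cfsg.Agent.Lib.Basic.PCore.pCore_isPGroup p
    have h6 : (pCore p (H ⧸ D)).comap π ≤ pCore p H :=
      Cfsg.Agent.Lib.Basic.PCore.le_pCore (hOn.comap π) (hOpp.comap_of_ker_isPGroup π hker)
    refine le_trans ?_ h6
    rw [← Subgroup.map_le_iff_le_comap, Subgroup.map_commutator,
      Subgroup.map_top_of_surjective π hπ]
    exact h

end Cfsg.Agent.S2828
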