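import Cfsg.Statements.S2829
import Cfsg.Agent.Lib.Basic.PCore
import Mathlib

set_option autoImplicit false
open Cfsg

namespace Cfsg.Agent.S2829

open scoped commutatorElement in
/-- Strongly p-irreducible ⇒ p-irreducible. -/
theorem result {H : Type*} [Group H] [Finite H] {p : ℕ} [Fact p.Prime] (hH : Cfsg.IsStronglyPIrreducible p H) : Cfsg.IsPIrreducible p H := by
  refine ⟨hH.1, fun N hN hnp => hH.2 N hN (fun hle => hnp ?_)⟩
  intro P
  -- the `p`-core of `H` meets `N` in a normal `p`-subgroup of `N`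
  have hcore := Cfsg.Agent.Lib.Basic.PCore.pCore_normal p H
  have hRn : ((Cfsg.pCore p H).subgroupOf N).Normal := inferInstance
  have hRp : IsPGroup p ↥((Cfsg.pCore p H).subgroupOf N) :=
    (Cfsg.Agent.Lib.Basic.PCore.pCore_isPGroup (G := H) p).comap_of_injective N.subtype N.subtype_injective
  have hRle : (Cfsg.pCore p H).subgroupOf N ≤ (P : Subgroup N) := hRp.le_sylow_of_normal P
  refine ⟨fun g hg x => ?_⟩
  have hcomm : ⁅x, g⁆ ∈ (Cfsg.pCore p H).subgroupOf N := by
    rw [Subgroup.mem_subgroupOf]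
    apply hle
    exact Subgroup.commutator_mem_commutator x.2 (Subgroup.mem_top (g : H))
  have hmem := (P : Subgroup N).mul_mem (hRle hcomm) hg
  have : ⁅x, g⁆ * g = x * g * x⁻¹ := by
    rw [commutatorElement_def]; group
  rwa [this] at hmem

end Cfsg.Agent.S2829
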