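import Cfsg.Statements.S2830
import Mathlib
import Cfsg.Agent.Lib.Fusion.Focal
import Cfsg.Agent.Lib.Basic.PCore
import Cfsg.Agent.Lib.Transfer.Basic
-- import your own Cfsg.Agent.* helpers here

set_option autoImplicit false
open Cfsg

namespace Cfsg.Agent.S2830

open Cfsg Cfsg.Agent.Lib.Basic.PCore in
theorem aux_le {H : Type*} [Group H] [Finite H] {p : ℕ} [Fact p.Prime] (K : Subgroup H)
    [hK : K.Normal] (hc : IsPClosed p K) (T : Subgroup H) (hTK : T ≤ K) (hT : IsPGroup p T) :
    T ≤ pCore p H := by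
  have hT' : IsPGroup p (T.subgroupOf K) := hT.comap_of_injective K.subtype K.subtype_injective
  obtain ⟨P, hP⟩ := hT'.exists_le_sylow
  have hPn : (P : Subgroup K).Normal := hc P
  have hPc : (P : Subgroup K) ≤ pCore p K := le_pCore hPn P.2
  have hRn : ((pCore p K).map K.subtype).Normal :=
    map_subtype_normal_of_characteristic (pCore p K) (hK := pCore_char p K)
  have hRp : IsPGroup p ((pCore p K).map K.subtype) := (pCore_isPGroup p).map _
  have hR : (pCore p K).map K.subtype ≤ pCore p H := le_pCore hRn hRp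
  intro x hx
  apply hR
  exact ⟨⟨x, hTK hx⟩, hPc (hP hx), rfl⟩

theorem aux_closed_equiv {X Y : Type*} [Group X] [Group Y] [Finite X] [Finite Y] {p : ℕ}
    [Fact p.Prime] (e : X ≃* Y) (h : IsPClosed p X) : IsPClosed p Y := by
  intro P
  have h1 := h (P.mapSurjective (f := e.symm.toMonoidHom) e.symm.surjective)
  have h2 : (P : Subgroup Y) = ((P : Subgroup Y).map e.symm.toMonoidHom).comap e.symm.toMonoidHom :=
    (Subgroup.comap_map_eq_self_of_injective e.symm.injective _).symm
  rw [h2]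
  exact Subgroup.Normal.comap h1 _


/-- Let H act by conjugation on the elementary abelian p-subgroup V of a finite group G (H ≤ N(V)), with H p-irreducible and O^p(H) not centralizing V. Then C_H(V) is p-closed and C_T(V) ≤ O_p(H) for every p-subgroup T of H. If in addition O_p(H) centralizes V, then C_T(V) = T ∩ O_p(H) for every p-subgroup T of H, and V is p-reduced for H: O_p(H/C_H(V)) = 1. -/
theorem result {G : Type*} [Group G] [Finite G] {p : ℕ} [Fact p.Prime] (V H : Subgroup G) (hV : Cfsg.IsElementaryAbelian p V) (hHV : H ≤ Subgroup.normalizer (V : Set G)) (hH : Cfsg.IsPIrreducible p ↥H) (hnc : ¬ (Cfsg.pResidual p ↥H).map H.subtype ≤ Subgroup.centralizer (V : Set G)) [hn : ((Subgroup.centralizer (V : Set G)).subgroupOf H).Normal] : Cfsg.IsPClosed p ↥(H ⊓ Subgroup.centralizer (V : Set G)) ∧ (∀ T : Subgroup G, T ≤ H → IsPGroup p ↥T → T ⊓ Subgroup.centralizer (V : Set G) ≤ Cfsg.pCoreOf p H) ∧ (Cfsg.pCoreOf p H ≤ Subgroup.centralizer (V : Set G) → (∀ T : Subgroup G, T ≤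 H → IsPGroup p ↥T → T ⊓ Subgroup.centralizer (V : Set G) = T ⊓ Cfsg.pCoreOf p H) ∧ Cfsg.pCore p (↥H ⧸ (Subgroup.centralizer (V : Set G)).subgroupOf H) = ⊥) := by
  classical
  set C := Subgroup.centralizer (V : Set G) with hCdef
  set N : Subgroup H := C.subgroupOf H with hNdef
  have hNmem : ∀ x : H, x ∈ N ↔ (x : G) ∈ C := fun x => Subgroup.mem_subgroupOf
  have hres : ¬ pResidual p H ≤ N := by
    intro hle
    apply hnc
    rintro _ ⟨x, hx, rfl⟩
    exact (hNmem x).1 (hle hx)
  have hclosed : IsPClosed p N := by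
    by_contra hcon
    exact hres (hH.2 N hn hcon)
  let e : N ≃* ↥(H ⊓ C) :=
    { toFun := fun x => ⟨x.1.1, x.1.2, x.2⟩
      invFun := fun y => ⟨⟨y.1, y.2.1⟩, y.2.2⟩
      left_inv := fun _ => rfl
      right_inv := fun _ => rfl
      map_mul' := fun _ _ => rfl }
  have hpart2 : ∀ T : Subgroup G, T ≤ H → IsPGroup p ↥T → T ⊓ C ≤ Cfsg.pCoreOf p H := by
    intro T hTH hT
    have h1 : IsPGroup p ((T ⊓ C).subgroupOf H) :=
      (hT.to_le inf_le_left).comap_of_injective H.subtype H.subtype_injective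
    have h2 : (T ⊓ C).subgroupOf H ≤ N := by
      intro x hx
      exact (hNmem x).2 ((Subgroup.mem_subgroupOf.1 hx).2)
    have h3 := aux_le N hclosed _ h2 h1
    intro x hx
    exact ⟨⟨x, hTH hx.1⟩, h3 (Subgroup.mem_subgroupOf.2 hx), rfl⟩
  refine ⟨aux_closed_equiv e hclosed, hpart2, fun hle => ⟨?_, ?_⟩⟩
  · intro T hTH hT
    refine le_antisymm (le_inf inf_le_left (hpart2 T hTH hT)) (le_inf inf_le_left (inf_le_right.trans hle))
  · -- `O_p(H / C_H(V)) = 1`
    let K : Subgroup H := (pCore p (H ⧸ N)).comap (QuotientGroup.mk' N)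
    have hKn : K.Normal := Subgroup.Normal.comap inferInstance _
    let f : K →* ↥(pCore p (H ⧸ N)) :=
      ((QuotientGroup.mk' N).comp K.subtype).codRestrict _ (fun x => x.2)
    have hf : ∀ x : K, f x = 1 → (x : H) ∈ N := by
      intro x hx
      have h1 : ((QuotientGroup.mk' N) (x : H)) = 1 := congrArg Subtype.val hx
      exact (QuotientGroup.eq_one_iff _).1 h1
    have hQ : IsPGroup p ↥(pCore p (H ⧸ N)) := Cfsg.Agent.Lib.Basic.PCore.pCore_isPGroup p
    have hKclosed : IsPClosed p K := by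
      by_contra hcon
      apply hres
      have h1 := hH.2 K hKn hcon
      rw [pResidual, Subgroup.closure_le]
      intro g hg
      have hgK : g ∈ K := h1 (Subgroup.subset_closure hg)
      have h2 : Nat.Coprime (orderOf (⟨g, hgK⟩ : K)) p := by
        rw [Subgroup.orderOf_mk]
        exact hg
      exact hf _ (Cfsg.Agent.Lib.Transfer.Basic.map_eq_one_of_coprime hQ f h2)
    have hKN : K ≤ N := by
      intro x hx
      obtain ⟨P⟩ : Nonempty (Sylow p K) := inferInstance
      obtain ⟨τ, hτ, r, hr, he⟩ := Cfsg.Agent.Lib.Fusion.Focal.exists_sylow_mul_residual P ⟨x, hx⟩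
      have hr1 : (r : H) ∈ N :=
        hf r (Cfsg.Agent.Lib.Transfer.Basic.pResidual_le_ker hQ f hr)
      have hPle : (P : Subgroup K).map K.subtype ≤ pCore p H :=
        aux_le K hKclosed _ (by rintro _ ⟨y, _, rfl⟩; exact y.2) (P.2.map _)
      have hτ1 : (τ : H) ∈ N := by
        have h3 : (τ : H) ∈ pCore p H := hPle ⟨τ, hτ, rfl⟩
        have h4 : ((τ : H) : G) ∈ C := hle ⟨(τ : H), h3, rfl⟩
        exact (hNmem _).2 h4
      have he' : x = (τ : H) * (r : H) := congrArg Subtype.val he
      rw [he']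
      exact mul_mem hτ1 hr1
    rw [Subgroup.eq_bot_iff_forall]
    intro q hq
    obtain ⟨x, rfl⟩ := QuotientGroup.mk_surjective q
    exact (QuotientGroup.eq_one_iff _).2 (hKN hq)

end Cfsg.Agent.S2830
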