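import Cfsg.Statements.S2831
import Cfsg.Agent.Lib.Basic.SylowUtil
import Mathlib

set_option autoImplicit false
open Cfsg

namespace Cfsg.Agent.S2831

open Cfsg.Agent.Lib.Basic.SylowUtil in
/-- A p-minimal group (in the T-minimal sense) is p-irreducible. -/
theorem result {H : Type*} [Group H] [Finite H] {p : ℕ} [Fact p.Prime] (T : Sylow p H) (hmin : Cfsg.IsMinimalOver (T : Subgroup H)) : Cfsg.IsPIrreducible p H := by
  obtain ⟨hncl, M, ⟨hMc, hTM⟩, huniq⟩ := hmin
  -- a proper subgroup containing `T` lies in `M`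
  have hleM : ∀ X : Subgroup H, X ≠ ⊤ → (T : Subgroup H) ≤ X → X ≤ M := by
    intro X hX hTX
    obtain ⟨M', hM', hXM'⟩ := (eq_top_or_exists_le_coatom X).resolve_left hX
    have := huniq M' ⟨hM', hTX.trans hXM'⟩
    exact this ▸ hXM'
  refine ⟨?_, ?_⟩
  · intro hcl
    have hn := hcl T
    rw [Subgroup.normalClosure_eq_self] at hncl
    exact hMc.1 (top_le_iff.mp (hncl ▸ hTM))
  · intro N hN hnp
    obtain ⟨Q, hQ⟩ := exists_sylow_inf_normal T N
    -- R = T ⊓ N is not normal
    have hX : Subgroup.normalizer (((Q : Subgroup N).map N.subtype : Subgroup H) : Set H) ≠ ⊤ := by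
      intro htop
      apply hnp
      have hQn : (Q : Subgroup N).Normal := by
        refine ⟨fun x hx g => ?_⟩
        have h1 : (g : H) ∈ Subgroup.normalizer (((Q : Subgroup N).map N.subtype : Subgroup H) : Set H) := by
          rw [htop]; trivial
        have h2 : (x : H) ∈ (Q : Subgroup N).map N.subtype := ⟨x, hx, rfl⟩
        have h3 := (Subgroup.mem_normalizer_iff.mp h1 x).mp h2
        obtain ⟨y, hy, hyx⟩ := h3
        have : y = g * x * g⁻¹ := Subtype.ext (by simpa using hyx)
        rwa [← this]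
      intro P
      obtain ⟨g, rfl⟩ := MulAction.exists_smul_eq N Q P
      rw [Sylow.smul_eq_of_normal]
      exact hQn
    have hTX : (T : Subgroup H) ≤ Subgroup.normalizer (((Q : Subgroup N).map N.subtype : Subgroup H) : Set H) := by
      intro t ht
      rw [Subgroup.mem_normalizer_iff]
      intro y
      rw [hQ]
      constructor
      · rintro ⟨hy1, hy2⟩
        exact ⟨(T : Subgroup H).mul_mem ((T : Subgroup H).mul_mem ht hy1) ((T : Subgroup H).inv_mem ht),
          hN.conj_mem y hy2 t⟩
      · rintro ⟨hy1, hy2⟩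
        have e : t⁻¹ * (t * y * t⁻¹) * t = y := by group
        refine ⟨?_, ?_⟩
        · have := (T : Subgroup H).mul_mem ((T : Subgroup H).mul_mem ((T : Subgroup H).inv_mem ht) hy1) ht
          rwa [e] at this
        · have := hN.conj_mem _ hy2 t⁻¹
          rw [inv_inv] at this
          rwa [e] at this
    have hXM := hleM _ hX hTX
    -- T ⊔ N = ⊤
    have hsup : (T : Subgroup H) ⊔ N = ⊤ := by
      by_contra hne
      have h1 := hleM _ hne le_sup_left
      have hNM : N ≤ M := le_sup_right.trans h1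
      apply hMc.1
      rw [eq_top_iff]
      intro g _
      obtain ⟨n, hn, h, hh, rfl⟩ := frattini_argument' Q g
      exact M.mul_mem (hNM hn) (hXM hh)
    rw [Cfsg.pResidual, Subgroup.closure_le]
    intro g hg
    rw [SetLike.mem_coe] at *
    have hgmem : g ∈ (T : Subgroup H) ⊔ N := by rw [hsup]; trivial
    obtain ⟨t, ht, n, hn, hgt⟩ := Subgroup.mem_sup_of_normal_right.mp hgmem
    obtain ⟨k, hk⟩ := orderOf_eq_pow_of_mem T ht
    have hmk : ((g : H) : H ⧸ N) = ((t : H) : H ⧸ N) := by
      rw [QuotientGroup.eq, ← hgt]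
      have : (t * n)⁻¹ * t = n⁻¹ := by group
      rw [this]
      exact N.inv_mem hn
    have h1 : orderOf ((g : H) : H ⧸ N) ∣ p ^ k := by
      rw [hmk, ← hk]
      exact orderOf_map_dvd (QuotientGroup.mk' N) t
    have h2 : orderOf ((g : H) : H ⧸ N) ∣ orderOf g := orderOf_map_dvd (QuotientGroup.mk' N) g
    have hco : Nat.Coprime (orderOf g) (p ^ k) := Nat.Coprime.pow_right k hg
    have h3 : orderOf ((g : H) : H ⧸ N) = 1 := Nat.Coprime.eq_one_of_dvd
      (Nat.Coprime.coprime_dvd_left h2 hco) h1
    rw [orderOf_eq_one_iff] at h3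
    exact (QuotientGroup.eq_one_iff g).mp h3

end Cfsg.Agent.S2831
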