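import Cfsg.Statements.S2832
import Mathlib

set_option autoImplicit false
open Cfsg

namespace Cfsg.Agent.S2832

/-- Let H be a finite group with Sylow p-subgroup T such that H is T-minimal (generated by the conjugates of T, with T in exactly one maximal subgroup), and let N be a normal subgroup of H. Then either H/N is a p-group or H/N is minimal over the image of T in the same sense. -/
theorem result {H : Type*} [Group H] [Finite H] {p : ℕ} [Fact p.Prime] (T : Sylow p H) (hmin : Cfsg.IsMinimalOver (T : Subgroup H)) (N : Subgroup H) [N.Normal] : IsPGroup p (H ⧸ N) ∨ Cfsg.IsMinimalOver ((T : Subgroup H).map (QuotientGroup.mk' N)) := by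
  set π := QuotientGroup.mk' N with hπ
  have hsurj : Function.Surjective π := QuotientGroup.mk'_surjective N
  obtain ⟨hcl, M, ⟨hMc, hTM⟩, huniq⟩ := hmin
  by_cases htop : (T : Subgroup H).map π = ⊤
  · left
    intro g
    have hg : g ∈ (T : Subgroup H).map π := by rw [htop]; trivial
    obtain ⟨k, hk⟩ := (T.isPGroup'.map π) ⟨g, hg⟩
    exact ⟨k, by simpa using congrArg Subtype.val hk⟩
  · right
    have hcoatom : ∀ C : Subgroup (H ⧸ N), IsCoatom C → IsCoatom (C.comap π) := by
      intro C hC
      refine ⟨?_, ?_⟩
      · intro h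
        apply hC.1
        rw [← Subgroup.map_comap_eq_self_of_surjective hsurj C, h, ← MonoidHom.range_eq_map]
        exact MonoidHom.range_eq_top.mpr hsurj
      · intro L hL
        have hker : π.ker ≤ L := (Subgroup.ker_le_comap π C).trans hL.le
        have hm : C < L.map π := by
          rw [SetLike.lt_iff_le_and_exists]
          obtain ⟨x, hxL, hxC⟩ := SetLike.exists_of_lt hL
          refine ⟨?_, π x, ⟨x, hxL, rfl⟩, hxC⟩
          intro c hc
          obtain ⟨y, rfl⟩ := hsurj c
          exact ⟨y, hL.le hc, rfl⟩
        have h2 := hC.2 _ hm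
        have h4 : (L.map π).comap π = L := by
          rw [Subgroup.comap_map_eq, sup_eq_left.mpr hker]
        rw [← h4, h2, Subgroup.comap_top]
    refine ⟨?_, ?_⟩
    · -- normal closure
      have hle : Subgroup.normalClosure (((T : Subgroup H) : Set H)) ≤
          (Subgroup.normalClosure (((T : Subgroup H).map π : Subgroup (H ⧸ N)) : Set (H ⧸ N))).comap π := by
        apply Subgroup.normalClosure_le_normal
        intro t ht
        exact Subgroup.subset_normalClosure ⟨t, ht, rfl⟩
      rw [hcl] at hle
      rw [eq_top_iff]
      intro x _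
      obtain ⟨y, rfl⟩ := hsurj x
      exact hle (Subgroup.mem_top y)
    · obtain ⟨C, hC, hTC⟩ := (eq_top_or_exists_le_coatom ((T : Subgroup H).map π)).resolve_left htop
      refine ⟨C, ⟨hC, hTC⟩, ?_⟩
      have hTc : ∀ D : Subgroup (H ⧸ N), IsCoatom D → (T : Subgroup H).map π ≤ D → D.comap π = M := by
        intro D hD hTD
        apply huniq
        exact ⟨hcoatom D hD, Subgroup.map_le_iff_le_comap.mp hTD⟩
      rintro D ⟨hD, hTD⟩
      have h1 := hTc D hD hTD
      have h2 := hTc C hC hTC
      rw [← Subgroup.map_comap_eq_self_of_surjective hsurj D,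
        ← Subgroup.map_comap_eq_self_of_surjective hsurj C, h1, h2]

end Cfsg.Agent.S2832
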