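import Cfsg.Statements.S2833
import Mathlib
import Cfsg.Agent.Lib.Basic.Conj
-- import your own Cfsg.Agent.* helpers here

set_option autoImplicit false
open Cfsg

namespace Cfsg.Agent.S2833

open Cfsg.Agent.Lib.Basic.Conj
open scoped Pointwise

section aux

variable {G : Type*} [Group G]

/-- Elements of a join `A ⊔ B` with `B` normalizing `A` are products. -/
theorem exists_mul_of_mem_sup {A B : Subgroup G} (hB : B ≤ Subgroup.normalizer (A : Set G))
    {w : G} (hw : w ∈ A ⊔ B) : ∃ a ∈ A, ∃ b ∈ B, w = a * b := by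
  rw [Subgroup.sup_eq_closure] at hw
  induction hw using Subgroup.closure_induction with
  | mem x hx =>
    rcases hx with hx | hx
    · exact ⟨x, hx, 1, B.one_mem, by group⟩
    · exact ⟨1, A.one_mem, x, hx, by group⟩
  | one => exact ⟨1, A.one_mem, 1, B.one_mem, by group⟩
  | mul x y _ _ ihx ihy =>
    obtain ⟨a₁, ha₁, b₁, hb₁, rfl⟩ := ihx
    obtain ⟨a₂, ha₂, b₂, hb₂, rfl⟩ := ihy
    refine ⟨a₁ * (b₁ * a₂ * b₁⁻¹), A.mul_mem ha₁ ((Subgroup.mem_normalizer_iff.mp (hB hb₁) a₂).mp ha₂),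
      b₁ * b₂, B.mul_mem hb₁ hb₂, by group⟩
  | inv x _ ih =>
    obtain ⟨a, ha, b, hb, rfl⟩ := ih
    refine ⟨b⁻¹ * a⁻¹ * b, ?_, b⁻¹, B.inv_mem hb, by group⟩
    have h := (Subgroup.mem_normalizer_iff.mp (hB (B.inv_mem hb)) a⁻¹).mp (A.inv_mem ha)
    simpa using h

end aux

/-- Let V be a subgroup of a finite group G normalized by the subgroup L, let X ≤ L and g ∈ L with [V, X, X] = 1 and L generated by X and gXg⁻¹. Put W = [V, L]. Then W = [V, X]·[V, gXg⁻¹], C_W(X) = [V, X], and C_W(L) = [V, X] ∩ [V, gXg⁻¹]. -/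
theorem result {G : Type*} [Group G] [Finite G] (V L : Subgroup G) (hLV : L ≤ Subgroup.normalizer (V : Set G)) (X : Subgroup G) (hX : X ≤ L) (g : G) (hg : g ∈ L) (hq : ⁅⁅V, X⁆, X⁆ = ⊥) (hgen : X ⊔ X.map (MulAut.conj g).toMonoidHom = L) (W : Subgroup G) (hW : W = ⁅V, L⁆) : ⁅V, X⁆ ⊔ ⁅V, X.map (MulAut.conj g).toMonoidHom⁆ = W ∧ W ⊓ Subgroup.centralizer (X : Set G) = ⁅V, X⁆ ∧ W ⊓ Subgroup.centralizer (L : Set G) = ⁅V, X⁆ ⊓ ⁅V, X.map (MulAut.conj g).toMonoidHom⁆ := by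
  classical
  subst hW
  set Y := X.map (MulAut.conj g).toMonoidHom with hY
  have hXL : X ≤ L := hX
  have hYL : Y ≤ L := hgen ▸ le_sup_right
  have hgN : g ∈ Subgroup.normalizer (V : Set G) := hLV hg
  have hcm : ∀ v ∈ V, ∀ x ∈ X, v * x * v⁻¹ * x⁻¹ ∈ ⁅V, X⁆ :=
    fun v hv x hx => Subgroup.commutator_mem_commutator hv hx
  have hcm' : ∀ v ∈ V, ∀ y ∈ Y, v * y * v⁻¹ * y⁻¹ ∈ ⁅V, Y⁆ :=
    fun v hv x hx => Subgroup.commutator_mem_commutator hv hx
  -- conjugate of `A` by `g` is `B`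
  have hVg : V.map (MulAut.conj g).toMonoidHom = V := conj_smul_eq_self_iff.mpr hgN
  have hAB : (⁅V, X⁆ : Subgroup G).map (MulAut.conj g).toMonoidHom = ⁅V, Y⁆ := by
    rw [Subgroup.map_commutator, hVg]
  -- commutators stay in `V`
  have hcV : ∀ (K : Subgroup G), K ≤ L → ⁅V, K⁆ ≤ V := by
    intro K hK
    rw [Subgroup.commutator_le]
    intro v hv k hk
    have h1 : k * v⁻¹ * k⁻¹ ∈ V :=
      (Subgroup.mem_normalizer_iff.mp (hLV (hK hk)) v⁻¹).mp (V.inv_mem hv)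
    have h2 : v * k * v⁻¹ * k⁻¹ = v * (k * v⁻¹ * k⁻¹) := by group
    show v * k * v⁻¹ * k⁻¹ ∈ V
    rw [h2]
    exact V.mul_mem hv h1
  have hAV := hcV X hXL
  have hBV := hcV Y hYL
  -- `A ≤ C(X)`
  have hAC : (⁅V, X⁆ : Subgroup G) ≤ Subgroup.centralizer (X : Set G) :=
    Subgroup.commutator_eq_bot_iff_le_centralizer.mp hq
  -- `B ≤ C(Y)`
  have hBC : (⁅V, Y⁆ : Subgroup G) ≤ Subgroup.centralizer (Y : Set G) := by
    rw [← hAB]
    rintro _ ⟨a, ha, rfl⟩
    rw [Subgroup.mem_centralizer_iff]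
    rintro _ ⟨x, hx, rfl⟩
    have h1 := Subgroup.mem_centralizer_iff.mp (hAC ha) x hx
    show (g * x * g⁻¹) * (g * a * g⁻¹) = (g * a * g⁻¹) * (g * x * g⁻¹)
    calc (g * x * g⁻¹) * (g * a * g⁻¹) = g * (x * a) * g⁻¹ := by group
      _ = g * (a * x) * g⁻¹ := by rw [h1]
      _ = _ := by group
  have hnormcomm : ∀ (K : Subgroup G) (k : G), k ∈ Subgroup.normalizer (V : Set G) →
      k ∈ Subgroup.normalizer (K : Set G) → k ∈ Subgroup.normalizer ((⁅V, K⁆ : Subgroup G) : Set G) := by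
    intro K k hk1 hk2
    apply conj_smul_eq_self_iff.mp
    show (⁅V, K⁆ : Subgroup G).map (MulAut.conj k).toMonoidHom = _
    rw [Subgroup.map_commutator]
    rw [show V.map (MulAut.conj k).toMonoidHom = V from conj_smul_eq_self_iff.mpr hk1,
      show K.map (MulAut.conj k).toMonoidHom = K from conj_smul_eq_self_iff.mpr hk2]
  have hXnA : ∀ x ∈ X, x ∈ Subgroup.normalizer ((⁅V, X⁆ : Subgroup G) : Set G) :=
    fun x hx => hnormcomm X x (hLV (hXL hx)) (Subgroup.le_normalizer hx)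
  have hYnB : ∀ y ∈ Y, y ∈ Subgroup.normalizer ((⁅V, Y⁆ : Subgroup G) : Set G) :=
    fun y hy => hnormcomm Y y (hLV (hYL hy)) (Subgroup.le_normalizer hy)
  have hVnA : V ≤ Subgroup.normalizer ((⁅V, X⁆ : Subgroup G) : Set G) := by
    intro u hu
    apply mem_normalizer_of_conj_smul_le
    show (⁅V, X⁆ : Subgroup G).map (MulAut.conj u).toMonoidHom ≤ _
    rw [Subgroup.map_le_iff_le_comap, Subgroup.commutator_le]
    intro v hv x hx
    show u * (v * x * v⁻¹ * x⁻¹) * u⁻¹ ∈ ⁅V, X⁆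
    have h1 : u * (v * x * v⁻¹ * x⁻¹) * u⁻¹ =
        ((u * v) * x * (u * v)⁻¹ * x⁻¹) * (u * x * u⁻¹ * x⁻¹)⁻¹ := by group
    rw [h1]
    exact Subgroup.mul_mem _ (hcm _ (V.mul_mem hu hv) x hx) (Subgroup.inv_mem _ (hcm u hu x hx))
  have hDn_X : ∀ x ∈ X, x ∈ Subgroup.normalizer (((⁅V, X⁆ : Subgroup G) ⊔ ⁅V, Y⁆ : Subgroup G) : Set G) := by
    intro x hx
    apply mem_normalizer_of_conj_smul_le
    show ((⁅V, X⁆ : Subgroup G) ⊔ ⁅V, Y⁆).map (MulAut.conj x).toMonoidHom ≤ _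
    rw [Subgroup.map_sup]
    apply sup_le
    · rintro _ ⟨a, ha, rfl⟩
      exact Subgroup.mem_sup_left ((Subgroup.mem_normalizer_iff.mp (hXnA x hx) a).mp ha)
    · rintro _ ⟨b, hb, rfl⟩
      show x * b * x⁻¹ ∈ _
      have h1 : x * b * x⁻¹ = (b * x * b⁻¹ * x⁻¹)⁻¹ * b := by group
      rw [h1]
      exact Subgroup.mul_mem _ (Subgroup.mem_sup_left (Subgroup.inv_mem _ (hcm b (hBV hb) x hx)))
        (Subgroup.mem_sup_right hb)
  have hDn_Y : ∀ y ∈ Y, y ∈ Subgroup.normalizer (((⁅V, X⁆ : Subgroup G) ⊔ ⁅V, Y⁆ : Subgroup G) : Set G) := by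
    intro y hy
    apply mem_normalizer_of_conj_smul_le
    show ((⁅V, X⁆ : Subgroup G) ⊔ ⁅V, Y⁆).map (MulAut.conj y).toMonoidHom ≤ _
    rw [Subgroup.map_sup]
    apply sup_le
    · rintro _ ⟨a, ha, rfl⟩
      show y * a * y⁻¹ ∈ _
      have h1 : y * a * y⁻¹ = (a * y * a⁻¹ * y⁻¹)⁻¹ * a := by group
      rw [h1]
      exact Subgroup.mul_mem _ (Subgroup.mem_sup_right (Subgroup.inv_mem _ (hcm' a (hAV ha) y hy)))
        (Subgroup.mem_sup_left ha)
    · rintro _ ⟨b, hb, rfl⟩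
      exact Subgroup.mem_sup_right ((Subgroup.mem_normalizer_iff.mp (hYnB y hy) b).mp hb)
  have hDn_L : L ≤ Subgroup.normalizer (((⁅V, X⁆ : Subgroup G) ⊔ ⁅V, Y⁆ : Subgroup G) : Set G) := by
    rw [← hgen]
    exact sup_le (fun x hx => hDn_X x hx) (fun y hy => hDn_Y y hy)
  have hLc : Subgroup.closure ((X : Set G) ∪ (Y : Set G)) = L := by
    rw [← hgen, Subgroup.sup_eq_closure]
  have hWD : (⁅V, L⁆ : Subgroup G) ≤ (⁅V, X⁆ : Subgroup G) ⊔ ⁅V, Y⁆ := by
    rw [Subgroup.commutator_le]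
    intro v hv l hl
    have key : ∀ l ∈ Subgroup.closure ((X : Set G) ∪ (Y : Set G)), ∀ v ∈ V,
        v * l * v⁻¹ * l⁻¹ ∈ (⁅V, X⁆ : Subgroup G) ⊔ ⁅V, Y⁆ := by
      intro l hl
      induction hl using Subgroup.closure_induction with
      | mem x hx =>
        intro v hv
        rcases hx with hx | hx
        · exact Subgroup.mem_sup_left (hcm v hv x hx)
        · exact Subgroup.mem_sup_right (hcm' v hv x hx)
      | one =>
        intro v _
        have : v * 1 * v⁻¹ * (1 : G)⁻¹ = 1 := by group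
        rw [this]
        exact Subgroup.one_mem _
      | mul a b ha _ iha ihb =>
        intro v hv
        have h1 : v * (a * b) * v⁻¹ * (a * b)⁻¹ = (v * a * v⁻¹ * a⁻¹) * (a * (v * b * v⁻¹ * b⁻¹) * a⁻¹) := by
          group
        rw [h1]
        refine Subgroup.mul_mem _ (iha v hv) ?_
        have haL : a ∈ L := hLc ▸ ha
        exact (Subgroup.mem_normalizer_iff.mp (hDn_L haL) _).mp (ihb v hv)
      | inv a ha iha =>
        intro v hv
        have h1 : v * a⁻¹ * v⁻¹ * a⁻¹⁻¹ = a⁻¹ * (v * a * v⁻¹ * a⁻¹)⁻¹ * a⁻¹⁻¹ := by group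
        rw [h1]
        have haL : a ∈ L := hLc ▸ ha
        exact (Subgroup.mem_normalizer_iff.mp (hDn_L (L.inv_mem haL)) _).mp
          (Subgroup.inv_mem _ (iha v hv))
    exact key l (hLc ▸ hl) v hv
  have hsup : (⁅V, X⁆ : Subgroup G) ⊔ ⁅V, Y⁆ = ⁅V, L⁆ :=
    le_antisymm (sup_le (Subgroup.commutator_mono le_rfl hXL) (Subgroup.commutator_mono le_rfl hYL)) hWD
  have hBnA : (⁅V, Y⁆ : Subgroup G) ≤ Subgroup.normalizer ((⁅V, X⁆ : Subgroup G) : Set G) :=
    hBV.trans hVnA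
  have hgenC : ∀ c : G, c ∈ Subgroup.centralizer (X : Set G) → c ∈ Subgroup.centralizer (Y : Set G) →
      c ∈ Subgroup.centralizer (L : Set G) := by
    intro c h1 h2
    have hL : L ≤ Subgroup.centralizer ({c} : Set G) := by
      rw [← hgen]
      apply sup_le
      · intro x hx
        rw [Subgroup.mem_centralizer_iff]
        rintro _ rfl
        exact (Subgroup.mem_centralizer_iff.mp h1 x hx).symm
      · intro x hx
        rw [Subgroup.mem_centralizer_iff]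
        rintro _ rfl
        exact (Subgroup.mem_centralizer_iff.mp h2 x hx).symm
    rw [Subgroup.mem_centralizer_iff]
    intro l hl
    exact (Subgroup.mem_centralizer_iff.mp (hL hl) c rfl).symm
  have hcL : ∀ c ∈ Subgroup.centralizer (L : Set G), g * c * g⁻¹ = c := by
    intro c hc
    have h1 := Subgroup.mem_centralizer_iff.mp hc g hg
    rw [h1]
    group
  have hb : (⁅V, L⁆ : Subgroup G) ⊓ Subgroup.centralizer (X : Set G) = ⁅V, X⁆ := by
    apply le_antisymm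
    · rintro w ⟨hwW, hwC⟩
      rw [← hsup] at hwW
      obtain ⟨a, ha, b, hb, rfl⟩ := exists_mul_of_mem_sup hBnA hwW
      have hbC : b ∈ Subgroup.centralizer (X : Set G) := by
        have h1 : b = a⁻¹ * (a * b) := by group
        rw [h1]
        exact Subgroup.mul_mem _ (Subgroup.inv_mem _ (hAC ha)) hwC
      have hbL := hgenC b hbC (hBC hb)
      have hbA : b ∈ (⁅V, X⁆ : Subgroup G) := by
        have hb' := hb
        rw [← hAB] at hb'
        obtain ⟨a', ha', h2⟩ := hb'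
        have h3 : g * a' * g⁻¹ = b := h2
        have h4 := hcL b hbL
        have h5 : g * a' = g * b := by
          calc g * a' = (g * a' * g⁻¹) * g := by group
            _ = b * g := by rw [h3]
            _ = (g * b * g⁻¹) * g := by rw [h4]
            _ = g * b := by group
        rw [← mul_left_cancel h5]
        exact ha'
      exact Subgroup.mul_mem _ ha hbA
    · exact le_inf (Subgroup.commutator_mono le_rfl hXL) hAC
  refine ⟨hsup, hb, ?_⟩
  apply le_antisymm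
  · rintro w ⟨hwW, hwC⟩
    have hwCX : w ∈ Subgroup.centralizer (X : Set G) := Subgroup.centralizer_le hXL hwC
    have hwA : w ∈ (⁅V, X⁆ : Subgroup G) := by
      rw [← hb]
      exact ⟨hwW, hwCX⟩
    refine ⟨hwA, ?_⟩
    rw [← hAB]
    exact ⟨w, hwA, hcL w hwC⟩
  · rintro w ⟨hwA, hwB⟩
    exact ⟨(Subgroup.commutator_mono le_rfl hXL) hwA, hgenC w (hAC hwA) (hBC hwB)⟩

end Cfsg.Agent.S2833
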