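import Mathlib
import Cfsg.Prelude.Def_LocalStructure
import Cfsg.Agent.Lib.Basic.PCore
import Cfsg.Agent.Lib.PGroup.Basic

set_option autoImplicit false

namespace Cfsg.Agent.S2835

open Subgroup Cfsg Cfsg.Agent.Lib.Basic.PCore

/-- Let L be a finite group, L₀ a maximal subgroup, T a Sylow p-subgroup of L₀ and Y ≤ T, and suppose L is Y-minimal (generated by the conjugates of Y, with Y in exactly one maximal subgroup, necessarily L₀). Then N_L(T) ≤ L₀, O_p(L) ≤ L₀ and T is a Sylow p-subgroup of L; N_L(L₀) = L₀; L = ⟨Y, gYg⁻¹⟩ for each g ∈ L outside L₀; and if Y is abelian then Y ∩ gYg⁻¹ = C_Y(L) for each such g. -/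
theorem result {L : Type*} [Group L] [Finite L] {p : ℕ} [Fact p.Prime] (L₀ : Subgroup L) (hL₀ : IsCoatom L₀) (T : Sylow p ↥L₀) (Y : Subgroup L) (hYT : Y ≤ (T : Subgroup ↥L₀).map L₀.subtype) (hmin : Cfsg.IsMinimalOver Y) : Subgroup.normalizer (((T : Subgroup ↥L₀).map L₀.subtype : Subgroup L) : Set L) ≤ L₀ ∧ Cfsg.pCore p L ≤ L₀ ∧ (∃ P : Sylow p L, (P : Subgroup L) = (T : Subgroup ↥L₀).map L₀.subtype) ∧ Subgroup.normalizer (L₀ : Set L) = L₀ ∧ (∀ g : L, g ∉ L₀ → Y ⊔ Y.map (MulAut.conj g).toMonoidHom = ⊤) ∧ (IsMulCommutative ↥Y → ∀ g : L, g ∉ L₀ → Y ⊓ Y.map (MulAut.conj g).toMonoidHom = Y ⊓ Subgroup.center L) := by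
  obtain ⟨hncl, huniq⟩ := hmin
  set T' : Subgroup L := (T : Subgroup ↥L₀).map L₀.subtype with hT'
  have hT'L₀ : T' ≤ L₀ := by
    rintro _ ⟨y, -, rfl⟩
    exact y.2
  have hT'p : IsPGroup p T' := T.isPGroup'.map _
  have hYL₀ : Y ≤ L₀ := hYT.trans hT'L₀
  -- no normal subgroup containing `Y` is proper
  have hnormal : ∀ K : Subgroup L, K.Normal → Y ≤ K → K = ⊤ := by
    intro K hK hYK
    rw [eq_top_iff, ← hncl]
    exact Subgroup.normalClosure_le_normal hYK
  have hL₀ne : L₀ ≠ ⊤ := hL₀.1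
  -- `Y` lies in a unique maximal subgroup
  have hU : ∀ K : Subgroup L, K ≠ ⊤ → Y ≤ K → K ≤ L₀ := by
    intro K hK hYK
    rcases eq_top_or_exists_le_coatom K with h | ⟨M, hM, hKM⟩
    · exact absurd h hK
    · have : M = L₀ := huniq.unique ⟨hM, hYK.trans hKM⟩ ⟨hL₀, hYL₀⟩
      exact this ▸ hKM
  -- the normalizer of `L₀`
  have hN : normalizer (L₀ : Set L) = L₀ := by
    by_contra hne
    have hlt : L₀ < normalizer (L₀ : Set L) := lt_of_le_of_ne le_normalizer (Ne.symm hne)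
    have htop := hL₀.2 _ hlt
    exact hL₀ne (hnormal L₀ (normalizer_eq_top_iff.mp htop) hYL₀)
  have hnT : normalizer (T' : Set L) ≤ L₀ := by
    apply hU _ _ (hYT.trans le_normalizer)
    intro htop
    exact hL₀ne (top_le_iff.mp ((top_le_iff.mpr (hnormal T' (normalizer_eq_top_iff.mp htop) hYT)).trans hT'L₀))
  -- `T'` is Sylow in `L`
  have hSyl : ∃ P : Sylow p L, (P : Subgroup L) = T' := by
    obtain ⟨P, hP⟩ := hT'p.exists_le_sylow
    refine ⟨P, ?_⟩
    by_contra hne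
    have hlt : T' < P := lt_of_le_of_ne hP (Ne.symm hne)
    obtain ⟨x, hxP, hxS, hxN⟩ := Cfsg.Agent.Lib.PGroup.Basic.exists_mem_normalizer_of_lt P.isPGroup' hlt
    have hxL₀ : x ∈ L₀ := hnT hxN
    have hpg : IsPGroup p ↥((T' ⊔ zpowers x).subgroupOf L₀) := by
      have h1 : T' ⊔ zpowers x ≤ P := sup_le hP (zpowers_le.mpr hxP)
      exact (P.isPGroup'.to_le h1).comap_of_injective L₀.subtype L₀.subtype_injective
    have hle2 : (T : Subgroup L₀) ≤ (T' ⊔ zpowers x).subgroupOf L₀ := by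
      intro y hy
      rw [Subgroup.mem_subgroupOf]
      exact (le_sup_left : T' ≤ T' ⊔ zpowers x) ⟨y, hy, rfl⟩
    have := T.is_maximal' hpg hle2
    have hxin : (⟨x, hxL₀⟩ : L₀) ∈ (T' ⊔ zpowers x).subgroupOf L₀ := by
      rw [Subgroup.mem_subgroupOf]
      exact (le_sup_right : zpowers x ≤ T' ⊔ zpowers x) (mem_zpowers x)
    rw [this] at hxin
    exact hxS ⟨_, hxin, rfl⟩
  -- `O_p(L)`
  have hOp : pCore p L ≤ L₀ := by
    apply le_trans le_sup_right
    apply hU (T' ⊔ pCore p L)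
    · intro htop
      -- `L` is a `p`-group
      have hLp : IsPGroup p (T' ⊔ pCore p L : Subgroup L) := by
        obtain ⟨P, hP⟩ := hSyl
        have : pCore p L ≤ P := pCore_le_sylow P
        rw [hP] at this
        rw [sup_eq_left.mpr this]
        exact hT'p
      rw [htop] at hLp
      have hlt : L₀ < ⊤ := lt_top_iff_ne_top.mpr hL₀ne
      obtain ⟨x, -, hxS, hxN⟩ := Cfsg.Agent.Lib.PGroup.Basic.exists_mem_normalizer_of_lt hLp hlt
      rw [hN] at hxN
      exact hxS hxN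
    · exact hYT.trans le_sup_left
  have hgen : ∀ g : L, g ∉ L₀ → Y ⊔ Y.map (MulAut.conj g).toMonoidHom = ⊤ := by
    intro g hg
    by_contra hne
    have h1 := hU _ hne le_sup_left
    apply hg
    -- `Y ≤ g⁻¹ L₀ g`
    have hco : IsCoatom (L₀.map (MulAut.conj g⁻¹).toMonoidHom) :=
      ((MulEquiv.mapSubgroup (MulAut.conj g⁻¹)).isCoatom_iff L₀).mpr hL₀
    have hYM : Y ≤ L₀.map (MulAut.conj g⁻¹).toMonoidHom := by
      intro y hy
      have h2 : g * y * g⁻¹ ∈ L₀ := h1 (mem_sup_right ⟨y, hy, rfl⟩)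
      refine ⟨_, h2, ?_⟩
      simp [mul_assoc]
    have he : L₀.map (MulAut.conj g⁻¹).toMonoidHom = L₀ := huniq.unique ⟨hco, hYM⟩ ⟨hL₀, hYL₀⟩
    have hgN : g⁻¹ ∈ normalizer (L₀ : Set L) := by
      rw [mem_normalizer_iff]
      intro h
      constructor
      · intro hh
        have : g⁻¹ * h * g⁻¹⁻¹ ∈ L₀.map (MulAut.conj g⁻¹).toMonoidHom := ⟨h, hh, rfl⟩
        rwa [he] at this
      · intro hh
        rw [← he] at hh
        obtain ⟨k, hk, hke⟩ := hh
        have hke' : g⁻¹ * k * g⁻¹⁻¹ = g⁻¹ * h * g⁻¹⁻¹ := hke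
        have : k = h := by simpa using hke'
        exact this ▸ hk
    rw [hN] at hgN
    simpa using hgN
  refine ⟨hnT, hOp, hSyl, hN, hgen, ?_⟩
  intro hc g hg
  have hc' : ∀ a ∈ Y, ∀ b ∈ Y, a * b = b * a := fun a ha b hb =>
    congrArg Subtype.val (hc.is_comm.comm ⟨a, ha⟩ ⟨b, hb⟩)
  apply le_antisymm
  · rintro y ⟨hy, z, hz, hzy⟩
    refine ⟨hy, ?_⟩
    change y ∈ Subgroup.center L
    rw [Subgroup.mem_center_iff]
    have htop := hgen g hg
    have hall : ∀ w ∈ Y ⊔ Y.map (MulAut.conj g).toMonoidHom, w * y = y * w := by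
      intro w hw
      have hle : Y ⊔ Y.map (MulAut.conj g).toMonoidHom ≤ centralizer ({y} : Set L) := by
        refine sup_le ?_ ?_
        · intro a ha
          refine Subgroup.mem_centralizer_iff.mpr ?_
          intro h hh
          rw [Set.mem_singleton_iff] at hh
          rw [hh]
          exact hc' _ hy _ ha
        · rintro _ ⟨a, ha, rfl⟩
          refine Subgroup.mem_centralizer_iff.mpr ?_
          intro h hh
          rw [Set.mem_singleton_iff] at hh
          rw [hh, ← hzy]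
          simp only [MulEquiv.coe_toMonoidHom, MulAut.conj_apply]
          have := hc' z hz a ha
          calc g * z * g⁻¹ * (g * a * g⁻¹) = g * (z * a) * g⁻¹ := by group
            _ = g * (a * z) * g⁻¹ := by rw [this]
            _ = g * a * g⁻¹ * (g * z * g⁻¹) := by group
      have := Subgroup.mem_centralizer_iff.mp (hle hw) y (Set.mem_singleton y)
      exact this.symm
    intro w
    exact hall w (htop ▸ Subgroup.mem_top w)
  · rintro y ⟨hy, hyz⟩
    refine ⟨hy, y, hy, ?_⟩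
    have hyz' : y ∈ Subgroup.center L := hyz
    rw [Subgroup.mem_center_iff] at hyz'
    simp only [MulEquiv.coe_toMonoidHom, MulAut.conj_apply]
    rw [hyz' g]
    group

end Cfsg.Agent.S2835
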