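import Cfsg.Statements.S2836
import Mathlib
import Cfsg.Agent.S2835
import Cfsg.Agent.Lib.Basic.PCore
import Cfsg.Agent.Lib.Basic.SylowUtil
-- import your own Cfsg.Agent.* helpers here

set_option autoImplicit false
open Cfsg

namespace Cfsg.Agent.S2836


open Subgroup Cfsg.Agent.Lib.Basic.PCore Cfsg.Agent.Lib.Basic.SylowUtil

lemma isCoatom_comap {G H : Type*} [Group G] [Group H] (π : G →* H) (hπ : Function.Surjective π)
    {M : Subgroup H} (hM : IsCoatom M) : IsCoatom (M.comap π) := by
  constructor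
  · intro h
    apply hM.1
    rw [eq_top_iff]
    intro y _
    obtain ⟨x, rfl⟩ := hπ y
    have : x ∈ M.comap π := by rw [h]; trivial
    exact this
  · intro X hX
    have hlt : M < X.map π := by
      refine lt_of_le_of_ne ?_ ?_
      · intro y hy
        obtain ⟨x, rfl⟩ := hπ y
        exact ⟨x, hX.le hy, rfl⟩
      · intro heq
        apply hX.not_ge
        intro x hx
        show π x ∈ M
        rw [heq]
        exact ⟨x, hx, rfl⟩
    have h1 := hM.2 _ hlt
    rw [eq_top_iff]
    intro g _
    have : π g ∈ X.map π := by rw [h1]; trivial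
    obtain ⟨x, hx, hxg⟩ := this
    have hk : x⁻¹ * g ∈ M.comap π := by
      show π (x⁻¹ * g) ∈ M
      rw [map_mul, map_inv, hxg]
      simp
    have := X.mul_mem hx (hX.le hk)
    simpa using this

lemma isCoatom_map {G H : Type*} [Group G] [Group H] (π : G →* H) (hπ : Function.Surjective π)
    {M : Subgroup G} (hM : IsCoatom M) (hker : π.ker ≤ M) : IsCoatom (M.map π) := by
  constructor
  · intro htop
    apply hM.1
    rw [eq_top_iff]
    intro z _
    have : π z ∈ M.map π := by rw [htop]; trivial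
    obtain ⟨m, hm, hmz⟩ := this
    have hk : m⁻¹ * z ∈ π.ker := by
      rw [MonoidHom.mem_ker, map_mul, map_inv, hmz]; simp
    have := M.mul_mem hm (hker hk)
    simpa using this
  · intro X hX
    have hlt : M < X.comap π := by
      refine lt_of_le_of_ne (fun m hm => hX.le ⟨m, hm, rfl⟩) ?_
      intro heq
      apply hX.not_ge
      rw [← Subgroup.map_comap_eq_self_of_surjective hπ X, ← heq]
    have := hM.2 _ hlt
    rw [eq_top_iff]
    intro z _
    obtain ⟨w, rfl⟩ := hπ z
    have hw : w ∈ X.comap π := by rw [this]; trivial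
    exact hw

lemma index_mul_card_inf {L : Type*} [Group L] [Finite L] (D K : Subgroup L) [D.Normal] (h : K ⊔ D = ⊤) :
    K.index * Nat.card (K ⊓ D : Subgroup L) = Nat.card D := by
  have h1 : D.relIndex (K ⊔ D) = D.relIndex K := Subgroup.relIndex_sup_right K D
  rw [h, Subgroup.relIndex_top_right] at h1
  have h2 : Nat.card (D.subgroupOf K) * D.relIndex K = Nat.card K := Subgroup.card_mul_index _
  have h3 : Nat.card (D.subgroupOf K) = Nat.card (K ⊓ D : Subgroup L) := by
    have e : D.subgroupOf K = (K ⊓ D).subgroupOf K := by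
      rw [Subgroup.inf_subgroupOf_left]
    rw [e]
    exact Nat.card_congr (Subgroup.subgroupOfEquivOfLe inf_le_left).toEquiv
  have h4 : Nat.card D * D.index = Nat.card L := Subgroup.card_mul_index D
  have h5 : Nat.card K * K.index = Nat.card L := Subgroup.card_mul_index K
  have hpos : 0 < D.index := Nat.pos_of_ne_zero (Subgroup.index_ne_zero_of_finite)
  apply Nat.eq_of_mul_eq_mul_right hpos
  rw [h4, ← h5, ← h2, h3, h1]
  ring

lemma not_dvd_index_of_sup {L : Type*} [Group L] [Finite L] {p : ℕ} (hp : p.Prime) (D K P : Subgroup L) [D.Normal]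
    (hKD : K ⊔ D = ⊤) (hPK : P ≤ K) (hPD : P ≤ D) (hPi : ¬ p ∣ (P.subgroupOf D).index) : ¬ p ∣ K.index := by
  have h1 := index_mul_card_inf D K hKD
  have h2 : Nat.card P ∣ Nat.card (K ⊓ D : Subgroup L) := Subgroup.card_dvd_of_le (le_inf hPK hPD)
  obtain ⟨e, he⟩ := h2
  have h3 : Nat.card (P.subgroupOf D) * (P.subgroupOf D).index = Nat.card D := Subgroup.card_mul_index _
  have h4 : Nat.card (P.subgroupOf D) = Nat.card P :=
    Nat.card_congr (Subgroup.subgroupOfEquivOfLe hPD).toEquiv
  rw [h4, ← h1, he] at h3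
  have hpos : 0 < Nat.card P := Nat.card_pos
  have h5 : (P.subgroupOf D).index = K.index * e := by
    apply Nat.eq_of_mul_eq_mul_left hpos
    rw [h3]; ring
  intro hd
  apply hPi
  rw [h5]
  exact Dvd.dvd.mul_right hd e

/-- Let L be a finite group, L₀ a maximal subgroup, T a Sylow p-subgroup of L₀, Y ≤ T, and suppose L is Y-minimal. Let D be the intersection of the conjugates of L₀ (the core of L₀). Then D contains O_p(L) and D/O_p(L) is the Frattini subgroup of L/O_p(L), so D is p-closed; and every normal subgroup N of L contained in L₀ is p-closed with N/O_p(N) a nilpotent group of order prime to p. -/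
theorem result {L : Type*} [Group L] [Finite L] {p : ℕ} [Fact p.Prime] (L₀ : Subgroup L) (hL₀ : IsCoatom L₀) (T : Sylow p ↥L₀) (Y : Subgroup L) (hYT : Y ≤ (T : Subgroup ↥L₀).map L₀.subtype) (hmin : Cfsg.IsMinimalOver Y) : (Cfsg.pCore p L ≤ L₀.normalCore ∧ (L₀.normalCore).map (QuotientGroup.mk' (Cfsg.pCore p L)) = frattini (L ⧸ Cfsg.pCore p L) ∧ Cfsg.IsPClosed p ↥(L₀.normalCore)) ∧ ∀ (N : Subgroup L) [N.Normal], N ≤ L₀ → Cfsg.IsPClosed p ↥N ∧ Group.IsNilpotent (↥N ⧸ Cfsg.pCore p ↥N) ∧ (Nat.card (↥N ⧸ Cfsg.pCore p ↥N)).Coprime p := by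
  classical
  obtain ⟨-, h2, ⟨Ps, hPs⟩, -, -, -⟩ := Cfsg.Agent.S2835.result L₀ hL₀ T Y hYT hmin
  have hYP : Y ≤ (Ps : Subgroup L) := hPs ▸ hYT
  have hPsL0 : (Ps : Subgroup L) ≤ L₀ := by
    rw [hPs]
    rintro _ ⟨t, _, rfl⟩
    exact t.2
  have hYL0 : Y ≤ L₀ := hYP.trans hPsL0
  have hle : ∀ X : Subgroup L, Y ≤ X → X ≠ ⊤ → X ≤ L₀ := by
    intro X hYX hX
    rcases eq_top_or_exists_le_coatom X with h | ⟨M, hM, hXM⟩
    · exact absurd h hX
    · have := hmin.2.unique ⟨hM, hYX.trans hXM⟩ ⟨hL₀, hYL0⟩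
      rw [← this]; exact hXM
  have hstep : ∀ (N : Subgroup L) [N.Normal], N ≤ L₀ →
      ∃ Q : Sylow p N, (Q : Subgroup N).map N.subtype = (Ps : Subgroup L) ⊓ N ∧
        ((Ps : Subgroup L) ⊓ N).Normal := by
    intro N hN hNL
    obtain ⟨Q, hQ⟩ := exists_sylow_inf_normal Ps N
    refine ⟨Q, hQ, ?_⟩
    have hfr := Sylow.normalizer_sup_eq_top Q
    rw [hQ] at hfr
    rw [← Subgroup.normalizer_eq_top_iff]
    by_contra hne
    have hYX : Y ≤ normalizer (((Ps : Subgroup L) ⊓ N : Subgroup L) : Set L) := by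
      intro y hy
      apply mem_normalizer_fintype
      rintro n ⟨hn1, hn2⟩
      exact Subgroup.mem_inf.mpr ⟨(Ps : Subgroup L).mul_mem ((Ps : Subgroup L).mul_mem (hYP hy) hn1)
        ((Ps : Subgroup L).inv_mem (hYP hy)), hN.conj_mem n hn2 y⟩
    have h1 := hle _ hYX hne
    apply hL₀.1
    rw [eq_top_iff, ← hfr]
    exact sup_le h1 hNL
  -- consequences
  have hclosed : ∀ (N : Subgroup L) [N.Normal], N ≤ L₀ →
      ∃ Q : Sylow p N, (Q : Subgroup N).map N.subtype = (Ps : Subgroup L) ⊓ N ∧
        IsPClosed p N ∧ (pCore p N = Q) ∧ ((Ps : Subgroup L) ⊓ N ≤ pCore p L) := by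
    intro N hN hNL
    obtain ⟨Q, hQ, hnorm⟩ := hstep N hNL
    have hQN : (Q : Subgroup N).Normal := by
      constructor
      intro x hx g
      have h1 : ((x : L)) ∈ (Ps : Subgroup L) ⊓ N := by
        rw [← hQ]; exact ⟨x, hx, rfl⟩
      have h3 := hnorm.conj_mem _ h1 (g : L)
      rw [← hQ] at h3
      obtain ⟨w, hw, hwe⟩ := h3
      have : w = g * x * g⁻¹ := Subtype.ext hwe
      rwa [← this]
    refine ⟨Q, hQ, ?_, ?_, ?_⟩
    · intro P'
      letI := Sylow.unique_of_normal Q hQN
      rw [Subsingleton.elim P' Q]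
      exact hQN
    · apply le_antisymm
      · exact pCore_le_sylow Q
      · exact le_pCore hQN Q.2
    · exact le_pCore hnorm (Ps.2.to_le inf_le_left)
  set O := pCore p L with hO
  set π := QuotientGroup.mk' O with hπdef
  have hπ : Function.Surjective π := QuotientGroup.mk'_surjective O
  have hker : π.ker = O := QuotientGroup.ker_mk' O
  have hOL0 : O ≤ L₀ := h2
  have hOP : O ≤ (Ps : Subgroup L) := pCore_le_sylow Ps
  -- every maximal subgroup above `O` contains the core
  have hcoreK : ∀ K : Subgroup L, IsCoatom K → O ≤ K → L₀.normalCore ≤ K := by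
    intro K hK hOK
    by_contra hnot
    have hsup : K ⊔ L₀.normalCore = ⊤ := by
      apply hK.2
      exact lt_of_le_of_ne le_sup_left (fun h => hnot (h ▸ le_sup_right))
    obtain ⟨Q, hQ, -, -, hQO⟩ := hclosed L₀.normalCore (Subgroup.normalCore_le L₀)
    -- `K` has index prime to `p`
    have hQ' : (((Ps : Subgroup L) ⊓ L₀.normalCore).subgroupOf L₀.normalCore) = Q := by
      rw [← hQ]
      exact Subgroup.comap_map_eq_self_of_injective (Subgroup.subtype_injective _) _
    have hidx : ¬ p ∣ K.index := by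
      apply not_dvd_index_of_sup (Fact.out : p.Prime) L₀.normalCore K ((Ps : Subgroup L) ⊓ L₀.normalCore) hsup
        (hQO.trans hOK) inf_le_right
      rw [hQ']
      exact Q.not_dvd_index
    obtain ⟨Qk⟩ : Nonempty (Sylow p K) := inferInstance
    obtain ⟨P', hP'⟩ := sylow_map_of_not_dvd_index hidx Qk
    have hP'K : (P' : Subgroup L) ≤ K := by
      rw [hP']
      rintro _ ⟨t, _, rfl⟩
      exact t.2
    obtain ⟨g, hg⟩ := MulAction.exists_smul_eq L Ps P'
    -- `Y` lies in a conjugate of `K`
    have hYK : ∀ y ∈ Y, g * y * g⁻¹ ∈ K := by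
      intro y hy
      apply hP'K
      rw [← hg, Sylow.coe_subgroup_smul]
      exact ⟨y, hYP hy, rfl⟩
    let X : Subgroup L := K.map (MulAut.conj g⁻¹).toMonoidHom
    have hXmem : ∀ x, x ∈ X ↔ g * x * g⁻¹ ∈ K := by
      intro x
      constructor
      · rintro ⟨k, hk, rfl⟩
        simpa [MulAut.conj_apply, mul_assoc] using hk
      · intro h
        exact ⟨_, h, by simp [MulAut.conj_apply, mul_assoc]⟩
    have hYX : Y ≤ X := fun y hy => (hXmem y).mpr (hYK y hy)
    have hXne : X ≠ ⊤ := by
      intro h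
      apply hK.1
      rw [eq_top_iff]
      intro x _
      have : g⁻¹ * x * g ∈ X := by rw [h]; trivial
      rw [hXmem] at this
      simpa [mul_assoc] using this
    have hXL := hle X hYX hXne
    -- `K` is the conjugate of `L₀`
    let L' : Subgroup L := L₀.map (MulAut.conj g).toMonoidHom
    have hKL' : K ≤ L' := by
      intro k hk
      have : g⁻¹ * k * g ∈ X := by
        rw [hXmem]
        simpa [mul_assoc] using hk
      exact ⟨_, hXL this, by simp [MulAut.conj_apply, mul_assoc]⟩
    have hL'ne : L' ≠ ⊤ := by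
      intro h
      apply hL₀.1
      rw [eq_top_iff]
      intro x _
      have : g * x * g⁻¹ ∈ L' := by rw [h]; trivial
      obtain ⟨l, hl, hlx⟩ := this
      have hlx' : g * l * g⁻¹ = g * x * g⁻¹ := hlx
      have : l = x := by
        simpa using hlx'
      rwa [← this]
    have hKeq : K = L' := by
      by_contra hne
      exact hL'ne (hK.2 _ (lt_of_le_of_ne hKL' hne))
    apply hnot
    rw [hKeq]
    intro d hd
    have hd' : g⁻¹ * d * g ∈ L₀.normalCore := by
      have := (Subgroup.normalCore_normal L₀).conj_mem d hd g⁻¹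
      simpa using this
    exact ⟨_, Subgroup.normalCore_le L₀ hd', by simp [MulAut.conj_apply, mul_assoc]⟩
  have hmap : (L₀.normalCore).map π = frattini (L ⧸ O) := by
    apply le_antisymm
    · apply le_iInf₂
      intro M hM
      rw [Subgroup.map_le_iff_le_comap]
      apply hcoreK _ (isCoatom_comap π hπ hM)
      intro x hx
      show π x ∈ M
      have : π x = 1 := by rw [← MonoidHom.mem_ker, hker]; exact hx
      rw [this]; exact M.one_mem
    · have hco : IsCoatom (L₀.map π) := isCoatom_map π hπ hL₀ (by rw [hker]; exact hOL0)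
      have hΦ : frattini (L ⧸ O) ≤ L₀.map π := frattini_le_coatom hco
      have hN : ((frattini (L ⧸ O)).comap π).Normal := Subgroup.Normal.comap inferInstance π
      have hle2 : (frattini (L ⧸ O)).comap π ≤ L₀ := by
        intro x hx
        obtain ⟨l, hl, hlx⟩ := hΦ hx
        have hk : l⁻¹ * x ∈ π.ker := by
          rw [MonoidHom.mem_ker, map_mul, map_inv, hlx]; simp
        rw [hker] at hk
        have := L₀.mul_mem hl (hOL0 hk)
        simpa using this
      have hle3 : (frattini (L ⧸ O)).comap π ≤ L₀.normalCore := Subgroup.normal_le_normalCore.mpr hle2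
      intro y hy
      obtain ⟨x, rfl⟩ := hπ y
      exact ⟨x, hle3 hy, rfl⟩
  refine ⟨⟨Subgroup.normal_le_normalCore.mpr hOL0, hmap, ?_⟩, ?_⟩
  · obtain ⟨Q, -, hcl, -, -⟩ := hclosed L₀.normalCore (Subgroup.normalCore_le L₀)
    exact hcl
  · intro N hN hNL
    obtain ⟨Q, hQ, hcl, hcore, hQO⟩ := hclosed N hNL
    refine ⟨hcl, ?_, ?_⟩
    · -- nilpotency via the Frattini subgroup
      let f : N →* L ⧸ O := π.comp N.subtype
      have hfker : ∀ x : N, f x = 1 ↔ x ∈ pCore p N := by
        intro x
        rw [hcore]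
        constructor
        · intro h
          have h1 : (x : L) ∈ O := by
            rw [← hker, MonoidHom.mem_ker]; exact h
          have h2 : (x : L) ∈ (Q : Subgroup N).map N.subtype := by
            rw [hQ]; exact Subgroup.mem_inf.mpr ⟨hOP h1, x.2⟩
          obtain ⟨w, hw, hwe⟩ := h2
          have : w = x := Subtype.ext hwe
          rwa [← this]
        · intro h
          have h1 : (x : L) ∈ (Q : Subgroup N).map N.subtype := ⟨x, h, rfl⟩
          rw [hQ] at h1
          have h2 := hQO h1
          rw [← hker, MonoidHom.mem_ker] at h2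
          exact h2
      let g : (↥N ⧸ pCore p ↥N) →* L ⧸ O := QuotientGroup.lift (pCore p N) f (fun x hx => (hfker x).mpr hx)
      have hgmem : ∀ z, g z ∈ frattini (L ⧸ O) := by
        intro z
        obtain ⟨x, rfl⟩ := QuotientGroup.mk_surjective z
        rw [← hmap]
        exact ⟨x, Subgroup.normal_le_normalCore.mpr hNL x.2, rfl⟩
      let g' : (↥N ⧸ pCore p ↥N) →* frattini (L ⧸ O) := g.codRestrict _ hgmem
      have hg'ker : g'.ker ≤ center _ := by
        intro z hz
        obtain ⟨x, rfl⟩ := QuotientGroup.mk_surjective z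
        have h1 : f x = 1 := by
          have := congrArg Subtype.val (MonoidHom.mem_ker.mp hz)
          exact this
        have h2 := (hfker x).mp h1
        have h3 : ((x : ↥N ⧸ pCore p ↥N)) = 1 := (QuotientGroup.eq_one_iff x).mpr h2
        rw [h3]
        exact Subgroup.one_mem _
      haveI : Group.IsNilpotent (frattini (L ⧸ O)) := frattini_nilpotent
      exact _root_.isNilpotent_of_ker_le_center g' hg'ker
    · rw [hcore, ← Subgroup.index_eq_card]
      exact ((Nat.Prime.coprime_iff_not_dvd Fact.out).mpr Q.not_dvd_index).symm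

end Cfsg.Agent.S2836
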