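import Cfsg.Statements.S2837
import Mathlib
import Cfsg.Agent.Lib.PGroup.WeaklyClosed
import Cfsg.Agent.Lib.PGroup.Basic
import Cfsg.Agent.Lib.Basic.PCore
import Cfsg.Agent.Lib.Coprime.Coset
import Cfsg.Agent.Lib.Coprime.Three

set_option autoImplicit false
open Cfsg

namespace Cfsg.Agent.S2837

open Subgroup
open scoped commutatorElement
open Cfsg.Agent.Lib.PGroup.WeaklyClosed (cj mem_cj conj_mem_cj cj_eq_self_iff cj_mul)
open Cfsg.Agent.Lib.Coprime.Three (mem_normalizer_of_conj_mem)

/-- Let L be a finite group of characteristic p, L₀ a maximal subgroup, Y an elementary abelian p-subgroup of L₀ with L Y-minimal and O_p(L) ≤ N_L(Y). Put A = the normal closure of O_p(L) ∩ Y in L. Then for every g ∈ L outside L₀: Φ(A) = A' = [A ∩ Y, A] = [A ∩ Y, A ∩ gYg⁻¹] ≤ C_Y(L), and Y ∩ gYg⁻¹ = (A ∩ Y) ∩ (A ∩ gYg⁻¹) = C_Y(L) = C_A(L). -/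
theorem result {L : Type*} [Group L] [Finite L] {p : ℕ} [Fact p.Prime] (hchar : Subgroup.centralizer (Cfsg.pCore p L : Set L) ≤ Cfsg.pCore p L) (L₀ : Subgroup L) (hL₀ : IsCoatom L₀) (Y : Subgroup L) (hYL₀ : Y ≤ L₀) (hYel : Cfsg.IsElementaryAbelian p Y) (hmin : Cfsg.IsMinimalOver Y) (hOY : Cfsg.pCore p L ≤ Subgroup.normalizer (Y : Set L)) (A : Subgroup L) (hA : A = Subgroup.normalClosure (((Cfsg.pCore p L ⊓ Y : Subgroup L)) : Set L)) (g : L) (hg : g ∉ L₀) : (frattini ↥A).map A.subtype = ⁅A, A⁆ ∧ ⁅A, A⁆ = ⁅A ⊓ Y, A⁆ ∧ ⁅A ⊓ Y, A⁆ = ⁅A ⊓ Y, A ⊓ Y.map (MulAut.conj g).toMonoidHom⁆ ∧ ⁅A ⊓ Y, A⁆ ≤ Y ⊓ Subgroup.center L ∧ Y ⊓ Y.map (MulAut.conj g).toMonoidHom = Y ⊓ Subgroup.center L ∧ (A ⊓ Y) ⊓ (A ⊓ Y.map (MulAut.conj g).toMonoidHom) = Y ⊓ Subgroup.center L ∧ A ⊓ Subgroup.center L = Y ⊓ Subgroup.center L := by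
  classical
  set P := Cfsg.pCore p L with hP
  have hPp : IsPGroup p P := Cfsg.Agent.Lib.Basic.PCore.pCore_isPGroup p
  haveI hPn : P.Normal := Cfsg.Agent.Lib.Basic.PCore.pCore_normal p L
  set Z := cj g Y with hZ
  have hYe := Cfsg.Agent.Lib.PGroup.Basic.isElementaryAbelian_iff.1 hYel
  have hZc : ∀ a ∈ Z, ∀ b ∈ Z, a * b = b * a := by
    intro a ha b hb
    rw [mem_cj] at ha hb
    have h1 := hYe.1 _ ha _ hb
    have h2 : a * b = g * ((g⁻¹ * a * g) * (g⁻¹ * b * g)) * g⁻¹ := by group
    have h3 : b * a = g * ((g⁻¹ * b * g) * (g⁻¹ * a * g)) * g⁻¹ := by group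
    rw [h2, h3, h1]
  have hZp : ∀ a ∈ Z, a ^ p = 1 := by
    intro a ha
    rw [mem_cj] at ha
    have h1 := hYe.2 _ ha
    have e : (g⁻¹ * a * g) ^ p = g⁻¹ * a ^ p * g := by
      have := conj_pow (a := g⁻¹) (b := a) (i := p)
      rwa [inv_inv] at this
    rw [e] at h1
    have h2 : a ^ p = g * (g⁻¹ * a ^ p * g) * g⁻¹ := by group
    rw [h2, h1]
    group
  -- `Y` and its conjugate generate
  have hne0 : ¬ L₀.Normal := by
    intro hn
    have h1 : Subgroup.normalClosure (Y : Set L) ≤ L₀ := Subgroup.normalClosure_le_normal hYL₀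
    rw [hmin.1] at h1
    exact hL₀.1 (top_le_iff.1 h1)
  have hNL : normalizer (L₀ : Set L) = L₀ := by
    have h1 : L₀ ≤ normalizer (L₀ : Set L) := le_normalizer
    rcases h1.eq_or_lt with h | h
    · exact h.symm
    · exfalso
      apply hne0
      rw [← normalizer_eq_top_iff]
      exact hL₀.2 _ h
  obtain ⟨M₀, ⟨hM₀, hYM₀⟩, hM₀u⟩ := hmin.2
  have hunique : ∀ M : Subgroup L, IsCoatom M → Y ≤ M → M = L₀ := by
    intro M hM hYM
    rw [hM₀u M ⟨hM, hYM⟩, hM₀u L₀ ⟨hL₀, hYL₀⟩]
  have hsup : Y ⊔ Z = ⊤ := by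
    rcases eq_top_or_exists_le_coatom (Y ⊔ Z) with h | ⟨M, hM, hle⟩
    · exact h
    · exfalso
      have h1 : M = L₀ := hunique M hM (le_sup_left.trans hle)
      subst h1
      have hZM : Z ≤ M := le_sup_right.trans hle
      -- the conjugate coatom
      have hco : IsCoatom (cj g⁻¹ M) :=
        ((MulAut.conj g⁻¹).mapSubgroup.isCoatom_iff M).2 hM
      have hYco : Y ≤ cj g⁻¹ M := by
        intro y hy
        rw [mem_cj, inv_inv]
        apply hZM
        have : g * y * g⁻¹ ∈ Z := conj_mem_cj hy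
        exact this
      have h2 : cj g⁻¹ M = M := hunique _ hco hYco
      have h3 : g⁻¹ ∈ normalizer (M : Set L) := cj_eq_self_iff.1 h2
      rw [hNL] at h3
      apply hg
      have := M.inv_mem h3
      rwa [inv_inv] at this
  -- central elements
  have hcen : ∀ x : L, (∀ y ∈ Y, y * x = x * y) → (∀ z ∈ Z, z * x = x * z) →
      x ∈ center L := by
    intro x h1 h2
    have h3 : Y ⊔ Z ≤ centralizer ({x} : Set L) := by
      apply sup_le
      · intro y hy
        rw [mem_centralizer_iff]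
        intro w hw
        rw [Set.mem_singleton_iff] at hw
        subst hw
        exact (h1 y hy).symm
      · intro y hy
        rw [mem_centralizer_iff]
        intro w hw
        rw [Set.mem_singleton_iff] at hw
        subst hw
        exact (h2 y hy).symm
    rw [hsup] at h3
    rw [mem_center_iff]
    intro y
    exact (mem_centralizer_iff.1 (h3 (mem_top y)) x rfl).symm
  have hYZcen : Y ⊓ Z ≤ center L := by
    intro x hx
    exact hcen x (fun y hy => hYe.1 y hy x hx.1) (fun z hz => hZc z hz x hx.2)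
  have hcenZ : ∀ x ∈ center L, (x ∈ Y ↔ x ∈ Z) := by
    intro x hx
    rw [mem_cj]
    have h1 : g⁻¹ * x * g = x := by
      rw [mul_assoc, ← (mem_center_iff.1 hx g), inv_mul_cancel_left]
    rw [h1]
  have h5 : Y ⊓ Z = Y ⊓ center L := by
    apply le_antisymm
    · exact le_inf inf_le_left hYZcen
    · intro x hx
      exact ⟨hx.1, (hcenZ x hx.2).1 hx.1⟩
  -- the central part lies in `P`
  have hcP : Y ⊓ center L ≤ P := by
    have hn : (Y ⊓ center L).Normal := by
      refine ⟨fun n hn h => ?_⟩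
      have : h * n * h⁻¹ = n := by
        rw [(mem_center_iff.1 hn.2 h)]
        group
      rw [this]
      exact hn
    have hp2 : IsPGroup p ↥(Y ⊓ center L) := by
      have hYp : IsPGroup p Y :=
        Cfsg.Agent.Lib.PGroup.Basic.IsElementaryAbelian.isPGroup hYel
      exact hYp.to_le inf_le_left
    exact Cfsg.Agent.Lib.Basic.PCore.le_pCore hn hp2
  set U := P ⊓ Y with hU
  set V := P ⊓ Z with hV
  have hPY : P ≤ normalizer (Y : Set L) := hOY
  have hPZ : P ≤ normalizer (Z : Set L) := by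
    intro x hx
    have h1 : g⁻¹ * x * g ∈ P := by
      have := hPn.conj_mem x hx g⁻¹
      simpa using this
    have h2 := hPY h1
    apply cj_eq_self_iff.1
    have e : cj x Z = cj g (cj (g⁻¹ * x * g) Y) := by
      rw [hZ, ← cj_mul, ← cj_mul]
      congr 1
      group
    rw [e, cj_eq_self_iff.2 h2]
  have hcUV : ∀ u ∈ U, ∀ v ∈ V, ⁅u, v⁆ ∈ U ⊓ V := by
    intro u hu v hv
    have hc1 : ⁅u, v⁆ = u * (v * u⁻¹ * v⁻¹) := by rw [commutatorElement_def]; group
    have hc2 : ⁅u, v⁆ = (u * v * u⁻¹) * v⁻¹ := by rw [commutatorElement_def]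
    refine mem_inf.2 ⟨mem_inf.2 ⟨?_, ?_⟩, mem_inf.2 ⟨?_, ?_⟩⟩
    · rw [hc2]
      exact P.mul_mem (hPn.conj_mem v hv.1 u) (P.inv_mem hv.1)
    · rw [hc1]
      exact Y.mul_mem hu.2 ((mem_normalizer_iff.1 (hPY hv.1) u⁻¹).1 (Y.inv_mem hu.2))
    · rw [hc2]
      exact P.mul_mem (hPn.conj_mem v hv.1 u) (P.inv_mem hv.1)
    · rw [hc2]
      exact Z.mul_mem ((mem_normalizer_iff.1 (hPZ hu.1) v).1 hv.2) (Z.inv_mem hv.2)
  have hUV : U ⊓ V = Y ⊓ center L := by
    rw [← h5]
    apply le_antisymm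
    · exact le_inf (inf_le_left.trans inf_le_right) (inf_le_right.trans inf_le_right)
    · intro x hx
      have h1 : x ∈ Y ⊓ center L := by rw [← h5]; exact hx
      have h2 := hcP h1
      exact mem_inf.2 ⟨mem_inf.2 ⟨h2, hx.1⟩, mem_inf.2 ⟨h2, hx.2⟩⟩
  -- `A` is generated by `U` and `V`
  set W := U ⊔ V with hW
  have hNW : Y ⊔ Z ≤ normalizer (W : Set L) := by
    apply sup_le
    · intro y hy
      apply mem_normalizer_of_conj_mem
      intro w hw
      have hle : W ≤ cj y⁻¹ W := by
        apply sup_le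
        · intro u hu
          rw [mem_cj, inv_inv]
          apply (le_sup_left : U ≤ W)
          have h1 : y * u * y⁻¹ = u := by
            rw [hYe.1 y hy u hu.2, mul_inv_cancel_right]
          rw [h1]
          exact hu
        · intro v hv
          rw [mem_cj, inv_inv]
          have h1 : y * v * y⁻¹ = ⁅y, v⁆ * v := by rw [commutatorElement_def]; group
          rw [h1]
          refine W.mul_mem ((le_sup_left : U ≤ W) (mem_inf.2 ⟨?_, ?_⟩)) ((le_sup_right : V ≤ W) hv)
          · have : ⁅y, v⁆ = (y * v * y⁻¹) * v⁻¹ := by rw [commutatorElement_def]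
            rw [this]
            exact P.mul_mem (hPn.conj_mem v hv.1 y) (P.inv_mem hv.1)
          · have : ⁅y, v⁆ = y * (v * y⁻¹ * v⁻¹) := by rw [commutatorElement_def]; group
            rw [this]
            exact Y.mul_mem hy ((mem_normalizer_iff.1 (hPY hv.1) y⁻¹).1 (Y.inv_mem hy))
      have := hle hw
      rw [mem_cj, inv_inv] at this
      exact this
    · intro y hy
      apply mem_normalizer_of_conj_mem
      intro w hw
      have hle : W ≤ cj y⁻¹ W := by
        apply sup_le
        · intro u hu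
          rw [mem_cj, inv_inv]
          have h1 : y * u * y⁻¹ = ⁅y, u⁆ * u := by rw [commutatorElement_def]; group
          rw [h1]
          refine W.mul_mem ((le_sup_right : V ≤ W) (mem_inf.2 ⟨?_, ?_⟩)) ((le_sup_left : U ≤ W) hu)
          · have : ⁅y, u⁆ = (y * u * y⁻¹) * u⁻¹ := by rw [commutatorElement_def]
            rw [this]
            exact P.mul_mem (hPn.conj_mem u hu.1 y) (P.inv_mem hu.1)
          · have : ⁅y, u⁆ = y * (u * y⁻¹ * u⁻¹) := by rw [commutatorElement_def]; group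
            rw [this]
            exact Z.mul_mem hy ((mem_normalizer_iff.1 (hPZ hu.1) y⁻¹).1 (Z.inv_mem hy))
        · intro v hv
          rw [mem_cj, inv_inv]
          apply (le_sup_right : V ≤ W)
          have h1 : y * v * y⁻¹ = v := by
            rw [hZc y hy v hv.2, mul_inv_cancel_right]
          rw [h1]
          exact hv
      have := hle hw
      rw [mem_cj, inv_inv] at this
      exact this
  have hWn : W.Normal := by
    rw [← normalizer_eq_top_iff, eq_top_iff, ← hsup]
    exact hNW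
  have hAW : A = W := by
    rw [hA]
    apply le_antisymm
    · exact Subgroup.normalClosure_le_normal (le_sup_left : U ≤ W)
    · apply sup_le
      · exact Subgroup.le_normalClosure
      · intro v hv
        have h1 : g⁻¹ * v * g ∈ U := by
          refine mem_inf.2 ⟨?_, mem_cj.1 hv.2⟩
          have := hPn.conj_mem v hv.1 g⁻¹
          simpa using this
        have h2 := (Subgroup.normalClosure_normal (s := ((U : Subgroup L) : Set L))).conj_mem _
          (Subgroup.le_normalClosure h1) g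
        have e : g * (g⁻¹ * v * g) * g⁻¹ = v := by group
        rwa [e] at h2
  subst hAW
  have hWP : W ≤ P := sup_le inf_le_left inf_le_left
  have hVU : V ≤ normalizer (U : Set L) := by
    intro v hv
    apply mem_normalizer_of_conj_mem
    intro u hu
    have h1 := (hcUV u hu v hv).1
    have h2 : v * u * v⁻¹ = ⁅v, u⁆ * u := by rw [commutatorElement_def]; group
    have h3 : ⁅v, u⁆ = ⁅u, v⁆⁻¹ := (commutatorElement_inv u v).symm
    rw [h2, h3]
    exact U.mul_mem (U.inv_mem h1) hu
  have hmemW : ∀ x ∈ W, ∃ u ∈ U, ∃ v ∈ V, u * v = x := fun x hx =>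
    (Cfsg.Agent.Lib.Coprime.Coset.mem_sup_iff_of_le_normalizer hVU x).1 hx
  have hWY : W ⊓ Y = U := by
    apply le_antisymm
    · intro x hx
      exact mem_inf.2 ⟨hWP hx.1, hx.2⟩
    · exact le_inf le_sup_left inf_le_right
  have hWZ : W ⊓ Z = V := by
    apply le_antisymm
    · intro x hx
      exact mem_inf.2 ⟨hWP hx.1, hx.2⟩
    · exact le_inf le_sup_right inf_le_right
  rw [hWY, hWZ]
  set D := ⁅U, V⁆ with hD
  have hDcen : D ≤ Y ⊓ center L := by
    rw [hD, commutator_le]
    intro u hu v hv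
    rw [← hUV]
    exact hcUV u hu v hv
  haveI hDn : D.Normal := by
    refine ⟨fun n hn h => ?_⟩
    have : h * n * h⁻¹ = n := by
      rw [(mem_center_iff.1 (hDcen hn).2 h)]
      group
    rw [this]
    exact hn
  -- modulo `D` all elements commute
  have hSc : ∀ x ∈ (U : Set L) ∪ V, ∀ y ∈ (U : Set L) ∪ V,
      (QuotientGroup.mk' D) x * (QuotientGroup.mk' D) y =
        (QuotientGroup.mk' D) y * (QuotientGroup.mk' D) x := by
    have hUVc : ∀ u ∈ U, ∀ v ∈ V, (QuotientGroup.mk' D) u * (QuotientGroup.mk' D) v =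
        (QuotientGroup.mk' D) v * (QuotientGroup.mk' D) u := by
      intro u hu v hv
      have h1 : ⁅u, v⁆ ∈ D := commutator_mem_commutator hu hv
      have h2 : (QuotientGroup.mk' D) ⁅u, v⁆ = 1 := (QuotientGroup.eq_one_iff _).2 h1
      rw [map_commutatorElement, commutatorElement_eq_one_iff_mul_comm] at h2
      exact h2
    rintro x (hx | hx) y (hy | hy)
    · rw [← map_mul, ← map_mul, hYe.1 x hx.2 y hy.2]
    · exact hUVc x hx y hy
    · exact (hUVc y hy x hx).symm
    · rw [← map_mul, ← map_mul, hZc x hx.2 y hy.2]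
  have hWcl : W = closure ((U : Set L) ∪ V) := by
    rw [hW, Subgroup.closure_union, Subgroup.closure_eq, Subgroup.closure_eq]
  have hcomm : ∀ x ∈ W, ∀ y ∈ W, ⁅x, y⁆ ∈ D := by
    intro x hx y hy
    have hCl : ∀ a ∈ closure ((U : Set L) ∪ V), ∀ b ∈ closure ((U : Set L) ∪ V),
        (QuotientGroup.mk' D) a * (QuotientGroup.mk' D) b =
        (QuotientGroup.mk' D) b * (QuotientGroup.mk' D) a := by
      intro a ha b hb
      have hc : closure ((QuotientGroup.mk' D) '' ((U : Set L) ∪ V)) =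
          (closure ((U : Set L) ∪ V)).map (QuotientGroup.mk' D) :=
        (MonoidHom.map_closure _ _).symm
      have hS : ∀ s ∈ (QuotientGroup.mk' D) '' ((U : Set L) ∪ V),
          ∀ t ∈ (QuotientGroup.mk' D) '' ((U : Set L) ∪ V), s * t = t * s := by
        rintro _ ⟨s, hs, rfl⟩ _ ⟨t, ht, rfl⟩
        exact hSc s hs t ht
      let cg := Subgroup.closureCommGroupOfComm hS
      have ha' : (QuotientGroup.mk' D) a ∈ closure ((QuotientGroup.mk' D) '' ((U : Set L) ∪ V)) := by
        rw [hc]; exact mem_map_of_mem _ ha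
      have hb' : (QuotientGroup.mk' D) b ∈ closure ((QuotientGroup.mk' D) '' ((U : Set L) ∪ V)) := by
        rw [hc]; exact mem_map_of_mem _ hb
      exact congrArg Subtype.val (cg.mul_comm ⟨_, ha'⟩ ⟨_, hb'⟩)
    rw [hWcl] at hx hy
    have h1 := hCl x hx y hy
    rw [← QuotientGroup.eq_one_iff]
    show (QuotientGroup.mk' D) ⁅x, y⁆ = 1
    rw [map_commutatorElement, commutatorElement_eq_one_iff_mul_comm]
    exact h1
  have hcWW : ⁅W, W⁆ = D := by
    apply le_antisymm
    · rw [commutator_le]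
      exact hcomm
    · exact commutator_mono le_sup_left le_sup_right
  have hcUW : ⁅U, W⁆ = D := by
    apply le_antisymm
    · rw [commutator_le]
      intro u hu w hw
      exact hcomm u ((le_sup_left : U ≤ W) hu) w hw
    · exact commutator_mono le_rfl le_sup_right
  have hpow : ∀ x ∈ W, x ^ p ∈ D := by
    intro x hx
    rw [hWcl] at hx
    induction hx using Subgroup.closure_induction with
    | mem x hx =>
      rcases hx with hx | hx
      · rw [hYe.2 x hx.2]; exact D.one_mem
      · rw [hZp x hx.2]; exact D.one_mem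
    | one => rw [one_pow]; exact D.one_mem
    | mul x y hx hy hxp hyp =>
      rw [← hWcl] at hx hy
      rw [← QuotientGroup.eq_one_iff] at hxp hyp ⊢
      have h1 : ((x : L ⧸ D)) * (y : L ⧸ D) = (y : L ⧸ D) * x := by
        have := hcomm x hx y hy
        rw [← QuotientGroup.eq_one_iff] at this
        have h2 : (QuotientGroup.mk' D) ⁅x, y⁆ = 1 := this
        rw [map_commutatorElement, commutatorElement_eq_one_iff_mul_comm] at h2
        exact h2
      have hc : Commute (x : L ⧸ D) (y : L ⧸ D) := h1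
      rw [QuotientGroup.mk_pow, QuotientGroup.mk_mul, hc.mul_pow]
      rw [QuotientGroup.mk_pow] at hxp hyp
      rw [hxp, hyp, one_mul]
    | inv x _ hxp =>
      rw [inv_pow]
      exact D.inv_mem hxp
  have hWp : IsPGroup p W := hPp.to_le hWP
  refine ⟨?_, ?_, ?_, ?_, h5, ?_, ?_⟩
  · rw [hcWW]
    apply le_antisymm
    · have h1 : frattini ↥W ≤ D.subgroupOf W := by
        rw [Cfsg.Agent.Lib.PGroup.Basic.frattini_le_iff hWp]
        exact ⟨fun x => mem_subgroupOf.2 (hpow x.1 x.2),
          fun x y => mem_subgroupOf.2 (hcomm x.1 x.2 y.1 y.2)⟩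
      rintro _ ⟨x, hx, rfl⟩
      exact mem_subgroupOf.1 (h1 hx)
    · rw [hD, commutator_le]
      intro u hu v hv
      have hu' : u ∈ W := (le_sup_left : U ≤ W) hu
      have hv' : v ∈ W := (le_sup_right : V ≤ W) hv
      refine ⟨⁅(⟨u, hu'⟩ : W), (⟨v, hv'⟩ : W)⁆,
        Cfsg.Agent.Lib.PGroup.Basic.commutatorElement_mem_frattini hWp _ _, ?_⟩
      rfl
  · rw [hcUW, hcWW]
  · rw [hcUW]
  · rw [hcUW]
    exact hDcen
  · exact hUV
  · apply le_antisymm
    · intro z hz
      obtain ⟨hzW, hzc⟩ := mem_inf.1 hz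
      obtain ⟨u, hu, v, hv, rfl⟩ := hmemW z hzW
      have hvc : v ∈ center L := by
        apply hcen
        · intro y hy
          have h1 : y * (u * v) = (u * v) * y := (mem_center_iff.1 hzc y)
          have h2 : y * u = u * y := hYe.1 y hy u hu.2
          have h3 : u * (y * v) = u * (v * y) := by
            calc u * (y * v) = (u * y) * v := by group
              _ = (y * u) * v := by rw [h2]
              _ = y * (u * v) := by group
              _ = (u * v) * y := h1
              _ = u * (v * y) := by group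
          exact mul_left_cancel h3
        · intro y hy
          exact hZc y hy v hv.2
      have hvY : v ∈ Y := (hcenZ v hvc).2 hv.2
      have hvU : v ∈ U := mem_inf.2 ⟨hv.1, hvY⟩
      have huc : u * v ∈ U := U.mul_mem hu hvU
      exact mem_inf.2 ⟨huc.2, hzc⟩
    · intro z hz
      have h1 : z ∈ U := mem_inf.2 ⟨hcP hz, hz.1⟩
      exact mem_inf.2 ⟨(le_sup_left : U ≤ W) h1, hz.2⟩

end Cfsg.Agent.S2837
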