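import Cfsg.Statements.S2838
import Cfsg.Agent.Lib.PGroup.WeaklyClosed

set_option autoImplicit false
open Cfsg

namespace Cfsg.Agent.S2838

open Cfsg.Agent.Lib.PGroup.WeaklyClosed

theorem result {H : Type*} [Group H] [Finite H] {p : ℕ} [Fact p.Prime] (Q : Subgroup H) (hQp : IsPGroup p ↥Q) (hQ1 : Q ≠ ⊥) : (Cfsg.IsWeaklyClosedSubgroup p Q ↔ ∀ g : H, ⁅Q, ((Q : Subgroup H).map (MulAut.conj (g : H)).toMonoidHom)⁆ ≤ Q ⊓ ((Q : Subgroup H).map (MulAut.conj (g : H)).toMonoidHom) → ((Q : Subgroup H).map (MulAut.conj (g : H)).toMonoidHom) = Q) ∧ (Cfsg.IsWeaklyClosedSubgroup p Q ↔ ∀ R : Subgroup H, IsPGroup p ↥R → Q ≤ R → Subgroup.normalizer ((R : Subgroup H) : Set H) ≤ Subgroup.normalizer ((Q : Subgroup H) : Set H)) := by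
  refine ⟨⟨fun hwc g h => eq_of_commutator_le hwc hQp h, isWeaklyClosedSubgroup_of_commutator hQp⟩,
    ⟨fun hwc R hR hQR g hg => ?_, isWeaklyClosedSubgroup_of_normalizer hQp⟩⟩
  have h1 : cj g R = R := cj_eq_self_iff.2 hg
  have h2 : cj g Q ≤ R := by
    rw [← h1]
    exact cj_mono hQR
  exact cj_eq_self_iff.1 (eq_of_le hwc hR hQR h2)

end Cfsg.Agent.S2838
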