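import Cfsg.Statements.S2839
import Cfsg.Agent.Lib.PGroup.WeaklyClosed
import Cfsg.Agent.Lib.Fusion.Focal

set_option autoImplicit false
open Cfsg

namespace Cfsg.Agent.S2839

open Cfsg.Agent.Lib.PGroup.WeaklyClosed

theorem result {H : Type*} [Group H] [Finite H] {p : ℕ} [Fact p.Prime] (Q : Subgroup H) (hQp : IsPGroup p ↥Q) (hQ1 : Q ≠ ⊥) (hwc : Cfsg.IsWeaklyClosedSubgroup p Q) (K : Subgroup H) (hQK : Q ≤ K) (N' : Subgroup H) [N'.Normal] : Cfsg.IsWeaklyClosedSubgroup p (Q.subgroupOf K) ∧ (∀ g : H, ((Q : Subgroup H).map (MulAut.conj (g : H)).toMonoidHom) ≤ K → ∃ k ∈ K, ((Q : Subgroup H).map (MulAut.conj (g : H)).toMonoidHom) = ((Q : Subgroup H).map (MulAut.conj (k : H)).toMonoidHom)) ∧ Cfsg.IsParabolic p ((Subgroup.normalizer ((Q : Subgroup H) : Set H)).subgroupOf K) ∧ (N' ⊓ Subgroup.normalizer ((Q : Subgroup H) : Set H)) ⊔ (Cfsg.pResidual p ↥N').map N'.subtype = N' ∧ Cfsg.IsWeaklyClosedSubgroup p (Q.map (QuotientGroup.mk' N'))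 := by
  obtain ⟨T, hQT⟩ := hQp.exists_le_sylow
  have hTn : (T : Subgroup H) ≤ Subgroup.normalizer (Q : Set H) := normalizes hwc T.isPGroup' hQT
  refine ⟨isWeaklyClosedSubgroup_subgroupOf hwc hQp hQK,
    fun g hg => exists_conj_in_overgroup hwc hQp hQK hg, ?_, ?_, ?_⟩
  · have hA : IsPGroup p (Q.subgroupOf K) := hQp.comap_subtype
    obtain ⟨S, hS⟩ := hA.exists_le_sylow
    refine ⟨S, fun x hx => ?_⟩
    have hR : IsPGroup p ((S : Subgroup K).map K.subtype) := S.isPGroup'.map _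
    have hQR : Q ≤ (S : Subgroup K).map K.subtype := by
      intro x hx
      exact ⟨⟨x, hQK hx⟩, hS hx, rfl⟩
    exact normalizes hwc hR hQR ⟨x, hx, rfl⟩
  · apply le_antisymm
    · refine sup_le inf_le_left ?_
      rintro _ ⟨y, -, rfl⟩
      exact y.2
    · intro n hn
      obtain ⟨S, hS⟩ := Cfsg.Agent.Lib.Basic.SylowUtil.exists_sylow_inf_normal T N'
      obtain ⟨τ, hτ, r, hr, hτr⟩ := Cfsg.Agent.Lib.Fusion.Focal.exists_sylow_mul_residual S ⟨n, hn⟩
      have h1 : (τ : H) ∈ (T : Subgroup H) ⊓ N' := by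
        rw [← hS]
        exact ⟨τ, hτ, rfl⟩
      have h2 : n = (τ : H) * r := congrArg Subtype.val hτr
      rw [h2]
      exact Subgroup.mul_mem _
        (Subgroup.mem_sup_left ⟨τ.2, hTn h1.1⟩)
        (Subgroup.mem_sup_right ⟨r, hr, rfl⟩)
  · have hs : Function.Surjective (QuotientGroup.mk' N') := QuotientGroup.mk'_surjective N'
    set π := QuotientGroup.mk' N' with hπ
    have key : ∀ g : H, (Q.map π).map (MulAut.conj (π g)).toMonoidHom = (cj g Q).map π := by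
      intro g
      ext x
      constructor
      · rintro ⟨_, ⟨q, hq, rfl⟩, rfl⟩
        exact ⟨g * q * g⁻¹, conj_mem_cj hq, by simp⟩
      · rintro ⟨_, ⟨q, hq, rfl⟩, rfl⟩
        exact ⟨π q, ⟨q, hq, rfl⟩, by simp⟩
    refine ⟨T.mapSurjective hs, ?_, ?_⟩
    · exact Subgroup.map_mono hQT
    · intro gb hgb
      obtain ⟨g, rfl⟩ := hs gb
      rw [key] at hgb ⊢
      have hle : cj g Q ≤ (T : Subgroup H) ⊔ N' := by
        have h1 := Subgroup.map_le_iff_le_comap.1 hgb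
        rw [Sylow.coe_mapSurjective, Subgroup.comap_map_eq, hπ, QuotientGroup.ker_mk'] at h1
        exact h1
      obtain ⟨k, hk, hkeq⟩ := exists_conj_in_overgroup hwc hQp (hQT.trans le_sup_left) hle
      have hk' : k ∈ N' ⊔ (T : Subgroup H) := by rwa [sup_comm]
      rw [← SetLike.mem_coe, Subgroup.normal_mul] at hk'
      obtain ⟨n, hn, t, ht, rfl⟩ := Set.mem_mul.1 hk'
      rw [hkeq, cj_mul, cj_eq_self_iff.2 (hTn ht)]
      ext x
      constructor
      · rintro ⟨_, ⟨q, hq, rfl⟩, rfl⟩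
        refine ⟨q, hq, ?_⟩
        have h2 : π n = 1 := by
          rw [hπ]
          exact (QuotientGroup.eq_one_iff n).2 hn
        simp [h2]
      · rintro ⟨q, hq, rfl⟩
        refine ⟨n * q * n⁻¹, conj_mem_cj hq, ?_⟩
        have h2 : π n = 1 := by
          rw [hπ]
          exact (QuotientGroup.eq_one_iff n).2 hn
        simp [h2]

end Cfsg.Agent.S2839
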