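import Cfsg.Statements.S2841
import Cfsg.Agent.Lib.PGroup.WeaklyClosed

set_option autoImplicit false
open Cfsg
open scoped commutatorElement

namespace Cfsg.Agent.S2841

open Cfsg.Agent.Lib.PGroup.WeaklyClosed

variable {H : Type*} [Group H] [Finite H] {p : ℕ} [Fact p.Prime]

theorem conj_in_sup {Q : Subgroup H} (hwc : Cfsg.IsWeaklyClosedSubgroup p Q) (hQp : IsPGroup p Q)
    {M : Subgroup H} (hQM : Q ≤ Subgroup.normalizer (M : Set H)) {g : H}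
    (hg : cj g Q ≤ Q ⊔ M) : ∃ c ∈ M, cj g Q = cj c Q := by
  obtain ⟨k, hk, heq⟩ := exists_conj_in_overgroup hwc hQp (le_sup_left : Q ≤ Q ⊔ M) hg
  have hk' : k⁻¹ ∈ Q ⊔ M := Subgroup.inv_mem _ hk
  rw [← SetLike.mem_coe, Subgroup.coe_mul_of_left_le_normalizer_right Q M hQM] at hk'
  obtain ⟨q, hq, m, hm, hqm⟩ := Set.mem_mul.1 hk'
  have hk2 : k = m⁻¹ * q⁻¹ := by
    rw [← mul_inv_rev, hqm, inv_inv]
  refine ⟨m⁻¹, M.inv_mem hm, ?_⟩
  rw [heq, hk2, cj_mul, cj_eq_of_mem (Q.inv_mem hq)]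

theorem result {H : Type*} [Group H] [Finite H] {p : ℕ} [Fact p.Prime] (Q : Subgroup H) (hQp : IsPGroup p ↥Q) (hQ1 : Q ≠ ⊥) (hwc : Cfsg.IsWeaklyClosedSubgroup p Q) (N' : Subgroup H) [N'.Normal] : (∀ n : H, n ∈ N' → ∃ a ∈ N' ⊓ Subgroup.normalizer ((Q : Subgroup H) : Set H), ∃ b ∈ ⁅N', Q⁆, n = a * b) ∧ (∀ c : H, c ∈ ⁅N', Q⁆ → ∃ a ∈ Q ⊓ ⁅N', Q⁆, ∃ b ∈ ⁅⁅N', Q⁆, Q⁆, c = a * b) := by
  set M : Subgroup H := ⁅N', Q⁆ with hM
  set M₂ : Subgroup H := ⁅M, Q⁆ with hM₂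
  have hMN : M ≤ N' := Subgroup.commutator_le_left _ _
  have hconjM : ∀ h ∈ Subgroup.normalizer (Q : Set H), cj h M = M := by
    intro h hh
    have h1 : cj h M = ⁅cj h N', cj h Q⁆ := Subgroup.map_commutator _ _ _
    rw [h1, cj_eq_self_iff.2 hh]
    have h2 : cj h N' = N' := by
      apply cj_eq_self_iff.2
      rw [Subgroup.normalizer_eq_top_iff.2 ‹N'.Normal›]
      trivial
    rw [h2]
  have hconjM₂ : ∀ h ∈ Subgroup.normalizer (Q : Set H), cj h M₂ = M₂ := by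
    intro h hh
    have h1 : cj h M₂ = ⁅cj h M, cj h Q⁆ := Subgroup.map_commutator _ _ _
    rw [h1, cj_eq_self_iff.2 hh, hconjM h hh]
  have hQM : Q ≤ Subgroup.normalizer (M : Set H) := fun q hq =>
    cj_eq_self_iff.1 (hconjM q (Subgroup.le_normalizer hq))
  have hQM₂ : Q ≤ Subgroup.normalizer (M₂ : Set H) := fun q hq =>
    cj_eq_self_iff.1 (hconjM₂ q (Subgroup.le_normalizer hq))
  have hM₂M : M₂ ≤ M := by
    rw [hM₂, Subgroup.commutator_le]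
    intro m hm q hq
    have h1 : ⁅m, q⁆ = m * (q * m⁻¹ * q⁻¹) := by
      rw [commutatorElement_def]; group
    rw [h1]
    exact M.mul_mem hm ((Subgroup.mem_normalizer_iff.1 (hQM hq) _).1 (M.inv_mem hm))
  -- conjugates of `Q` by elements of `A`
  have hcommconj : ∀ (A : Subgroup H) (n : H), n ∈ A → cj n Q ≤ Q ⊔ ⁅A, Q⁆ := by
    intro A n hn
    rintro _ ⟨q, hq, rfl⟩
    have h1 : (MulAut.conj n).toMonoidHom q = ⁅n, q⁆ * q := by
      simp [commutatorElement_def]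
    rw [h1]
    exact Subgroup.mul_mem _ (Subgroup.mem_sup_right (Subgroup.commutator_mem_commutator hn hq))
      (Subgroup.mem_sup_left hq)
  have F7 : ∀ n ∈ N', ∃ c ∈ M, cj n Q = cj c Q := fun n hn =>
    conj_in_sup hwc hQp hQM (hcommconj N' n hn)
  have hnorm : ∀ {n c : H}, cj n Q = cj c Q → c⁻¹ * n ∈ Subgroup.normalizer (Q : Set H) := by
    intro n c h
    rw [← cj_eq_self_iff, cj_mul, h, cj_inv_cj]
  have F8 : ∀ n ∈ N', ∃ b ∈ M₂, ∃ a ∈ Subgroup.normalizer (Q : Set H), n = b * a := by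
    intro n hn
    obtain ⟨c, hc, hnc⟩ := F7 n hn
    have h1 : cj n Q ≤ Q ⊔ M₂ := by
      rw [hnc]
      exact hcommconj M c hc
    obtain ⟨b, hb, hnb⟩ := conj_in_sup hwc hQp hQM₂ h1
    exact ⟨b, hb, b⁻¹ * n, hnorm hnb, by group⟩
  have F9 : M ≤ Q ⊔ M₂ := by
    rw [hM, Subgroup.commutator_le]
    intro n hn q hq
    obtain ⟨b, hb, a, ha, rfl⟩ := F8 n hn
    have hq' : a * q * a⁻¹ ∈ Q := (Subgroup.mem_normalizer_iff.1 ha q).1 hq
    have h1 : ⁅b * a, q⁆ = ⁅b, a * q * a⁻¹⁆ * ((a * q * a⁻¹) * q⁻¹) := by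
      simp only [commutatorElement_def]; group
    rw [h1]
    refine Subgroup.mul_mem _ (Subgroup.mem_sup_right ?_)
      (Subgroup.mem_sup_left (Q.mul_mem hq' (Q.inv_mem hq)))
    exact Subgroup.commutator_mem_commutator (hM₂M hb) hq'
  constructor
  · intro n hn
    obtain ⟨c, hc, hnc⟩ := F7 n⁻¹ (N'.inv_mem hn)
    have h1 := hnorm hnc
    refine ⟨(c⁻¹ * n⁻¹)⁻¹ * 1, ?_, c⁻¹, M.inv_mem hc, by group⟩
    rw [mul_one]
    refine Subgroup.mem_inf.2 ⟨?_, Subgroup.inv_mem _ h1⟩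
    exact N'.inv_mem (N'.mul_mem (N'.inv_mem (hMN hc)) (N'.inv_mem hn))
  · intro c hc
    have h1 := F9 hc
    rw [← SetLike.mem_coe, Subgroup.coe_mul_of_left_le_normalizer_right Q M₂ hQM₂] at h1
    obtain ⟨a, ha, b, hb, hab⟩ := Set.mem_mul.1 h1
    refine ⟨a, Subgroup.mem_inf.2 ⟨ha, ?_⟩, b, hb, hab.symm⟩
    have h2 : a = c * b⁻¹ := by rw [← hab]; group
    rw [h2]
    exact M.mul_mem hc (M.inv_mem (hM₂M hb))

end Cfsg.Agent.S2841
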