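import Cfsg.Statements.S2843
import Cfsg.Agent.Lib.PGroup.LargeSub2
import Cfsg.Agent.S2840

set_option autoImplicit false
open Cfsg
open scoped commutatorElement

namespace Cfsg.Agent.S2843

open Cfsg.Agent.Lib.PGroup.WeaklyClosed Cfsg.Agent.Lib.PGroup.LargeSub Cfsg.Agent.Lib.PGroup.LargeSub2

theorem result {H : Type*} [Group H] [Finite H] {p : ℕ} [Fact p.Prime] (Q : Subgroup H) (hQp : IsPGroup p ↥Q) (hQ1 : Q ≠ ⊥) (hL : Cfsg.IsLarge Q) (L : Subgroup H) (hQL : Q ≤ L) (Y : Subgroup H) (hYp : IsPGroup p ↥Y) (hY1 : Y ≠ ⊥) (hLY : L ≤ Subgroup.normalizer ((Y : Subgroup H) : Set H)) : Cfsg.weakClosure Q L = Cfsg.weakClosure Q (L ⊔ Subgroup.centralizer ((Y : Subgroup H) : Set H)) ∧ ⁅Cfsg.weakClosure Q L, Subgroup.centralizer ((Y : Subgroup H) : Set H)⁆ ≤ (Cfsg.pCoreOf p (Cfsg.weakClosure Q L)) ∧ Subgroup.centralizer ((Y : Subgroup H) : Set H) ≤ Subgroup.normalizer (((Cfsg.weakClosure Q L) : Subgroup H) : Set H) := by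
  have hwc := isWeaklyClosedSubgroup hQp hQ1 hL
  set X : Subgroup H := Subgroup.centralizer ((Y : Subgroup H) : Set H) with hX
  -- Step 1
  have step1 : ∀ l ∈ L, X ≤ Subgroup.normalizer ((cj l Q : Subgroup H) : Set H) := by
    intro l hl
    have hQ'L : cj l Q ≤ L := cj_le_of_mem hl hQL
    have hLarge := isLarge_cj hL l
    obtain ⟨z, hzY, hz1, hzC⟩ := exists_mem_centralizer (isPGroup_cj hQp) hYp (hQ'L.trans hLY) hY1
    set U : Subgroup H := Y ⊓ Subgroup.centralizer ((cj l Q : Subgroup H) : Set H) with hU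
    have hU1 : U ≠ ⊥ := by
      intro h
      have : z ∈ U := Subgroup.mem_inf.2 ⟨hzY, hzC⟩
      rw [h, Subgroup.mem_bot] at this
      exact hz1 this
    have h1 := hLarge.2 U inf_le_right hU1
    refine le_trans ?_ h1
    have h2 : X ≤ Subgroup.centralizer (U : Set H) := Subgroup.centralizer_le inf_le_left
    exact h2.trans (Subgroup.centralizer_le_normalizer _)
  have hLX : L ≤ Subgroup.normalizer (X : Set H) := by
    intro l hl
    rw [← cj_eq_self_iff]
    have h1 := centralizer_cj l Y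
    rw [cj_eq_self_iff.2 (hLY hl)] at h1
    exact h1.symm
  set Lc := Cfsg.weakClosure Q L with hLc
  have hLc' : Lc = ⨆ k : ↥L, cj (k : H) Q := Cfsg.Agent.S2840.eq_iSup Q hQp hwc L hQL
  have hLcL : Lc ≤ L := by
    rw [hLc']
    exact iSup_le fun k => cj_le_of_mem k.2 hQL
  have hLcX : Lc ≤ Subgroup.normalizer (X : Set H) := hLcL.trans hLX
  have hcjLc : ∀ l : ↥L, cj (l : H) Q ≤ Lc := fun l => by
    rw [hLc']
    exact le_iSup (fun k : ↥L => cj (k : H) Q) l
  -- claim 3
  have hXLc : X ≤ Subgroup.normalizer (Lc : Set H) := by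
    intro x hx
    apply Cfsg.Agent.Lib.Basic.Conj.mem_normalizer_of_conj_smul_le
    change cj x Lc ≤ Lc
    have : cj x Lc = ⨆ k : ↥L, cj x (cj (k : H) Q) := by
      rw [hLc']
      exact Subgroup.map_iSup _ _
    rw [this]
    refine iSup_le fun l => ?_
    rw [cj_eq_self_iff.2 (step1 l l.2 hx)]
    exact hcjLc l
  refine ⟨?_, ?_, hXLc⟩
  · -- claim 1
    apply le_antisymm
    · refine iSup_le fun g => ?_
      exact le_iSup (fun g : {g : H // Q.map (MulAut.conj g).toMonoidHom ≤ L ⊔ X} =>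
        Q.map (MulAut.conj (g : H)).toMonoidHom) ⟨g, (g.2).trans le_sup_left⟩
    · refine iSup_le fun g => ?_
      obtain ⟨k, hk, heq⟩ := exists_conj_in_overgroup hwc hQp
        (hQL.trans (le_sup_left : L ≤ L ⊔ X)) g.2
      rw [← SetLike.mem_coe, Subgroup.coe_mul_of_left_le_normalizer_right L X hLX] at hk
      obtain ⟨l, hl, x, hx, rfl⟩ := Set.mem_mul.1 hk
      have hx' : x ∈ Subgroup.normalizer (Q : Set H) := by
        have := step1 1 L.one_mem hx
        simpa using this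
      change cj (g : H) Q ≤ Lc
      rw [heq, cj_mul, cj_eq_self_iff.2 hx']
      exact hcjLc ⟨l, hl⟩
  · -- claim 2
    set D : Subgroup H := X ⊓ Lc with hD
    set S : Subgroup H := Cfsg.pCoreOf p D with hS
    have hLcD : Lc ≤ Subgroup.normalizer (D : Set H) := by
      apply le_normalizer_of_conj_mem
      rintro g hg d ⟨hd₁, hd₂⟩
      exact ⟨(Subgroup.mem_normalizer_iff.1 (hLcX hg) d).1 hd₁, Lc.mul_mem (Lc.mul_mem hg hd₂) (Lc.inv_mem hg)⟩
    have hLcS : Lc ≤ Subgroup.normalizer (S : Set H) :=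
      hLcD.trans (normalizer_le_normalizer_pCoreOf D)
    have key : ⁅Lc, X⁆ ≤ S := by
      rw [hLc']
      apply commutator_iSup_le
      · intro l
        exact (hcjLc l).trans hLcS
      · intro l
        rw [Subgroup.commutator_le]
        intro q hq x hx
        have hq' : q ∈ Lc := hcjLc l hq
        have hxn := step1 l l.2 hx
        -- the commutator lies in `cj l Q ⊓ D`, a normal `p`-subgroup of `D`
        have hmem₁ : ⁅q, x⁆ ∈ cj (l : H) Q := by
          have h1 : ⁅q, x⁆ = q * (x * q⁻¹ * x⁻¹) := by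
            rw [commutatorElement_def]; group
          rw [h1]
          exact Subgroup.mul_mem _ hq ((Subgroup.mem_normalizer_iff.1 hxn _).1 (Subgroup.inv_mem _ hq))
        have hmem₂ : ⁅q, x⁆ ∈ X := by
          rw [commutatorElement_def]
          exact X.mul_mem ((Subgroup.mem_normalizer_iff.1 (hLcX hq') _).1 hx) (X.inv_mem hx)
        have hA : cj (l : H) Q ⊓ D ≤ S := by
          apply le_pCoreOf inf_le_right ((isPGroup_cj hQp).to_le inf_le_left)
          apply le_normalizer_of_conj_mem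
          rintro d hd a ⟨ha₁, ha₂⟩
          refine ⟨?_, D.mul_mem (D.mul_mem hd ha₂) (D.inv_mem hd)⟩
          exact (Subgroup.mem_normalizer_iff.1 (step1 l l.2 hd.1) a).1 ha₁
        exact hA ⟨hmem₁, hmem₂, Lc.mul_mem (Lc.mul_mem hq' ((Subgroup.mem_normalizer_iff.1 (hXLc hx) _).1 (Lc.inv_mem hq'))) (by
          -- `x q⁻¹ x⁻¹ ∈ Lc` then `⁅q, x⁆ ∈ Lc`
          exact Lc.one_mem) |> fun h => by
            have h1 : ⁅q, x⁆ = q * (x * q⁻¹ * x⁻¹) * 1 := by
              rw [commutatorElement_def]; group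
            rw [h1]
            exact h⟩
    refine key.trans ?_
    refine le_pCoreOf ((pCoreOf_le D).trans inf_le_right) (isPGroup_pCoreOf D) hLcS

end Cfsg.Agent.S2843
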