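import Cfsg.Statements.S2844
import Cfsg.Agent.Lib.PGroup.LargeSub

set_option autoImplicit false
open Cfsg

namespace Cfsg.Agent.S2844

open Cfsg.Agent.Lib.PGroup.WeaklyClosed Cfsg.Agent.Lib.PGroup.LargeSub

theorem result {H : Type*} [Group H] [Finite H] {p : ℕ} [Fact p.Prime] (Q : Subgroup H) (hQp : IsPGroup p ↥Q) (hQ1 : Q ≠ ⊥) (hL : Cfsg.IsLarge Q) (Qb : Subgroup H) (hQb : Qb = Cfsg.largeBullet p Q) : (∀ g : H, g ∉ Subgroup.normalizer ((Q : Subgroup H) : Set H) → Subgroup.centralizer ((Q : Subgroup H) : Set H) ⊓ Subgroup.centralizer ((((Q : Subgroup H).map (MulAut.conj (g : H)).toMonoidHom) : Subgroup H) : Set H) = ⊥ ∧ Subgroup.centralizer ((Qb : Subgroup H) : Set H) ⊓ Subgroup.centralizer ((((Qb : Subgroup H).map (MulAut.conj (g : H)).toMonoidHom) : Subgroup H) : Set H) = ⊥ ∧ (Q ⊓ Subgroup.centralizer ((Q : Subgroup H) : Set H)) ⊓ (((Q : Subgroup H).map (MulAut.conj (g : H)).toMonoidHom) ⊓ Subgroup.centralizer ((((Q :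 Subgroup H).map (MulAut.conj (g : H)).toMonoidHom) : Subgroup H) : Set H)) = ⊥ ∧ (Qb ⊓ Subgroup.centralizer ((Qb : Subgroup H) : Set H)) ⊓ (((Qb : Subgroup H).map (MulAut.conj (g : H)).toMonoidHom) ⊓ Subgroup.centralizer ((((Qb : Subgroup H).map (MulAut.conj (g : H)).toMonoidHom) : Subgroup H) : Set H)) = ⊥) ∧ Subgroup.normalizer ((Q : Subgroup H) : Set H) = Subgroup.normalizer ((Qb : Subgroup H) : Set H) ∧ Cfsg.IsLarge Qb := by
  subst hQb
  have hwc := isWeaklyClosedSubgroup hQp hQ1 hL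
  have hle : Q ≤ Cfsg.largeBullet p Q := le_largeBullet hQp
  refine ⟨fun g hg => ?_, normalizer_eq_normalizer_largeBullet hQp hwc, isLarge_largeBullet hQp hQ1 hL⟩
  have h1 := centralizer_inf_eq_bot hQp hQ1 hL hg
  have h2 : Subgroup.centralizer ((Cfsg.largeBullet p Q : Subgroup H) : Set H) ⊓
      Subgroup.centralizer (((Cfsg.largeBullet p Q : Subgroup H).map (MulAut.conj g).toMonoidHom : Subgroup H) : Set H) = ⊥ := by
    rw [eq_bot_iff, ← h1]
    exact inf_le_inf (Subgroup.centralizer_le hle) (Subgroup.centralizer_le (cj_mono hle))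
  refine ⟨h1, h2, ?_, ?_⟩
  · rw [eq_bot_iff, ← h1]
    exact inf_le_inf inf_le_right inf_le_right
  · rw [eq_bot_iff, ← h2]
    exact inf_le_inf inf_le_right inf_le_right

end Cfsg.Agent.S2844
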