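import Cfsg.Statements.S2846
import Mathlib
import Cfsg.Agent.Lib.LocalY.FrakM
import Cfsg.Agent.Lib.PGroup.LargeSub
import Cfsg.Agent.S2840
import Cfsg.Agent.S2843
import Cfsg.Agent.S2845
-- import your own Cfsg.Agent.* helpers here

set_option autoImplicit false
open Cfsg

namespace Cfsg.Agent.S2846

open Subgroup Cfsg.Agent.Lib.LocalY.FrakM

theorem weakClosure_eq_self {H : Type*} [Group H] [Finite H] {p : ℕ} [Fact p.Prime] (Q : Subgroup H)
    (hQp : IsPGroup p ↥Q) (hQ1 : Q ≠ ⊥) (hLg : Cfsg.IsLarge Q) {K : Subgroup H} (hQK : Q ≤ K)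
    (hK : K ≤ normalizer (Q : Set H)) : Cfsg.weakClosure Q K = Q := by
  have hwc := Cfsg.Agent.Lib.PGroup.LargeSub.isWeaklyClosedSubgroup hQp hQ1 hLg
  have h1 := (Cfsg.Agent.S2840.result Q hQp hQ1 hwc K hQK _ rfl).1
  rw [h1]
  apply le_antisymm
  · apply iSup_le
    intro k
    rintro _ ⟨q, hq, rfl⟩
    exact (mem_normalizer_iff.mp (hK k.2) q).mp hq
  · apply le_iSup_of_le (1 : ↥K)
    intro q hq
    exact ⟨q, hq, by simp⟩

theorem le_normalizer_of_weakClosure_eq {H : Type*} [Group H] [Finite H] {p : ℕ} [Fact p.Prime] (Q : Subgroup H)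
    (hQp : IsPGroup p ↥Q) (hQ1 : Q ≠ ⊥) (hLg : Cfsg.IsLarge Q) {K : Subgroup H} (hQK : Q ≤ K)
    (h : Cfsg.weakClosure Q K = Q) : K ≤ normalizer (Q : Set H) := by
  have hwc := Cfsg.Agent.Lib.PGroup.LargeSub.isWeaklyClosedSubgroup hQp hQ1 hLg
  have h1 := (Cfsg.Agent.S2840.result Q hQp hQ1 hwc K hQK _ rfl).1
  rw [h] at h1
  have hconj : ∀ k ∈ K, ∀ q ∈ Q, k * q * k⁻¹ ∈ Q := by
    intro k hk q hq
    rw [h1]
    refine (le_iSup (fun k : ↥K => Q.map (MulAut.conj (k : H)).toMonoidHom) ⟨k, hk⟩) ⟨q, hq, ?_⟩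
    simp [MulAut.conj_apply]
  exact fun k hk => mem_normalizer_of_forall hconj hk

/-- Let Q be a nontrivial large p-subgroup of the finite group H, S a Sylow p-subgroup containing Q, and L a subgroup containing S with O_p(L) ≠ 1 and C_H(O_p(L)) ≤ O_p(L). Then there are a subgroup M containing S having the basic property (M ∈ 𝔐_H, writing Y_X for the largest p-reduced normal subgroup of X and 𝓛_H for the set of subgroups X with O_p(X) ≠ 1 and C_H(O_p(X)) ≤ O_p(X): M ∈ 𝓛_H, M·C_H(Y_M) is the only maximal member of 𝓛_H containing M and its largest p-reduced normal subgroup is again Y_M, C_M(Y_M) is p-closed, and the image of C_M(Y_M) in M/O_p(M) lies in the Frattini subgroup of M/O_p(M)) and a subgroup L* with S ≤ L* ≤ M, O_p(L*) ≠ 1, C_H(O_p(L*)) ≤ O_p(L*), such that L·C_H(Y_L) = L*·C_H(Y_L), the weak closures of Q in L and in L* agree and lie in that of M, and Y_L = Y_{L*} ≤ Y_M. If moreover Q is not normal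 in L, then Q is normal in neither L* nor M. -/
theorem result {H : Type*} [Group H] [Finite H] {p : ℕ} [Fact p.Prime] (Q : Subgroup H) (hQp : IsPGroup p ↥Q) (hQ1 : Q ≠ ⊥) (hLg : Cfsg.IsLarge Q) (S : Sylow p H) (hQS : Q ≤ (S : Subgroup H)) (L : Subgroup H) (hSL : (S : Subgroup H) ≤ L) (hL : L ∈ Cfsg.charPSubgroups p H) : ∃ M Ls : Subgroup H, (S : Subgroup H) ≤ M ∧ Cfsg.IsInFrakM p M ∧ (S : Subgroup H) ≤ Ls ∧ Ls ≤ M ∧ Ls ∈ Cfsg.charPSubgroups p H ∧ L ⊔ Subgroup.centralizer (((Cfsg.largestPReducedOf p L) : Subgroup H) : Set H) = Ls ⊔ Subgroup.centralizer (((Cfsg.largestPReducedOf p L) : Subgroup H) : Set H) ∧ Cfsg.weakClosure Q L = Cfsg.weakClosure Q Ls ∧ Cfsg.weakClosure Q Ls ≤ Cfsg.weakClosure Q M ∧ (Cfsg.largestPReducedOf p L) = (Cfsg.largestPReducedOf p Ls) ∧ (Cfsg.largestPReducedOf p Ls) ≤ (Cfsg.largestPReducedOf p M) ∧ (¬ L ≤ Subgroup.normalizer ((Q : Subgroup H) : Set H) → ¬ Ls ≤ Subgroup.normalizer ((Q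 : Subgroup H) : Set H) ∧ ¬ M ≤ Subgroup.normalizer ((Q : Subgroup H) : Set H)) := by
  obtain ⟨-, -, hpar⟩ := Cfsg.Agent.S2845.result Q hQp hQ1 hLg
  obtain ⟨M, Ls, hSM, hM, hSLs, hLsM, hLs, hY, hYM, hsup⟩ :=
    Cfsg.Agent.Lib.LocalY.FrakM.exists_frak hpar S L hSL hL
  have hQL : Q ≤ L := hQS.trans hSL
  have hQLs : Q ≤ Ls := hQS.trans hSLs
  have hYT : Cfsg.largestPReducedOf p L ≤ S := largest_le_sylow S hSL hL
  have hYp : IsPGroup p ↥(Cfsg.largestPReducedOf p L) := S.isPGroup'.to_le hYT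
  have hY1 : Cfsg.largestPReducedOf p L ≠ ⊥ := largest_ne_bot S hSL hL
  have hLN : L ≤ normalizer ((Cfsg.largestPReducedOf p L : Subgroup H) : Set H) :=
    fun x hx => mem_normalizer_of_forall (prd_largest (hchar_of_mem hL)).conj hx
  have hLsN : Ls ≤ normalizer ((Cfsg.largestPReducedOf p L : Subgroup H) : Set H) := by
    rw [hY]
    exact fun x hx => mem_normalizer_of_forall (prd_largest (hchar_of_mem hLs)).conj hx
  have h1 := (Cfsg.Agent.S2843.result Q hQp hQ1 hLg L hQL _ hYp hY1 hLN).1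
  have h2 := (Cfsg.Agent.S2843.result Q hQp hQ1 hLg Ls hQLs _ hYp hY1 hLsN).1
  have hwc : Cfsg.weakClosure Q L = Cfsg.weakClosure Q Ls := by
    rw [h1, h2, hsup]
  have hmono : Cfsg.weakClosure Q Ls ≤ Cfsg.weakClosure Q M := by
    apply iSup_le
    intro g
    exact le_iSup_of_le (⟨(g : H), g.2.trans hLsM⟩ : {g : H // Q.map (MulAut.conj g).toMonoidHom ≤ M}) le_rfl
  refine ⟨M, Ls, hSM, hM, hSLs, hLsM, hLs, hsup, hwc, hmono, hY, hY ▸ hYM, ?_⟩
  intro hLnot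
  have hLsnot : ¬ Ls ≤ normalizer ((Q : Subgroup H) : Set H) := by
    intro hLsQ
    apply hLnot
    apply le_normalizer_of_weakClosure_eq Q hQp hQ1 hLg hQL
    rw [hwc]
    exact weakClosure_eq_self Q hQp hQ1 hLg hQLs hLsQ
  exact ⟨hLsnot, fun hMQ => hLsnot (hLsM.trans hMQ)⟩

end Cfsg.Agent.S2846
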