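import Cfsg.Statements.S2849
import Mathlib
import Cfsg.Agent.Lib.LocalY.Kieler
-- import your own Cfsg.Agent.* helpers here

set_option autoImplicit false
open Cfsg

namespace Cfsg.Agent.S2849

open Subgroup Cfsg.Agent.Lib.LocalY.Kieler Cfsg.Agent.Lib.LocalY.NoChar Cfsg.Agent.Lib.LocalY.Transfer
open scoped commutatorElement


/-- Standing hypotheses: G a finite group, S a Sylow p-subgroup, Q a nontrivial large p-subgroup of G contained in S (C_G(Q) ≤ Q and N_G(U) ≤ N_G(Q) for all nontrivial U ≤ C_G(Q)), and M a subgroup containing S with the basic property (M ∈ 𝔐_G(S)); Y_M denotes the largest p-reduced normal subgroup of M and M† = M·C_G(Y_M). Suppose Y_M is asymmetric in G. Then for every subgroup R with Y_M ≤ R ≤ M†, the normal closure of Y_M in N_G(R) is elementary abelian. -/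
theorem result {G : Type*} [Group G] [Finite G] {p : ℕ} [Fact p.Prime] (S : Sylow p G) (Q : Subgroup G) (hQp : IsPGroup p ↥Q) (hQ1 : Q ≠ ⊥) (hQS : Q ≤ (S : Subgroup G)) (hQ : Cfsg.IsLarge Q) (M : Subgroup G) (hSM : (S : Subgroup G) ≤ M) (hM : Cfsg.IsInFrakM p M) (hasym : ¬ Cfsg.IsSymmetricIn (Cfsg.largestPReducedOf p M)) (R : Subgroup G) (hYR : (Cfsg.largestPReducedOf p M) ≤ R) (hRM : R ≤ (M ⊔ Subgroup.centralizer (((Cfsg.largestPReducedOf p M) : Subgroup G) : Set G))) : Cfsg.IsElementaryAbelian p ((Subgroup.normalClosure ((((Cfsg.largestPReducedOf p M)).subgroupOf (Subgroup.normalizer ((R : Subgroup G) : Set G)) : Subgroup ↥(Subgroup.normalizer ((R : Subgroup G) : Set G))) : Set ↥(Subgroup.normalizer ((R : Subgroup G) : Set G)))).map (Subgroup.normalizer ((R : Subgroup G) : Set G)).subtype) := by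
  set Y : Subgroup G := largestPReducedOf p M with hYdef
  set N : Subgroup G := normalizer ((R : Subgroup G) : Set G) with hN
  have hY : IsPReducedNormal p (largestPReduced p ↥M) := isPReducedNormal_largest'
  have hYM : Y ≤ M := Subgroup.map_subtype_le _
  have hYsub : Y.subgroupOf M = largestPReduced p ↥M :=
    Subgroup.comap_map_eq_self_of_injective M.subtype_injective _
  have hYnM : (Y.subgroupOf M).Normal := by
    rw [hYsub]
    exact hY.1
  have hYmem : ∀ u ∈ Y, ∃ hu : u ∈ M, (⟨u, hu⟩ : ↥M) ∈ largestPReduced p ↥M := by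
    rintro _ ⟨y₀, hy₀, rfl⟩
    exact ⟨y₀.2, hy₀⟩
  have hYc : ∀ a ∈ Y, ∀ b ∈ Y, a * b = b * a := by
    intro a ha b hb
    obtain ⟨ha1, ha2⟩ := hYmem a ha
    obtain ⟨hb1, hb2⟩ := hYmem b hb
    have h0 : (⟨a, ha1⟩ : ↥M) * ⟨b, hb1⟩ = ⟨b, hb1⟩ * ⟨a, ha1⟩ :=
      congrArg Subtype.val (hY.2.1.1.1.1 ⟨_, ha2⟩ ⟨_, hb2⟩)
    exact congrArg Subtype.val h0
  have hYp : ∀ a ∈ Y, a ^ p = 1 := by
    intro a ha
    obtain ⟨ha1, ha2⟩ := hYmem a ha
    have h1 := hY.2.1.2 _ ha2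
    exact congrArg Subtype.val h1
  -- `M†` normalizes `Y`
  have hnorm : M ⊔ centralizer (Y : Set G) ≤ normalizer (Y : Set G) := by
    apply sup_le (le_normalizer_of_normal hYM hYnM)
    exact Subgroup.centralizer_le_normalizer _
  have hconj : ∀ x ∈ R, ∀ y ∈ Y, x * y * x⁻¹ ∈ Y := fun x hx y hy =>
    (Subgroup.mem_normalizer_iff.mp (hnorm (hRM hx)) y).mp hy
  have hYN : Y ≤ N := hYR.trans Subgroup.le_normalizer
  -- commuting of conjugates under `N`
  have hkey : ∀ g ∈ N, ∀ a ∈ Y, ∀ b ∈ Y, a * (g * b * g⁻¹) = (g * b * g⁻¹) * a := by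
    intro g hg a ha b hb
    have hgY : g * b * g⁻¹ ∈ R := (Subgroup.mem_normalizer_iff.mp hg _).mp (hYR hb)
    have hgY2 : g⁻¹ * a * g ∈ R := by
      apply (Subgroup.mem_normalizer_iff.mp hg _).mpr
      have : g * (g⁻¹ * a * g) * g⁻¹ = a := by group
      rw [this]
      exact hYR ha
    by_contra hne
    apply hasym
    refine ⟨g, ?_, ?_⟩
    · intro hbot
      apply hne
      have h1 : ⁅a, g * b * g⁻¹⁆ ∈ ⁅Y, Y.map (MulAut.conj g).toMonoidHom⁆ :=
        Subgroup.commutator_mem_commutator ha ⟨b, hb, rfl⟩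
      rw [hbot, Subgroup.mem_bot, commutatorElement_eq_one_iff_mul_comm] at h1
      exact h1
    · rw [Subgroup.commutator_le]
      rintro x hx _ ⟨y, hy, rfl⟩
      have hgy : g * y * g⁻¹ ∈ R := (Subgroup.mem_normalizer_iff.mp hg _).mp (hYR hy)
      have hx2 : g⁻¹ * x * g ∈ R := by
        apply (Subgroup.mem_normalizer_iff.mp hg _).mpr
        have : g * (g⁻¹ * x * g) * g⁻¹ = x := by group
        rw [this]
        exact hYR hx
      show ⁅x, g * y * g⁻¹⁆ ∈ Y ⊓ Y.map (MulAut.conj g).toMonoidHom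
      constructor
      · have h2 : ⁅x, g * y * g⁻¹⁆ = x * ((g * y * g⁻¹) * x⁻¹ * (g * y * g⁻¹)⁻¹) := by
          simp only [commutatorElement_def]
          group
        rw [h2]
        exact Y.mul_mem hx (hconj _ hgy _ (Y.inv_mem hx))
      · have h3 := hconj _ hx2 y hy
        refine ⟨(g⁻¹ * x * g) * y * (g⁻¹ * x * g)⁻¹ * y⁻¹, Y.mul_mem h3 (Y.inv_mem hy), ?_⟩
        show g * ((g⁻¹ * x * g) * y * (g⁻¹ * x * g)⁻¹ * y⁻¹) * g⁻¹ = ⁅x, g * y * g⁻¹⁆
        simp only [commutatorElement_def]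
        group
  -- the closure
  set X : Set ↥N := Group.conjugatesOfSet ((Y.subgroupOf N : Subgroup ↥N) : Set ↥N) with hX
  have hXm : ∀ x ∈ X, ∃ c : ↥N, ∃ y ∈ Y, (x : G) = c * y * (c : G)⁻¹ := by
    intro x hx
    obtain ⟨a, ha, hax⟩ := Group.mem_conjugatesOfSet_iff.mp hx
    obtain ⟨c, hc⟩ := isConj_iff.mp hax
    refine ⟨c, (a : G), Subgroup.mem_subgroupOf.mp ha, ?_⟩
    rw [← hc]
    simp
  have hXc : ∀ x ∈ X, ∀ y ∈ X, x * y = y * x := by
    intro x hx y hy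
    obtain ⟨c, a, ha, hxc⟩ := hXm x hx
    obtain ⟨d, b, hb, hyd⟩ := hXm y hy
    apply Subtype.ext
    show (x : G) * y = y * x
    rw [hxc, hyd]
    have h1 := hkey ((c : G)⁻¹ * d) (N.mul_mem (N.inv_mem c.2) d.2) a ha b hb
    calc (c : G) * a * (c : G)⁻¹ * ((d : G) * b * (d : G)⁻¹)
        = (c : G) * (a * (((c : G)⁻¹ * d) * b * ((c : G)⁻¹ * d)⁻¹)) * (c : G)⁻¹ := by group
      _ = (c : G) * ((((c : G)⁻¹ * d) * b * ((c : G)⁻¹ * d)⁻¹) * a) * (c : G)⁻¹ := by rw [h1]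
      _ = (d : G) * b * (d : G)⁻¹ * ((c : G) * a * (c : G)⁻¹) := by group
  have hXp : ∀ x ∈ X, x ^ p = 1 := by
    intro x hx
    obtain ⟨c, a, ha, hxc⟩ := hXm x hx
    apply Subtype.ext
    show (x : G) ^ p = 1
    rw [hxc, conj_pow, hYp a ha]
    simp
  have hcl : (normalClosure ((Y.subgroupOf N : Subgroup ↥N) : Set ↥N)) = closure X := rfl
  refine ⟨⟨⟨?_⟩⟩, ?_⟩
  · rintro ⟨_, a, ha, rfl⟩ ⟨_, b, hb, rfl⟩
    apply Subtype.ext
    rw [hcl] at ha hb
    have h1 := closure_comm hXc a ha b hb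
    have h2 : (a : G) * b = b * a := congrArg Subtype.val h1
    exact h2
  · rintro _ ⟨a, ha, rfl⟩
    rw [hcl] at ha
    have h1 := closure_pow hXc hXp a ha
    have h2 : (a : G) ^ p = 1 := congrArg Subtype.val h1
    exact h2

end Cfsg.Agent.S2849
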