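import Cfsg.Statements.S2850
import Mathlib
import Cfsg.Agent.Lib.LocalY.Asym
-- import your own Cfsg.Agent.* helpers here

set_option autoImplicit false
open Cfsg

namespace Cfsg.Agent.S2850

open Subgroup Cfsg.Agent.Lib.LocalY.Asym Cfsg.Agent.Lib.LocalY.FrakM Cfsg.Agent.Lib.PGroup.WeaklyClosed

/-- Standing hypotheses: G a finite group, S a Sylow p-subgroup, Q a nontrivial large p-subgroup of G contained in S (C_G(Q) ≤ Q and N_G(U) ≤ N_G(Q) for all nontrivial U ≤ C_G(Q)), and M a subgroup containing S with the basic property (M ∈ 𝔐_G(S)); Y_M denotes the largest p-reduced normal subgroup of M and M† = M·C_G(Y_M). Suppose Y_M is asymmetric in G. Then N_G(L) ≤ N_G(O_p(M)) ≤ M† for every p-subgroup L containing O_p(M); O_p(M) is a weakly closed subgroup of G; for every subgroup L containing O_p(M), L ∩ M† contains a Sylow p-subgroup of L; and two elements of Y_M conjugate in G are conjugate in M. -/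
theorem result {G : Type*} [Group G] [Finite G] {p : ℕ} [Fact p.Prime] (S : Sylow p G) (Q : Subgroup G) (hQp : IsPGroup p ↥Q) (hQ1 : Q ≠ ⊥) (hQS : Q ≤ (S : Subgroup G)) (hQ : Cfsg.IsLarge Q) (M : Subgroup G) (hSM : (S : Subgroup G) ≤ M) (hM : Cfsg.IsInFrakM p M) (hasym : ¬ Cfsg.IsSymmetricIn (Cfsg.largestPReducedOf p M)) : (∀ L : Subgroup G, IsPGroup p ↥L → (Cfsg.pCoreOf p M) ≤ L → Subgroup.normalizer ((L : Subgroup G) : Set G) ≤ Subgroup.normalizer (((Cfsg.pCoreOf p M) : Subgroup G) : Set G) ∧ Subgroup.normalizer (((Cfsg.pCoreOf p M) : Subgroup G) : Set G) ≤ (M ⊔ Subgroup.centralizer (((Cfsg.largestPReducedOf p M) : Subgroup G) : Set G))) ∧ Cfsg.IsWeaklyClosedSubgroup p (Cfsg.pCoreOf p M) ∧ (∀ L : Subgroup G, (Cfsg.pCoreOf p M) ≤ L → Cfsg.IsParabolic p ((L ⊓ (M ⊔ Subgroup.centralizer (((Cfsg.largestPReducedOf p M) : Subgroup G) : Set G))).subgroupOf L)) ∧ (∀ x ∈ (Cfsg.largestPReducedOf p M), ∀ g : G, g * x * g⁻¹ ∈ (Cfsg.largestPReducedOf p M) →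 ∃ m ∈ M, m * x * m⁻¹ = g * x * g⁻¹) := by
  set Y : Subgroup G := largestPReducedOf p M with hY
  set P : Subgroup G := pCoreOf p M with hP
  have hH : Hyp p P Y := hyp_of hQp hQ1 hQS hQ hSM hM hasym
  have hN : normalizer (Y : Set G) = M ⊔ centralizer (Y : Set G) :=
    normalizer_eq_dagger (S := S) hQp hQ1 hQ hSM hM
  have hweak := hH.weak
  have hPS : P ≤ (S : Subgroup G) := by
    rw [hP, pCoreOf_eq_inf hSM hM]
    exact inf_le_left
  have hNP : normalizer (P : Set G) ≤ M ⊔ centralizer (Y : Set G) := by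
    rw [← hN]
    exact hH.norm
  refine ⟨?_, ⟨S, hPS, hweak S S.isPGroup' hPS⟩, ?_, ?_⟩
  · intro L hLp hPL
    refine ⟨?_, hNP⟩
    intro x hx
    have h1 : cj x L = L := cj_eq_self_iff.2 hx
    have h2 : cj x P ≤ L := by
      have h3 := cj_mono (g := x) hPL
      rwa [h1] at h3
    exact cj_eq_self_iff.1 (hweak L hLp hPL x h2)
  · intro L hPL
    have hp2 : IsPGroup p (P.subgroupOf L) := hH.pgroup.comap_subtype
    obtain ⟨T, hT⟩ := hp2.exists_le_sylow
    refine ⟨T, ?_⟩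
    intro t ht
    rw [Subgroup.mem_subgroupOf]
    refine ⟨t.2, hNP ?_⟩
    set R : Subgroup G := (T : Subgroup ↥L).map L.subtype with hR
    have hRp : IsPGroup p R := T.isPGroup'.map _
    have hPR : P ≤ R := by
      intro x hx
      exact ⟨⟨x, hPL hx⟩, hT (Subgroup.mem_subgroupOf.mpr hx), rfl⟩
    have htR : (t : G) ∈ R := ⟨t, ht, rfl⟩
    exact cj_eq_self_iff.1 (hweak R hRp hPR t (cj_le_of_mem htR hPR))
  · intro x hx g hg
    set z : G := g * x * g⁻¹ with hz
    set C : Subgroup G := centralizer ({z} : Set G) with hC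
    have hmemC : ∀ c : G, (∀ y ∈ Y, c * y = y * c) → c ∈ C := by
      intro c hc
      rw [hC, mem_centralizer_iff]
      intro w hw
      have hw' : w = z := hw
      rw [hw']
      exact (hc z hg).symm
    have hPC : P ≤ C := by
      intro q hq
      apply hmemC
      intro y hy
      exact (mem_centralizer_iff.mp (hH.cent hq) y hy).symm
    have hgPC : cj g P ≤ C := by
      rintro _ ⟨q, hq, rfl⟩
      rw [hC, mem_centralizer_iff]
      intro w hw
      have hw' : w = z := hw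
      rw [hw', hz]
      have h1 := mem_centralizer_iff.mp (hH.cent hq) x hx
      show g * x * g⁻¹ * (g * q * g⁻¹) = g * q * g⁻¹ * (g * x * g⁻¹)
      calc g * x * g⁻¹ * (g * q * g⁻¹) = g * (x * q) * g⁻¹ := by group
        _ = g * (q * x) * g⁻¹ := by rw [h1]
        _ = g * q * g⁻¹ * (g * x * g⁻¹) := by group
    have hp1 : IsPGroup p (P.subgroupOf C) := hH.pgroup.comap_subtype
    have hp2 : IsPGroup p ((cj g P).subgroupOf C) := (isPGroup_cj hH.pgroup).comap_subtype
    obtain ⟨T₁, hT₁⟩ := hp1.exists_le_sylow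
    obtain ⟨T₂, hT₂⟩ := hp2.exists_le_sylow
    obtain ⟨c, hc⟩ := MulAction.exists_smul_eq ↥C T₂ T₁
    set R : Subgroup G := (T₁ : Subgroup ↥C).map C.subtype with hR
    have hRp : IsPGroup p R := T₁.isPGroup'.map _
    have hPR : P ≤ R := by
      intro q hq
      exact ⟨⟨q, hPC hq⟩, hT₁ (Subgroup.mem_subgroupOf.mpr hq), rfl⟩
    have hcgR : cj ((c : G) * g) P ≤ R := by
      rintro _ ⟨q, hq, rfl⟩
      have hq2 : g * q * g⁻¹ ∈ cj g P := ⟨q, hq, rfl⟩
      have hq3 : (⟨g * q * g⁻¹, hgPC hq2⟩ : ↥C) ∈ (T₂ : Subgroup ↥C) :=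
        hT₂ (Subgroup.mem_subgroupOf.mpr hq2)
      have hq4 : c * (⟨g * q * g⁻¹, hgPC hq2⟩ : ↥C) * c⁻¹ ∈ (T₁ : Subgroup ↥C) := by
        rw [← hc, Sylow.smul_def, Sylow.pointwise_smul_def, Subgroup.mem_pointwise_smul_iff_inv_smul_mem]
        simpa [MulAut.smul_def, MulAut.conj_inv_apply, mul_assoc] using hq3
      refine ⟨_, hq4, ?_⟩
      show (c : G) * (g * q * g⁻¹) * (c : G)⁻¹ = ((c : G) * g) * q * ((c : G) * g)⁻¹
      group
    have h1 := hweak R hRp hPR _ hcgR
    have h2 : (c : G) * g ∈ M ⊔ centralizer (Y : Set G) := hNP (cj_eq_self_iff.1 h1)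
    have hMnorm : M ≤ normalizer ((centralizer (Y : Set G) : Subgroup G) : Set G) := by
      refine le_trans ?_ (Cfsg.Agent.Lib.LocalY.Transfer.normalizer_le_normalizer_centralizer Y)
      rw [hN]
      exact le_sup_left
    obtain ⟨m, hm, d, hd, e⟩ := exists_mul_of_mem_sup hMnorm h2
    refine ⟨m, hm, ?_⟩
    have h3 : d * x = x * d := (mem_centralizer_iff.mp hd x hx).symm
    have h4 : (c : G) * z = z * c := by
      have := mem_centralizer_iff.mp c.2 z rfl
      exact this.symm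
    have h5 : ((c : G) * g) * x * ((c : G) * g)⁻¹ = z := by
      calc ((c : G) * g) * x * ((c : G) * g)⁻¹ = (c : G) * z * (c : G)⁻¹ := by
            rw [hz]
            group
        _ = z := by rw [h4]; group
    rw [e] at h5
    have h6 : m * d * x * (m * d)⁻¹ = m * x * m⁻¹ := by
      calc m * d * x * (m * d)⁻¹ = m * (d * x) * d⁻¹ * m⁻¹ := by group
        _ = m * (x * d) * d⁻¹ * m⁻¹ := by rw [h3]
        _ = m * x * m⁻¹ := by group
    rw [← h6, h5]

end Cfsg.Agent.S2850
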