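import Cfsg.Statements.S2851
import Mathlib
import Cfsg.Agent.Lib.LocalY.FStarDagger
import Cfsg.Agent.S2849
-- import your own Cfsg.Agent.* helpers here

set_option autoImplicit false
open Cfsg

namespace Cfsg.Agent.S2851

open Subgroup Cfsg.Agent.Lib.LocalY.Asym Cfsg.Agent.Lib.LocalY.FrakM Cfsg.Agent.Lib.LocalY.FrakH
open Cfsg.Agent.Lib.PGroup.WeaklyClosed Cfsg.Agent.Lib.LocalY.FStarDagger
open Cfsg.Agent.Lib.LocalY.Kieler (conj_mem_pCoreOf not_dvd_relIndex_inf)

/-- Standing hypotheses: G a finite group, S a Sylow p-subgroup, Q a nontrivial large p-subgroup of G contained in S, M a subgroup containing S with the basic property (M ∈ 𝔐_G(S)); Y_M the largest p-reduced normal subgroup of M and M† = M·C_G(Y_M). Let F be the preimage in M† of the generalized Fitting subgroup of M†/C_{M†}(Y_M). If Y_M is asymmetric in G and H is a subgroup of characteristic p containing F, then Y_M ≤ Y_H. -/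
theorem result {G : Type*} [Group G] [Finite G] {p : ℕ} [Fact p.Prime] (S : Sylow p G) (Q : Subgroup G) (hQp : IsPGroup p ↥Q) (hQ1 : Q ≠ ⊥) (hQS : Q ≤ (S : Subgroup G)) (hQ : Cfsg.IsLarge Q) (M : Subgroup G) (hSM : (S : Subgroup G) ≤ M) (hM : Cfsg.IsInFrakM p M) (hasym : ¬ Cfsg.IsSymmetricIn (Cfsg.largestPReducedOf p M)) [hn : ((Subgroup.centralizer (((Cfsg.largestPReducedOf p M) : Subgroup G) : Set G)).subgroupOf (M ⊔ Subgroup.centralizer (((Cfsg.largestPReducedOf p M) : Subgroup G) : Set G))).Normal] (F : Subgroup G) (hF : F = ((Cfsg.generalizedFittingSubgroup (↥(M ⊔ Subgroup.centralizer (((Cfsg.largestPReducedOf p M) : Subgroup G) : Set G)) ⧸ (Subgroup.centralizer (((Cfsg.largestPReducedOf p M) : Subgroup G) : Set G)).subgroupOf (M ⊔ Subgroup.centralizer (((Cfsg.largestPReducedOf p M) : Subgroup G) : Set G)))).comap (QuotientGroup.mk' ((Subgroup.centralizer (((Cfsg.largestPReducedOf p M) : Subgroup G) : Set G)).subgroupOf (M ⊔ Subgroup.centralizer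 (((Cfsg.largestPReducedOf p M) : Subgroup G) : Set G))))).map ((M ⊔ Subgroup.centralizer (((Cfsg.largestPReducedOf p M) : Subgroup G) : Set G))).subtype) (H : Subgroup G) (hFH : F ≤ H) (hH : Subgroup.centralizer (Cfsg.pCore p ↥H : Set ↥H) ≤ Cfsg.pCore p ↥H) : (Cfsg.largestPReducedOf p M) ≤ Cfsg.largestPReducedOf p H := by
  set Y : Subgroup G := largestPReducedOf p M with hY
  set P : Subgroup G := pCoreOf p M with hP
  have hA : Hyp p P Y := hyp_of hQp hQ1 hQS hQ hSM hM hasym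
  have hNY : normalizer (Y : Set G) = M ⊔ centralizer (Y : Set G) :=
    normalizer_eq_dagger (S := S) hQp hQ1 hQ hSM hM
  set C : Subgroup G := centralizer (Y : Set G) with hC
  set D : Subgroup G := M ⊔ C with hD
  have hDch := hchar_of_mem hM.2.1.1
  have hPrd : Prd p D Y := by
    have h1 := prd_largest hDch
    rwa [← hM.2.2.2.1] at h1
  have hcore : pCore p (↥D ⧸ C.subgroupOf D) = ⊥ := by
    rw [Cfsg.Agent.Lib.LocalY.Basic.core_eq_bot_iff]
    intro N hN hm
    have h1 := hPrd.core (N.map D.subtype) (Subgroup.map_subtype_le N) (by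
      rintro a ha _ ⟨n, hn', rfl⟩
      exact ⟨⟨a, ha⟩ * n * (⟨a, ha⟩ : ↥D)⁻¹, hN.conj_mem n hn' _, by simp⟩) (by
      rintro _ ⟨n, hn', rfl⟩
      obtain ⟨k, hk⟩ := hm n hn'
      refine ⟨k, ?_⟩
      have h2 := Subgroup.mem_subgroupOf.mp hk
      simpa using h2)
    intro n hn'
    rw [Subgroup.mem_subgroupOf]
    exact h1 ⟨n, hn', rfl⟩
  have hFD : F ≤ D := by
    rw [hF]
    exact Subgroup.map_subtype_le _
  have hCDF : D ⊓ C ≤ F := by
    rw [hF]
    intro x hx
    refine ⟨⟨x, hx.1⟩, ?_, rfl⟩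
    show QuotientGroup.mk' (C.subgroupOf D) ⟨x, hx.1⟩ ∈ generalizedFittingSubgroup (↥D ⧸ C.subgroupOf D)
    have h1 : QuotientGroup.mk' (C.subgroupOf D) ⟨x, hx.1⟩ = 1 :=
      (QuotientGroup.eq_one_iff _).mpr (Subgroup.mem_subgroupOf.mpr hx.2)
    rw [h1]
    exact one_mem _
  have hPM : P ≤ M := pCoreOf_le M
  have hPD : P ≤ D := hPM.trans le_sup_left
  have hPH : P ≤ H := (le_inf hPD hA.cent).trans (hCDF.trans hFH)
  have hYH : Y ≤ H := hA.le.trans hPH
  have hHc := charP_iff.mp hH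
  set R : Subgroup G := pCoreOf p H with hR
  have hRp : IsPGroup p R := isPGroup_pCoreOf H
  have hRH : R ≤ H := pCoreOf_le H
  have hHR : ∀ h ∈ H, ∀ r ∈ R, h * r * h⁻¹ ∈ R := fun h hh r hr => conj_mem_pCoreOf hh hr
  have hHNR : H ≤ normalizer ((R : Subgroup G) : Set G) := fun h hh => mem_normalizer_of_forall hHR hh
  have hRN : R ≤ normalizer (P : Set G) := by
    intro r hr
    have hp : IsPGroup p ↥(P ⊔ R) :=
      IsPGroup.to_sup_of_normal_right' hA.pgroup hRp (hPH.trans hHNR)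
    have h1 := hA.weak (P ⊔ R) hp le_sup_left r
      (cj_le_of_mem ((le_sup_right : R ≤ P ⊔ R) hr) le_sup_left)
    exact cj_eq_self_iff.1 h1
  have hND : normalizer (P : Set G) ≤ D := by
    rw [← hNY]
    exact hA.norm
  have hRD : R ≤ D := hRN.trans hND
  have hRC : R ≤ C := by
    apply le_of_le_normalizer hcore hF hRD
    · intro r hr
      obtain ⟨k, hk⟩ := hRp ⟨r, hr⟩
      refine ⟨k, ?_⟩
      have h2 : r ^ p ^ k = 1 := congrArg Subtype.val hk
      rw [h2]
      exact one_mem _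
    · exact hFH.trans hHNR
  have hRP : R ≤ P := hA.le_of_norm hRp hRC hRN
  have hYR : Y ≤ R := by
    intro y hy
    apply hHc
    refine ⟨hYH hy, ?_⟩
    show y ∈ centralizer ((R : Subgroup G) : Set G)
    rw [mem_centralizer_iff]
    intro r hr
    exact (mem_centralizer_iff.mp (hRC hr) y hy).symm
  -- the normal closure of `Y` in `H`
  have hEA := Cfsg.Agent.S2849.result S Q hQp hQ1 hQS hQ M hSM hM hasym R hYR hRD
  set Nn : Subgroup G := normalizer ((R : Subgroup G) : Set G) with hNn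
  set A₀ : Subgroup G := (normalClosure ((Y.subgroupOf Nn : Subgroup ↥Nn) : Set ↥Nn)).map Nn.subtype with hA₀
  set A : Subgroup G := ⨆ h : ↥H, cj (h : G) Y with hAdef
  have hYA : Y ≤ A := by
    have h1 := le_iSup (fun h : ↥H => cj (h : G) Y) 1
    simpa using h1
  have hAH : A ≤ H := by
    apply iSup_le
    rintro ⟨h, hh⟩
    exact cj_le_of_mem hh hYH
  have hAA₀ : A ≤ A₀ := by
    apply iSup_le
    rintro ⟨h, hh⟩
    rintro _ ⟨y, hy, rfl⟩
    have hyN : y ∈ Nn := Subgroup.le_normalizer (hYR hy)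
    have hhN : h ∈ Nn := hHNR hh
    have h1 : (⟨y, hyN⟩ : ↥Nn) ∈ normalClosure ((Y.subgroupOf Nn : Subgroup ↥Nn) : Set ↥Nn) :=
      Subgroup.subset_normalClosure (Subgroup.mem_subgroupOf.mpr hy)
    have h2 := (Subgroup.normalClosure_normal (s := ((Y.subgroupOf Nn : Subgroup ↥Nn) : Set ↥Nn))).conj_mem _ h1 ⟨h, hhN⟩
    exact ⟨_, h2, rfl⟩
  have hcjle : ∀ h ∈ H, cj h A ≤ A := by
    intro h hh
    rw [hAdef]
    show Subgroup.map _ _ ≤ _
    rw [Subgroup.map_iSup]
    apply iSup_le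
    intro y
    have h2 := le_iSup (fun z : ↥H => cj (z : G) Y) (⟨h, hh⟩ * y)
    have h3 : cj (((⟨h, hh⟩ : ↥H) * y : ↥H) : G) Y = cj h (cj (y : G) Y) := by
      rw [← cj_mul]
      rfl
    rw [h3] at h2
    exact h2
  have hAn : ∀ h ∈ H, ∀ a ∈ A, h * a * h⁻¹ ∈ A := fun h hh a ha => hcjle h hh (conj_mem_cj ha)
  have hACY : centralizer (A : Set G) ≤ C := Subgroup.centralizer_le (SetLike.coe_subset_coe.mpr hYA)
  -- a Sylow subgroup of `H` inside `D`
  have hp2 : IsPGroup p (P.subgroupOf H) := hA.pgroup.comap_subtype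
  obtain ⟨T', hT'⟩ := hp2.exists_le_sylow
  set T₁ : Subgroup G := (T' : Subgroup ↥H).map H.subtype with hT₁
  have hT₁p : IsPGroup p T₁ := T'.isPGroup'.map _
  have hPT₁ : P ≤ T₁ := fun x hx => ⟨⟨x, hPH hx⟩, hT' (Subgroup.mem_subgroupOf.mpr hx), rfl⟩
  have hT₁D : T₁ ≤ D := by
    intro t ht
    apply hND
    exact cj_eq_self_iff.1 (hA.weak T₁ hT₁p hPT₁ t (cj_le_of_mem ht hPT₁))
  have hT₁i : ¬ p ∣ T₁.relIndex H := by
    have h1 : T₁.subgroupOf H = (T' : Subgroup ↥H) :=
      Subgroup.comap_map_eq_self_of_injective H.subtype_injective _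
    rw [Subgroup.relIndex, h1]
    exact T'.not_dvd_index
  have hP' : Prd p H A := by
    refine ⟨hAH, hAn, ?_, ?_, ?_⟩
    · intro a ha b hb
      have h1 := hEA.1.is_comm.comm (⟨a, hAA₀ ha⟩ : ↥A₀) ⟨b, hAA₀ hb⟩
      exact congrArg Subtype.val h1
    · intro a ha
      exact hEA.2 a (hAA₀ ha)
    · intro D₂ hD₂H hD₂n hD₂p
      -- the elements of `D₂` in `D` centralize `Y`
      have hE₁ : D₂ ⊓ D ≤ C := by
        apply le_of_le_normalizer hcore hF inf_le_right
        · intro r hr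
          obtain ⟨k, hk⟩ := hD₂p r hr.1
          exact ⟨k, hACY hk⟩
        · intro f hf
          apply mem_normalizer_of_forall (A := F) _ hf
          intro a ha s hs
          exact ⟨hD₂n a (hFH ha) s hs.1, D.mul_mem (D.mul_mem (hFD ha) hs.2) (D.inv_mem (hFD ha))⟩
      have hD₂nor : (D₂.subgroupOf H).Normal := by
        constructor
        rintro ⟨y, hyE⟩ hy ⟨g, hg⟩
        rw [Subgroup.mem_subgroupOf] at hy ⊢
        exact hD₂n g hg y hy
      have hi := not_dvd_relIndex_inf hD₂H hD₂nor hT₁p hT₁i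
      have hCAn : ∀ h ∈ H, ∀ c ∈ centralizer (A : Set G), h * c * h⁻¹ ∈ centralizer (A : Set G) := by
        intro h hh c hc
        apply Cfsg.Agent.Lib.LocalY.FrakM.conj_mem_centralizer _ hc
        intro v hv
        have h1 := hAn h⁻¹ (H.inv_mem hh) v hv
        simpa using h1
      have hsup := sup_eq_of_not_dvd (p := p) (E := D₂) (T := T₁ ⊓ D₂) (K := D₂ ⊓ centralizer (A : Set G))
        inf_le_right inf_le_left (by
          intro e he k hk
          exact ⟨hD₂n e (hD₂H he) k hk.1, hCAn e (hD₂H he) k hk.2⟩) (by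
          intro e he
          obtain ⟨k, hk⟩ := hD₂p e he
          exact ⟨k, D₂.pow_mem he _, hk⟩) hi
      have hD₂Y : D₂ ≤ C := by
        rw [← hsup]
        refine sup_le ?_ (inf_le_right.trans hACY)
        rintro x ⟨hx1, hx2⟩
        exact hE₁ ⟨hx2, hT₁D hx1⟩
      rw [Subgroup.le_centralizer_iff]
      apply iSup_le
      rintro ⟨h, hh⟩
      rintro _ ⟨y, hy, rfl⟩
      rw [mem_centralizer_iff]
      intro d hd
      have h1 : h⁻¹ * d * h⁻¹⁻¹ ∈ D₂ := hD₂n h⁻¹ (H.inv_mem hh) d hd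
      have h2 := mem_centralizer_iff.mp (hD₂Y h1) y hy
      rw [inv_inv] at h2
      show d * (h * y * h⁻¹) = h * y * h⁻¹ * d
      have h3 : d * (h * y * h⁻¹) = h * ((h⁻¹ * d * h) * y) * h⁻¹ := by group
      have h4 : h * y * h⁻¹ * d = h * (y * (h⁻¹ * d * h)) * h⁻¹ := by group
      rw [h3, h4, ← h2]
  exact hYA.trans (le_largest hP')

end Cfsg.Agent.S2851
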