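import Cfsg.Statements.S2852
import Mathlib
import Cfsg.Agent.Lib.LocalY.FrakH
-- import your own Cfsg.Agent.* helpers here

set_option autoImplicit false
open Cfsg

namespace Cfsg.Agent.S2852

open Subgroup Cfsg.Agent.Lib.LocalY.Asym Cfsg.Agent.Lib.LocalY.FrakM Cfsg.Agent.Lib.LocalY.FrakH
open Cfsg.Agent.Lib.PGroup.WeaklyClosed

/-- Standing hypotheses: G a finite group, S a Sylow p-subgroup, Q a nontrivial large p-subgroup of G contained in S, M a subgroup containing S with the basic property (M ∈ 𝔐_G(S)); Y_M the largest p-reduced normal subgroup of M. If Y_M is char-p-tall and asymmetric in G, then some subgroup H of G lies in ℌ_G(O_p(M)): H has characteristic p, O_p(M) ≤ H, Y_M ≰ O_p(H), and Y_M ≤ O_p(P) for every proper subgroup P of H containing O_p(M). -/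
theorem result {G : Type*} [Group G] [Finite G] {p : ℕ} [Fact p.Prime] (S : Sylow p G) (Q : Subgroup G) (hQp : IsPGroup p ↥Q) (hQ1 : Q ≠ ⊥) (hQS : Q ≤ (S : Subgroup G)) (hQ : Cfsg.IsLarge Q) (M : Subgroup G) (hSM : (S : Subgroup G) ≤ M) (hM : Cfsg.IsInFrakM p M) (htall : Cfsg.IsCharPTall p (Cfsg.largestPReducedOf p M)) (hasym : ¬ Cfsg.IsSymmetricIn (Cfsg.largestPReducedOf p M)) : ∃ H : Subgroup G, Cfsg.IsInFrakH p M H := by
  set Y : Subgroup G := largestPReducedOf p M with hY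
  set P : Subgroup G := pCoreOf p M with hP
  have hA : Hyp p P Y := hyp_of hQp hQ1 hQS hQ hSM hM hasym
  set C : Subgroup G := centralizer (Y : Set G) with hC
  obtain ⟨T, L, hTL, hch, hYL⟩ := htall
  have hpP : IsPGroup p (P.subgroupOf C) := hA.pgroup.comap_subtype
  obtain ⟨T', hT'⟩ := hpP.exists_le_sylow
  have hT'eq : (T' : Subgroup ↥C).map C.subtype = P := by
    apply hA.syl _ (T'.isPGroup'.map _) (Subgroup.map_subtype_le _)
    intro x hx
    exact ⟨⟨x, hA.cent hx⟩, hT' (Subgroup.mem_subgroupOf.mpr hx), rfl⟩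
  obtain ⟨c, hc⟩ := MulAction.exists_smul_eq ↥C T T'
  have hPL₀ : P ≤ cj (c : G) L := by
    rw [← hT'eq]
    rintro _ ⟨t, ht, rfl⟩
    rw [mem_cj]
    apply hTL
    have ht' : t ∈ (T' : Subgroup ↥C) := ht
    rw [← hc, Sylow.smul_def, Sylow.pointwise_smul_def, Subgroup.mem_pointwise_smul_iff_inv_smul_mem] at ht'
    have h1 : (c⁻¹ * t * c : ↥C) ∈ (T : Subgroup ↥C) := by
      simpa [MulAut.smul_def, MulAut.conj_inv_apply, mul_assoc] using ht'
    exact ⟨c⁻¹ * t * c, h1, by simp⟩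
  have hL₀c := charP_cj (c : G) (charP_iff.mp hch)
  have hcY : cj (c : G) Y = Y := by
    apply cj_eq_self_iff.2
    exact Subgroup.centralizer_le_normalizer _ c.2
  have hYL₀ : ¬ Y ≤ pCoreOf p (cj (c : G) L) := by
    intro h
    apply hYL
    rw [pCoreOf_cj, ← hcY] at h
    exact cj_le_cj_iff.1 h
  obtain ⟨H, h1, h2, h3, h4⟩ := exists_frakH_of hA hPL₀ hL₀c hYL₀
  exact ⟨H, charP_iff.mpr h1, h2, h3, h4⟩

end Cfsg.Agent.S2852
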