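import Cfsg.Statements.S2853
import Mathlib
import Cfsg.Agent.Lib.LocalY.FrakH2
import Cfsg.Agent.S2850
-- import your own Cfsg.Agent.* helpers here

set_option autoImplicit false
open Cfsg

namespace Cfsg.Agent.S2853

open Subgroup Cfsg.Agent.Lib.LocalY.Asym Cfsg.Agent.Lib.LocalY.FrakM Cfsg.Agent.Lib.LocalY.FrakH
open Cfsg.Agent.Lib.LocalY.FrakH2 Cfsg.Agent.Lib.PGroup.WeaklyClosed

/-- A Sylow subgroup of `K ≤ H` is a Sylow subgroup of `H` when `K` contains a Sylow subgroup of `H`. -/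
theorem sylow_of_parabolic {G : Type*} [Group G] [Finite G] {p : ℕ} [Fact p.Prime] {H K : Subgroup G} (hKH : K ≤ H)
    (T₀ : Sylow p ↥H) (hT₀ : (T₀ : Subgroup ↥H) ≤ K.subgroupOf H) (T : Sylow p ↥K) :
    ∃ P' : Sylow p ↥H, (P' : Subgroup ↥H).map H.subtype = (T : Subgroup ↥K).map K.subtype := by
  set Z : Subgroup G := (T : Subgroup ↥K).map K.subtype with hZ
  have hZK : Z ≤ K := Subgroup.map_subtype_le _
  have hZH : Z ≤ H := hZK.trans hKH
  have hZp : IsPGroup p Z := T.isPGroup'.map _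
  have hZ2 : IsPGroup p (Z.subgroupOf H) := hZp.comap_subtype
  have hcZ : Nat.card Z = Nat.card (T : Subgroup ↥K) :=
    Subgroup.card_map_of_injective K.subtype_injective
  have hcZ2 : Nat.card (Z.subgroupOf H) = Nat.card Z := by
    have h1 : (Z.subgroupOf H).map H.subtype = Z := Subgroup.map_subgroupOf_eq_of_le hZH
    have h2 : Nat.card ((Z.subgroupOf H).map H.subtype) = Nat.card (Z.subgroupOf H) :=
      Subgroup.card_map_of_injective H.subtype_injective
    rw [h1] at h2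
    exact h2.symm
  -- a Sylow subgroup of `K` over `T₀`
  set T₁ : Subgroup ↥K := ((T₀ : Subgroup ↥H).map H.subtype).subgroupOf K with hT₁
  have hT₁p : IsPGroup p T₁ := (T₀.isPGroup'.map H.subtype).comap_subtype
  obtain ⟨T₂, hT₂⟩ := hT₁p.exists_le_sylow
  have hT₂H : (T₂ : Subgroup ↥K).map K.subtype ≤ H := (Subgroup.map_subtype_le _).trans hKH
  have hmax : (T₀ : Subgroup ↥H) = ((T₂ : Subgroup ↥K).map K.subtype).subgroupOf H := by
    refine (T₀.is_maximal' (T₂.isPGroup'.map K.subtype).comap_subtype ?_).symm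
    intro x hx
    rw [Subgroup.mem_comap]
    have hxK : (x : G) ∈ K := Subgroup.mem_subgroupOf.mp (hT₀ hx)
    exact ⟨⟨x, hxK⟩, hT₂ (Subgroup.mem_subgroupOf.mpr ⟨x, hx, rfl⟩), rfl⟩
  have hc0 : Nat.card (T₀ : Subgroup ↥H) = Nat.card (T₂ : Subgroup ↥K) := by
    rw [hmax]
    have h1 := Subgroup.map_subgroupOf_eq_of_le hT₂H
    have h2 : Nat.card ((((T₂ : Subgroup ↥K).map K.subtype).subgroupOf H).map H.subtype) =
        Nat.card (((T₂ : Subgroup ↥K).map K.subtype).subgroupOf H) :=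
      Subgroup.card_map_of_injective H.subtype_injective
    rw [h1] at h2
    rw [← h2]
    exact Subgroup.card_map_of_injective K.subtype_injective
  have hc1 : Nat.card (T : Subgroup ↥K) = Nat.card (T₂ : Subgroup ↥K) := by
    rw [Sylow.card_eq_multiplicity, Sylow.card_eq_multiplicity]
  have hidx : (Z.subgroupOf H).index = (T₀ : Subgroup ↥H).index := by
    have h1 := Subgroup.card_mul_index (Z.subgroupOf H)
    have h2 := Subgroup.card_mul_index (T₀ : Subgroup ↥H)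
    have h3 : Nat.card (Z.subgroupOf H) = Nat.card (T₀ : Subgroup ↥H) := by
      rw [hcZ2, hcZ, hc1, hc0]
    rw [← h2, h3] at h1
    exact Nat.eq_of_mul_eq_mul_left Nat.card_pos h1
  have hnd : ¬ p ∣ (Z.subgroupOf H).index := by
    rw [hidx]
    exact T₀.not_dvd_index
  refine ⟨hZ2.toSylow hnd, ?_⟩
  exact Subgroup.map_subgroupOf_eq_of_le hZH

/-- Standing hypotheses: G a finite group, S a Sylow p-subgroup, Q a nontrivial large p-subgroup of G contained in S, M a subgroup containing S with the basic property (M ∈ 𝔐_G(S)); Y_M the largest p-reduced normal subgroup of M and M† = M·C_G(Y_M). Suppose Y_M is char-p-tall and asymmetric in G and H ∈ ℌ_G(O_p(M)). Then every Sylow p-subgroup of H ∩ M† is a Sylow p-subgroup of H; O_p(H) normalizes O_p(M) and Y_M; O^p(H) = [O^p(H), Y_M] and H = O^p(H)·O_p(M); O^p(H)·Y_M is the normal closure of Y_M in H; and H is the normal closure of O_p(M) in H. Here O^p(H) is the subgroup generated by the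 elements of H of order prime to p. -/
theorem result {G : Type*} [Group G] [Finite G] {p : ℕ} [Fact p.Prime] (S : Sylow p G) (Q : Subgroup G) (hQp : IsPGroup p ↥Q) (hQ1 : Q ≠ ⊥) (hQS : Q ≤ (S : Subgroup G)) (hQ : Cfsg.IsLarge Q) (M : Subgroup G) (hSM : (S : Subgroup G) ≤ M) (hM : Cfsg.IsInFrakM p M) (htall : Cfsg.IsCharPTall p (Cfsg.largestPReducedOf p M)) (hasym : ¬ Cfsg.IsSymmetricIn (Cfsg.largestPReducedOf p M)) (H : Subgroup G) (hH : Cfsg.IsInFrakH p M H) (R : Subgroup G) (hR : R = (Cfsg.pResidual p ↥H).map H.subtype) : (∀ T : Sylow p ↥(H ⊓ (M ⊔ Subgroup.centralizer (((Cfsg.largestPReducedOf p M) : Subgroup G) : Set G))), ∃ P : Sylow p ↥H, ((P : Subgroup ↥H).map H.subtype) = (T : Subgroup ↥(H ⊓ (M ⊔ Subgroup.centralizer (((Cfsg.largestPReducedOf p M) : Subgroup G) : Set G)))).map (H ⊓ (M ⊔ Subgroup.centralizer (((Cfsg.largestPReducedOf p M) : Subgroup G) : Set G))).subtype) ∧ Cfsg.pCoreOf p H ≤ Subgroup.normalizer (((Cfsg.pCoreOf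 p M) : Subgroup G) : Set G) ⊓ Subgroup.normalizer (((Cfsg.largestPReducedOf p M) : Subgroup G) : Set G) ∧ ⁅R, (Cfsg.largestPReducedOf p M)⁆ = R ∧ R ⊔ (Cfsg.pCoreOf p M) = H ∧ R ⊔ (Cfsg.largestPReducedOf p M) = (Subgroup.normalClosure ((((Cfsg.largestPReducedOf p M)).subgroupOf H : Subgroup ↥H) : Set ↥H)).map H.subtype ∧ (Subgroup.normalClosure ((((Cfsg.pCoreOf p M)).subgroupOf H : Subgroup ↥H) : Set ↥H)).map H.subtype = H := by
  subst hR
  obtain ⟨hc, hPH, hYH, hmin⟩ := hH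
  have hHH : HH p (pCoreOf p M) (largestPReducedOf p M) H :=
    ⟨hyp_of hQp hQ1 hQS hQ hSM hM hasym, charP_iff.mp hc, hPH, hYH, hmin⟩
  refine ⟨?_, ?_, hHH.comm_eq, hHH.res_sup, ?_, ?_⟩
  · intro T
    obtain ⟨T₀, hT₀⟩ := (Cfsg.Agent.S2850.result S Q hQp hQ1 hQS hQ M hSM hM hasym).2.2.1 H hPH
    exact sylow_of_parabolic inf_le_left T₀ hT₀ T
  · exact le_inf hHH.pcore_norm (hHH.pcore_norm.trans hHH.hyp.norm)
  · rw [map_normalClosure_eq hHH.Y_le]
    exact hHH.ncl_Y_eq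
  · rw [map_normalClosure_eq hPH]
    exact hHH.ncl_P

end Cfsg.Agent.S2853
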