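import Cfsg.Statements.S2860
import Mathlib
import Cfsg.Agent.Lib.LocalY.QuasiSection
import Cfsg.Agent.Lib.Components.WeakFact
import Cfsg.Agent.S2843
-- import your own Cfsg.Agent.* helpers here

set_option autoImplicit false
open Cfsg

namespace Cfsg.Agent.S2860


/-- Let Q be a nontrivial large p-subgroup of the finite group H, U a nontrivial elementary abelian p-subgroup of H, and Q ≤ E ≤ N_H(U) with Q not normal in E. Suppose O_p(E/C_E(U)) = 1 and O^p(E)·C_E(U)/C_E(U) is quasisimple. Let E° be the weak closure of Q in E (generated by the conjugates of Q inside E) and E_∘ = O^p(E°). Then O^p(E)·C_E(U) = E_∘·C_E(U); E_∘ is perfect and equals O^p(E_∘); E_∘/C_{E_∘}(U) and E_∘/O_p(E_∘) are quasisimple; and E_∘ = [E_∘, Y] for every p-subgroup Y of E not centralizing U. -/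
theorem result {G : Type*} [Group G] [Finite G] {p : ℕ} [Fact p.Prime] (Q : Subgroup G) (hQp : IsPGroup p ↥Q) (hQ1 : Q ≠ ⊥) (hQ : Cfsg.IsLarge Q) (U : Subgroup G) (hU : Cfsg.IsElementaryAbelian p U) (hU1 : U ≠ ⊥) (E : Subgroup G) (hQE : Q ≤ E) (hEU : E ≤ Subgroup.normalizer ((U : Subgroup G) : Set G)) (hQn : ¬ E ≤ Subgroup.normalizer ((Q : Subgroup G) : Set G)) [hn : ((Subgroup.centralizer ((U : Subgroup G) : Set G)).subgroupOf E).Normal] (hred : Cfsg.pCore p (↥E ⧸ (Subgroup.centralizer ((U : Subgroup G) : Set G)).subgroupOf E) = ⊥) (hqs : Cfsg.IsQuasisimple ↥(((Cfsg.pResidual p ↥E) ⊔ (Subgroup.centralizer ((U : Subgroup G) : Set G)).subgroupOf E).map (QuotientGroup.mk' ((Subgroup.centralizer ((U : Subgroup G) : Set G)).subgroupOf E)))) (Er : Subgroup G) (hEr : Er = ((Cfsg.pResidual p ↥(Cfsg.weakClosure Q E)).map ((Cfsg.weakClosure Q E)).subtype)) [hn2 : ((Subgroup.centralizer ((U : Subgroup G) : Set G)).subgroupOf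 Er).Normal] : ((Cfsg.pResidual p ↥E).map (E).subtype) ⊔ (E ⊓ Subgroup.centralizer ((U : Subgroup G) : Set G)) = Er ⊔ (E ⊓ Subgroup.centralizer ((U : Subgroup G) : Set G)) ∧ ⁅Er, Er⁆ = Er ∧ ((Cfsg.pResidual p ↥Er).map (Er).subtype) = Er ∧ Cfsg.IsQuasisimple (↥Er ⧸ (Subgroup.centralizer ((U : Subgroup G) : Set G)).subgroupOf Er) ∧ Cfsg.IsQuasisimple (↥Er ⧸ Cfsg.pCore p ↥Er) ∧ ∀ Y : Subgroup G, Y ≤ E → IsPGroup p ↥Y → ¬ Y ≤ Subgroup.centralizer ((U : Subgroup G) : Set G) → ⁅Er, Y⁆ = Er := by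
  have hUp : IsPGroup p ↥U := by
    intro x
    exact ⟨1, Subtype.ext (by simpa using hU.2 x.1 x.2)⟩
  have hS := Cfsg.Agent.S2843.result Q hQp hQ1 hQ E hQE U hUp hU1 hEU
  have hQC : ¬ Q ≤ Subgroup.centralizer ((U : Subgroup G) : Set G) := by
    intro h
    apply hQn
    have h1 : U ≤ Subgroup.centralizer ((Q : Subgroup G) : Set G) := by
      rw [Subgroup.le_centralizer_iff]
      exact h
    exact hEU.trans (hQ.2 U h1 hU1)
  obtain ⟨q, hq, hqC⟩ := SetLike.not_le_iff_exists.mp hQC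
  have hqp : ∃ k : ℕ, q ^ p ^ k = 1 := by
    obtain ⟨k, hk⟩ := hQp ⟨q, hq⟩
    exact ⟨k, congrArg Subtype.val hk⟩
  have hWgen : ∀ T : Subgroup G, (∀ s ∈ Cfsg.weakClosure Q E, (∃ k : ℕ, s ^ p ^ k = 1) → s ∈ T) →
      Cfsg.weakClosure Q E ≤ T := by
    intro T hT
    apply Cfsg.Agent.Lib.Components.WeakFact.weakClosure_le
    rintro g hg _ ⟨x, hx, rfl⟩
    apply hT _ (Cfsg.Agent.Lib.Components.WeakFact.le_weakClosure hg ⟨x, hx, rfl⟩)
    obtain ⟨k, hk⟩ := hQp ⟨x, hx⟩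
    refine ⟨k, ?_⟩
    have hk' : x ^ p ^ k = 1 := congrArg Subtype.val hk
    rw [← map_pow, hk', map_one]
  exact Cfsg.Agent.Lib.LocalY.QuasiSection.main_section (E := E)
    (C := Subgroup.centralizer ((U : Subgroup G) : Set G)) (W := Cfsg.weakClosure Q E)
    (Cfsg.Agent.Lib.Components.WeakFact.weakClosure_le_self E)
    (fun e he w hw => (Subgroup.mem_normalizer_iff.mp
      (Cfsg.Agent.Lib.Components.WeakFact.le_normalizer_weakClosure E he) w).mp hw)
    hWgen hS.2.1 (Cfsg.Agent.Lib.Components.WeakFact.self_le_weakClosure hQE hq) hqp hqC hred hqs hEr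

end Cfsg.Agent.S2860
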