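import Cfsg.Statements.S2863
import Mathlib
import Cfsg.Agent.Lib.LocalY.FrakL5
-- import your own Cfsg.Agent.* helpers here

set_option autoImplicit false
open Cfsg

namespace Cfsg.Agent.S2863

open Subgroup Cfsg.Agent.Lib.LocalY.FrakL Cfsg.Agent.Lib.LocalY.FrakL3 Cfsg.Agent.Lib.PGroup.WeaklyClosed

/-- Standing hypotheses: G a finite group, S a Sylow p-subgroup, Q a nontrivial large p-subgroup of G contained in S, M a subgroup containing S with the basic property (M ∈ 𝔐_G(S)); Y_M the largest p-reduced normal subgroup of M and M† = M·C_G(Y_M). Let L ∈ 𝔏_G(Y_M) (L ∈ 𝔏_G(Y_M): Y_M ≤ L; O_p(L) is the normal closure in L of Y_M ∩ O_p(L) and normalizes Y_M; L is Y_M-minimal of characteristic p with N_L(Y_M) its unique maximal subgroup over Y_M; and L/O_p(L) ≅ SL₂(q) with q = |Y_M : Y_M ∩ O_p(L)|, or p = 2 and L/O_p(L) is a Suzuki group Sz(q) or dihedral of order 2r, r an odd prime), A = O_p(L),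 and C = C_{Y_M}(L). Then every element h of L whose order is not a power of p acts without nontrivial fixed points on A/C: for a ∈ A, hah⁻¹a⁻¹ ∈ C implies a ∈ C. -/
theorem result {G : Type*} [Group G] [Finite G] {p : ℕ} [Fact p.Prime] (S : Sylow p G) (Q : Subgroup G) (hQp : IsPGroup p ↥Q) (hQ1 : Q ≠ ⊥) (hQS : Q ≤ (S : Subgroup G)) (hQ : Cfsg.IsLarge Q) (M : Subgroup G) (hSM : (S : Subgroup G) ≤ M) (hM : Cfsg.IsInFrakM p M) (L : Subgroup G) (hL : Cfsg.IsInFrakL p M L) (h : G) (hh : h ∈ L) (hnp : ¬ ∃ k : ℕ, orderOf h = p ^ k) : ∀ a ∈ (Cfsg.pCoreOf p L), h * a * h⁻¹ * a⁻¹ ∈ (Cfsg.largestPReducedOf p M) ⊓ Subgroup.centralizer ((L : Subgroup G) : Set G) → a ∈ (Cfsg.largestPReducedOf p M) ⊓ Subgroup.centralizer ((L : Subgroup G) : Set G) := by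
  intro a ha hc
  have hchar := Cfsg.Agent.Lib.LocalY.FrakM.hchar_of_mem hM.1
  have hU := unpack hchar hL
  have hYL := hL.1
  have hre := relIndex_eq hYL
  have haL : a ∈ L := pCoreOf_le_self L ha
  set YG := Cfsg.largestPReducedOf p M with hYG
  set Y := YG.subgroupOf L with hY
  have ha' : (⟨a, haL⟩ : ↥L) ∈ pCore p ↥L := (coe_mem_pCoreOf _).1 ha
  have hcen : ∀ x : ↥L, x ∈ Y ⊓ center ↥L ↔ (x : G) ∈ YG ⊓ centralizer (L : Set G) := by
    intro x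
    rw [mem_inf, mem_inf, mem_subgroupOf, mem_center_iff, mem_centralizer_iff]
    refine and_congr_right fun _ => ?_
    constructor
    · intro h1 g hg
      exact congrArg Subtype.val (h1 ⟨g, hg⟩)
    · intro h1 g
      exact Subtype.ext (h1 g g.2)
  have hc' : (⟨h, hh⟩ : ↥L) * ⟨a, haL⟩ * (⟨h, hh⟩ : ↥L)⁻¹ * (⟨a, haL⟩ : ↥L)⁻¹ ∈ Y ⊓ center ↥L :=
    (hcen _).2 hc
  have hnp' : ¬ ∃ k : ℕ, orderOf (⟨h, hh⟩ : ↥L) = p ^ k := by
    rw [Subgroup.orderOf_mk]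
    exact hnp
  refine (hcen ⟨a, haL⟩).1 ?_
  rcases hL.2.2.2.2.2.2 with ⟨F, _, _, hF, ⟨e⟩⟩ | ⟨hp, F, _, _, n, hF1, hF2, ⟨e⟩⟩ | ⟨hp, r, hr, hr2, ⟨e⟩⟩
  · exact case_sl2 hU (hF.trans hre) e ha' hc' hnp'
  · rcases Nat.eq_zero_or_pos n with rfl | hn
    · exact (Cfsg.Agent.Lib.LocalY.FrakL5.sz_zero hp hU hF1 e).elim
    · have hH : Cfsg.Agent.Lib.Suzuki.Basic.Hyp F n := ⟨hn, hF1⟩
      set e' := e.trans (Cfsg.Agent.Lib.Suzuki.Iso.suzEquiv hH).symm with he'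
      have hcard : Nat.card (Y.map (mkP e' 1)) = Fintype.card F := by
        rw [← mkP_card, ← hre, ← hF2]
      have hpow : ∀ u ∈ Y.map (mkP e' 1), u ^ 2 = 1 := by
        intro u hu
        have h3 := mkP_pow hU e' 1 u hu
        rwa [hp] at h3
      obtain ⟨k, hk⟩ := Cfsg.Agent.Lib.LocalY.FrakL4.exists_conj_Z hH _ hpow hcard
      rw [← mkP_map e' k Y] at hk
      refine case_b hp hU e' k ?_ ?_ ?_ ha' hc' hnp'
      · rw [hk]
        exact Cfsg.Agent.Lib.LocalY.FrakL4.bhyp_Z hH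
      · rw [hk]
        exact Cfsg.Agent.Lib.LocalY.FrakL4.ne_Z hH
      · rw [hk]
        exact Cfsg.Agent.Lib.LocalY.FrakL4.weak_Z hH
  · haveI : Fact r.Prime := ⟨hr⟩
    have hpow : ∀ u ∈ Y.map (mkP e 1), u ^ 2 = 1 := by
      intro u hu
      have h3 := mkP_pow hU e 1 u hu
      rwa [hp] at h3
    obtain ⟨hB, hne, hw⟩ := dih_hyp hr2 _ hpow (mkP_map_ne_bot hU e 1)
    exact case_b hp hU e 1 hB hne hw ha' hc' hnp'

end Cfsg.Agent.S2863
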