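import Cfsg.Statements.S2864
import Mathlib
import Cfsg.Agent.Lib.LocalY.Large
import Cfsg.Agent.Lib.Solvable.PSeries3
import Cfsg.Agent.Lib.Coprime.FrattiniAct
import Cfsg.Agent.Lib.PGroup.Basic
-- import your own Cfsg.Agent.* helpers here

set_option autoImplicit false
open Cfsg

namespace Cfsg.Agent.S2864

open Subgroup Cfsg.Agent.Lib.LocalY.Kieler Cfsg.Agent.Lib.LocalY.NoChar Cfsg.Agent.Lib.LocalY.Transfer
open scoped commutatorElement


/-- Standing hypotheses: G a finite group, S a Sylow p-subgroup, Q a nontrivial large p-subgroup of G contained in S, M a subgroup containing S with the basic property (M ∈ 𝔐_G(S)); Y_M the largest p-reduced normal subgroup of M and M† = M·C_G(Y_M). Let I be a nontrivial normal p-subgroup of M and Y ≤ O_p(M†); let L be a subgroup of G containing Y and A a normal p-subgroup of L with I ≤ A ≤ M. If [Y, A] ≤ [I, A], then Y ≤ O_p(L). -/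
theorem result {G : Type*} [Group G] [Finite G] {p : ℕ} [Fact p.Prime] (S : Sylow p G) (Q : Subgroup G) (hQp : IsPGroup p ↥Q) (hQ1 : Q ≠ ⊥) (hQS : Q ≤ (S : Subgroup G)) (hQ : Cfsg.IsLarge Q) (M : Subgroup G) (hSM : (S : Subgroup G) ≤ M) (hM : Cfsg.IsInFrakM p M) (I : Subgroup G) (hI1 : I ≠ ⊥) (hIp : IsPGroup p ↥I) (hIM : I ≤ M ∧ M ≤ Subgroup.normalizer ((I : Subgroup G) : Set G)) (Y : Subgroup G) (hY : Y ≤ (Cfsg.pCoreOf p (M ⊔ Subgroup.centralizer (((Cfsg.largestPReducedOf p M) : Subgroup G) : Set G)))) (L : Subgroup G) (hYL : Y ≤ L) (A : Subgroup G) (hAp : IsPGroup p ↥A) (hAL : A ≤ L ∧ L ≤ Subgroup.normalizer ((A : Subgroup G) : Set G)) (hIA : I ≤ A) (hAM : A ≤ M) (hc : ⁅Y, A⁆ ≤ ⁅I, A⁆) : Y ≤ (Cfsg.pCoreOf p L) := by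
  set D : Subgroup G := M ⊔ centralizer (largestPReducedOf p M : Set G) with hD
  have hN : normalizer (I : Set G) ≤ D :=
    Cfsg.Agent.Lib.LocalY.Large.normalizer_le_dagger hQp hQ S hQS hSM hM hI1 hIp hIM.2
  set Φ : Subgroup G := (frattini ↥A).map A.subtype with hΦ
  have hΦA : Φ ≤ A := Subgroup.map_subtype_le _
  have hLA : ∀ l ∈ L, ∀ a ∈ A, l * a * l⁻¹ ∈ A := fun l hl a ha =>
    (Subgroup.mem_normalizer_iff.mp (hAL.2 hl) a).mp ha
  have hLA' : ∀ l ∈ L, ∀ a ∈ A, l⁻¹ * a * l ∈ A := fun l hl a ha => by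
    have h1 := hLA _ (L.inv_mem hl) a ha
    rwa [inv_inv] at h1
  have hLΦ : ∀ l ∈ L, ∀ f ∈ Φ, l * f * l⁻¹ ∈ Φ := fun l hl f hf =>
    (Subgroup.mem_normalizer_iff.mp (Cfsg.Agent.Lib.Coprime.FrattiniAct.map_char_mem_normalizer
      (frattini ↥A) inferInstance (hAL.2 hl)) f).mp hf
  -- the stabilizer of `A / Φ(A)`
  let K₁ : Subgroup G :=
    { carrier := {x | x ∈ L ∧ ∀ a ∈ A, a * x * a⁻¹ * x⁻¹ ∈ Φ}
      mul_mem' := by
        rintro x x' ⟨hx, hx2⟩ ⟨hx', hx'2⟩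
        refine ⟨L.mul_mem hx hx', fun a ha => ?_⟩
        have h1 : a * (x * x') * a⁻¹ * (x * x')⁻¹ =
            (a * x * a⁻¹ * x⁻¹) * (x * (a * x' * a⁻¹ * x'⁻¹) * x⁻¹) := by group
        rw [h1]
        exact Φ.mul_mem (hx2 a ha) (hLΦ x hx _ (hx'2 a ha))
      one_mem' := by
        refine ⟨L.one_mem, fun a _ => ?_⟩
        simp
      inv_mem' := by
        rintro x ⟨hx, hx2⟩
        refine ⟨L.inv_mem hx, fun a ha => ?_⟩
        have h1 : a * x⁻¹ * a⁻¹ * x⁻¹⁻¹ = x⁻¹ * (a * x * a⁻¹ * x⁻¹)⁻¹ * x⁻¹⁻¹ := by group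
        rw [h1]
        exact hLΦ _ (L.inv_mem hx) _ (Φ.inv_mem (hx2 a ha)) }
  have hK₁L : K₁ ≤ L := fun x hx => hx.1
  have hK₁n : ∀ g ∈ L, ∀ x ∈ K₁, g * x * g⁻¹ ∈ K₁ := by
    rintro g hg x ⟨hx, hx2⟩
    refine ⟨L.mul_mem (L.mul_mem hg hx) (L.inv_mem hg), fun a ha => ?_⟩
    have h1 := hx2 _ (hLA' g hg a ha)
    have h2 := hLΦ g hg _ h1
    have h3 : g * ((g⁻¹ * a * g) * x * (g⁻¹ * a * g)⁻¹ * x⁻¹) * g⁻¹ =
        a * (g * x * g⁻¹) * a⁻¹ * (g * x * g⁻¹)⁻¹ := by group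
    rwa [h3] at h2
  have hAcomm : ⁅I, A⁆ ≤ Φ := by
    rw [Subgroup.commutator_le]
    intro a₁ ha₁ a₂ ha₂
    have h1 := Cfsg.Agent.Lib.PGroup.Basic.commutatorElement_mem_frattini hAp
      (⟨a₁, hIA ha₁⟩ : ↥A) ⟨a₂, ha₂⟩
    exact ⟨_, h1, rfl⟩
  have hYK : Y ≤ K₁ := by
    intro y hy
    refine ⟨hYL hy, fun a ha => ?_⟩
    have h1 : ⁅y, a⁆ ∈ Φ := hAcomm (hc (Subgroup.commutator_mem_commutator hy ha))
    have h2 : a * y * a⁻¹ * y⁻¹ = ⁅y, a⁆⁻¹ := by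
      simp only [commutatorElement_def]
      group
    rw [h2]
    exact Φ.inv_mem h1
  -- coprime elements of `K₁` centralize `A`
  have hBur : ∀ u ∈ K₁, (orderOf u).Coprime p → u ∈ centralizer (A : Set G) := by
    intro u hu hc'
    have hzK : zpowers u ≤ K₁ := (Subgroup.zpowers_le).mpr hu
    have h1 := Cfsg.Agent.Lib.Solvable.PSeries3.le_centralizer_of_commutator_le_frattini
      (A := zpowers u) (K := A) hAp (hzK.trans (hK₁L.trans hAL.2))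
      (by rw [Nat.card_zpowers]; exact hc')
      (by
        rw [Subgroup.commutator_le]
        intro a ha g hg
        exact (hzK hg).2 a ha)
    rw [mem_centralizer_iff]
    intro a ha
    have h2 := h1 ha
    exact mem_centralizer_iff.mp h2 u (Subgroup.mem_zpowers u) |>.symm
  set Cc : Subgroup G := L ⊓ centralizer (A : Set G) with hCc
  have hCcD : Cc ≤ D := by
    rintro c ⟨_, hc2⟩
    apply hN
    have hc3 : c ∈ centralizer (I : Set G) :=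
      Subgroup.centralizer_le (SetLike.coe_subset_coe.mpr hIA) hc2
    exact Subgroup.centralizer_le_normalizer _ hc3
  have hCcn : (Cc.subgroupOf L).Normal :=
    Cfsg.Agent.Lib.LocalY.Subnormal.inf_centralizer_normal hLA
  have hCcn' : ∀ g ∈ L, ∀ c ∈ Cc, g * c * g⁻¹ ∈ Cc := fun g hg c hc =>
    conj_mem_of_normal inf_le_left hCcn hg hc
  set O : Subgroup G := pCoreOf p L with hO
  set Pd : Subgroup G := pCoreOf p D with hPd
  have hPdp : IsPGroup p Pd := (Cfsg.Agent.Lib.Basic.PCore.pCore_isPGroup (G := ↥D) p).map _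
  -- `Cc ∩ O_p(D)` lies in `O_p(L)`
  have hPpO : Cc ⊓ Pd ≤ O := by
    set R₀ : Subgroup ↥L := (Cc ⊓ Pd).subgroupOf L with hR₀
    set X₀ : Subgroup ↥L := Cc.subgroupOf L with hX₀
    have h1 : R₀ ≤ X₀ := by
      intro x hx
      rw [hR₀, Subgroup.mem_subgroupOf] at hx
      rw [hX₀, Subgroup.mem_subgroupOf]
      exact hx.1
    have h2 : (R₀.subgroupOf X₀).Normal := by
      constructor
      rintro ⟨x, hx⟩ hx2 ⟨g, hg⟩
      rw [Subgroup.mem_subgroupOf, hR₀, Subgroup.mem_subgroupOf] at hx2 ⊢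
      rw [hX₀, Subgroup.mem_subgroupOf] at hg
      constructor
      · exact hCcn' g hg.1 _ hx2.1
      · exact conj_mem_pCoreOf (hCcD hg) hx2.2
    have h4 : R₀.IsSubnormal := IsSubnormal.step R₀ X₀ h1 hCcn.isSubnormal h2
    have h5 : IsPGroup p R₀ := (hPdp.to_le inf_le_right).comap_subtype
    have h6 := Cfsg.Agent.Lib.Basic.PCore.le_pCore_of_subnormal h4 h5
    intro x hx
    have hxL : x ∈ L := hx.1.1
    exact ⟨⟨x, hxL⟩, h6 (Subgroup.mem_subgroupOf.mpr hx), rfl⟩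
  have hYC : ∀ y ∈ Y, ∀ c ∈ Cc, y * c * y⁻¹ * c⁻¹ ∈ O := by
    intro y hy c hc
    apply hPpO
    constructor
    · exact Cc.mul_mem (hCcn' y (hYL hy) c hc) (Cc.inv_mem hc)
    · have h1 : y * c * y⁻¹ * c⁻¹ = y * (c * y⁻¹ * c⁻¹) := by group
      rw [h1]
      exact Pd.mul_mem (hY hy) (conj_mem_pCoreOf (hCcD hc) (Pd.inv_mem (hY hy)))
  have hOn : ∀ g ∈ L, ∀ x ∈ O, g * x * g⁻¹ ∈ O := fun g hg x hx => conj_mem_pCoreOf hg hx
  -- the centralizer of `Cc` modulo `O`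
  let Dh : Subgroup G :=
    { carrier := {x | x ∈ L ∧ ∀ c ∈ Cc, x * c * x⁻¹ * c⁻¹ ∈ O}
      mul_mem' := by
        rintro x x' ⟨hx, hx2⟩ ⟨hx', hx'2⟩
        refine ⟨L.mul_mem hx hx', fun c hc => ?_⟩
        have h1 : (x * x') * c * (x * x')⁻¹ * c⁻¹ =
            (x * (x' * c * x'⁻¹ * c⁻¹) * x⁻¹) * (x * c * x⁻¹ * c⁻¹) := by group
        rw [h1]
        exact O.mul_mem (hOn x hx _ (hx'2 c hc)) (hx2 c hc)
      one_mem' := by
        refine ⟨L.one_mem, fun c _ => ?_⟩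
        simp
      inv_mem' := by
        rintro x ⟨hx, hx2⟩
        refine ⟨L.inv_mem hx, fun c hc => ?_⟩
        have h1 : x⁻¹ * c * x⁻¹⁻¹ * c⁻¹ = x⁻¹ * (x * c * x⁻¹ * c⁻¹)⁻¹ * x⁻¹⁻¹ := by group
        rw [h1]
        exact hOn _ (L.inv_mem hx) _ (O.inv_mem (hx2 c hc)) }
  have hDhn : ∀ g ∈ L, ∀ x ∈ Dh, g * x * g⁻¹ ∈ Dh := by
    rintro g hg x ⟨hx, hx2⟩
    refine ⟨L.mul_mem (L.mul_mem hg hx) (L.inv_mem hg), fun c hc => ?_⟩
    have hc' : g⁻¹ * c * g⁻¹⁻¹ ∈ Cc := hCcn' _ (L.inv_mem hg) c hc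
    have h1 := hOn g hg _ (hx2 _ hc')
    have h3 : g * (x * (g⁻¹ * c * g⁻¹⁻¹) * x⁻¹ * (g⁻¹ * c * g⁻¹⁻¹)⁻¹) * g⁻¹ =
        (g * x * g⁻¹) * c * (g * x * g⁻¹)⁻¹ * c⁻¹ := by group
    rwa [h3] at h1
  set E : Subgroup G := K₁ ⊓ Dh with hE
  have hEL : E ≤ L := fun x hx => hx.1.1
  have hYE : Y ≤ E := fun y hy => ⟨hYK hy, hYL hy, hYC y hy⟩
  have hEn : ∀ g ∈ L, ∀ x ∈ E, g * x * g⁻¹ ∈ E := fun g hg x hx =>
    ⟨hK₁n g hg x hx.1, hDhn g hg x hx.2⟩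
  -- the quotient by `O_p(L)`
  have hO₀n : (pCore p ↥L).Normal := Cfsg.Agent.Lib.Basic.PCore.pCore_normal p _
  let ρ : ↥L →* ↥L ⧸ pCore p ↥L := QuotientGroup.mk' (pCore p ↥L)
  have hρs : Function.Surjective ρ := QuotientGroup.mk'_surjective _
  have hρO : ∀ x : ↥L, (x : G) ∈ O → ρ x = 1 := by
    rintro x ⟨o, ho, hox⟩
    have h1 : x = o := Subtype.ext hox.symm
    rw [h1]
    exact (QuotientGroup.eq_one_iff o).mpr ho
  have hρO' : ∀ x : ↥L, ρ x = 1 → (x : G) ∈ O := by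
    intro x hx
    exact ⟨x, (QuotientGroup.eq_one_iff x).mp hx, rfl⟩
  have hE₀n : (E.subgroupOf L).Normal := by
    constructor
    rintro ⟨x, _⟩ hx ⟨g, hg⟩
    rw [Subgroup.mem_subgroupOf] at hx ⊢
    exact hEn g hg x hx
  set N : Subgroup (↥L ⧸ pCore p ↥L) := (E.subgroupOf L).map ρ with hNdef
  have hNn : N.Normal := hE₀n.map ρ hρs
  let T' : Subgroup ↥N := ((Cc.subgroupOf L).map ρ).subgroupOf N
  have hT'c : T' ≤ center ↥N := by
    rintro ⟨t, htN⟩ ht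
    rw [Subgroup.mem_subgroupOf] at ht
    obtain ⟨c, hc, rfl⟩ := ht
    have hc : (c : G) ∈ Cc := Subgroup.mem_subgroupOf.mp hc
    rw [Subgroup.mem_center_iff]
    rintro ⟨n, hn⟩
    obtain ⟨e, he, rfl⟩ := hn
    have he : (e : G) ∈ E := Subgroup.mem_subgroupOf.mp he
    apply Subtype.ext
    show ρ e * ρ c = ρ c * ρ e
    have h1 := he.2.2 c hc
    have h2 : ρ (e * c * e⁻¹ * c⁻¹) = 1 := hρO _ (by
      simpa using h1)
    rw [map_mul, map_mul, map_mul, map_inv, map_inv] at h2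
    have h3 : ρ e * ρ c * (ρ e)⁻¹ * (ρ c)⁻¹ * (ρ c * ρ e) = ρ c * ρ e := by
      rw [h2, one_mul]
    rw [← h3]
    group
  haveI hT'n : T'.Normal := by
    constructor
    intro t ht g
    have h1 := Subgroup.mem_center_iff.mp (hT'c ht) g
    rw [h1]
    simpa using ht
  have hqp : IsPGroup p (↥N ⧸ T') := by
    intro q
    obtain ⟨⟨n, hn⟩, rfl⟩ := QuotientGroup.mk_surjective q
    obtain ⟨e, he, rfl⟩ := hn
    have he : (e : G) ∈ E := Subgroup.mem_subgroupOf.mp he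
    obtain ⟨a, ha⟩ := exists_pow_coprime (p := p) (e : G)
    refine ⟨a, ?_⟩
    rw [← QuotientGroup.mk_pow, QuotientGroup.eq_one_iff]
    rw [Subgroup.mem_subgroupOf]
    have hu : (e : G) ^ p ^ a ∈ K₁ := K₁.pow_mem he.1 _
    have hC := hBur _ hu ha
    refine ⟨e ^ p ^ a, Subgroup.mem_subgroupOf.mpr ?_, by simp⟩
    exact ⟨by simpa using L.pow_mem e.2 (p ^ a), by simpa using hC⟩
  haveI : Group.IsNilpotent (↥N ⧸ T') := hqp.isNilpotent
  have hNnil : Group.IsNilpotent ↥N :=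
    Subgroup.isNilpotent_of_ker_le_center (QuotientGroup.mk' T') (by
      rw [QuotientGroup.ker_mk']
      exact hT'c)
  intro y hy
  have hyL := hYL hy
  obtain ⟨n, hn⟩ := hPdp ⟨y, hY hy⟩
  have hn' : y ^ p ^ n = 1 := congrArg Subtype.val hn
  have hpow : (ρ ⟨y, hyL⟩) ^ p ^ n = 1 := by
    rw [← map_pow]
    have h1 : (⟨y, hyL⟩ : ↥L) ^ p ^ n = 1 := Subtype.ext (by simpa using hn')
    rw [h1, map_one]
  have hpp : p.Prime := Fact.out
  obtain ⟨k, -, hk⟩ := (Nat.dvd_prime_pow hpp).mp (orderOf_dvd_of_pow_eq_one hpow)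
  have hmem : ρ ⟨y, hyL⟩ ∈ N := ⟨⟨y, hyL⟩, Subgroup.mem_subgroupOf.mpr (hYE hy), rfl⟩
  have h1 := Cfsg.Agent.Lib.Basic.PCore.mem_pCore_of_normal_nilpotent hNn hNnil hmem hpp hk
  rw [Cfsg.Agent.Lib.Basic.PCore.pCore_quotient_eq_bot, Subgroup.mem_bot] at h1
  exact hρO' _ h1

end Cfsg.Agent.S2864
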