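import Cfsg.Statements.S2872
import Mathlib
import Cfsg.Agent.Lib.Transfer.CyclicQuotientTwo
import Cfsg.Agent.Lib.PGroup.Basic
-- import your own Cfsg.Agent.* helpers here

set_option autoImplicit false
open Cfsg

namespace Cfsg.Agent.S2872

/-- Let S be a Sylow 2-subgroup of the finite group G. Then G has a proper normal subgroup of 2-power index (O²(G) ≠ G), or Ω₁(Z(S)) is contained in the Frattini subgroup of S, or N_G(S) acts nontrivially on Ω₁(Z(S)) by conjugation. -/
theorem result {G : Type*} [Group G] [Finite G] (S : Sylow 2 G) : Cfsg.pResidual 2 G ≠ ⊤ ∨ Cfsg.omegaOne 2 ((S : Subgroup G) ⊓ Subgroup.centralizer ((S : Subgroup G) : Set G)) ≤ (frattini ↥(S : Subgroup G)).map (S : Subgroup G).subtype ∨ ∃ g ∈ Subgroup.normalizer ((S : Subgroup G) : Set G), ∃ z ∈ Cfsg.omegaOne 2 ((S : Subgroup G) ⊓ Subgroup.centralizer ((S : Subgroup G) : Set G)), g * z * g⁻¹ ≠ z := by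
  classical
  haveI : Fact (Nat.Prime 2) := ⟨Nat.prime_two⟩
  by_contra hcon
  push Not at hcon
  obtain ⟨hres, hnot, hfix⟩ := hcon
  have hodd : Odd (S : Subgroup G).index := by
    rw [← Nat.not_even_iff_odd, even_iff_two_dvd]
    exact S.not_dvd_index
  -- a generator outside the Frattini subgroup
  obtain ⟨z, ⟨hzZ, hz2⟩, hzΦ⟩ : ∃ z ∈ {x : G | x ∈ (S : Subgroup G) ⊓ Subgroup.centralizer ((S : Subgroup G) : Set G) ∧ x ^ 2 = 1},
      z ∉ (frattini ↥(S : Subgroup G)).map (S : Subgroup G).subtype := by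
    by_contra hall
    push Not at hall
    apply hnot
    rw [Cfsg.omegaOne, Subgroup.closure_le]
    intro x hx
    exact hall x hx
  have hzS : z ∈ (S : Subgroup G) := hzZ.1
  have hzt : (⟨z, hzS⟩ : ↥(S : Subgroup G)) ∉ frattini ↥(S : Subgroup G) := fun h =>
    hzΦ ⟨_, h, rfl⟩
  -- a maximal subgroup of `S` missing `z`
  obtain ⟨M, hM, hzM⟩ : ∃ M : Subgroup ↥(S : Subgroup G), IsCoatom M ∧ (⟨z, hzS⟩ : ↥(S : Subgroup G)) ∉ M := by
    by_contra hall
    push Not at hall
    apply hzt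
    rw [frattini, Order.radical, Subgroup.mem_iInf]
    intro M
    rw [Subgroup.mem_iInf]
    exact fun hMc => hall M hMc
  have hMn : M.Normal := Cfsg.Agent.Lib.PGroup.Basic.normal_of_isCoatom S.2 hM
  have hMi : M.index = 2 := Cfsg.Agent.Lib.PGroup.Basic.index_eq_of_isCoatom S.2 hM
  let T : Subgroup G := M.map (S : Subgroup G).subtype
  have hTS : T ≤ (S : Subgroup G) := by
    rintro _ ⟨m, _, rfl⟩
    exact m.2
  have hTM : T.subgroupOf (S : Subgroup G) = M := by
    apply Subgroup.comap_map_eq_self_of_injective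
    exact Subtype.coe_injective
  haveI hTn : (T.subgroupOf (S : Subgroup G)).Normal := by rw [hTM]; exact hMn
  have hcard : Nat.card (↥(S : Subgroup G) ⧸ T.subgroupOf (S : Subgroup G)) = 2 := by
    rw [hTM]; exact hMi
  have hcyc : IsCyclic (↥(S : Subgroup G) ⧸ T.subgroupOf (S : Subgroup G)) :=
    isCyclic_of_prime_card hcard
  have hA2 : IsPGroup 2 (↥(S : Subgroup G) ⧸ T.subgroupOf (S : Subgroup G)) :=
    IsPGroup.of_card (n := 1) (by simpa using hcard)
  have hzres : z ∈ Cfsg.pResidual 2 G := by rw [hres]; trivial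
  obtain ⟨g, hg1, hg2⟩ := Cfsg.Agent.Lib.Transfer.CyclicQuotientTwo.exists_conj_mem_of_transfer
    (S : Subgroup G) T hodd hTS hcyc hA2 z hzres hz2 (S : Subgroup G) S.2
    (fun r hr => hzZ.2 r hr)
  -- `g⁻¹` normalizes `S`
  have hgN : g⁻¹ ∈ Subgroup.normalizer ((S : Subgroup G) : Set G) := by
    have hle : (S : Subgroup G).map (MulAut.conj g⁻¹).toMonoidHom ≤ (S : Subgroup G) := by
      rintro _ ⟨r, hr, rfl⟩
      simpa using hg2 r hr
    have hcardeq : Nat.card ((S : Subgroup G).map (MulAut.conj g⁻¹).toMonoidHom) =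
        Nat.card (S : Subgroup G) :=
      Nat.card_congr (Subgroup.equivMapOfInjective _ _ (MulAut.conj g⁻¹).injective).toEquiv.symm
    have heq : (S : Subgroup G).map (MulAut.conj g⁻¹).toMonoidHom = (S : Subgroup G) :=
      Subgroup.eq_of_le_of_card_ge hle (le_of_eq hcardeq.symm)
    rw [Subgroup.mem_normalizer_iff]
    intro r
    constructor
    · intro hr
      have := hg2 r hr
      simpa using this
    · intro hr
      have : g⁻¹ * r * g⁻¹⁻¹ ∈ (S : Subgroup G).map (MulAut.conj g⁻¹).toMonoidHom := by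
        rw [heq]; exact hr
      obtain ⟨s, hs, hse⟩ := this
      have hse' : g⁻¹ * s * g = g⁻¹ * r * g := by simpa using hse
      have : s = r := by simpa using hse'
      exact this ▸ hs
  have hzfix := hfix g⁻¹ hgN z (Subgroup.subset_closure ⟨hzZ, hz2⟩)
  have hzT : z ∈ T := by
    have h1 : g⁻¹ * z * g = z := by simpa using hzfix
    rw [← h1]
    exact hg1
  apply hzM
  rw [← hTM]
  exact hzT

end Cfsg.Agent.S2872
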