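import Cfsg.Statements.S2873
import Mathlib
import Cfsg.Agent.Lib.Basic.PCore

set_option autoImplicit false
open Cfsg

namespace Cfsg.Agent.S2873

open Subgroup DihedralGroup

section
variable {G : Type*} [Group G] [Finite G] {r : ℕ} [Fact r.Prime]

theorem two_ne_zero' (hr : r ≠ 2) : (2 : ZMod r) ≠ 0 := by
  intro h
  have h2 : ((2 : ℕ) : ZMod r) = 0 := by exact_mod_cast h
  rw [ZMod.natCast_eq_zero_iff] at h2
  exact hr ((Nat.prime_dvd_prime_iff_eq Fact.out Nat.prime_two).mp h2)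

theorem dih_invol (hr : r ≠ 2) (d : DihedralGroup r) (h1 : d ≠ 1) (h2 : d * d = 1) :
    ∃ i, d = sr i := by
  cases d with
  | r j =>
    exfalso
    apply h1
    rw [r_mul_r, one_def] at h2
    have h3 : j + j = 0 := DihedralGroup.r.inj h2
    have h4 : (2 : ZMod r) * j = 0 := by rw [two_mul]; exact h3
    have h5 : j = 0 := (mul_eq_zero.mp h4).resolve_left (two_ne_zero' hr)
    rw [h5, r_zero]
  | sr i => exact ⟨i, rfl⟩

/-- elements of `Q` and a Sylow `r`-subgroup meet trivially -/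
theorem inf_eq_one {Q : Subgroup G} (hQ2 : IsPGroup 2 Q) (hr : r ≠ 2) (P : Sylow r G) {x : G}
    (hxQ : x ∈ Q) (hxP : x ∈ (P : Subgroup G)) : x = 1 := by
  haveI : Fact (Nat.Prime 2) := ⟨Nat.prime_two⟩
  have := IsPGroup.disjoint_of_ne r 2 hr (P : Subgroup G) Q P.isPGroup' hQ2
  exact Subgroup.disjoint_def.mp this hxP hxQ

theorem centr_conj {Q : Subgroup G} [hQn : Q.Normal] (R : Sylow r G)
    (hC : Q ⊓ centralizer ((R : Subgroup G) : Set G) = ⊥) (P : Sylow r G) {x : G} (hxQ : x ∈ Q)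
    (hxP : ∀ u ∈ (P : Subgroup G), x * u = u * x) : x = 1 := by
  obtain ⟨g, hg⟩ := MulAction.exists_smul_eq G R P
  have h1 : g⁻¹ * x * g ∈ Q ⊓ centralizer ((R : Subgroup G) : Set G) := by
    refine ⟨?_, ?_⟩
    · have := hQn.conj_mem x hxQ g⁻¹
      simpa using this
    · show _ ∈ centralizer _
      rw [Subgroup.mem_centralizer_iff]
      intro s hs
      have hs' : g * s * g⁻¹ ∈ (P : Subgroup G) := by
        rw [← hg, Sylow.coe_subgroup_smul]
        rw [Subgroup.mem_pointwise_smul_iff_inv_smul_mem]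
        have e : (MulAut.conj g)⁻¹ • (g * s * g⁻¹) = s := by
          simp [MulAut.smul_def, MulAut.conj_apply, mul_assoc]
        rw [e]; exact hs
      have h2 := hxP _ hs'
      have h3 : x * (g * s * g⁻¹) * g = (g * s * g⁻¹) * x * g := by rw [h2]
      calc s * (g⁻¹ * x * g) = g⁻¹ * ((g * s * g⁻¹) * x * g) := by group
        _ = g⁻¹ * (x * (g * s * g⁻¹) * g) := by rw [h3]
        _ = g⁻¹ * x * g * s := by group
  rw [hC, Subgroup.mem_bot] at h1
  have h4 : x = g * (g⁻¹ * x * g) * g⁻¹ := by group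
  rw [h4, h1]; group

theorem norm_trivial {Q : Subgroup G} [hQn : Q.Normal] (hQ2 : IsPGroup 2 Q) (hr : r ≠ 2)
    (R : Sylow r G) (hC : Q ⊓ centralizer ((R : Subgroup G) : Set G) = ⊥) (P : Sylow r G) {q : G}
    (hqQ : q ∈ Q) (hqN : q ∈ normalizer ((P : Subgroup G) : Set G)) : q = 1 := by
  apply centr_conj R hC P hqQ
  intro u hu
  have h1 : q * u * q⁻¹ ∈ (P : Subgroup G) := (Subgroup.mem_normalizer_iff.mp hqN u).mp hu
  have h2 : q * u * q⁻¹ * u⁻¹ ∈ (P : Subgroup G) := Subgroup.mul_mem _ h1 (Subgroup.inv_mem _ hu)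
  have h3 : q * u * q⁻¹ * u⁻¹ ∈ Q := by
    have h4 := hQn.conj_mem q⁻¹ (Subgroup.inv_mem _ hqQ) u
    have h5 := Subgroup.mul_mem _ hqQ h4
    have h6 : q * (u * q⁻¹ * u⁻¹) = q * u * q⁻¹ * u⁻¹ := by group
    rwa [h6] at h5
  have h7 := inf_eq_one hQ2 hr P h3 h2
  have h8 : q * u * q⁻¹ = u := by
    rw [mul_inv_eq_one] at h7; exact h7
  rw [mul_inv_eq_iff_eq_mul] at h8
  exact h8

/-- order `r` elements generate Sylow subgroups. -/
theorem index_zpowers {Q : Subgroup G} (hQ2 : IsPGroup 2 Q) (hr : r ≠ 2)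
    (hcard : Nat.card G = Nat.card Q * (2 * r)) {u : G} (hu : orderOf u = r) :
    ¬ r ∣ (zpowers u).index := by
  intro h
  obtain ⟨k, hk⟩ := IsPGroup.iff_card.mp hQ2
  have h1 := Subgroup.card_mul_index (zpowers u)
  rw [Nat.card_zpowers, hu, hcard, hk] at h1
  have hrpos : 0 < r := (Fact.out : r.Prime).pos
  have h2 : (zpowers u).index = 2 ^ k * 2 := by
    have : r * (zpowers u).index = r * (2 ^ k * 2) := by rw [h1]; ring
    exact Nat.eq_of_mul_eq_mul_left hrpos this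
  rw [h2, ← pow_succ] at h
  have h3 := (Nat.prime_dvd_prime_iff_eq Fact.out Nat.prime_two).mp ((Fact.out : r.Prime).dvd_of_dvd_pow h)
  exact hr h3

theorem isP_zpowers {u : G} (hu : orderOf u = r) : IsPGroup r (zpowers u) := by
  apply IsPGroup.of_card (n := 1)
  rw [Nat.card_zpowers, hu, pow_one]

/-- Key lemma: products of involutions mapping to a rotation. -/
theorem prod_order {Q : Subgroup G} [hQn : Q.Normal] (hQ2 : IsPGroup 2 Q) (hr : r ≠ 2)
    (hcard : Nat.card G = Nat.card Q * (2 * r)) (ρ : G →* DihedralGroup r)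
    (hρk : ∀ g, ρ g = 1 ↔ g ∈ Q) (R : Sylow r G)
    (hC : Q ⊓ centralizer ((R : Subgroup G) : Set G) = ⊥) {c : G} {t : ZMod r} (ht : t ≠ 0)
    (hc : ρ c = DihedralGroup.r t) : orderOf c = r := by
  have hne : ∀ n : ℕ, ¬ r ∣ n → ρ (c ^ n) ≠ 1 := by
    intro n hn h
    rw [map_pow, hc, r_pow, one_def] at h
    have h1 : t * (n : ZMod r) = 0 := DihedralGroup.r.inj h
    rcases mul_eq_zero.mp h1 with h2 | h2
    · exact ht h2
    · exact hn ((ZMod.natCast_eq_zero_iff n r).mp h2)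
  have he : c ^ r ∈ Q := by
    rw [← hρk, map_pow, hc, r_pow, one_def]
    congr 1
    simp
  obtain ⟨k, hk⟩ := (IsPGroup.iff_orderOf.mp hQ2) ⟨c ^ r, he⟩
  have hk' : orderOf (c ^ r) = 2 ^ k := by
    rw [← hk]; exact (Subgroup.orderOf_mk _ _).symm
  have hprime : r.Prime := Fact.out
  have hnd : ¬ r ∣ 2 ^ k := fun h =>
    hr ((Nat.prime_dvd_prime_iff_eq hprime Nat.prime_two).mp (hprime.dvd_of_dvd_pow h))
  -- u = c ^ 2^k has order r
  have hu : orderOf (c ^ (2 ^ k)) = r := by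
    apply orderOf_eq_prime
    · rw [← pow_mul, mul_comm, pow_mul, ← hk', pow_orderOf_eq_one]
    · intro h
      exact hne _ hnd (by rw [h, map_one])
  let P : Sylow r G := (isP_zpowers hu).toSylow (index_zpowers hQ2 hr hcard hu)
  have he1 : c ^ r = 1 := by
    apply centr_conj R hC P he
    intro v hv
    have hv' : v ∈ zpowers (c ^ (2 ^ k)) := hv
    obtain ⟨n, rfl⟩ := Subgroup.mem_zpowers_iff.mp hv'
    exact ((Commute.refl c).pow_pow _ _ |>.zpow_right n).eq
  apply orderOf_eq_prime he1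
  intro h
  have := hne 1 (by
    intro h2
    exact hprime.one_lt.ne' (Nat.dvd_one.mp h2))
  rw [pow_one] at this
  exact this (by rw [h, map_one])

theorem invol_mem_norm {b c : G} (hb : b * b = 1) (hc : b * c * b⁻¹ = c⁻¹) :
    b ∈ normalizer ((zpowers c : Subgroup G) : Set G) := by
  have hinv : b⁻¹ = b := inv_eq_of_mul_eq_one_left hb
  have fwd : ∀ h ∈ zpowers c, b * h * b⁻¹ ∈ zpowers c := by
    intro h hh
    obtain ⟨n, rfl⟩ := Subgroup.mem_zpowers_iff.mp hh
    rw [← conj_zpow, hc, inv_zpow, ← zpow_neg]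
    exact Subgroup.zpow_mem_zpowers _ _
  rw [Subgroup.mem_normalizer_iff]
  intro h
  refine ⟨fwd h, fun hh => ?_⟩
  have := fwd _ hh
  have e : b * (b * h * b⁻¹) * b⁻¹ = h := by
    rw [hinv]
    calc b * (b * h * b) * b = (b * b) * h * (b * b) := by group
      _ = h := by rw [hb]; group
  rwa [e] at this

end

section
variable {G : Type*} [Group G] [Finite G] {r : ℕ} [Fact r.Prime]

/-- The counting core. -/
theorem core {Q : Subgroup G} [hQn : Q.Normal] (hQ2 : IsPGroup 2 Q) (hr : r ≠ 2)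
    (hcard : Nat.card G = Nat.card Q * (2 * r)) (ρ : G →* DihedralGroup r)
    (hρs : Function.Surjective ρ)
    (hρk : ∀ g, ρ g = 1 ↔ g ∈ Q) (R : Sylow r G)
    (hC : Q ⊓ centralizer ((R : Subgroup G) : Set G) = ⊥)
    (hSyl : Nat.card (Sylow r G) = Nat.card Q)
    (a : G) (ha : orderOf a = 2) (haQ : a ∉ Q)
    (y : G) (hyQ : y ∉ Q) (j : ZMod r) (hy : ρ y = DihedralGroup.r j) :
    (∀ b : G, orderOf b = 2 → b ∉ Q → ∃ g : G, g * a * g⁻¹ = b) ∧
      Nat.card ↥(Q ⊓ centralizer ({a} : Set G)) ^ 2 = Nat.card Q := by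
  classical
  have hr' : r.Prime := Fact.out
  have haa : a * a = 1 := by
    have := pow_orderOf_eq_one a
    rw [ha, pow_two] at this; exact this
  have hj : j ≠ 0 := by
    rintro rfl
    exact hyQ ((hρk y).mp (by rw [hy, r_zero]))
  -- the reflection
  have hρa1 : ρ a ≠ 1 := fun h => haQ ((hρk a).mp h)
  obtain ⟨i, hi⟩ := dih_invol hr (ρ a) hρa1 (by rw [← map_mul, haa, map_one])
  set d₀ : DihedralGroup r := ρ a with hd₀
  set d₁ : DihedralGroup r := ρ y * d₀ * (ρ y)⁻¹ with hd₁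
  have hd₁' : d₁ = sr (i - j - j) := by
    rw [hd₁, hi, hy, inv_r, r_mul_sr, sr_mul_r]
    congr 1
    ring
  set t : ZMod r := - j - j with ht
  have ht0 : t ≠ 0 := by
    intro h
    have h1 : (2 : ZMod r) * j = 0 := by
      have h2 : (2 : ZMod r) * j = -t := by rw [ht]; ring
      rw [h2, h]; simp
    exact hj ((mul_eq_zero.mp h1).resolve_left (two_ne_zero' hr))
  have hd₀₁ : d₀ * d₁ = DihedralGroup.r t := by
    rw [hd₁', hi, sr_mul_sr, ht]
    congr 1
    ring
  -- the two sets of involutions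
  let I : DihedralGroup r → Type _ := fun d => {b : G // b * b = 1 ∧ ρ b = d}
  -- product of an element of `I d₀` and one of `I d₁` has order `r`
  have hord : ∀ b₁ : I d₀, ∀ b₂ : I d₁, orderOf (b₁.1 * b₂.1) = r := by
    intro b₁ b₂
    apply prod_order hQ2 hr hcard ρ hρk R hC ht0
    rw [map_mul, b₁.2.2, b₂.2.2, hd₀₁]
  -- the Sylow subgroup attached to a pair
  let Ψ : I d₀ × I d₁ → Sylow r G := fun p =>
    (isP_zpowers (hord p.1 p.2)).toSylow (index_zpowers hQ2 hr hcard (hord p.1 p.2))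
  have hcz : ∀ p : I d₀ × I d₁, ((Ψ p : Sylow r G) : Subgroup G) = zpowers (p.1.1 * p.2.1) :=
    fun p => IsPGroup.toSylow_coe _ _
  have hinv : ∀ {b : G}, b * b = 1 → b⁻¹ = b := fun h => inv_eq_of_mul_eq_one_left h
  have hn1 : ∀ p : I d₀ × I d₁, p.1.1 ∈ normalizer (((Ψ p : Sylow r G) : Subgroup G) : Set G) := by
    intro p
    rw [hcz p]
    apply invol_mem_norm p.1.2.1
    rw [mul_inv_rev, hinv p.2.2.1]
    calc p.1.1 * (p.1.1 * p.2.1) * (p.1.1)⁻¹ = (p.1.1 * p.1.1) * p.2.1 * (p.1.1)⁻¹ := by group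
      _ = _ := by rw [p.1.2.1]; group
  have hn2 : ∀ p : I d₀ × I d₁, p.2.1 ∈ normalizer (((Ψ p : Sylow r G) : Subgroup G) : Set G) := by
    intro p
    rw [hcz p]
    apply invol_mem_norm p.2.2.1
    rw [mul_inv_rev, hinv p.2.2.1, hinv p.1.2.1]
    calc p.2.1 * (p.1.1 * p.2.1) * p.2.1 = p.2.1 * p.1.1 * (p.2.1 * p.2.1) := by group
      _ = _ := by rw [p.2.2.1]; group
  have hΨinj : Function.Injective Ψ := by
    intro p p' hpp
    have h1 : ∀ {d : DihedralGroup r} (b b' : I d),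
        b.1 ∈ normalizer (((Ψ p : Sylow r G) : Subgroup G) : Set G) →
        b'.1 ∈ normalizer (((Ψ p : Sylow r G) : Subgroup G) : Set G) → b = b' := by
      intro d b b' hb hb'
      have h2 : b.1⁻¹ * b'.1 ∈ Q := by
        rw [← hρk, map_mul, map_inv, b.2.2, b'.2.2]; group
      have h3 := norm_trivial hQ2 hr R hC (Ψ p) h2
        (Subgroup.mul_mem _ (Subgroup.inv_mem _ hb) hb')
      rw [inv_mul_eq_one] at h3
      exact Subtype.ext h3
    apply Prod.ext
    · exact h1 _ _ (hn1 p) (by rw [hpp]; exact hn1 p')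
    · exact h1 _ _ (hn2 p) (by rw [hpp]; exact hn2 p')
  have hcount : Nat.card (I d₀) * Nat.card (I d₁) ≤ Nat.card Q := by
    rw [← Nat.card_prod, ← hSyl]
    exact Nat.card_le_card_of_injective Ψ hΨinj
  -- conjugation by `y` embeds `I d₀` in `I d₁`
  have hI01 : Nat.card (I d₀) ≤ Nat.card (I d₁) := by
    refine Nat.card_le_card_of_injective
      (fun b : I d₀ => (⟨y * b.1 * y⁻¹, ?_, ?_⟩ : I d₁)) ?_
    · calc y * b.1 * y⁻¹ * (y * b.1 * y⁻¹) = y * (b.1 * b.1) * y⁻¹ := by group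
        _ = 1 := by rw [b.2.1]; group
    · rw [map_mul, map_mul, map_inv, b.2.2]
    · intro b b' h
      have h1 : y * b.1 * y⁻¹ = y * b'.1 * y⁻¹ := congrArg Subtype.val h
      apply Subtype.ext
      simpa using h1
  let a₀ : I d₀ := ⟨a, haa, rfl⟩
  let a₂ : I d₁ := ⟨y * a * y⁻¹, by
    calc y * a * y⁻¹ * (y * a * y⁻¹) = y * (a * a) * y⁻¹ := by group
      _ = 1 := by rw [haa]; group, by
    rw [map_mul, map_mul, map_inv]⟩
  -- centralisers
  set A : Subgroup G := Q ⊓ centralizer ({a} : Set G) with hA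
  have hcomm : ∀ x ∈ A, x * a = a * x := fun x hx =>
    (Subgroup.mem_centralizer_singleton_iff.mp hx.2)
  have hyQconj : ∀ x ∈ Q, y * x * y⁻¹ ∈ Q := fun x hx => hQn.conj_mem x hx y
  have hAA : Nat.card A * Nat.card A ≤ Nat.card Q := by
    rw [← Nat.card_prod]
    refine Nat.card_le_card_of_injective
      (fun p : A × A => (⟨p.1.1 * (y * p.2.1 * y⁻¹), Q.mul_mem p.1.2.1 (hyQconj _ p.2.2.1)⟩ : Q)) ?_
    rintro ⟨α, β⟩ ⟨α', β'⟩ h
    have h1 : α.1 * (y * β.1 * y⁻¹) = α'.1 * (y * β'.1 * y⁻¹) := congrArg Subtype.val h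
    -- x = α'⁻¹ α
    set x : G := α'.1⁻¹ * α.1 with hx
    have hx2 : x = y * (β'.1 * β.1⁻¹) * y⁻¹ := by
      rw [hx, inv_mul_eq_iff_eq_mul]
      have h2 : α.1 = α'.1 * (y * β'.1 * y⁻¹) * (y * β.1 * y⁻¹)⁻¹ := by
        rw [← h1]; group
      rw [h2]; group
    have hxQ : x ∈ Q := Q.mul_mem (Q.inv_mem α'.2.1) α.2.1
    have hxa : x * a = a * x := by
      rw [hx]
      have h1 := hcomm _ α.2
      have h2 := hcomm _ α'.2
      have h3 : α'.1⁻¹ * a = a * α'.1⁻¹ := by
        rw [inv_mul_eq_iff_eq_mul, ← mul_assoc, h2, mul_assoc, mul_inv_cancel, mul_one]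
      calc α'.1⁻¹ * α.1 * a = α'.1⁻¹ * (α.1 * a) := by group
        _ = α'.1⁻¹ * (a * α.1) := by rw [h1]
        _ = (α'.1⁻¹ * a) * α.1 := by group
        _ = a * α'.1⁻¹ * α.1 := by rw [h3]
        _ = _ := by group
    have hxa₂ : x * (y * a * y⁻¹) = (y * a * y⁻¹) * x := by
      rw [hx2]
      have h1 := hcomm _ β.2
      have h2 := hcomm _ β'.2
      have h3 : β.1⁻¹ * a = a * β.1⁻¹ := by
        rw [inv_mul_eq_iff_eq_mul, ← mul_assoc, h1, mul_assoc, mul_inv_cancel, mul_one]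
      calc y * (β'.1 * β.1⁻¹) * y⁻¹ * (y * a * y⁻¹) = y * (β'.1 * (β.1⁻¹ * a)) * y⁻¹ := by group
        _ = y * (β'.1 * (a * β.1⁻¹)) * y⁻¹ := by rw [h3]
        _ = y * ((β'.1 * a) * β.1⁻¹) * y⁻¹ := by group
        _ = y * ((a * β'.1) * β.1⁻¹) * y⁻¹ := by rw [h2]
        _ = _ := by group
    have hx1 : x = 1 := by
      apply centr_conj R hC (Ψ (a₀, a₂)) hxQ
      intro v hv
      rw [hcz] at hv
      obtain ⟨n, rfl⟩ := Subgroup.mem_zpowers_iff.mp hv
      have hcc : Commute x (a * (y * a * y⁻¹)) := by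
        show x * (a * (y * a * y⁻¹)) = (a * (y * a * y⁻¹)) * x
        calc x * (a * (y * a * y⁻¹)) = (x * a) * (y * a * y⁻¹) := by group
          _ = a * (x * (y * a * y⁻¹)) := by rw [hxa]; group
          _ = a * ((y * a * y⁻¹) * x) := by rw [hxa₂]
          _ = _ := by group
      exact (hcc.zpow_right n).eq
    have hα : α = α' := by
      apply Subtype.ext
      rw [hx, inv_mul_eq_one] at hx1
      exact hx1.symm
    have hβ : β = β' := by
      apply Subtype.ext
      rw [hx1] at hx2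
      have h2 : β'.1 * β.1⁻¹ = 1 := by
        have := congrArg (fun w => y⁻¹ * w * y) hx2
        simpa [mul_assoc] using this.symm
      rw [mul_inv_eq_one] at h2
      exact h2.symm
    rw [hα, hβ]
  -- the orbit map
  have hρQ : ∀ q ∈ Q, ∀ b : G, ρ (q * b * q⁻¹) = ρ b := by
    intro q hq b
    rw [map_mul, map_mul, map_inv, (hρk q).mpr hq]; simp
  let A₀ : Subgroup Q := A.subgroupOf Q
  let f : Q → I d₀ := fun q => ⟨q.1 * a * q.1⁻¹, by
    calc q.1 * a * q.1⁻¹ * (q.1 * a * q.1⁻¹) = q.1 * (a * a) * q.1⁻¹ := by group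
      _ = 1 := by rw [haa]; group, hρQ q.1 q.2 a⟩
  have hf : ∀ q q' : Q, f q = f q' ↔ q⁻¹ * q' ∈ A₀ := by
    intro q q'
    constructor
    · intro h
      have h1 : q.1 * a * q.1⁻¹ = q'.1 * a * q'.1⁻¹ := congrArg Subtype.val h
      rw [Subgroup.mem_subgroupOf]
      refine ⟨(q⁻¹ * q').2, ?_⟩
      show _ ∈ centralizer _
      rw [Subgroup.mem_centralizer_singleton_iff]
      show q.1⁻¹ * q'.1 * a = a * (q.1⁻¹ * q'.1)
      have h2 : a = q.1⁻¹ * (q'.1 * a * q'.1⁻¹) * q.1 := by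
        rw [← h1]; group
      calc q.1⁻¹ * q'.1 * a = (q.1⁻¹ * (q'.1 * a * q'.1⁻¹) * q.1) * (q.1⁻¹ * q'.1) := by group
        _ = _ := by rw [← h2]
    · intro h
      rw [Subgroup.mem_subgroupOf] at h
      have h1 := hcomm _ h
      have h2 : (q⁻¹ * q' : Q).1 = q.1⁻¹ * q'.1 := rfl
      rw [h2] at h1
      apply Subtype.ext
      show q.1 * a * q.1⁻¹ = q'.1 * a * q'.1⁻¹
      have h3 : q'.1 = q.1 * (q.1⁻¹ * q'.1) := by group
      calc q.1 * a * q.1⁻¹ = q.1 * (a * (q.1⁻¹ * q'.1)) * (q'.1)⁻¹ := by group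
        _ = q.1 * ((q.1⁻¹ * q'.1) * a) * (q'.1)⁻¹ := by rw [h1]
        _ = _ := by group
  let F : Q ⧸ A₀ → I d₀ := fun c => Quotient.liftOn' c f (by
    intro q q' h
    exact (hf q q').mpr (QuotientGroup.leftRel_apply.mp h))
  have hFinj : Function.Injective F := by
    intro c c'
    induction c using QuotientGroup.induction_on with
    | H q =>
      induction c' using QuotientGroup.induction_on with
      | H q' =>
        intro h
        have h1 : f q = f q' := h
        exact QuotientGroup.eq.mpr ((hf q q').mp h1)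
  have hm : Nat.card Q = Nat.card (Q ⧸ A₀) * Nat.card A := by
    have h1 := Subgroup.card_eq_card_quotient_mul_card_subgroup A₀
    have h2 : Nat.card A₀ = Nat.card A :=
      Nat.card_congr (Subgroup.subgroupOfEquivOfLe (inf_le_left : A ≤ Q)).toEquiv
    rw [h2] at h1
    exact h1
  have hmle : Nat.card (Q ⧸ A₀) ≤ Nat.card (I d₀) := Nat.card_le_card_of_injective F hFinj
  have hmpos : 0 < Nat.card (Q ⧸ A₀) := Nat.card_pos
  have hApos : 0 < Nat.card A := Nat.card_pos
  set m := Nat.card (Q ⧸ A₀) with hmdef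
  set α := Nat.card A with hαdef
  set i₀ := Nat.card (I d₀) with hi₀
  set i₁ := Nat.card (I d₁) with hi₁
  have h1 : m * m ≤ m * α := by
    calc m * m ≤ i₀ * i₁ := Nat.mul_le_mul hmle (hmle.trans hI01)
      _ ≤ Nat.card Q := hcount
      _ = m * α := hm
  have h2 : m ≤ α := Nat.le_of_mul_le_mul_left h1 hmpos
  have h3 : α * α ≤ m * α := by rw [← hm]; exact hAA
  have h4 : α ≤ m := Nat.le_of_mul_le_mul_right h3 hApos
  have h5 : α = m := le_antisymm h4 h2
  have h6 : i₀ * i₀ ≤ m * m := by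
    calc i₀ * i₀ ≤ i₀ * i₁ := Nat.mul_le_mul_left _ hI01
      _ ≤ Nat.card Q := hcount
      _ = m * α := hm
      _ = m * m := by rw [h5]
  have h7 : i₀ ≤ m := by
    by_contra hlt
    push Not at hlt
    have := Nat.mul_lt_mul'' hlt hlt
    omega
  have hFbij : Function.Surjective F :=
    (hFinj.bijective_of_nat_card_le h7).2
  refine ⟨?_, ?_⟩
  · intro b hb hbQ
    have hbb : b * b = 1 := by
      have := pow_orderOf_eq_one b
      rw [hb, pow_two] at this; exact this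
    have hρb1 : ρ b ≠ 1 := fun h => hbQ ((hρk b).mp h)
    obtain ⟨i', hi'⟩ := dih_invol hr (ρ b) hρb1 (by rw [← map_mul, hbb, map_one])
    -- conjugate in the dihedral group
    set j₀ : ZMod r := (i - i') * (2 : ZMod r)⁻¹ with hj₀
    have hj₀2 : j₀ + j₀ = i - i' := by
      have h2 := two_ne_zero' (r := r) hr
      rw [hj₀]
      field_simp
      ring
    obtain ⟨g, hg⟩ := hρs (DihedralGroup.r j₀)
    have hb' : ρ (g⁻¹ * b * g) = d₀ := by
      rw [map_mul, map_mul, map_inv, hg, hi', hi, inv_r, r_mul_sr, sr_mul_r]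
      congr 1
      have : i = i' + (j₀ + j₀) := by rw [hj₀2]; ring
      rw [this]; ring
    let b' : I d₀ := ⟨g⁻¹ * b * g, by
      calc g⁻¹ * b * g * (g⁻¹ * b * g) = g⁻¹ * (b * b) * g := by group
        _ = 1 := by rw [hbb]; group, hb'⟩
    obtain ⟨c, hc⟩ := hFbij b'
    induction c using QuotientGroup.induction_on with
    | H q =>
      have h8 : f q = b' := hc
      have h9 : q.1 * a * q.1⁻¹ = g⁻¹ * b * g := congrArg Subtype.val h8
      refine ⟨g * q.1, ?_⟩
      calc g * q.1 * a * (g * q.1)⁻¹ = g * (q.1 * a * q.1⁻¹) * g⁻¹ := by group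
        _ = g * (g⁻¹ * b * g) * g⁻¹ := by rw [h9]
        _ = b := by group
  · rw [hm, ← h5, pow_two]
end

/-- Let G be a finite group and r an odd prime such that G ⧸ O₂(G) is dihedral of order 2r, and let R be a Sylow r-subgroup of G with C_{O₂(G)}(R) = 1. Then N_G(R) is dihedral of order 2r; for any involution a of N_G(R), every involution of G outside O₂(G) is conjugate to a; and |C_{O₂(G)}(a)|² = |O₂(G)|. -/
theorem result {G : Type*} [Group G] [Finite G] {r : ℕ} [Fact r.Prime] (hr : r ≠ 2) [hN : (Cfsg.pCore 2 G).Normal] (hquot : Nonempty (G ⧸ Cfsg.pCore 2 G ≃* DihedralGroup r)) (R : Sylow r G) (hC : Cfsg.pCore 2 G ⊓ Subgroup.centralizer ((R : Subgroup G) : Set G) = ⊥) : Nonempty (↥(Subgroup.normalizer ((R : Subgroup G) : Set G)) ≃* DihedralGroup r) ∧ ∀ a : G, a ∈ Subgroup.normalizer ((R : Subgroup G) : Set G) → orderOf a = 2 → (∀ b : G, orderOf b = 2 → b ∉ Cfsg.pCore 2 G → ∃ g : G, g * a * g⁻¹ = b) ∧ Nat.card ↥(Cfsg.pCore 2 G ⊓ Subgroup.centralizer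 ({a} : Set G)) ^ 2 = Nat.card ↥(Cfsg.pCore 2 G) := by
  classical
  set Q := Cfsg.pCore 2 G with hQdef
  haveI : Fact (Nat.Prime 2) := ⟨Nat.prime_two⟩
  have hQ2 : IsPGroup 2 Q := Cfsg.Agent.Lib.Basic.PCore.pCore_isPGroup (G := G) 2
  obtain ⟨e⟩ := hquot
  let ρ : G →* DihedralGroup r := e.toMonoidHom.comp (QuotientGroup.mk' Q)
  have hρs : Function.Surjective ρ :=
    e.surjective.comp (QuotientGroup.mk'_surjective Q)
  have hρk : ∀ g, ρ g = 1 ↔ g ∈ Q := by
    intro g
    show e (g : G ⧸ Q) = 1 ↔ _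
    rw [map_eq_one_iff e e.injective, QuotientGroup.eq_one_iff]
  have hcard : Nat.card G = Nat.card Q * (2 * r) := by
    have h1 := Subgroup.card_eq_card_quotient_mul_card_subgroup Q
    rw [Nat.card_congr e.toEquiv, DihedralGroup.nat_card] at h1
    rw [h1]; ring
  have hr' : r.Prime := Fact.out
  -- elements of `R` map to rotations
  have hRrot : ∀ s ∈ (R : Subgroup G), ∃ k : ZMod r, ρ s = DihedralGroup.r k := by
    intro s hs
    rcases hd : ρ s with k | k
    · exact ⟨k, rfl⟩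
    · exfalso
      by_cases hs1 : s = 1
      · rw [hs1, map_one] at hd
        rw [DihedralGroup.one_def] at hd
        cases hd
      have h1 : s * s ∈ Q := by
        rw [← hρk, map_mul, hd, DihedralGroup.sr_mul_self]
      have h2 : s * s = 1 := inf_eq_one hQ2 hr R h1 (Subgroup.mul_mem _ hs hs)
      have h3 : orderOf s = 2 := by
        apply orderOf_eq_prime (by rw [pow_two]; exact h2) hs1
      obtain ⟨n, hn⟩ := IsPGroup.iff_orderOf.mp R.isPGroup' ⟨s, hs⟩
      have h4 : orderOf s = r ^ n := by rw [← hn]; exact (Subgroup.orderOf_mk _ _).symm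
      rw [h3] at h4
      rcases Nat.eq_zero_or_pos n with h5 | h5
      · rw [h5, pow_zero] at h4; omega
      · have h6 : r ∣ 2 := by rw [h4]; exact dvd_pow_self r h5.ne'
        exact hr ((Nat.prime_dvd_prime_iff_eq hr' Nat.prime_two).mp h6)
  -- a nontrivial element of `R`
  have hrdvd : r ∣ Nat.card (R : Subgroup G) := by
    apply Sylow.dvd_card_of_dvd_card R
    rw [hcard]
    exact Dvd.dvd.mul_left (Dvd.intro_left 2 rfl) _
  have hRne : (R : Subgroup G) ≠ ⊥ := by
    intro h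
    rw [h, Subgroup.card_bot] at hrdvd
    exact hr'.one_lt.ne' (Nat.dvd_one.mp hrdvd)
  obtain ⟨y, hyR, hy1⟩ := (Subgroup.bot_or_exists_ne_one _).resolve_left hRne
  have hyQ : y ∉ Q := fun h => hy1 (inf_eq_one hQ2 hr R h hyR)
  obtain ⟨j, hj⟩ := hRrot y hyR
  have hj0 : j ≠ 0 := by
    rintro rfl
    exact hyQ ((hρk y).mp (by rw [hj, DihedralGroup.r_zero]))
  -- the image of `R` is normal
  let Z : Subgroup (DihedralGroup r) := (R : Subgroup G).map ρ
  have hrotZ : ∀ k : ZMod r, DihedralGroup.r k ∈ Z := by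
    intro k
    refine ⟨y ^ (k * j⁻¹).val, Subgroup.pow_mem _ hyR _, ?_⟩
    rw [map_pow, hj, DihedralGroup.r_pow]
    congr 1
    rw [ZMod.natCast_zmod_val]
    field_simp
  have hZn : Z.Normal := by
    constructor
    intro d hd g
    obtain ⟨s, hs, rfl⟩ := hd
    obtain ⟨k, hk⟩ := hRrot s hs
    rw [hk]
    cases g with
    | r l =>
      rw [DihedralGroup.inv_r, DihedralGroup.r_mul_r, DihedralGroup.r_mul_r]
      exact hrotZ _
    | sr l =>
      rw [DihedralGroup.inv_sr, DihedralGroup.sr_mul_r, DihedralGroup.sr_mul_sr]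
      exact hrotZ _
  let M : Subgroup G := Z.comap ρ
  haveI hMn : M.Normal := Subgroup.Normal.comap hZn ρ
  have hRM : (R : Subgroup G) ≤ M := Subgroup.le_comap_map _ _
  have hsup : Subgroup.normalizer ((R : Subgroup G) : Set G) ⊔ M = ⊤ :=
    Sylow.normalizer_sup_eq_top' R hRM
  have hNsurj : ∀ d, ∃ n ∈ Subgroup.normalizer ((R : Subgroup G) : Set G), ρ n = d := by
    intro d
    obtain ⟨g, rfl⟩ := hρs d
    have hg : g ∈ Subgroup.normalizer ((R : Subgroup G) : Set G) ⊔ M := by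
      rw [hsup]; exact Subgroup.mem_top g
    have hg' : g ∈ ((Subgroup.normalizer ((R : Subgroup G) : Set G) ⊔ M : Subgroup G) : Set G) := hg
    rw [Subgroup.mul_normal] at hg'
    obtain ⟨n, hn, m, hm, rfl⟩ := Set.mem_mul.mp hg'
    obtain ⟨s, hs, hsm⟩ := hm
    refine ⟨n * s, Subgroup.mul_mem _ hn (Subgroup.le_normalizer hs), ?_⟩
    rw [map_mul, map_mul]
    congr 1
  let φ : Subgroup.normalizer ((R : Subgroup G) : Set G) →* DihedralGroup r :=
    ρ.comp (Subgroup.normalizer ((R : Subgroup G) : Set G)).subtype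
  have hφinj : Function.Injective φ := by
    rw [injective_iff_map_eq_one]
    intro x hx
    have h1 : x.1 ∈ Q := (hρk _).mp hx
    exact Subtype.ext (norm_trivial hQ2 hr R hC R h1 x.2)
  have hφsurj : Function.Surjective φ := by
    intro d
    obtain ⟨n, hn, hd⟩ := hNsurj d
    exact ⟨⟨n, hn⟩, hd⟩
  let E := MulEquiv.ofBijective φ ⟨hφinj, hφsurj⟩
  refine ⟨⟨E⟩, ?_⟩
  have hNcard : Nat.card (Subgroup.normalizer ((R : Subgroup G) : Set G)) = 2 * r := by
    rw [Nat.card_congr E.toEquiv, DihedralGroup.nat_card]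
  have hSyl : Nat.card (Sylow r G) = Nat.card Q := by
    have h0 : Nat.card (Sylow r G) = (Subgroup.normalizer ((R : Subgroup G) : Set G)).index :=
      Sylow.card_eq_index_normalizer R
    rw [h0]
    have h1 := Subgroup.card_mul_index (Subgroup.normalizer ((R : Subgroup G) : Set G))
    rw [hNcard, hcard] at h1
    have hpos : 0 < 2 * r := by have := hr'.pos; omega
    apply Nat.eq_of_mul_eq_mul_left hpos
    rw [h1]; ring
  intro a haN ha
  have haQ : a ∉ Q := by
    intro h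
    have := norm_trivial hQ2 hr R hC R h haN
    rw [this, orderOf_one] at ha
    omega
  exact core hQ2 hr hcard ρ hρs hρk R hC hSyl a ha haQ y hyQ j hj

end Cfsg.Agent.S2873
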