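import Cfsg.Statements.S2874
import Mathlib

set_option autoImplicit false
open Cfsg

namespace Cfsg.Agent.S2874


abbrev B2 := Matrix (Fin 2) (Fin 2) (ZMod 2)

def Rb : B2 := !![0,1;1,1]

lemma D1 : ∀ x : B2, x * x = 1 → x * (Rb * x * (Rb * Rb)) = (Rb * x * (Rb * Rb)) * x →
    (x * (Rb * x * (Rb * Rb))) * ((Rb * Rb) * x * Rb) = 1 → x = 1 := by decide +kernel

lemma D2 : ∀ w : B2, w * w + w = 0 → w + Rb * w * (Rb * Rb) + (Rb * Rb) * w * Rb = 0 → w = 0 := by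
  decide +kernel

def s1 : B2 := !![0,1;1,0]
def s2 : B2 := !![1,0;1,1]
def s3 : B2 := !![1,1;0,1]

lemma D3 : ∀ w : B2, w + Rb * w * (Rb * Rb) + (Rb * Rb) * w * Rb = 0 → w ≠ 0 →
    w = s1 ∨ w = s2 ∨ w = s3 := by decide +kernel

lemma D4 : ∀ y : B2, y * y * y = 1 → y ≠ 1 → y * y + y + 1 = 0 ∧ y 1 0 = 1 ∧ (y - 1).det = 1 := by
  decide +kernel

abbrev A4 := alternatingGroup (Fin 4)

lemma A1 : ∀ r v : A4, r * r * r = 1 → r ≠ 1 → v * v = 1 → v ≠ 1 →
    v * (r * v * (r * r)) = (r * v * (r * r)) * v ∧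
    (v * (r * v * (r * r))) * ((r * r) * v * r) = 1 := by decide +kernel

lemma A2 : ∀ r x : A4, r * r * r = 1 → r ≠ 1 →
    x * x = 1 ∨ (x * (r * r)) * (x * (r * r)) = 1 ∨ (x * r) * (x * r) = 1 := by decide +kernel

lemma A3 : ∃ r : A4, r * r * r = 1 ∧ r ≠ 1 := by decide +kernel

section reductions

open Matrix

/-- Matrices over `ℤ/2^k`. -/
abbrev Bk (k : ℕ) := Matrix (Fin 2) (Fin 2) (ZMod (2 ^ k))

/-- Reduction of scalars modulo two. -/
def pi0 (k : ℕ) (hk : 1 ≤ k) : ZMod (2 ^ k) →+* ZMod 2 :=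
  ZMod.castHom (dvd_pow_self 2 (by omega : k ≠ 0)) (ZMod 2)

/-- Reduction of matrices modulo two. -/
def piM (k : ℕ) (hk : 1 ≤ k) : Bk k →+* B2 := (pi0 k hk).mapMatrix

variable {k : ℕ} (hk : 1 ≤ k)

lemma piM_apply (X : Bk k) (i j : Fin 2) : piM k hk X i j = pi0 k hk (X i j) := rfl

lemma two_pow_zero : (2 : ZMod (2 ^ k)) ^ k = 0 := by
  have : ((2 ^ k : ℕ) : ZMod (2 ^ k)) = 0 := ZMod.natCast_self _
  exact_mod_cast this

lemma pi0_two : pi0 k hk 2 = 0 := by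
  have : (2 : ZMod (2 ^ k)) = ((2 : ℕ) : ZMod (2 ^ k)) := by norm_cast
  rw [this, map_natCast]
  decide

lemma pi0_val (x : ZMod (2 ^ k)) : pi0 k hk x = (x.val : ZMod 2) := by
  haveI : NeZero (2 ^ k) := ⟨by positivity⟩
  conv_lhs => rw [← ZMod.natCast_zmod_val x]
  rw [map_natCast]

lemma two_dvd_of_pi0 (x : ZMod (2 ^ k)) (h : pi0 k hk x = 0) : ∃ y, x = 2 * y := by
  haveI : NeZero (2 ^ k) := ⟨by positivity⟩
  rw [pi0_val hk, ZMod.natCast_eq_zero_iff] at h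
  obtain ⟨m, hm⟩ := h
  refine ⟨(m : ZMod (2 ^ k)), ?_⟩
  rw [← ZMod.natCast_zmod_val x, hm]
  push_cast
  rfl

lemma pi0_of_pow_mul (m : ℕ) (hm : m < k) (x : ZMod (2 ^ k)) (h : 2 ^ m * x = 0) :
    pi0 k hk x = 0 := by
  haveI : NeZero (2 ^ k) := ⟨by positivity⟩
  rw [pi0_val hk, ZMod.natCast_eq_zero_iff]
  have h1 : ((2 ^ m * x.val : ℕ) : ZMod (2 ^ k)) = 0 := by
    push_cast
    rw [ZMod.natCast_zmod_val]
    exact h
  rw [ZMod.natCast_eq_zero_iff] at h1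
  have h2 : 2 ^ k = 2 ^ m * 2 ^ (k - m) := by
    rw [← pow_add]
    congr 1
    omega
  have h1' : 2 ^ m * 2 ^ (k - m) ∣ 2 ^ m * x.val := by
    rw [← h2]
    exact h1
  have h3 := Nat.dvd_of_mul_dvd_mul_left (by positivity) h1'
  exact (dvd_pow_self 2 (by omega)).trans h3

lemma isUnit_of_pi0 (x : ZMod (2 ^ k)) (h : pi0 k hk x ≠ 0) : IsUnit x := by
  haveI : NeZero (2 ^ k) := ⟨by positivity⟩
  rw [pi0_val hk, Ne, ZMod.natCast_eq_zero_iff] at h
  rw [← ZMod.natCast_zmod_val x, ZMod.isUnit_iff_coprime]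
  apply Nat.Coprime.pow_right
  exact (Nat.Prime.coprime_iff_not_dvd Nat.prime_two).2 h |>.symm

lemma piM_of_smul (m : ℕ) (hm : m < k) (X : Bk k) (h : ((2 : ZMod (2 ^ k)) ^ m) • X = 0) :
    piM k hk X = 0 := by
  ext i j
  rw [piM_apply]
  apply pi0_of_pow_mul hk m hm
  have := congrFun (congrFun h i) j
  simpa using this

lemma exists_two_smul (W : Bk k) (h : piM k hk W = 0) : ∃ Y : Bk k, W = (2 : ZMod (2 ^ k)) • Y := by
  have h1 : ∀ i j, ∃ y, W i j = 2 * y := by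
    intro i j
    apply two_dvd_of_pi0 hk
    rw [← piM_apply, h]
    rfl
  choose Y hY using h1
  refine ⟨Matrix.of Y, ?_⟩
  ext i j
  simp [hY]

lemma piM_smul_two (Y : Bk k) : piM k hk ((2 : ZMod (2 ^ k)) • Y) = 0 := by
  ext i j
  rw [piM_apply]
  simp [pi0_two hk]

/-- The standard element of order three. -/
def Rk (k : ℕ) : Bk k := !![0, -1; 1, -1]

lemma Rk_mul_sq (k : ℕ) : Rk k * (Rk k * Rk k) = 1 := by
  rw [Rk, Matrix.mul_fin_two, Matrix.mul_fin_two, Matrix.one_fin_two]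
  simp

lemma Rk_sq_mul (k : ℕ) : (Rk k * Rk k) * Rk k = 1 := by
  rw [mul_assoc, Rk_mul_sq]

lemma piM_Rk : piM k hk (Rk k) = Rb := by
  have h1 : pi0 k hk (-1) = 1 := by
    rw [map_neg, map_one]
    decide
  have h0 : pi0 k hk 0 = 0 := map_zero _
  have h2 : pi0 k hk 1 = 1 := map_one _
  ext i j
  rw [piM_apply]
  fin_cases i <;> fin_cases j <;> simp [Rk, Rb, h1, h2]

/-- The relevant elements. -/
def S1 (k : ℕ) : Bk k := !![0, 1; 1, 0]
/-- The relevant elements. -/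
def S2 (k : ℕ) : Bk k := !![1, 0; 1, 1]
/-- The relevant elements. -/
def S3 (k : ℕ) : Bk k := !![1, 1; 0, 1]

lemma piM_S1 : piM k hk (S1 k) = s1 := by
  have h2 : pi0 k hk 1 = 1 := map_one _
  ext i j
  rw [piM_apply]
  fin_cases i <;> fin_cases j <;> simp [S1, s1, h2]

lemma piM_S2 : piM k hk (S2 k) = s2 := by
  have h2 : pi0 k hk 1 = 1 := map_one _
  ext i j
  rw [piM_apply]
  fin_cases i <;> fin_cases j <;> simp [S2, s2, h2]

lemma piM_S3 : piM k hk (S3 k) = s3 := by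
  have h2 : pi0 k hk 1 = 1 := map_one _
  ext i j
  rw [piM_apply]
  fin_cases i <;> fin_cases j <;> simp [S3, s3, h2]

/-- The four elements of the Klein group. -/
def uu (k : ℕ) : Fin 4 → Bk k :=
  ![1, 1 + ((2 : ZMod (2 ^ k)) ^ (k - 1)) • S1 k, 1 + ((2 : ZMod (2 ^ k)) ^ (k - 1)) • S2 k,
    1 + ((2 : ZMod (2 ^ k)) ^ (k - 1)) • S3 k]

end reductions

section claim

variable {k : ℕ}

lemma conj_form1 (a : ZMod (2 ^ k)) (W : Bk k) :
    Rk k * (1 + a • W) * (Rk k * Rk k) = 1 + a • (Rk k * W * (Rk k * Rk k)) := by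
  rw [mul_add, add_mul, mul_one, Rk_mul_sq, mul_smul_comm, smul_mul_assoc]

lemma conj_form2 (a : ZMod (2 ^ k)) (W : Bk k) :
    (Rk k * Rk k) * (1 + a • W) * Rk k = 1 + a • ((Rk k * Rk k) * W * Rk k) := by
  rw [mul_add, add_mul, mul_one, Rk_sq_mul, mul_smul_comm, smul_mul_assoc]

lemma expand2 (a : ZMod (2 ^ k)) (W : Bk k) :
    (1 + a • W) * (1 + a • W) = 1 + (2 * a) • W + (a * a) • (W * W) := by
  simp only [mul_add, add_mul, smul_mul_assoc, mul_smul_comm, smul_smul, one_mul, mul_one, smul_add]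
  module

lemma expand3 (a : ZMod (2 ^ k)) (W W2 W3 : Bk k) :
    (1 + a • W) * (1 + a • W2) * (1 + a • W3) =
      1 + a • (W + W2 + W3) + (a * a) • (W * W2 + W * W3 + W2 * W3 + a • (W * W2 * W3)) := by
  simp only [mul_add, add_mul, smul_mul_assoc, mul_smul_comm, smul_smul, one_mul, mul_one, smul_add]
  module

variable (hk : 2 ≤ k) (x : Bk k)
  (hxx : x * x = 1)
  (hcomm : x * (Rk k * x * (Rk k * Rk k)) = (Rk k * x * (Rk k * Rk k)) * x)
  (hprod : (x * (Rk k * x * (Rk k * Rk k))) * ((Rk k * Rk k) * x * Rk k) = 1)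

include hk hxx hcomm hprod in
lemma step_one : ∃ W : Bk k, x = 1 + (2 : ZMod (2 ^ k)) • W := by
  have hk1 : 1 ≤ k := by omega
  have h := D1 (piM k hk1 x)
    (by rw [← map_mul, hxx, map_one])
    (by
      have := congrArg (piM k hk1) hcomm
      simpa only [map_mul, piM_Rk] using this)
    (by
      have := congrArg (piM k hk1) hprod
      simpa only [map_mul, piM_Rk, map_one] using this)
  have h0 : piM k hk1 (x - 1) = 0 := by rw [map_sub, h, map_one, sub_self]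
  obtain ⟨Y, hY⟩ := exists_two_smul hk1 _ h0
  exact ⟨Y, by rw [← hY]; abel⟩

include hxx in
lemma step_big (j : ℕ) (hj2 : 2 ≤ j) (hjk : j + 1 < k) (W : Bk k)
    (hx : x = 1 + ((2 : ZMod (2 ^ k)) ^ j) • W) :
    ∃ W' : Bk k, x = 1 + ((2 : ZMod (2 ^ k)) ^ (j + 1)) • W' := by
  have hk1 : 1 ≤ k := by omega
  rw [hx, expand2] at hxx
  have e1 : (2 : ZMod (2 ^ k)) * 2 ^ j = 2 ^ (j + 1) := by ring
  obtain ⟨i, rfl⟩ : ∃ i, j = i + 2 := ⟨j - 2, by omega⟩
  have e2 : (2 : ZMod (2 ^ k)) ^ (i + 2) * 2 ^ (i + 2) = 2 ^ (i + 2 + 1) * (2 * 2 ^ i) := by ring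
  have h1 : ((2 : ZMod (2 ^ k)) ^ (i + 2 + 1)) • (W + (2 : ZMod (2 ^ k)) • ((2 : ZMod (2 ^ k)) ^ i • (W * W))) = 0 := by
    have : (1 : Bk k) + (2 ^ (i + 2 + 1) : ZMod (2 ^ k)) • W +
        (2 ^ (i + 2 + 1) * (2 * 2 ^ i) : ZMod (2 ^ k)) • (W * W) = 1 + 0 := by
      rw [add_zero]
      rw [e1, e2] at hxx
      exact hxx
    rw [add_assoc] at this
    have h2 := add_left_cancel this
    rw [← h2]
    module
  have h2 := piM_of_smul hk1 _ hjk _ h1
  rw [map_add, piM_smul_two, add_zero] at h2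
  obtain ⟨Y, hY⟩ := exists_two_smul hk1 _ h2
  refine ⟨Y, ?_⟩
  rw [hx, hY]
  congr 1
  rw [smul_smul]
  congr 1
  ring

include hxx hprod in
lemma step_two (hk3 : 2 < k) (W : Bk k) (hx : x = 1 + (2 : ZMod (2 ^ k)) • W) :
    ∃ W' : Bk k, x = 1 + ((2 : ZMod (2 ^ k)) ^ 2) • W' := by
  have hk1 : 1 ≤ k := by omega
  have hR := piM_Rk (k := k) hk1
  -- square
  have h1 : piM k hk1 (W * W + W) = 0 := by
    rw [hx, expand2] at hxx
    apply piM_of_smul hk1 2 hk3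
    have : (1 : Bk k) + ((2 : ZMod (2 ^ k)) ^ 2 • (W * W + W)) = 1 + 0 := by
      calc (1 : Bk k) + ((2 : ZMod (2 ^ k)) ^ 2 • (W * W + W))
          = 1 + ((2 : ZMod (2 ^ k)) * 2) • W + ((2 : ZMod (2 ^ k)) * 2) • (W * W) := by module
        _ = 1 := hxx
        _ = 1 + 0 := (add_zero _).symm
    exact add_left_cancel this
  -- product
  have h2 : piM k hk1 (W + Rk k * W * (Rk k * Rk k) + (Rk k * Rk k) * W * Rk k) = 0 := by
    rw [hx, conj_form1, conj_form2, expand3] at hprod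
    set T := (W * (Rk k * W * (Rk k * Rk k)) + W * ((Rk k * Rk k) * W * Rk k) +
      (Rk k * W * (Rk k * Rk k)) * ((Rk k * Rk k) * W * Rk k) +
      (2 : ZMod (2 ^ k)) • (W * (Rk k * W * (Rk k * Rk k)) * ((Rk k * Rk k) * W * Rk k))) with hT
    have h3 : piM k hk1 ((W + Rk k * W * (Rk k * Rk k) + (Rk k * Rk k) * W * Rk k) +
        (2 : ZMod (2 ^ k)) • T) = 0 := by
      apply piM_of_smul hk1 1 (by omega)
      have : (1 : Bk k) + ((2 : ZMod (2 ^ k)) ^ 1 • ((W + Rk k * W * (Rk k * Rk k) + (Rk k * Rk k) * W * Rk k) +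
        (2 : ZMod (2 ^ k)) • T)) = 1 + 0 := by
        calc (1 : Bk k) + ((2 : ZMod (2 ^ k)) ^ 1 • ((W + Rk k * W * (Rk k * Rk k) + (Rk k * Rk k) * W * Rk k) +
              (2 : ZMod (2 ^ k)) • T))
            = 1 + (2 : ZMod (2 ^ k)) • (W + Rk k * W * (Rk k * Rk k) + (Rk k * Rk k) * W * Rk k) +
                ((2 : ZMod (2 ^ k)) * 2) • T := by module
          _ = 1 := hprod
          _ = 1 + 0 := (add_zero _).symm
      exact add_left_cancel this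
    rw [map_add, piM_smul_two, add_zero] at h3
    exact h3
  have h3 := D2 (piM k hk1 W)
    (by rw [← map_mul, ← map_add]; exact h1)
    (by
      simpa only [map_add, map_mul, hR] using h2)
  obtain ⟨Y, hY⟩ := exists_two_smul hk1 _ h3
  refine ⟨Y, ?_⟩
  rw [hx, hY]
  congr 1
  rw [smul_smul]
  congr 1
  ring

include hk hxx hcomm hprod in
lemma all_steps (j : ℕ) (hj1 : 1 ≤ j) (hjk : j < k) :
    ∃ W : Bk k, x = 1 + ((2 : ZMod (2 ^ k)) ^ j) • W := by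
  induction j, hj1 using Nat.le_induction with
  | base =>
    obtain ⟨W, hW⟩ := step_one hk x hxx hcomm hprod
    exact ⟨W, by simpa using hW⟩
  | succ j hj ih =>
    obtain ⟨W, hW⟩ := ih (by omega)
    by_cases hj2 : 2 ≤ j
    · exact step_big x hxx j hj2 hjk W hW
    · obtain rfl : j = 1 := by omega
      exact step_two x hxx hprod hjk W (by simpa using hW)

include hk hxx hcomm hprod in
lemma matrix_claim : ∃ i : Fin 4, x = uu k i := by
  by_cases hx1 : x = 1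
  · exact ⟨0, hx1⟩
  have hk1 : 1 ≤ k := by omega
  have hR := piM_Rk (k := k) hk1
  obtain ⟨W, hW⟩ := all_steps hk x hxx hcomm hprod (k - 1) (by omega) (by omega)
  set a : ZMod (2 ^ k) := 2 ^ (k - 1) with ha
  have haa : a * a = 0 := by
    rw [ha, ← pow_add]
    exact pow_eq_zero_of_le (by omega) (two_pow_zero (k := k))
  have ha2 : a * 2 = 0 := by
    rw [ha, ← pow_succ, Nat.sub_add_cancel hk1]
    exact two_pow_zero (k := k)
  have h2 : piM k hk1 (W + Rk k * W * (Rk k * Rk k) + (Rk k * Rk k) * W * Rk k) = 0 := by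
    rw [hW, conj_form1, conj_form2, expand3, haa, zero_smul, add_zero] at hprod
    apply piM_of_smul hk1 (k - 1) (by omega)
    exact add_left_cancel (a := (1 : Bk k)) (by rw [hprod, add_zero])
  have h2' : piM k hk1 W + Rb * piM k hk1 W * (Rb * Rb) + (Rb * Rb) * piM k hk1 W * Rb = 0 := by
    simpa only [map_add, map_mul, hR] using h2
  have hw0 : piM k hk1 W ≠ 0 := by
    intro h0
    obtain ⟨Y, hY⟩ := exists_two_smul hk1 _ h0
    apply hx1
    rw [hW, hY, smul_smul, ha2, zero_smul, add_zero]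
  have key : ∀ (S : Bk k), piM k hk1 W = piM k hk1 S → x = 1 + a • S := by
    intro S hS
    have h0 : piM k hk1 (W - S) = 0 := by rw [map_sub, hS, sub_self]
    obtain ⟨Y, hY⟩ := exists_two_smul hk1 _ h0
    have hW' : W = S + (2 : ZMod (2 ^ k)) • Y := by rw [← hY]; abel
    rw [hW, hW', smul_add, smul_smul, ha2, zero_smul, add_zero]
  rcases D3 _ h2' hw0 with h | h | h
  · exact ⟨1, key _ (by rw [h, piM_S1])⟩
  · exact ⟨2, key _ (by rw [h, piM_S2])⟩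
  · exact ⟨3, key _ (by rw [h, piM_S3])⟩

end claim

section conj

open Matrix

variable {k : ℕ}

lemma two_group (M W : Bk k) (hM : M = 1 + (2 : ZMod (2 ^ k)) • W) : M ^ (2 ^ k) = 1 := by
  have key : ∀ j : ℕ, ∃ V : Bk k, M ^ (2 ^ j) = 1 + ((2 : ZMod (2 ^ k)) ^ (j + 1)) • V := by
    intro j
    induction j with
    | zero => exact ⟨W, by simpa using hM⟩
    | succ j ih =>
      obtain ⟨V, hV⟩ := ih
      refine ⟨V + ((2 : ZMod (2 ^ k)) ^ j) • (V * V), ?_⟩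
      rw [pow_succ 2 j, pow_mul, hV, pow_two, expand2]
      module
  obtain ⟨V, hV⟩ := key k
  rw [hV, pow_succ, two_pow_zero, zero_mul, zero_smul, add_zero]

lemma conj_to_R (hk : 1 ≤ k) (ρ : GL (Fin 2) (ZMod (2 ^ k))) (h3 : ρ * ρ * ρ = 1) (h1 : ρ ≠ 1) :
    ∃ g : GL (Fin 2) (ZMod (2 ^ k)), ((g * ρ * g⁻¹ : GL (Fin 2) (ZMod (2 ^ k))) : Bk k) = Rk k := by
  set M : Bk k := (ρ : Bk k) with hM
  have hM3 : M * M * M = 1 := by
    have := congrArg Units.val h3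
    simpa only [Units.val_mul, Units.val_one] using this
  have hne : piM k hk M ≠ 1 := by
    intro h
    have h0 : piM k hk (M - 1) = 0 := by rw [map_sub, h, map_one, sub_self]
    obtain ⟨W, hW⟩ := exists_two_smul hk _ h0
    have hM' : M = 1 + (2 : ZMod (2 ^ k)) • W := by rw [← hW]; abel
    have hpow := two_group M W hM'
    have hρ2 : ρ ^ (2 ^ k) = 1 := Units.ext (by rw [Units.val_pow_eq_pow_val]; exact hpow)
    have hρ3 : ρ ^ 3 = 1 := by
      rw [pow_succ, pow_two]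
      exact h3
    have hg := pow_gcd_eq_one.2 ⟨hρ3, hρ2⟩
    have hcop : Nat.gcd 3 (2 ^ k) = 1 := by
      apply Nat.Coprime.pow_right
      norm_num
    rw [hcop, pow_one] at hg
    exact h1 hg
  obtain ⟨h1', h2', h3'⟩ := D4 (piM k hk M) (by rw [← map_mul, ← map_mul, hM3, map_one]) hne
  have hc : IsUnit (M 1 0) := isUnit_of_pi0 hk _ (by
    rw [← piM_apply, h2']
    decide)
  have hdet : IsUnit (M - 1).det := isUnit_of_pi0 hk _ (by
    rw [RingHom.map_det]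
    change (piM k hk (M - 1)).det ≠ 0
    rw [map_sub, map_one, h3']
    decide)
  have hunit : IsUnit (M - 1) := (Matrix.isUnit_iff_isUnit_det _).2 hdet
  have hzero : M * M + M + 1 = 0 := by
    have h4 : (M - 1) * (M * M + M + 1) = 0 := by
      have : (M - 1) * (M * M + M + 1) = M * M * M - 1 := by noncomm_ring
      rw [this, hM3, sub_self]
    exact (hunit.mul_right_eq_zero).1 h4
  have h00 : M 0 0 * M 0 0 + M 0 1 * M 1 0 + M 0 0 + 1 = 0 := by
    have := congrFun (congrFun hzero 0) 0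
    simpa [Matrix.mul_apply, Fin.sum_univ_two] using this
  have h10 : M 1 0 * M 0 0 + M 1 1 * M 1 0 + M 1 0 = 0 := by
    have := congrFun (congrFun hzero 1) 0
    simpa [Matrix.mul_apply, Fin.sum_univ_two] using this
  let P : Bk k := !![1, M 0 0; 0, M 1 0]
  have hPdet : IsUnit P.det := by
    rw [Matrix.det_fin_two_of]
    simpa using hc
  have hMP : M * P = P * Rk k := by
    ext i j
    fin_cases i <;> fin_cases j <;> simp [P, Rk, Matrix.mul_apply, Fin.sum_univ_two]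
    · linear_combination h00
    · linear_combination h10
  let Pu : GL (Fin 2) (ZMod (2 ^ k)) := Matrix.nonsingInvUnit P hPdet
  have hPu : (Pu : Bk k) = P := rfl
  refine ⟨Pu⁻¹, ?_⟩
  rw [inv_inv, Units.val_mul, Units.val_mul, hPu, ← hM, mul_assoc, hMP, ← mul_assoc]
  have : ((Pu⁻¹ : GL (Fin 2) (ZMod (2 ^ k))) : Bk k) * P = 1 := by
    rw [← hPu, ← Units.val_mul, inv_mul_cancel, Units.val_one]
  rw [this, one_mul]

end conj

section assembly

variable {k : ℕ}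

lemma Rk_ne_one (hk : 1 ≤ k) : Rk k ≠ 1 := by
  intro h
  have h1 := congrArg (piM k hk) h
  rw [piM_Rk, map_one] at h1
  revert h1
  decide +kernel

lemma image_klein (hk : 2 ≤ k) (Ψ : A4 →* Bk k) (hΨ : Function.Injective Ψ) (r : A4)
    (hr : Ψ r = Rk k) (v : A4) (hv : v * v = 1) : ∃ i, Ψ v = uu k i := by
  have hr3 : r * r * r = 1 := hΨ (by rw [map_mul, map_mul, hr, map_one, Rk_sq_mul])
  have hr1 : r ≠ 1 := by
    intro h
    rw [h, map_one] at hr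
    exact Rk_ne_one (by omega) hr.symm
  by_cases hv1 : v = 1
  · exact ⟨0, by rw [hv1, map_one]; rfl⟩
  obtain ⟨hc, hp⟩ := A1 r v hr3 hr1 hv hv1
  have hc' := congrArg Ψ hc
  simp only [map_mul, hr] at hc'
  have hp' := congrArg Ψ hp
  simp only [map_mul, hr, map_one] at hp'
  exact matrix_claim hk (Ψ v) (by rw [← map_mul, hv, map_one]) hc' hp'

lemma image_T (hk : 2 ≤ k) (Ψ : A4 →* Bk k) (hΨ : Function.Injective Ψ) (r : A4)
    (hr : Ψ r = Rk k) (t : A4) : ∃ (i : Fin 4) (l : Fin 3), Ψ t = uu k i * Rk k ^ (l : ℕ) := by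
  have hr3 : r * r * r = 1 := hΨ (by rw [map_mul, map_mul, hr, map_one, Rk_sq_mul])
  have hr1 : r ≠ 1 := by
    intro h
    rw [h, map_one] at hr
    exact Rk_ne_one (by omega) hr.symm
  rcases A2 r t hr3 hr1 with h | h | h
  · obtain ⟨i, hi⟩ := image_klein hk Ψ hΨ r hr t h
    exact ⟨i, 0, by simpa using hi⟩
  · obtain ⟨i, hi⟩ := image_klein hk Ψ hΨ r hr _ h
    refine ⟨i, 1, ?_⟩
    have ht : t = (t * (r * r)) * r := by
      rw [mul_assoc, mul_assoc, ← mul_assoc r r r, hr3, mul_one]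
    rw [← hi, ← hr, Fin.val_one, pow_one, ← map_mul, ← ht]
  · obtain ⟨i, hi⟩ := image_klein hk Ψ hΨ r hr _ h
    refine ⟨i, 2, ?_⟩
    have ht : t = (t * r) * (r * r) := by
      rw [mul_assoc, ← mul_assoc r r r, hr3, mul_one]
    have e2 : ((2 : Fin 3) : ℕ) = 2 := rfl
    rw [← hi, ← hr, e2, pow_two, ← map_mul, ← map_mul, ← ht]

lemma card_A4 : Nat.card A4 = 12 := by
  rw [Nat.card_eq_fintype_card]
  decide +kernel

lemma image_subset (hk : 2 ≤ k) (Ψ₁ Ψ₂ : A4 →* Bk k) (hΨ₁ : Function.Injective Ψ₁)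
    (hΨ₂ : Function.Injective Ψ₂) (r₁ r₂ : A4) (hr₁ : Ψ₁ r₁ = Rk k) (hr₂ : Ψ₂ r₂ = Rk k) (t : A4) :
    ∃ t', Ψ₁ t = Ψ₂ t' := by
  classical
  let T : Finset (Bk k) :=
    (Finset.univ : Finset (Fin 4 × Fin 3)).image (fun p => uu k p.1 * Rk k ^ (p.2 : ℕ))
  have hT : T.card ≤ 12 := by
    refine le_trans Finset.card_image_le ?_
    simp
  have hmem : ∀ (Ψ : A4 →* Bk k) (hΨ : Function.Injective Ψ) (r : A4) (hr : Ψ r = Rk k) (t : A4),
      Ψ t ∈ T := by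
    intro Ψ hΨ r hr t
    obtain ⟨i, l, h⟩ := image_T hk Ψ hΨ r hr t
    exact Finset.mem_image.2 ⟨(i, l), Finset.mem_univ _, h.symm⟩
  let f : A4 → T := fun t => ⟨Ψ₂ t, hmem Ψ₂ hΨ₂ r₂ hr₂ t⟩
  have hf : Function.Injective f := fun a b h => hΨ₂ (congrArg Subtype.val h)
  have hbij := hf.bijective_of_nat_card_le (by
    rw [card_A4, Nat.card_eq_fintype_card, Fintype.card_coe]
    exact hT)
  obtain ⟨t', ht'⟩ := hbij.2 ⟨Ψ₁ t, hmem Ψ₁ hΨ₁ r₁ hr₁ t⟩
  exact ⟨t', (congrArg Subtype.val ht').symm⟩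

/-- The map from `A₄` to matrices attached to an isomorphism and a conjugator. -/
def PsiOf (H : Subgroup (GL (Fin 2) (ZMod (2 ^ k)))) (φ : H ≃* A4)
    (g : GL (Fin 2) (ZMod (2 ^ k))) : A4 →* Bk k :=
  (Units.coeHom (Bk k)).comp ((MulAut.conj g).toMonoidHom.comp (H.subtype.comp φ.symm.toMonoidHom))

lemma PsiOf_apply (H : Subgroup (GL (Fin 2) (ZMod (2 ^ k)))) (φ : H ≃* A4)
    (g : GL (Fin 2) (ZMod (2 ^ k))) (t : A4) :
    PsiOf H φ g t = ((g * (φ.symm t : GL (Fin 2) (ZMod (2 ^ k))) * g⁻¹ : GL (Fin 2) (ZMod (2 ^ k))) : Bk k) := rfl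

lemma PsiOf_injective (H : Subgroup (GL (Fin 2) (ZMod (2 ^ k)))) (φ : H ≃* A4)
    (g : GL (Fin 2) (ZMod (2 ^ k))) : Function.Injective (PsiOf H φ g) := by
  intro a b hab
  rw [PsiOf_apply, PsiOf_apply] at hab
  have h1 := Units.ext hab
  have h2 : (φ.symm a : GL (Fin 2) (ZMod (2 ^ k))) = φ.symm b := by
    simpa using h1
  exact φ.symm.injective (Subtype.ext h2)

end assembly

/-- For k ≥ 2, any two subgroups of GL₂(ℤ/2ᵏℤ) (the automorphism group of the homocyclic group ℤ/2ᵏ × ℤ/2ᵏ) that are isomorphic to the alternating group of degree 4 are conjugate. -/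
theorem result (k : ℕ) (hk : 2 ≤ k) (H₁ H₂ : Subgroup (GL (Fin 2) (ZMod (2 ^ k)))) (h₁ : Nonempty (↥H₁ ≃* ↥(alternatingGroup (Fin 4)))) (h₂ : Nonempty (↥H₂ ≃* ↥(alternatingGroup (Fin 4)))) : ∃ g : GL (Fin 2) (ZMod (2 ^ k)), H₂ = H₁.map (MulAut.conj g).toMonoidHom := by
  obtain ⟨φ₁⟩ := h₁
  obtain ⟨φ₂⟩ := h₂
  obtain ⟨r₀, hr3, hr1⟩ := A3
  have hk1 : 1 ≤ k := by omega
  have key : ∀ (H : Subgroup (GL (Fin 2) (ZMod (2 ^ k)))) (φ : H ≃* A4),
      ∃ g : GL (Fin 2) (ZMod (2 ^ k)), PsiOf H φ g r₀ = Rk k := by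
    intro H φ
    have h3 : (φ.symm r₀ : GL (Fin 2) (ZMod (2 ^ k))) * (φ.symm r₀ : GL (Fin 2) (ZMod (2 ^ k))) *
        (φ.symm r₀ : GL (Fin 2) (ZMod (2 ^ k))) = 1 := by
      have := congrArg (fun x => (φ.symm x : GL (Fin 2) (ZMod (2 ^ k)))) hr3
      simpa only [map_mul, map_one, Subgroup.coe_mul, Subgroup.coe_one] using this
    have h1 : (φ.symm r₀ : GL (Fin 2) (ZMod (2 ^ k))) ≠ 1 := by
      intro h
      apply hr1
      apply φ.symm.injective
      rw [map_one]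
      exact Subtype.ext h
    obtain ⟨g, hg⟩ := conj_to_R hk1 _ h3 h1
    exact ⟨g, hg⟩
  obtain ⟨g₁, hg₁⟩ := key H₁ φ₁
  obtain ⟨g₂, hg₂⟩ := key H₂ φ₂
  haveI : Finite H₂ := Finite.of_equiv _ φ₂.symm.toEquiv
  refine ⟨g₂⁻¹ * g₁, ?_⟩
  symm
  apply Subgroup.eq_of_le_of_card_ge
  · rintro _ ⟨x, hx, rfl⟩
    obtain ⟨t', ht'⟩ := image_subset hk _ _ (PsiOf_injective H₁ φ₁ g₁) (PsiOf_injective H₂ φ₂ g₂) r₀ r₀
      hg₁ hg₂ (φ₁ ⟨x, hx⟩)
    rw [PsiOf_apply, PsiOf_apply, MulEquiv.symm_apply_apply] at ht'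
    have h1 := Units.ext ht'
    simp only at h1
    have h2 : (MulAut.conj (g₂⁻¹ * g₁)).toMonoidHom x = (φ₂.symm t' : GL (Fin 2) (ZMod (2 ^ k))) := by
      change (g₂⁻¹ * g₁) * x * (g₂⁻¹ * g₁)⁻¹ = _
      have h3 : (g₂⁻¹ * g₁) * x * (g₂⁻¹ * g₁)⁻¹ = g₂⁻¹ * (g₁ * x * g₁⁻¹) * g₂ := by group
      rw [h3, h1]
      group
    rw [h2]
    exact (φ₂.symm t').2
  · have h1 : Nat.card H₂ = Nat.card H₁ :=
      (Nat.card_congr φ₂.toEquiv).trans (Nat.card_congr φ₁.toEquiv).symm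
    rw [h1]
    have h2 : Function.Injective (MulAut.conj (g₂⁻¹ * g₁)).toMonoidHom :=
      (MulAut.conj (g₂⁻¹ * g₁)).injective
    exact le_of_eq (Nat.card_congr (Subgroup.equivMapOfInjective H₁ _ h2).toEquiv)


end Cfsg.Agent.S2874
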