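import Cfsg.Statements.S3742
import Mathlib
-- import your own Cfsg.Agent.* helpers here

set_option autoImplicit false
open Cfsg

namespace Cfsg.Agent.S3742

abbrev Q8 := QuaternionGroup 2

set_option maxRecDepth 100000

open QuaternionGroup in
/-- table of the images of the two generators `a 1`, `xa 0` under the automorphism attached
to a permutation of four points (coded by the images of 0, 1, 2 in base 4). -/
def tbl : List (ℕ × Q8 × Q8) :=
  [(6, .a 1, .xa 0),
   (7, .xa 1, .xa 2),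
   (9, .xa 0, .a 1),
   (11, .xa 3, .a 3),
   (13, .xa 2, .xa 1),
   (14, .a 3, .xa 3),
   (18, .xa 3, .xa 2),
   (19, .a 3, .xa 0),
   (24, .xa 2, .xa 3),
   (27, .a 1, .xa 1),
   (28, .xa 0, .a 3),
   (30, .xa 1, .a 1),
   (33, .xa 1, .a 3),
   (35, .xa 2, .a 1),
   (36, .a 3, .xa 1),
   (39, .xa 0, .xa 3),
   (44, .a 1, .xa 2),
   (45, .xa 3, .xa 0),
   (49, .a 1, .xa 3),
   (50, .xa 0, .xa 1),
   (52, .xa 3, .a 1),
   (54, .xa 2, .a 3),
   (56, .xa 1, .xa 0),
   (57, .a 3, .xa 2)]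

def imgs (π : Equiv.Perm (Fin 4)) : Q8 × Q8 :=
  (tbl.lookup ((π 0).val * 16 + (π 1).val * 4 + (π 2).val)).getD (1, 1)

def app (π : Equiv.Perm (Fin 4)) : Q8 → Q8
  | .a i => (imgs π).1 ^ i.val
  | .xa i => (imgs π).2 * (imgs π).1 ^ i.val

theorem app_mul : ∀ (π : Equiv.Perm (Fin 4)) (p q : Q8), app π (p * q) = app π p * app π q := by
  decide +kernel

theorem app_comp : ∀ (π ρ : Equiv.Perm (Fin 4)) (p : Q8), app (π * ρ) p = app π (app ρ p) := by
  decide +kernel

theorem app_one : ∀ p : Q8, app 1 p = p := by decide +kernel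

def autOf (π : Equiv.Perm (Fin 4)) : MulAut Q8 where
  toFun := app π
  invFun := app π⁻¹
  left_inv := fun p => by
    rw [← app_comp, inv_mul_cancel, app_one]
  right_inv := fun p => by
    rw [← app_comp, mul_inv_cancel, app_one]
  map_mul' := app_mul π

def phi : Equiv.Perm (Fin 4) →* MulAut Q8 :=
  MonoidHom.mk' autOf (fun π ρ => by
    ext p
    exact app_comp π ρ p)

theorem phi_inj : Function.Injective phi := by
  have h : ∀ π ρ : Equiv.Perm (Fin 4), app π (.a 1) = app ρ (.a 1) → app π (.xa 0) = app ρ (.xa 0) → π = ρ := by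
    decide +kernel
  intro π ρ hf
  have h1 : ∀ p, app π p = app ρ p := fun p => by
    have := congrArg (fun f : MulAut Q8 => f p) hf
    exact this
  exact h π ρ (h1 _) (h1 _)

theorem gens : ∀ q : Q8, ∃ e : Fin 2, ∃ i : Fin 4,
    q = (QuaternionGroup.xa 0 : Q8) ^ e.val * (QuaternionGroup.a 1 : Q8) ^ i.val := by
  decide +kernel

theorem exists_perm : ∀ u v : Q8, u ^ 2 ≠ 1 → v ^ 2 ≠ 1 → u * v ≠ v * u →
    ∃ π : Equiv.Perm (Fin 4), app π (.a 1) = u ∧ app π (.xa 0) = v := by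
  decide +kernel

theorem gen_facts : (QuaternionGroup.a 1 : Q8) ^ 2 ≠ 1 ∧ (QuaternionGroup.xa 0 : Q8) ^ 2 ≠ 1 ∧
    (QuaternionGroup.a 1 : Q8) * QuaternionGroup.xa 0 ≠ QuaternionGroup.xa 0 * QuaternionGroup.a 1 := by
  decide +kernel

theorem phi_surj : Function.Surjective phi := by
  intro σ
  have h1 : σ (.a 1) ^ 2 ≠ 1 := by
    intro h
    apply gen_facts.1
    apply σ.injective
    rw [map_pow, h, map_one]
  have h2 : σ (.xa 0) ^ 2 ≠ 1 := by
    intro h
    apply gen_facts.2.1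
    apply σ.injective
    rw [map_pow, h, map_one]
  have h3 : σ (.a 1) * σ (.xa 0) ≠ σ (.xa 0) * σ (.a 1) := by
    intro h
    apply gen_facts.2.2
    apply σ.injective
    rw [map_mul, map_mul, h]
  obtain ⟨π, hπ1, hπ2⟩ := exists_perm _ _ h1 h2 h3
  refine ⟨π, ?_⟩
  ext q
  obtain ⟨e, i, rfl⟩ := gens q
  have hφ : ∀ p, phi π p = app π p := fun _ => rfl
  rw [map_mul, map_mul, map_pow, map_pow, map_pow, map_pow, hφ, hφ, hπ1, hπ2]

/-- The automorphism group of the quaternion group of order 8 is isomorphic to the symmetric group of degree 4. -/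
theorem result : Nonempty (MulAut (QuaternionGroup 2) ≃* Equiv.Perm (Fin 4)) :=
  ⟨(MulEquiv.ofBijective phi ⟨phi_inj, phi_surj⟩).symm⟩

end Cfsg.Agent.S3742
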