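import Cfsg.Statements.S2879
import Mathlib
import Cfsg.Agent.Lib.PGroup.QuatSL23
import Cfsg.Agent.Lib.PGroup.CyclicMax2
import Cfsg.Agent.Lib.PGroup.CyclicMax
import Cfsg.Agent.Lib.Solvable.PSeries
import Cfsg.Agent.S0106
import Cfsg.Agent.S3742

set_option autoImplicit false
open Cfsg

namespace Cfsg.Agent.S2879

open Subgroup Cfsg.Agent.Lib.PGroup.CyclicMax Cfsg.Agent.Lib.PGroup.CyclicMax2
open Cfsg.Agent.Lib.PGroup.QuatSL23

/-- The shape shared by dihedral and semidihedral groups. -/
def TD (S : Type*) [Group S] : Prop :=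
  ∃ C : Subgroup S, IsCyclic C ∧ C.index = 2 ∧ (∀ t, t ∉ C → t ^ 4 = 1) ∧
    ∀ z₁ ∈ center S, ∀ z₂ ∈ center S, z₁ ≠ 1 → z₂ ≠ 1 → z₁ = z₂

theorem TD.of_equiv {S S' : Type*} [Group S] [Group S'] (e : S ≃* S') (h : TD S') : TD S := by
  obtain ⟨C, hc, hi, ht, hz⟩ := h
  refine ⟨C.comap e.toMonoidHom, ?_, ?_, ?_, ?_⟩
  · have : Function.Injective (fun x : C.comap e.toMonoidHom => (⟨e x.1, x.2⟩ : C)) := by
      intro a b hab
      exact Subtype.ext (e.injective (congrArg Subtype.val hab))
    let f : C.comap e.toMonoidHom →* C :=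
      { toFun := fun x => ⟨e x.1, x.2⟩
        map_one' := Subtype.ext (map_one e)
        map_mul' := fun a b => Subtype.ext (map_mul e _ _) }
    exact isCyclic_of_injective f this
  · rw [Subgroup.index_comap_of_surjective _ e.surjective, hi]
  · intro t htn
    have h1 := ht (e t) htn
    apply e.injective
    rw [map_pow, h1, map_one]
  · intro z₁ h₁ z₂ h₂ h1 h2
    apply e.injective
    apply hz
    · rw [Subgroup.mem_center_iff] at h₁ ⊢
      intro g
      have := h₁ (e.symm g)
      have h3 := congrArg e this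
      simpa using h3
    · rw [Subgroup.mem_center_iff] at h₂ ⊢
      intro g
      have := h₂ (e.symm g)
      have h3 := congrArg e this
      simpa using h3
    · exact fun h => h1 (by simpa using h)
    · exact fun h => h2 (by simpa using h)

theorem TD_dihedral (n : ℕ) (hn : 4 ≤ n) : TD (DihedralGroup n) := by
  classical
  haveI : NeZero n := ⟨by omega⟩
  have hr : ∀ i : ZMod n, DihedralGroup.r i ∈ zpowers (DihedralGroup.r (1 : ZMod n)) := by
    intro i
    refine ⟨(i.val : ℤ), ?_⟩
    show (DihedralGroup.r (1 : ZMod n)) ^ ((i.val : ℕ) : ℤ) = DihedralGroup.r i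
    rw [zpow_natCast, DihedralGroup.r_one_pow, ZMod.natCast_zmod_val]
  have hs : ∀ i : ZMod n, DihedralGroup.sr i ∉ zpowers (DihedralGroup.r (1 : ZMod n)) := by
    rintro i ⟨k, hk⟩
    have h1 : ∀ k : ℤ, ∃ j : ZMod n, (DihedralGroup.r (1 : ZMod n)) ^ k = DihedralGroup.r j := by
      intro k
      induction k using Int.induction_on with
      | zero => exact ⟨0, rfl⟩
      | succ i ih =>
        obtain ⟨j, hj⟩ := ih
        refine ⟨j + 1, ?_⟩
        rw [zpow_add_one, hj, DihedralGroup.r_mul_r]
      | pred i ih =>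
        obtain ⟨j, hj⟩ := ih
        refine ⟨j - 1, ?_⟩
        rw [zpow_sub_one, hj, DihedralGroup.inv_r, DihedralGroup.r_mul_r, sub_eq_add_neg]
    obtain ⟨j, hj⟩ := h1 k
    simp only at hk
    rw [hj] at hk
    cases hk
  refine ⟨zpowers (DihedralGroup.r (1 : ZMod n)), inferInstance, ?_, ?_, ?_⟩
  · have h1 := Subgroup.card_mul_index (zpowers (DihedralGroup.r (1 : ZMod n)))
    rw [Nat.card_zpowers, DihedralGroup.orderOf_r_one, DihedralGroup.nat_card] at h1
    have h2 : n * 2 = n * (zpowers (DihedralGroup.r (1 : ZMod n))).index := by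
      rw [h1]; ring
    exact (Nat.eq_of_mul_eq_mul_left (by omega) h2).symm
  · intro t ht
    cases t with
    | r i => exact absurd (hr i) ht
    | sr i =>
      have : (DihedralGroup.sr i) ^ 2 = 1 := by
        rw [pow_two, DihedralGroup.sr_mul_self]
      calc (DihedralGroup.sr i) ^ 4 = ((DihedralGroup.sr i) ^ 2) ^ 2 := by rw [← pow_mul]
        _ = 1 := by rw [this, one_pow]
  · have hne : (2 : ZMod n) ≠ 0 := by
      intro h
      have h3 : ((2 : ℕ) : ZMod n) = 0 := by exact_mod_cast h
      rw [ZMod.natCast_eq_zero_iff] at h3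
      have := Nat.le_of_dvd (by norm_num) h3
      omega
    have hcent : ∀ z ∈ center (DihedralGroup n), ∃ i : ZMod n, z = DihedralGroup.r i ∧ i + i = 0 := by
      intro z hz
      rw [Subgroup.mem_center_iff] at hz
      cases z with
      | sr i =>
        exfalso
        have h1 := hz (DihedralGroup.r 1)
        rw [DihedralGroup.r_mul_sr, DihedralGroup.sr_mul_r] at h1
        have h3 : i - 1 = i + 1 := DihedralGroup.sr.inj h1
        apply hne
        linear_combination -h3
      | r i =>
        refine ⟨i, rfl, ?_⟩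
        have h1 := hz (DihedralGroup.sr 0)
        rw [DihedralGroup.r_mul_sr, DihedralGroup.sr_mul_r] at h1
        have h3 : 0 + i = 0 - i := DihedralGroup.sr.inj h1
        linear_combination h3
    have hval : ∀ i : ZMod n, i ≠ 0 → i + i = 0 → 2 * i.val = n := by
      intro i hi h
      have h1 : ((i.val + i.val : ℕ) : ZMod n) = 0 := by
        push_cast
        rw [ZMod.natCast_zmod_val]
        exact h
      rw [ZMod.natCast_eq_zero_iff] at h1
      obtain ⟨c, hc⟩ := h1
      have h2 : i.val < n := ZMod.val_lt i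
      have h3 : 0 < i.val := by
        rcases Nat.eq_zero_or_pos i.val with h0 | h0
        · exact absurd ((ZMod.val_eq_zero i).mp h0) hi
        · exact h0
      have h4 : c = 1 := by
        have h5 : c < 2 := by
          by_contra h6
          push Not at h6
          have h7 : n * 2 ≤ n * c := Nat.mul_le_mul_left n h6
          omega
        have h6 : c ≠ 0 := by
          rintro rfl
          omega
        omega
      subst h4
      omega
    intro z₁ h₁ z₂ h₂ h1 h2
    obtain ⟨i, rfl, hi⟩ := hcent z₁ h₁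
    obtain ⟨j, rfl, hj⟩ := hcent z₂ h₂
    have hi0 : i ≠ 0 := by
      rintro rfl
      exact h1 rfl
    have hj0 : j ≠ 0 := by
      rintro rfl
      exact h2 rfl
    have h3 := hval i hi0 hi
    have h4 := hval j hj0 hj
    have h5 : i.val = j.val := by omega
    rw [ZMod.val_injective n h5]

theorem TD_quasi {S : Type*} [Group S] [Finite S] (h : Cfsg.IsQuasiDihedral S) : TD S := by
  classical
  obtain ⟨n, hn, hcard, x, y, hx, hy, hyx⟩ := h
  obtain ⟨P, hP⟩ : ∃ P, P = 2 ^ (n - 1) := ⟨_, rfl⟩
  have h2n : 2 ^ n = 2 * P := by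
    rw [hP, ← pow_succ']; congr 1; omega
  have hP4 : 4 ≤ P := by
    rw [hP]
    calc 4 = 2 ^ 2 := by norm_num
      _ ≤ 2 ^ (n - 1) := Nat.pow_le_pow_right (by norm_num) (by omega)
  rw [← hP] at hyx
  obtain ⟨m, hm⟩ : ∃ m, m = P - 1 := ⟨_, rfl⟩
  rw [← hm] at hyx
  have hxP : x ^ (2 * P) = 1 := by rw [← h2n, ← hx, pow_orderOf_eq_one]
  have hy2 : y ^ 2 = 1 := by rw [← hy, pow_orderOf_eq_one]
  have hyy : y * y = 1 := by rw [← pow_two]; exact hy2
  have hyi : y⁻¹ = y := inv_eq_of_mul_eq_one_left hyy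
  have hconj : ∀ k : ℕ, y * x ^ k * y⁻¹ = x ^ (m * k) := by
    intro k
    rw [← conj_pow, hyx, ← pow_mul]
  have hnotc : y * x ≠ x * y := by
    intro h
    have h1 : y * x * y⁻¹ = x := by rw [h]; group
    rw [hyx] at h1
    have h2 : x ^ m = x ^ 1 := by rw [h1, pow_one]
    rw [pow_eq_pow_iff_modEq, hx, h2n] at h2
    have h3 : m ≡ 1 [MOD 2 * P] := h2
    have h4 : 1 ≡ m [MOD 2 * P] := h3.symm
    rw [Nat.modEq_iff_dvd' (by omega)] at h4
    have := Nat.le_of_dvd (by omega) h4
    omega
  have hyC : y ∉ zpowers x := by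
    rintro ⟨k, hk⟩
    apply hnotc
    simp only at hk
    rw [← hk]
    exact ((Commute.refl x).zpow_left k).eq
  have hidx : (zpowers x).index = 2 := by
    have h1 := Subgroup.card_mul_index (zpowers x)
    rw [Nat.card_zpowers, hx, hcard, pow_succ] at h1
    exact Nat.eq_of_mul_eq_mul_left (by positivity) h1
  have hdec : ∀ t, t ∉ zpowers x → ∃ k : ℕ, t = y * x ^ k := by
    intro t ht
    have h1 : y⁻¹ * t ∈ zpowers x := by
      rw [Subgroup.mul_mem_iff_of_index_two hidx]
      simp [hyC, ht]
    obtain ⟨k, hk⟩ := (mem_powers_iff_mem_zpowers).mpr h1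
    refine ⟨k, ?_⟩
    simp only at hk
    rw [hk]
    group
  refine ⟨zpowers x, inferInstance, hidx, ?_, ?_⟩
  · intro t ht
    obtain ⟨k, rfl⟩ := hdec t ht
    have h1 : (y * x ^ k) ^ 2 = x ^ (m * k) * x ^ k := by
      rw [← hconj, hyi, pow_two]
      calc y * x ^ k * (y * x ^ k) = y * x ^ k * (y * x ^ k) := rfl
        _ = _ := by group
    have h2 : (y * x ^ k) ^ 4 = ((y * x ^ k) ^ 2) ^ 2 := by rw [← pow_mul]
    rw [h2, h1, ← pow_add, ← pow_mul]
    have h3 : (m * k + k) * 2 = (2 * P) * k := by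
      have : m + 1 = P := by omega
      calc (m * k + k) * 2 = (m + 1) * k * 2 := by ring
        _ = P * k * 2 := by rw [this]
        _ = _ := by ring
    rw [h3, pow_mul, hxP, one_pow]
  · have hcent : ∀ z ∈ center S, z = 1 ∨ z = x ^ P := by
      intro z hz
      rw [Subgroup.mem_center_iff] at hz
      by_cases hzC : z ∈ zpowers x
      · obtain ⟨k, hk⟩ := (mem_powers_iff_mem_zpowers).mpr hzC
        simp only at hk
        subst hk
        have h1 := hz y
        have h2 : y * x ^ k * y⁻¹ = x ^ k := by rw [h1]; group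
        rw [hconj, pow_eq_pow_iff_modEq, hx, h2n] at h2
        have h3 : k ≡ m * k [MOD 2 * P] := h2.symm
        have hle : k ≤ m * k := Nat.le_mul_of_pos_left k (by omega)
        rw [Nat.modEq_iff_dvd' hle] at h3
        have h4 : m * k - k = (P - 2) * k := by
          have : m = (P - 2) + 1 := by omega
          rw [this, add_mul, one_mul]
          omega
        rw [h4] at h3
        -- `P - 2 = 2 * w` with `w` odd
        obtain ⟨Q', hQ'⟩ : ∃ Q', Q' = 2 ^ (n - 2) := ⟨_, rfl⟩
        have hPQ : P = 2 * Q' := by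
          rw [hP, hQ', ← pow_succ']; congr 1; omega
        have hQ2 : 2 ∣ Q' := by
          rw [hQ']
          have : n - 2 ≠ 0 := by omega
          exact dvd_pow_self 2 this
        have hw : Nat.Coprime P (Q' - 1) := by
          rw [hP]
          apply Nat.Coprime.pow_left
          rw [Nat.coprime_two_left]
          obtain ⟨c, hc⟩ := hQ2
          have hc0 : 0 < c := by
            rcases Nat.eq_zero_or_pos c with h0 | h0
            · subst h0
              omega
            · exact h0
          rw [Nat.odd_iff]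
          omega
        have h5 : P ∣ k := by
          have h6 : P - 2 = 2 * (Q' - 1) := by omega
          rw [h6] at h3
          have h7 : 2 * P ∣ 2 * ((Q' - 1) * k) := by
            rw [mul_assoc] at h3
            exact h3
          have h8 := Nat.dvd_of_mul_dvd_mul_left (by norm_num) h7
          exact hw.dvd_of_dvd_mul_left h8
        obtain ⟨l, rfl⟩ := h5
        have hv2 : (x ^ P) ^ 2 = 1 := by rw [← pow_mul, mul_comm, hxP]
        rw [pow_mul]
        rcases Nat.even_or_odd' l with ⟨c, rfl | rfl⟩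
        · left
          rw [pow_mul, hv2, one_pow]
        · right
          rw [pow_succ, pow_mul, hv2, one_pow, one_mul]
      · exfalso
        obtain ⟨k, rfl⟩ := hdec z hzC
        apply hnotc
        have h1 := hz x
        have h2 : x * (y * x ^ k) = y * x ^ k * x := h1
        have h3 : x ^ k * x = x * x ^ k := (Commute.refl x).pow_left k |>.eq
        have h4 : y * x ^ k * x = y * x * x ^ k := by
          rw [mul_assoc, h3, ← mul_assoc]
        rw [h4, ← mul_assoc] at h2
        exact (mul_right_cancel h2).symm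
    intro z₁ h₁ z₂ h₂ h1 h2
    rcases hcent z₁ h₁ with h | h
    · exact absurd h h1
    rcases hcent z₂ h₂ with h' | h'
    · exact absurd h' h2
    rw [h, h']

/-- Normalizer membership from conjugation. -/
theorem normalizer_of_conj {G : Type*} [Group G] [Finite G] (K : Subgroup G) (g : G)
    (h : ∀ z ∈ K, g * z * g⁻¹ ∈ K) : g ∈ normalizer (K : Set G) := by
  rw [mem_normalizer_iff]
  intro z
  refine ⟨h z, fun hz => ?_⟩
  let f : K → K := fun w => ⟨g * w * g⁻¹, h w w.2⟩
  have hf : Function.Injective f := by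
    intro a b hab
    have h1 : g * (a : G) * g⁻¹ = g * b * g⁻¹ := congrArg Subtype.val hab
    exact Subtype.ext (mul_left_cancel (mul_right_cancel h1))
  obtain ⟨w, hw⟩ := (Finite.injective_iff_surjective.mp hf) ⟨_, hz⟩
  have h1 : g * (w : G) * g⁻¹ = g * z * g⁻¹ := congrArg Subtype.val hw
  have h2 : (w : G) = z := mul_left_cancel (mul_right_cancel h1)
  rw [← h2]
  exact w.2

/-- An odd element centralizing a subgroup of index two. -/
theorem cent_of_idx2 {G : Type*} [Group G] [Finite G] (Q U : Subgroup G) (hQp : IsPGroup 2 Q)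
    (hUQ : U ≤ Q) (hidx : U.relIndex Q = 2) {y : G} (hyN : y ∈ normalizer (Q : Set G))
    (hyU : ∀ u ∈ U, Commute y u) (hodd : (orderOf y).Coprime 2) : y ∈ centralizer (Q : Set G) := by
  classical
  rw [mem_centralizer_iff]
  intro q hq
  suffices h : y * q * y⁻¹ = q by
    calc q * y = (y * q * y⁻¹) * y := by rw [h]
      _ = y * q := by group
  by_cases hqU : q ∈ U
  · rw [(hyU q hqU).eq]; group
  have hyqQ : y * q * y⁻¹ ∈ Q := (mem_normalizer_iff.mp hyN q).mp hq
  have hyqU : y * q * y⁻¹ ∉ U := by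
    intro h
    apply hqU
    have h1 := hyU _ h
    have h2 : y * q * y⁻¹ = q := by
      have h3 : y * (y * q * y⁻¹) = (y * q * y⁻¹) * y := h1.eq
      have h4 : (y * q * y⁻¹) * y = y * q := by group
      rw [h4] at h3
      exact (mul_left_cancel h3)
    rwa [h2] at h
  have hidx' : (U.subgroupOf Q).index = 2 := hidx
  have hc : q⁻¹ * (y * q * y⁻¹) ∈ U := by
    have h1 := (Subgroup.mul_mem_iff_of_index_two hidx' (a := (⟨q, hq⟩ : Q)⁻¹)
      (b := ⟨y * q * y⁻¹, hyqQ⟩)).mpr ?_
    · exact Subgroup.mem_subgroupOf.mp h1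
    · constructor
      · intro h
        exfalso
        apply hqU
        have h2 := inv_mem h
        simpa [Subgroup.mem_subgroupOf] using h2
      · intro h
        exact absurd (Subgroup.mem_subgroupOf.mp h) hyqU
  obtain ⟨c, hcdef⟩ : ∃ c, c = q⁻¹ * (y * q * y⁻¹) := ⟨_, rfl⟩
  rw [← hcdef] at hc
  have hyq : y * q * y⁻¹ = q * c := by rw [hcdef]; group
  have hpow : ∀ j : ℕ, y ^ j * q * (y ^ j)⁻¹ = q * c ^ j := by
    intro j
    induction j with
    | zero => simp
    | succ j ih =>
      have h1 : y ^ (j + 1) * q * (y ^ (j + 1))⁻¹ = y * (y ^ j * q * (y ^ j)⁻¹) * y⁻¹ := by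
        rw [pow_succ']
        group
      rw [h1, ih]
      have h2 : y * (q * c ^ j) * y⁻¹ = (y * q * y⁻¹) * (y * c ^ j * y⁻¹) := by group
      rw [h2, hyq]
      have h3 : y * c ^ j * y⁻¹ = c ^ j := by
        rw [((hyU c hc).pow_right j).eq]
        group
      rw [h3, pow_succ']
      group
  have hcm : c ^ orderOf y = 1 := by
    have h1 := hpow (orderOf y)
    rw [pow_orderOf_eq_one] at h1
    have h2 : q = q * c ^ orderOf y := by
      rw [← h1]; group
    exact (mul_eq_left.mp h2.symm)
  obtain ⟨k, hk⟩ := IsPGroup.iff_card.mp hQp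
  have hcQ : c ∈ Q := hUQ hc
  have hc2 : c ^ (2 ^ k) = 1 := by
    have h1 := pow_card_eq_one' (x := (⟨c, hcQ⟩ : Q))
    rw [hk] at h1
    simpa using congrArg Subtype.val h1
  have hc1 : c = 1 := by
    have h3 : Nat.Coprime (orderOf y) (2 ^ k) := Nat.Coprime.pow_right _ hodd
    exact orderOf_eq_one_iff.mp (Nat.eq_one_of_dvd_coprimes h3 (orderOf_dvd_of_pow_eq_one hcm)
      (orderOf_dvd_of_pow_eq_one hc2))
  rw [hyq, hc1, mul_one]

/-- An odd element lies in the group generated by its square. -/
theorem mem_of_sq_mem {G : Type*} [Group G] [Finite G] (K : Subgroup G) {y : G}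
    (hodd : (orderOf y).Coprime 2) (h : y * y ∈ K) : y ∈ K := by
  obtain ⟨k, hk⟩ := exists_pow_eq_self_of_coprime (n := 2) (x := y) hodd.symm
  rw [← hk, pow_two]
  exact pow_mem h k

theorem key_Q {G : Type*} [Group G] [Finite G] (T Q : Subgroup G) (hTp : IsPGroup 2 T)
    [hQn : Q.Normal] (hQT : Q ≤ T) (hTD : TD T)
    (hZ : (T ⊓ centralizer (T : Set G)).Normal) (hZQ : T ⊓ centralizer (T : Set G) ≤ Q) {y : G}
    (hodd : (orderOf y).Coprime 2) (hyC : y ∉ centralizer (Q : Set G)) :
    Nonempty (Q ≃* QG) := by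
  classical
  obtain ⟨C₁, hc, hi, ht, hz⟩ := hTD
  let C₀ : Subgroup G := C₁.map T.subtype
  have hC₀T : C₀ ≤ T := Subgroup.map_subtype_le _
  have hC₀mem : ∀ t : T, (t : G) ∈ C₀ ↔ t ∈ C₁ := by
    intro t
    constructor
    · rintro ⟨s, hs, hst⟩
      have : s = t := Subtype.ext hst
      rwa [← this]
    · intro h
      exact ⟨t, h, rfl⟩
  have hC₀c : IsCyclic C₀ := by
    let e := Subgroup.equivMapOfInjective C₁ T.subtype T.subtype_injective
    exact isCyclic_of_injective e.symm.toMonoidHom e.symm.injective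
  have ht' : ∀ t ∈ T, t ∉ C₀ → t ^ 4 = 1 := by
    intro t htT htn
    have h1 := ht ⟨t, htT⟩ (fun h => htn ((hC₀mem ⟨t, htT⟩).mpr h))
    simpa using congrArg Subtype.val h1
  have hN : y ∈ normalizer (Q : Set G) := by
    have : normalizer (Q : Set G) = ⊤ := Subgroup.normalizer_eq_top Q
    rw [this]; trivial
  have hQp : IsPGroup 2 Q := hTp.to_le hQT
  have hQnc : ¬ IsCyclic Q := fun h =>
    hyC (Cfsg.Agent.S0106.centralizes_of_cyclic Q h hQp hN hodd)
  -- `U`
  let U : Subgroup G := Q ⊓ C₀
  have hUQ : U ≤ Q := inf_le_left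
  have hUC₀ : U ≤ C₀ := inf_le_right
  have hUc : IsCyclic U := isCyclic_of_injective (Subgroup.inclusion hUC₀) (Subgroup.inclusion_injective hUC₀)
  have hC₀T2 : C₀.relIndex T = 2 := by
    have h1 : C₀.subgroupOf T = C₁ := by
      ext t
      exact hC₀mem t
    show (C₀.subgroupOf T).index = 2
    rw [h1, hi]
  have hidxU : U.relIndex Q = 2 := by
    have h1 : U.relIndex Q = C₀.relIndex Q := Subgroup.inf_relIndex_left Q C₀
    have h2 : C₀.relIndex Q ≤ C₀.relIndex T :=
      Subgroup.relIndex_le_of_le_right hQT (by omega)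
    have h3 : U.relIndex Q ≠ 0 := by
      rw [h1]
      show (C₀.subgroupOf Q).index ≠ 0
      exact Subgroup.index_ne_zero_of_finite
    have h4 : U.relIndex Q ≠ 1 := by
      intro h
      rw [Subgroup.relIndex_eq_one] at h
      have : U = Q := le_antisymm hUQ h
      apply hQnc
      rw [← this]
      exact hUc
    omega
  have hcardQ : Nat.card Q = Nat.card U * 2 := by
    have := Cfsg.Agent.Lib.PGroup.Critical.card_eq_mul_relIndex hUQ
    rwa [hidxU] at this
  -- `y` does not normalize `U`
  have hnotN : y ∉ normalizer (U : Set G) := by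
    intro h
    have h1 := Cfsg.Agent.S0106.centralizes_of_cyclic U hUc (hQp.to_le hUQ) h hodd
    apply hyC
    apply cent_of_idx2 Q U hQp hUQ hidxU hN _ hodd
    intro u hu
    exact ((mem_centralizer_iff.mp h1) u hu).symm
  obtain ⟨s, hs⟩ := IsCyclic.exists_generator (α := U)
  have hUe : ∀ z ∈ U, ∃ k : ℕ, z = (s : G) ^ k := by
    intro z hz
    obtain ⟨k, hk⟩ := (mem_powers_iff_mem_zpowers).mpr (hs ⟨z, hz⟩)
    refine ⟨k, ?_⟩
    have := congrArg Subtype.val hk
    simpa using this.symm
  have hso : orderOf (s : G) = Nat.card U := by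
    rw [Subgroup.orderOf_coe, orderOf_eq_card_of_forall_mem_zpowers hs]
  have hconjord : ∀ (g x : G), orderOf (g * x * g⁻¹) = orderOf x := by
    intro g x
    exact orderOf_injective (MulAut.conj g).toMonoidHom (MulAut.conj g).injective x
  have hconjU : ∀ g : G, g * (s : G) * g⁻¹ ∈ U → g ∈ normalizer (U : Set G) := by
    intro g hg
    apply normalizer_of_conj
    intro z hz
    obtain ⟨k, rfl⟩ := hUe z hz
    rw [← conj_pow]
    exact pow_mem hg k
  obtain ⟨k, hk⟩ := IsPGroup.iff_card.mp (hQp.to_le hUQ)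
  have hs_conj_Q : ∀ g : G, g * (s : G) * g⁻¹ ∈ Q := fun g => hQn.conj_mem _ (hUQ s.2) g
  have hk2 : k ≤ 2 := by
    by_contra hk3
    push Not at hk3
    apply hnotN
    apply hconjU
    refine ⟨hs_conj_Q y, ?_⟩
    by_contra hnot
    have h1 := ht' _ (hQT (hs_conj_Q y)) hnot
    have h2 : orderOf (y * (s : G) * y⁻¹) ∣ 4 := orderOf_dvd_of_pow_eq_one h1
    rw [hconjord, hso, hk] at h2
    have h3 : 2 ^ 3 ∣ 2 ^ k := pow_dvd_pow 2 (by omega)
    have h4 := Nat.le_of_dvd (by norm_num) (h3.trans h2)
    norm_num at h4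
  obtain hk0 | hk1 | hk2' : k = 0 ∨ k = 1 ∨ k = 2 := by omega
  · -- trivial `U`
    subst hk0
    exfalso
    apply hnotN
    apply normalizer_of_conj
    intro z hz
    have h1 : (⟨z, hz⟩ : U) = 1 := by
      have : Subsingleton U := (Nat.card_eq_one_iff_unique.mp (by rw [hk, pow_zero])).1
      exact Subsingleton.elim _ _
    have h2 : z = 1 := congrArg Subtype.val h1
    rw [h2]
    simp
  · -- `Q` of order 4
    subst hk1
    exfalso
    have hQ4 : Nat.card Q = 4 := by rw [hcardQ, hk]; norm_num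
    have hTnt : Nontrivial T := by
      have h1 : 1 < Nat.card T := by
        have h2 := Subgroup.card_dvd_of_le hQT
        have h3 := Nat.le_of_dvd Nat.card_pos h2
        omega
      exact Finite.one_lt_card_iff_nontrivial.mp h1
    haveI := hTp.center_nontrivial
    obtain ⟨z₀, hz₀⟩ := exists_ne (1 : center T)
    let z : G := ((z₀ : T) : G)
    have hz1 : z ≠ 1 := by
      intro h
      apply hz₀
      apply Subtype.ext
      apply Subtype.ext
      exact h
    have hzZ : z ∈ T ⊓ centralizer (T : Set G) := by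
      refine ⟨(z₀ : T).2, ?_⟩
      show z ∈ centralizer (T : Set G)
      rw [mem_centralizer_iff]
      intro t ht₁
      have h1 := (Subgroup.mem_center_iff.mp z₀.2) ⟨t, ht₁⟩
      exact congrArg Subtype.val h1
    have hzQ : z ∈ Q := hZQ hzZ
    have hconjZ : y * z * y⁻¹ ∈ T ⊓ centralizer (T : Set G) := hZ.conj_mem z hzZ y
    have hyz : y * z * y⁻¹ = z := by
      have h1 : (⟨y * z * y⁻¹, hconjZ.1⟩ : T) = (z₀ : T) := by
        apply hz
        · rw [Subgroup.mem_center_iff]
          intro t
          apply Subtype.ext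
          exact (mem_centralizer_iff.mp hconjZ.2) t t.2
        · exact z₀.2
        · intro h
          apply hz1
          have h2 : y * z * y⁻¹ = 1 := congrArg Subtype.val h
          have h3 : z = y⁻¹ * (y * z * y⁻¹) * y := by group
          rw [h3, h2]
          group
        · intro h
          exact hz1 (congrArg Subtype.val h)
      exact congrArg Subtype.val h1
    have hzo : orderOf z = 2 := by
      have h1 : orderOf z ∣ 4 := by
        rw [← hQ4]
        exact Subgroup.orderOf_dvd_natCard Q hzQ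
      have h2 : orderOf z ≠ 4 := by
        intro h
        apply hQnc
        apply isCyclic_of_orderOf_eq_card (⟨z, hzQ⟩ : Q)
        rw [Subgroup.orderOf_mk, h, hQ4]
      have h3 : orderOf z ≠ 1 := fun h => hz1 (orderOf_eq_one_iff.mp h)
      have h4 : orderOf z ≤ 4 := Nat.le_of_dvd (by norm_num) h1
      interval_cases (orderOf z) <;> simp_all <;> omega
    have hU'le : zpowers z ≤ Q := Subgroup.zpowers_le.mpr hzQ
    have hidx' : (zpowers z).relIndex Q = 2 := by
      have h1 := Cfsg.Agent.Lib.PGroup.Critical.card_eq_mul_relIndex hU'le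
      rw [Nat.card_zpowers, hzo, hQ4] at h1
      omega
    apply hyC
    apply cent_of_idx2 Q (zpowers z) hQp hU'le hidx' hN _ hodd
    intro u hu
    obtain ⟨m, rfl⟩ := hu
    apply Commute.zpow_right
    show y * z = z * y
    calc y * z = (y * z * y⁻¹) * y := by group
      _ = z * y := by rw [hyz]
  · -- `Q` of order 8
    subst hk2'
    have hQ8 : Nat.card Q = 8 := by rw [hcardQ, hk]; norm_num
    have hu4 : orderOf (s : G) = 4 := by rw [hso, hk]; norm_num
    obtain ⟨u, hu⟩ : ∃ u : G, u = (s : G) := ⟨_, rfl⟩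
    have huU : u ∈ U := by rw [hu]; exact s.2
    have hUe' : ∀ z ∈ U, ∃ k : ℕ, k < 4 ∧ z = u ^ k := by
      intro z hz
      obtain ⟨k, rfl⟩ := hUe z hz
      refine ⟨k % 4, Nat.mod_lt _ (by norm_num), ?_⟩
      rw [← hu]
      conv_lhs => rw [← Nat.div_add_mod k 4]
      rw [pow_add, pow_mul]
      have : u ^ 4 = 1 := by rw [← hu4, hu, pow_orderOf_eq_one]
      rw [this, one_pow, one_mul]
    rw [← hu] at hu4 hconjU hs_conj_Q
    have hu4' : u ^ 4 = 1 := by rw [← hu4, pow_orderOf_eq_one]
    obtain ⟨b, hb⟩ : ∃ b, b = y * u * y⁻¹ := ⟨_, rfl⟩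
    have hbQ : b ∈ Q := by rw [hb]; exact hs_conj_Q y
    have hbo : orderOf b = 4 := by rw [hb, hconjord, hu4]
    have hb4 : b ^ 4 = 1 := by rw [← hbo, pow_orderOf_eq_one]
    have hbU : b ∉ U := by
      intro h
      apply hnotN
      apply hconjU
      rw [← hb]
      exact h
    have hidx' : (U.subgroupOf Q).index = 2 := hidxU
    have hout : ∀ a c : Q, (a : G) ∉ U → (c : G) ∉ U → (a : G) * c ∈ U := by
      intro a c ha hc'
      have h1 := (Subgroup.mul_mem_iff_of_index_two hidx' (a := a) (b := c)).mpr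
        ⟨fun h => absurd (Subgroup.mem_subgroupOf.mp h) ha, fun h => absurd (Subgroup.mem_subgroupOf.mp h) hc'⟩
      exact Subgroup.mem_subgroupOf.mp h1
    have hbb : b ^ 2 = u ^ 2 := by
      obtain ⟨k, hk4, hk⟩ := hUe' (b * b) (by
        have := hout ⟨b, hbQ⟩ ⟨b, hbQ⟩ hbU hbU
        exact this)
      rw [pow_two, hk]
      have hb2ne : b * b ≠ 1 := by
        intro h
        have : orderOf b ∣ 2 := orderOf_dvd_of_pow_eq_one (by rw [pow_two]; exact h)
        rw [hbo] at this
        omega
      have hbbsq : (u ^ k) ^ 2 = 1 := by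
        have h5 : (b * b) ^ 2 = b ^ 4 := by rw [← pow_two, ← pow_mul]
        rw [← hk, h5, hb4]
      have hu2 : u ^ 2 ≠ 1 := by
        intro h
        have : orderOf u ∣ 2 := orderOf_dvd_of_pow_eq_one h
        rw [hu4] at this
        omega
      interval_cases k
      · exfalso
        apply hb2ne
        rw [hk, pow_zero]
      · exfalso
        apply hu2
        simpa using hbbsq
      · rfl
      · exfalso
        apply hu2
        have h1 : (u ^ 3) ^ 2 = u ^ 4 * u ^ 2 := by
          rw [← pow_mul, ← pow_add]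
        rw [h1, hu4', one_mul] at hbbsq
        exact hbbsq
    have hbub : b * u * b⁻¹ = u ∨ b * u * b⁻¹ = u⁻¹ := by
      have h1 : b * u * b⁻¹ ∈ U := by
        have h2 : b⁻¹ ∉ U := by
          intro h
          apply hbU
          have := inv_mem h
          simpa using this
        have h3 : b * u ∉ U := by
          intro h
          apply hbU
          have h4 : b = (b * u) * u⁻¹ := by group
          rw [h4]
          exact mul_mem h (inv_mem huU)
        exact hout ⟨b * u, mul_mem hbQ (hUQ huU)⟩ ⟨b⁻¹, inv_mem hbQ⟩ h3 h2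
      obtain ⟨k, hk4, hk⟩ := hUe' _ h1
      have hord : orderOf (b * u * b⁻¹) = 4 := by rw [hconjord, hu4]
      have hu3 : u⁻¹ = u ^ 3 := by
        rw [inv_eq_iff_mul_eq_one, ← pow_succ']
        exact hu4'
      interval_cases k
      · exfalso
        rw [hk, pow_zero, orderOf_one] at hord
        omega
      · left
        rw [hk, pow_one]
      · exfalso
        rw [hk] at hord
        have h2 : orderOf (u ^ 2) ∣ 2 := orderOf_dvd_of_pow_eq_one (by
          rw [← pow_mul]
          exact hu4')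
        rw [hord] at h2
        omega
      · right
        rw [hk, hu3]
    rcases hbub with hcomm | hinv
    · -- the abelian case cannot occur
      exfalso
      have hcomm' : Commute b u := by
        show b * u = u * b
        calc b * u = (b * u * b⁻¹) * b := by group
          _ = u * b := by rw [hcomm]
      obtain ⟨c, hc⟩ : ∃ c, c = y * b * y⁻¹ := ⟨_, rfl⟩
      have hcQ : c ∈ Q := by rw [hc]; exact hQn.conj_mem _ hbQ y
      have hco : orderOf c = 4 := by rw [hc, hconjord, hbo]
      have hcU : c ∈ U := by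
        by_contra hcnot
        have h1 : b⁻¹ ∉ U := by
          intro h
          apply hbU
          have := inv_mem h
          simpa using this
        have h2 := hout ⟨b⁻¹, inv_mem hbQ⟩ ⟨c, hcQ⟩ h1 hcnot
        obtain ⟨k, hk4, hk⟩ := hUe' _ h2
        have hck : c = b * u ^ k := by
          have h3 : (b⁻¹ : G) * c = u ^ k := hk
          rw [← h3]
          group
        have hbuinj : ∀ x : G, y * b * y⁻¹ = y * x * y⁻¹ → b = x := by
          intro x hx
          exact mul_left_cancel (mul_right_cancel hx)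
        interval_cases k
        · apply hbU
          have h3 : y * b * y⁻¹ = y * u * y⁻¹ := by
            rw [← hc, hck, ← hb]
            simp
          rw [hbuinj u h3]
          exact huU
        · have h3 : c ^ 2 = 1 := by
            rw [hck, pow_one, (hcomm'.mul_pow 2), hbb, ← pow_add]
            exact hu4'
          have h4 : orderOf c ∣ 2 := orderOf_dvd_of_pow_eq_one h3
          rw [hco] at h4
          omega
        · apply hbU
          have h3 : y * b * y⁻¹ = y * u⁻¹ * y⁻¹ := by
            have h4 : c = b⁻¹ := by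
              rw [hck, ← hbb]
              rw [eq_inv_iff_mul_eq_one, ← hb4]
              simp only [pow_succ, pow_zero, one_mul, mul_assoc]
            rw [← hc, h4, hb]
            group
          rw [hbuinj u⁻¹ h3]
          exact inv_mem huU
        · have h3 : c ^ 2 = 1 := by
            rw [hck, (hcomm'.pow_right 3).mul_pow 2, hbb, ← pow_mul, ← pow_add]
            have : u ^ (2 + 3 * 2) = (u ^ 4) ^ 2 := by rw [← pow_mul]
            rw [this, hu4', one_pow]
          have h4 : orderOf c ∣ 2 := orderOf_dvd_of_pow_eq_one h3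
          rw [hco] at h4
          omega
      apply hnotN
      apply mem_of_sq_mem _ hodd
      apply hconjU
      have : (y * y) * u * (y * y)⁻¹ = c := by
        rw [hc, hb]
        group
      rw [this]
      exact hcU
    · -- the quaternion case
      have h1 : Nonempty (Q ≃* QuaternionGroup (2 ^ (2 - 1))) := by
        apply quaternion_of_data (u := (⟨u, hUQ huU⟩ : Q)) (b := (⟨b, hbQ⟩ : Q)) (n := 2) (by norm_num)
        · rw [Subgroup.orderOf_mk, hu4]
          norm_num
        · rw [hQ8]
          norm_num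
        · intro h
          apply hbU
          have h2 : zpowers (⟨u, hUQ huU⟩ : Q) ≤ U.subgroupOf Q := by
            rw [Subgroup.zpowers_le]
            exact Subgroup.mem_subgroupOf.mpr huU
          exact Subgroup.mem_subgroupOf.mp (h2 h)
        · apply Subtype.ext
          exact hinv
        · apply Subtype.ext
          exact hbb
      exact h1

theorem sl23_of {G : Type*} [Group G] [Finite G] (Q : Subgroup G) [hQn : Q.Normal] (e : Q ≃* QG) (y : G)
    (hy : orderOf y = 3) (hyC : y ∉ centralizer (Q : Set G)) :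
    Nat.card ↥(zpowers y ⊔ Q) = 24 ∧ Nonempty (↥(zpowers y ⊔ Q) ≃* SL23) := by
  classical
  have hQ8 : Nat.card Q = 8 := by
    rw [Nat.card_congr e.toEquiv, Nat.card_eq_fintype_card, QuaternionGroup.card]
  have hdisj : Disjoint (zpowers y) Q := by
    rw [Subgroup.disjoint_def]
    intro x hx1 hx2
    have h3 : orderOf x ∣ 8 := by
      rw [← hQ8]; exact Subgroup.orderOf_dvd_natCard _ hx2
    have h4 : orderOf x ∣ 3 := by
      rw [← hy]
      have := Subgroup.orderOf_dvd_natCard _ hx1
      rwa [Nat.card_zpowers] at this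
    have h5 : Nat.Coprime 8 3 := by norm_num
    exact orderOf_eq_one_iff.mp (Nat.eq_one_of_dvd_coprimes h5 h3 h4)
  have hcard : Nat.card ↥(zpowers y ⊔ Q) = 24 := by
    rw [card_sup_eq_of_disjoint _ _ hdisj, Nat.card_zpowers, hy, hQ8]
  refine ⟨hcard, ?_⟩
  let L : Subgroup G := zpowers y ⊔ Q
  have hQL : Q ≤ L := le_sup_right
  have hyL : y ∈ L := (le_sup_left : zpowers y ≤ L) (mem_zpowers y)
  let Q₀ : Subgroup L := Q.subgroupOf L
  let e₀ : Q₀ ≃* QG := (subgroupOfEquivOfLe hQL).trans e
  let g₀ : L := ⟨y, hyL⟩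
  have hg₀ : g₀ ∈ normalizer (Q₀ : Set L) := by
    have hn : Q₀.Normal := inferInstance
    have : normalizer (Q₀ : Set L) = ⊤ := Subgroup.normalizer_eq_top Q₀
    rw [this]; trivial
  have hodd : (orderOf g₀).Coprime 2 := by
    rw [Subgroup.orderOf_mk, hy]; norm_num
  have hng : g₀ ∉ centralizer (Q₀ : Set L) := by
    intro h
    apply hyC
    rw [mem_centralizer_iff] at h ⊢
    intro q hq
    have h1 := h ⟨q, hQL hq⟩ (Subgroup.mem_subgroupOf.mpr hq)
    exact congrArg Subtype.val h1
  obtain ⟨H, K, hK, ⟨f⟩⟩ := exists_section Q₀ e₀ g₀ hg₀ hodd hng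
  have hSL : Nat.card SL23 = 24 := by
    rw [Nat.card_eq_fintype_card]
    decide +kernel
  have h1 : Nat.card (H ⧸ K.subgroupOf H) = 24 := by
    rw [Nat.card_congr f.toEquiv, hSL]
  have h2 := (K.subgroupOf H).card_mul_index
  rw [Subgroup.index_eq_card, h1] at h2
  have h3 : Nat.card H ∣ 24 := by
    rw [← hcard]
    exact Subgroup.card_subgroup_dvd_card H
  have h4 : Nat.card (K.subgroupOf H) * 24 ∣ 24 := by rw [h2]; exact h3
  have h5 : Nat.card (K.subgroupOf H) = 1 := by
    have h6 := Nat.le_of_dvd (by norm_num) h4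
    have h7 : 0 < Nat.card (K.subgroupOf H) := Nat.card_pos
    omega
  have h6 : K.subgroupOf H = ⊥ := Subgroup.eq_bot_of_card_eq _ h5
  have h7 : Nat.card H = 24 := by rw [← h2, h5, one_mul]
  have h8 : H = ⊤ := by
    apply Subgroup.eq_top_of_card_eq
    rw [h7]
    exact hcard.symm
  refine ⟨?_⟩
  have e1 : ↥L ≃* ↥H := (Subgroup.topEquiv.symm).trans (MulEquiv.subgroupCongr h8.symm)
  have e2 : ↥H ≃* (H ⧸ K.subgroupOf H) :=
    (QuotientGroup.quotientBot (G := H)).symm.trans (QuotientGroup.quotientMulEquivOfEq h6.symm)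
  exact e1.trans (e2.trans f)

set_option maxRecDepth 100000 in
theorem QG_center : ∀ x : QG, (∀ w : QG, x * w = w * x) → x = 1 ∨ x = QuaternionGroup.a 2 := by
  decide +kernel

theorem QG_a2 : (QuaternionGroup.a 2 : QG) ^ 2 = 1 := by decide +kernel

theorem card_dvd_48 {G : Type*} [Group G] [Finite G] (Q : Subgroup G) [hQn : Q.Normal] (e : Q ≃* QG)
    (hC : centralizer (Q : Set G) ≤ Q) : Nat.card G ∣ 48 := by
  classical
  let φ : G →* MulAut Q := MulAut.conjNormal
  have hker : ∀ x ∈ φ.ker, x ∈ centralizer (Q : Set G) := by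
    intro x hx
    rw [mem_centralizer_iff]
    intro q hq
    have h1 : φ x = 1 := hx
    have h2 : ((φ x ⟨q, hq⟩ : Q) : G) = x * q * x⁻¹ := MulAut.conjNormal_apply x ⟨q, hq⟩
    rw [h1] at h2
    have h3 : q = x * q * x⁻¹ := h2
    calc q * x = (x * q * x⁻¹) * x := by rw [← h3]
      _ = x * q := by group
  let z₀ : G := ((e.symm (QuaternionGroup.a 2) : Q) : G)
  have hker2 : φ.ker ≤ zpowers z₀ := by
    intro x hx
    have hxC := hker x hx
    have hxQ : x ∈ Q := hC hxC
    have h1 : ∀ w : QG, e ⟨x, hxQ⟩ * w = w * e ⟨x, hxQ⟩ := by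
      intro w
      obtain ⟨q, rfl⟩ := e.surjective w
      rw [← map_mul, ← map_mul]
      congr 1
      apply Subtype.ext
      exact ((mem_centralizer_iff.mp hxC) q q.2).symm
    rcases QG_center _ h1 with h2 | h2
    · have h3 : (⟨x, hxQ⟩ : Q) = 1 := by
        apply e.injective
        rw [h2, map_one]
      have h4 : x = 1 := congrArg Subtype.val h3
      rw [h4]
      exact one_mem _
    · have h3 : (⟨x, hxQ⟩ : Q) = e.symm (QuaternionGroup.a 2) := by
        rw [← h2, MulEquiv.symm_apply_apply]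
      have h4 : x = z₀ := congrArg Subtype.val h3
      rw [h4]
      exact mem_zpowers _
  have hz2 : z₀ ^ 2 = 1 := by
    have h1 : (e.symm (QuaternionGroup.a 2) : Q) ^ 2 = 1 := by
      rw [← map_pow, QG_a2, map_one]
    have h2 := congrArg Subtype.val h1
    simpa using h2
  have hkerdvd : Nat.card φ.ker ∣ 2 := by
    have h1 := Subgroup.card_dvd_of_le hker2
    rw [Nat.card_zpowers] at h1
    exact h1.trans (orderOf_dvd_of_pow_eq_one hz2)
  have hrange : Nat.card φ.range ∣ 24 := by
    have h1 : Nat.card φ.range ∣ Nat.card (MulAut Q) := Subgroup.card_subgroup_dvd_card _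
    obtain ⟨e2⟩ := Cfsg.Agent.S3742.result
    have h2 : Nat.card (MulAut Q) = Nat.card (MulAut QG) := Nat.card_congr (MulAut.congr e).toEquiv
    have h3 : Nat.card (MulAut QG) = 24 := by
      rw [Nat.card_congr e2.toEquiv, Nat.card_eq_fintype_card, Fintype.card_perm, Fintype.card_fin]
      rfl
    rwa [h2, h3] at h1
  have h1 := φ.ker.card_mul_index
  rw [Subgroup.index_ker] at h1
  rw [← h1]
  exact Nat.mul_dvd_mul hkerdvd hrange


/-- Let G be a finite solvable group with O(G) = 1 whose Sylow 2-subgroup T is dihedral of order at least 8 or semidihedral, with G ≠ T and Z(T) normal in G. Then G has a normal subgroup isomorphic to SL₂(3). -/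
theorem result {G : Type*} [Group G] [Finite G] (hsol : IsSolvable G) (hO : Cfsg.oddCore G = ⊥) (T : Sylow 2 G) (hT : (∃ n : ℕ, 4 ≤ n ∧ Nonempty (↥(T : Subgroup G) ≃* DihedralGroup n)) ∨ Cfsg.IsQuasiDihedral ↥(T : Subgroup G)) (hne : (T : Subgroup G) ≠ ⊤) (hZ : ((T : Subgroup G) ⊓ Subgroup.centralizer ((T : Subgroup G) : Set G)).Normal) : ∃ U : Subgroup G, U.Normal ∧ Nonempty (↥U ≃* Matrix.SpecialLinearGroup (Fin 2) (ZMod 3)) := by
  classical
  haveI : Group.IsSolvable G := hsol
  obtain ⟨Q, hQ⟩ : ∃ Q, Q = Cfsg.pCore 2 G := ⟨_, rfl⟩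
  haveI hQn : Q.Normal := by rw [hQ]; exact Cfsg.pCore_normal 2 G
  have hQp : IsPGroup 2 Q := by rw [hQ]; exact Cfsg.Agent.Lib.Basic.PCore.pCore_isPGroup 2
  have hQT : Q ≤ (T : Subgroup G) := by
    rw [hQ]
    exact Cfsg.Agent.Lib.Basic.PCore.pCore_le_sylow T
  have hC : centralizer (Q : Set G) ≤ Q := by
    rw [hQ]
    exact Cfsg.Agent.Lib.Solvable.PSeries.centralizer_pCore_le
      Cfsg.Agent.Lib.Solvable.PSeries.isPSolvable_of_solvable hO
  have hTD : TD (T : Subgroup G) := by
    rcases hT with ⟨n, hn, ⟨e⟩⟩ | h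
    · exact TD.of_equiv e (TD_dihedral n hn)
    · exact TD_quasi h
  have hTp : IsPGroup 2 (T : Subgroup G) := T.2
  have hZQ : (T : Subgroup G) ⊓ centralizer ((T : Subgroup G) : Set G) ≤ Q := by
    rw [hQ]
    exact Cfsg.Agent.Lib.Basic.PCore.le_pCore hZ (hTp.to_le inf_le_left)
  have hidx : (T : Subgroup G).index ≠ 1 := by
    intro h
    exact hne (Subgroup.index_eq_one.mp h)
  obtain ⟨r, hr⟩ : ∃ r, r = Nat.minFac (T : Subgroup G).index := ⟨_, rfl⟩
  have hrp : r.Prime := by rw [hr]; exact Nat.minFac_prime hidx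
  have hrdvd : r ∣ (T : Subgroup G).index := by rw [hr]; exact Nat.minFac_dvd _
  have hr2 : r ≠ 2 := by
    intro h
    rw [h] at hrdvd
    exact T.not_dvd_index hrdvd
  haveI : Fact r.Prime := ⟨hrp⟩
  obtain ⟨y, hy⟩ := exists_prime_orderOf_dvd_card' r
    (hrdvd.trans (Subgroup.index_dvd_card _))
  have hodd : (orderOf y).Coprime 2 := by
    rw [hy]
    exact (Nat.coprime_primes hrp Nat.prime_two).mpr hr2
  have hyQ : y ∉ Q := by
    intro h
    obtain ⟨k, hk⟩ := IsPGroup.iff_card.mp hQp
    have h1 := Subgroup.orderOf_dvd_natCard Q h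
    rw [hk, hy] at h1
    have h2 := hrp.dvd_of_dvd_pow h1
    exact hr2 ((Nat.prime_dvd_prime_iff_eq hrp Nat.prime_two).mp h2)
  have hyC : y ∉ centralizer (Q : Set G) := fun h => hyQ (hC h)
  obtain ⟨e⟩ := key_Q (T : Subgroup G) Q hTp hQT hTD hZ hZQ hodd hyC
  have h48 := card_dvd_48 Q e hC
  have hQ8 : Nat.card Q = 8 := by
    rw [Nat.card_congr e.toEquiv, Nat.card_eq_fintype_card, QuaternionGroup.card]
  have hy3 : orderOf y = 3 := by
    have h1 : Q.index ∣ 6 := by
      have h2 := Q.card_mul_index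
      rw [hQ8] at h2
      rw [← h2] at h48
      exact Nat.dvd_of_mul_dvd_mul_left (by norm_num : 0 < 8) h48
    have h2 : y ^ Q.index ∈ Q := Subgroup.pow_index_mem Q y
    have h3 : (y ^ Q.index) ^ 8 = 1 := by
      have := pow_card_eq_one' (x := (⟨_, h2⟩ : Q))
      rw [hQ8] at this
      simpa using congrArg Subtype.val this
    have h4 : orderOf y ∣ Q.index * 8 := by
      apply orderOf_dvd_of_pow_eq_one
      rw [pow_mul]
      exact h3
    have h5 : orderOf y ∣ 6 * 8 := h4.trans (Nat.mul_dvd_mul_right h1 8)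
    have h6 : (orderOf y).Coprime 16 := Nat.Coprime.pow_right 4 hodd
    have h7 : orderOf y ∣ 3 := h6.dvd_of_dvd_mul_right (by norm_num at h5 ⊢; exact h5)
    rcases (Nat.dvd_prime Nat.prime_three).mp h7 with h8 | h8
    · exfalso
      apply hyQ
      rw [orderOf_eq_one_iff.mp h8]
      exact one_mem _
    · exact h8
  obtain ⟨hL24, hL⟩ := sl23_of Q e y hy3 hyC
  refine ⟨zpowers y ⊔ Q, ?_, hL⟩
  have h1 := (zpowers y ⊔ Q).card_mul_index
  rw [hL24] at h1
  rw [← h1] at h48
  have h2 : (zpowers y ⊔ Q).index ∣ 2 := Nat.dvd_of_mul_dvd_mul_left (by norm_num : 0 < 24) h48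
  rcases (Nat.dvd_prime Nat.prime_two).mp h2 with h3 | h3
  · exact Subgroup.normal_of_index_eq_one h3
  · exact Subgroup.normal_of_index_eq_two h3

end Cfsg.Agent.S2879
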