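import Cfsg.Statements.S2880
import Mathlib

set_option autoImplicit false
open Cfsg
open scoped commutatorElement

namespace Cfsg.Agent.S2880

/-- `x ^ p` lies in the Frattini subgroup of a finite `p`-group. -/
lemma pow_mem_frattini {G : Type*} [Group G] [Finite G] {p : ℕ} [hp : Fact p.Prime]
    (hG : IsPGroup p G) (x : G) : x ^ p ∈ frattini G := by
  have key : ∀ M : Subgroup G, IsCoatom M → x ^ p ∈ M := by
    intro M hM
    have hMp : IsPGroup p M := hG.to_subgroup M
    obtain ⟨n, hn⟩ := (IsPGroup.iff_card).1 hMp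
    obtain ⟨N, hN⟩ := (IsPGroup.iff_card).1 hG
    have hcard : Nat.card M < Nat.card G :=
      lt_of_le_of_ne (Subgroup.card_le_card_group M) (fun h => hM.1 (Subgroup.eq_top_of_card_eq M h))
    have hnN : n < N := by
      rw [hn, hN] at hcard
      exact (Nat.pow_lt_pow_iff_right hp.out.one_lt).1 hcard
    have hdvd : p ^ (n + 1) ∣ Nat.card G := by
      rw [hN]; exact pow_dvd_pow p hnN
    obtain ⟨K, hK, hMK⟩ := Sylow.exists_subgroup_card_pow_succ hdvd hn
    have hKtop : K = ⊤ := by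
      rcases eq_or_lt_of_le hMK with h1 | h1
      · exfalso
        rw [← h1, hn] at hK
        have := Nat.pow_right_injective hp.out.two_le hK
        omega
      · exact hM.2 K h1
    have hcardG : Nat.card G = p ^ (n + 1) := by
      rw [hKtop] at hK
      simpa using hK
    have hidx : M.index = p := by
      have h := Subgroup.card_mul_index M
      rw [hn, hcardG, pow_succ] at h
      exact Nat.eq_of_mul_eq_mul_left (pow_pos hp.out.pos n) h
    have hnil : Group.IsNilpotent G := hG.isNilpotent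
    have hnorm : M.Normal := (Group.isNilpotent_of_finite_tfae (G := G)).out 0 2 rfl rfl |>.mp hnil M hM
    have := Subgroup.pow_index_mem M x
    rwa [hidx] at this
  simp only [frattini, Order.radical, Subgroup.mem_iInf]
  exact fun M hM => key M hM

variable {E : Type*} [Group E]

/-- The sign of an element of the centre (of order two). -/
noncomputable def sgn (c : E) : ℤ := by
  classical exact if c = 1 then 1 else -1

lemma sgn_one : sgn (1 : E) = 1 := by simp [sgn]

lemma sgn_of_ne {c : E} (h : c ≠ 1) : sgn c = -1 := by simp [sgn, h]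

lemma two_elements {Z : Subgroup E} (hZ : Nat.card Z = 2) {c d : E} (hc : c ∈ Z) (hd : d ∈ Z)
    (hc1 : c ≠ 1) (hd1 : d ≠ 1) : c = d := by
  obtain ⟨y, -, hy⟩ := (Nat.card_eq_two_iff' (1 : Z)).1 hZ
  have h1 := hy ⟨c, hc⟩ (by simpa [Subtype.ext_iff] using hc1)
  have h2 := hy ⟨d, hd⟩ (by simpa [Subtype.ext_iff] using hd1)
  have := congrArg Subtype.val (h1.trans h2.symm)
  simpa using this

lemma sq_of_mem {Z : Subgroup E} (hZ : Nat.card Z = 2) {c : E} (hc : c ∈ Z) : c * c = 1 := by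
  have : (⟨c, hc⟩ : Z) ^ Nat.card Z = 1 := pow_card_eq_one'
  rw [hZ] at this
  have := congrArg Subtype.val this
  simpa [pow_two] using this

lemma sgn_mul {Z : Subgroup E} (hZ : Nat.card Z = 2) {c d : E} (hc : c ∈ Z) (hd : d ∈ Z) :
    sgn (c * d) = sgn c * sgn d := by
  by_cases hc1 : c = 1
  · subst hc1; simp [sgn_one]
  by_cases hd1 : d = 1
  · subst hd1; simp [sgn_one]
  have hcd := two_elements hZ hc hd hc1 hd1
  subst hcd
  rw [sq_of_mem hZ hc, sgn_one, sgn_of_ne hc1]
  norm_num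

/-- The sum of the signs of a multiplicative map into a centre of order two. -/
lemma sum_sgn {H : Type*} [Group H] [Fintype H] {Z : Subgroup E} (hZ : Nat.card Z = 2)
    (f : H → E) (hf : ∀ a b, f (a * b) = f a * f b) (hfZ : ∀ a, f a ∈ Z)
    (a₀ : H) (h₀ : f a₀ ≠ 1) : ∑ h, sgn (f h) = 0 := by
  have h1 : ∑ h, sgn (f h) = ∑ h, sgn (f (h * a₀)) :=
    (Equiv.sum_comp (Equiv.mulRight a₀) (fun h => sgn (f h))).symm
  have h2 : ∑ h, sgn (f (h * a₀)) = - ∑ h, sgn (f h) := by
    rw [← Finset.sum_neg_distrib]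
    refine Finset.sum_congr rfl fun h _ => ?_
    rw [hf, sgn_mul hZ (hfZ h) (hfZ a₀), sgn_of_ne h₀]
    ring
  linarith

lemma sum_sgn_trivial {H : Type*} [Fintype H] (f : H → E) (hf : ∀ a, f a = 1) :
    ∑ h, sgn (f h) = Fintype.card H := by
  simp [hf, sgn_one]

/-- Bimultiplicativity of the commutator in class 2: first variable. -/
lemma commutatorElement_mul_left {Z : Subgroup E} (hc : Z ≤ Subgroup.center E)
    (hZ : ∀ x y : E, ⁅x, y⁆ ∈ Z) (x y w : E) : ⁅x * y, w⁆ = ⁅x, w⁆ * ⁅y, w⁆ := by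
  have h1 : ⁅y, w⁆ ∈ Subgroup.center E := hc (hZ y w)
  have h2 := (Subgroup.mem_center_iff.1 h1) (x)
  simp only [commutatorElement_def] at h2 ⊢
  calc x * y * w * (x * y)⁻¹ * w⁻¹
      = x * (y * w * y⁻¹ * w⁻¹) * (w * x⁻¹ * w⁻¹) := by group
    _ = (y * w * y⁻¹ * w⁻¹) * x * (w * x⁻¹ * w⁻¹) := by rw [h2]
    _ = (y * w * y⁻¹ * w⁻¹) * (x * w * x⁻¹ * w⁻¹) := by group
    _ = (x * w * x⁻¹ * w⁻¹) * (y * w * y⁻¹ * w⁻¹) := by
        have h3 := (Subgroup.mem_center_iff.1 (hc (hZ x w))) (y * w * y⁻¹ * w⁻¹)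
        simp only [commutatorElement_def] at h3
        exact h3

lemma commutatorElement_mul_right {Z : Subgroup E} (hc : Z ≤ Subgroup.center E)
    (hZ : ∀ x y : E, ⁅x, y⁆ ∈ Z) (x y w : E) : ⁅w, x * y⁆ = ⁅w, x⁆ * ⁅w, y⁆ := by
  have h1 : ⁅w, x⁆ ∈ Subgroup.center E := hc (hZ w x)
  have h2 := (Subgroup.mem_center_iff.1 h1) (x)
  simp only [commutatorElement_def] at h2 ⊢
  calc w * (x * y) * w⁻¹ * (x * y)⁻¹
      = x * (x⁻¹ * w * x * w⁻¹) * (w * y * w⁻¹ * y⁻¹) * x⁻¹ := by group
    _ = (x⁻¹ * w * x * w⁻¹) * (w * y * w⁻¹ * y⁻¹) := by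
        have h3 : (x⁻¹ * w * x * w⁻¹) * (w * y * w⁻¹ * y⁻¹) ∈ Subgroup.center E := by
          refine Subgroup.mul_mem _ ?_ (hc (hZ w y))
          have := hc (hZ x⁻¹ w)
          simpa [commutatorElement_def] using this
        have h4 := (Subgroup.mem_center_iff.1 h3) x
        calc x * (x⁻¹ * w * x * w⁻¹) * (w * y * w⁻¹ * y⁻¹) * x⁻¹
            = x * ((x⁻¹ * w * x * w⁻¹) * (w * y * w⁻¹ * y⁻¹)) * x⁻¹ := by group
          _ = ((x⁻¹ * w * x * w⁻¹) * (w * y * w⁻¹ * y⁻¹)) * x * x⁻¹ := by rw [h4]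
          _ = _ := by group
    _ = (w * x * w⁻¹ * x⁻¹) * (w * y * w⁻¹ * y⁻¹) := by
        congr 1
        -- x⁻¹ w x w⁻¹ = x⁻¹ (w x w⁻¹ x⁻¹) x, and the bracket is central
        have h5 := (Subgroup.mem_center_iff.1 h1) x⁻¹
        simp only [commutatorElement_def] at h5
        calc x⁻¹ * w * x * w⁻¹ = x⁻¹ * (w * x * w⁻¹ * x⁻¹) * x := by group
          _ = (w * x * w⁻¹ * x⁻¹) * x⁻¹ * x := by rw [h5]
          _ = _ := by group

/-- `(x a)^2 = ⁅a, x⁆ x² a²` in class 2. -/
lemma sq_mul_eq {Z : Subgroup E} (hc : Z ≤ Subgroup.center E)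
    (hZ : ∀ x y : E, ⁅x, y⁆ ∈ Z) (x a : E) : (x * a) ^ 2 = ⁅a, x⁆ * x ^ 2 * a ^ 2 := by
  have h1 := (Subgroup.mem_center_iff.1 (hc (hZ a x))) x
  simp only [commutatorElement_def] at h1 ⊢
  calc (x * a) ^ 2 = x * a * (x * a) := pow_two _
    _ = x * (a * x * a⁻¹ * x⁻¹) * (x * a * a) := by group
    _ = (a * x * a⁻¹ * x⁻¹) * x * (x * a * a) := by rw [h1]
    _ = a * x * a⁻¹ * x⁻¹ * x ^ 2 * a ^ 2 := by
        simp only [pow_two]; group

/-- Counting formula: sum of `sgn (x²)` when there is a self-centralizing elementary abelian subgroup,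
and everything in the abstract setting. -/
theorem gauss_sum [Fintype E] {Z : Subgroup E} (hZc : Z = Subgroup.center E)
    (hZ2 : Nat.card Z = 2) (hcomm : ∀ x y : E, ⁅x, y⁆ ∈ Z) (hsq : ∀ x : E, x ^ 2 ∈ Z)
    (m : ℕ) (hcard : Fintype.card E = 2 ^ (2 * m + 1))
    (A : Subgroup E) [Fintype A] (hA : Cfsg.IsElementaryAbelian 2 A) (hAc : Fintype.card A = 2 ^ (m + 1)) :
    ∑ x : E, sgn (x ^ 2) = 2 ^ (m + 1) := by
  classical
  have hZcen : Z ≤ Subgroup.center E := hZc.le
  -- the two orthogonality relations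
  have D1 : ∀ a : A, ∑ x : E, sgn ⁅(a : E), x⁆ = if (a : E) ∈ Z then (Fintype.card E : ℤ) else 0 := by
    intro a
    split_ifs with ha
    · refine sum_sgn_trivial _ fun x => ?_
      have : (a : E) ∈ Subgroup.center E := hZcen ha
      have hh := (Subgroup.mem_center_iff.1 this) x
      simp only [commutatorElement_def]
      rw [← hh]; group
    · have : (a : E) ∉ Subgroup.center E := by rwa [← hZc]
      rw [Subgroup.mem_center_iff] at this
      push Not at this
      obtain ⟨x₀, hx₀⟩ := this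
      refine sum_sgn hZ2 _ (fun x y => commutatorElement_mul_right hZcen hcomm x y (a : E))
        (fun x => hcomm _ _) x₀ ?_
      intro h
      rw [commutatorElement_eq_one_iff_mul_comm] at h
      exact hx₀ h.symm
  have D2 : ∀ x : E, ∑ a : A, sgn ⁅(a : E), x⁆ =
      if x ∈ Subgroup.centralizer (A : Set E) then (Fintype.card A : ℤ) else 0 := by
    intro x
    split_ifs with hx
    · refine sum_sgn_trivial _ fun a => ?_
      rw [commutatorElement_eq_one_iff_mul_comm]
      exact (Subgroup.mem_centralizer_iff.1 hx a a.2)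
    · rw [Subgroup.mem_centralizer_iff] at hx
      push Not at hx
      obtain ⟨a₀, ha₀, hax⟩ := hx
      refine sum_sgn hZ2 (fun a : A => ⁅(a : E), x⁆)
        (fun a b => commutatorElement_mul_left hZcen hcomm a b x) (fun a => hcomm _ _) ⟨a₀, ha₀⟩ ?_
      intro h
      rw [commutatorElement_eq_one_iff_mul_comm] at h
      exact hax h
  -- double count
  have hdouble : (Finset.univ.filter (fun a : A => (a : E) ∈ Z)).card * (Fintype.card E : ℤ) =
      (Fintype.card A : ℤ) * (Finset.univ.filter (fun x : E => x ∈ Subgroup.centralizer (A : Set E))).card := by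
    have h1 : ∑ a : A, ∑ x : E, sgn ⁅(a : E), x⁆ = ∑ x : E, ∑ a : A, sgn ⁅(a : E), x⁆ :=
      Finset.sum_comm
    simp only [D1, D2] at h1
    rw [Finset.sum_ite, Finset.sum_ite] at h1
    simp only [Finset.sum_const_zero, add_zero, Finset.sum_const, nsmul_eq_mul] at h1
    rw [h1]; ring
  -- A ≤ C(A)
  have hcommA : ∀ a b : E, a ∈ A → b ∈ A → a * b = b * a := by
    intro a b ha hb
    have := hA.1.is_comm.comm ⟨a, ha⟩ ⟨b, hb⟩
    simpa [Subtype.ext_iff] using this
  have hAle : ∀ x : E, x ∈ A → x ∈ Subgroup.centralizer (A : Set E) := by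
    intro x hx
    rw [Subgroup.mem_centralizer_iff]
    intro a ha
    exact hcommA a x ha hx
  set t := (Finset.univ.filter (fun a : A => (a : E) ∈ Z)).card with ht
  set C := (Finset.univ.filter (fun x : E => x ∈ Subgroup.centralizer (A : Set E))) with hC
  have hA' : Fintype.card A = (Finset.univ.filter (fun x : E => x ∈ A)).card :=
    Fintype.card_of_subtype _ (by simp)
  have hsub : Finset.univ.filter (fun x : E => x ∈ A) ⊆ C := by
    intro x hx
    simp only [Finset.mem_filter, Finset.mem_univ, true_and] at hx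
    simp only [hC, Finset.mem_filter, Finset.mem_univ, true_and]
    exact hAle x hx
  have hCge : 2 ^ (m + 1) ≤ C.card := by
    rw [← hAc, hA']
    exact Finset.card_le_card hsub
  have ht2 : t ≤ 2 := by
    letI : Fintype Z := Fintype.ofFinite Z
    have h1 : Fintype.card Z = 2 := by rw [← Nat.card_eq_fintype_card]; exact hZ2
    rw [← h1, ht]
    refine Finset.card_le_card_of_injOn (s := _) (t := Finset.univ) (fun a => if h : (a : E) ∈ Z then ⟨a, h⟩ else 1) ?_ ?_
    · intro a _; simp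
    · intro a ha b hb hab
      simp only [Finset.coe_filter, Finset.mem_univ, true_and, Set.mem_ofPred_eq] at ha hb
      simp only [ha, hb, dif_pos, Subtype.mk.injEq] at hab
      exact Subtype.ext hab
  have hE2 : (2:ℤ) ^ (2 * m + 1) = 2 ^ (m + 1) * 2 ^ m := by ring
  have hpos : (0:ℤ) < 2 ^ (m + 1) := by positivity
  have hpos' : (0:ℤ) < 2 ^ m := by positivity
  have hkey : (t : ℤ) * 2 ^ m = C.card := by
    have h1 := hdouble
    rw [hcard, hAc] at h1
    push_cast at h1
    rw [hE2] at h1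
    have : (2:ℤ) ^ (m + 1) * ((t:ℤ) * 2 ^ m) = 2 ^ (m + 1) * C.card := by
      rw [← h1]; ring
    exact mul_left_cancel₀ hpos.ne' this
  have hCcard : C.card = 2 ^ (m + 1) := by
    have h1 : (2:ℤ) ^ (m + 1) ≤ C.card := by exact_mod_cast hCge
    have h2 : (t : ℤ) ≤ 2 := by exact_mod_cast ht2
    have h3 : (C.card : ℤ) ≤ 2 ^ (m + 1) := by
      rw [← hkey, pow_succ]
      nlinarith
    have : (C.card : ℤ) = 2 ^ (m + 1) := le_antisymm h3 h1
    exact_mod_cast this
  have hCeq : Finset.univ.filter (fun x : E => x ∈ A) = C := by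
    refine Finset.eq_of_subset_of_card_le hsub ?_
    rw [← hA', hAc, hCcard]
  have hcenA : ∀ x : E, x ∈ Subgroup.centralizer (A : Set E) → x ∈ A := by
    intro x hx
    have : x ∈ C := by simp [hC, hx]
    rw [← hCeq] at this
    simpa using this
  -- the sum
  have hS1 : ∑ a : A, ∑ x : E, sgn ((x * (a : E)) ^ 2) = (Fintype.card A : ℤ) * ∑ x : E, sgn (x ^ 2) := by
    have : ∀ a : A, ∑ x : E, sgn ((x * (a : E)) ^ 2) = ∑ x : E, sgn (x ^ 2) := fun a =>
      Equiv.sum_comp (Equiv.mulRight (a : E)) (fun x => sgn (x ^ 2))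
    simp only [this, Finset.sum_const, Finset.card_univ, nsmul_eq_mul]
  have hsqa : ∀ a : A, (a : E) ^ 2 = 1 := fun a => hA.2 a a.2
  have hS2 : ∑ a : A, ∑ x : E, sgn ((x * (a : E)) ^ 2) = (Fintype.card A : ℤ) * (Fintype.card A : ℤ) := by
    have h1 : ∀ (a : A) (x : E), sgn ((x * (a : E)) ^ 2) = sgn ⁅(a : E), x⁆ * sgn (x ^ 2) := by
      intro a x
      rw [sq_mul_eq hZcen hcomm, hsqa, mul_one, sgn_mul hZ2 (hcomm _ _) (hsq x)]
    simp only [h1]
    rw [Finset.sum_comm]
    have h2 : ∀ x : E, ∑ a : A, sgn ⁅(a : E), x⁆ * sgn (x ^ 2) =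
        if x ∈ A then (Fintype.card A : ℤ) else 0 := by
      intro x
      rw [← Finset.sum_mul, D2]
      by_cases hx : x ∈ A
      · have hx2 : x ^ 2 = 1 := hA.2 x hx
        simp [hx, hAle x hx, hx2, sgn_one]
      · have : x ∉ Subgroup.centralizer (A : Set E) := fun h => hx (hcenA x h)
        simp [hx, this]
    simp only [h2]
    rw [Finset.sum_ite]
    simp only [Finset.sum_const_zero, add_zero, Finset.sum_const, nsmul_eq_mul]
    rw [← hA']
  have hfinal : (Fintype.card A : ℤ) * ∑ x : E, sgn (x ^ 2) = (Fintype.card A : ℤ) * (Fintype.card A : ℤ) := by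
    rw [← hS1, hS2]
  have hApos : (Fintype.card A : ℤ) ≠ 0 := by
    rw [hAc]; positivity
  have := mul_left_cancel₀ hApos hfinal
  rw [this, hAc]
  push_cast
  rfl

/-- Let E be an extraspecial 2-group of order 2^(2m+1) of plus type, that is, containing an elementary abelian subgroup of order 2^(m+1) (equivalently, a central product of m dihedral groups of order 8). Then E has exactly 2^(2m) − 2^m elements of order 4. -/
theorem result {E : Type*} [Group E] [Finite E] (m : ℕ) (hm : 1 ≤ m) (hE : Cfsg.IsExtraspecial 2 E) (hcard : Nat.card E = 2 ^ (2 * m + 1)) (hplus : ∃ A : Subgroup E, Cfsg.IsElementaryAbelian 2 A ∧ Nat.card A = 2 ^ (m + 1)) : Nat.card {x : E // orderOf x = 4} = 2 ^ (2 * m) - 2 ^ m := by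
  classical
  letI : Fintype E := Fintype.ofFinite E
  obtain ⟨A, hA, hAc⟩ := hplus
  letI : Fintype A := Fintype.ofFinite A
  obtain ⟨⟨hp, hfr, hco⟩, hZ2⟩ := hE
  haveI : Fact (Nat.Prime 2) := ⟨Nat.prime_two⟩
  have hcomm : ∀ x y : E, ⁅x, y⁆ ∈ Subgroup.center E := by
    intro x y
    rw [← hco]
    exact Subgroup.commutator_mem_commutator (Subgroup.mem_top x) (Subgroup.mem_top y)
  have hsq : ∀ x : E, x ^ 2 ∈ Subgroup.center E := by
    intro x
    rw [← hfr]
    exact pow_mem_frattini hp x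
  have hS := gauss_sum (Z := Subgroup.center E) rfl hZ2 hcomm hsq m
    (by rw [← Nat.card_eq_fintype_card]; exact hcard) A hA (by rw [← Nat.card_eq_fintype_card]; exact hAc)
  have hord : ∀ x : E, orderOf x = 4 ↔ x ^ 2 ≠ 1 := by
    intro x
    constructor
    · intro h h2
      have := orderOf_dvd_of_pow_eq_one h2
      rw [h] at this
      omega
    · intro h
      have h4 : x ^ 2 ^ (1 + 1) = 1 := by
        have := sq_of_mem hZ2 (hsq x)
        calc x ^ 2 ^ (1 + 1) = x ^ 2 * x ^ 2 := by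
              rw [← pow_add]; norm_num
          _ = 1 := this
      have := orderOf_eq_prime_pow (p := 2) (n := 1) (x := x) (by simpa using h) h4
      simpa using this
  have hcardX : Nat.card {x : E // orderOf x = 4} = (Finset.univ.filter (fun x : E => x ^ 2 ≠ 1)).card := by
    rw [Nat.card_eq_fintype_card]
    exact Fintype.card_of_subtype _ (by simp [hord])
  rw [hcardX]
  set a := (Finset.univ.filter (fun x : E => x ^ 2 = 1)).card with ha
  set b := (Finset.univ.filter (fun x : E => x ^ 2 ≠ 1)).card with hb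
  have hab : a + b = 2 ^ (2 * m + 1) := by
    rw [ha, hb, Finset.card_filter_add_card_filter_not, Finset.card_univ, ← Nat.card_eq_fintype_card]
    exact hcard
  have hsum : ∑ x : E, sgn (x ^ 2) = (a : ℤ) - b := by
    have : ∀ x : E, sgn (x ^ 2) = if x ^ 2 = 1 then (1:ℤ) else -1 := by
      intro x
      split_ifs with h
      · rw [h, sgn_one]
      · exact sgn_of_ne h
    simp only [this]
    rw [Finset.sum_ite]
    simp [ha, hb]
    ring
  rw [hsum] at hS
  have h1 : (a : ℤ) + b = 2 ^ (2 * m + 1) := by exact_mod_cast hab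
  have h2 : (b : ℤ) = 2 ^ (2 * m) - 2 ^ m := by
    have h3 : (2:ℤ) ^ (2 * m + 1) = 2 * 2 ^ (2 * m) := by ring
    have h4 : (2:ℤ) ^ (m + 1) = 2 * 2 ^ m := by ring
    rw [h3] at h1
    rw [h4] at hS
    linarith
  have hle : 2 ^ m ≤ 2 ^ (2 * m) := Nat.pow_le_pow_right (by norm_num) (by omega)
  zify [hle]
  exact h2

end Cfsg.Agent.S2880
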