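import Cfsg.Statements.S2881
import Cfsg.Agent.S2880
import Mathlib

set_option autoImplicit false
open Cfsg

namespace Cfsg.Agent.S2881

/-- Let E be an extraspecial 2-group of order 2^(2m+1) of plus type (containing an elementary abelian subgroup of order 2^(m+1)), and let ω be an automorphism of E of order 5 whose fixed points are exactly the centre of E. Then m is divisible by 4. -/
theorem result {E : Type*} [Group E] [Finite E] (m : ℕ) (hm : 1 ≤ m) (hE : Cfsg.IsExtraspecial 2 E) (hcard : Nat.card E = 2 ^ (2 * m + 1)) (hplus : ∃ A : Subgroup E, Cfsg.IsElementaryAbelian 2 A ∧ Nat.card A = 2 ^ (m + 1)) (ω : E ≃* E) (hω : orderOf ω = 5) (hfix : ∀ x : E, ω x = x ↔ x ∈ Subgroup.center E) : 4 ∣ m := by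
  classical
  have hcount := Cfsg.Agent.S2880.result m hm hE hcard hplus
  -- the action of ω on the elements of order 4
  have hpres : ∀ x : E, orderOf x = 4 → orderOf (ω x) = 4 := by
    intro x hx
    rw [MulEquiv.orderOf_eq]; exact hx
  let f : Function.End {x : E // orderOf x = 4} := fun x => ⟨ω x.1, hpres x.1 x.2⟩
  have hf5 : f ^ (5 ^ 1) = 1 := by
    funext x
    have h1 : ∀ (n : ℕ) (y : {x : E // orderOf x = 4}), ((f ^ n) y).1 = (ω ^ n) y.1 := by
      intro n
      induction n with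
      | zero => intro y; rfl
      | succ n ih =>
        intro y
        have h2 : (f ^ (n + 1)) y = (f ^ n) (f y) := by rw [pow_succ]; rfl
        rw [h2, ih, pow_succ]
        rfl
    apply Subtype.ext
    rw [h1 (5 ^ 1)]
    have : ω ^ 5 = 1 := by rw [← hω]; exact pow_orderOf_eq_one ω
    simp only [pow_one, this]
    rfl
  haveI : Fact (Nat.Prime 5) := ⟨by norm_num⟩
  letI : Fintype {x : E // orderOf x = 4} := Fintype.ofFinite _
  have hmod := Equiv.Perm.card_fixedPoints_modEq (α := {x : E // orderOf x = 4}) (p := 5) (n := 1) hf5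
  have hempty : Fintype.card (Function.fixedPoints f) = 0 := by
    rw [Fintype.card_eq_zero_iff]
    constructor
    rintro ⟨x, hx⟩
    have h1 : ω x.1 = x.1 := congrArg Subtype.val hx
    have h2 := (hfix x.1).1 h1
    have h3 : x.1 ^ 2 ∈ Subgroup.center E := Subgroup.pow_mem _ h2 2
    -- a central element has order at most 2
    have h4 : x.1 ^ 2 = 1 := by
      have h5 : (⟨x.1, h2⟩ : Subgroup.center E) ^ Nat.card (Subgroup.center E) = 1 := pow_card_eq_one'
      rw [hE.2] at h5
      have := congrArg Subtype.val h5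
      simpa using this
    have := orderOf_dvd_of_pow_eq_one h4
    rw [x.2] at this
    omega
  rw [hempty, ← Nat.card_eq_fintype_card, hcount] at hmod
  -- 5 ∣ 2^(2m) - 2^m
  have hdvd : 5 ∣ 2 ^ (2 * m) - 2 ^ m := (Nat.modEq_zero_iff_dvd).1 hmod
  have hfact : 2 ^ (2 * m) - 2 ^ m = 2 ^ m * (2 ^ m - 1) := by
    rw [Nat.mul_sub, mul_one, two_mul, pow_add]
  rw [hfact] at hdvd
  have hcop : Nat.Coprime 5 (2 ^ m) := Nat.Coprime.pow_right m (by norm_num)
  have h5 : 5 ∣ 2 ^ m - 1 := hcop.dvd_of_dvd_mul_left hdvd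
  -- the order of 2 modulo 5 is 4
  have h6 : 2 ^ m % 5 = 1 := by
    have hpos : 1 ≤ 2 ^ m := Nat.one_le_two_pow
    omega
  have h7 : m % 4 = 0 := by
    have hm4 : m = 4 * (m / 4) + m % 4 := (Nat.div_add_mod m 4).symm
    have h16 : ∀ k : ℕ, 2 ^ (4 * k) % 5 = 1 := by
      intro k
      rw [pow_mul, Nat.pow_mod]
      norm_num
    have h8 : m % 4 < 4 := Nat.mod_lt _ (by norm_num)
    have h9 : 2 ^ m % 5 = (2 ^ (m % 4)) % 5 := by
      conv_lhs => rw [hm4, pow_add, Nat.mul_mod, h16]
      simp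
    rw [h9] at h6
    have h10 : ∀ r < 4, 2 ^ r % 5 = 1 → r = 0 := by decide
    exact h10 _ h8 h6
  exact Nat.dvd_of_mod_eq_zero h7

end Cfsg.Agent.S2881
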