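import Cfsg.Statements.S2911
import Mathlib
import Cfsg.Agent.Lib.Transfer.CentralOrderP
-- import your own Cfsg.Agent.* helpers here

set_option autoImplicit false
open Cfsg

namespace Cfsg.Agent.S2911

open Subgroup DihedralGroup

abbrev T : Type := Multiplicative (ZMod 2) × DihedralGroup 4

def c : T := (Multiplicative.ofAdd 1, 1)
def z : T := (1, r 2)
def a : T := (1, r 1)

theorem center_T : ∀ x : T, (∀ y : T, x * y = y * x) → x = 1 ∨ x = z ∨ x = c ∨ x = c * z := by
  decide

theorem squares_T : ∀ x : T, x * x = 1 ∨ x * x = z := by decide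

theorem c_central : ∀ y : T, c * y = y * c := by decide

theorem facts : a * a = z ∧ z ≠ 1 ∧ c ≠ 1 ∧ c ≠ z ∧ c * c = 1 ∧ z * z = 1 ∧ c * z ≠ 1 ∧ c * z ≠ z := by decide

/-- The abstract fusion argument. -/
theorem normalizer_fix {G : Type*} [Group G] [Finite G] (S : Sylow 2 G)
    (e : ↥(S : Subgroup G) ≃* T) (g : G) (hg : g ∈ normalizer ((S : Subgroup G) : Set G)) :
    g⁻¹ * (e.symm c : G) * g = (e.symm c : G) := by
  classical
  set u : G := (e.symm c : G) with hu
  set zz : G := (e.symm z : G) with hzz
  set aa : G := (e.symm a : G) with haa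
  have huS : u ∈ (S : Subgroup G) := (e.symm c).2
  have hzS : zz ∈ (S : Subgroup G) := (e.symm z).2
  have haS : aa ∈ (S : Subgroup G) := (e.symm a).2
  -- transported facts
  have hval : ∀ x : (S : Subgroup G), ∀ t : T, e x = t → (x : G) = (e.symm t : G) := by
    intro x t h
    rw [← h]
    simp
  have F1 : ∀ x ∈ (S : Subgroup G), (∀ y ∈ (S : Subgroup G), x * y = y * x) →
      x = 1 ∨ x = zz ∨ x = u ∨ x = u * zz := by
    intro x hx hc
    have h1 : ∀ y : T, e ⟨x, hx⟩ * y = y * e ⟨x, hx⟩ := by
      intro y
      have h2 := hc (e.symm y : G) (e.symm y).2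
      have h3 : (⟨x, hx⟩ : (S : Subgroup G)) * e.symm y = e.symm y * ⟨x, hx⟩ := Subtype.ext h2
      have h4 := congrArg e h3
      simpa using h4
    rcases center_T _ h1 with h | h | h | h
    · left
      have := hval ⟨x, hx⟩ _ h
      simpa using this
    · right; left; exact hval ⟨x, hx⟩ _ h
    · right; right; left; exact hval ⟨x, hx⟩ _ h
    · right; right; right
      have := hval ⟨x, hx⟩ _ h
      simpa [hu, hzz] using this
  have F2 : ∀ x ∈ (S : Subgroup G), x * x = 1 ∨ x * x = zz := by
    intro x hx
    rcases squares_T (e ⟨x, hx⟩) with h | h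
    · left
      rw [← map_mul] at h
      have h2 := e.injective (h.trans (map_one e).symm)
      exact congrArg Subtype.val h2
    · right
      rw [← map_mul] at h
      have h2 := hval _ _ h
      simpa using h2
  obtain ⟨f1, f2, f3, f4, f5, f6, f7, f8⟩ := facts
  have hinj : ∀ s t : T, (e.symm s : G) = (e.symm t : G) → s = t := by
    intro s t h
    exact e.symm.injective (Subtype.ext h)
  have haa2 : aa * aa = zz := by
    have : ((e.symm a * e.symm a : (S : Subgroup G)) : G) = zz := by
      rw [← map_mul, f1]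
    simpa using this
  have hzz1 : zz ≠ 1 := by
    intro h
    apply f2
    apply hinj
    simpa [hzz] using h
  have huu : u * u = 1 := by
    have : ((e.symm c * e.symm c : (S : Subgroup G)) : G) = 1 := by
      rw [← map_mul, f5]
      simp
    simpa using this
  have hzz2 : zz * zz = 1 := by
    have : ((e.symm z * e.symm z : (S : Subgroup G)) : G) = 1 := by
      rw [← map_mul, f6]
      simp
    simpa using this
  have hu1 : u ≠ 1 := by
    intro h
    apply f3
    apply hinj
    simpa [hu] using h
  have huz : u ≠ zz := fun h => f4 (hinj _ _ h)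
  have hucen : ∀ y ∈ (S : Subgroup G), u * y = y * u := by
    intro y hy
    have h1 := c_central (e ⟨y, hy⟩)
    have h2 := congrArg e.symm h1
    rw [map_mul, map_mul] at h2
    have h3 := congrArg Subtype.val h2
    simpa using h3
  have hcommuz : u * zz = zz * u := hucen zz hzS
  -- conjugation by `w`
  have hconj : ∀ w ∈ normalizer ((S : Subgroup G) : Set G), ∀ x ∈ (S : Subgroup G),
      w⁻¹ * x * w ∈ (S : Subgroup G) := by
    intro w hw x hx
    have h1 := (mem_normalizer_iff.mp ((normalizer ((S : Subgroup G) : Set G)).inv_mem hw) x).mp hx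
    simpa using h1
  have hkey : ∀ w ∈ normalizer ((S : Subgroup G) : Set G), (w * w)⁻¹ * u * (w * w) = u := by
    intro w hw
    have hwz : w⁻¹ * zz * w = zz := by
      have h1 := hconj w hw aa haS
      rcases F2 _ h1 with h | h
      · exfalso
        apply hzz1
        have e1 : (w⁻¹ * aa * w) * (w⁻¹ * aa * w) = w⁻¹ * (aa * aa) * w := by group
        rw [e1, haa2] at h
        have e2 : zz = w * (w⁻¹ * zz * w) * w⁻¹ := by group
        rw [e2, h]
        group
      · have e1 : (w⁻¹ * aa * w) * (w⁻¹ * aa * w) = w⁻¹ * (aa * aa) * w := by group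
        rw [e1, haa2] at h
        exact h
    have h1 := hconj w hw u huS
    have h2 : ∀ y ∈ (S : Subgroup G), (w⁻¹ * u * w) * y = y * (w⁻¹ * u * w) := by
      intro y hy
      have hy2 : w * y * w⁻¹ ∈ (S : Subgroup G) := by
        have := hconj w⁻¹ ((normalizer ((S : Subgroup G) : Set G)).inv_mem hw) y hy
        simpa using this
      have h3 := hucen _ hy2
      calc (w⁻¹ * u * w) * y = w⁻¹ * (u * (w * y * w⁻¹)) * w := by group
        _ = w⁻¹ * ((w * y * w⁻¹) * u) * w := by rw [h3]
        _ = y * (w⁻¹ * u * w) := by group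
    have hcases := F1 _ h1 h2
    have hinj2 : ∀ s t : G, w⁻¹ * s * w = w⁻¹ * t * w → s = t := by
      intro s t h
      have := congrArg (fun x => w * x * w⁻¹) h
      simpa [mul_assoc] using this
    have e0 : (w * w)⁻¹ * u * (w * w) = w⁻¹ * (w⁻¹ * u * w) * w := by group
    rcases hcases with h | h | h | h
    · exfalso
      apply hu1
      apply hinj2
      rw [h]
      group
    · exfalso
      apply huz
      apply hinj2
      rw [h, hwz]
    · rw [e0, h, h]
    · rw [e0, h]
      have e1 : w⁻¹ * (u * zz) * w = (w⁻¹ * u * w) * (w⁻¹ * zz * w) := by group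
      rw [e1, h, hwz, mul_assoc, hzz2, mul_one]
  -- the odd power
  let N : Subgroup G := normalizer ((S : Subgroup G) : Set G)
  let S' : Sylow 2 N := S.subtype le_normalizer
  haveI hnorm : ((S : Subgroup G).subgroupOf N).Normal := Subgroup.normal_in_normalizer
  let g' : N := ⟨g, hg⟩
  have hpow : g' ^ ((S : Subgroup G).subgroupOf N).index ∈ (S : Subgroup G).subgroupOf N :=
    Subgroup.pow_index_mem _ g'
  have hodd : ¬ 2 ∣ ((S : Subgroup G).subgroupOf N).index := S'.not_dvd_index
  obtain ⟨k, hk⟩ : ∃ k, ((S : Subgroup G).subgroupOf N).index = 2 * k + 1 := by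
    have := Nat.not_even_iff_odd.mp (fun h => hodd h.two_dvd)
    obtain ⟨k, hk⟩ := this
    exact ⟨k, hk⟩
  rw [hk] at hpow
  have hpow2 : g ^ (2 * k + 1) ∈ (S : Subgroup G) := by
    have := mem_subgroupOf.mp hpow
    simpa using this
  -- commute with `u`
  let C : Subgroup G := centralizer ({u} : Set G)
  have hmemC : ∀ w : G, w ∈ C ↔ w⁻¹ * u * w = u := by
    intro w
    rw [mem_centralizer_singleton_iff]
    constructor
    · intro h
      rw [mul_assoc, ← h]
      group
    · intro h
      calc w * u = w * (w⁻¹ * u * w) := by rw [h]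
        _ = u * w := by group
  have h1 : g * g ∈ C := (hmemC _).mpr (hkey g hg)
  have h2 : g ^ (2 * k + 1) ∈ C := by
    rw [hmemC]
    have := hucen _ hpow2
    rw [mul_assoc, this]
    group
  have h3 : g ^ (2 * k) ∈ C := by
    rw [pow_mul, sq]
    exact C.pow_mem h1 k
  have h4 : g ∈ C := by
    have : g = (g ^ (2 * k))⁻¹ * g ^ (2 * k + 1) := by
      rw [pow_succ]
      group
    rw [this]
    exact C.mul_mem (C.inv_mem h3) h2
  exact (hmemC g).mp h4


/-- A finite group whose Sylow 2-subgroups are isomorphic to the direct product of a group of order 2 and a dihedral group of order 8 has a subgroup of index two. -/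
theorem result {G : Type*} [Group G] [Finite G] (S : Sylow 2 G) (hS : Nonempty (↥(S : Subgroup G) ≃* Multiplicative (ZMod 2) × DihedralGroup 4)) : ∃ H : Subgroup G, H.index = 2 := by
  classical
  obtain ⟨e⟩ := hS
  let u : G := (e.symm c : G)
  have huS : u ∈ (S : Subgroup G) := (e.symm c).2
  have hup : u ^ 2 = 1 := by
    have h1 : (e.symm c) ^ 2 = 1 := by
      rw [← map_pow]
      have : c ^ 2 = 1 := by decide
      rw [this, map_one]
    have := congrArg Subtype.val h1
    simpa using this
  have hZ : ∀ s ∈ (S : Subgroup G), s * u = u * s := by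
    intro s hs
    have h1 := c_central (e ⟨s, hs⟩)
    have h2 := congrArg e.symm h1
    rw [map_mul, map_mul] at h2
    have h3 := congrArg Subtype.val h2
    simpa [u] using h3.symm
  let θ : (S : Subgroup G) →* Multiplicative (ZMod 2) :=
    (MonoidHom.fst _ _).comp e.toMonoidHom
  have hθ : θ ⟨u, huS⟩ ≠ 1 := by
    have h1 : θ ⟨u, huS⟩ = (c : T).1 := by
      show (e ⟨u, huS⟩).1 = _
      have : (⟨u, huS⟩ : (S : Subgroup G)) = e.symm c := rfl
      rw [this]
      simp
    rw [h1]
    decide
  obtain ⟨L, -, hL, -⟩ := Cfsg.Agent.Lib.Transfer.CentralOrderP.exists_normal_index_of_central S u huS hup hZ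
    (fun g hg => normalizer_fix S e g hg) θ hθ
  exact ⟨L, hL⟩

end Cfsg.Agent.S2911
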