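import Cfsg.Statements.S3157
import Cfsg.Agent.Lib.Compute.PSL34
import Cfsg.Agent.Lib.Classical.Orth.SmallQuot
import Cfsg.Agent.Lib.PGroup.CyclicMax2


set_option autoImplicit false
open Cfsg

namespace Cfsg.Agent.S3157

open scoped commutatorElement
open Subgroup

section Cub

variable {Q : Type*} [Group Q]

/-- An "order three, fixed-point-free" endomorphism of a 2-group, in identity form. -/
structure Cub (r : Q →* Q) : Prop where
  three : ∀ y, r (r (r y)) = y
  cubic : ∀ y, y * r y * r (r y) = 1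
  two : IsPGroup 2 Q

variable {r : Q →* Q}

theorem Cub.comm (h : Cub r) (y : Q) : y * r y = r y * y := by
  have h1 := h.cubic y
  have h2 := h.cubic (r y)
  rw [h.three] at h2
  have h3 := h.cubic (y * r y)
  simp only [map_mul, h.three] at h3
  have hbc : r y * r (r y) = y⁻¹ := by
    apply eq_inv_of_mul_eq_one_right
    rw [← mul_assoc]; exact h1
  have hca : r (r y) * y = (r y)⁻¹ := by
    apply eq_inv_of_mul_eq_one_right
    rw [← mul_assoc]; exact h2
  rw [hbc, hca] at h3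
  have : y * r y * y⁻¹ = r y := by
    have := mul_eq_one_iff_eq_inv.mp h3
    rw [inv_inv] at this
    exact this
  calc y * r y = y * r y * y⁻¹ * y := by group
    _ = r y * y := by rw [this]

theorem Cub.fix (h : Cub r) {y : Q} (hy : r y = y) : y = 1 := by
  have h1 := h.cubic y
  rw [hy, hy] at h1
  have h3 : y ^ 3 = 1 := by rw [pow_succ, pow_two]; exact h1
  obtain ⟨k, hk⟩ := IsPGroup.iff_orderOf.mp h.two y
  have hd : orderOf y ∣ 3 := orderOf_dvd_of_pow_eq_one h3
  rw [hk] at hd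
  have : k = 0 := by
    rcases k with _ | k
    · rfl
    · exfalso
      have h2 : (2:ℕ) ∣ 3 := dvd_trans (by rw [pow_succ]; exact Dvd.intro_left _ rfl) hd
      omega
  rw [this, pow_zero, orderOf_eq_one_iff] at hk
  exact hk

theorem Cub.card_mod [Finite Q] (h : Cub r) (N : Subgroup Q) (hN : ∀ y ∈ N, r y ∈ N) :
    Nat.card N % 3 = 1 := by
  classical
  haveI : Fintype N := Fintype.ofFinite _
  let f : Function.End N := fun y => ⟨r y, hN y y.2⟩
  have hf : f ^ 3 ^ 1 = 1 := by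
    funext y
    apply Subtype.ext
    show ((f ^ 3 ^ 1) y : Q) = y
    have : (f ^ 3 ^ 1) y = f (f (f y)) := rfl
    rw [this]
    exact h.three y
  haveI : Fact (Nat.Prime 3) := ⟨by norm_num⟩
  have h1 := Equiv.Perm.card_fixedPoints_modEq (f := f) (p := 3) (n := 1) hf
  have hfix : Fintype.card f.fixedPoints = 1 := by
    rw [Fintype.card_eq_one_iff]
    refine ⟨⟨1, ?_⟩, ?_⟩
    · show f 1 = 1
      apply Subtype.ext
      show r 1 = 1
      exact map_one r
    · rintro ⟨y, hy⟩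
      apply Subtype.ext
      apply Subtype.ext
      have hy' : r (y : Q) = y := congrArg Subtype.val hy
      exact h.fix hy'
  rw [hfix] at h1
  rw [Nat.card_eq_fintype_card]
  exact h1

theorem Cub.center_inv (h : Cub r) {y : Q} (hy : y ∈ center Q) : r y ∈ center Q := by
  rw [mem_center_iff] at hy ⊢
  intro g
  have hg : g = r (r (r g)) := (h.three g).symm
  rw [hg, ← map_mul, ← map_mul, hy]

theorem Cub.mem_center [Finite Q] (h : Cub r) (hc : Nat.card Q ≤ 4 * Nat.card (center Q)) (u : Q) :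
    u ∈ center Q := by
  by_contra hu
  let A : Subgroup Q := centralizer {u} ⊓ centralizer {r u}
  have hmem : ∀ y, y ∈ A ↔ (u * y = y * u ∧ r u * y = y * r u) := by
    intro y
    simp only [A, mem_inf, mem_centralizer_singleton_iff]
    constructor
    · rintro ⟨h1, h2⟩; exact ⟨h1.symm, h2.symm⟩
    · rintro ⟨h1, h2⟩; exact ⟨h1.symm, h2.symm⟩
  have hinv : ∀ y ∈ A, r y ∈ A := by
    intro y hy
    obtain ⟨h1, h2⟩ := (hmem y).mp hy
    have h3 : r u * r y = r y * r u := by rw [← map_mul, h1, map_mul]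
    have h4 : r (r u) * r y = r y * r (r u) := by rw [← map_mul, h2, map_mul]
    have h5 : u = (r u * r (r u))⁻¹ := by
      have := h.cubic u
      apply eq_inv_of_mul_eq_one_left
      rw [← mul_assoc]; exact this
    refine (hmem _).mpr ⟨?_, h3⟩
    have h6 : (r u * r (r u)) * r y = r y * (r u * r (r u)) := by
      rw [mul_assoc, h4, ← mul_assoc, h3, mul_assoc]
    have h7 : (r u * r (r u))⁻¹ * r y = r y * (r u * r (r u))⁻¹ := by
      rw [inv_mul_eq_iff_eq_mul, ← mul_assoc, h6, mul_assoc, mul_inv_cancel, mul_one]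
    rw [← h5] at h7
    exact h7
  have hZA : center Q ≤ A := by
    intro z hz
    have hz' := mem_center_iff.mp hz
    exact (hmem z).mpr ⟨(hz' u), (hz' (r u))⟩
  have huA : u ∈ A := (hmem u).mpr ⟨rfl, (h.comm u).symm⟩
  have h1 := h.card_mod A hinv
  have h2 := h.card_mod (center Q) (fun y hy => h.center_inv hy)
  have hdvd : Nat.card (center Q) ∣ Nat.card A := card_dvd_of_le hZA
  obtain ⟨k, hk⟩ := hdvd
  have hpos : 0 < Nat.card (center Q) := Nat.card_pos
  have hk1 : k ≠ 1 := by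
    rintro rfl
    rw [mul_one] at hk
    have : center Q = A := eq_of_le_of_card_ge hZA (by omega)
    exact hu (this ▸ huA)
  have hk0 : k ≠ 0 := by
    rintro rfl
    have : 0 < Nat.card A := Nat.card_pos
    omega
  have hk3 : k % 3 = 1 := by
    have h3 : (Nat.card (center Q) * k) % 3 = 1 := hk ▸ h1
    rw [Nat.mul_mod, h2, one_mul, Nat.mod_mod] at h3
    exact h3
  have hk4 : 4 ≤ k := by omega
  have hAQ : Nat.card Q ≤ Nat.card A := by
    calc Nat.card Q ≤ 4 * Nat.card (center Q) := hc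
      _ ≤ k * Nat.card (center Q) := Nat.mul_le_mul_right _ hk4
      _ = Nat.card A := by rw [hk, mul_comm]
  have hAtop : A = ⊤ := by
    apply eq_top_of_card_eq
    exact le_antisymm (card_le_card_group A) hAQ
  apply hu
  rw [mem_center_iff]
  intro g
  have : g ∈ A := hAtop ▸ mem_top g
  exact ((hmem g).mp this).1.symm

end Cub

section Central

variable {G : Type*} [Group G]

theorem comm_mul_left (hc : ∀ u v : G, ⁅u, v⁆ ∈ center G) (u w v : G) :
    ⁅u * w, v⁆ = ⁅u, v⁆ * ⁅w, v⁆ := by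
  have h1 : w * v * w⁻¹ = ⁅w, v⁆ * v := by rw [commutatorElement_def]; group
  have h2 := mem_center_iff.mp (hc w v)
  calc ⁅u * w, v⁆ = u * (w * v * w⁻¹) * u⁻¹ * v⁻¹ := by rw [commutatorElement_def]; group
    _ = u * (⁅w, v⁆ * v) * u⁻¹ * v⁻¹ := by rw [h1]
    _ = (u * ⁅w, v⁆) * v * u⁻¹ * v⁻¹ := by group
    _ = (⁅w, v⁆ * u) * v * u⁻¹ * v⁻¹ := by rw [h2 u]
    _ = ⁅w, v⁆ * ⁅u, v⁆ := by rw [commutatorElement_def u v]; group
    _ = ⁅u, v⁆ * ⁅w, v⁆ := (h2 _).symm

theorem comm_inv_symm (u v : G) : ⁅u, v⁆⁻¹ = ⁅v, u⁆ := commutatorElement_inv u v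

theorem comm_mul_right (hc : ∀ u v : G, ⁅u, v⁆ ∈ center G) (u v w : G) :
    ⁅u, v * w⁆ = ⁅u, v⁆ * ⁅u, w⁆ := by
  have h := comm_mul_left hc v w u
  have h2 := mem_center_iff.mp (hc v u)
  calc ⁅u, v * w⁆ = ⁅v * w, u⁆⁻¹ := by rw [comm_inv_symm]
    _ = (⁅v, u⁆ * ⁅w, u⁆)⁻¹ := by rw [h]
    _ = ⁅w, u⁆⁻¹ * ⁅v, u⁆⁻¹ := by rw [mul_inv_rev]
    _ = ⁅u, w⁆ * ⁅u, v⁆ := by rw [comm_inv_symm, comm_inv_symm]
    _ = ⁅u, v⁆ * ⁅u, w⁆ := (mem_center_iff.mp (hc u w) _).symm

/-- The swap rule. -/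
theorem swap_rule (u v : G) : u * v = ⁅u, v⁆ * v * u := by
  rw [commutatorElement_def]; group

end Central

section Special

variable {T : Type*} [Group T] [Finite T] {r : T →* T}

theorem comm_central (h : Cub r) (hT : Nat.card T = 64) (hna : ¬ ∀ a b : T, a * b = b * a)
    (u v : T) : ⁅u, v⁆ ∈ center T ∧ Nat.card (center T) = 4 := by
  have hZ4 : Nat.card (center T) = 4 := by
    have h1 := h.card_mod (center T) (fun y hy => h.center_inv hy)
    haveI : Nontrivial T := by
      rw [← Finite.one_lt_card_iff_nontrivial, hT]; norm_num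
    have hnt := IsPGroup.center_nontrivial h.two
    have h2 : 1 < Nat.card (center T) := Finite.one_lt_card_iff_nontrivial.mpr hnt
    have h3 : Nat.card (center T) ∣ 64 := hT ▸ card_subgroup_dvd_card _
    have h4 : Nat.card (center T) ≤ 64 := Nat.le_of_dvd (by norm_num) h3
    have h5 : ¬ 16 ≤ Nat.card (center T) := by
      intro h16
      apply hna
      intro a b
      have := h.mem_center (by omega) a
      exact (mem_center_iff.mp this b).symm
    generalize Nat.card (center T) = n at *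
    interval_cases n <;> omega
  refine ⟨?_, hZ4⟩
  -- the quotient
  let Z : Subgroup T := center T
  have hZmap : Z ≤ Z.comap r := fun y hy => h.center_inv hy
  let rb : (T ⧸ Z) →* (T ⧸ Z) := QuotientGroup.map Z Z r hZmap
  have hrb : ∀ y : T, rb (y : T ⧸ Z) = ((r y : T) : T ⧸ Z) := fun y => rfl
  have hcub : Cub rb := by
    refine ⟨?_, ?_, ?_⟩
    · intro y
      obtain ⟨y, rfl⟩ := QuotientGroup.mk_surjective y
      rw [hrb, hrb, hrb, h.three]
    · intro y
      obtain ⟨y, rfl⟩ := QuotientGroup.mk_surjective y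
      rw [hrb, hrb, ← QuotientGroup.mk_mul, ← QuotientGroup.mk_mul, h.cubic]
      rfl
    · exact h.two.to_quotient Z
  have hcardQ : Nat.card (T ⧸ Z) = 16 := by
    have := card_eq_card_quotient_mul_card_subgroup Z
    rw [hT] at this
    have hZ4' : Nat.card Z = 4 := hZ4
    rw [hZ4'] at this
    omega
  have hcomm : ∀ a b : T ⧸ Z, a * b = b * a := by
    haveI : Nontrivial (T ⧸ Z) := by
      rw [← Finite.one_lt_card_iff_nontrivial, hcardQ]; norm_num
    have hnt := IsPGroup.center_nontrivial hcub.two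
    have h2 : 1 < Nat.card (center (T ⧸ Z)) := Finite.one_lt_card_iff_nontrivial.mpr hnt
    have h1 := hcub.card_mod (center (T ⧸ Z)) (fun y hy => hcub.center_inv hy)
    have h3 : 4 ≤ Nat.card (center (T ⧸ Z)) := by omega
    intro a b
    have := hcub.mem_center (by omega) a
    exact (mem_center_iff.mp this b).symm
  have h1 : ((⁅u, v⁆ : T) : T ⧸ Z) = 1 := by
    rw [commutatorElement_def]
    simp only [QuotientGroup.mk_mul, QuotientGroup.mk_inv]
    rw [hcomm (u : T ⧸ Z) v, mul_assoc, mul_assoc]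
    simp
  exact (QuotientGroup.eq_one_iff _).mp h1

end Special

section Sp

variable {T : Type*} [Group T] [Finite T]

/-- The special structure. -/
structure Sp (r : T →* T) : Prop where
  cub : Cub r
  hc : ∀ u v : T, ⁅u, v⁆ ∈ center T
  hexp : ∀ z ∈ center T, z * z = 1
  hsq : ∀ u : T, u * u ∈ center T
  hZ4 : Nat.card (center T) = 4

variable {r : T →* T}

theorem cz {z : T} (hz : z ∈ center T) (a : T) : a * z = z * a := mem_center_iff.mp hz a

theorem Sp.of_cub (h : Cub r) (hT : Nat.card T = 64) (hna : ¬ ∀ a b : T, a * b = b * a) : Sp r := by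
  have hc : ∀ u v : T, ⁅u, v⁆ ∈ center T := fun u v => (comm_central h hT hna u v).1
  have hZ4 : Nat.card (center T) = 4 := (comm_central h hT hna 1 1).2
  have hexp : ∀ z ∈ center T, z * z = 1 := by
    let S : Subgroup T :=
      { carrier := {z | z ∈ center T ∧ z * z = 1}
        one_mem' := ⟨one_mem _, by simp⟩
        mul_mem' := by
          rintro a b ⟨ha, ha2⟩ ⟨hb, hb2⟩
          refine ⟨mul_mem ha hb, ?_⟩
          calc a * b * (a * b) = a * (b * a) * b := by group
            _ = a * (a * b) * b := by rw [← cz ha b]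
            _ = (a * a) * (b * b) := by group
            _ = 1 := by rw [ha2, hb2, one_mul]
        inv_mem' := by
          rintro a ⟨ha, ha2⟩
          refine ⟨inv_mem ha, ?_⟩
          rw [← mul_inv_rev, ha2, inv_one] }
    have hmem : ∀ z, z ∈ S ↔ (z ∈ center T ∧ z * z = 1) := fun z => Iff.rfl
    have h1 := h.card_mod S (by
      intro y hy
      obtain ⟨h1, h2⟩ := (hmem y).mp hy
      exact (hmem _).mpr ⟨h.center_inv h1, by rw [← map_mul, h2, map_one]⟩)
    -- an involution in the centre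
    haveI : Fact (Nat.Prime 2) := ⟨Nat.prime_two⟩
    obtain ⟨t, ht⟩ := exists_prime_orderOf_dvd_card' (G := center T) 2 (by rw [hZ4]; norm_num)
    have ht1 : ((t : center T) : T) ≠ 1 := by
      intro h0
      have : t = 1 := Subtype.ext h0
      rw [this, orderOf_one] at ht
      omega
    have ht2 : ((t : center T) : T) * t = 1 := by
      have := pow_orderOf_eq_one t
      rw [ht, pow_two] at this
      exact congrArg Subtype.val this
    have hS : S ≠ ⊥ := by
      intro hb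
      have : ((t : center T) : T) ∈ S := (hmem _).mpr ⟨t.2, ht2⟩
      rw [hb, mem_bot] at this
      exact ht1 this
    have h2 : 1 < Nat.card S := by
      rw [Finite.one_lt_card_iff_nontrivial]
      exact (nontrivial_iff_ne_bot S).mpr hS
    have hle : S ≤ center T := fun z hz => hz.1
    have h3 : Nat.card S ≤ 4 := hZ4 ▸ card_le_of_le hle
    have h4 : S = center T := by
      apply eq_of_le_of_card_ge hle
      rw [hZ4]
      omega
    intro z hz
    rw [← h4] at hz
    exact hz.2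
  have hsq : ∀ u : T, u * u ∈ center T := by
    intro u
    rw [mem_center_iff]
    intro g
    have h1 := comm_mul_left hc u u g
    rw [hexp _ (hc u g)] at h1
    rw [commutatorElement_def, mul_inv_eq_one, mul_inv_eq_iff_eq_mul] at h1
    exact h1.symm
  exact ⟨h, hc, hexp, hsq, hZ4⟩

theorem Sp.inv_eq (h : Sp r) {z : T} (hz : z ∈ center T) : z⁻¹ = z :=
  inv_eq_of_mul_eq_one_left (h.hexp z hz)

theorem Sp.symm (h : Sp r) (u v : T) : ⁅v, u⁆ = ⁅u, v⁆ := by
  rw [← commutatorElement_inv u v, h.inv_eq (h.hc u v)]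

theorem Sp.comm_center_left (h : Sp r) {z : T} (hz : z ∈ center T) (v : T) : ⁅z, v⁆ = 1 := by
  rw [commutatorElement_def, ← cz hz v]; group

theorem Sp.comm_center_right (h : Sp r) {z : T} (hz : z ∈ center T) (v : T) : ⁅v, z⁆ = 1 := by
  rw [h.symm, h.comm_center_left hz]

theorem Sp.comm_self (_h : Sp r) (v : T) : ⁅v, v⁆ = 1 := commutatorElement_self v

theorem Sp.sq_mul (h : Sp r) (u v : T) : (u * v) * (u * v) = (u * u) * (v * v) * ⁅u, v⁆ := by
  have h1 : v * u = ⁅v, u⁆ * u * v := swap_rule v u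
  rw [h.symm u v] at h1
  calc (u * v) * (u * v) = u * (v * u) * v := by group
    _ = u * (⁅v, u⁆ * u * v) * v := by rw [swap_rule v u]
    _ = (u * ⁅v, u⁆) * u * v * v := by group
    _ = (⁅v, u⁆ * u) * u * v * v := by rw [cz (h.hc v u) u]
    _ = ⁅v, u⁆ * ((u * u) * (v * v)) := by group
    _ = (u * u) * (v * v) * ⁅v, u⁆ := (cz (h.hc v u) _).symm
    _ = _ := by rw [h.symm u v]

theorem Sp.rr (h : Sp r) {z : T} (hz : z ∈ center T) : r (r z) = z * r z := by
  have h1 := h.cub.cubic z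
  have hmem : z * r z ∈ center T := mul_mem hz (h.cub.center_inv hz)
  have h2 : r (r z) = (z * r z)⁻¹ := eq_inv_of_mul_eq_one_right h1
  rw [h2, h.inv_eq hmem]

theorem Sp.r_eq (h : Sp r) {z : T} (hz : z ∈ center T) : r z = z * r (r z) := by
  rw [h.rr hz, ← mul_assoc, h.hexp z hz, one_mul]

theorem Sp.inj (h : Sp r) : Function.Injective r := by
  intro a b hab
  have := congrArg (fun y => r (r y)) hab
  simpa [h.cub.three] using this

/-- `⁅r y, z⁆ = ⁅y, r z⁆`. -/
theorem Sp.F2 (h : Sp r) (y z : T) : ⁅r y, z⁆ = ⁅y, r z⁆ := by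
  have h1 : ⁅y * z, r (y * z)⁆ = 1 := by
    rw [commutatorElement_def, mul_inv_eq_one, mul_inv_eq_iff_eq_mul]
    exact h.cub.comm (y * z)
  rw [map_mul, comm_mul_left h.hc, comm_mul_right h.hc, comm_mul_right h.hc] at h1
  have h2 : ⁅y, r y⁆ = 1 := by
    rw [commutatorElement_def, mul_inv_eq_one, mul_inv_eq_iff_eq_mul]
    exact h.cub.comm y
  have h3 : ⁅z, r z⁆ = 1 := by
    rw [commutatorElement_def, mul_inv_eq_one, mul_inv_eq_iff_eq_mul]
    exact h.cub.comm z
  rw [h2, h3, one_mul, mul_one] at h1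
  have h4 : ⁅y, r z⁆ = ⁅z, r y⁆⁻¹ := eq_inv_of_mul_eq_one_left h1
  rw [h4, commutatorElement_inv]

theorem Sp.comm_inv_right (h : Sp r) (u v : T) : ⁅u, v⁻¹⁆ = ⁅u, v⁆ := by
  have h1 := comm_mul_right h.hc u v v⁻¹
  rw [mul_inv_cancel, commutatorElement_one_right] at h1
  have h2 : ⁅u, v⁻¹⁆ = ⁅u, v⁆⁻¹ := eq_inv_of_mul_eq_one_right h1.symm
  rw [h2, h.inv_eq (h.hc u v)]

/-- `⁅y, r z⁆ = r (r ⁅y, z⁆)`. -/
theorem Sp.F3 (h : Sp r) (y z : T) : ⁅y, r z⁆ = r (r ⁅y, z⁆) := by
  have hc := h.hc y z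
  have h1 : r ⁅y, z⁆ = ⁅y, r (r z)⁆ := by rw [map_commutatorElement, h.F2]
  have h2 : r (r z) = (z * r z)⁻¹ := eq_inv_of_mul_eq_one_right (h.cub.cubic z)
  rw [h2, h.comm_inv_right, comm_mul_right h.hc] at h1
  rw [h.rr hc, h1, ← mul_assoc, h.hexp _ hc, one_mul]

theorem Sp.r_ne_one (h : Sp r) {z : T} (hz : z ≠ 1) : r z ≠ 1 := by
  intro h0
  apply hz
  apply h.inj
  rw [h0, map_one]

theorem Sp.ne_r (h : Sp r) {z : T} (hz : z ≠ 1) : r z ≠ z := fun h0 => hz (h.cub.fix h0)

theorem Sp.ne_rr (h : Sp r) {z : T} (hz : z ≠ 1) : r (r z) ≠ z := by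
  intro h0
  have : r z = z := by
    have h1 := congrArg r h0
    rw [h.cub.three] at h1
    exact h1.symm
  exact h.ne_r hz this

/-- The centre is `{1, μ, r μ, r² μ}`. -/
theorem Sp.center_four (h : Sp r) {μ w : T} (hμ : μ ∈ center T) (h1 : μ ≠ 1) (hw : w ∈ center T) :
    w = 1 ∨ w = μ ∨ w = r μ ∨ w = r (r μ) := by
  classical
  have hr := h.cub.center_inv hμ
  have hrr := h.cub.center_inv hr
  let f : Fin 4 → center T := ![1, ⟨μ, hμ⟩, ⟨r μ, hr⟩, ⟨r (r μ), hrr⟩]
  have hn1 : μ ≠ 1 := h1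
  have hn2 : r μ ≠ 1 := h.r_ne_one h1
  have hn3 : r (r μ) ≠ 1 := h.r_ne_one hn2
  have hn4 : r μ ≠ μ := h.ne_r h1
  have hn5 : r (r μ) ≠ μ := h.ne_rr h1
  have hn6 : r (r μ) ≠ r μ := h.ne_r hn2
  have hinj : Function.Injective f := by
    intro i j hij
    have hv := congrArg Subtype.val hij
    fin_cases i <;> fin_cases j <;> simp [f] at hv ⊢
    · exact (hn1 hv.symm).elim
    · exact (hn2 hv.symm).elim
    · exact (hn3 hv.symm).elim
    · exact (hn1 hv).elim
    · exact (hn4 hv.symm).elim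
    · exact (hn5 hv.symm).elim
    · exact (hn2 hv).elim
    · exact (hn4 hv).elim
    · exact (hn6 hv.symm).elim
    · exact (hn3 hv).elim
    · exact (hn5 hv).elim
    · exact (hn6 hv).elim
  have hsurj : Function.Surjective f := by
    have hbij := hinj.bijective_of_nat_card_le (by rw [h.hZ4, Nat.card_eq_fintype_card (α := Fin 4), Fintype.card_fin])
    exact hbij.2
  obtain ⟨i, hi⟩ := hsurj ⟨w, hw⟩
  have hv := congrArg Subtype.val hi
  fin_cases i <;> simp [f] at hv
  · exact Or.inl hv.symm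
  · exact Or.inr (Or.inl hv.symm)
  · exact Or.inr (Or.inr (Or.inl hv.symm))
  · exact Or.inr (Or.inr (Or.inr hv.symm))

/-- The action of the involution. -/
structure XD (r x : T →* T) (C : Subgroup T) : Prop where
  two : ∀ y, x (x y) = y
  rel : ∀ y, x (r y) = r (r (x y))
  memC : ∀ y, y ∈ C ↔ x y = y

variable {x : T →* T} {C : Subgroup T}

theorem XD.center_inv (hx : XD r x C) {z : T} (hz : z ∈ center T) : x z ∈ center T := by
  rw [mem_center_iff] at hz ⊢
  intro g
  have hg : g = x (x g) := (hx.two g).symm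
  rw [hg, ← map_mul, ← map_mul, hz]

/-- Lifting into the fixed points. -/
theorem XD.lift (h : Sp r) (hx : XD r x C) {y : T} (hy : y⁻¹ * x y ∈ center T) :
    ∃ w ∈ center T, y * w ∈ C := by
  set z := y⁻¹ * x y with hz
  have h1 : x y = y * z := by rw [hz]; group
  have h2 : y = y * z * x z := by
    have := hx.two y
    rw [h1, map_mul, h1] at this
    exact this.symm
  have h3 : z * x z = 1 := by
    have : y * (z * x z) = y * 1 := by rw [mul_one, ← mul_assoc]; exact h2.symm
    exact mul_left_cancel this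
  have h4 : x z = z := by
    have : x z = z⁻¹ := eq_inv_of_mul_eq_one_right h3
    rw [this, h.inv_eq hy]
  refine ⟨r z, h.cub.center_inv hy, ?_⟩
  rw [hx.memC, map_mul, hx.rel, h1, h4]
  rw [mul_assoc, ← h.r_eq hy]

theorem XD.p1 (h : Sp r) (hx : XD r x C) (u : T) : (u * x u)⁻¹ * x (u * x u) ∈ center T := by
  have h1 : (u * x u)⁻¹ * x (u * x u) = ⁅(x u)⁻¹, u⁻¹⁆ := by
    rw [map_mul, hx.two, commutatorElement_def]; group
  rw [h1]
  exact h.hc _ _

/-- Every element is, modulo the centre, a product of `r² e` and `e'` with `e, e'` fixed by `x`. -/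
theorem XD.decomp (h : Sp r) (hx : XD r x C) (u : T) :
    ∃ e ∈ C, ∃ e' ∈ C, ∃ k ∈ center T, r (r e) * e' * k = u := by
  obtain ⟨w₁, hw₁, he⟩ := hx.lift h (hx.p1 h u)
  obtain ⟨w₂, hw₂, he'⟩ := hx.lift h (hx.p1 h (r u))
  refine ⟨_, he, _, he', ?_⟩
  set A := r (r u) with hA
  set B := r (r (x u)) with hB
  set D := r u with hD
  set W := r (r w₁) with hWdef
  have hW : W ∈ center T := h.cub.center_inv (h.cub.center_inv hw₁)
  have h1 : r (r (u * x u * w₁)) = A * B * W := by simp only [map_mul]; rfl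
  have h2 : r u * x (r u) * w₂ = D * B * w₂ := by rw [hx.rel]
  have hAD : A * D = u⁻¹ := by
    have h3 := h.cub.cubic (r u)
    rw [h.cub.three] at h3
    have h4 : r u * r (r u) = u⁻¹ := eq_inv_of_mul_eq_one_left h3
    rw [← h4]
    exact (h.cub.comm (r u)).symm
  have hcBD := h.hc B D
  have hBB := h.hsq B
  have hcomp : A * B * W * (D * B * w₂) = u⁻¹ * (⁅B, D⁆ * (B * B) * W * w₂) := by
    calc A * B * W * (D * B * w₂) = A * B * (W * (D * B)) * w₂ := by group
      _ = A * B * ((D * B) * W) * w₂ := by rw [cz hW (D * B)]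
      _ = A * (B * D) * B * W * w₂ := by group
      _ = A * (⁅B, D⁆ * D * B) * B * W * w₂ := by rw [← swap_rule]
      _ = (A * ⁅B, D⁆) * D * B * B * W * w₂ := by group
      _ = (⁅B, D⁆ * A) * D * B * B * W * w₂ := by rw [cz hcBD A]
      _ = ⁅B, D⁆ * (A * D) * (B * B) * W * w₂ := by group
      _ = ⁅B, D⁆ * u⁻¹ * (B * B) * W * w₂ := by rw [hAD]
      _ = u⁻¹ * ⁅B, D⁆ * (B * B) * W * w₂ := by rw [cz hcBD u⁻¹]
      _ = u⁻¹ * (⁅B, D⁆ * (B * B) * W * w₂) := by group
  have hK : ⁅B, D⁆ * (B * B) * W * w₂ ∈ center T :=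
    mul_mem (mul_mem (mul_mem hcBD hBB) hW) hw₂
  refine ⟨(⁅B, D⁆ * (B * B) * W * w₂)⁻¹ * (u * u), mul_mem (inv_mem hK) (h.hsq u), ?_⟩
  rw [h1, h2, hcomp]
  group

theorem XD.exists_nc (h : Sp r) (hx : XD r x C) (hna : ¬ ∀ a b : T, a * b = b * a) :
    ∃ e₁ ∈ C, ∃ e₂ ∈ C, ⁅e₁, e₂⁆ ≠ 1 := by
  by_contra hcon
  push Not at hcon
  apply hna
  intro u v
  obtain ⟨e₁, he₁, f₁, hf₁, k₁, hk₁, rfl⟩ := hx.decomp h u
  obtain ⟨e₂, he₂, f₂, hf₂, k₂, hk₂, rfl⟩ := hx.decomp h v
  rw [← commutatorElement_eq_one_iff_mul_comm]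
  rw [comm_mul_left h.hc, comm_mul_right h.hc, comm_mul_right h.hc, comm_mul_left h.hc,
    comm_mul_right h.hc, comm_mul_left h.hc]
  simp only [h.comm_center_left hk₁, h.comm_center_right hk₂, mul_one, one_mul]
  have h1 : ⁅r (r e₁), r (r e₂)⁆ = 1 := by
    rw [← map_commutatorElement, ← map_commutatorElement, hcon e₁ he₁ e₂ he₂, map_one, map_one]
  have hz : ∀ y ∈ C, ∀ z ∈ C, ⁅y, r (r z)⁆ = 1 := by
    intro y hy z hz
    rw [h.F3, h.F3, hcon y hy z hz]
    simp only [map_one]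
  have h2 : ⁅r (r e₁), f₂⁆ = 1 := by rw [h.symm, hz f₂ hf₂ e₁ he₁]
  have h3 : ⁅f₁, r (r e₂)⁆ = 1 := hz f₁ hf₁ e₂ he₂
  have h4 : ⁅f₁, f₂⁆ = 1 := hcon f₁ hf₁ f₂ hf₂
  rw [h1, h2, h3, h4]
  simp

theorem XD.card_le (h : Sp r) (hx : XD r x C) (hT : Nat.card T = 64) : Nat.card C ≤ 8 := by
  have hinj : Function.Injective (fun p : C × C => (p.1 : T) * r (p.2 : T)) := by
    rintro ⟨⟨e, he⟩, ⟨f, hf⟩⟩ ⟨⟨e', he'⟩, ⟨f', hf'⟩⟩ hEq
    simp only at hEq
    -- g = e'⁻¹ e = r (f' f⁻¹)
    have h1 : e'⁻¹ * e = r (f' * f⁻¹) := by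
      rw [map_mul, map_inv]
      calc e'⁻¹ * e = e'⁻¹ * (e * r f) * (r f)⁻¹ := by group
        _ = e'⁻¹ * (e' * r f') * (r f)⁻¹ := by rw [hEq]
        _ = r f' * (r f)⁻¹ := by group
    have hg : e'⁻¹ * e ∈ C := mul_mem (inv_mem he') he
    have hk : f' * f⁻¹ ∈ C := mul_mem hf' (inv_mem hf)
    have h2 : x (r (f' * f⁻¹)) = r (f' * f⁻¹) := by
      rw [← h1]; exact (hx.memC _).mp hg
    rw [hx.rel, (hx.memC _).mp hk] at h2
    have h3 : r (f' * f⁻¹) = f' * f⁻¹ := h.inj h2
    have h4 : f' * f⁻¹ = 1 := h.cub.fix h3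
    have h5 : e'⁻¹ * e = 1 := by rw [h1, h4, map_one]
    have h6 : f = f' := (mul_inv_eq_one.mp h4).symm
    have h7 : e = e' := by
      rw [inv_mul_eq_one] at h5; exact h5.symm
    subst h6; subst h7; rfl
  have h1 := Nat.card_le_card_of_injective _ hinj
  rw [Nat.card_prod, hT] at h1
  nlinarith [Nat.card_pos (α := C)]

end Sp

section Eight

variable {G : Type*} [Group G] [Finite G]

open Cfsg.Agent.Lib.PGroup.CyclicMax2 in
theorem iso_dih_aux (hG : Nat.card G = 8) {u v l : G} (hl : l ≠ 1) (hdef : ⁅u, v⁆ = l) (hlu : l * u = u * l)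
    (hll : l * l = 1) (hu : u * u = l) (hv : v * v = 1) : Nonempty (G ≃* DihedralGroup 4) := by
  have hord : orderOf u = 2 ^ 2 := by
    apply orderOf_eq_prime_pow (p := 2) (n := 1)
    · rw [pow_one, pow_two, hu]; exact hl
    · have : u ^ (2 ^ 2) = (u * u) * (u * u) := by rw [show (2:ℕ) ^ 2 = 2 + 2 by norm_num, pow_add, pow_two]
      rw [this, hu, hll]
  have hv' : v ∉ Subgroup.zpowers u := by
    intro hm
    obtain ⟨k, rfl⟩ := Subgroup.mem_zpowers_iff.mp hm
    apply hl
    rw [← hdef, commutatorElement_eq_one_iff_mul_comm]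
    exact (Commute.zpow_right (Commute.refl u) k)
  have hrel : v * u * v⁻¹ = u⁻¹ := by
    have h1 : v * u * v⁻¹ * u⁻¹ = l := by
      have h2 : ⁅v, u⁆ = l⁻¹ := by rw [← hdef, commutatorElement_inv]
      have h3 : l⁻¹ = l := inv_eq_of_mul_eq_one_left hll
      rw [h3] at h2
      rw [← h2, commutatorElement_def]
    have h2 : v * u * v⁻¹ = l * u := by rw [← h1]; group
    rw [h2, ← hu]
    have h4 : u * u * (u * u) = 1 := by rw [hu, hll]
    apply eq_inv_of_mul_eq_one_left
    calc u * u * u * u = u * u * (u * u) := by group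
      _ = 1 := h4
  exact dihedral_of_data (n := 2) hord (by rw [hG]; norm_num) hv' hrel (by rw [pow_two, hv])

open Cfsg.Agent.Lib.PGroup.CyclicMax2 Cfsg.Agent.Lib.Classical.Orth.SmallQuot in
theorem iso_eight (hG : Nat.card G = 8) {u v l : G} (hl : l ≠ 1) (hdef : ⁅u, v⁆ = l) (hlu : l * u = u * l)
    (hlv : l * v = v * l) (hll : l * l = 1) (hu : u * u = 1 ∨ u * u = l) (hv : v * v = 1 ∨ v * v = l) :
    Nonempty (G ≃* DihedralGroup 4) ∨ Nonempty (G ≃* QuaternionGroup 2) := by
  have hsw : ⁅v, u⁆ = l := by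
    have h2 : ⁅v, u⁆ = l⁻¹ := by rw [← hdef, commutatorElement_inv]
    rw [h2]; exact inv_eq_of_mul_eq_one_left hll
  rcases hu with hu | hu <;> rcases hv with hv | hv
  · left
    apply equiv_dihedral hG u v (by rw [pow_two, hu]) (by rw [pow_two, hv])
    intro h0
    apply hl
    have h1 : v * u = l * u * v := by
      have := swap_rule v u
      rwa [hsw] at this
    rw [pow_two] at h0
    have h2 : (u * v) * (u * v) = l := by
      calc (u * v) * (u * v) = u * (v * u) * v := by group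
        _ = u * (l * u * v) * v := by rw [h1]
        _ = (u * l) * u * (v * v) := by group
        _ = (l * u) * u * (v * v) := by rw [hlu]
        _ = l * (u * u) * (v * v) := by group
        _ = l := by rw [hu, hv, mul_one, mul_one]
    rw [← h2, h0]
  · left
    exact iso_dih_aux hG hl hsw hlv hll hv hu
  · left
    exact iso_dih_aux hG hl hdef hlu hll hu hv
  · right
    have hord : orderOf u = 2 ^ 2 := by
      apply orderOf_eq_prime_pow (p := 2) (n := 1)
      · rw [pow_one, pow_two, hu]; exact hl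
      · have : u ^ (2 ^ 2) = (u * u) * (u * u) := by rw [show (2:ℕ) ^ 2 = 2 + 2 by norm_num, pow_add, pow_two]
        rw [this, hu, hll]
    have hv' : v ∉ Subgroup.zpowers u := by
      intro hm
      obtain ⟨k, rfl⟩ := Subgroup.mem_zpowers_iff.mp hm
      apply hl
      rw [← hdef, commutatorElement_eq_one_iff_mul_comm]
      exact (Commute.zpow_right (Commute.refl u) k)
    have hrel : v * u * v⁻¹ = u⁻¹ := by
      have h1 : v * u * v⁻¹ * u⁻¹ = l := by
        rw [← hsw, commutatorElement_def]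
      have h2 : v * u * v⁻¹ = l * u := by rw [← h1]; group
      rw [h2, ← hu]
      have h4 : u * u * (u * u) = 1 := by rw [hu, hll]
      apply eq_inv_of_mul_eq_one_left
      calc u * u * u * u = u * u * (u * u) := by group
        _ = 1 := h4
    exact quaternion_of_data (n := 2) (by norm_num) hord (by rw [hG]; norm_num) hv' hrel
      (by rw [pow_two, hv]; show l = u ^ 2; rw [pow_two, hu])

end Eight

section SpTwo

variable {T : Type*} [Group T] [Finite T] {r x : T →* T} {C : Subgroup T}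

/-- Squares of fixed points. -/
theorem XD.sq_cases (h : Sp r) (hx : XD r x C) {l e : T} (hl : l ∈ center T) (hl1 : l ≠ 1) (hxl : x l = l)
    (he : e ∈ C) : e * e = 1 ∨ e * e = l := by
  have hmem : e * e ∈ C := mul_mem he he
  have hfix := (hx.memC _).mp hmem
  have hr1 : r l ≠ 1 := h.r_ne_one hl1
  have hxr : x (r l) = r (r l) := by rw [hx.rel, hxl]
  rcases h.center_four hl hl1 (h.hsq e) with h1 | h1 | h1 | h1
  · exact Or.inl h1
  · exact Or.inr h1
  · exfalso
    rw [h1, hxr] at hfix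
    exact h.ne_r hr1 hfix
  · exfalso
    rw [h1, hx.rel, hxr, h.cub.three] at hfix
    exact h.ne_r hr1 hfix.symm

/-- The fixed points of `x` form a nonabelian group of order 8, with the centre of `T` meeting it in
two elements. -/
theorem XD.data (h : Sp r) (hx : XD r x C) (hT : Nat.card T = 64) (hna : ¬ ∀ a b : T, a * b = b * a) :
    ∃ e₁ ∈ C, ∃ e₂ ∈ C, ⁅e₁, e₂⁆ ≠ 1 ∧ Nat.card C = 8 ∧
      (e₁ * e₁ = 1 ∨ e₁ * e₁ = ⁅e₁, e₂⁆) ∧ (e₂ * e₂ = 1 ∨ e₂ * e₂ = ⁅e₁, e₂⁆) := by
  obtain ⟨e₁, he₁, e₂, he₂, hne⟩ := hx.exists_nc h hna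
  have hxl : x ⁅e₁, e₂⁆ = ⁅e₁, e₂⁆ := by
    rw [map_commutatorElement, (hx.memC _).mp he₁, (hx.memC _).mp he₂]
  refine ⟨e₁, he₁, e₂, he₂, hne, ?_, hx.sq_cases h (h.hc _ _) hne hxl he₁, hx.sq_cases h (h.hc _ _) hne hxl he₂⟩
  have hle := hx.card_le h hT
  have hd : Nat.card C ∣ 64 := hT ▸ card_subgroup_dvd_card C
  have hcomm : ¬ (Nat.card C = 1 ∨ Nat.card C = 2 ∨ Nat.card C = 4) := by
    intro hc
    apply hne
    rw [commutatorElement_eq_one_iff_mul_comm]
    have key : ∀ a b : C, a * b = b * a := by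
      rcases hc with hc | hc | hc
      · intro a b
        haveI : Subsingleton C := (Nat.card_eq_one_iff_unique.mp hc).1
        exact Subsingleton.elim _ _
      · haveI : Fact (Nat.Prime 2) := ⟨Nat.prime_two⟩
        have hcyc : IsCyclic C := isCyclic_of_prime_card hc
        intro a b
        exact (IsCyclic.isMulCommutative (α := C)).is_comm.comm a b
      · haveI : Fact (Nat.Prime 2) := ⟨Nat.prime_two⟩
        have hc2 : Nat.card C = 2 ^ 2 := by rw [hc]; norm_num
        have := IsPGroup.isMulCommutative_of_card_eq_prime_sq hc2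
        intro a b
        exact this.is_comm.comm a b
    have := key ⟨e₁, he₁⟩ ⟨e₂, he₂⟩
    exact congrArg Subtype.val this
  have h0 : 0 < Nat.card C := Nat.card_pos
  generalize Nat.card C = n at *
  interval_cases n <;> simp_all <;> omega

/-- The group of fixed points. -/
theorem XD.iso (h : Sp r) (hx : XD r x C) (hT : Nat.card T = 64) (hna : ¬ ∀ a b : T, a * b = b * a) :
    Nonempty (C ≃* DihedralGroup 4) ∨ Nonempty (C ≃* QuaternionGroup 2) := by
  obtain ⟨e₁, he₁, e₂, he₂, hne, hcard, hs1, hs2⟩ := hx.data h hT hna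
  let u : C := ⟨e₁, he₁⟩
  let v : C := ⟨e₂, he₂⟩
  have hlv : ((⁅u, v⁆ : C) : T) = ⁅e₁, e₂⁆ := rfl
  have hcm : ⁅e₁, e₂⁆ ∈ center T := h.hc _ _
  refine iso_eight (G := C) (u := u) (v := v) (l := ⁅u, v⁆) hcard ?_ rfl ?_ ?_ ?_ ?_ ?_
  · intro h0
    apply hne
    rw [← hlv, h0]; rfl
  · apply Subtype.ext
    show ((⁅u, v⁆ : C) : T) * e₁ = e₁ * ((⁅u, v⁆ : C) : T)
    rw [hlv]; exact (cz hcm e₁).symm
  · apply Subtype.ext
    show ((⁅u, v⁆ : C) : T) * e₂ = e₂ * ((⁅u, v⁆ : C) : T)
    rw [hlv]; exact (cz hcm e₂).symm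
  · apply Subtype.ext
    show ((⁅u, v⁆ : C) : T) * ((⁅u, v⁆ : C) : T) = 1
    rw [hlv]; exact h.hexp _ hcm
  · rcases hs1 with h1 | h1
    · left; exact Subtype.ext h1
    · right; exact Subtype.ext h1
  · rcases hs2 with h1 | h1
    · left; exact Subtype.ext h1
    · right; exact Subtype.ext h1

/-- A non-central involution. -/
theorem XD.exists_inv (h : Sp r) (hx : XD r x C) (hT : Nat.card T = 64) (hna : ¬ ∀ a b : T, a * b = b * a) :
    ∃ a g : T, a * a = 1 ∧ ⁅a, g⁆ ≠ 1 := by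
  obtain ⟨e₁, _, e₂, _, hne, _, hs1, hs2⟩ := hx.data h hT hna
  by_cases h1 : e₁ * e₁ = 1
  · exact ⟨e₁, e₂, h1, hne⟩
  by_cases h2 : e₂ * e₂ = 1
  · refine ⟨e₂, e₁, h2, ?_⟩
    rw [h.symm e₁ e₂]; exact hne
  have h1' : e₁ * e₁ = ⁅e₁, e₂⁆ := hs1.resolve_left h1
  have h2' : e₂ * e₂ = ⁅e₁, e₂⁆ := hs2.resolve_left h2
  refine ⟨e₁ * r e₂, e₂, ?_, ?_⟩
  · rw [h.sq_mul, ← map_mul, h1', h2', h.F3]
    exact h.cub.cubic _
  · rw [comm_mul_left h.hc]
    have h3 : ⁅r e₂, e₂⁆ = 1 := by
      rw [commutatorElement_eq_one_iff_mul_comm]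
      exact (h.cub.comm e₂).symm
    rw [h3, mul_one]
    exact hne

/-- Two noncommuting involutions. -/
theorem Sp.exists_pair (h : Sp r) {a g : T} (ha : a * a = 1) (hg : ⁅a, g⁆ ≠ 1) :
    ∃ b : T, b * b = 1 ∧ ⁅a, b⁆ ≠ 1 := by
  have hμ : ⁅g, a⁆ ≠ 1 := by rw [h.symm a g]; exact hg
  have hcm := h.hc g a
  have hra : r a * r a = 1 := by rw [← map_mul, ha, map_one]
  have haa : ⁅a, r a⁆ = 1 := by
    rw [commutatorElement_eq_one_iff_mul_comm]
    exact h.cub.comm a
  rcases h.center_four hcm hμ (h.hsq g) with h1 | h1 | h1 | h1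
  · exact ⟨g, h1, hg⟩
  · refine ⟨g * a, ?_, ?_⟩
    · rw [h.sq_mul, h1, ha, mul_one]
      exact h.hexp _ hcm
    · rw [comm_mul_right h.hc, commutatorElement_self, mul_one]; exact hg
  · refine ⟨g * (a * r a), ?_, ?_⟩
    · have h2 : (a * r a) * (a * r a) = 1 := by
        rw [h.sq_mul, ha, hra, haa, one_mul, one_mul]
      have h3 : ⁅g, a * r a⁆ = r ⁅g, a⁆ := by
        rw [comm_mul_right h.hc, h.F3, ← h.r_eq hcm]
      rw [h.sq_mul, h2, h3, h1, mul_one]
      exact h.hexp _ (h.cub.center_inv hcm)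
    · rw [comm_mul_right h.hc, comm_mul_right h.hc, commutatorElement_self, haa, one_mul, mul_one]
      exact hg
  · refine ⟨g * r a, ?_, ?_⟩
    · rw [h.sq_mul, hra, h.F3, h1, mul_one]
      exact h.hexp _ (h.cub.center_inv (h.cub.center_inv hcm))
    · rw [comm_mul_right h.hc, haa, mul_one]; exact hg

end SpTwo

section Heis

open Cfsg.Agent.Lib.Compute.PSL34 Cfsg.Agent.Lib.Compute.GFModel Matrix

variable {T : Type*} [Group T] [Finite T]

/-- The Heisenberg data. -/
structure HD (a a' b b' l m : T) : Prop where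
  ha : a * a = 1
  ha' : a' * a' = 1
  hb : b * b = 1
  hb' : b' * b' = 1
  haa : a * a' = a' * a
  hbb : b * b' = b' * b
  hl : l ∈ center T
  hm : m ∈ center T
  hl2 : l * l = 1
  hm2 : m * m = 1
  hl1 : l ≠ 1
  hm1 : m ≠ 1
  hlm : l ≠ m
  r1 : b * a = a * b * l
  r2 : b' * a = a * b' * m
  r3 : b * a' = a' * b * m
  r4 : b' * a' = a' * b' * (l * m)

/-- Coordinates in a Klein four group. -/
def bit (p q : T) (s : GF4) : T := p ^ (s.re.val) * q ^ (s.im.val)

theorem pow_val_add {p : T} (hp : p * p = 1) (i j : ZMod 2) : p ^ ((i + j).val) = p ^ i.val * p ^ j.val := by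
  have h2 : p ^ 2 = 1 := by rw [pow_two, hp]
  rw [ZMod.val_add, ← pow_eq_pow_mod _ h2, pow_add]

theorem bit_add {p q : T} (hp : p * p = 1) (hq : q * q = 1) (hpq : p * q = q * p) (s s' : GF4) :
    bit p q (s + s') = bit p q s * bit p q s' := by
  unfold bit
  have h1 : (s + s').re = s.re + s'.re := rfl
  have h2 : (s + s').im = s.im + s'.im := rfl
  rw [h1, h2, pow_val_add hp, pow_val_add hq]
  have hc : Commute (p ^ s'.re.val) (q ^ s.im.val) := (show Commute p q from hpq).pow_pow _ _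
  calc p ^ s.re.val * p ^ s'.re.val * (q ^ s.im.val * q ^ s'.im.val)
      = p ^ s.re.val * (p ^ s'.re.val * q ^ s.im.val) * q ^ s'.im.val := by group
    _ = p ^ s.re.val * (q ^ s.im.val * p ^ s'.re.val) * q ^ s'.im.val := by rw [hc.eq]
    _ = _ := by group

theorem bit_zero (p q : T) : bit p q 0 = 1 := by
  unfold bit
  have h1 : (0 : GF4).re = 0 := rfl
  have h2 : (0 : GF4).im = 0 := rfl
  rw [h1, h2]
  simp

theorem bit_one (p q : T) : bit p q 1 = p := by
  unfold bit
  have h1 : (1 : GF4).re = 1 := rfl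
  have h2 : (1 : GF4).im = 0 := rfl
  rw [h1, h2]
  simp [ZMod.val_one]

theorem bit_w (p q : T) : bit p q w = q := by
  unfold bit
  have h1 : (w : GF4).re = 0 := rfl
  have h2 : (w : GF4).im = 1 := rfl
  rw [h1, h2]
  simp [ZMod.val_one]

theorem gf4_cases : ∀ s : GF4, s = 0 ∨ s = 1 ∨ s = w ∨ s = 1 + w := by decide

theorem gf4_two : ∀ t : GF4, t + t = 0 := by decide

theorem gf4_eq : ∀ c c' : GF4, c + c' = 0 → c = c' := by decide

variable {a a' b b' l m : T}

theorem bit_center {p q : T} (hp : p ∈ center T) (hq : q ∈ center T) (s : GF4) : bit p q s ∈ center T :=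
  mul_mem (pow_mem hp _) (pow_mem hq _)

theorem HD.cadd (D : HD a a' b b' l m) (s s' : GF4) : bit l m (s + s') = bit l m s * bit l m s' :=
  bit_add D.hl2 D.hm2 (cz D.hm l) s s'

theorem HD.aadd (D : HD a a' b b' l m) (s s' : GF4) : bit a a' (s + s') = bit a a' s * bit a a' s' :=
  bit_add D.ha D.ha' D.haa s s'

theorem HD.badd (D : HD a a' b b' l m) (s s' : GF4) : bit b b' (s + s') = bit b b' s * bit b b' s' :=
  bit_add D.hb D.hb' D.hbb s s'

theorem HD.ccen (D : HD a a' b b' l m) (s : GF4) : bit l m s ∈ center T := bit_center D.hl D.hm s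

/-- The commutation rule. -/
theorem HD.rule (D : HD a a' b b' l m) (t s : GF4) :
    bit b b' t * bit a a' s = bit a a' s * bit b b' t * bit l m (t * s) := by
  have add_s : ∀ t s₁ s₂ : GF4, bit b b' t * bit a a' s₁ = bit a a' s₁ * bit b b' t * bit l m (t * s₁) →
      bit b b' t * bit a a' s₂ = bit a a' s₂ * bit b b' t * bit l m (t * s₂) →
      bit b b' t * bit a a' (s₁ + s₂) = bit a a' (s₁ + s₂) * bit b b' t * bit l m (t * (s₁ + s₂)) := by
    intro t s₁ s₂ h1 h2
    rw [D.aadd, mul_add, D.cadd]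
    calc bit b b' t * (bit a a' s₁ * bit a a' s₂) = (bit b b' t * bit a a' s₁) * bit a a' s₂ := by group
      _ = bit a a' s₁ * bit b b' t * bit l m (t * s₁) * bit a a' s₂ := by rw [h1]
      _ = bit a a' s₁ * bit b b' t * (bit l m (t * s₁) * bit a a' s₂) := by group
      _ = bit a a' s₁ * bit b b' t * (bit a a' s₂ * bit l m (t * s₁)) := by rw [cz (D.ccen _) (bit a a' s₂)]
      _ = bit a a' s₁ * (bit b b' t * bit a a' s₂) * bit l m (t * s₁) := by group
      _ = bit a a' s₁ * (bit a a' s₂ * bit b b' t * bit l m (t * s₂)) * bit l m (t * s₁) := by rw [h2]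
      _ = bit a a' s₁ * bit a a' s₂ * bit b b' t * (bit l m (t * s₂) * bit l m (t * s₁)) := by group
      _ = bit a a' s₁ * bit a a' s₂ * bit b b' t * (bit l m (t * s₁) * bit l m (t * s₂)) := by
        rw [cz (D.ccen (t * s₁)) (bit l m (t * s₂))]
  have add_t : ∀ t₁ t₂ s : GF4, bit b b' t₁ * bit a a' s = bit a a' s * bit b b' t₁ * bit l m (t₁ * s) →
      bit b b' t₂ * bit a a' s = bit a a' s * bit b b' t₂ * bit l m (t₂ * s) →
      bit b b' (t₁ + t₂) * bit a a' s = bit a a' s * bit b b' (t₁ + t₂) * bit l m ((t₁ + t₂) * s) := by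
    intro t₁ t₂ s h1 h2
    rw [D.badd, add_mul, D.cadd]
    calc bit b b' t₁ * bit b b' t₂ * bit a a' s = bit b b' t₁ * (bit b b' t₂ * bit a a' s) := by group
      _ = bit b b' t₁ * (bit a a' s * bit b b' t₂ * bit l m (t₂ * s)) := by rw [h2]
      _ = (bit b b' t₁ * bit a a' s) * bit b b' t₂ * bit l m (t₂ * s) := by group
      _ = (bit a a' s * bit b b' t₁ * bit l m (t₁ * s)) * bit b b' t₂ * bit l m (t₂ * s) := by rw [h1]
      _ = bit a a' s * bit b b' t₁ * (bit l m (t₁ * s) * bit b b' t₂) * bit l m (t₂ * s) := by group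
      _ = bit a a' s * bit b b' t₁ * (bit b b' t₂ * bit l m (t₁ * s)) * bit l m (t₂ * s) := by
        rw [cz (D.ccen _) (bit b b' t₂)]
      _ = _ := by group
  have b11 : bit b b' 1 * bit a a' 1 = bit a a' 1 * bit b b' 1 * bit l m (1 * 1) := by
    rw [mul_one, bit_one, bit_one, bit_one]; exact D.r1
  have bw1 : bit b b' w * bit a a' 1 = bit a a' 1 * bit b b' w * bit l m (w * 1) := by
    rw [mul_one, bit_one, bit_w, bit_w]; exact D.r2
  have b1w : bit b b' 1 * bit a a' w = bit a a' w * bit b b' 1 * bit l m (1 * w) := by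
    rw [one_mul, bit_one, bit_w, bit_w]; exact D.r3
  have bww : bit b b' w * bit a a' w = bit a a' w * bit b b' w * bit l m (w * w) := by
    rw [show w * w = 1 + w by decide, D.cadd, bit_one, bit_w, bit_w, bit_w]; exact D.r4
  have hz : ∀ t : GF4, bit b b' t * bit a a' 0 = bit a a' 0 * bit b b' t * bit l m (t * 0) := by
    intro t; rw [mul_zero, bit_zero, bit_zero, one_mul, mul_one]
  have P1 : ∀ s : GF4, bit b b' 1 * bit a a' s = bit a a' s * bit b b' 1 * bit l m (1 * s) := by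
    intro s
    rcases gf4_cases s with rfl | rfl | rfl | rfl
    · exact hz 1
    · exact b11
    · exact b1w
    · exact add_s _ _ _ b11 b1w
  have Pw : ∀ s : GF4, bit b b' w * bit a a' s = bit a a' s * bit b b' w * bit l m (w * s) := by
    intro s
    rcases gf4_cases s with rfl | rfl | rfl | rfl
    · exact hz w
    · exact bw1
    · exact bww
    · exact add_s _ _ _ bw1 bww
  rcases gf4_cases t with rfl | rfl | rfl | rfl
  · rw [zero_mul, bit_zero, bit_zero, one_mul, mul_one, mul_one]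
  · exact P1 s
  · exact Pw s
  · exact add_t _ _ _ (P1 s) (Pw s)

/-- Heisenberg multiplication. -/
def hmul (u v : GF4 × GF4 × GF4) : GF4 × GF4 × GF4 :=
  (u.1 + v.1, u.2.1 + v.2.1, u.2.2 + v.2.2 + u.2.1 * v.1)

/-- The parametrisation. -/
def Psi (a a' b b' l m : T) (u : GF4 × GF4 × GF4) : T :=
  bit a a' u.1 * bit b b' u.2.1 * bit l m u.2.2

theorem HD.Psi_mul (D : HD a a' b b' l m) (u v : GF4 × GF4 × GF4) :
    Psi a a' b b' l m (hmul u v) = Psi a a' b b' l m u * Psi a a' b b' l m v := by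
  obtain ⟨s, t, c⟩ := u
  obtain ⟨s', t', c'⟩ := v
  simp only [Psi, hmul]
  rw [D.aadd, D.badd, D.cadd, D.cadd]
  have h1 := D.rule t s'
  set A := bit a a' s
  set A' := bit a a' s'
  set B := bit b b' t
  set B' := bit b b' t'
  set X := bit l m c
  set X' := bit l m c'
  set Y := bit l m (t * s')
  have hX : X ∈ center T := D.ccen c
  have hX' : X' ∈ center T := D.ccen c'
  have hY : Y ∈ center T := D.ccen _
  symm
  calc A * B * X * (A' * B' * X') = A * B * (X * A') * B' * X' := by group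
    _ = A * B * (A' * X) * B' * X' := by rw [cz hX A']
    _ = A * (B * A') * X * B' * X' := by group
    _ = A * (A' * B * Y) * X * B' * X' := by rw [h1]
    _ = A * A' * B * (Y * X) * B' * X' := by group
    _ = A * A' * B * (B' * (Y * X)) * X' := by rw [cz (mul_mem hY hX) B']; group
    _ = A * A' * (B * B') * Y * X * X' := by group
    _ = A * A' * (B * B') * (Y * X) * X' := by group
    _ = A * A' * (B * B') * (X * Y) * X' := by rw [cz hY X]
    _ = A * A' * (B * B') * X * (Y * X') := by group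
    _ = A * A' * (B * B') * X * (X' * Y) := by rw [cz hY X']
    _ = _ := by group

theorem HD.comm_b (D : HD a a' b b' l m) (t : GF4) : b * bit b b' t = bit b b' t * b := by
  have h2 := D.badd 1 t
  have h3 := D.badd t 1
  rw [add_comm] at h3
  rw [bit_one] at h2 h3
  rw [← h2, h3]

theorem HD.comm_a (D : HD a a' b b' l m) (s : GF4) : a * bit a a' s = bit a a' s * a := by
  have h2 := D.aadd 1 s
  have h3 := D.aadd s 1
  rw [add_comm] at h3
  rw [bit_one] at h2 h3
  rw [← h2, h3]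

theorem HD.b_Psi (D : HD a a' b b' l m) (u : GF4 × GF4 × GF4) :
    b * Psi a a' b b' l m u = Psi a a' b b' l m u * b * bit l m u.1 := by
  obtain ⟨s, t, c⟩ := u
  simp only [Psi]
  have h1 := D.rule 1 s
  rw [bit_one, one_mul] at h1
  have hS : bit l m s ∈ center T := D.ccen s
  calc b * (bit a a' s * bit b b' t * bit l m c) = (b * bit a a' s) * bit b b' t * bit l m c := by group
    _ = (bit a a' s * b * bit l m s) * bit b b' t * bit l m c := by rw [h1]
    _ = bit a a' s * b * (bit l m s * bit b b' t) * bit l m c := by group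
    _ = bit a a' s * b * (bit b b' t * bit l m s) * bit l m c := by rw [cz hS]
    _ = bit a a' s * (b * bit b b' t) * (bit l m s * bit l m c) := by group
    _ = bit a a' s * (bit b b' t * b) * (bit l m s * bit l m c) := by rw [D.comm_b]
    _ = bit a a' s * (bit b b' t * b) * (bit l m c * bit l m s) := by rw [cz hS]
    _ = bit a a' s * bit b b' t * (b * bit l m c) * bit l m s := by group
    _ = bit a a' s * bit b b' t * (bit l m c * b) * bit l m s := by rw [cz (D.ccen c) b]
    _ = _ := by group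

theorem HD.a_Psi (D : HD a a' b b' l m) (u : GF4 × GF4 × GF4) :
    a * Psi a a' b b' l m u = Psi a a' b b' l m u * a * bit l m u.2.1 := by
  obtain ⟨s, t, c⟩ := u
  simp only [Psi]
  have h1 := D.rule t 1
  rw [bit_one, mul_one] at h1
  have hS : bit l m t ∈ center T := D.ccen t
  have hSS : bit l m t * bit l m t = 1 := by
    rw [← D.cadd, gf4_two t, bit_zero]
  have h2 : a * bit b b' t = bit b b' t * a * bit l m t := by
    rw [h1, mul_assoc _ _ (bit l m t), hSS, mul_one]
  calc a * (bit a a' s * bit b b' t * bit l m c) = (a * bit a a' s) * bit b b' t * bit l m c := by group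
    _ = (bit a a' s * a) * bit b b' t * bit l m c := by rw [D.comm_a]
    _ = bit a a' s * (a * bit b b' t) * bit l m c := by group
    _ = bit a a' s * (bit b b' t * a * bit l m t) * bit l m c := by rw [h2]
    _ = bit a a' s * bit b b' t * a * (bit l m t * bit l m c) := by group
    _ = bit a a' s * bit b b' t * a * (bit l m c * bit l m t) := by rw [cz hS]
    _ = bit a a' s * bit b b' t * (a * bit l m c) * bit l m t := by group
    _ = bit a a' s * bit b b' t * (bit l m c * a) * bit l m t := by rw [cz (D.ccen c) a]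
    _ = _ := by group

theorem HD.c_inj (D : HD a a' b b' l m) {c c' : GF4} (h : bit l m c = bit l m c') : c = c' := by
  have h1 : bit l m (c + c') = 1 := by
    rw [D.cadd, h, ← D.cadd, gf4_two c', bit_zero]
  have h2 : c + c' = 0 := by
    generalize c + c' = e at h1
    rcases gf4_cases e with rfl | rfl | rfl | rfl
    · rfl
    · rw [bit_one] at h1; exact (D.hl1 h1).elim
    · rw [bit_w] at h1; exact (D.hm1 h1).elim
    · rw [D.cadd, bit_one, bit_w] at h1
      exfalso
      apply D.hlm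
      have : m⁻¹ = m := inv_eq_of_mul_eq_one_left D.hm2
      rw [← this]
      exact eq_inv_of_mul_eq_one_left h1
  exact gf4_eq c c' h2

theorem HD.Psi_inj (D : HD a a' b b' l m) : Function.Injective (Psi a a' b b' l m) := by
  intro u v h
  have h1 : bit l m u.1 = bit l m v.1 := by
    have h2 := D.b_Psi u
    have h3 := D.b_Psi v
    rw [h, h3] at h2
    exact (mul_left_cancel h2).symm
  have h1' : bit l m u.2.1 = bit l m v.2.1 := by
    have h2 := D.a_Psi u
    have h3 := D.a_Psi v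
    rw [h, h3] at h2
    exact (mul_left_cancel h2).symm
  have h4 := D.c_inj h1
  have h5 := D.c_inj h1'
  obtain ⟨s, t, c⟩ := u
  obtain ⟨s', t', c'⟩ := v
  simp only at h4 h5
  subst h4; subst h5
  have h6 : bit l m c = bit l m c' := by
    simp only [Psi] at h
    exact mul_left_cancel h
  rw [D.c_inj h6]

/-- The unitriangular matrices. -/
def Mx (u : GF4 × GF4 × GF4) : S3 :=
  ⟨!![1, u.2.1, u.2.2; 0, 1, u.1; 0, 0, 1], by simp [Matrix.det_fin_three]⟩

theorem Mx_mul (u v : GF4 × GF4 × GF4) : Mx u * Mx v = Mx (hmul u v) := by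
  obtain ⟨s, t, c⟩ := u
  obtain ⟨s', t', c'⟩ := v
  apply Subtype.ext
  show (Mx _).1 * (Mx _).1 = (Mx _).1
  refine Matrix.ext fun i j => ?_
  fin_cases i <;> fin_cases j <;>
    simp [Mx, hmul, Matrix.mul_apply, Fin.sum_univ_three] <;> ring

theorem Mx_center {u : GF4 × GF4 × GF4} (h : Mx u ∈ center S3) : u = (0, 0, 0) := by
  obtain ⟨r, _, hr⟩ := center_scalar h
  have h1 := congrFun (congrFun hr 0) 1
  have h2 := congrFun (congrFun hr 0) 2
  have h3 := congrFun (congrFun hr 1) 2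
  obtain ⟨s, t, c⟩ := u
  simp [Mx, Matrix.scalar_apply] at h1 h2 h3
  simp [h1, h2, h3]

theorem HD.result (D : HD a a' b b' l m) (hT : Nat.card T = 64) :
    ∃ S : Sylow 2 P3, Nonempty (T ≃* ↥(S : Subgroup P3)) := by
  classical
  have hcard : Nat.card (GF4 × GF4 × GF4) = 64 := by
    rw [Nat.card_eq_fintype_card, Fintype.card_prod, Fintype.card_prod, card_GF4]
  have hbij : Function.Bijective (Psi a a' b b' l m) :=
    D.Psi_inj.bijective_of_nat_card_le (by rw [hT, hcard])
  let e := Equiv.ofBijective _ hbij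
  have he : ∀ u, e.symm (Psi a a' b b' l m u) = u := fun u => e.symm_apply_apply u
  have he' : ∀ y, Psi a a' b b' l m (e.symm y) = y := fun y => e.apply_symm_apply y
  let f : T →* P3 := MonoidHom.mk' (fun y => pi (Mx (e.symm y))) (by
    intro y y'
    obtain ⟨u, rfl⟩ := hbij.2 y
    obtain ⟨v, rfl⟩ := hbij.2 y'
    rw [← D.Psi_mul, he, he, he, ← map_mul, Mx_mul])
  have hf : Function.Injective f := by
    rw [injective_iff_map_eq_one]
    intro y hy
    have h1 : Mx (e.symm y) ∈ center S3 := pi_eq_one_iff.mp hy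
    have h2 := Mx_center h1
    rw [← he' y, h2]
    simp [Psi, bit_zero]
  have hfac : (Nat.card P3).factorization 2 = 6 := by
    rw [card_P3]
    have hp : Nat.Prime 2 := Nat.prime_two
    have h1 : 6 ≤ (20160 : ℕ).factorization 2 :=
      (hp.pow_dvd_iff_le_factorization (by norm_num)).mp (by norm_num)
    have h2 : ¬ 7 ≤ (20160 : ℕ).factorization 2 := fun h =>
      absurd ((hp.pow_dvd_iff_le_factorization (by norm_num)).mpr h) (by norm_num)
    omega
  have hcardS : Nat.card f.range = 2 ^ (Nat.card P3).factorization 2 := by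
    rw [Nat.card_congr (MonoidHom.ofInjective hf).symm.toEquiv, hT, hfac]
    norm_num
  exact ⟨Sylow.ofCard f.range hcardS, ⟨MonoidHom.ofInjective hf⟩⟩

end Heis

/-- Let T be a non-abelian group of order 64 admitting automorphisms ρ of order 3 and x of order 2 with x ρ x⁻¹ = ρ⁻¹ (so they generate a symmetric group of degree 3), where ρ fixes only the identity. Then T is isomorphic to a Sylow 2-subgroup of the projective special linear group of dimension 3 over the field with 4 elements, and the subgroup of fixed points of x is dihedral of order 8 or quaternion of order 8. -/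
theorem result {T : Type*} [Group T] [Finite T] (hT : Nat.card T = 64) (hna : ¬ IsMulCommutative T) (ρ x : MulAut T) (hρ : orderOf ρ = 3) (hx : orderOf x = 2)
    (hxr : x * ρ * x⁻¹ = ρ⁻¹) (hfp : ∀ y : T, ρ y = y → y = 1) (C : Subgroup T) (hC : ∀ y : T, y ∈ C ↔ x y = y) :
    (∃ (F : Type) (_ : Field F) (_ : Fintype F), Fintype.card F = 4 ∧
        ∃ S : Sylow 2 (Matrix.ProjectiveSpecialLinearGroup (Fin 3) F), Nonempty (T ≃* ↥(S : Subgroup (Matrix.ProjectiveSpecialLinearGroup (Fin 3) F)))) ∧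
      (Nonempty (↥C ≃* DihedralGroup 4) ∨ Nonempty (↥C ≃* QuaternionGroup 2)) := by
  classical
  have hna' : ¬ ∀ a b : T, a * b = b * a := fun h => hna ⟨⟨h⟩⟩
  have h3 : ρ ^ 3 = 1 := by rw [← hρ]; exact pow_orderOf_eq_one ρ
  have h2 : x ^ 2 = 1 := by rw [← hx]; exact pow_orderOf_eq_one x
  have hρ3 : ∀ y, ρ (ρ (ρ y)) = y := by
    intro y
    have := congrArg (fun f : MulAut T => f y) h3
    simpa [pow_succ, MulAut.mul_apply] using this
  have hx2 : ∀ y, x (x y) = y := by
    intro y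
    have := congrArg (fun f : MulAut T => f y) h2
    simpa [pow_succ, MulAut.mul_apply] using this
  have hrel : ∀ y, x (ρ y) = ρ (ρ (x y)) := by
    intro y
    have h4 : x * ρ = ρ⁻¹ * x := by
      rw [← hxr]; group
    have h5 := congrArg (fun f : MulAut T => f y) h4
    simp only [MulAut.mul_apply] at h5
    rw [h5]
    have h6 : ρ⁻¹ (x y) = ρ (ρ (ρ (ρ⁻¹ (x y)))) := (hρ3 _).symm
    rw [h6]
    simp
  let r : T →* T := ρ.toMonoidHom
  let xx : T →* T := x.toMonoidHom
  have hr : ∀ y, r y = ρ y := fun y => rfl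
  have hxx : ∀ y, xx y = x y := fun y => rfl
  have hcubic : ∀ y, y * ρ y * ρ (ρ y) = 1 := by
    have hinj : Function.Injective (fun y : T => y⁻¹ * ρ y) := by
      intro y w hyw
      simp only at hyw
      have h1 : w * y⁻¹ = ρ (w * y⁻¹) := by
        rw [map_mul, map_inv]
        have h7 : w * (y⁻¹ * ρ y) = w * (w⁻¹ * ρ w) := by rw [hyw]
        calc w * y⁻¹ = w * (y⁻¹ * ρ y) * (ρ y)⁻¹ := by group
          _ = w * (w⁻¹ * ρ w) * (ρ y)⁻¹ := by rw [h7]
          _ = ρ w * (ρ y)⁻¹ := by group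
      have h8 := hfp _ h1.symm
      exact (mul_inv_eq_one.mp h8).symm
    have hsurj := Finite.injective_iff_surjective.mp hinj
    intro y
    obtain ⟨z, rfl⟩ := hsurj y
    simp only [map_mul, map_inv, hρ3]
    group
  have hcub : Cub r := by
    refine ⟨hρ3, hcubic, ?_⟩
    exact IsPGroup.of_card (n := 6) (by rw [hT]; norm_num)
  have hsp : Sp r := Sp.of_cub hcub hT hna'
  have hXD : XD r xx C := ⟨hx2, hrel, hC⟩
  refine ⟨?_, hXD.iso hsp hT hna'⟩
  obtain ⟨a, g, ha, hg⟩ := hXD.exists_inv hsp hT hna'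
  obtain ⟨b, hb, hab⟩ := hsp.exists_pair ha hg
  have hcm := hsp.hc a b
  have hD : HD a (r a) b (r b) ⁅a, b⁆ (r (r ⁅a, b⁆)) := by
    have hrr : r (r ⁅a, b⁆) ∈ center T := hsp.cub.center_inv (hsp.cub.center_inv hcm)
    have h1 : ⁅a, r b⁆ = r (r ⁅a, b⁆) := hsp.F3 a b
    have h1' : ⁅r a, b⁆ = r (r ⁅a, b⁆) := by rw [hsp.F2, h1]
    have h1'' : ⁅r a, r b⁆ = ⁅a, b⁆ * r (r ⁅a, b⁆) := by
      rw [← map_commutatorElement, ← hsp.r_eq hcm]
    have hswap : ∀ u v w : T, ⁅u, v⁆ = w → w ∈ center T → v * u = u * v * w := by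
      intro u v w h0 hw
      have h4 : v * u = ⁅v, u⁆ * u * v := swap_rule v u
      rw [hsp.symm u v, h0] at h4
      rw [h4, cz hw (u * v)]
      group
    refine ⟨ha, by rw [← map_mul, ha, map_one], hb, by rw [← map_mul, hb, map_one], hsp.cub.comm a,
      hsp.cub.comm b, hcm, hrr, hsp.hexp _ hcm, hsp.hexp _ hrr, hab, ?_, ?_, ?_, ?_, ?_, ?_⟩
    · exact hsp.r_ne_one (hsp.r_ne_one hab)
    · exact (hsp.ne_rr hab).symm
    · exact hswap _ _ _ rfl hcm
    · exact hswap _ _ _ h1 hrr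
    · exact hswap _ _ _ h1' hrr
    · exact hswap _ _ _ h1'' (mul_mem hcm hrr)
  obtain ⟨S, hS⟩ := hD.result hT
  exact ⟨Cfsg.Agent.Lib.Compute.GFModel.GF4, inferInstance, inferInstance,
    Cfsg.Agent.Lib.Compute.GFModel.card_GF4, S, hS⟩

end Cfsg.Agent.S3157
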