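import Cfsg.Statements.S2933
import Cfsg.Agent.S3157
import Cfsg.Agent.Lib.Classical.Herm.SzModel

set_option autoImplicit false
open Cfsg

namespace Cfsg.Agent.S2933

open scoped commutatorElement
open Subgroup
open Cfsg.Agent.S3157

section ClassTwo

variable {G : Type*} [Group G]

theorem comm_hom_right {c : G} (hc : ∀ w : G, ⁅c, w⁆ ∈ center G) (w w' : G) :
    ⁅c, w * w'⁆ = ⁅c, w⁆ * ⁅c, w'⁆ := by
  have h1 : ⁅c, w * w'⁆ = ⁅c, w⁆ * (w * ⁅c, w'⁆ * w⁻¹) := by
    simp only [commutatorElement_def]; group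
  rw [h1, mem_center_iff.mp (hc w') w]
  group

theorem comm_hom_left {c c' w : G} (hc : ⁅c, w⁆ ∈ center G) (hc' : ⁅c', w⁆ ∈ center G) :
    ⁅c * c', w⁆ = ⁅c, w⁆ * ⁅c', w⁆ := by
  have h1 : ⁅c * c', w⁆ = c * ⁅c', w⁆ * c⁻¹ * ⁅c, w⁆ := by
    simp only [commutatorElement_def]; group
  rw [h1, mem_center_iff.mp hc' c, mul_inv_cancel_right]
  exact (mem_center_iff.mp hc' _).symm

theorem comm_inv_right_of {c w : G} (hc : ∀ w : G, ⁅c, w⁆ ∈ center G) :
    ⁅c, w⁻¹⁆ = ⁅c, w⁆⁻¹ := by
  have h1 := comm_hom_right hc w w⁻¹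
  rw [mul_inv_cancel, commutatorElement_one_right] at h1
  exact eq_inv_of_mul_eq_one_right h1.symm

theorem hall_witt (x y z : G) :
    ⁅⁅x, y⁆, y * z * y⁻¹⁆ * ⁅⁅y, z⁆, z * x * z⁻¹⁆ * ⁅⁅z, x⁆, x * y * x⁻¹⁆ = 1 := by
  simp only [commutatorElement_def]; group

theorem comm_conj_of {c y z : G} (hc : ∀ w : G, ⁅c, w⁆ ∈ center G) :
    ⁅c, y * z * y⁻¹⁆ = ⁅c, z⁆ := by
  rw [comm_hom_right hc, comm_hom_right hc, comm_inv_right_of hc]
  have := mem_center_iff.mp (hc y) ⁅c, z⁆
  rw [← this]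
  group

variable {r : G →* G}

theorem z2_rule (h : Cub r) (c z : G) (hc : ∀ w : G, ⁅c, w⁆ ∈ center G)
    (hrc : ∀ w : G, ⁅r c, w⁆ ∈ center G) : ⁅c, r z⁆ = ⁅r c, z⁆ := by
  have h1 : ⁅c * z, r (c * z)⁆ = 1 := by
    rw [commutatorElement_eq_one_iff_mul_comm]
    exact h.comm _
  rw [map_mul] at h1
  have h2 : ⁅c * z, r c * r z⁆ = c * ⁅z, r c * r z⁆ * c⁻¹ * ⁅c, r c * r z⁆ := by
    simp only [commutatorElement_def]; group
  have hzz : ⁅z, r z⁆ = 1 := by
    rw [commutatorElement_eq_one_iff_mul_comm]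
    exact h.comm _
  have hcc : ⁅c, r c⁆ = 1 := by
    rw [commutatorElement_eq_one_iff_mul_comm]
    exact h.comm _
  have h3 : ⁅z, r c * r z⁆ = ⁅z, r c⁆ := by
    have h4 : ⁅z, r c * r z⁆ = ⁅z, r c⁆ * (r c * ⁅z, r z⁆ * (r c)⁻¹) := by
      simp only [commutatorElement_def]; group
    rw [h4, hzz]; group
  have h5 : ⁅c, r c * r z⁆ = ⁅c, r z⁆ := by
    rw [comm_hom_right hc, hcc, one_mul]
  rw [h2, h3, h5] at h1
  have hcen : ⁅z, r c⁆ ∈ center G := by
    rw [← commutatorElement_inv]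
    exact inv_mem (hrc z)
  rw [mem_center_iff.mp hcen c, mul_inv_cancel_right] at h1
  have h6 : ⁅c, r z⁆ = ⁅z, r c⁆⁻¹ := eq_inv_of_mul_eq_one_right h1
  rw [h6, commutatorElement_inv]

theorem z2_rule2 (h : Cub r) (c z : G) (hc : ∀ w : G, ⁅c, w⁆ ∈ center G)
    (hrc : ∀ w : G, ⁅r c, w⁆ ∈ center G) (hrrc : ∀ w : G, ⁅r (r c), w⁆ ∈ center G) :
    ⁅r c, z⁆ = r (r ⁅c, z⁆) := by
  have h1 : r ⁅r c, z⁆ = ⁅c, z⁆ := by
    rw [map_commutatorElement, z2_rule h (r (r c)) z hrrc, h.three]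
    rw [h.three]
    exact hc
  rw [← h1, h.three]

end ClassTwo

section ClassTwoMain

universe u

theorem Cub.class_two_aux : ∀ (n : ℕ) (Q : Type u) [Group Q] [Finite Q] (r : Q →* Q), Nat.card Q = n → Cub r →
    ∀ u v : Q, ⁅u, v⁆ ∈ center Q := by
  intro n
  induction n using Nat.strong_induction_on with
  | _ n ih =>
    intro Q _ _ r hn h u v
    by_cases hQ : Nat.card Q = 1
    · have hs : Subsingleton Q := (Nat.card_eq_one_iff_unique.mp hQ).1
      rw [Subsingleton.elim ⁅u, v⁆ 1]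
      exact one_mem _
    have hQnt : Nontrivial Q := by
      rw [← not_subsingleton_iff_nontrivial]
      intro hs
      exact hQ (Nat.card_of_subsingleton (1 : Q))
    have hZ : Nontrivial (center Q) := h.two.center_nontrivial
    have hcZ : 1 < Nat.card (center Q) := Finite.one_lt_card
    let Z : Subgroup Q := center Q
    have hZr : Z ≤ Z.comap r := fun z hz => h.center_inv hz
    let r' : Q ⧸ Z →* Q ⧸ Z := QuotientGroup.map Z Z r hZr
    have hr' : ∀ y : Q, r' (y : Q ⧸ Z) = ((r y : Q) : Q ⧸ Z) := fun y => rfl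
    have hcub : Cub r' := by
      refine ⟨?_, ?_, h.two.to_quotient Z⟩
      · intro y
        obtain ⟨y, rfl⟩ := QuotientGroup.mk_surjective y
        simp only [hr', h.three]
      · intro y
        obtain ⟨y, rfl⟩ := QuotientGroup.mk_surjective y
        simp only [hr']
        rw [← QuotientGroup.mk_mul, ← QuotientGroup.mk_mul, h.cubic]
        rfl
    have hcard : Nat.card (Q ⧸ Z) < n := by
      have h1 := card_eq_card_quotient_mul_card_subgroup Z
      rw [hn] at h1
      rw [h1]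
      have hpos : 0 < Nat.card (Q ⧸ Z) := Nat.card_pos
      exact lt_mul_of_one_lt_right hpos hcZ
    have hbar : ∀ x y : Q ⧸ Z, ⁅x, y⁆ ∈ center (Q ⧸ Z) :=
      ih _ hcard (Q ⧸ Z) r' rfl hcub
    have mkz : ∀ {a b : Q}, ((a : Q ⧸ Z) = (b : Q ⧸ Z)) → ∃ z ∈ Z, a = b * z := by
      intro a b hab
      have h1 := QuotientGroup.eq.mp hab.symm
      exact ⟨b⁻¹ * a, h1, by group⟩
    -- three-fold commutators are central
    have hd : ∀ c x y : Q, ⁅⁅x, y⁆, c⁆ ∈ Z := by
      intro c x y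
      have h1 := mem_center_iff.mp (hbar (x : Q ⧸ Z) (y : Q ⧸ Z)) (c : Q ⧸ Z)
      have h2 : ((⁅⁅x, y⁆, c⁆ : Q) : Q ⧸ Z) = 1 := by
        show (QuotientGroup.mk' Z) ⁅⁅x, y⁆, c⁆ = 1
        rw [map_commutatorElement, map_commutatorElement]
        show ⁅⁅(x : Q ⧸ Z), (y : Q ⧸ Z)⁆, (c : Q ⧸ Z)⁆ = 1
        rw [commutatorElement_eq_one_iff_mul_comm]
        exact h1.symm
      exact (QuotientGroup.eq_one_iff _).mp h2
    have hc0 : ∀ x y w : Q, ⁅⁅x, y⁆, w⁆ ∈ center Q := fun x y w => hd w x y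
    have hc1 : ∀ x y w : Q, ⁅r ⁅x, y⁆, w⁆ ∈ center Q := by
      intro x y w
      rw [map_commutatorElement]; exact hc0 _ _ _
    have hc2 : ∀ x y w : Q, ⁅r (r ⁅x, y⁆), w⁆ ∈ center Q := by
      intro x y w
      rw [map_commutatorElement, map_commutatorElement]; exact hc0 _ _ _
    -- the rules modulo the centre
    have hbar1 : ∀ y z : Q, ∃ ζ ∈ Z, ⁅y, r z⁆ = r (r ⁅y, z⁆) * ζ := by
      intro y z
      apply mkz
      show (QuotientGroup.mk' Z) ⁅y, r z⁆ = (QuotientGroup.mk' Z) (r (r ⁅y, z⁆))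
      rw [map_commutatorElement]
      show ⁅(y : Q ⧸ Z), r' (z : Q ⧸ Z)⁆ = r' (r' ((QuotientGroup.mk' Z) ⁅y, z⁆))
      rw [map_commutatorElement]
      show ⁅(y : Q ⧸ Z), r' (z : Q ⧸ Z)⁆ = r' (r' ⁅(y : Q ⧸ Z), (z : Q ⧸ Z)⁆)
      rw [z2_rule hcub _ _ (hbar _) (hbar _)]
      exact z2_rule2 hcub _ _ (hbar _) (hbar _) (hbar _)
    have hbar2 : ∀ y z : Q, ∃ ζ ∈ Z, ⁅r y, z⁆ = r (r ⁅y, z⁆) * ζ := by
      intro y z
      apply mkz
      show (QuotientGroup.mk' Z) ⁅r y, z⁆ = (QuotientGroup.mk' Z) (r (r ⁅y, z⁆))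
      rw [map_commutatorElement]
      show ⁅r' (y : Q ⧸ Z), (z : Q ⧸ Z)⁆ = r' (r' ((QuotientGroup.mk' Z) ⁅y, z⁆))
      rw [map_commutatorElement]
      show ⁅r' (y : Q ⧸ Z), (z : Q ⧸ Z)⁆ = r' (r' ⁅(y : Q ⧸ Z), (z : Q ⧸ Z)⁆)
      exact z2_rule2 hcub _ _ (hbar _) (hbar _) (hbar _)
    -- elements of the centre do not contribute
    have hkill : ∀ (c ζ w : Q), ζ ∈ Z → ⁅c * ζ, w⁆ = ⁅c, w⁆ := by
      intro c ζ w hζ
      have h1 := mem_center_iff.mp hζ
      simp only [commutatorElement_def]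
      rw [mul_inv_rev]
      calc c * ζ * w * (ζ⁻¹ * c⁻¹) * w⁻¹ = c * (ζ * w * ζ⁻¹) * c⁻¹ * w⁻¹ := by group
        _ = c * w * c⁻¹ * w⁻¹ := by rw [← h1 w]; group
    -- key formula
    have hrr : ∀ c w : Q, (∀ w, ⁅c, w⁆ ∈ center Q) → (∀ w, ⁅r c, w⁆ ∈ center Q) →
        (∀ w, ⁅r (r c), w⁆ ∈ center Q) → ⁅r (r c), w⁆ = r ⁅c, w⁆ := by
      intro c w h0 h1 h2
      have h3 := z2_rule2 h (r c) w h1 h2 (by rw [h.three]; exact h0)
      rw [h3, z2_rule2 h c w h0 h1 h2, h.three]
    have hJ : ∀ x y z : Q, ⁅⁅x, y⁆, z⁆ * ⁅⁅y, z⁆, x⁆ * ⁅⁅z, x⁆, y⁆ = 1 := by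
      intro x y z
      have := hall_witt x y z
      rwa [comm_conj_of (hc0 _ _), comm_conj_of (hc0 _ _), comm_conj_of (hc0 _ _)] at this
    have hA : ∀ x y z : Q, ⁅⁅x, y⁆, z⁆ = 1 := by
      intro x y z
      have h1 := hJ x y (r z)
      have h2 := hJ x y z
      have h3 : ⁅⁅x, y⁆, r z⁆ = r (r ⁅⁅x, y⁆, z⁆) := by
        rw [z2_rule h _ _ (hc0 _ _) (hc1 _ _)]
        exact z2_rule2 h _ _ (hc0 _ _) (hc1 _ _) (hc2 _ _)
      have h4 : ⁅⁅y, r z⁆, x⁆ = r ⁅⁅y, z⁆, x⁆ := by
        obtain ⟨ζ, hζ, he⟩ := hbar1 y z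
        rw [he, hkill _ _ _ hζ]
        exact hrr _ _ (hc0 _ _) (hc1 _ _) (hc2 _ _)
      have h5 : ⁅⁅r z, x⁆, y⁆ = r ⁅⁅z, x⁆, y⁆ := by
        obtain ⟨ζ, hζ, he⟩ := hbar2 z x
        rw [he, hkill _ _ _ hζ]
        exact hrr _ _ (hc0 _ _) (hc1 _ _) (hc2 _ _)
      rw [h3, h4, h5] at h1
      have h6 := congrArg r h2
      rw [map_mul, map_mul, map_one] at h6
      have h7 : r (r ⁅⁅x, y⁆, z⁆) = r ⁅⁅x, y⁆, z⁆ := by
        have h8 : r (r ⁅⁅x, y⁆, z⁆) * (r ⁅⁅y, z⁆, x⁆ * r ⁅⁅z, x⁆, y⁆) = r ⁅⁅x, y⁆, z⁆ * (r ⁅⁅y, z⁆, x⁆ * r ⁅⁅z, x⁆, y⁆) := by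
          rw [← mul_assoc, ← mul_assoc, h1, h6]
        exact mul_right_cancel h8
      have h9 := h.fix h7
      have h10 : ⁅⁅x, y⁆, z⁆ = r (r (r ⁅⁅x, y⁆, z⁆)) := (h.three _).symm
      rw [h10, h9, map_one, map_one]
    rw [mem_center_iff]
    intro w
    have := hA u v w
    rw [commutatorElement_eq_one_iff_mul_comm] at this
    exact this.symm

theorem Cub.class_two {Q : Type u} [Group Q] [Finite Q] {r : Q →* Q} (h : Cub r) (u v : Q) :
    ⁅u, v⁆ ∈ center Q := Cub.class_two_aux _ Q r rfl h u v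

end ClassTwoMain

section Act

variable {N : Type*} [Group N]

theorem Cub.quot {Q : Type*} [Group Q] {r : Q →* Q} (h : Cub r) (Z : Subgroup Q) [Z.Normal]
    (hZ : Z ≤ Z.comap r) : Cub (QuotientGroup.map Z Z r hZ) := by
  have hr' : ∀ y : Q, (QuotientGroup.map Z Z r hZ) (y : Q ⧸ Z) = ((r y : Q) : Q ⧸ Z) := fun y => rfl
  refine ⟨?_, ?_, h.two.to_quotient Z⟩
  · intro y
    obtain ⟨y, rfl⟩ := QuotientGroup.mk_surjective y
    simp only [hr', h.three]
  · intro y
    obtain ⟨y, rfl⟩ := QuotientGroup.mk_surjective y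
    simp only [hr']
    rw [← QuotientGroup.mk_mul, ← QuotientGroup.mk_mul, h.cubic]
    rfl

/-- Fixed points of an endomorphism. -/
def fixSub (σ : N →* N) : Subgroup N where
  carrier := {x | σ x = x}
  one_mem' := map_one σ
  mul_mem' := fun {a b} ha hb => by
    show σ (a * b) = a * b
    rw [map_mul, ha, hb]
  inv_mem' := fun {a} ha => by
    show σ a⁻¹ = a⁻¹
    rw [map_inv, ha]

theorem mem_fixSub {σ : N →* N} {x : N} : x ∈ fixSub σ ↔ σ x = x := Iff.rfl

/-- The action data. -/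
structure Act (r τ : N →* N) (F : Subgroup N) : Prop where
  cub : Cub r
  inv : ∀ x, τ (τ x) = x
  rt : ∀ x, r (τ x) = τ (r x)
  fix : ∀ x, x ∈ F ↔ τ x = x
  four : Nat.card F = 4

theorem exists_fix {Q : Type*} [Group Q] [Finite Q] (two : IsPGroup 2 Q) (S : Subgroup Q) (σ : Q →* Q)
    (hσ : ∀ x, σ (σ x) = x) (hS : ∀ x ∈ S, σ x ∈ S) (hne : ∃ x ∈ S, x ≠ 1) :
    ∃ x ∈ S, x ≠ 1 ∧ σ x = x := by
  classical
  haveI : Fintype S := Fintype.ofFinite _
  by_contra hno
  push Not at hno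
  let f : Function.End S := fun y => ⟨σ y, hS y y.2⟩
  have hf : f ^ 2 ^ 1 = 1 := by
    funext y
    apply Subtype.ext
    show ((f ^ 2 ^ 1) y : Q) = y
    have : (f ^ 2 ^ 1) y = f (f y) := rfl
    rw [this]
    exact hσ y
  haveI : Fact (Nat.Prime 2) := ⟨Nat.prime_two⟩
  have h1 := Equiv.Perm.card_fixedPoints_modEq (f := f) (p := 2) (n := 1) hf
  have hfix : Fintype.card f.fixedPoints = 1 := by
    rw [Fintype.card_eq_one_iff]
    refine ⟨⟨1, ?_⟩, ?_⟩
    · show f 1 = 1
      apply Subtype.ext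
      show σ 1 = 1
      exact map_one σ
    · rintro ⟨y, hy⟩
      apply Subtype.ext
      apply Subtype.ext
      have hy' : σ (y : Q) = y := congrArg Subtype.val hy
      by_contra hy1
      exact hno y y.2 hy1 hy'
  rw [hfix] at h1
  have h2 : IsPGroup 2 S := two.to_subgroup S
  obtain ⟨x, hxS, hx1⟩ := hne
  obtain ⟨k, hk⟩ := IsPGroup.iff_card.mp h2
  rw [Nat.card_eq_fintype_card] at hk
  rw [hk] at h1
  rcases k with _ | k
  · have : Nat.card S = 1 := by rw [Nat.card_eq_fintype_card, hk, pow_zero]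
    have hs : Subsingleton S := (Nat.card_eq_one_iff_unique.mp this).1
    have : (⟨x, hxS⟩ : S) = 1 := Subsingleton.elim _ _
    exact hx1 (congrArg Subtype.val this)
  · have h3 : (2 ^ (k + 1)) % 2 = 1 % 2 := h1
    rw [pow_succ] at h3
    omega

theorem four_elems {Q : Type*} [Group Q] [Finite Q] {r : Q →* Q} (h : Cub r) (F : Subgroup Q)
    (hF : ∀ x ∈ F, r x ∈ F) (h4 : Nat.card F = 4) {μ : Q} (hμ : μ ∈ F) (h1 : μ ≠ 1) {w : Q} (hw : w ∈ F) :
    w = 1 ∨ w = μ ∨ w = r μ ∨ w = r (r μ) := by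
  classical
  by_contra hne
  push Not at hne
  obtain ⟨h01, h02, h03, h04⟩ := hne
  have hinj : Function.Injective r := fun a b hab => by
    have := congrArg (fun x => r (r x)) hab
    simpa only [h.three] using this
  have hr1 : r μ ≠ 1 := fun h0 => h1 (hinj (by rw [h0, map_one]))
  have hrr1 : r (r μ) ≠ 1 := fun h0 => hr1 (hinj (by rw [h0, map_one]))
  have hmr : μ ≠ r μ := fun h0 => h1 (h.fix h0.symm)
  have hrr : r μ ≠ r (r μ) := fun h0 => hmr (hinj h0)
  have hmrr : μ ≠ r (r μ) := by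
    intro h0
    have h5 : r μ = μ := by
      have h6 := congrArg r h0
      rw [h.three] at h6
      exact h6
    exact hmr h5.symm
  let s : Finset Q := {1, μ, r μ, r (r μ), w}
  have hcard : s.card = 5 := by
    have e1 : (1 : Q) ∉ ({μ, r μ, r (r μ), w} : Finset Q) := by
      simp only [Finset.mem_insert, Finset.mem_singleton, not_or]
      exact ⟨h1.symm, hr1.symm, hrr1.symm, h01.symm⟩
    have e2 : μ ∉ ({r μ, r (r μ), w} : Finset Q) := by
      simp only [Finset.mem_insert, Finset.mem_singleton, not_or]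
      exact ⟨hmr, hmrr, h02.symm⟩
    have e3 : r μ ∉ ({r (r μ), w} : Finset Q) := by
      simp only [Finset.mem_insert, Finset.mem_singleton, not_or]
      exact ⟨hrr, h03.symm⟩
    have e4 : r (r μ) ∉ ({w} : Finset Q) := by
      simp only [Finset.mem_singleton]
      exact h04.symm
    simp only [s]
    rw [Finset.card_insert_of_notMem e1, Finset.card_insert_of_notMem e2, Finset.card_insert_of_notMem e3,
      Finset.card_insert_of_notMem e4, Finset.card_singleton]
  have hsub : (s : Set Q) ⊆ (F : Set Q) := by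
    intro x hx
    simp only [s, Finset.coe_insert, Finset.coe_singleton, Set.mem_insert_iff, Set.mem_singleton_iff] at hx
    rcases hx with rfl | rfl | rfl | rfl | rfl
    · exact one_mem F
    · exact hμ
    · exact hF _ hμ
    · exact hF _ (hF _ hμ)
    · exact hw
  have h5 := Set.ncard_le_ncard hsub (Set.toFinite _)
  rw [Set.ncard_coe_finset, hcard] at h5
  have h6 : (F : Set Q).ncard = 4 := by
    rw [← Nat.card_coe_set_eq]
    exact h4
  omega

variable {r τ : N →* N} {F : Subgroup N}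

theorem Act.r_inj (h : Act r τ F) : Function.Injective r := fun a b hab => by
  have := congrArg (fun x => r (r x)) hab
  simpa only [h.cub.three] using this

theorem Act.F_r (h : Act r τ F) {x : N} (hx : x ∈ F) : r x ∈ F := by
  rw [h.fix] at hx ⊢
  rw [← h.rt, hx]

theorem Act.F_sq [Finite N] (h : Act r τ F) (hab : ∀ x y : N, x * y = y * x) {x : N} (hx : x ∈ F) :
    x * x = 1 := by
  let S : Subgroup N :=
    { carrier := {z | z ∈ F ∧ z * z = 1}
      one_mem' := ⟨one_mem _, by simp⟩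
      mul_mem' := by
        rintro a b ⟨ha, ha2⟩ ⟨hb, hb2⟩
        refine ⟨mul_mem ha hb, ?_⟩
        calc a * b * (a * b) = a * (b * a) * b := by group
          _ = a * (a * b) * b := by rw [hab b a]
          _ = (a * a) * (b * b) := by group
          _ = 1 := by rw [ha2, hb2, one_mul]
      inv_mem' := by
        rintro a ⟨ha, ha2⟩
        refine ⟨inv_mem ha, ?_⟩
        rw [← mul_inv_rev, ha2, inv_one] }
  have hmem : ∀ z, z ∈ S ↔ (z ∈ F ∧ z * z = 1) := fun z => Iff.rfl
  have h3 := h.cub.card_mod S (by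
    intro y hy
    obtain ⟨h1, h2⟩ := (hmem y).mp hy
    exact (hmem _).mpr ⟨h.F_r h1, by rw [← map_mul, h2, map_one]⟩)
  have hSF : S ≤ F := fun z hz => ((hmem z).mp hz).1
  have hd : Nat.card S ∣ 4 := by
    rw [← h.four]
    exact Subgroup.card_dvd_of_le hSF
  have hx4 : x ^ 4 = 1 := by
    have := pow_card_eq_one' (x := (⟨x, hx⟩ : F))
    rw [h.four] at this
    have h5 := congrArg Subtype.val this
    simpa using h5
  by_contra hne
  have hxS : x * x ∈ S := by
    refine (hmem _).mpr ⟨mul_mem hx hx, ?_⟩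
    have : x * x * (x * x) = x ^ 4 := by simp only [pow_succ, pow_zero, one_mul, mul_assoc]
    rw [this, hx4]
  have h1 : Nat.card S ≠ 1 := by
    intro h0
    have hs : Subsingleton S := (Nat.card_eq_one_iff_unique.mp h0).1
    have : (⟨x * x, hxS⟩ : S) = 1 := Subsingleton.elim _ _
    exact hne (congrArg Subtype.val this)
  have h4 : Nat.card S = 4 := by
    have hle := Nat.le_of_dvd (by norm_num) hd
    interval_cases hc : Nat.card S <;> first | rfl | omega
  have hEq : S = F := Subgroup.eq_of_le_of_card_ge hSF (by rw [h.four, h4])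
  have : x ∈ S := hEq ▸ hx
  exact hne ((hmem x).mp this).2

theorem exists_order_four {Q : Type*} [Group Q] (two : IsPGroup 2 Q) {x : Q} (hx : x * x ≠ 1) :
    ∃ y : Q, y * y ≠ 1 ∧ (y * y) * (y * y) = 1 := by
  obtain ⟨k, hk⟩ := IsPGroup.iff_orderOf.mp two x
  rcases k with _ | _ | j
  · rw [pow_zero, orderOf_eq_one_iff] at hk
    rw [hk, mul_one] at hx
    exact (hx rfl).elim
  · exfalso
    apply hx
    have h1 := pow_orderOf_eq_one x
    rw [hk] at h1
    rw [← pow_two]
    simpa using h1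
  · refine ⟨x ^ (2 ^ j), ?_, ?_⟩
    · intro h0
      have h1 : x ^ (2 ^ (j + 1)) = 1 := by
        rw [pow_succ, pow_mul, pow_two]
        exact h0
      have h2 := orderOf_dvd_of_pow_eq_one h1
      rw [hk] at h2
      have h3 := (Nat.pow_dvd_pow_iff_le_right (by norm_num : 1 < 2)).mp h2
      omega
    · have h1 := pow_orderOf_eq_one x
      rw [hk] at h1
      rw [← h1]
      simp only [← pow_add]
      congr 1
      ring

theorem abel_big [Finite N] (h : Act r τ F) (hab : ∀ x y : N, x * y = y * x) {w₀ : N} (h1 : w₀ * w₀ = 1)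
    (h2 : w₀ ∉ F) :
    Nat.card N = 16 ∧ (∀ x : N, x * x = 1) ∧ ∀ v ∈ F, ∃ w : N, w⁻¹ * τ w = v := by
  have hsq : ∀ a b : N, (a * b) * (a * b) = (a * a) * (b * b) := by
    intro a b
    calc a * b * (a * b) = a * (b * a) * b := by group
      _ = a * (a * b) * b := by rw [hab b a]
      _ = (a * a) * (b * b) := by group
  let Ω : Subgroup N :=
    { carrier := {z | z * z = 1}
      one_mem' := by simp
      mul_mem' := by
        rintro a b ha hb
        show (a * b) * (a * b) = 1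
        rw [hsq, show a * a = 1 from ha, show b * b = 1 from hb, one_mul]
      inv_mem' := by
        rintro a ha
        show a⁻¹ * a⁻¹ = 1
        rw [← mul_inv_rev, show a * a = 1 from ha, inv_one] }
  have hΩ : ∀ z, z ∈ Ω ↔ z * z = 1 := fun z => Iff.rfl
  have hτsq : ∀ x : N, x * x = 1 → τ x * τ x = 1 := by
    intro x hx
    rw [← map_mul, hx, map_one]
  have hinv : ∀ x : N, x * x = 1 → x⁻¹ = x := fun x hx => inv_eq_of_mul_eq_one_left hx
  let δ : Ω →* N := MonoidHom.mk' (fun x => (x : N)⁻¹ * τ x) (by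
    intro a b
    show ((a : N) * b)⁻¹ * τ ((a : N) * b) = (a : N)⁻¹ * τ a * ((b : N)⁻¹ * τ b)
    rw [map_mul, mul_inv_rev]
    have e1 := hab (τ (a : N)) (b : N)⁻¹
    calc (b : N)⁻¹ * (a : N)⁻¹ * (τ a * τ b) = (a : N)⁻¹ * (b : N)⁻¹ * (τ a * τ b) := by
          rw [hab (b : N)⁻¹ (a : N)⁻¹]
      _ = (a : N)⁻¹ * ((b : N)⁻¹ * τ a) * τ b := by group
      _ = (a : N)⁻¹ * (τ a * (b : N)⁻¹) * τ b := by rw [e1]
      _ = _ := by group)
  have hδ : ∀ x : Ω, δ x = (x : N)⁻¹ * τ x := fun x => rfl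
  have hrange : δ.range ≤ F := by
    rintro _ ⟨x, rfl⟩
    rw [h.fix, hδ, map_mul, map_inv, h.inv]
    have hx : (x : N) * x = 1 := x.2
    rw [hinv _ (hτsq _ hx), hinv _ hx, hab]
  have hker : Nat.card δ.ker = 4 := by
    have hFΩ : F ≤ Ω := fun z hz => h.F_sq hab hz
    have : δ.ker = F.subgroupOf Ω := by
      ext x
      rw [MonoidHom.mem_ker, hδ, Subgroup.mem_subgroupOf, h.fix, inv_mul_eq_one, eq_comm]
    rw [this, Nat.card_congr (Subgroup.subgroupOfEquivOfLe hFΩ).toEquiv, h.four]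
  have hcardΩ : Nat.card Ω = 4 * Nat.card δ.range := by
    have h3 := Subgroup.card_mul_index δ.ker
    rw [Subgroup.index_ker, hker] at h3
    exact h3.symm
  have hd : Nat.card δ.range ∣ 4 := by
    rw [← h.four]
    exact Subgroup.card_dvd_of_le hrange
  have hmod := h.cub.card_mod Ω (by
    intro y hy
    show r y * r y = 1
    rw [← map_mul, show y * y = 1 from hy, map_one])
  have hne : Nat.card δ.range ≠ 1 := by
    intro h0
    have hs : Subsingleton δ.range := (Nat.card_eq_one_iff_unique.mp h0).1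
    have h3 : (⟨δ ⟨w₀, h1⟩, ⟨_, rfl⟩⟩ : δ.range) = 1 := Subsingleton.elim _ _
    have h4 := congrArg Subtype.val h3
    have h5 : δ ⟨w₀, h1⟩ = 1 := h4
    rw [hδ] at h5
    apply h2
    rw [h.fix]
    exact (inv_mul_eq_one.mp h5).symm
  have h4 : Nat.card δ.range = 4 := by
    rw [hcardΩ] at hmod
    have hle := Nat.le_of_dvd (by norm_num) hd
    interval_cases hc : Nat.card δ.range <;> first | rfl | omega
  have hEq : δ.range = F := Subgroup.eq_of_le_of_card_ge hrange (by rw [h.four, h4])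
  have honto : ∀ v ∈ F, ∃ w : N, w * w = 1 ∧ w⁻¹ * τ w = v := by
    intro v hv
    rw [← hEq] at hv
    obtain ⟨w, hw⟩ := hv
    exact ⟨w, w.2, hw⟩
  have hall : ∀ x : N, x * x = 1 := by
    intro x
    by_contra hx
    obtain ⟨y, hy1, hy2⟩ := exists_order_four h.cub.two hx
    -- an element whose square is a nontrivial element of `F`
    have hy₁ : ∃ y₁ : N, y₁ * y₁ ∈ F ∧ y₁ * y₁ ≠ 1 := by
      by_cases hv : y * y ∈ F
      · exact ⟨y, hv, hy1⟩
      · refine ⟨y * τ y, ?_, ?_⟩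
        · rw [hsq, h.fix, map_mul, ← map_mul τ y y, h.inv, hab]
        · rw [hsq, ← map_mul]
          intro h0
          apply hv
          rw [h.fix]
          have h5 : τ (y * y) = (y * y)⁻¹ := eq_inv_of_mul_eq_one_right h0
          rw [h5, hinv _ hy2]
    obtain ⟨y₁, hF₁, hne₁⟩ := hy₁
    have hfix₁ : τ (y₁ * y₁) = y₁ * y₁ := (h.fix _).mp hF₁
    let a : N := y₁⁻¹ * τ y₁
    have ha2 : a * a = 1 := by
      show (y₁⁻¹ * τ y₁) * (y₁⁻¹ * τ y₁) = 1
      rw [hsq, ← map_mul, hfix₁, ← mul_inv_rev, ]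
      group
    have haF : a ∈ F := by
      rw [h.fix]
      show τ (y₁⁻¹ * τ y₁) = y₁⁻¹ * τ y₁
      rw [map_mul, map_inv, h.inv]
      have h5 : (τ y₁)⁻¹ * y₁ = (y₁⁻¹ * τ y₁)⁻¹ := by group
      rw [h5]
      exact hinv _ ha2
    obtain ⟨w, hw2, hwa⟩ := honto a haF
    have hτw : τ w = w * a := by
      rw [← hwa]; group
    have hτy : τ y₁ = y₁ * a := by
      show τ y₁ = y₁ * (y₁⁻¹ * τ y₁)
      group
    have hmem : y₁ * w⁻¹ ∈ F := by
      rw [h.fix, map_mul, map_inv, hτw, hτy, mul_inv_rev]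
      rw [hinv _ ha2]
      calc y₁ * a * (a * w⁻¹) = y₁ * (a * a) * w⁻¹ := by group
        _ = y₁ * w⁻¹ := by rw [ha2, mul_one]
    have h6 := h.F_sq hab hmem
    rw [hsq, hinv _ hw2, hw2, mul_one] at h6
    exact hne₁ h6
  have hΩtop : Ω = ⊤ := by
    rw [eq_top_iff]
    intro x _
    exact hall x
  refine ⟨?_, hall, fun v hv => ?_⟩
  · have h7 : Nat.card Ω = Nat.card N := by
      rw [hΩtop]
      exact Subgroup.card_top
    rw [← h7, hcardΩ, h4]
  · obtain ⟨w, _, hw⟩ := honto v hv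
    exact ⟨w, hw⟩

theorem inv_unique {g x : N} {n : ℕ} (hn : 1 ≤ n) (hg : orderOf g = 2 ^ n) {a : ℤ} (hxa : x = g ^ a)
    (hx : x * x = 1) (hx1 : x ≠ 1) : x = g ^ (2 ^ (n - 1) : ℕ) := by
  obtain ⟨m, rfl⟩ : ∃ m, n = m + 1 := ⟨n - 1, by omega⟩
  simp only [Nat.add_sub_cancel]
  have h1 : g ^ (2 * a) = 1 := by
    rw [two_mul, zpow_add, ← hxa, hx]
  have h2 := orderOf_dvd_iff_zpow_eq_one.mpr h1
  rw [hg] at h2
  have h3 : ((2 ^ m : ℕ) : ℤ) ∣ a := by
    have h4 : ((2 ^ (m + 1) : ℕ) : ℤ) = 2 * ((2 ^ m : ℕ) : ℤ) := by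
      push_cast; ring
    rw [h4] at h2
    exact Int.dvd_of_mul_dvd_mul_left (by norm_num) h2
  obtain ⟨c, hc⟩ := h3
  have hv : (g ^ (2 ^ m : ℕ)) * (g ^ (2 ^ m : ℕ)) = 1 := by
    rw [← pow_add, ← two_mul, ← pow_succ', ← hg, pow_orderOf_eq_one]
  have hxc : x = (g ^ (2 ^ m : ℕ)) ^ c := by
    rw [hxa, hc, zpow_mul, zpow_natCast]
  rcases Int.even_or_odd c with ⟨e, he⟩ | ⟨e, he⟩
  · exfalso
    apply hx1
    rw [hxc, he, ← two_mul, zpow_mul, zpow_two, hv, one_zpow]
  · rw [hxc, he, zpow_add, zpow_mul, zpow_two, hv, one_zpow, one_mul, zpow_one]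

theorem abel_small [Finite N] (h : Act r τ F) (hab : ∀ x y : N, x * y = y * x)
    (hinvo : ∀ x : N, x * x = 1 → x ∈ F) :
    ∃ (g : N) (n : ℕ), 1 ≤ n ∧ orderOf g = 2 ^ n ∧ orderOf (r g) = 2 ^ n ∧
      (∀ x : N, ∃ i j : ℤ, x = g ^ i * (r g) ^ j) ∧ (∀ i j : ℤ, g ^ i = (r g) ^ j → g ^ i = 1) := by
  have two := h.cub.two
  obtain ⟨g, hg⟩ := Finite.exists_max (fun x : N => orderOf x)
  obtain ⟨n, hn⟩ := IsPGroup.iff_orderOf.mp two g
  have hexp : ∀ y : N, y ^ (2 ^ n) = 1 := by
    intro y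
    obtain ⟨k, hk⟩ := IsPGroup.iff_orderOf.mp two y
    have h1 : 2 ^ k ≤ 2 ^ n := by rw [← hk, ← hn]; exact hg y
    have h2 : k ≤ n := (Nat.pow_le_pow_iff_right (by norm_num)).mp h1
    have h3 : orderOf y ∣ 2 ^ n := by rw [hk]; exact pow_dvd_pow 2 h2
    exact orderOf_dvd_iff_pow_eq_one.mp h3
  have hn1 : 1 ≤ n := by
    by_contra hn0
    have hn0' : n = 0 := by omega
    have h1 : ∀ y : N, y = 1 := by
      intro y
      have := hexp y
      rwa [hn0', pow_zero, pow_one] at this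
    have h2 : Nat.card F = 1 := by
      have hs : Subsingleton F := ⟨fun a b => Subtype.ext (by rw [h1 a.1, h1 b.1])⟩
      exact Nat.card_of_subsingleton (1 : F)
    rw [h.four] at h2
    omega
  have hrn : orderOf (r g) = 2 ^ n := by
    rw [orderOf_injective r h.r_inj, hn]
  refine ⟨g, n, hn1, hn, hrn, ?_, ?_⟩
  · -- generation
    have hsq : ∀ a b : N, (a * b) * (a * b) = (a * a) * (b * b) := by
      intro a b
      calc a * b * (a * b) = a * (b * a) * b := by group
        _ = a * (a * b) * b := by rw [hab b a]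
        _ = (a * a) * (b * b) := by group
    let sq : N →* N := MonoidHom.mk' (fun x => x * x) hsq
    let P : Subgroup N := sq.range
    have hP : ∀ x, x ∈ P ↔ ∃ z, z * z = x := by
      intro x
      exact Iff.rfl
    haveI hPn : P.Normal := by
      constructor
      intro n hn' g'
      rw [hab g' n, mul_assoc, mul_inv_cancel, mul_one]
      exact hn'
    have hkerF : sq.ker = F := by
      ext x
      rw [MonoidHom.mem_ker]
      constructor
      · intro hx; exact hinvo x hx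
      · intro hx; exact h.F_sq hab hx
    have hindex : P.index = 4 := by
      have h3 := Subgroup.card_mul_index sq.ker
      rw [Subgroup.index_ker, hkerF, h.four] at h3
      have h4 := Subgroup.card_mul_index P
      have h5 : 0 < Nat.card P := Nat.card_pos
      have h6 : Nat.card P * P.index = Nat.card P * 4 := by
        rw [h4, ← h3, mul_comm]
      exact Nat.eq_of_mul_eq_mul_left h5 h6
    have hPr : P ≤ P.comap r := by
      intro x hx
      obtain ⟨z, rfl⟩ := (hP x).mp hx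
      exact (hP _).mpr ⟨r z, by rw [map_mul]⟩
    have hcub := Cub.quot h.cub P hPr
    let r' := QuotientGroup.map P P r hPr
    have hr' : ∀ y : N, r' (y : N ⧸ P) = ((r y : N) : N ⧸ P) := fun y => rfl
    have hgP : g ∉ P := by
      intro hgP
      obtain ⟨z, hz⟩ := (hP _).mp hgP
      obtain ⟨m, rfl⟩ : ∃ m, n = m + 1 := ⟨n - 1, by omega⟩
      have h1 : g ^ (2 ^ m) = 1 := by
        have h2 := hexp z
        rw [pow_succ', pow_mul] at h2
        rw [← hz, ← pow_two]
        exact h2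
      have h2 := orderOf_dvd_of_pow_eq_one h1
      rw [hn] at h2
      have h3 := (Nat.pow_dvd_pow_iff_le_right (by norm_num : 1 < 2)).mp h2
      omega
    have hcardQ : Nat.card (⊤ : Subgroup (N ⧸ P)) = 4 := by
      rw [Subgroup.card_top]
      exact hindex
    have hg1 : ((g : N) : N ⧸ P) ≠ 1 := by
      intro h0
      exact hgP ((QuotientGroup.eq_one_iff _).mp h0)
    have hInH : ∀ y : N, (∃ i j : ℤ, y = g ^ i * (r g) ^ j) → ∀ y' : N, (∃ i j : ℤ, y' = g ^ i * (r g) ^ j) →
        ∃ i j : ℤ, y * y' = g ^ i * (r g) ^ j := by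
      rintro _ ⟨i, j, rfl⟩ _ ⟨i', j', rfl⟩
      refine ⟨i + i', j + j', ?_⟩
      rw [zpow_add, zpow_add]
      calc g ^ i * r g ^ j * (g ^ i' * r g ^ j') = g ^ i * (r g ^ j * g ^ i') * r g ^ j' := by group
        _ = g ^ i * (g ^ i' * r g ^ j) * r g ^ j' := by rw [hab (r g ^ j) (g ^ i')]
        _ = _ := by group
    have hstep : ∀ x : N, ∃ c z : N, (∃ i j : ℤ, c = g ^ i * (r g) ^ j) ∧ x = c * (z * z) := by
      intro x
      have h1 := four_elems hcub ⊤ (fun _ _ => mem_top _) hcardQ (mem_top ((g : N) : N ⧸ P)) hg1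
        (mem_top ((x : N) : N ⧸ P))
      have key : ∀ c : N, ((x : N) : N ⧸ P) = (c : N ⧸ P) → ∃ z, x = c * (z * z) := by
        intro c hc
        have h2 := QuotientGroup.eq.mp hc.symm
        obtain ⟨z, hz⟩ := (hP _).mp h2
        exact ⟨z, by rw [hz]; group⟩
      rcases h1 with h1 | h1 | h1 | h1
      · obtain ⟨z, hz⟩ := key 1 h1
        exact ⟨1, z, ⟨0, 0, by simp⟩, hz⟩
      · obtain ⟨z, hz⟩ := key g h1
        exact ⟨g, z, ⟨1, 0, by simp⟩, hz⟩
      · obtain ⟨z, hz⟩ := key (r g) h1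
        exact ⟨r g, z, ⟨0, 1, by simp⟩, hz⟩
      · obtain ⟨z, hz⟩ := key (r (r g)) h1
        refine ⟨r (r g), z, ⟨-1, -1, ?_⟩, hz⟩
        have h5 := h.cub.cubic g
        have h6 : r (r g) = (g * r g)⁻¹ := eq_inv_of_mul_eq_one_right h5
        rw [h6, mul_inv_rev, hab, zpow_neg_one, zpow_neg_one]
    have hfrat : ∀ k : ℕ, ∀ x : N, ∃ c z : N, (∃ i j : ℤ, c = g ^ i * (r g) ^ j) ∧ x = c * z ^ (2 ^ k) := by
      intro k
      induction k with
      | zero =>
        intro x
        exact ⟨1, x, ⟨0, 0, by simp⟩, by simp⟩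
      | succ k ih =>
        intro x
        obtain ⟨c, z, hc, rfl⟩ := ih x
        obtain ⟨c', w, ⟨i, j, rfl⟩, rfl⟩ := hstep z
        have hcomm : ∀ a b : N, Commute a b := fun a b => hab a b
        refine ⟨c * (g ^ i * r g ^ j) ^ (2 ^ k), w, ?_, ?_⟩
        · apply hInH _ hc
          refine ⟨i * (2 ^ k : ℕ), j * (2 ^ k : ℕ), ?_⟩
          rw [(hcomm _ _).mul_pow, zpow_mul, zpow_mul, zpow_natCast, zpow_natCast]
        · rw [(hcomm _ _).mul_pow, mul_assoc]
          congr 1
          rw [(hcomm _ _).mul_pow, ← pow_two, ← pow_mul, ← pow_succ']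
    intro x
    obtain ⟨c, z, ⟨i, j, rfl⟩, rfl⟩ := hfrat n x
    exact ⟨i, j, by rw [hexp, mul_one]⟩
  · intro i j hij
    by_contra hy
    set y := g ^ i with hyd
    obtain ⟨k, hk⟩ := IsPGroup.iff_orderOf.mp two y
    rcases k with _ | k
    · rw [pow_zero, orderOf_eq_one_iff] at hk
      exact hy hk
    have hx1 : y ^ (2 ^ k) ≠ 1 := by
      intro h0
      have h2 := orderOf_dvd_of_pow_eq_one h0
      rw [hk] at h2
      have h3 := (Nat.pow_dvd_pow_iff_le_right (by norm_num : 1 < 2)).mp h2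
      omega
    have hx2 : y ^ (2 ^ k) * y ^ (2 ^ k) = 1 := by
      rw [← pow_add, ← two_mul, ← pow_succ', ← hk, pow_orderOf_eq_one]
    have e1 : y ^ (2 ^ k) = g ^ (i * (2 ^ k : ℕ)) := by
      rw [zpow_mul, zpow_natCast]
    have e2 : y ^ (2 ^ k) = (r g) ^ (j * (2 ^ k : ℕ)) := by
      rw [zpow_mul, zpow_natCast, ← hij]
    have e3 := inv_unique hn1 hn e1 hx2 hx1
    have e4 := inv_unique hn1 hrn e2 hx2 hx1
    have e5 : r (y ^ (2 ^ k)) = y ^ (2 ^ k) := by
      rw [e3, map_pow, ← e4, e3]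
    exact hx1 (h.cub.fix e5)

theorem homocyclic_iso [Finite N] (hab : ∀ x y : N, x * y = y * x) {g h : N} {n : ℕ} (hg : orderOf g = 2 ^ n)
    (hh : orderOf h = 2 ^ n) (hgen : ∀ x : N, ∃ i j : ℤ, x = g ^ i * h ^ j)
    (hdis : ∀ i j : ℤ, g ^ i = h ^ j → g ^ i = 1) :
    Nonempty (N ≃* Multiplicative (ZMod (2 ^ n)) × Multiplicative (ZMod (2 ^ n))) := by
  let H₁ : Subgroup N := zpowers g
  let H₂ : Subgroup N := zpowers h
  have e₁ : Nonempty (Multiplicative (ZMod (2 ^ n)) ≃* H₁) := by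
    have hc : Nat.card H₁ = 2 ^ n := by rw [Nat.card_zpowers, hg]
    rw [← hc]
    exact ⟨zmodCyclicMulEquiv inferInstance⟩
  have e₂ : Nonempty (Multiplicative (ZMod (2 ^ n)) ≃* H₂) := by
    have hc : Nat.card H₂ = 2 ^ n := by rw [Nat.card_zpowers, hh]
    rw [← hc]
    exact ⟨zmodCyclicMulEquiv inferInstance⟩
  obtain ⟨e₁⟩ := e₁
  obtain ⟨e₂⟩ := e₂
  let ψ : H₁ × H₂ →* N := MonoidHom.mk' (fun p => (p.1 : N) * p.2) (by
    intro a b
    show ((a.1 : N) * b.1) * ((a.2 : N) * b.2) = (a.1 : N) * a.2 * ((b.1 : N) * b.2)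
    rw [mul_assoc, ← mul_assoc (b.1 : N), hab (b.1 : N) (a.2 : N), mul_assoc, mul_assoc])
  have hψ : Function.Bijective ψ := by
    constructor
    · rw [injective_iff_map_eq_one]
      rintro ⟨⟨_, i, rfl⟩, ⟨_, j, rfl⟩⟩ hp
      have h1 : (g ^ i) * (h ^ j) = 1 := hp
      have h2 : g ^ i = h ^ (-j) := by
        rw [zpow_neg]
        exact eq_inv_of_mul_eq_one_left h1
      have h3 := hdis _ _ h2
      have h4 : h ^ j = 1 := by rwa [h3, one_mul] at h1
      ext
      · exact h3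
      · exact h4
    · intro x
      obtain ⟨i, j, rfl⟩ := hgen x
      exact ⟨(⟨g ^ i, i, rfl⟩, ⟨h ^ j, j, rfl⟩), rfl⟩
  exact ⟨(MulEquiv.ofBijective ψ hψ).symm.trans (MulEquiv.prodCongr e₁.symm e₂.symm)⟩

end Act

section Small2

variable {N : Type*} [Group N] [Finite N] {r τ : N →* N} {F : Subgroup N}

theorem abel_small2 (h : Act r τ F) (hab : ∀ x y : N, x * y = y * x)
    (hinvo : ∀ x : N, x * x = 1 → x ∈ F) {x₀ : N} (hx₀ : x₀ ∉ F) :
    (∀ v ∈ F, ∃ s : N, s * s = v) ∧ (∀ b ∈ F, ∃ w : N, w⁻¹ * τ w = b) := by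
  have hsq : ∀ a b : N, (a * b) * (a * b) = (a * a) * (b * b) := by
    intro a b
    calc a * b * (a * b) = a * (b * a) * b := by group
      _ = a * (a * b) * b := by rw [hab b a]
      _ = (a * a) * (b * b) := by group
  have hfirst : ∀ v ∈ F, ∃ s : N, s * s = v := by
    have hx1 : x₀ * x₀ ≠ 1 := fun h0 => hx₀ (hinvo _ h0)
    obtain ⟨y, hy1, hy2⟩ := exists_order_four h.cub.two hx1
    have hv : y * y ∈ F := hinvo _ hy2
    intro v hvF
    rcases four_elems h.cub F (fun _ hx => h.F_r hx) h.four hv hy1 hvF with rfl | rfl | rfl | rfl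
    · exact ⟨1, by simp⟩
    · exact ⟨y, rfl⟩
    · exact ⟨r y, by rw [map_mul]⟩
    · exact ⟨r (r y), by rw [map_mul, map_mul]⟩
  refine ⟨hfirst, ?_⟩
  let Ω : Subgroup N :=
    { carrier := {z | z * z ∈ F}
      one_mem' := by
        show (1 : N) * 1 ∈ F
        rw [one_mul]; exact one_mem _
      mul_mem' := by
        rintro a b ha hb
        show (a * b) * (a * b) ∈ F
        rw [hsq]; exact mul_mem ha hb
      inv_mem' := by
        rintro a ha
        show a⁻¹ * a⁻¹ ∈ F
        rw [← mul_inv_rev]; exact inv_mem ha }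
  have hΩ : ∀ z, z ∈ Ω ↔ z * z ∈ F := fun z => Iff.rfl
  have hFΩ : F ≤ Ω := fun z hz => mul_mem hz hz
  let sqΩ : Ω →* N := MonoidHom.mk' (fun x => (x : N) * x) (fun a b => hsq a b)
  have hsqk : sqΩ.ker = F.subgroupOf Ω := by
    ext x
    rw [MonoidHom.mem_ker, Subgroup.mem_subgroupOf]
    constructor
    · intro hx; exact hinvo _ hx
    · intro hx; exact h.F_sq hab hx
  have hsqr : sqΩ.range = F := by
    ext v
    constructor
    · rintro ⟨x, rfl⟩
      exact x.2
    · intro hv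
      obtain ⟨s, rfl⟩ := hfirst v hv
      exact ⟨⟨s, hv⟩, rfl⟩
  have hcΩ : Nat.card Ω = 16 := by
    have h3 := Subgroup.card_mul_index sqΩ.ker
    rw [Subgroup.index_ker, hsqr, h.four, hsqk, Nat.card_congr (Subgroup.subgroupOfEquivOfLe hFΩ).toEquiv,
      h.four] at h3
    exact h3.symm
  let δ : Ω →* N := MonoidHom.mk' (fun x => (x : N)⁻¹ * τ x) (by
    intro a b
    show ((a : N) * b)⁻¹ * τ ((a : N) * b) = (a : N)⁻¹ * τ a * ((b : N)⁻¹ * τ b)
    rw [map_mul, mul_inv_rev]
    have e1 := hab (τ (a : N)) (b : N)⁻¹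
    calc (b : N)⁻¹ * (a : N)⁻¹ * (τ a * τ b) = (a : N)⁻¹ * (b : N)⁻¹ * (τ a * τ b) := by
          rw [hab (b : N)⁻¹ (a : N)⁻¹]
      _ = (a : N)⁻¹ * ((b : N)⁻¹ * τ a) * τ b := by group
      _ = (a : N)⁻¹ * (τ a * (b : N)⁻¹) * τ b := by rw [e1]
      _ = _ := by group)
  have hδ : ∀ x : Ω, δ x = (x : N)⁻¹ * τ x := fun x => rfl
  have hrange : δ.range ≤ F := by
    rintro _ ⟨x, rfl⟩
    apply hinvo
    rw [hδ, hsq, ← map_mul]
    have hx : (x : N) * x ∈ F := x.2
    rw [(h.fix _).mp hx, ← mul_inv_rev, inv_mul_cancel]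
  have hker : δ.ker = F.subgroupOf Ω := by
    ext x
    rw [MonoidHom.mem_ker, hδ, Subgroup.mem_subgroupOf, h.fix, inv_mul_eq_one, eq_comm]
  have hcr : Nat.card δ.range = 4 := by
    have h3 := Subgroup.card_mul_index δ.ker
    rw [Subgroup.index_ker, hker, Nat.card_congr (Subgroup.subgroupOfEquivOfLe hFΩ).toEquiv, h.four, hcΩ] at h3
    omega
  have hEq : δ.range = F := Subgroup.eq_of_le_of_card_ge hrange (by rw [h.four, hcr])
  intro b hb
  rw [← hEq] at hb
  obtain ⟨w, hw⟩ := hb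
  exact ⟨w, hw⟩

theorem abel_index (h : Act r τ F) (hab : ∀ x y : N, x * y = y * x)
    (hinvo : ∀ x : N, x * x = 1 → x ∈ F) (sq : N →* N) (hs : ∀ x, sq x = x * x) :
    sq.range.index = 4 := by
  have hkerF : sq.ker = F := by
    ext x
    rw [MonoidHom.mem_ker, hs]
    constructor
    · intro hx; exact hinvo x hx
    · intro hx; exact h.F_sq hab hx
  have h3 := Subgroup.card_mul_index sq.ker
  rw [Subgroup.index_ker, hkerF, h.four] at h3
  have h4 := Subgroup.card_mul_index sq.range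
  have h5 : 0 < Nat.card sq.range := Nat.card_pos
  have h6 : Nat.card sq.range * sq.range.index = Nat.card sq.range * 4 := by
    rw [h4, ← h3, mul_comm]
  exact Nat.eq_of_mul_eq_mul_left h5 h6

end Small2

section Nonab

variable {T : Type*} [Group T] [Finite T] {r τ : T →* T} {F : Subgroup T}

theorem nonab (h : Act r τ F) (hFZ : F ≤ center T) (hna : ¬ ∀ a b : T, a * b = b * a) :
    Nat.card T = 64 := by
  classical
  have hc := Cub.class_two h.cub
  let Z : Subgroup T := center T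
  have hrZ : Z ≤ Z.comap r := fun z hz => h.cub.center_inv hz
  have hτZ : Z ≤ Z.comap τ := by
    intro z hz
    show τ z ∈ center T
    rw [mem_center_iff]
    intro g
    have hg : g = τ (τ g) := (h.inv g).symm
    rw [hg, ← map_mul, ← map_mul, mem_center_iff.mp hz]
  -- the centre
  let rZ : Z →* Z := MonoidHom.mk' (fun z => ⟨r z, hrZ z.2⟩) (fun a b => Subtype.ext (map_mul r (a : T) (b : T)))
  let τZ : Z →* Z := MonoidHom.mk' (fun z => ⟨τ z, hτZ z.2⟩) (fun a b => Subtype.ext (map_mul τ (a : T) (b : T)))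
  have hrZv : ∀ z : Z, (rZ z : T) = r z := fun _ => rfl
  have hτZv : ∀ z : Z, (τZ z : T) = τ z := fun _ => rfl
  have hActZ : Act rZ τZ (F.subgroupOf Z) := by
    refine ⟨⟨?_, ?_, h.cub.two.to_subgroup Z⟩, ?_, ?_, ?_, ?_⟩
    · intro y; exact Subtype.ext (h.cub.three _)
    · intro y; exact Subtype.ext (h.cub.cubic _)
    · intro y; exact Subtype.ext (h.inv _)
    · intro y; exact Subtype.ext (h.rt _)
    · intro x
      rw [Subgroup.mem_subgroupOf, h.fix, Subtype.ext_iff]
      rfl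
    · rw [Nat.card_congr (Subgroup.subgroupOfEquivOfLe hFZ).toEquiv, h.four]
  have habZ : ∀ x y : Z, x * y = y * x := fun x y => Subtype.ext (mem_center_iff.mp y.2 (x : T))
  -- the quotient
  let rM : T ⧸ Z →* T ⧸ Z := QuotientGroup.map Z Z r hrZ
  let τM : T ⧸ Z →* T ⧸ Z := QuotientGroup.map Z Z τ hτZ
  have hrM : ∀ y : T, rM (y : T ⧸ Z) = ((r y : T) : T ⧸ Z) := fun y => rfl
  have hτM : ∀ y : T, τM (y : T ⧸ Z) = ((τ y : T) : T ⧸ Z) := fun y => rfl
  have habM : ∀ x y : T ⧸ Z, x * y = y * x := by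
    intro x y
    obtain ⟨x, rfl⟩ := QuotientGroup.mk_surjective x
    obtain ⟨y, rfl⟩ := QuotientGroup.mk_surjective y
    rw [← QuotientGroup.mk_mul, ← QuotientGroup.mk_mul, QuotientGroup.eq]
    have h1 := hc y⁻¹ x⁻¹
    have h2 : (x * y)⁻¹ * (y * x) = ⁅y⁻¹, x⁻¹⁆ := by
      rw [commutatorElement_def]; group
    rw [h2]
    exact h1
  have two_M : IsPGroup 2 (T ⧸ Z) := h.cub.two.to_quotient Z
  have hτMinv : ∀ x, τM (τM x) = x := by
    intro y
    obtain ⟨y, rfl⟩ := QuotientGroup.mk_surjective y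
    simp only [hτM, h.inv]
  have hcubM : Cub rM := Cub.quot h.cub Z hrZ
  have hrtM : ∀ x, rM (τM x) = τM (rM x) := by
    intro y
    obtain ⟨y, rfl⟩ := QuotientGroup.mk_surjective y
    simp only [hτM, hrM, h.rt]
  have hmk1 : ∀ y : T, ((y : T) : T ⧸ Z) = 1 ↔ y ∈ Z := fun y => QuotientGroup.eq_one_iff y
  -- a nontrivial element of the quotient fixed by τ
  have hMne : ∃ x ∈ (⊤ : Subgroup (T ⧸ Z)), x ≠ 1 := by
    push Not at hna
    obtain ⟨a, b, hab⟩ := hna
    refine ⟨(a : T ⧸ Z), mem_top _, ?_⟩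
    rw [Ne, hmk1]
    intro ha
    exact hab (mem_center_iff.mp ha b).symm
  obtain ⟨m₀, _, hm₀, hfm₀⟩ := exists_fix two_M ⊤ τM hτMinv (fun _ _ => mem_top _) hMne
  have hF4 : Nat.card (fixSub τM) = 4 := by
    have hmod := hcubM.card_mod (fixSub τM) (by
      intro y hy
      rw [mem_fixSub] at hy ⊢
      rw [← hrtM, hy])
    have hne : Nat.card (fixSub τM) ≠ 1 := by
      intro h0
      have hs : Subsingleton (fixSub τM) := (Nat.card_eq_one_iff_unique.mp h0).1
      have : (⟨m₀, hfm₀⟩ : fixSub τM) = 1 := Subsingleton.elim _ _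
      exact hm₀ (congrArg Subtype.val this)
    have hle : Nat.card (fixSub τM) ≤ 4 := by
      let D : Subgroup T := (fixSub τM).comap (QuotientGroup.mk' Z)
      have hD : ∀ x, x ∈ D ↔ (τ x : T ⧸ Z) = (x : T ⧸ Z) := fun x => Iff.rfl
      have hDz : ∀ x : D, (x : T)⁻¹ * τ x ∈ Z := by
        intro x
        have h1 := (hD x).mp x.2
        exact QuotientGroup.eq.mp h1.symm
      let φ : D →* Z := MonoidHom.mk' (fun x => ⟨(x : T)⁻¹ * τ x, hDz x⟩) (by
        intro a b
        apply Subtype.ext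
        show ((a : T) * b)⁻¹ * τ ((a : T) * b) = ((a : T)⁻¹ * τ a) * ((b : T)⁻¹ * τ b)
        have h1 := mem_center_iff.mp (hDz a) (b : T)⁻¹
        rw [map_mul, mul_inv_rev]
        calc (b : T)⁻¹ * (a : T)⁻¹ * (τ a * τ b) = (b : T)⁻¹ * ((a : T)⁻¹ * τ a) * τ b := by group
          _ = ((a : T)⁻¹ * τ a) * (b : T)⁻¹ * τ b := by rw [h1]
          _ = _ := by group)
      have hFD : F ≤ D := by
        intro x hx
        rw [hD, (h.fix x).mp hx]
      have hker : φ.ker = F.subgroupOf D := by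
        ext x
        rw [MonoidHom.mem_ker, Subgroup.mem_subgroupOf, h.fix, Subtype.ext_iff]
        show (x : T)⁻¹ * τ x = 1 ↔ _
        rw [inv_mul_eq_one, eq_comm]
      have h1 := Subgroup.card_mul_index φ.ker
      rw [Subgroup.index_ker, hker, Nat.card_congr (Subgroup.subgroupOfEquivOfLe hFD).toEquiv, h.four] at h1
      have h2 : Nat.card φ.range ≤ Nat.card Z := Subgroup.card_le_card_group _
      have h3 := Subgroup.card_mul_index D
      have h4 : D.index = (fixSub τM).index :=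
        Subgroup.index_comap_of_surjective _ (QuotientGroup.mk'_surjective Z)
      have h5 := Subgroup.card_mul_index (fixSub τM)
      have h6 := card_eq_card_quotient_mul_card_subgroup Z
      have h7 : 0 < (fixSub τM).index := Nat.pos_of_ne_zero Subgroup.index_ne_zero_of_finite
      have h8 : Nat.card D = Nat.card (fixSub τM) * Nat.card Z := by
        have h9 : Nat.card D * (fixSub τM).index = (Nat.card (fixSub τM) * Nat.card Z) * (fixSub τM).index := by
          rw [← h4, h3, h6, ← h5, h4]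
          ring
        exact Nat.eq_of_mul_eq_mul_right h7 h9
      have h10 : 0 < Nat.card Z := Nat.card_pos
      have h11 : Nat.card (fixSub τM) * Nat.card Z ≤ 4 * Nat.card Z := by
        rw [← h8, ← h1]
        exact Nat.mul_le_mul_left _ h2
      exact Nat.le_of_mul_le_mul_right h11 h10
    interval_cases hc4 : Nat.card (fixSub τM) <;> first | rfl | omega
  have hActM : Act rM τM (fixSub τM) := ⟨hcubM, hτMinv, hrtM, fun _ => Iff.rfl, hF4⟩
  -- the quotient is elementary abelian of order 16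
  have hM : Nat.card (T ⧸ Z) = 16 ∧ ∀ x : T ⧸ Z, x * x = 1 := by
    by_cases hinvM : ∀ x : T ⧸ Z, x * x = 1 → x ∈ fixSub τM
    · exfalso
      obtain ⟨g', n, _, _, _, hgen, _⟩ := abel_small hActM habM hinvM
      obtain ⟨g, rfl⟩ := QuotientGroup.mk_surjective g'
      have hform : ∀ x : T, ∃ (i j : ℤ) (z : T), z ∈ Z ∧ x = g ^ i * (r g) ^ j * z := by
        intro x
        obtain ⟨i, j, hij⟩ := hgen (x : T ⧸ Z)
        refine ⟨i, j, (g ^ i * (r g) ^ j)⁻¹ * x, ?_, by group⟩
        rw [hrM, ← QuotientGroup.mk_zpow, ← QuotientGroup.mk_zpow, ← QuotientGroup.mk_mul] at hij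
        exact QuotientGroup.eq.mp hij.symm
      apply hna
      intro a b
      obtain ⟨i, j, z, hz, rfl⟩ := hform a
      obtain ⟨k, l, w, hw, rfl⟩ := hform b
      have hcm : Commute g (r g) := h.cub.comm g
      have h1 : Commute (g ^ i * r g ^ j) (g ^ k * r g ^ l) := by
        refine Commute.mul_left (Commute.mul_right ?_ ?_) (Commute.mul_right ?_ ?_)
        · exact (Commute.refl g).zpow_zpow _ _
        · exact hcm.zpow_zpow _ _
        · exact hcm.symm.zpow_zpow _ _
        · exact (Commute.refl (r g)).zpow_zpow _ _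
      calc g ^ i * r g ^ j * z * (g ^ k * r g ^ l * w)
          = g ^ i * r g ^ j * (z * (g ^ k * r g ^ l)) * w := by group
        _ = g ^ i * r g ^ j * ((g ^ k * r g ^ l) * z) * w := by rw [mem_center_iff.mp hz]
        _ = (g ^ i * r g ^ j * (g ^ k * r g ^ l)) * (z * w) := by group
        _ = ((g ^ k * r g ^ l) * (g ^ i * r g ^ j)) * (w * z) := by
            rw [h1.eq, mem_center_iff.mp hw z]
        _ = (g ^ k * r g ^ l) * ((g ^ i * r g ^ j) * w) * z := by group
        _ = (g ^ k * r g ^ l) * (w * (g ^ i * r g ^ j)) * z := by rw [mem_center_iff.mp hw]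
        _ = _ := by group
    · push Not at hinvM
      obtain ⟨w₀, h1, h2⟩ := hinvM
      obtain ⟨h3, h4, _⟩ := abel_big hActM habM h1 h2
      exact ⟨h3, h4⟩
  obtain ⟨hM16, hMsq⟩ := hM
  have hsqZ : ∀ x : T, x * x ∈ Z := by
    intro x
    rw [← hmk1, QuotientGroup.mk_mul]
    exact hMsq _
  have hcommsq : ∀ x y : T, ⁅x, y⁆ * ⁅x, y⁆ = 1 := by
    intro x y
    rw [← comm_mul_left hc, commutatorElement_eq_one_iff_mul_comm]
    exact (mem_center_iff.mp (hsqZ x) y).symm
  -- lifts of the fixed element of the quotient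
  obtain ⟨y₀, hy₀⟩ := QuotientGroup.mk_surjective m₀
  have hy₀Z : y₀ ∉ Z := by
    intro h0
    exact hm₀ (by rw [← hy₀]; exact (hmk1 _).mpr h0)
  have hcenter_mul : ∀ a b : T, b ∈ Z → (a * b) * (a * b) = (a * a) * (b * b) := by
    intro a b hb
    calc a * b * (a * b) = a * (b * a) * b := by group
      _ = a * (a * b) * b := by rw [← mem_center_iff.mp hb a]
      _ = _ := by group
  have hZF : Z ≤ F := by
    by_cases hinvZ : ∀ x : Z, x * x = 1 → x ∈ F.subgroupOf Z
    · by_contra hnot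
      have hnot' : ∃ z₀ : Z, z₀ ∉ F.subgroupOf Z := by
        rw [SetLike.not_le_iff_exists] at hnot
        obtain ⟨z, hz, hzF⟩ := hnot
        exact ⟨⟨z, hz⟩, hzF⟩
      obtain ⟨z₀, hz₀⟩ := hnot'
      obtain ⟨honto1, honto2⟩ := abel_small2 hActZ habZ hinvZ hz₀
      -- squares of the centre
      let sqA : Z →* Z := MonoidHom.mk' (fun x => x * x) (by
        intro a b
        calc a * b * (a * b) = a * (b * a) * b := by group
          _ = a * (a * b) * b := by rw [habZ b a]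
          _ = (a * a) * (b * b) := by group)
      let P : Subgroup Z := sqA.range
      have hP : ∀ x, x ∈ P ↔ ∃ z, z * z = x := fun x => Iff.rfl
      haveI hPn : P.Normal := by
        constructor
        intro n hn' g'
        rw [habZ g' n, mul_assoc, mul_inv_cancel, mul_one]
        exact hn'
      have hindex : P.index = 4 := abel_index hActZ habZ hinvZ sqA (fun _ => rfl)
      have hcommP : ∀ u v : T, ∃ s : Z, (s : T) * s = ⁅u, v⁆ := by
        intro u v
        have h1 : (⟨⁅u, v⁆, hc u v⟩ : Z) ∈ F.subgroupOf Z := by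
          apply hinvZ
          exact Subtype.ext (hcommsq u v)
        obtain ⟨s, hs⟩ := honto1 _ h1
        exact ⟨s, congrArg Subtype.val hs⟩
      let f : T →* Z ⧸ P := MonoidHom.mk' (fun x => (QuotientGroup.mk (⟨x * x, hsqZ x⟩ : Z) : Z ⧸ P)) (by
        intro a b
        rw [← QuotientGroup.mk_mul, QuotientGroup.eq]
        obtain ⟨s, hs⟩ := hcommP b a
        apply (hP _).mpr
        refine ⟨s⁻¹, ?_⟩
        apply Subtype.ext
        show (s : T)⁻¹ * (s : T)⁻¹ = (a * b * (a * b))⁻¹ * ((a * a) * (b * b))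
        have h1 : a * b * (a * b) = ⁅b, a⁆ * ((a * a) * (b * b)) := by
          have h2 : b * a = ⁅b, a⁆ * a * b := swap_rule b a
          calc a * b * (a * b) = a * (b * a) * b := by group
            _ = a * (⁅b, a⁆ * a * b) * b := by rw [h2]
            _ = (a * ⁅b, a⁆) * (a * b) * b := by group
            _ = (⁅b, a⁆ * a) * (a * b) * b := by rw [mem_center_iff.mp (hc b a)]
            _ = _ := by group
        rw [h1, (mem_center_iff.mp (hc b a) _).symm, ← hs]
        group)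
      have hfv : ∀ x : T, f x = (QuotientGroup.mk (⟨x * x, hsqZ x⟩ : Z) : Z ⧸ P) := fun _ => rfl
      have hfZ : Z ≤ f.ker := by
        intro z hz
        rw [MonoidHom.mem_ker, hfv, QuotientGroup.eq_one_iff]
        apply (hP _).mpr
        exact ⟨⟨z, hz⟩, rfl⟩
      let fb : T ⧸ Z →* Z ⧸ P := QuotientGroup.lift Z f hfZ
      have hfb : ∀ x : T, fb (x : T ⧸ Z) = f x := fun _ => rfl
      have hcardQ : Nat.card (Z ⧸ P) = 4 := hindex
      have hnoinj : ¬ Function.Injective fb := by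
        intro hinj
        have := Nat.card_le_card_of_injective fb hinj
        omega
      rw [injective_iff_map_eq_one] at hnoinj
      push Not at hnoinj
      obtain ⟨m₁, hm₁, hm₁ne⟩ := hnoinj
      obtain ⟨m₂, hm₂S, hm₂, hm₂fix⟩ := exists_fix two_M fb.ker τM hτMinv (by
        intro x hx
        obtain ⟨x, rfl⟩ := QuotientGroup.mk_surjective x
        rw [MonoidHom.mem_ker, hfb, hfv, QuotientGroup.eq_one_iff] at hx
        obtain ⟨s, hs⟩ := (hP _).mp hx
        rw [MonoidHom.mem_ker, hτM, hfb, hfv, QuotientGroup.eq_one_iff]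
        apply (hP _).mpr
        refine ⟨τZ s, Subtype.ext ?_⟩
        show τ s * τ s = τ x * τ x
        have h1 : (s : T) * s = x * x := congrArg Subtype.val hs
        rw [← map_mul, ← map_mul, h1]) ⟨m₁, hm₁, hm₁ne⟩
      obtain ⟨y, rfl⟩ := QuotientGroup.mk_surjective m₂
      rw [MonoidHom.mem_ker, hfb, hfv, QuotientGroup.eq_one_iff] at hm₂S
      obtain ⟨s, hs⟩ := (hP _).mp hm₂S
      have hs' : (s : T) * s = y * y := congrArg Subtype.val hs
      have hsc := s.2
      let a : T := y * (s : T)⁻¹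
      have hmka : (a : T ⧸ Z) = (y : T ⧸ Z) := by
        show ((y * (s : T)⁻¹ : T) : T ⧸ Z) = _
        rw [QuotientGroup.mk_mul, (hmk1 _).mpr (inv_mem hsc), mul_one]
      have ha2 : a * a = 1 := by
        show (y * (s : T)⁻¹) * (y * (s : T)⁻¹) = 1
        rw [hcenter_mul _ _ (inv_mem hsc), ← mul_inv_rev, hs', mul_inv_cancel]
      have haZ : a ∉ Z := by
        intro h0
        apply hm₂
        rw [← hmka]
        exact (hmk1 _).mpr h0
      have hfa : (τ a : T ⧸ Z) = (a : T ⧸ Z) := by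
        rw [← hτM, hmka]
        exact hm₂fix
      have hb : a⁻¹ * τ a ∈ Z := QuotientGroup.eq.mp hfa.symm
      have hτa : τ a = a * (a⁻¹ * τ a) := by group
      have hb2 : (a⁻¹ * τ a) * (a⁻¹ * τ a) = 1 := by
        have h1 : τ a * τ a = 1 := by rw [← map_mul, ha2, map_one]
        have h2 : (a * (a⁻¹ * τ a)) * (a * (a⁻¹ * τ a)) = 1 := by rw [← hτa]; exact h1
        rw [hcenter_mul _ _ hb, ha2, one_mul] at h2
        exact h2
      have hbF : (⟨a⁻¹ * τ a, hb⟩ : Z) ∈ F.subgroupOf Z := by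
        apply hinvZ
        exact Subtype.ext hb2
      obtain ⟨w, hw⟩ := honto2 _ hbF
      have hw' : (w : T)⁻¹ * τ w = a⁻¹ * τ a := congrArg Subtype.val hw
      have hτw : τ w = w * (a⁻¹ * τ a) := by rw [← hw']; group
      have hmem : a * (w : T)⁻¹ ∈ F := by
        rw [h.fix, map_mul, map_inv, hτw, mul_inv_rev]
        nth_rewrite 1 [hτa]
        group
      have h9 := hFZ hmem
      apply haZ
      have h10 : a = (a * (w : T)⁻¹) * w := by group
      rw [h10]
      exact mul_mem h9 w.2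
    · exfalso
      push Not at hinvZ
      obtain ⟨w₀, h1, h2⟩ := hinvZ
      obtain ⟨_, hall, honto⟩ := abel_big hActZ habZ h1 h2
      have hfy : (τ y₀ : T ⧸ Z) = (y₀ : T ⧸ Z) := by
        rw [← hτM, hy₀]
        exact hfm₀
      have hb : y₀⁻¹ * τ y₀ ∈ Z := QuotientGroup.eq.mp hfy.symm
      have hb2 : (y₀⁻¹ * τ y₀) * (y₀⁻¹ * τ y₀) = 1 := congrArg Subtype.val (hall ⟨_, hb⟩)
      have hbF : (⟨y₀⁻¹ * τ y₀, hb⟩ : Z) ∈ F.subgroupOf Z := by
        rw [Subgroup.mem_subgroupOf, h.fix]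
        show τ (y₀⁻¹ * τ y₀) = y₀⁻¹ * τ y₀
        rw [map_mul, map_inv, h.inv]
        have h3 : (τ y₀)⁻¹ * y₀ = (y₀⁻¹ * τ y₀)⁻¹ := by group
        rw [h3]
        exact inv_eq_of_mul_eq_one_left hb2
      obtain ⟨w, hw⟩ := honto _ hbF
      have hw' : (w : T)⁻¹ * τ w = y₀⁻¹ * τ y₀ := congrArg Subtype.val hw
      have hτw : τ w = w * (y₀⁻¹ * τ y₀) := by rw [← hw']; group
      have hτa : τ y₀ = y₀ * (y₀⁻¹ * τ y₀) := by group
      have hmem : y₀ * (w : T)⁻¹ ∈ F := by
        rw [h.fix, map_mul, map_inv, hτw, mul_inv_rev]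
        nth_rewrite 1 [hτa]
        group
      have h9 := hFZ hmem
      apply hy₀Z
      have h10 : y₀ = (y₀ * (w : T)⁻¹) * w := by group
      rw [h10]
      exact mul_mem h9 w.2
  have hZeq : Z = F := le_antisymm hZF hFZ
  have h6 := card_eq_card_quotient_mul_card_subgroup Z
  rw [h6, hM16, hZeq, h.four]

end Nonab

section Model

open Cfsg.Agent.Lib.Compute.PSL34 Cfsg.Agent.Lib.Compute.GFModel

/-- The carry for the first pair of generators. -/
def kap1 (s s' : GF4) : GF4 := ⟨s.re * s'.re + s.im * s'.im, s.im * s'.im⟩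

/-- The carry for the second pair of generators. -/
def kap2 (t t' : GF4) : GF4 := ⟨t.im * t'.im, t.re * t'.re⟩

/-- The embedding of the quadratic subfield. -/
def iota (z : GF4) : GF16 := ⟨z, 0⟩

/-- The second coordinate on representatives. -/
def gg (s t : GF4) : GF16 :=
  ⟨⟨t.im + t.re + t.re*t.im + s.im, t.im + t.re + t.re*t.im + s.im + s.re + s.re*s.im⟩,
   ⟨t.im + s.im + s.im*t.im + s.re + s.re*t.re, t.re + s.im + s.im*t.im + s.im*t.re + s.re*t.im⟩⟩

theorem lem_star : ∀ s t s' t' : GF4,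
    gg (s + s') (t + t') + iota (t * s' + kap1 s s' + kap2 t t') =
      gg s t + gg s' t' + (⟨s', t'⟩ : GF16) * (⟨s, t⟩ : GF16) ^ 4 := by
  decide +kernel

theorem lem_con : ∀ s t z : GF4,
    gg s t + iota z + (gg s t + iota z) ^ 4 = (⟨s, t⟩ : GF16) ^ (4 + 1) := by
  decide +kernel

theorem lem_surj : ∀ a b : GF16, b + b ^ 4 = a ^ (4 + 1) → ∃ z : GF4, b = gg a.re a.im + iota z := by
  decide +kernel

theorem iota_add (x y : GF4) : iota (x + y) = iota x + iota y := by
  apply QuadraticAlgebra.ext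
  · rfl
  · show (0 : GF4) = 0 + 0
    simp

variable {T : Type*} [Group T] [Finite T]

/-- The anisotropic data. -/
structure UD (a a' b b' l m : T) : Prop where
  haa : a * a' = a' * a
  hbb : b * b' = b' * b
  hl : l ∈ center T
  hm : m ∈ center T
  hl2 : l * l = 1
  hm2 : m * m = 1
  hl1 : l ≠ 1
  hm1 : m ≠ 1
  hlm : l ≠ m
  r1 : b * a = a * b * l
  r2 : b' * a = a * b' * m
  r3 : b * a' = a' * b * m
  r4 : b' * a' = a' * b' * (l * m)
  sa : a * a = l
  sa' : a' * a' = l * m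
  sb : b * b = m
  sb' : b' * b' = l

variable {a a' b b' l m : T}

theorem zmod2_cases : ∀ i : ZMod 2, i = 0 ∨ i = 1 := by decide

theorem pow_carry {p P : T} (hp : p * p = P) (i j : ZMod 2) :
    p ^ i.val * p ^ j.val = p ^ (i + j).val * P ^ (i * j).val := by
  have h11 : (1 : ZMod 2) + 1 = 0 := by decide
  rcases zmod2_cases i with rfl | rfl <;> rcases zmod2_cases j with rfl | rfl
  · simp
  · simp
  · simp
  · rw [h11, mul_one, ZMod.val_one, ZMod.val_zero, pow_zero, one_mul, pow_one, pow_one, hp]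

theorem bit_1w (p q : T) : bit p q (1 + w) = p * q := by
  unfold bit
  have h1 : (1 + w : GF4).re = 1 := rfl
  have h2 : (1 + w : GF4).im = 1 := rfl
  rw [h1, h2]
  simp [ZMod.val_one]

theorem UD.cadd (D : UD a a' b b' l m) (s s' : GF4) : bit l m (s + s') = bit l m s * bit l m s' :=
  bit_add D.hl2 D.hm2 (cz D.hm l) s s'

theorem UD.ccen (D : UD a a' b b' l m) (s : GF4) : bit l m s ∈ center T := bit_center D.hl D.hm s

theorem UD.e_mul (D : UD a a' b b' l m) (s s' : GF4) :
    bit a a' s * bit a a' s' = bit a a' (s + s') * bit l m (kap1 s s') := by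
  unfold bit kap1
  have h1 : (s + s').re = s.re + s'.re := rfl
  have h2 : (s + s').im = s.im + s'.im := rfl
  rw [h1, h2]
  have hc : Commute a a' := D.haa
  have hc1 : Commute (a ^ s'.re.val) (a' ^ s.im.val) := hc.pow_pow _ _
  have e1 := pow_carry D.sa s.re s'.re
  have e2 := pow_carry D.sa' s.im s'.im
  have hlz : l ^ (s.re * s'.re).val ∈ center T := pow_mem D.hl _
  have hmz : (l * m) ^ (s.im * s'.im).val ∈ center T := pow_mem (mul_mem D.hl D.hm) _
  have e3 : l ^ (s.re * s'.re).val * (l * m) ^ (s.im * s'.im).val =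
      l ^ (s.re * s'.re + s.im * s'.im).val * m ^ (s.im * s'.im).val := by
    generalize s.re * s'.re = i
    generalize s.im * s'.im = j
    have h11 : (1 : ZMod 2) + 1 = 0 := by decide
    rcases zmod2_cases i with rfl | rfl <;> rcases zmod2_cases j with rfl | rfl
    · simp
    · simp [ZMod.val_one]
    · simp [ZMod.val_one]
    · rw [h11]
      simp only [ZMod.val_one, ZMod.val_zero, pow_one, pow_zero, one_mul]
      rw [← mul_assoc, D.hl2, one_mul]
  show a ^ s.re.val * a' ^ s.im.val * (a ^ s'.re.val * a' ^ s'.im.val) =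
    a ^ (s.re + s'.re).val * a' ^ (s.im + s'.im).val *
      (l ^ (s.re * s'.re + s.im * s'.im).val * m ^ (s.im * s'.im).val)
  rw [← e3]
  calc a ^ s.re.val * a' ^ s.im.val * (a ^ s'.re.val * a' ^ s'.im.val)
      = a ^ s.re.val * (a' ^ s.im.val * a ^ s'.re.val) * a' ^ s'.im.val := by group
    _ = a ^ s.re.val * (a ^ s'.re.val * a' ^ s.im.val) * a' ^ s'.im.val := by rw [hc1.eq]
    _ = (a ^ s.re.val * a ^ s'.re.val) * (a' ^ s.im.val * a' ^ s'.im.val) := by group
    _ = (a ^ (s.re + s'.re).val * l ^ (s.re * s'.re).val) *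
        (a' ^ (s.im + s'.im).val * (l * m) ^ (s.im * s'.im).val) := by rw [e1, e2]
    _ = a ^ (s.re + s'.re).val * (l ^ (s.re * s'.re).val * a' ^ (s.im + s'.im).val) *
        (l * m) ^ (s.im * s'.im).val := by group
    _ = a ^ (s.re + s'.re).val * (a' ^ (s.im + s'.im).val * l ^ (s.re * s'.re).val) *
        (l * m) ^ (s.im * s'.im).val := by rw [cz hlz (a' ^ (s.im + s'.im).val)]
    _ = _ := by group

theorem UD.f_mul (D : UD a a' b b' l m) (t t' : GF4) :
    bit b b' t * bit b b' t' = bit b b' (t + t') * bit l m (kap2 t t') := by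
  unfold bit kap2
  have h1 : (t + t').re = t.re + t'.re := rfl
  have h2 : (t + t').im = t.im + t'.im := rfl
  rw [h1, h2]
  have hc : Commute b b' := D.hbb
  have hc1 : Commute (b ^ t'.re.val) (b' ^ t.im.val) := hc.pow_pow _ _
  have e1 := pow_carry D.sb t.re t'.re
  have e2 := pow_carry D.sb' t.im t'.im
  have hlz : m ^ (t.re * t'.re).val ∈ center T := pow_mem D.hm _
  have hmz : l ^ (t.im * t'.im).val ∈ center T := pow_mem D.hl _
  show b ^ t.re.val * b' ^ t.im.val * (b ^ t'.re.val * b' ^ t'.im.val) =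
    b ^ (t.re + t'.re).val * b' ^ (t.im + t'.im).val *
      (l ^ (t.im * t'.im).val * m ^ (t.re * t'.re).val)
  calc b ^ t.re.val * b' ^ t.im.val * (b ^ t'.re.val * b' ^ t'.im.val)
      = b ^ t.re.val * (b' ^ t.im.val * b ^ t'.re.val) * b' ^ t'.im.val := by group
    _ = b ^ t.re.val * (b ^ t'.re.val * b' ^ t.im.val) * b' ^ t'.im.val := by rw [hc1.eq]
    _ = (b ^ t.re.val * b ^ t'.re.val) * (b' ^ t.im.val * b' ^ t'.im.val) := by group
    _ = (b ^ (t.re + t'.re).val * m ^ (t.re * t'.re).val) *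
        (b' ^ (t.im + t'.im).val * l ^ (t.im * t'.im).val) := by rw [e1, e2]
    _ = b ^ (t.re + t'.re).val * (m ^ (t.re * t'.re).val * b' ^ (t.im + t'.im).val) *
        l ^ (t.im * t'.im).val := by group
    _ = b ^ (t.re + t'.re).val * (b' ^ (t.im + t'.im).val * m ^ (t.re * t'.re).val) *
        l ^ (t.im * t'.im).val := by rw [cz hlz (b' ^ (t.im + t'.im).val)]
    _ = b ^ (t.re + t'.re).val * b' ^ (t.im + t'.im).val * (m ^ (t.re * t'.re).val * l ^ (t.im * t'.im).val) := by group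
    _ = _ := by rw [cz hmz (m ^ (t.re * t'.re).val)]

theorem UD.rule (D : UD a a' b b' l m) (t s : GF4) :
    bit b b' t * bit a a' s = bit a a' s * bit b b' t * bit l m (t * s) := by
  have add_s : ∀ t : GF4, bit b b' t * bit a a' 1 = bit a a' 1 * bit b b' t * bit l m (t * 1) →
      bit b b' t * bit a a' w = bit a a' w * bit b b' t * bit l m (t * w) →
      bit b b' t * bit a a' (1 + w) = bit a a' (1 + w) * bit b b' t * bit l m (t * (1 + w)) := by
    intro t h1 h2
    have e1 : bit a a' (1 + w) = bit a a' 1 * bit a a' w := by rw [bit_1w, bit_one, bit_w]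
    rw [e1, mul_add, D.cadd]
    calc bit b b' t * (bit a a' 1 * bit a a' w) = (bit b b' t * bit a a' 1) * bit a a' w := by group
      _ = bit a a' 1 * bit b b' t * bit l m (t * 1) * bit a a' w := by rw [h1]
      _ = bit a a' 1 * bit b b' t * (bit l m (t * 1) * bit a a' w) := by group
      _ = bit a a' 1 * bit b b' t * (bit a a' w * bit l m (t * 1)) := by rw [cz (D.ccen _) (bit a a' w)]
      _ = bit a a' 1 * (bit b b' t * bit a a' w) * bit l m (t * 1) := by group
      _ = bit a a' 1 * (bit a a' w * bit b b' t * bit l m (t * w)) * bit l m (t * 1) := by rw [h2]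
      _ = bit a a' 1 * bit a a' w * bit b b' t * (bit l m (t * w) * bit l m (t * 1)) := by group
      _ = bit a a' 1 * bit a a' w * bit b b' t * (bit l m (t * 1) * bit l m (t * w)) := by
        rw [cz (D.ccen (t * 1)) (bit l m (t * w))]
  have add_t : ∀ s : GF4, bit b b' 1 * bit a a' s = bit a a' s * bit b b' 1 * bit l m (1 * s) →
      bit b b' w * bit a a' s = bit a a' s * bit b b' w * bit l m (w * s) →
      bit b b' (1 + w) * bit a a' s = bit a a' s * bit b b' (1 + w) * bit l m ((1 + w) * s) := by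
    intro s h1 h2
    have e1 : bit b b' (1 + w) = bit b b' 1 * bit b b' w := by rw [bit_1w, bit_one, bit_w]
    rw [e1, add_mul, D.cadd]
    calc bit b b' 1 * bit b b' w * bit a a' s = bit b b' 1 * (bit b b' w * bit a a' s) := by group
      _ = bit b b' 1 * (bit a a' s * bit b b' w * bit l m (w * s)) := by rw [h2]
      _ = (bit b b' 1 * bit a a' s) * bit b b' w * bit l m (w * s) := by group
      _ = (bit a a' s * bit b b' 1 * bit l m (1 * s)) * bit b b' w * bit l m (w * s) := by rw [h1]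
      _ = bit a a' s * bit b b' 1 * (bit l m (1 * s) * bit b b' w) * bit l m (w * s) := by group
      _ = bit a a' s * bit b b' 1 * (bit b b' w * bit l m (1 * s)) * bit l m (w * s) := by
        rw [cz (D.ccen _) (bit b b' w)]
      _ = _ := by group
  have b11 : bit b b' 1 * bit a a' 1 = bit a a' 1 * bit b b' 1 * bit l m (1 * 1) := by
    rw [mul_one, bit_one, bit_one, bit_one]; exact D.r1
  have bw1 : bit b b' w * bit a a' 1 = bit a a' 1 * bit b b' w * bit l m (w * 1) := by
    rw [mul_one, bit_one, bit_w, bit_w]; exact D.r2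
  have b1w : bit b b' 1 * bit a a' w = bit a a' w * bit b b' 1 * bit l m (1 * w) := by
    rw [one_mul, bit_one, bit_w, bit_w]; exact D.r3
  have bww : bit b b' w * bit a a' w = bit a a' w * bit b b' w * bit l m (w * w) := by
    rw [show w * w = 1 + w by decide, D.cadd, bit_one, bit_w, bit_w, bit_w]; exact D.r4
  have hz : ∀ t : GF4, bit b b' t * bit a a' 0 = bit a a' 0 * bit b b' t * bit l m (t * 0) := by
    intro t; rw [mul_zero, bit_zero, bit_zero, one_mul, mul_one]
  have P1 : ∀ s : GF4, bit b b' 1 * bit a a' s = bit a a' s * bit b b' 1 * bit l m (1 * s) := by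
    intro s
    rcases gf4_cases s with rfl | rfl | rfl | rfl
    · exact hz 1
    · exact b11
    · exact b1w
    · exact add_s _ b11 b1w
  have Pw : ∀ s : GF4, bit b b' w * bit a a' s = bit a a' s * bit b b' w * bit l m (w * s) := by
    intro s
    rcases gf4_cases s with rfl | rfl | rfl | rfl
    · exact hz w
    · exact bw1
    · exact bww
    · exact add_s _ bw1 bww
  rcases gf4_cases t with rfl | rfl | rfl | rfl
  · rw [zero_mul, bit_zero, bit_zero, one_mul, mul_one, mul_one]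
  · exact P1 s
  · exact Pw s
  · exact add_t _ (P1 s) (Pw s)

/-- Multiplication in coordinates. -/
def umul (u v : GF4 × GF4 × GF4) : GF4 × GF4 × GF4 :=
  (u.1 + v.1, u.2.1 + v.2.1, u.2.2 + v.2.2 + u.2.1 * v.1 + kap1 u.1 v.1 + kap2 u.2.1 v.2.1)

theorem UD.Psi_mul (D : UD a a' b b' l m) (u v : GF4 × GF4 × GF4) :
    Psi a a' b b' l m (umul u v) = Psi a a' b b' l m u * Psi a a' b b' l m v := by
  obtain ⟨s, t, c⟩ := u
  obtain ⟨s', t', c'⟩ := v
  simp only [Psi, umul]
  have h1 := D.rule t s'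
  have h2 := D.e_mul s s'
  have h3 := D.f_mul t t'
  have e1 : bit l m (c + c' + t * s' + kap1 s s' + kap2 t t') =
      bit l m (kap1 s s') * bit l m (kap2 t t') * (bit l m (t * s') * (bit l m c * bit l m c')) := by
    rw [← D.cadd, ← D.cadd, ← D.cadd, ← D.cadd]
    congr 1
    ring
  rw [e1]
  set A := bit a a' s
  set A' := bit a a' s'
  set B := bit b b' t
  set B' := bit b b' t'
  set X := bit l m c
  set X' := bit l m c'
  set Y := bit l m (t * s')
  set E := bit a a' (s + s')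
  set G := bit b b' (t + t')
  set K1 := bit l m (kap1 s s')
  set K2 := bit l m (kap2 t t')
  have hX : X ∈ center T := D.ccen c
  have hX' : X' ∈ center T := D.ccen c'
  have hY : Y ∈ center T := D.ccen _
  have hK1 : K1 ∈ center T := D.ccen _
  have hK2 : K2 ∈ center T := D.ccen _
  symm
  calc A * B * X * (A' * B' * X') = A * B * (X * A') * B' * X' := by group
    _ = A * B * (A' * X) * B' * X' := by rw [cz hX A']
    _ = A * (B * A') * X * B' * X' := by group
    _ = A * (A' * B * Y) * X * B' * X' := by rw [h1]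
    _ = (A * A') * B * (Y * X) * B' * X' := by group
    _ = (A * A') * B * (B' * (Y * X)) * X' := by rw [cz (mul_mem hY hX) B']; group
    _ = (A * A') * (B * B') * (Y * (X * X')) := by group
    _ = (E * K1) * (G * K2) * (Y * (X * X')) := by rw [h2, h3]
    _ = E * (K1 * G) * K2 * (Y * (X * X')) := by group
    _ = E * (G * K1) * K2 * (Y * (X * X')) := by rw [cz hK1 G]
    _ = _ := by group

theorem UD.comm_b (D : UD a a' b b' l m) (t : GF4) : b * bit b b' t = bit b b' t * b := by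
  unfold bit
  have h1 : Commute b (b ^ t.re.val) := (Commute.refl b).pow_right _
  have h2 : Commute b (b' ^ t.im.val) := (show Commute b b' from D.hbb).pow_right _
  exact (h1.mul_right h2).eq

theorem UD.comm_a (D : UD a a' b b' l m) (s : GF4) : a * bit a a' s = bit a a' s * a := by
  unfold bit
  have h1 : Commute a (a ^ s.re.val) := (Commute.refl a).pow_right _
  have h2 : Commute a (a' ^ s.im.val) := (show Commute a a' from D.haa).pow_right _
  exact (h1.mul_right h2).eq

theorem UD.b_Psi (D : UD a a' b b' l m) (u : GF4 × GF4 × GF4) :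
    b * Psi a a' b b' l m u = Psi a a' b b' l m u * b * bit l m u.1 := by
  obtain ⟨s, t, c⟩ := u
  simp only [Psi]
  have h1 := D.rule 1 s
  rw [bit_one, one_mul] at h1
  have hS : bit l m s ∈ center T := D.ccen s
  calc b * (bit a a' s * bit b b' t * bit l m c) = (b * bit a a' s) * bit b b' t * bit l m c := by group
    _ = (bit a a' s * b * bit l m s) * bit b b' t * bit l m c := by rw [h1]
    _ = bit a a' s * b * (bit l m s * bit b b' t) * bit l m c := by group
    _ = bit a a' s * b * (bit b b' t * bit l m s) * bit l m c := by rw [cz hS]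
    _ = bit a a' s * (b * bit b b' t) * (bit l m s * bit l m c) := by group
    _ = bit a a' s * (bit b b' t * b) * (bit l m s * bit l m c) := by rw [D.comm_b]
    _ = bit a a' s * (bit b b' t * b) * (bit l m c * bit l m s) := by rw [cz hS]
    _ = bit a a' s * bit b b' t * (b * bit l m c) * bit l m s := by group
    _ = bit a a' s * bit b b' t * (bit l m c * b) * bit l m s := by rw [cz (D.ccen c) b]
    _ = _ := by group

theorem UD.a_Psi (D : UD a a' b b' l m) (u : GF4 × GF4 × GF4) :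
    a * Psi a a' b b' l m u = Psi a a' b b' l m u * a * bit l m u.2.1 := by
  obtain ⟨s, t, c⟩ := u
  simp only [Psi]
  have h1 := D.rule t 1
  rw [bit_one, mul_one] at h1
  have hS : bit l m t ∈ center T := D.ccen t
  have hSS : bit l m t * bit l m t = 1 := by
    rw [← D.cadd, gf4_two t, bit_zero]
  have h2 : a * bit b b' t = bit b b' t * a * bit l m t := by
    rw [h1, mul_assoc _ _ (bit l m t), hSS, mul_one]
  calc a * (bit a a' s * bit b b' t * bit l m c) = (a * bit a a' s) * bit b b' t * bit l m c := by group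
    _ = (bit a a' s * a) * bit b b' t * bit l m c := by rw [D.comm_a]
    _ = bit a a' s * (a * bit b b' t) * bit l m c := by group
    _ = bit a a' s * (bit b b' t * a * bit l m t) * bit l m c := by rw [h2]
    _ = bit a a' s * bit b b' t * a * (bit l m t * bit l m c) := by group
    _ = bit a a' s * bit b b' t * a * (bit l m c * bit l m t) := by rw [cz hS]
    _ = bit a a' s * bit b b' t * (a * bit l m c) * bit l m t := by group
    _ = bit a a' s * bit b b' t * (bit l m c * a) * bit l m t := by rw [cz (D.ccen c) a]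
    _ = _ := by group

theorem UD.c_inj (D : UD a a' b b' l m) {c c' : GF4} (h : bit l m c = bit l m c') : c = c' := by
  have h1 : bit l m (c + c') = 1 := by
    rw [D.cadd, h, ← D.cadd, gf4_two c', bit_zero]
  have h2 : c + c' = 0 := by
    generalize c + c' = e at h1
    rcases gf4_cases e with rfl | rfl | rfl | rfl
    · rfl
    · rw [bit_one] at h1; exact (D.hl1 h1).elim
    · rw [bit_w] at h1; exact (D.hm1 h1).elim
    · rw [D.cadd, bit_one, bit_w] at h1
      exfalso
      apply D.hlm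
      have : m⁻¹ = m := inv_eq_of_mul_eq_one_left D.hm2
      rw [← this]
      exact eq_inv_of_mul_eq_one_left h1
  exact gf4_eq c c' h2

theorem UD.Psi_inj (D : UD a a' b b' l m) : Function.Injective (Psi a a' b b' l m) := by
  intro u v h
  have h1 : bit l m u.1 = bit l m v.1 := by
    have h2 := D.b_Psi u
    have h3 := D.b_Psi v
    rw [h, h3] at h2
    exact (mul_left_cancel h2).symm
  have h1' : bit l m u.2.1 = bit l m v.2.1 := by
    have h2 := D.a_Psi u
    have h3 := D.a_Psi v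
    rw [h, h3] at h2
    exact (mul_left_cancel h2).symm
  have h4 := D.c_inj h1
  have h5 := D.c_inj h1'
  obtain ⟨s, t, c⟩ := u
  obtain ⟨s', t', c'⟩ := v
  simp only at h4 h5
  subst h4; subst h5
  have h6 : bit l m c = bit l m c' := by
    simp only [Psi] at h
    exact mul_left_cancel h
  rw [D.c_inj h6]

open Cfsg.Agent.Lib.Classical.Herm.SzModel in
theorem UD.model (D : UD a a' b b' l m) (hT : Nat.card T = 64) :
    ∃ A B : T → GF16, IsSz 4 A B := by
  classical
  have hcard : Nat.card (GF4 × GF4 × GF4) = 64 := by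
    rw [Nat.card_eq_fintype_card, Fintype.card_prod, Fintype.card_prod, card_GF4]
  have hbij : Function.Bijective (Psi a a' b b' l m) :=
    D.Psi_inj.bijective_of_nat_card_le (by rw [hT, hcard])
  let e := Equiv.ofBijective _ hbij
  have he : ∀ u, e.symm (Psi a a' b b' l m u) = u := fun u => e.symm_apply_apply u
  have he' : ∀ y, Psi a a' b b' l m (e.symm y) = y := fun y => e.apply_symm_apply y
  let A : T → GF16 := fun x => ⟨(e.symm x).1, (e.symm x).2.1⟩
  let B : T → GF16 := fun x => gg (e.symm x).1 (e.symm x).2.1 + iota (e.symm x).2.2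
  have hA : ∀ u, A (Psi a a' b b' l m u) = ⟨u.1, u.2.1⟩ := by
    intro u; simp only [A, he]
  have hB : ∀ u, B (Psi a a' b b' l m u) = gg u.1 u.2.1 + iota u.2.2 := by
    intro u; simp only [B, he]
  refine ⟨A, B, ?_, ?_, ?_, ?_, ?_⟩
  · intro x y h1 h2
    obtain ⟨u, rfl⟩ := hbij.2 x
    obtain ⟨v, rfl⟩ := hbij.2 y
    rw [hA, hA] at h1
    rw [hB, hB] at h2
    have h3 : u.1 = v.1 := congrArg QuadraticAlgebra.re h1
    have h4 : u.2.1 = v.2.1 := congrArg QuadraticAlgebra.im h1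
    rw [h3, h4] at h2
    have h5 : iota u.2.2 = iota v.2.2 := add_left_cancel h2
    have h6 : u.2.2 = v.2.2 := congrArg QuadraticAlgebra.re h5
    rw [show u = v from Prod.ext h3 (Prod.ext h4 h6)]
  · intro x
    obtain ⟨u, rfl⟩ := hbij.2 x
    rw [hA, hB]
    exact lem_con _ _ _
  · intro x y hxy
    obtain ⟨z, hz⟩ := lem_surj x y hxy
    refine ⟨Psi a a' b b' l m (x.re, x.im, z), ?_, ?_⟩
    · rw [hA]
    · rw [hB, hz]
  · intro x y
    obtain ⟨u, rfl⟩ := hbij.2 x
    obtain ⟨v, rfl⟩ := hbij.2 y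
    rw [← D.Psi_mul, hA, hA, hA]
    rfl
  · intro x y
    obtain ⟨u, rfl⟩ := hbij.2 x
    obtain ⟨v, rfl⟩ := hbij.2 y
    rw [← D.Psi_mul, hA, hA, hB, hB, hB]
    obtain ⟨s, t, c⟩ := u
    obtain ⟨s', t', c'⟩ := v
    have h1 := lem_star s t s' t'
    simp only [umul]
    have h2 : c + c' + t * s' + kap1 s s' + kap2 t t' = (c + c') + (t * s' + kap1 s s' + kap2 t t') := by ring
    rw [h2, iota_add, iota_add]
    calc gg (s + s') (t + t') + (iota c + iota c' + iota (t * s' + kap1 s s' + kap2 t t'))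
        = (gg (s + s') (t + t') + iota (t * s' + kap1 s s' + kap2 t t')) + (iota c + iota c') := by ring
      _ = _ := by rw [h1]; ring

end Model

section Final

open Cfsg.Agent.Lib.Compute.PSL34 Cfsg.Agent.Lib.Compute.GFModel
open Cfsg.Agent.Lib.Classical.Herm.SzModel

variable {T : Type*} [Group T] [Finite T] {r : T →* T}

theorem hswap_aux (hsp : Sp r) (u v w : T) (h0 : ⁅u, v⁆ = w) (hw : w ∈ center T) : v * u = u * v * w := by
  have h4 : v * u = ⁅v, u⁆ * u * v := swap_rule v u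
  rw [hsp.symm u v, h0] at h4
  rw [h4, cz hw (u * v)]
  group

theorem exists_UD (hsp : Sp r) (hT : Nat.card T = 64) (hna : ¬ ∀ a b : T, a * b = b * a)
    (hinvo : ∀ x : T, x * x = 1 → x ∈ center T) :
    ∃ A B : T → GF16, IsSz 4 A B := by
  have hna' := hna
  push Not at hna'
  obtain ⟨a, g, hag⟩ := hna'
  have haZ : a ∉ center T := fun h0 => hag (mem_center_iff.mp h0 g).symm
  have hμ : ⁅a, g⁆ ≠ 1 := by
    rw [Ne, commutatorElement_eq_one_iff_mul_comm]
    exact hag
  have hcm := hsp.hc a g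
  let l : T := a * a
  have hl : l ∈ center T := hsp.hsq a
  have hl1 : l ≠ 1 := fun h0 => haZ (hinvo a h0)
  have hF3 : ∀ y z : T, ⁅y, r z⁆ = r (r ⁅y, z⁆) := hsp.F3
  -- choosing the second generator
  obtain ⟨b₀, hb₀⟩ : ∃ b₀ : T, ⁅a, b₀⁆ = l := by
    rcases hsp.center_four hcm hμ hl with h1 | h1 | h1 | h1
    · exact (hl1 h1).elim
    · exact ⟨g, h1.symm⟩
    · refine ⟨r (r g), ?_⟩
      rw [hF3, hF3, h1]
      rw [hsp.cub.three]
    · refine ⟨r g, ?_⟩
      rw [hF3, h1]
  have hlc : l * l = 1 := hsp.hexp _ hl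
  have hrl : r l ∈ center T := hsp.cub.center_inv hl
  have hrrl : r (r l) ∈ center T := hsp.cub.center_inv hrl
  have haa : ⁅a, r a⁆ = 1 := by
    rw [commutatorElement_eq_one_iff_mul_comm]
    exact hsp.cub.comm a
  have hsq_ra : r a * r a = r l := by rw [← map_mul]
  have hb₀sym : ⁅b₀, a⁆ = l := by rw [hsp.symm a b₀, hb₀]
  have hb₀ra : ⁅b₀, r a⁆ = r (r l) := by rw [hF3, hb₀sym]
  have hcub : l * r l * r (r l) = 1 := hsp.cub.cubic l
  have hnew : ∀ c : T, ⁅a, c * r a⁆ = ⁅a, c⁆ := by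
    intro c
    rw [comm_mul_right hsp.hc, haa, mul_one]
  have hsqnew : (b₀ * r a) * (b₀ * r a) = (b₀ * b₀) * r l * r (r l) := by
    rw [hsp.sq_mul, hsq_ra, hb₀ra]
  obtain ⟨b, hb, hb2⟩ : ∃ b : T, ⁅a, b⁆ = l ∧ b * b = r (r l) := by
    rcases hsp.center_four hl hl1 (hsp.hsq b₀) with h1 | h1 | h1 | h1
    · exfalso
      have h2 := hinvo b₀ h1
      apply hl1
      rw [← hb₀, commutatorElement_eq_one_iff_mul_comm]
      exact (mem_center_iff.mp h2 a)
    · exfalso
      have h2 : (b₀ * r a) * (b₀ * r a) = 1 := by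
        rw [hsqnew, h1, hcub]
      have h3 := hinvo _ h2
      apply hl1
      rw [← hb₀, ← hnew, commutatorElement_eq_one_iff_mul_comm]
      exact (mem_center_iff.mp h3 a)
    · refine ⟨b₀ * r a, by rw [hnew, hb₀], ?_⟩
      rw [hsqnew, h1]
      have : r l * r l = 1 := hsp.hexp _ hrl
      rw [this, one_mul]
    · exact ⟨b₀, hb₀, h1⟩
  have hcm' : ⁅a, b⁆ ∈ center T := hsp.hc a b
  have hD : UD a (r a) b (r b) l (r (r l)) := by
    have h1 : ⁅a, r b⁆ = r (r l) := by rw [hF3, hb]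
    have h1' : ⁅r a, b⁆ = r (r l) := by rw [hsp.F2, h1]
    have h1'' : ⁅r a, r b⁆ = l * r (r l) := by
      rw [← map_commutatorElement, hb, ← hsp.r_eq hl]
    refine ⟨hsp.cub.comm a, hsp.cub.comm b, hl, hrrl, hlc, hsp.hexp _ hrrl, hl1,
      hsp.r_ne_one (hsp.r_ne_one hl1), (hsp.ne_rr hl1).symm, ?_, ?_, ?_, ?_, rfl, ?_, hb2, ?_⟩
    · exact hswap_aux hsp _ _ _ hb hl
    · exact hswap_aux hsp _ _ _ h1 hrrl
    · exact hswap_aux hsp _ _ _ h1' hrrl
    · exact hswap_aux hsp _ _ _ h1'' (mul_mem hl hrrl)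
    · rw [hsq_ra, ← hsp.r_eq hl]
    · rw [← map_mul, hb2, hsp.cub.three]
  exact hD.model hT

theorem exists_HD (hsp : Sp r) (hT : Nat.card T = 64) {a : T} (ha : a * a = 1) (haZ : a ∉ center T) :
    ∃ S : Sylow 2 P3, Nonempty (T ≃* ↥(S : Subgroup P3)) := by
  have hex : ∃ g : T, ⁅a, g⁆ ≠ 1 := by
    by_contra hno
    push Not at hno
    apply haZ
    rw [mem_center_iff]
    intro g
    have := hno g
    rw [commutatorElement_eq_one_iff_mul_comm] at this
    exact this.symm
  obtain ⟨g, hg⟩ := hex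
  obtain ⟨b, hb, hab⟩ := hsp.exists_pair ha hg
  have hcm := hsp.hc a b
  have hD : HD a (r a) b (r b) ⁅a, b⁆ (r (r ⁅a, b⁆)) := by
    have hrr : r (r ⁅a, b⁆) ∈ center T := hsp.cub.center_inv (hsp.cub.center_inv hcm)
    have h1 : ⁅a, r b⁆ = r (r ⁅a, b⁆) := hsp.F3 a b
    have h1' : ⁅r a, b⁆ = r (r ⁅a, b⁆) := by rw [hsp.F2, h1]
    have h1'' : ⁅r a, r b⁆ = ⁅a, b⁆ * r (r ⁅a, b⁆) := by
      rw [← map_commutatorElement, ← hsp.r_eq hcm]
    refine ⟨ha, by rw [← map_mul, ha, map_one], hb, by rw [← map_mul, hb, map_one], hsp.cub.comm a,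
      hsp.cub.comm b, hcm, hrr, hsp.hexp _ hcm, hsp.hexp _ hrr, hab, ?_, ?_, ?_, ?_, ?_, ?_⟩
    · exact hsp.r_ne_one (hsp.r_ne_one hab)
    · exact (hsp.ne_rr hab).symm
    · exact hswap_aux hsp _ _ _ rfl hcm
    · exact hswap_aux hsp _ _ _ h1 hrr
    · exact hswap_aux hsp _ _ _ h1' hrr
    · exact hswap_aux hsp _ _ _ h1'' (mul_mem hcm hrr)
  exact hD.result hT

/-- The classification of the nonabelian case, with an equivalence to the models. -/
theorem final64 (hcub : Cub r) (hT : Nat.card T = 64) (hna : ¬ ∀ a b : T, a * b = b * a) :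
    (∃ (F : Type) (_ : Field F) (_ : Fintype F), Fintype.card F = 4 ∧ ∀ P : Sylow 2 (Matrix.ProjectiveSpecialLinearGroup (Fin 3) F), Nonempty (T ≃* ↥(P : Subgroup (Matrix.ProjectiveSpecialLinearGroup (Fin 3) F)))) ∨
    (∃ (F : Type) (_ : Field F) (_ : Fintype F), Fintype.card F = 16 ∧ ∀ P : Sylow 2 (Cfsg.PSU 3 F 4), Nonempty (T ≃* ↥(P : Subgroup (Cfsg.PSU 3 F 4)))) := by
  have hsp : Sp r := Sp.of_cub hcub hT hna
  by_cases hinvo : ∀ x : T, x * x = 1 → x ∈ center T
  · right
    obtain ⟨A, B, hm⟩ := exists_UD hsp hT hna hinvo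
    refine ⟨GF16, inferInstance, inferInstance, card_GF16, ?_⟩
    intro P
    haveI : CharP GF16 2 := charP_two (n := 2) (by norm_num) (by rw [card_GF16]; norm_num)
    obtain ⟨A', B', hm'⟩ := exists_model_PSU (q := 4) (by rw [card_GF16]; norm_num) (by norm_num) P
    obtain ⟨φ, _⟩ := hm.exists_equiv hm'
    exact ⟨φ⟩
  · left
    push Not at hinvo
    obtain ⟨a, ha, haZ⟩ := hinvo
    obtain ⟨S, ⟨hS⟩⟩ := exists_HD hsp hT ha haZ
    refine ⟨GF4, inferInstance, inferInstance, card_GF4, ?_⟩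
    intro P
    exact ⟨hS.trans (Sylow.equiv S P)⟩

end Final


/-- Let T be a 2-subgroup of a finite group G, V ≤ Z(T) a four-group, and t, ρ ∈ N_G(V) ∩ N_G(T) elements of order 2 and 3 with t commuting with ρ and with V. If [V, ρ] = V and C_T(t) = V, then T is elementary abelian of order 16, or homocyclic of rank 2 (ℤ/2ⁿ × ℤ/2ⁿ for some n ≥ 1), or isomorphic to a Sylow 2-subgroup of PSL₃(4) or of PSU₃(4). -/
theorem result {G : Type*} [Group G] [Finite G] (T V : Subgroup G) (hT : IsPGroup 2 ↥T) (hVT : V ≤ T ⊓ Subgroup.centralizer (T : Set G)) (hV : Nat.card ↥V = 4 ∧ ∀ v ∈ V, v ^ 2 = 1) (t ρ : G) (ht : orderOf t = 2) (hρ : orderOf ρ = 3) (htn : t ∈ Subgroup.normalizer (V : Set G) ⊓ Subgroup.normalizer (T : Set G)) (hρn : ρ ∈ Subgroup.normalizer (V : Set G) ⊓ Subgroup.normalizer (T : Set G)) (htρ : t * ρ = ρ * t) (htV : t ∈ Subgroup.centralizer (V : Set G)) (hVρ : ⁅V, Subgroup.zpowers ρ⁆ = V) (hCt : T ⊓ Subgroup.centralizer ({t} : Set G) = V) : (Nat.card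 ↥T = 16 ∧ ∀ x ∈ T, x ^ 2 = 1) ∨ (∃ n : ℕ, 1 ≤ n ∧ Nonempty (↥T ≃* Multiplicative (ZMod (2 ^ n)) × Multiplicative (ZMod (2 ^ n)))) ∨ (∃ (F : Type) (_ : Field F) (_ : Fintype F), Fintype.card F = 4 ∧ ∀ P : Sylow 2 (Matrix.ProjectiveSpecialLinearGroup (Fin 3) F), Nonempty (↥T ≃* ↥(P : Subgroup (Matrix.ProjectiveSpecialLinearGroup (Fin 3) F)))) ∨ (∃ (F : Type) (_ : Field F) (_ : Fintype F), Fintype.card F = 16 ∧ ∀ P : Sylow 2 (Cfsg.PSU 3 F 4), Nonempty (↥T ≃* ↥(P : Subgroup (Cfsg.PSU 3 F 4)))) := by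
  classical
  have hTn : ∀ x : T, ρ * x * ρ⁻¹ ∈ T := fun x => (mem_normalizer_iff.mp hρn.2 x).mp x.2
  have hTt : ∀ x : T, t * x * t⁻¹ ∈ T := fun x => (mem_normalizer_iff.mp htn.2 x).mp x.2
  let r : T →* T := MonoidHom.mk' (fun x => ⟨ρ * x * ρ⁻¹, hTn x⟩) (by
    intro a b
    apply Subtype.ext
    show ρ * ((a : G) * b) * ρ⁻¹ = ρ * a * ρ⁻¹ * (ρ * b * ρ⁻¹)
    group)
  let τ : T →* T := MonoidHom.mk' (fun x => ⟨t * x * t⁻¹, hTt x⟩) (by
    intro a b
    apply Subtype.ext
    show t * ((a : G) * b) * t⁻¹ = t * a * t⁻¹ * (t * b * t⁻¹)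
    group)
  have hrv : ∀ x : T, ((r x : T) : G) = ρ * x * ρ⁻¹ := fun _ => rfl
  have hτv : ∀ x : T, ((τ x : T) : G) = t * x * t⁻¹ := fun _ => rfl
  have hρ3 : ρ ^ 3 = 1 := by rw [← hρ]; exact pow_orderOf_eq_one ρ
  have ht2 : t ^ 2 = 1 := by rw [← ht]; exact pow_orderOf_eq_one t
  have hρ3' : ρ * ρ * ρ = 1 := by rw [← hρ3]; simp only [pow_succ, pow_zero, one_mul]
  have ht2' : t * t = 1 := by rw [← ht2, pow_two]
  have hthree : ∀ y : T, r (r (r y)) = y := by
    intro y
    apply Subtype.ext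
    simp only [hrv]
    calc ρ * (ρ * (ρ * (y : G) * ρ⁻¹) * ρ⁻¹) * ρ⁻¹ = (ρ * ρ * ρ) * y * (ρ * ρ * ρ)⁻¹ := by group
      _ = y := by rw [hρ3']; group
  have hinv : ∀ y : T, τ (τ y) = y := by
    intro y
    apply Subtype.ext
    simp only [hτv]
    calc t * (t * (y : G) * t⁻¹) * t⁻¹ = (t * t) * y * (t * t)⁻¹ := by group
      _ = y := by rw [ht2']; group
  have hrt : ∀ y : T, r (τ y) = τ (r y) := by
    intro y
    apply Subtype.ext
    simp only [hrv, hτv]
    have h1 : t⁻¹ * ρ⁻¹ = ρ⁻¹ * t⁻¹ := by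
      rw [← mul_inv_rev, ← mul_inv_rev, htρ]
    calc ρ * (t * (y : G) * t⁻¹) * ρ⁻¹ = (ρ * t) * y * (t⁻¹ * ρ⁻¹) := by group
      _ = (t * ρ) * y * (ρ⁻¹ * t⁻¹) := by rw [h1, htρ]
      _ = _ := by group
  -- the fixed points of τ
  let F : Subgroup T := V.subgroupOf T
  have hVT' : V ≤ T := fun v hv => (hVT hv).1
  have hfix : ∀ x : T, x ∈ F ↔ τ x = x := by
    intro x
    rw [Subgroup.mem_subgroupOf, ← hCt, Subtype.ext_iff, hτv]
    constructor
    · rintro ⟨_, h2⟩
      have h3 := mem_centralizer_singleton_iff.mp h2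
      rw [← h3]
      group
    · intro h1
      refine ⟨x.2, mem_centralizer_singleton_iff.mpr ?_⟩
      calc (x : G) * t = (t * x * t⁻¹) * t := by rw [h1]
        _ = t * x := by group
  have hF4 : Nat.card F = 4 := by
    rw [Nat.card_congr (Subgroup.subgroupOfEquivOfLe hVT').toEquiv]
    exact hV.1
  have hFZ : F ≤ center T := by
    intro x hx
    rw [Subgroup.mem_subgroupOf] at hx
    rw [mem_center_iff]
    intro g
    apply Subtype.ext
    have h1 := (hVT hx).2
    exact Subgroup.mem_centralizer_iff.mp h1 g g.2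
  have hρV : ∀ v ∈ V, ρ * v * ρ⁻¹ ∈ V := fun v hv => (mem_normalizer_iff.mp hρn.1 v).mp hv
  -- `r` has no fixed points
  have hfpf : ∀ y : T, r y = y → y = 1 := by
    intro y hy
    by_contra hy1
    let C : Subgroup T := fixSub r
    obtain ⟨x, hxC, hx1, hxτ⟩ := exists_fix hT C τ hinv (by
      intro x hx
      have h1 : r x = x := hx
      show r (τ x) = τ x
      rw [hrt, h1]) ⟨y, hy, hy1⟩
    have hxF : x ∈ F := (hfix x).mpr hxτ
    have hxr : r x = x := hxC
    -- `r` acts trivially on `F`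
    have hrF : ∀ u ∈ F, r u ∈ F := by
      intro u hu
      rw [hfix] at hu ⊢
      rw [← hrt, hu]
    have htriv : ∀ u ∈ F, r u = u := by
      intro u hu
      -- the elements `u`, `u * x` are the only ones in the coset
      by_contra hne
      have hrne : r u ≠ u := hne
      have hc4 : ∀ z ∈ F, z = 1 ∨ z = x ∨ z = u ∨ z = r u := by
        intro z hz
        by_contra hz'
        push Not at hz'
        obtain ⟨h1, h2, h3, h4⟩ := hz'
        have hu1 : u ≠ 1 := by
          rintro rfl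
          exact hne (map_one r)
        have hux : u ≠ x := by
          rintro rfl
          exact hne hxr
        have hru1 : r u ≠ 1 := fun h0 => hu1 (by
          have h5 := congrArg (fun a => r (r a)) h0
          simpa only [hthree, map_one] using h5)
        have hrux : r u ≠ x := fun h0 => hux (by
          have h5 := congrArg (fun a => r (r a)) h0
          simpa only [hthree, hxr] using h5)
        let s : Finset T := {1, x, u, r u, z}
        have hcard : s.card = 5 := by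
          have e1 : (1 : T) ∉ ({x, u, r u, z} : Finset T) := by
            simp only [Finset.mem_insert, Finset.mem_singleton, not_or]
            exact ⟨hx1.symm, hu1.symm, hru1.symm, h1.symm⟩
          have e2 : x ∉ ({u, r u, z} : Finset T) := by
            simp only [Finset.mem_insert, Finset.mem_singleton, not_or]
            exact ⟨hux.symm, hrux.symm, h2.symm⟩
          have e3 : u ∉ ({r u, z} : Finset T) := by
            simp only [Finset.mem_insert, Finset.mem_singleton, not_or]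
            exact ⟨hrne.symm, h3.symm⟩
          have e4 : r u ∉ ({z} : Finset T) := by
            simp only [Finset.mem_singleton]
            exact h4.symm
          simp only [s]
          rw [Finset.card_insert_of_notMem e1, Finset.card_insert_of_notMem e2,
            Finset.card_insert_of_notMem e3, Finset.card_insert_of_notMem e4, Finset.card_singleton]
        have hsub : (s : Set T) ⊆ (F : Set T) := by
          intro w hw
          simp only [s, Finset.coe_insert, Finset.coe_singleton, Set.mem_insert_iff, Set.mem_singleton_iff] at hw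
          rcases hw with rfl | rfl | rfl | rfl | rfl
          · exact one_mem F
          · exact hxF
          · exact hu
          · exact hrF _ hu
          · exact hz
        have h5 := Set.ncard_le_ncard hsub (Set.toFinite _)
        rw [Set.ncard_coe_finset, hcard] at h5
        have h6 : (F : Set T).ncard = 4 := by
          rw [← Nat.card_coe_set_eq]
          exact hF4
        omega
      have hrru := hrF _ (hrF _ hu)
      rcases hc4 _ hrru with h1 | h1 | h1 | h1
      · have h5 := congrArg r h1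
        rw [hthree, map_one] at h5
        rw [h5, map_one] at hne
        exact hne rfl
      · have h5 := congrArg r h1
        rw [hthree, hxr] at h5
        have h6 : r u = x := by
          have h7 := congrArg r h5
          rw [hxr] at h7
          have h8 := congrArg r h1
          rw [hthree, hxr] at h8
          -- `u = x`, so `r u = x`
          rw [h5, hxr] at *
        rw [h5, hxr] at hne
        exact hne rfl
      · have h5 := congrArg r h1
        rw [hthree] at h5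
        exact hne (h5 ▸ rfl)
      · have h5 : r u = u := by
          have h6 : r (r u) = r u := h1
          have h7 := congrArg (fun a => r (r a)) h6
          simp only [hthree] at h7
          exact h7
        exact hne h5
    -- contradiction with `[V, ρ] = V`
    have hle : ⁅V, zpowers ρ⁆ ≤ ⊥ := by
      rw [Subgroup.commutator_le]
      intro v hv z hz
      obtain ⟨k, rfl⟩ := mem_zpowers_iff.mp hz
      have h1 := htriv ⟨v, hVT' hv⟩ hv
      have h2 : ρ * v * ρ⁻¹ = v := congrArg Subtype.val h1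
      have h3 : Commute v ρ := by
        show v * ρ = ρ * v
        calc v * ρ = (ρ * v * ρ⁻¹) * ρ := by rw [h2]
          _ = ρ * v := by group
      rw [Subgroup.mem_bot, commutatorElement_eq_one_iff_mul_comm]
      exact h3.zpow_right k
    rw [hVρ] at hle
    have hVbot : V = ⊥ := le_bot_iff.mp hle
    rw [hVbot] at hV
    simp at hV
  have hcubic : ∀ y : T, y * r y * r (r y) = 1 := by
    have hinj : Function.Injective (fun y : T => y⁻¹ * r y) := by
      intro y w hyw
      simp only at hyw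
      have h1 : w * y⁻¹ = r (w * y⁻¹) := by
        rw [map_mul, map_inv]
        have h7 : w * (y⁻¹ * r y) = w * (w⁻¹ * r w) := by rw [hyw]
        calc w * y⁻¹ = w * (y⁻¹ * r y) * (r y)⁻¹ := by group
          _ = w * (w⁻¹ * r w) * (r y)⁻¹ := by rw [h7]
          _ = r w * (r y)⁻¹ := by group
      have h8 := hfpf _ h1.symm
      exact (mul_inv_eq_one.mp h8).symm
    have hsurj := Finite.injective_iff_surjective.mp hinj
    intro y
    obtain ⟨z, rfl⟩ := hsurj y
    simp only [map_mul, map_inv, hthree]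
    group
  have hAct : Act r τ F := ⟨⟨hthree, hcubic, hT⟩, hinv, hrt, hfix, hF4⟩
  by_cases hab : ∀ a b : T, a * b = b * a
  · by_cases hinvo : ∀ x : T, x * x = 1 → x ∈ F
    · right; left
      obtain ⟨g, n, hn, h1, h2, h3, h4⟩ := abel_small hAct hab hinvo
      exact ⟨n, hn, homocyclic_iso hab h1 h2 h3 h4⟩
    · left
      push Not at hinvo
      obtain ⟨w₀, h1, h2⟩ := hinvo
      obtain ⟨h3, h4, _⟩ := abel_big hAct hab h1 h2
      refine ⟨h3, fun x hx => ?_⟩
      have h5 := h4 ⟨x, hx⟩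
      have h6 := congrArg Subtype.val h5
      rw [pow_two]
      exact h6
  · right; right
    have h64 := nonab hAct hFZ hab
    exact final64 hAct.cub h64 hab

end Cfsg.Agent.S2933
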