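import Cfsg.Statements.S2968
import Cfsg.Agent.Lib.PGroup.Basic

set_option autoImplicit false
open Cfsg

namespace Cfsg.Agent.S2968

open Cfsg.Agent.Lib.PGroup

theorem central_of_isolated {G : Type*} [Group G] [Finite G] {p : ℕ} [Fact p.Prime]
    (T : Subgroup G) (hT : IsPGroup p T) (x : G) (hxT : x ∈ T) (hiso : Cfsg.IsIsolated x) :
    ∀ g ∈ T, g * x = x * g := by
  by_contra hcon
  push Not at hcon
  obtain ⟨g0, hg0, hne⟩ := hcon
  set C : Subgroup G := T ⊓ Subgroup.centralizer ({x} : Set G) with hC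
  have hlt : C < T := by
    refine lt_of_le_of_ne inf_le_left (fun h => ?_)
    have : g0 ∈ C := h ▸ hg0
    have h2 := (Subgroup.mem_inf.1 this).2
    rw [Subgroup.mem_centralizer_singleton_iff] at h2
    exact hne h2
  obtain ⟨g, hgT, hgC, hgN⟩ := Basic.exists_mem_normalizer_of_lt hT hlt
  have hxC : x ∈ C := Subgroup.mem_inf.2 ⟨hxT, by
    rw [Subgroup.mem_centralizer_singleton_iff]⟩
  have h1 : g * x * g⁻¹ ∈ C := (Subgroup.mem_normalizer_iff.1 hgN x).1 hxC
  have h2 := (Subgroup.mem_inf.1 h1).2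
  rw [Subgroup.mem_centralizer_singleton_iff] at h2
  have h3 := hiso g h2.symm
  apply hgC
  refine Subgroup.mem_inf.2 ⟨hgT, ?_⟩
  rw [Subgroup.mem_centralizer_singleton_iff]
  rw [mul_inv_eq_iff_eq_mul] at h3
  exact h3

theorem exists_sylow_mem {H : Type*} [Group H] [Finite H] {p : ℕ} [Fact p.Prime] (a : H) (k : ℕ)
    (ha : orderOf a = p ^ k) : ∃ S : Sylow p H, a ∈ (S : Subgroup H) := by
  have h1 : IsPGroup p (Subgroup.zpowers a) := by
    rw [IsPGroup.iff_card]
    exact ⟨k, by rw [Nat.card_zpowers, ha]⟩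
  obtain ⟨S, hS⟩ := h1.exists_le_sylow
  exact ⟨S, hS (Subgroup.mem_zpowers a)⟩

theorem result {G : Type*} [Group G] [Finite G] {p : ℕ} [Fact p.Prime] (P : Sylow p G) (x : G) (hxP : x ∈ (P : Subgroup G)) (hx : ∃ k : ℕ, orderOf x = p ^ k) (hiso : Cfsg.IsIsolated x) : x ∈ (P : Subgroup G) ⊓ Subgroup.centralizer ((P : Subgroup G) : Set G) ∧ Cfsg.IsStronglyClosed (Subgroup.zpowers x) (P : Subgroup G) ∧ Cfsg.IsWeaklyClosed (Subgroup.zpowers x) (P : Subgroup G) := by
  obtain ⟨k, hk⟩ := hx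
  have hcent := central_of_isolated (P : Subgroup G) P.isPGroup' x hxP hiso
  have hle : Subgroup.zpowers x ≤ (P : Subgroup G) := Subgroup.zpowers_le.2 hxP
  have hstrong : Cfsg.IsStronglyClosed (Subgroup.zpowers x) (P : Subgroup G) := by
    refine ⟨hle, ?_⟩
    intro y hy g hw
    obtain ⟨n, rfl⟩ := Subgroup.mem_zpowers_iff.1 hy
    set w := g * x ^ n * g⁻¹ with hwdef
    have hxw : x ∈ Subgroup.centralizer ({w} : Set G) := by
      rw [Subgroup.mem_centralizer_singleton_iff]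
      exact (hcent w hw).symm
    have hx'w : g * x * g⁻¹ ∈ Subgroup.centralizer ({w} : Set G) := by
      rw [Subgroup.mem_centralizer_singleton_iff, hwdef, ← conj_zpow]
      exact ((Commute.refl (g * x * g⁻¹)).zpow_left n).eq.symm
    set Cw := Subgroup.centralizer ({w} : Set G) with hCw
    obtain ⟨S, hS⟩ := exists_sylow_mem (⟨x, hxw⟩ : Cw) k (by
      rw [Subgroup.orderOf_mk, hk])
    obtain ⟨S', hS'⟩ := exists_sylow_mem (⟨g * x * g⁻¹, hx'w⟩ : Cw) k (by
      rw [Subgroup.orderOf_mk, ← hk]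
      exact orderOf_injective (MulAut.conj g).toMonoidHom (MulEquiv.injective _) x)
    obtain ⟨c, hc⟩ := MulAction.exists_smul_eq Cw S' S
    have hcS : c * (⟨g * x * g⁻¹, hx'w⟩ : Cw) * c⁻¹ ∈ (S : Subgroup Cw) := by
      rw [← hc, Sylow.coe_subgroup_smul]
      exact Subgroup.smul_mem_pointwise_smul _ (MulAut.conj c) _ hS'
    have hT : IsPGroup p ((S : Subgroup Cw).map Cw.subtype) := S.isPGroup'.map _
    have h1 := central_of_isolated _ hT x ⟨_, hS, rfl⟩ hiso
      ((c : G) * (g * x * g⁻¹) * (c : G)⁻¹) ⟨_, hcS, rfl⟩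
    have h2 := hiso ((c : G) * g) (by
      show x * ((c : G) * g * x * ((c : G) * g)⁻¹) = ((c : G) * g * x * ((c : G) * g)⁻¹) * x
      have h3 : (c : G) * g * x * ((c : G) * g)⁻¹ = (c : G) * (g * x * g⁻¹) * (c : G)⁻¹ := by group
      rw [h3]
      exact h1.symm)
    have hcw : (c : G) * w * (c : G)⁻¹ = w := by
      have := (Subgroup.mem_centralizer_singleton_iff.1 (show (c : G) ∈ Subgroup.centralizer ({w} : Set G) from c.2))
      rw [mul_inv_eq_iff_eq_mul]
      exact this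
    have h5 : w = x ^ n := by
      rw [← hcw, hwdef]
      have h6 : (c : G) * (g * x ^ n * g⁻¹) * (c : G)⁻¹ =
          (c : G) * g * x ^ n * ((c : G) * g)⁻¹ := by group
      rw [h6, ← conj_zpow, h2]
    rw [h5]
    exact Subgroup.zpow_mem_zpowers x n
  refine ⟨Subgroup.mem_inf.2 ⟨hxP, ?_⟩, hstrong, hle, ?_⟩
  · rw [Subgroup.mem_centralizer_iff]
    intro g hg
    exact hcent g hg
  · intro g hg
    have h1 : (Subgroup.zpowers x).map (MulAut.conj g).toMonoidHom ≤ Subgroup.zpowers x := by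
      rintro _ ⟨y, hy, rfl⟩
      exact hstrong.2 y hy g (hg ⟨y, hy, rfl⟩)
    apply Subgroup.eq_of_le_of_card_ge h1
    rw [Subgroup.card_map_of_injective (MulAut.conj g).injective]

end Cfsg.Agent.S2968
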