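import Mathlib
import Cfsg.Prelude.Def_IsolatedElements
import Cfsg.Agent.Lib.Perm.SylowIn
import Cfsg.Agent.Lib.PGroup.Basic

set_option autoImplicit false

namespace Cfsg.Agent.S2969

open Subgroup Cfsg Cfsg.Agent.Lib.Perm.SylowIn

variable {G : Type*} [Group G] [Finite G] {p : ℕ} [Fact p.Prime]

/-- An isolated element lying in a `p`-subgroup is central in it. -/
theorem central_of_isolated {x : G} (hiso : Cfsg.IsIsolated x) {R : Subgroup G} (hR : IsPGroup p R)
    (hx : x ∈ R) : ∀ r ∈ R, Commute x r := by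
  by_contra hcon
  push Not at hcon
  obtain ⟨r0, hr0, hr0c⟩ := hcon
  -- `C = C_R(x)` is properly contained in `R`
  have hlt : R ⊓ centralizer ({x} : Set G) < R := by
    refine lt_of_le_of_ne inf_le_left ?_
    intro he
    apply hr0c
    have : r0 ∈ R ⊓ centralizer ({x} : Set G) := by rw [he]; exact hr0
    have h2 := Subgroup.mem_centralizer_iff.mp this.2 x (Set.mem_singleton x)
    exact h2
  obtain ⟨y, hyR, hyC, hyN⟩ := Cfsg.Agent.Lib.PGroup.Basic.exists_mem_normalizer_of_lt hR hlt
  apply hyC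
  have hxC : x ∈ R ⊓ centralizer ({x} : Set G) := by
    refine ⟨hx, Subgroup.mem_centralizer_iff.mpr ?_⟩
    intro h hh
    rw [Set.mem_singleton_iff] at hh
    rw [hh]
  -- `y x y⁻¹` is in `C`, and centralizes `C`, since `x` does
  have hconj : y * x * y⁻¹ ∈ R ⊓ centralizer ({x} : Set G) := (mem_normalizer_iff.mp hyN x).mp hxC
  have hcomm : Commute x (y * x * y⁻¹) :=
    (Subgroup.mem_centralizer_iff.mp hconj.2 x (Set.mem_singleton x)).symm.symm
  have hfix := hiso y hcomm.symm.symm
  refine ⟨hyR, Subgroup.mem_centralizer_iff.mpr ?_⟩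
  intro h hh
  rw [Set.mem_singleton_iff] at hh
  rw [hh]
  rw [mul_inv_eq_iff_eq_mul] at hfix
  exact hfix.symm

/-- Let G be a finite group, p a prime and x ∈ G an element of p-power order which is isolated in G. If R is a p-subgroup of G containing x, then N_G(R) ≤ C_G(x); in particular x lies in the centre of R. Moreover, if x lies in a normal subgroup N of a subgroup H of G, then H = N·C_H(x). -/
theorem result {G : Type*} [Group G] [Finite G] {p : ℕ} [Fact p.Prime] (x : G) (hx : ∃ k : ℕ, orderOf x = p ^ k) (hiso : Cfsg.IsIsolated x) : (∀ R : Subgroup G, IsPGroup p ↥R → x ∈ R → Subgroup.normalizer (R : Set G) ≤ Subgroup.centralizer ({x} : Set G)) ∧ (∀ H N : Subgroup G, N ≤ H → H ≤ Subgroup.normalizer (N : Set G) → x ∈ N → N ⊔ (H ⊓ Subgroup.centralizer ({x} : Set G)) = H) := by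
  have part1 : ∀ R : Subgroup G, IsPGroup p ↥R → x ∈ R →
      Subgroup.normalizer (R : Set G) ≤ Subgroup.centralizer ({x} : Set G) := by
    intro R hR hxR g hg
    have hconj : g * x * g⁻¹ ∈ R := (mem_normalizer_iff.mp hg x).mp hxR
    have hfix := hiso g (central_of_isolated hiso hR hxR _ hconj)
    refine Subgroup.mem_centralizer_iff.mpr ?_
    intro h hh
    rw [Set.mem_singleton_iff] at hh
    rw [hh]
    rw [mul_inv_eq_iff_eq_mul] at hfix
    exact hfix.symm
  refine ⟨part1, ?_⟩
  intro H N hNH hHN hxN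
  apply le_antisymm (sup_le hNH inf_le_left)
  intro h hh
  -- a Sylow subgroup of `N` containing `x`
  have hzp : IsPGroup p (zpowers (⟨x, hxN⟩ : N)) := by
    obtain ⟨k, hk⟩ := hx
    rw [IsPGroup.iff_card, Nat.card_zpowers, Subgroup.orderOf_mk]
    exact ⟨k, hk⟩
  obtain ⟨S, hS⟩ := hzp.exists_le_sylow
  have hQ : IsSylowIn p ((S : Subgroup N).map N.subtype) N := by
    refine ⟨?_, S.isPGroup'.map _, ?_⟩
    · rintro _ ⟨y, _, rfl⟩
      exact y.2
    · have : ((S : Subgroup N).map N.subtype).relIndex N = (S : Subgroup N).index := by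
        rw [Subgroup.relIndex, Subgroup.subgroupOf,
          Subgroup.comap_map_eq_self_of_injective N.subtype_injective]
      rw [this]
      exact S.not_dvd_index
  have hxQ : x ∈ (S : Subgroup N).map N.subtype :=
    ⟨⟨x, hxN⟩, hS (mem_zpowers _), rfl⟩
  obtain ⟨n, hn, hnh⟩ := hQ.exists_mem_mul_mem_normalizer h (fun q hq =>
    (mem_normalizer_iff.mp (hHN hh) q).mp (hQ.le hq))
  have hc := part1 _ hQ.isPGroup hxQ hnh
  have e : h = n⁻¹ * (n * h) := by group
  rw [e]
  exact mul_mem (mem_sup_left (inv_mem hn))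
    (mem_sup_right ⟨H.mul_mem (hNH hn) hh, hc⟩)

end Cfsg.Agent.S2969
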