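import Cfsg.Statements.S2975
import Cfsg.Agent.S2969
import Cfsg.Agent.Lib.Coprime.InvSylow
import Cfsg.Agent.Lib.Coprime.Three
import Cfsg.Agent.Lib.PGroup.Basic
import Cfsg.Agent.Lib.Basic.PCore
import Cfsg.Agent.Lib.Solvable.PSeries
import Mathlib

set_option autoImplicit false
open Cfsg

namespace Cfsg.Agent.S2975

open Cfsg.Agent.Lib.Coprime.Three Cfsg.Agent.Lib.Coprime.InvSylow

/-- An element of a `q`-subgroup generates a `q`-group. -/
theorem isPGroup_zpowers_of_pow {G : Type*} [Group G] {q k : ℕ} {y : G} (hy : y ^ q ^ k = 1) :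
    IsPGroup q (Subgroup.zpowers y) := by
  rintro ⟨_, i, rfl⟩
  refine ⟨k, ?_⟩
  apply Subtype.ext
  show (y ^ i) ^ q ^ k = 1
  rw [← zpow_natCast, ← zpow_mul, mul_comm, zpow_mul, zpow_natCast, hy, one_zpow]

/-- Let G be a finite group, p a prime and x ∈ G an isolated element of order p (the only conjugate of x commuting with x is x) which is not central modulo the largest normal subgroup of order prime to p, while x is central modulo the largest normal subgroup of order prime to p in every proper subgroup containing x, and the image of x is so in every quotient of G by a nontrivial normal subgroup (a minimal counterexample to the Z*_p statement). Then for every prime q, every q-subgroup of G that is normalized by x and maximal among the q-subgroups normalized by x is either trivial or a Sylow q-subgroup of G; and C_G(x) permutes the x-invariant Sylow q-subgroups of G transitively by conjugation. -/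
theorem result {G : Type*} [Group G] [Finite G] {p : ℕ} [Fact p.Prime] (x : G) (hx : orderOf x = p) (hiso : Cfsg.IsIsolated x) (hnz : ¬ Cfsg.InZStar p x) (hmin : ∀ (H : Subgroup G) (hxH : x ∈ H), H ≠ ⊤ → Cfsg.InZStar p (⟨x, hxH⟩ : ↥H)) (hquot : ∀ (N : Subgroup G) [N.Normal], N ≠ ⊥ → Cfsg.InZStar p (QuotientGroup.mk x : G ⧸ N)) (q : ℕ) [Fact q.Prime] : (∀ Q : Subgroup G, IsPGroup q ↥Q → x ∈ Subgroup.normalizer (Q : Set G) → (∀ R : Subgroup G, IsPGroup q ↥R → x ∈ Subgroup.normalizer (R : Set G) → Q ≤ R → R = Q) → Q = ⊥ ∨ ∃ S : Sylow q G, (S : Subgroup G) = Q) ∧ (∀ S₁ S₂ : Sylow q G, x ∈ Subgroup.normalizer ((S₁ : Subgroup G) : Set G) → x ∈ Subgroup.normalizer ((S₂ : Subgroup G) : Set G) → ∃ c ∈ Subgroup.centralizer ({x} : Set G), (S₁ : Subgroup G).map (MulAut.conj c).toMonoidHom = (S₂ : Subgroup G)) := by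
  classical
  have hpp : p.Prime := Fact.out
  have hqq : q.Prime := Fact.out
  have hxp : x ^ p = 1 := by rw [← hx]; exact pow_orderOf_eq_one x
  have hxz : IsPGroup p (Subgroup.zpowers x) := isPGroup_zpowers_of_pow (k := 1) (by simpa using hxp)
  refine ⟨?_, ?_⟩
  · intro Q hQ hxQ hmax
    by_cases hQb : Q = ⊥
    · exact Or.inl hQb
    right
    obtain ⟨S, hQS⟩ := hQ.exists_le_sylow
    refine ⟨S, ?_⟩
    by_cases hqp : q = p
    · subst hqp
      have hzN : Subgroup.zpowers x ≤ Subgroup.normalizer (Q : Set G) :=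
        Subgroup.zpowers_le.mpr hxQ
      have hR := hQ.to_sup_of_normal_left' hxz hzN
      have h1 := hmax _ hR (Subgroup.le_normalizer
        ((le_sup_right : Subgroup.zpowers x ≤ Q ⊔ Subgroup.zpowers x) (Subgroup.mem_zpowers x))) le_sup_left
      have hxQ' : x ∈ Q := by
        rw [← h1]
        exact (le_sup_right : Subgroup.zpowers x ≤ Q ⊔ Subgroup.zpowers x) (Subgroup.mem_zpowers x)
      exact hmax S S.isPGroup' (Subgroup.le_normalizer (hQS hxQ')) hQS
    · -- the case `q ≠ p`
      by_contra hne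
      have hlt : Q < S := lt_of_le_of_ne hQS (Ne.symm hne)
      obtain ⟨y, hyS, hyQ, hyN⟩ := Cfsg.Agent.Lib.PGroup.Basic.exists_mem_normalizer_of_lt S.isPGroup' hlt
      set H : Subgroup G := Subgroup.normalizer (Q : Set G) with hH
      have hQH : Q ≤ H := Subgroup.le_normalizer
      have hQpc : ∀ N : Subgroup G, N.Normal → N ≠ ⊥ → IsPGroup q N → False := by
        intro N hNn hN1 hNq
        apply hnz
        have h2 := hquot N hN1
        intro g
        set O := pPrimeCore p (G ⧸ N) with hO
        have hOn : O.Normal := Cfsg.Agent.Lib.Basic.PCore.pPrimeCore_normal p _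
        have hOc : (Nat.card O).Coprime p := Cfsg.Agent.Lib.Solvable.PSeries.pPrimeCore_coprime p
        let W : Subgroup G := O.comap (QuotientGroup.mk' N)
        have hWn : W.Normal := Subgroup.Normal.comap hOn _
        have hWnd : ¬ p ∣ Nat.card W := by
          intro hd
          obtain ⟨w, hw⟩ := exists_prime_orderOf_dvd_card' (G := W) p hd
          have hwO : QuotientGroup.mk' N (w : G) ∈ O := w.2
          have hd1 : orderOf (QuotientGroup.mk' N (w : G)) ∣ p := by
            have h3 : orderOf (w : G) = p := by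
              rw [← hw, Subgroup.orderOf_coe]
            rw [← h3]
            exact orderOf_map_dvd _ _
          have hd2 : orderOf (QuotientGroup.mk' N (w : G)) ∣ Nat.card O :=
            Subgroup.orderOf_dvd_natCard O hwO
          have h4 : orderOf (QuotientGroup.mk' N (w : G)) = 1 := by
            have := Nat.dvd_gcd hd2 hd1
            rw [hOc] at this
            exact Nat.dvd_one.mp this
          have h5 : (w : G) ∈ N := by
            have h6 := orderOf_eq_one_iff.mp h4
            rwa [QuotientGroup.mk'_apply, QuotientGroup.eq_one_iff] at h6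
          have h7 : p ∣ Nat.card N := by
            have h8 : orderOf (w : G) = p := by
              rw [← hw, Subgroup.orderOf_coe]
            rw [← h8]
            exact Subgroup.orderOf_dvd_natCard N h5
          obtain ⟨n, hn⟩ := IsPGroup.iff_card.mp hNq
          rw [hn] at h7
          exact hqp ((Nat.prime_dvd_prime_iff_eq hpp hqq).mp (hpp.dvd_of_dvd_pow h7)).symm
        have hWc : (Nat.card W).Coprime p :=
          ((Nat.Prime.coprime_iff_not_dvd hpp).mpr hWnd).symm
        have hW : W ≤ pPrimeCore p G := Cfsg.Agent.Lib.Basic.PCore.le_pPrimeCore hWn hWc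
        apply hW
        show QuotientGroup.mk' N (g * x * g⁻¹ * x⁻¹) ∈ O
        exact h2 (QuotientGroup.mk g)
      have hHne : H ≠ ⊤ := by
        intro htop
        refine hQpc Q ⟨fun n hn g => ?_⟩ hQb hQ
        exact conj_mem_of_mem_normalizer (by rw [← hH, htop]; trivial) hn
      have hZ := hmin H hxQ hHne
      -- work in `H`
      let x₀ : ↥H := ⟨x, hxQ⟩
      let y₀ : ↥H := ⟨y, hyN⟩
      let K₀ : Subgroup ↥H := pPrimeCore p ↥H
      have hK₀n : K₀.Normal := Cfsg.Agent.Lib.Basic.PCore.pPrimeCore_normal p _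
      have hK₀c : (Nat.card K₀).Coprime p := Cfsg.Agent.Lib.Solvable.PSeries.pPrimeCore_coprime p
      let π : ↥H →* (↥H ⧸ K₀) := QuotientGroup.mk' K₀
      have hcentral : ∀ h : ↥H, π h * π x₀ = π x₀ * π h := by
        intro h
        have h1 : π (h * x₀ * h⁻¹ * x₀⁻¹) = 1 := by
          rw [QuotientGroup.mk'_apply, QuotientGroup.eq_one_iff]
          exact hZ h
        rw [map_mul, map_mul, map_mul, map_inv, map_inv, mul_inv_eq_one, mul_inv_eq_iff_eq_mul] at h1
        exact h1
      let W₁ : Subgroup ↥H := (Subgroup.zpowers (π y₀)).comap π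
      have hy₀W : y₀ ∈ W₁ := Subgroup.mem_zpowers (π y₀)
      -- `y` is a `q`-element
      obtain ⟨k, hk⟩ := S.isPGroup' ⟨y, hyS⟩
      have hyk : y ^ q ^ k = 1 := by
        have := congrArg Subtype.val hk
        simpa using this
      have hy₀k : y₀ ^ q ^ k = 1 := Subtype.ext hyk
      have hW₁nd : ¬ p ∣ Nat.card W₁ := by
        intro hd
        obtain ⟨w, hw⟩ := exists_prime_orderOf_dvd_card' (G := W₁) p hd
        have hwo : orderOf (w : ↥H) = p := by
          rw [← hw, Subgroup.orderOf_coe]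
        have hwz : π (w : ↥H) ∈ Subgroup.zpowers (π y₀) := w.2
        have hd1 : orderOf (π (w : ↥H)) ∣ p := by
          rw [← hwo]
          exact orderOf_map_dvd _ _
        have hd2 : orderOf (π (w : ↥H)) ∣ q ^ k := by
          refine (Subgroup.orderOf_dvd_natCard _ hwz).trans ?_
          rw [Nat.card_zpowers]
          refine orderOf_dvd_of_pow_eq_one ?_
          rw [← map_pow, hy₀k, map_one]
        have hcop : (q ^ k).Coprime p :=
          Nat.Coprime.pow_left k ((Nat.coprime_primes hqq hpp).mpr hqp)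
        have h4 : orderOf (π (w : ↥H)) = 1 := by
          have := Nat.dvd_gcd hd2 hd1
          rw [hcop] at this
          exact Nat.dvd_one.mp this
        have h5 : (w : ↥H) ∈ K₀ := by
          have h6 := orderOf_eq_one_iff.mp h4
          rwa [QuotientGroup.mk'_apply, QuotientGroup.eq_one_iff] at h6
        have h7 : p ∣ Nat.card K₀ := by
          rw [← hwo]
          exact Subgroup.orderOf_dvd_natCard K₀ h5
        have := Nat.Coprime.eq_one_of_dvd hK₀c.symm h7
        exact hpp.one_lt.ne' this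
      have hx₀N : Subgroup.zpowers x₀ ≤ Subgroup.normalizer (W₁ : Set ↥H) := by
        rw [Subgroup.zpowers_le]
        apply mem_normalizer_of_conj_mem
        intro w hw
        show π (x₀ * w * x₀⁻¹) ∈ Subgroup.zpowers (π y₀)
        have h1 : π (x₀ * w * x₀⁻¹) = π w := by
          rw [map_mul, map_mul, map_inv, ← hcentral w]
          group
        rw [h1]
        exact hw
      have hx₀c : (Nat.card (Subgroup.zpowers x₀)).Coprime (Nat.card W₁) := by
        rw [Nat.card_zpowers]
        have : orderOf x₀ = p := by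
          rw [← hx]; exact Subgroup.orderOf_mk x hxQ
        rw [this]
        exact (Nat.Prime.coprime_iff_not_dvd hpp).mpr hW₁nd
      obtain ⟨T, hT⟩ := exists_invariant_sylow hx₀N hx₀c (Or.inl inferInstance) q
      -- the image of `T` in `G`
      let T₁ : Subgroup ↥H := (T : Subgroup ↥W₁).map W₁.subtype
      let R : Subgroup G := T₁.map H.subtype
      have hRq : IsPGroup q R := (T.isPGroup'.map W₁.subtype).map H.subtype
      have hRx : x ∈ Subgroup.normalizer (R : Set G) := by
        apply mem_normalizer_of_conj_mem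
        rintro _ ⟨t, ht, rfl⟩
        have h1 : x₀ * t * x₀⁻¹ ∈ T₁ :=
          conj_mem_of_mem_normalizer (hT (Subgroup.mem_zpowers x₀)) ht
        exact ⟨_, h1, rfl⟩
      have hRH : R ≤ H := Subgroup.map_subtype_le _
      have hQRq : IsPGroup q (Q ⊔ R : Subgroup G) := hQ.to_sup_of_normal_left' hRq hRH
      have hQRx : x ∈ Subgroup.normalizer ((Q ⊔ R : Subgroup G) : Set G) :=
        sup_mem_normalizer hxQ hRx
      have hQR : Q ⊔ R = Q := hmax _ hQRq hQRx le_sup_left
      have hRQ : R ≤ Q := by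
        rw [← hQR]; exact le_sup_right
      -- `y` lies in a Sylow subgroup of `W₁`
      let y₁ : ↥W₁ := ⟨y₀, hy₀W⟩
      have hy₁k : y₁ ^ q ^ k = 1 := Subtype.ext hy₀k
      obtain ⟨T', hT'⟩ := (isPGroup_zpowers_of_pow hy₁k).exists_le_sylow
      obtain ⟨w, hw⟩ := MulAction.exists_smul_eq ↥W₁ T T'
      have hy₁T' : y₁ ∈ (T' : Subgroup ↥W₁) := hT' (Subgroup.mem_zpowers y₁)
      rw [← hw, Sylow.smul_def, Sylow.pointwise_smul_def, Subgroup.mem_smul_pointwise_iff_exists] at hy₁T'
      obtain ⟨t, ht, hty⟩ := hy₁T'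
      have ht' : (((t : ↥W₁) : ↥H) : G) ∈ Q := hRQ ⟨_, ⟨t, ht, rfl⟩, rfl⟩
      have hwN : (((w : ↥W₁) : ↥H) : G) ∈ Subgroup.normalizer (Q : Set G) := ((w : ↥W₁) : ↥H).2
      have hyeq : y = (((w : ↥W₁) : ↥H) : G) * (((t : ↥W₁) : ↥H) : G) * (((w : ↥W₁) : ↥H) : G)⁻¹ := by
        have := congrArg (fun z : ↥W₁ => ((z : ↥H) : G)) hty
        simp only [MulAut.smul_def, MulAut.conj_apply] at this
        simpa using this.symm
      apply hyQ
      rw [hyeq]
      exact conj_mem_of_mem_normalizer hwN ht'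
  · -- the transitivity
    intro S₁ S₂ hx₁ hx₂
    obtain ⟨g, hg⟩ := MulAction.exists_smul_eq G S₁ S₂
    have hS₂ : (S₁ : Subgroup G).map (MulAut.conj g).toMonoidHom = (S₂ : Subgroup G) := by
      rw [← hg, Sylow.smul_def, Sylow.pointwise_smul_def]
      rfl
    set H : Subgroup G := Subgroup.normalizer ((S₁ : Subgroup G) : Set G) with hH
    have hyH : g⁻¹ * x * g ∈ H := by
      apply mem_normalizer_of_conj_mem
      intro s hs
      have h1 : g * s * g⁻¹ ∈ (S₂ : Subgroup G) := by
        rw [← hS₂]; exact ⟨s, hs, rfl⟩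
      have h2 := conj_mem_of_mem_normalizer hx₂ h1
      rw [← hS₂] at h2
      obtain ⟨s', hs', hs'eq⟩ := h2
      have h3 : g * s' * g⁻¹ = x * (g * s * g⁻¹) * x⁻¹ := hs'eq
      have h4 : g⁻¹ * x * g * s * (g⁻¹ * x * g)⁻¹ = s' := by
        have h5 : g⁻¹ * x * g * s * (g⁻¹ * x * g)⁻¹ = g⁻¹ * (x * (g * s * g⁻¹) * x⁻¹) * g := by group
        rw [h5, ← h3]
        group
      rw [h4]
      exact hs'
    let x₀ : ↥H := ⟨x, hx₁⟩
    let y₀ : ↥H := ⟨g⁻¹ * x * g, hyH⟩
    have hx₀p : x₀ ^ p ^ 1 = 1 := Subtype.ext (by simpa using hxp)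
    have hy₀p : y₀ ^ p ^ 1 = 1 := by
      apply Subtype.ext
      show (g⁻¹ * x * g) ^ p ^ 1 = 1
      have h1 : g⁻¹ * x * g = g⁻¹ * x * g⁻¹⁻¹ := by simp
      rw [pow_one, h1, conj_pow, hxp]
      group
    obtain ⟨P, hP⟩ := (isPGroup_zpowers_of_pow hx₀p).exists_le_sylow
    obtain ⟨P', hP'⟩ := (isPGroup_zpowers_of_pow hy₀p).exists_le_sylow
    obtain ⟨h, hh⟩ := MulAction.exists_smul_eq ↥H P P'
    have hy₀P' : y₀ ∈ (P' : Subgroup ↥H) := hP' (Subgroup.mem_zpowers y₀)
    rw [← hh, Sylow.smul_def, Sylow.pointwise_smul_def, Subgroup.mem_smul_pointwise_iff_exists] at hy₀P'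
    obtain ⟨z, hz, hzy⟩ := hy₀P'
    have hzeq : (g⁻¹ * x * g : G) = (h : G) * (z : G) * (h : G)⁻¹ := by
      have := congrArg (fun w : ↥H => (w : G)) hzy
      simp only [MulAut.smul_def, MulAut.conj_apply] at this
      simpa using this.symm
    let R : Subgroup G := (P : Subgroup ↥H).map H.subtype
    have hRp : IsPGroup p R := P.isPGroup'.map H.subtype
    have hxR : x ∈ R := ⟨x₀, hP (Subgroup.mem_zpowers x₀), rfl⟩
    have hzR : (z : G) ∈ R := ⟨z, hz, rfl⟩
    have hcomm : Commute x (z : G) := Cfsg.Agent.S2969.central_of_isolated hiso hRp hxR _ hzR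
    have hz' : (z : G) = (g * h)⁻¹ * x * (g * h)⁻¹⁻¹ := by
      have h1 : (z : G) = (h : G)⁻¹ * ((h : G) * (z : G) * (h : G)⁻¹) * (h : G) := by group
      rw [h1, ← hzeq]
      group
    have hfix := hiso (g * h)⁻¹ (by rw [← hz']; exact hcomm)
    refine ⟨g * h, ?_, ?_⟩
    · refine Subgroup.mem_centralizer_iff.mpr ?_
      intro y hy
      rw [Set.mem_singleton_iff] at hy
      subst hy
      have h1 : (g * h)⁻¹ * y * (g * h) = y := by simpa using hfix
      rw [mul_assoc, inv_mul_eq_iff_eq_mul] at h1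
      exact h1
    · rw [map_conj_mul, map_conj_eq_of_mem_normalizer h.2, hS₂]

end Cfsg.Agent.S2975
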