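import Cfsg.Statements.S3035
import Mathlib
import Cfsg.Agent.S0215
import Cfsg.Agent.S0249
import Cfsg.Agent.S0495
import Cfsg.Agent.S0497
import Cfsg.Agent.S3278
import Cfsg.Agent.Lib.SmallCen.D8Simple
import Cfsg.Agent.Lib.SmallCen.D8Char
import Cfsg.Agent.Lib.PGroup.ZStarCor
import Cfsg.Agent.Lib.Transfer.D8Index2
-- import your own Cfsg.Agent.* helpers here

set_option autoImplicit false
open Cfsg

namespace Cfsg.Agent.S3035

section SL3

abbrev SL3 := Matrix.SpecialLinearGroup (Fin 3) (ZMod 2)

set_option maxRecDepth 100000 in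
theorem card_SL3 : Fintype.card SL3 = 168 := by decide +kernel

set_option maxRecDepth 100000 in
theorem center_SL3_aux : ∀ g : SL3, (∀ h : SL3, h * g = g * h) → g = 1 := by decide +kernel

theorem center_SL3 : Subgroup.center SL3 = ⊥ := by
  rw [eq_bot_iff]
  intro g hg
  rw [Subgroup.mem_bot]
  exact center_SL3_aux g (fun h => (Subgroup.mem_center_iff.mp hg h))

theorem simple_SL3 : IsSimpleGroup SL3 := by
  have h1 : IsSimpleGroup (Matrix.ProjectiveSpecialLinearGroup (Fin 3) (ZMod 2)) :=
    Cfsg.Agent.S0249.result 3 (le_refl 3)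
  haveI := h1
  let f : Matrix.ProjectiveSpecialLinearGroup (Fin 3) (ZMod 2) ≃* SL3 :=
    (QuotientGroup.quotientMulEquivOfEq center_SL3).trans QuotientGroup.quotientBot
  exact f.symm.isSimpleGroup
end SL3


/-- Let G be a finite group with an involution z whose centralizer is dihedral of order 8. Then G = C_G(z) O(G) with O(G) the largest normal subgroup of odd order, or G is isomorphic to the symmetric group of degree 4, the symmetric group of degree 5, the group SL₃(2), or the alternating group of degree 6. -/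
theorem result {G : Type*} [Group G] [Finite G] (z : G) (hz : orderOf z = 2)
    (hC : Nonempty (↥(Subgroup.centralizer ({z} : Set G)) ≃* DihedralGroup 4)) :
    Subgroup.centralizer ({z} : Set G) ⊔ Cfsg.oddCore G = ⊤ ∨ Nonempty (G ≃* Equiv.Perm (Fin 4)) ∨ Nonempty (G ≃* Equiv.Perm (Fin 5)) ∨
      Nonempty (G ≃* Matrix.SpecialLinearGroup (Fin 3) (ZMod 2)) ∨ Nonempty (G ≃* ↥(alternatingGroup (Fin 6))) := by
  by_cases h2 : ∃ H : Subgroup G, H.index = 2
  · obtain ⟨H, hH⟩ := h2
    obtain ⟨e⟩ := hC
    rcases Cfsg.Agent.Lib.Transfer.D8Index2.main_index_two e hz hH with h | h | h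
    · exact Or.inl h
    · exact Or.inr (Or.inl h)
    · exact Or.inr (Or.inr (Or.inl h))
  · right; right; right
    have hG : ∀ H : Subgroup G, H.index ≠ 2 := fun H h => h2 ⟨H, h⟩
    obtain ⟨e⟩ := hC
    obtain ⟨hcases, hperf⟩ := Cfsg.Agent.Lib.SmallCen.D8Char.main e hz hG
    have hcard := Cfsg.Agent.Lib.SmallCen.D8Group.card_eq_eight_mul e
    haveI : IsSimpleGroup G := by
      refine Cfsg.Agent.Lib.SmallCen.D8Simple.isSimple e hz hG ?_ hperf
      rcases hcases with h | h
      · left; omega
      · right; omega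
    rcases hcases with h | h
    · left
      haveI : Fact (Nat.Prime 7) := ⟨by norm_num⟩
      haveI := simple_SL3
      obtain ⟨f⟩ := Cfsg.Agent.S0495.result h (ZMod.card 7)
      have hSL : Nat.card SL3 = 168 := by
        rw [Nat.card_eq_fintype_card, card_SL3]
      obtain ⟨g⟩ := Cfsg.Agent.S0495.result hSL (ZMod.card 7)
      exact ⟨f.trans g.symm⟩
    · right
      exact Cfsg.Agent.S0497.result h

end Cfsg.Agent.S3035
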