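import Cfsg.Statements.S3053
import Mathlib
import Cfsg.Agent.Lib.PGroup.Extraspecial
import Cfsg.Agent.Lib.Coprime.Three
import Cfsg.Agent.Lib.Basic.SylowUtil
import Cfsg.Agent.Lib.Basic.Conj

set_option autoImplicit false
open Cfsg

namespace Cfsg.Agent.S3053

open Subgroup

variable {G : Type*} [Group G]

/-- The elementary data of an extraspecial group of order `p³` and exponent `p²` inside `G`. -/
structure Data (P : Subgroup G) (p : ℕ) (z : G) : Prop where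
  hz : z ∈ P
  hz1 : z ≠ 1
  hzp : z ^ p = 1
  hzc : ∀ x ∈ P, x * z = z * x
  hcen : ∀ x ∈ P, (∀ y ∈ P, x * y = y * x) → x ∈ zpowers z
  hcomm : ∀ x ∈ P, ∀ y ∈ P, x * y * x⁻¹ * y⁻¹ ∈ zpowers z
  hpow : ∀ x ∈ P, x ^ p ∈ zpowers z
  hmulp : ∀ x ∈ P, ∀ y ∈ P, (x * y) ^ p = x ^ p * y ^ p
  hE : ∀ x ∈ P, ∀ y ∈ P, x ^ p = 1 → y ^ p = 1 → x * y = y * x
  hπ : ∃ π ∈ P, π ^ p ≠ 1

variable {P : Subgroup G} {p : ℕ} {z : G}

theorem conj_word (x z u : G) (a b : ℕ) :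
    x * (z ^ a * u ^ b) * x⁻¹ = (x * z * x⁻¹) ^ a * (x * u * x⁻¹) ^ b := by
  rw [conj_pow, conj_pow]
  group

theorem line_gen [Finite G] [hp : Fact p.Prime] {z w : G} (hzp : z ^ p = 1)
    (hw : w ∈ zpowers z) (hw1 : w ≠ 1) : ∀ v ∈ zpowers z, ∃ k : ℕ, v = w ^ k := by
  intro v hv
  have hz1 : z ≠ 1 := by
    rintro rfl
    simp at hw
    exact hw1 hw
  have hoz : orderOf z = p := orderOf_eq_prime hzp hz1
  have hwp : w ^ p = 1 := by
    obtain ⟨i, rfl⟩ := hw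
    rw [← zpow_natCast, ← zpow_mul, mul_comm, zpow_mul, zpow_natCast, hzp, one_zpow]
  have how : orderOf w = p := orderOf_eq_prime hwp hw1
  have hle : zpowers w ≤ zpowers z := zpowers_le.mpr hw
  have heq : zpowers w = zpowers z := by
    apply Subgroup.eq_of_le_of_card_ge hle
    rw [Nat.card_zpowers, Nat.card_zpowers, hoz, how]
  rw [← heq, ← mem_powers_iff_mem_zpowers, Submonoid.mem_powers_iff] at hv
  obtain ⟨k, hk⟩ := hv
  exact ⟨k, hk.symm⟩

namespace Data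

theorem zc (hD : Data P p z) {x ζ : G} (hx : x ∈ P) (hζ : ζ ∈ zpowers z) : x * ζ = ζ * x := by
  obtain ⟨i, rfl⟩ := hζ
  have h1 : Commute x z := hD.hzc x hx
  exact (h1.zpow_right i)

/-- `Ω₁`. -/
def Om (hD : Data P p z) : Subgroup G where
  carrier := {x | x ∈ P ∧ x ^ p = 1}
  mul_mem' := fun {a b} ha hb =>
    ⟨P.mul_mem ha.1 hb.1, by rw [hD.hmulp a ha.1 b hb.1, ha.2, hb.2, one_mul]⟩
  one_mem' := ⟨P.one_mem, one_pow _⟩
  inv_mem' := fun {a} ha => ⟨P.inv_mem ha.1, by rw [inv_pow, ha.2, inv_one]⟩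

theorem mem_Om (hD : Data P p z) {x : G} : x ∈ hD.Om ↔ x ∈ P ∧ x ^ p = 1 := Iff.rfl

theorem z_mem_Om (hD : Data P p z) : z ∈ hD.Om := ⟨hD.hz, hD.hzp⟩

theorem zp_mem_Om (hD : Data P p z) {ζ : G} (h : ζ ∈ zpowers z) : ζ ∈ hD.Om := by
  obtain ⟨i, rfl⟩ := h
  exact zpow_mem hD.z_mem_Om i

variable [Finite G] [hp : Fact p.Prime]

theorem decomp (hD : Data P p z) {π : G} (hπP : π ∈ P) (hπ : π ^ p ≠ 1) {y : G} (hy : y ∈ P) :
    ∃ k : ℕ, ∃ e ∈ hD.Om, y = π ^ k * e := by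
  obtain ⟨k, hk⟩ := line_gen hD.hzp (hD.hpow π hπP) hπ (y ^ p) (hD.hpow y hy)
  refine ⟨k, (π ^ k)⁻¹ * y, ⟨P.mul_mem (P.inv_mem (pow_mem hπP k)) hy, ?_⟩, by group⟩
  rw [hD.hmulp _ (P.inv_mem (pow_mem hπP k)) _ hy, inv_pow, hk, ← pow_mul, ← pow_mul, mul_comm k p]
  simp

theorem cent_Om (hD : Data P p z) {π : G} (hπP : π ∈ P) (hπ : π ^ p ≠ 1) {x : G} (hx : x ∈ hD.Om)
    (hc : π * x = x * π) : x ∈ zpowers z := by
  apply hD.hcen x hx.1
  intro y hy
  obtain ⟨k, e, he, rfl⟩ := hD.decomp hπP hπ hy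
  have h1 : Commute x π := hc.symm
  have h2 : Commute x e := hD.hE x hx.1 e he.1 hx.2 he.2
  exact (h1.pow_right k).mul_right h2

theorem conj_mem_Om (hD : Data P p z) {x e : G} (hx : x ∈ P) (he : e ∈ hD.Om) :
    x * e * x⁻¹ ∈ hD.Om := by
  refine ⟨P.mul_mem (P.mul_mem hx he.1) (P.inv_mem hx), ?_⟩
  rw [conj_pow, he.2]
  simp

theorem P_le_norm (hD : Data P p z) : P ≤ normalizer (hD.Om : Set G) := by
  intro x hx
  exact Cfsg.Agent.Lib.Coprime.Three.mem_normalizer_of_conj_mem (fun v hv => hD.conj_mem_Om hx hv)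

/-- Action on the line. -/
theorem act_eq (hD : Data P p z) {x e : G} (hx : x ∈ P) (he : e ∈ P) :
    ∃ ζ ∈ zpowers z, x * e * x⁻¹ = ζ * e :=
  ⟨x * e * x⁻¹ * e⁻¹, hD.hcomm x hx e he, by group⟩

theorem Om_gen (hD : Data P p z) {π : G} (hπP : π ∈ P) (hπ : π ^ p ≠ 1) {u : G} (hu : u ∈ hD.Om)
    (hun : u ∉ zpowers z) {e : G} (he : e ∈ hD.Om) : ∃ a b : ℕ, e = z ^ a * u ^ b := by
  have hζ := hD.hcomm π hπP u hu.1
  have hζ1 : π * u * π⁻¹ * u⁻¹ ≠ 1 := by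
    intro h
    apply hun
    apply hD.cent_Om hπP hπ hu
    have h2 := mul_inv_eq_one.mp h
    exact mul_inv_eq_iff_eq_mul.mp h2
  obtain ⟨b, hb⟩ := line_gen hD.hzp hζ hζ1 _ (hD.hcomm π hπP e he.1)
  obtain ⟨ζ, hζdef⟩ : ∃ ζ, ζ = π * u * π⁻¹ * u⁻¹ := ⟨_, rfl⟩
  rw [← hζdef] at hζ hb hζ1
  have h1 : π * u * π⁻¹ = ζ * u := by rw [hζdef]; group
  have h2 : π * e * π⁻¹ = ζ ^ b * e := by
    rw [← hb]; group
  have hcu : Commute ζ u := (hD.zc hu.1 hζ).symm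
  have h3 : π * u ^ b * π⁻¹ = ζ ^ b * u ^ b := by
    rw [← conj_pow, h1, hcu.mul_pow]
  have hx : e * (u ^ b)⁻¹ ∈ hD.Om := mul_mem he (inv_mem (pow_mem hu b))
  have hcom : Commute (ζ ^ b) (e * (u ^ b)⁻¹) :=
    (hD.zc hx.1 (pow_mem hζ b)).symm
  have h4 : π * (e * (u ^ b)⁻¹) = (e * (u ^ b)⁻¹) * π := by
    have h5 : π * (e * (u ^ b)⁻¹) * π⁻¹ = e * (u ^ b)⁻¹ := by
      calc π * (e * (u ^ b)⁻¹) * π⁻¹ = (π * e * π⁻¹) * (π * u ^ b * π⁻¹)⁻¹ := by group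
        _ = ζ ^ b * e * (ζ ^ b * u ^ b)⁻¹ := by rw [h2, h3]
        _ = ζ ^ b * (e * (u ^ b)⁻¹) * (ζ ^ b)⁻¹ * (ζ ^ b * (ζ ^ b)⁻¹ * (ζ ^ b)⁻¹ * ζ ^ b) := by
            have hcu2 : Commute (ζ ^ b) (u ^ b) := hcu.pow_pow b b
            rw [mul_inv_rev, ← mul_assoc]
            simp only [mul_assoc]
            simp
        _ = (e * (u ^ b)⁻¹) := by
            rw [hcom.eq]
            group
    exact mul_inv_eq_iff_eq_mul.mp h5
  have h6 := hD.cent_Om hπP hπ hx h4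
  rw [← mem_powers_iff_mem_zpowers, Submonoid.mem_powers_iff] at h6
  obtain ⟨a, ha⟩ := h6
  refine ⟨a, b, ?_⟩
  rw [ha]
  group

end Data

open Cfsg.Agent.Lib.Basic.SylowUtil Cfsg.Agent.Lib.Basic.Conj
open Cfsg.Agent.Lib.Coprime.Three (mem_normalizer_of_conj_mem)

section sylowPart

variable [Finite G] [hp : Fact p.Prime]

theorem sylow_conj_in {Q R : Sylow p G} {H : Subgroup G} (hQ : (Q : Subgroup G) ≤ H)
    (hR : (R : Subgroup G) ≤ H) : ∃ c ∈ H, c • Q = R := by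
  obtain ⟨c, hc⟩ := MulAction.exists_smul_eq H (Q.subtype hQ) (R.subtype hR)
  refine ⟨c, c.2, ?_⟩
  rw [Sylow.smul_subtype] at hc
  exact Sylow.subtype_injective hc

theorem mem_smul {g y : G} {Q : Sylow p G} :
    y ∈ ((g • Q : Sylow p G) : Subgroup G) ↔ g⁻¹ * y * g ∈ (Q : Subgroup G) := by
  rw [coe_smul_sylow, mem_conj_smul_iff]

theorem fusion_A (P : Sylow p G) (hD : Data (P : Subgroup G) p z) {g : G}
    (hu : g * z * g⁻¹ ∈ (P : Subgroup G)) :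
    ∃ a ∈ normalizer (hD.Om : Set G), a * z * a⁻¹ = g * z * g⁻¹ := by
  obtain ⟨u, hudef⟩ : ∃ u, u = g * z * g⁻¹ := ⟨_, rfl⟩
  rw [← hudef] at hu ⊢
  have hup : u ^ p = 1 := by
    rw [hudef, conj_pow, hD.hzp]
    simp
  let C : Subgroup G := centralizer ({u} : Set G)
  have hQC : ((g • P : Sylow p G) : Subgroup G) ≤ C := by
    intro y hy
    rw [mem_smul] at hy
    rw [mem_centralizer_singleton_iff]
    have h1 := hD.hzc _ hy
    rw [hudef]
    calc y * (g * z * g⁻¹) = g * ((g⁻¹ * y * g) * z) * g⁻¹ := by group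
      _ = g * (z * (g⁻¹ * y * g)) * g⁻¹ := by rw [h1]
      _ = g * z * g⁻¹ * y := by group
  have hOC : hD.Om ≤ C := by
    intro e he
    rw [mem_centralizer_singleton_iff]
    exact hD.hE e he.1 u hu he.2 hup
  have hOp : IsPGroup p ↥(hD.Om.subgroupOf C) := by
    intro x
    refine ⟨1, ?_⟩
    apply Subtype.ext
    apply Subtype.ext
    have h1 : (x : C).1 ∈ hD.Om := Subgroup.mem_subgroupOf.mp x.2
    simpa using h1.2
  obtain ⟨R, hR⟩ := hOp.exists_le_sylow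
  obtain ⟨c, hc⟩ := MulAction.exists_smul_eq (↥C) ((g • P : Sylow p G).subtype hQC) R
  have hOin : ∀ e ∈ hD.Om, e ∈ (((c : G) • (g • P) : Sylow p G) : Subgroup G) := by
    intro x hx
    have hx1 : (⟨x, hOC hx⟩ : ↥C) ∈ (R : Subgroup ↥C) :=
      hR (by simpa [Subgroup.mem_subgroupOf] using hx)
    rw [← hc, Sylow.smul_subtype hQC c, Sylow.coe_subtype, Subgroup.mem_subgroupOf] at hx1
    exact hx1
  refine ⟨(c : G) * g, ?_, ?_⟩
  · have h1 : ((c : G) * g)⁻¹ ∈ normalizer (hD.Om : Set G) := by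
      apply mem_normalizer_of_conj_mem
      intro e he
      have h2 := hOin e he
      rw [mem_smul, mem_smul] at h2
      refine ⟨?_, ?_⟩
      · convert h2 using 1
        group
      · rw [conj_pow, he.2]
        simp
    simpa using inv_mem h1
  · have hcu : (c : G) * u = u * c := by
      have := (mem_centralizer_singleton_iff.mp c.2)
      exact this
    calc (c : G) * g * z * ((c : G) * g)⁻¹ = c * (g * z * g⁻¹) * (c : G)⁻¹ := by group
      _ = c * u * (c : G)⁻¹ := by rw [hudef]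
      _ = u := by rw [hcu]; group

namespace Data

/-- The elements acting on `Ω₁` as transvections with centre `⟨z⟩`. -/
def Hsub (hD : Data P p z) : Subgroup G where
  carrier := {x | x ∈ normalizer (hD.Om : Set G) ∧ x * z * x⁻¹ = z ∧
    ∀ e ∈ hD.Om, x * e * x⁻¹ * e⁻¹ ∈ zpowers z}
  mul_mem' := by
    rintro x y ⟨hx1, hx2, hx3⟩ ⟨hy1, hy2, hy3⟩
    refine ⟨mul_mem hx1 hy1, ?_, ?_⟩
    · calc x * y * z * (x * y)⁻¹ = x * (y * z * y⁻¹) * x⁻¹ := by group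
        _ = z := by rw [hy2, hx2]
    · intro e he
      have he' : y * e * y⁻¹ ∈ hD.Om := (mem_normalizer_iff.mp hy1 e).mp he
      have h1 := hx3 _ he'
      have h2 := hy3 e he
      have h3 : x * y * e * (x * y)⁻¹ * e⁻¹ =
          (x * (y * e * y⁻¹) * x⁻¹ * (y * e * y⁻¹)⁻¹) * (y * e * y⁻¹ * e⁻¹) := by group
      rw [h3]
      exact mul_mem h1 h2
  one_mem' := ⟨one_mem _, by simp, by intro e _; simp⟩
  inv_mem' := by
    rintro x ⟨hx1, hx2, hx3⟩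
    refine ⟨inv_mem hx1, ?_, ?_⟩
    · calc x⁻¹ * z * x⁻¹⁻¹ = x⁻¹ * (x * z * x⁻¹) * x := by rw [hx2]; group
        _ = z := by group
    · intro e he
      have he' : x⁻¹ * e * x⁻¹⁻¹ ∈ hD.Om := (mem_normalizer_iff.mp (inv_mem hx1) e).mp he
      have h1 := hx3 _ he'
      have h3 : x⁻¹ * e * x⁻¹⁻¹ * e⁻¹ = (x * (x⁻¹ * e * x⁻¹⁻¹) * x⁻¹ * (x⁻¹ * e * x⁻¹⁻¹)⁻¹)⁻¹ := by
        group
      rw [h3]
      exact inv_mem h1

theorem P_le_H (hD : Data P p z) : P ≤ hD.Hsub := by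
  intro x hx
  refine ⟨hD.P_le_norm hx, ?_, ?_⟩
  · rw [hD.hzc x hx]
    group
  · intro e he
    exact hD.hcomm x hx e he.1

/-- Powers act by powers. -/
theorem pow_act (hD : Data P p z) {π u ζ : G} (hπP : π ∈ P) (hζ : ζ ∈ zpowers z)
    (h1 : π * u * π⁻¹ = ζ * u) (k : ℕ) : π ^ k * u * (π ^ k)⁻¹ = ζ ^ k * u := by
  induction k with
  | zero => simp
  | succ k ih =>
    have h2 : π * ζ ^ k * π⁻¹ = ζ ^ k := by
      rw [hD.zc hπP (pow_mem hζ k)]
      group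
    calc π ^ (k + 1) * u * (π ^ (k + 1))⁻¹ = π * (π ^ k * u * (π ^ k)⁻¹) * π⁻¹ := by
          rw [pow_succ']
          group
      _ = (π * ζ ^ k * π⁻¹) * (π * u * π⁻¹) := by rw [ih]; group
      _ = ζ ^ (k + 1) * u := by rw [h2, h1, pow_succ, mul_assoc]


theorem act_of_H (hD : Data P p z) {π : G} (hπP : π ∈ P) (hπ : π ^ p ≠ 1) {u : G} (hu : u ∈ hD.Om)
    (hun : u ∉ zpowers z) {h : G} (hh : h ∈ hD.Hsub) :
    ∃ p₀ ∈ P, ∀ e ∈ hD.Om, h * e * h⁻¹ = p₀ * e * p₀⁻¹ := by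
  have hζ := hD.hcomm π hπP u hu.1
  have hζ1 : π * u * π⁻¹ * u⁻¹ ≠ 1 := by
    intro h
    apply hun
    apply hD.cent_Om hπP hπ hu
    have h2 := mul_inv_eq_one.mp h
    exact mul_inv_eq_iff_eq_mul.mp h2
  obtain ⟨k, hk⟩ := line_gen hD.hzp hζ hζ1 _ (hh.2.2 u hu)
  obtain ⟨ζ, hζdef⟩ : ∃ ζ, ζ = π * u * π⁻¹ * u⁻¹ := ⟨_, rfl⟩
  rw [← hζdef] at hζ hk hζ1
  have h1 : π * u * π⁻¹ = ζ * u := by rw [hζdef]; group
  have h2 : h * u * h⁻¹ = ζ ^ k * u := by
    rw [← hk]; group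
  have h3 := hD.pow_act hπP hζ h1 k
  refine ⟨π ^ k, pow_mem hπP k, ?_⟩
  intro e he
  obtain ⟨a, b, rfl⟩ := hD.Om_gen hπP hπ hu hun he
  have h5 : π ^ k * z * (π ^ k)⁻¹ = z := by
    rw [hD.hzc _ (pow_mem hπP k)]
    group
  rw [conj_word, conj_word, h2, h3, hh.2.1, h5]

end Data

/-- **Stabilizers of the central line act trivially on `Ω₁/⟨z⟩`.** -/
theorem stab_act (P : Sylow p G) (hD : Data (P : Subgroup G) p z) {π : G}
    (hπP : π ∈ (P : Subgroup G)) (hπ : π ^ p ≠ 1) {u : G} (hu : u ∈ hD.Om) (hun : u ∉ zpowers z)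
    {t : G} (ht : t ∈ normalizer (hD.Om : Set G)) (hzt : t * z * t⁻¹ ∈ zpowers z) :
    ∀ e ∈ hD.Om, t * e * t⁻¹ * e⁻¹ ∈ zpowers z := by
  have htn : t ∈ normalizer ((zpowers z : Subgroup G) : Set G) := by
    apply mem_normalizer_of_conj_mem
    rintro _ ⟨i, rfl⟩
    show t * z ^ i * t⁻¹ ∈ _
    rw [← conj_zpow]
    exact zpow_mem hzt i
  have hz' : t⁻¹ * z * t ∈ zpowers z := by
    have h1 := (mem_normalizer_iff.mp htn (t⁻¹ * z * t)).mpr
    apply h1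
    have h2 : t * (t⁻¹ * z * t) * t⁻¹ = z := by group
    rw [h2]
    exact mem_zpowers z
  have hQH : ((t • P : Sylow p G) : Subgroup G) ≤ hD.Hsub := by
    intro y hy
    rw [mem_smul] at hy
    have hyeq : y = t * (t⁻¹ * y * t) * t⁻¹ := by group
    obtain ⟨y₀, hy₀⟩ : ∃ y₀, y₀ = t⁻¹ * y * t := ⟨_, rfl⟩
    rw [← hy₀] at hy hyeq
    subst hyeq
    refine ⟨mul_mem (mul_mem ht (hD.P_le_norm hy)) (inv_mem ht), ?_, ?_⟩
    · have h1 := hD.zc hy hz'
      calc t * y₀ * t⁻¹ * z * (t * y₀ * t⁻¹)⁻¹ = t * (y₀ * (t⁻¹ * z * t)) * y₀⁻¹ * t⁻¹ := by group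
        _ = z := by rw [h1]; group
    · intro e he
      have he' : t⁻¹ * e * t⁻¹⁻¹ ∈ hD.Om := (mem_normalizer_iff.mp (inv_mem ht) e).mp he
      have h1 := hD.hcomm y₀ hy _ he'.1
      have h2 := (mem_normalizer_iff.mp htn _).mp h1
      convert h2 using 1
      group
  obtain ⟨c, hcH, hc⟩ := sylow_conj_in hQH hD.P_le_H
  obtain ⟨p₀, hp₀, hp₀e⟩ := hD.act_of_H hπP hπ hu hun hcH
  obtain ⟨t', ht'⟩ : ∃ t', t' = p₀⁻¹ * c * t := ⟨_, rfl⟩
  have ht'P : ∀ y ∈ (P : Subgroup G), t' * y * t'⁻¹ ∈ (P : Subgroup G) := by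
    intro y hy
    have h1 : (c * t) * y * (c * t)⁻¹ ∈ (P : Subgroup G) := by
      rw [← hc, mem_smul, mem_smul]
      convert hy using 1
      group
    have h2 := (P : Subgroup G).mul_mem ((P : Subgroup G).mul_mem ((P : Subgroup G).inv_mem hp₀) h1) hp₀
    convert h2 using 1
    rw [ht']
    group
  have ht'E : ∀ e ∈ hD.Om, t' * e * t'⁻¹ = t * e * t⁻¹ := by
    intro e he
    have he1 : t * e * t⁻¹ ∈ hD.Om := (mem_normalizer_iff.mp ht e).mp he
    have h1 := hp₀e _ he1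
    calc t' * e * t'⁻¹ = p₀⁻¹ * (c * (t * e * t⁻¹) * c⁻¹) * p₀ := by rw [ht']; group
      _ = t * e * t⁻¹ := by rw [h1]; group
  -- image of `π`
  obtain ⟨y, hy⟩ : ∃ y, y = t' * π * t'⁻¹ := ⟨_, rfl⟩
  have hyP : y ∈ (P : Subgroup G) := by rw [hy]; exact ht'P π hπP
  have hyp : y ^ p = t' * π ^ p * t'⁻¹ := by rw [hy, conj_pow]
  have hyp1 : y ^ p ≠ 1 := by
    rw [hyp]
    intro h
    apply hπ
    have h2 : t' * π ^ p = t' := by
      calc t' * π ^ p = (t' * π ^ p * t'⁻¹) * t' := by group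
        _ = t' := by rw [h, one_mul]
    simpa using h2
  have hu' : t * u * t⁻¹ ∈ hD.Om := (mem_normalizer_iff.mp ht u).mp hu
  obtain ⟨a, μ, haμ⟩ := hD.Om_gen hπP hπ hu hun hu'
  obtain ⟨ζ₀, hζ₀⟩ : ∃ ζ₀, ζ₀ = π * u * π⁻¹ * u⁻¹ := ⟨_, rfl⟩
  have hζ₀z : ζ₀ ∈ zpowers z := by rw [hζ₀]; exact hD.hcomm π hπP u hu.1
  have hζ₀1 : ζ₀ ≠ 1 := by
    intro h
    apply hun
    apply hD.cent_Om hπP hπ hu
    rw [hζ₀] at h
    have h2 := mul_inv_eq_one.mp h
    exact mul_inv_eq_iff_eq_mul.mp h2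
  obtain ⟨r, hr⟩ := line_gen hD.hzp hζ₀z hζ₀1 _ (hD.hpow π hπP)
  obtain ⟨ζ, hζ⟩ : ∃ ζ, ζ = y * u * y⁻¹ * u⁻¹ := ⟨_, rfl⟩
  have hζz : ζ ∈ zpowers z := by rw [hζ]; exact hD.hcomm y hyP u hu.1
  have hyu : y * u * y⁻¹ = ζ * u := by rw [hζ]; group
  have hzy : y * z * y⁻¹ = z := by
    rw [hD.hzc y hyP]
    group
  have hczu : Commute z u := (hD.hzc u hu.1).symm
  have hclaim1 : t' * ζ₀ * t'⁻¹ = ζ ^ μ := by
    have h1 : t' * u * t'⁻¹ = z ^ a * u ^ μ := by rw [ht'E u hu, haμ]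
    have h2 : t' * ζ₀ * t'⁻¹ =
        y * (t' * u * t'⁻¹) * y⁻¹ * (t' * u * t'⁻¹)⁻¹ := by
      rw [hζ₀, hy]
      group
    rw [h2, h1, conj_word, hzy, hyu]
    have hcζ : Commute ζ u := (hD.zc hu.1 hζz).symm
    rw [hcζ.mul_pow]
    have hcζ2 : Commute (ζ ^ μ) (z ^ a * u ^ μ) :=
      (hD.zc (mul_mem (pow_mem hD.hz a) (pow_mem hu.1 μ)) (pow_mem hζz μ)).symm
    have hcζ3 : Commute (z ^ a) (ζ ^ μ) :=
      hD.zc (pow_mem hD.hz a) (pow_mem hζz μ)
    rw [← mul_assoc (z ^ a), hcζ3.eq]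
    rw [mul_assoc (ζ ^ μ), mul_assoc (ζ ^ μ)]
    simp
  have hclaim2 : y ^ p = (ζ ^ μ) ^ r := by
    rw [hyp, hr, ← conj_pow, hclaim1]
  have hclaim3 : y ^ p = ζ ^ r := by
    obtain ⟨k, e₁, he₁, hke⟩ := hD.decomp hπP hπ hyP
    have h1 : π * u * π⁻¹ = ζ₀ * u := by rw [hζ₀]; group
    have h2 := hD.pow_act hπP hζ₀z h1 k
    have h3 : e₁ * u * e₁⁻¹ = u := by
      rw [hD.hE e₁ he₁.1 u hu.1 he₁.2 hu.2]
      group
    have h4 : y * u * y⁻¹ = ζ₀ ^ k * u := by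
      rw [hke]
      calc π ^ k * e₁ * u * (π ^ k * e₁)⁻¹ = π ^ k * (e₁ * u * e₁⁻¹) * (π ^ k)⁻¹ := by group
        _ = ζ₀ ^ k * u := by rw [h3, h2]
    have h5 : ζ = ζ₀ ^ k := by
      rw [hζ, h4]
      group
    rw [h5, hke, hD.hmulp _ (pow_mem hπP k) _ he₁.1, he₁.2, mul_one, ← pow_mul, mul_comm k p,
      pow_mul, hr, ← pow_mul, ← pow_mul, mul_comm r k]
  have hw : (y ^ p) ^ μ = y ^ p ^ 1 := by
    rw [pow_one]
    calc (y ^ p) ^ μ = (ζ ^ r) ^ μ := by rw [hclaim3]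
      _ = (ζ ^ μ) ^ r := by rw [← pow_mul, ← pow_mul, mul_comm]
      _ = y ^ p := hclaim2.symm
  have hwp : (y ^ p) ^ p = 1 := by
    obtain ⟨i, hi⟩ := hD.hpow y hyP
    rw [← hi, ← zpow_natCast, ← zpow_mul, mul_comm, zpow_mul, zpow_natCast, hD.hzp, one_zpow]
  have how : orderOf (y ^ p) = p := orderOf_eq_prime hwp hyp1
  have hw' : (y ^ p) ^ μ = (y ^ p) ^ 1 := by
    rw [pow_one]
    simpa using hw
  have hμ : μ ≡ 1 [MOD p] := by
    have := pow_eq_pow_iff_modEq.mp hw'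
    rwa [how] at this
  have hu1 : u ≠ 1 := by
    rintro rfl
    exact hun (one_mem _)
  have hou : orderOf u = p := orderOf_eq_prime hu.2 hu1
  have huμ : u ^ μ = u := by
    have h : u ^ μ = u ^ 1 := pow_eq_pow_iff_modEq.mpr (by rwa [hou])
    simpa using h
  rw [huμ] at haμ
  intro e he
  obtain ⟨A, B, rfl⟩ := hD.Om_gen hπP hπ hu hun he
  rw [conj_word, haμ]
  have hcu : Commute (z ^ a) u := hczu.pow_left a
  rw [hcu.mul_pow]
  have hfinal : (t * z * t⁻¹) ^ A * ((z ^ a) ^ B * u ^ B) * (z ^ A * u ^ B)⁻¹ =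
      (t * z * t⁻¹) ^ A * (z ^ a) ^ B * (z ^ A)⁻¹ := by
    rw [mul_inv_rev]
    simp [mul_assoc]
  rw [hfinal]
  exact mul_mem (mul_mem (pow_mem hzt A) (pow_mem (pow_mem (mem_zpowers z) a) B))
    (inv_mem (pow_mem (mem_zpowers z) A))

end sylowPart

section wordPart

variable [Finite G] [hp : Fact p.Prime]

theorem act1_pow {z u π : G} {α : ℕ} (hc : Commute z u) (h1 : π * z * π⁻¹ = z)
    (h2 : π * u * π⁻¹ = z ^ α * u) (n A B : ℕ) :
    π ^ n * (z ^ A * u ^ B) * (π ^ n)⁻¹ = z ^ (A + n * α * B) * u ^ B := by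
  induction n with
  | zero => simp
  | succ n ih =>
    have h3 : Commute (z ^ α) u := hc.pow_left α
    calc π ^ (n + 1) * (z ^ A * u ^ B) * (π ^ (n + 1))⁻¹
        = π * (π ^ n * (z ^ A * u ^ B) * (π ^ n)⁻¹) * π⁻¹ := by
          rw [pow_succ']
          group
      _ = π * (z ^ (A + n * α * B) * u ^ B) * π⁻¹ := by rw [ih]
      _ = z ^ (A + (n + 1) * α * B) * u ^ B := by
          rw [conj_word, h1, h2, h3.mul_pow, ← pow_mul, ← mul_assoc, ← pow_add]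
          congr 2
          ring

theorem act2_pow {z u π : G} {β : ℕ} (hc : Commute z u) (h1 : π * z * π⁻¹ = z * u ^ β)
    (h2 : π * u * π⁻¹ = u) (n A B : ℕ) :
    π ^ n * (z ^ A * u ^ B) * (π ^ n)⁻¹ = z ^ A * u ^ (n * β * A + B) := by
  induction n with
  | zero => simp
  | succ n ih =>
    have h3 : Commute z (u ^ β) := hc.pow_right β
    calc π ^ (n + 1) * (z ^ A * u ^ B) * (π ^ (n + 1))⁻¹
        = π * (π ^ n * (z ^ A * u ^ B) * (π ^ n)⁻¹) * π⁻¹ := by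
          rw [pow_succ']
          group
      _ = π * (z ^ A * u ^ (n * β * A + B)) * π⁻¹ := by rw [ih]
      _ = z ^ A * u ^ ((n + 1) * β * A + B) := by
          rw [conj_word, h1, h2, h3.mul_pow, ← pow_mul, mul_assoc, ← pow_add]
          congr 2
          ring

theorem main_contra (hodd : p ≠ 2) (P : Sylow p G) (hD : Data (P : Subgroup G) p z) {g : G}
    (hu : g * z * g⁻¹ ∈ (P : Subgroup G)) (hun : g * z * g⁻¹ ∉ zpowers z) : False := by
  obtain ⟨a, ha, hau⟩ := fusion_A P hD hu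
  obtain ⟨u, hudef⟩ : ∃ u, u = g * z * g⁻¹ := ⟨_, rfl⟩
  rw [← hudef] at hu hun hau
  have hup : u ^ p = 1 := by
    rw [hudef, conj_pow, hD.hzp]
    simp
  have huO : u ∈ hD.Om := ⟨hu, hup⟩
  obtain ⟨π, hπP, hπ⟩ := hD.hπ
  have hc : Commute z u := (hD.hzc u hu).symm
  have hzu : z ∉ zpowers u := by
    intro h
    obtain ⟨k, hk⟩ := line_gen hup h hD.hz1 u (mem_zpowers u)
    apply hun
    rw [hk]
    exact pow_mem (mem_zpowers z) k
  -- the two parameters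
  have hαmem := hD.hcomm π hπP u hu
  rw [← mem_powers_iff_mem_zpowers, Submonoid.mem_powers_iff] at hαmem
  obtain ⟨α, hα⟩ := hαmem
  have h1 : π * z * π⁻¹ = z := by
    rw [hD.hzc π hπP]
    group
  have h2 : π * u * π⁻¹ = z ^ α * u := by
    rw [hα]
    group
  have hαp : ¬ p ∣ α := by
    rintro ⟨c, rfl⟩
    apply hun
    apply hD.cent_Om hπP hπ huO
    rw [pow_mul, hD.hzp, one_pow, one_mul] at h2
    exact mul_inv_eq_iff_eq_mul.mp h2
  -- the conjugate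
  obtain ⟨π', hπ'⟩ : ∃ π', π' = a * π * a⁻¹ := ⟨_, rfl⟩
  have h3 : π' * u * π'⁻¹ = u := by
    rw [hπ', ← hau]
    calc a * π * a⁻¹ * (a * z * a⁻¹) * (a * π * a⁻¹)⁻¹ = a * (π * z * π⁻¹) * a⁻¹ := by group
      _ = a * z * a⁻¹ := by rw [h1]
  have hz'O : a⁻¹ * z * a ∈ hD.Om := by
    have := (mem_normalizer_iff.mp (inv_mem ha) z).mp hD.z_mem_Om
    simpa using this
  have hβmem := hD.hcomm π hπP _ hz'O.1
  rw [← mem_powers_iff_mem_zpowers, Submonoid.mem_powers_iff] at hβmem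
  obtain ⟨β, hβ⟩ := hβmem
  have h4 : π' * z * π'⁻¹ = z * u ^ β := by
    have h5 : a * (z ^ β) * a⁻¹ = u ^ β := by
      rw [← conj_pow, hau]
    have h6 : π' * z * π'⁻¹ * z⁻¹ = u ^ β := by
      rw [← h5, hβ, hπ']
      group
    have h7 : π' * z * π'⁻¹ = u ^ β * z := by
      rw [← h6]
      group
    rw [h7]
    exact (hc.pow_right β).eq.symm
  have hβp : ¬ p ∣ β := by
    rintro ⟨c, rfl⟩
    apply hzu
    rw [pow_mul, hD.hzp, one_pow] at hβ
    have h5 : π * (a⁻¹ * z * a) = (a⁻¹ * z * a) * π := by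
      have h6 := hβ.symm
      have h7 := mul_inv_eq_one.mp h6
      exact mul_inv_eq_iff_eq_mul.mp h7
    have h8 := hD.cent_Om hπP hπ hz'O h5
    obtain ⟨i, hi⟩ := h8
    have h9 : z = u ^ i := by
      have h10 : (z ^ i : G) = a⁻¹ * z * a := hi
      have h11 : a * (z ^ i) * a⁻¹ = u ^ i := by
        rw [← conj_zpow, hau]
      rw [← h11, h10]
      group
    rw [h9]
    exact zpow_mem (mem_zpowers u) i
  have hπ'N : π' ∈ normalizer (hD.Om : Set G) := by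
    rw [hπ']
    exact mul_mem (mul_mem ha (hD.P_le_norm hπP)) (inv_mem ha)
  -- exponents
  have hpp : p.Prime := hp.out
  have hcop : Nat.Coprime (α * β) p := by
    apply Nat.Coprime.symm
    rw [Nat.Prime.coprime_iff_not_dvd hpp]
    intro h
    rcases (Nat.Prime.dvd_mul hpp).mp h with h | h
    · exact hαp h
    · exact hβp h
  obtain ⟨j, -, hj⟩ := Nat.exists_mul_mod_eq_one_of_coprime hcop hpp.one_lt
  obtain ⟨s, hs⟩ : ∃ s, p = 2 * s + 1 := hpp.odd_of_ne_two hodd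
  have hκ : α * β * j ≡ 1 [MOD p] := by
    have h5 : 1 % p = 1 := Nat.mod_eq_of_lt hpp.one_lt
    unfold Nat.ModEq
    rw [hj, h5]
  obtain ⟨w, hw⟩ : ∃ w, w = π * π' ^ j * π ^ s := ⟨_, rfl⟩
  have hwN : w ∈ normalizer (hD.Om : Set G) := by
    rw [hw]
    exact mul_mem (mul_mem (hD.P_le_norm hπP) (pow_mem hπ'N j)) (pow_mem (hD.P_le_norm hπP) s)
  have hconj : ∀ A B : ℕ, w * (z ^ A * u ^ B) * w⁻¹ =
      z ^ (A + s * α * B + 1 * α * (j * β * (A + s * α * B) + B)) *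
        u ^ (j * β * (A + s * α * B) + B) := by
    intro A B
    have c1 := act1_pow hc h1 h2 s A B
    have c2 := act2_pow hc h4 h3 j (A + s * α * B) B
    have c3 := act1_pow hc h1 h2 1 (A + s * α * B) (j * β * (A + s * α * B) + B)
    rw [pow_one] at c3
    calc w * (z ^ A * u ^ B) * w⁻¹
        = π * (π' ^ j * (π ^ s * (z ^ A * u ^ B) * (π ^ s)⁻¹) * (π' ^ j)⁻¹) * π⁻¹ := by
          rw [hw]
          group
      _ = _ := by rw [c1, c2, c3]
  have hwz := hconj 1 0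
  have hwu := hconj 0 1
  simp only [pow_one, pow_zero, mul_one, mul_zero, add_zero, zero_add, one_mul] at hwz hwu
  -- reduce exponents
  have hA : s * α + α * (j * β * (s * α) + 1) ≡ 0 [MOD p] := by
    have e1 : s * α + α * (j * β * (s * α) + 1) = s * α + (α * β * j) * (s * α) + α := by ring
    rw [e1]
    have e2 : s * α + (α * β * j) * (s * α) + α ≡ s * α + 1 * (s * α) + α [MOD p] :=
      ((Nat.ModEq.refl _).add (hκ.mul_right _)).add (Nat.ModEq.refl _)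
    refine e2.trans ?_
    have e3 : s * α + 1 * (s * α) + α = p * α := by rw [hs]; ring
    rw [e3]
    exact (Nat.modEq_zero_iff_dvd.mpr (dvd_mul_right p α))
  have hzA : z ^ (s * α + α * (j * β * (s * α) + 1)) = 1 := by
    have horder : orderOf z = p := orderOf_eq_prime hD.hzp hD.hz1
    have h5 : z ^ (s * α + α * (j * β * (s * α) + 1)) = z ^ 0 :=
      pow_eq_pow_iff_modEq.mpr (by rwa [horder])
    simpa using h5
  rw [hzA, one_mul] at hwu
  have hB : 1 + α * (j * β) ≡ 2 [MOD p] := by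
    have e1 : 1 + α * (j * β) = 1 + α * β * j := by ring
    rw [e1]
    exact (Nat.ModEq.refl 1).add hκ
  have hzB : z ^ (1 + α * (j * β)) = z ^ 2 := by
    have horder : orderOf z = p := orderOf_eq_prime hD.hzp hD.hz1
    exact pow_eq_pow_iff_modEq.mpr (by rwa [horder])
  rw [hzB] at hwz
  -- the conjugated element stabilizes the line of `z`
  have hzinv : a⁻¹ * u * a = z := by
    rw [← hau]
    group
  have htN : a⁻¹ * w * a ∈ normalizer (hD.Om : Set G) := mul_mem (mul_mem (inv_mem ha) hwN) ha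
  have htz : (a⁻¹ * w * a) * z * (a⁻¹ * w * a)⁻¹ ∈ zpowers z := by
    have h5 : (a⁻¹ * w * a) * z * (a⁻¹ * w * a)⁻¹ = a⁻¹ * (w * (a * z * a⁻¹) * w⁻¹) * a := by group
    have h9 : ∀ B : ℕ, a⁻¹ * u ^ B * a = (a⁻¹ * u * a) ^ B := by
      intro B
      have h10 := conj_pow (a := a⁻¹) (b := u) (i := B)
      simpa using h10.symm
    rw [h5, hau, hwu, h9, hzinv]
    exact pow_mem (mem_zpowers z) _
  have hst := stab_act P hD hπP hπ huO hun htN htz _ hz'O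
  obtain ⟨i, hi⟩ := hst
  have hfin : w * z * w⁻¹ * z⁻¹ = u ^ i := by
    have h5 : a * (z ^ i) * a⁻¹ = u ^ i := by rw [← conj_zpow, hau]
    rw [← h5]
    have hi' : (z ^ i : G) = _ := hi
    rw [hi']
    group
  rw [hwz] at hfin
  apply hzu
  have h6 : z = u ^ i * (u ^ (j * β))⁻¹ := by
    have h7 : z ^ 2 * u ^ (j * β) * z⁻¹ = z * u ^ (j * β) := by
      have h8 : Commute z (u ^ (j * β)) := hc.pow_right _
      calc z ^ 2 * u ^ (j * β) * z⁻¹ = z * (z * u ^ (j * β)) * z⁻¹ := by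
            rw [pow_two]
            group
        _ = z * (u ^ (j * β) * z) * z⁻¹ := by rw [h8.eq]
        _ = z * u ^ (j * β) := by group
    rw [← hfin, h7]
    group
  rw [h6]
  exact mul_mem (zpow_mem (mem_zpowers u) i) (inv_mem (pow_mem (mem_zpowers u) _))

end wordPart

section dataPart

open scoped commutatorElement

theorem A_facts {A : Type*} [Group A] [Finite A] [hp : Fact p.Prime] (hodd : p ≠ 2)
    (hE : Cfsg.IsExtraspecial p A) (hcard : Nat.card A = p ^ 3)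
    (hexp : Monoid.exponent A = p ^ 2) :
    (∀ x : A, x ∈ center A → x ^ p = 1) ∧ (∀ x y : A, (x * y) ^ p = x ^ p * y ^ p) ∧
      (∃ π : A, π ^ p ≠ 1) ∧ (∀ x y : A, x ^ p = 1 → y ^ p = 1 → x * y = y * x) := by
  classical
  have hc : ∀ x y : A, ⁅x, y⁆ ∈ center A := Cfsg.Agent.Lib.PGroup.Extraspecial.IsExtraspecial.comm_mem_center hE
  have hcen : ∀ x : A, x ∈ center A → x ^ p = 1 := by
    intro x hx
    have h1 : (⟨x, hx⟩ : center A) ^ Nat.card (center A) = 1 := pow_card_eq_one'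
    rw [hE.2] at h1
    simpa using congrArg Subtype.val h1
  have hmul : ∀ x y : A, (x * y) ^ p = x ^ p * y ^ p := by
    intro x y
    exact Cfsg.Agent.Lib.PGroup.Extraspecial.mul_pow_odd hodd hc (hcen _ (hc y x))
  have hπ : ∃ π : A, π ^ p ≠ 1 := by
    by_contra hall
    push Not at hall
    have h1 : Monoid.exponent A ∣ p := Monoid.exponent_dvd_of_forall_pow_eq_one hall
    rw [hexp] at h1
    have h2 := Nat.le_of_dvd hp.out.pos h1
    have h3 : p < p ^ 2 := by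
      have := hp.out.two_le
      nlinarith
    omega
  refine ⟨hcen, hmul, hπ, ?_⟩
  let φ : A →* A := MonoidHom.mk' (fun x => x ^ p) hmul
  have hrange : φ.range ≤ center A := by
    rintro _ ⟨x, rfl⟩
    exact Cfsg.Agent.Lib.PGroup.Extraspecial.IsExtraspecial.pow_mem_center hE x
  have hr1 : Nat.card φ.range ∣ p := by
    rw [← hE.2]
    exact Subgroup.card_dvd_of_le hrange
  have hr2 : Nat.card φ.range = p := by
    rcases (Nat.dvd_prime hp.out).mp hr1 with h | h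
    · exfalso
      obtain ⟨π, hπ⟩ := hπ
      have h2 : φ.range = ⊥ := Subgroup.eq_bot_of_card_eq _ h
      have h3 : φ π ∈ φ.range := ⟨π, rfl⟩
      rw [h2] at h3
      exact hπ h3
    · exact h
  have hk := φ.ker.card_mul_index
  rw [Subgroup.index_ker, hr2, hcard] at hk
  have hk2 : Nat.card φ.ker = p ^ 2 := by
    have h5 : Nat.card φ.ker * p = p ^ 2 * p := by rw [hk]; ring
    exact Nat.eq_of_mul_eq_mul_right hp.out.pos h5
  have hcomm : IsMulCommutative φ.ker := IsPGroup.isMulCommutative_of_card_eq_prime_sq hk2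
  intro x y hx hy
  have h6 := hcomm.is_comm.comm (⟨x, hx⟩ : φ.ker) ⟨y, hy⟩
  exact congrArg Subtype.val h6

theorem data_of [Finite G] [hp : Fact p.Prime] (hodd : p ≠ 2) (P : Sylow p G)
    (hE : Cfsg.IsExtraspecial p ↥P) (hcard : Nat.card P = p ^ 3)
    (hexp : Monoid.exponent ↥P = p ^ 2) {x : G}
    (hx : x ∈ (Subgroup.center ↥P).map (P : Subgroup G).subtype) (hx1 : x ≠ 1) :
    Data (P : Subgroup G) p x := by
  classical
  obtain ⟨hcen, hmul, ⟨π, hπ⟩, hcm⟩ := A_facts (A := ↥P) hodd hE hcard hexp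
  obtain ⟨x₀, hx₀, rfl⟩ := hx
  have hx₀1 : x₀ ≠ 1 := by
    rintro rfl
    exact hx1 rfl
  have hx₀p : x₀ ^ p = 1 := hcen x₀ hx₀
  have hzp : zpowers x₀ = center ↥P := by
    apply Subgroup.eq_of_le_of_card_ge (zpowers_le.mpr hx₀)
    have h3 : Nat.card ↥(center ↥P) = p := hE.2
    rw [Nat.card_zpowers, orderOf_eq_prime hx₀p hx₀1]
    exact h3.le
  have hmem : ∀ y : ↥P, y ∈ center ↥P → (y : G) ∈ zpowers ((P : Subgroup G).subtype x₀) := by
    intro y hy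
    rw [← hzp] at hy
    obtain ⟨i, rfl⟩ := hy
    exact ⟨i, by simp⟩
  refine ⟨x₀.2, hx1, ?_, ?_, ?_, ?_, ?_, ?_, ?_, ?_⟩
  · have := congrArg Subtype.val hx₀p
    simpa using this
  · intro y hy
    have h1 := (Subgroup.mem_center_iff.mp hx₀) ⟨y, hy⟩
    exact congrArg Subtype.val h1
  · intro y hy hc
    apply hmem ⟨y, hy⟩
    rw [Subgroup.mem_center_iff]
    rintro ⟨w, hw⟩
    apply Subtype.ext
    exact (hc w hw).symm
  · intro y hy w hw
    have h1 := Cfsg.Agent.Lib.PGroup.Extraspecial.IsExtraspecial.comm_mem_center hE (⟨y, hy⟩ : ↥P) ⟨w, hw⟩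
    have h2 := hmem _ h1
    exact h2
  · intro y hy
    have h1 := Cfsg.Agent.Lib.PGroup.Extraspecial.IsExtraspecial.pow_mem_center hE (⟨y, hy⟩ : ↥P)
    have h2 := hmem _ h1
    exact h2
  · intro y hy w hw
    have h1 := hmul (⟨y, hy⟩ : ↥P) ⟨w, hw⟩
    simpa using congrArg Subtype.val h1
  · intro y hy w hw hyp hwp
    have h1 := hcm (⟨y, hy⟩ : ↥P) ⟨w, hw⟩ (Subtype.ext hyp) (Subtype.ext hwp)
    exact congrArg Subtype.val h1
  · refine ⟨π, π.2, ?_⟩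
    intro h
    exact hπ (Subtype.ext h)

end dataPart


/-- Let p be an odd prime and G a finite group with a Sylow p-subgroup P that is extraspecial of order p³ and exponent p². Then the centre of P is strongly closed in P with respect to G: a G-conjugate of an element of Z(P) that lies in P already lies in Z(P). In particular a nontrivial central element of P is conjugate in G to no noncentral element of P. -/
theorem result {G : Type*} [Group G] [Finite G]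
    {p : ℕ} [Fact p.Prime] (hp : p ≠ 2) (P : Sylow p G) (hE : Cfsg.IsExtraspecial p ↥P)
    (hcard : Nat.card P = p ^ 3) (hexp : Monoid.exponent ↥P = p ^ 2) :
    Cfsg.IsStronglyClosed ((Subgroup.center ↥P).map (P : Subgroup G).subtype) (P : Subgroup G) := by
  classical
  refine ⟨Subgroup.map_subtype_le _, ?_⟩
  intro x hx g hg
  by_cases hx1 : x = 1
  · subst hx1
    simp
  by_contra hcon
  have hD := data_of hp P hE hcard hexp hx hx1
  refine main_contra hp P hD hg ?_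
  intro h
  exact hcon ((zpowers_le.mpr hx) h)

end Cfsg.Agent.S3053
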