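import Cfsg.Statements.S3073
import Mathlib
import Cfsg.Agent.S1988
import Cfsg.Agent.S1978
import Cfsg.Agent.Lib.PGroup.KInfIso
-- import your own Cfsg.Agent.* helpers here

set_option autoImplicit false
universe u
open Cfsg

namespace Cfsg.Agent.S3073

theorem induced_eq {G S : Type u} [Group G] [Finite G] [Group S] {p : ℕ} [Fact p.Prime] (P : Sylow p G)
    (e : ↥(P : Subgroup G) ≃* S) :
    ((kInfLower S).comap (e : ↥(P : Subgroup G) →* S)).map (P : Subgroup G).subtype =
      inducedFunctor kInfLower (P : Subgroup G) := by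
  have hfin : IsPGroup p ↥(P : Subgroup G) := P.isPGroup'
  have h := Cfsg.Agent.Lib.PGroup.KInfIso.map_kInfLower (P := ↥(P : Subgroup G)) (R := S) e
  unfold inducedFunctor
  congr 1
  rw [← h]
  ext x
  simp only [Subgroup.mem_comap, Subgroup.mem_map]
  constructor
  · rintro ⟨y, hy, hxy⟩
    have : y = x := e.injective hxy
    exact this ▸ hy
  · intro hx
    exact ⟨x, hx, rfl⟩

theorem centralizes_of_complement {G : Type u} [Group G] [Finite G] {p : ℕ} [hp : Fact p.Prime]
    (h : HasNormalPComplement p G) (P : Sylow p G) (X : Subgroup G) (hX : X ≤ (P : Subgroup G))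
    (g : G) (hg : g ∈ Subgroup.normalizer (X : Set G)) (hco : (orderOf g).Coprime p) :
    g ∈ Subgroup.centralizer (X : Set G) := by
  obtain ⟨P₀, N, hN, hc⟩ := h
  have hcard := hc.card_mul
  have hcop : (Nat.card N).Coprime p := by
    have hne : Nat.card G ≠ 0 := Nat.card_pos.ne'
    have hsyl := P₀.card_eq_multiplicity
    have hfact : Nat.card N = ordCompl[p] (Nat.card G) := by
      rw [hsyl] at hcard
      have hpos : 0 < p ^ (Nat.card G).factorization p := pow_pos hp.out.pos _
      have := Nat.ordProj_mul_ordCompl_eq_self (Nat.card G) p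
      exact Nat.eq_of_mul_eq_mul_right hpos (by rw [hcard, mul_comm, this])
    rw [hfact]
    exact (Nat.coprime_ordCompl hp.out hne).symm
  have hgN : g ∈ N := by
    have hind : Nat.card (G ⧸ N) = Nat.card P₀ := by
      have h1 := N.card_mul_index
      have hpos : 0 < Nat.card N := Nat.card_pos
      exact Nat.eq_of_mul_eq_mul_left hpos (by rw [← Subgroup.index_eq_card, h1, hcard])
    have hd1 : orderOf (QuotientGroup.mk g : G ⧸ N) ∣ orderOf g := by
      exact orderOf_map_dvd (QuotientGroup.mk' N) g
    have hd2 : orderOf (QuotientGroup.mk g : G ⧸ N) ∣ Nat.card P₀ := by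
      rw [← hind]
      exact orderOf_dvd_natCard _
    have hcop2 : (orderOf g).Coprime (Nat.card P₀) := by
      obtain ⟨k, hk⟩ := (IsPGroup.iff_card.mp P₀.isPGroup')
      rw [hk]
      exact hco.pow_right k
    have h1 : orderOf (QuotientGroup.mk g : G ⧸ N) = 1 :=
      Nat.eq_one_of_dvd_coprimes hcop2 hd1 hd2
    have := orderOf_eq_one_iff.mp h1
    exact (QuotientGroup.eq_one_iff g).mp this
  rw [Subgroup.mem_centralizer_iff]
  intro x hx
  have hxX : x ∈ X := hx
  have hconj : g * x * g⁻¹ ∈ X := (Subgroup.mem_normalizer_iff''.mp hg x |>.mp hxX |> fun _ => by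
    exact (Subgroup.mem_normalizer_iff.mp hg x).mp hxX)
  have hcN : x * g * x⁻¹ * g⁻¹ ∈ N := by
    have h2 : x * g * x⁻¹ ∈ N := hN.conj_mem g hgN x
    exact N.mul_mem h2 (N.inv_mem hgN)
  have hcX : x * (g * x⁻¹ * g⁻¹) ∈ X := by
    refine X.mul_mem hxX ?_
    have h3 : g * x⁻¹ * g⁻¹ = (g * x * g⁻¹)⁻¹ := by group
    rw [h3]
    exact X.inv_mem hconj
  have hP : IsPGroup p X := IsPGroup.to_le P.isPGroup' hX
  set c := x * g * x⁻¹ * g⁻¹ with hc'
  have hcX' : c ∈ X := by
    have : c = x * (g * x⁻¹ * g⁻¹) := by rw [hc']; group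
    rw [this]
    exact hcX
  have hone : c = 1 := by
    have hd1 : orderOf c ∣ Nat.card N := by
      have := Subgroup.orderOf_dvd_natCard N hcN
      exact this
    obtain ⟨k, hk⟩ := hP ⟨c, hcX'⟩
    have hk' : c ^ p ^ k = 1 := by
      have := congrArg Subtype.val hk
      simpa using this
    have hd2 : orderOf c ∣ p ^ k := orderOf_dvd_of_pow_eq_one hk'
    have : orderOf c = 1 := Nat.eq_one_of_dvd_coprimes (hcop.pow_right k) hd1 hd2
    exact orderOf_eq_one_iff.mp this
  have : x * g = g * x := by
    have h4 : x * g * x⁻¹ * g⁻¹ = 1 := hone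
    calc x * g = (x * g * x⁻¹ * g⁻¹) * (g * x) := by group
      _ = g * x := by rw [h4, one_mul]
  exact this.symm ▸ rfl

/-- For an odd prime p, every finite p-group S has a characteristic subgroup K with C_S(K) ≤ K such that, whenever S is (isomorphic to) a Sylow p-subgroup of a finite group G, G has a normal p-complement if and only if N_G(K)/C_G(K) is a p-group, i.e. every element of N_G(K) of order prime to p centralizes K (K transported into G along the isomorphism). -/
theorem result (p : ℕ) [Fact p.Prime] (hp : p ≠ 2)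
    (S : Type u) [Group S] [Finite S] (hS : IsPGroup p S) :
    ∃ K : Subgroup S, K.Characteristic ∧ Subgroup.centralizer (K : Set S) ≤ K ∧
      ∀ (G : Type u) [Group G] [Finite G] (P : Sylow p G) (e : ↥(P : Subgroup G) ≃* S),
        Cfsg.HasNormalPComplement p G ↔
          ∀ g ∈ Subgroup.normalizer (((K.comap (e : ↥(P : Subgroup G) →* S)).map (P : Subgroup G).subtype : Subgroup G) : Set G),
            (orderOf g).Coprime p →
              g ∈ Subgroup.centralizer (((K.comap (e : ↥(P : Subgroup G) →* S)).map (P : Subgroup G).subtype : Subgroup G) : Set G) := by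
  classical
  refine ⟨kInfLower S, ?_, ?_, ?_⟩
  · refine Subgroup.characteristic_iff_map_eq.mpr fun φ => ?_
    exact Cfsg.Agent.Lib.PGroup.KInfIso.map_kInfLower φ
  · exact (Cfsg.Agent.S1978.result hS).1
  · intro G _ _ P e
    rw [induced_eq P e]
    constructor
    · intro h g hg hco
      exact centralizes_of_complement h P _ (by
        unfold inducedFunctor
        rintro _ ⟨x, -, rfl⟩
        exact x.2) g hg hco
    · intro h
      exact Cfsg.Agent.S1988.result hp P (Or.inr h)

end Cfsg.Agent.S3073
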