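import Cfsg.Statements.S3070
import Mathlib
import Cfsg.Agent.Lib.Perm.ThompsonX
import Cfsg.Agent.Lib.Transfer.FunctorComplement
import Cfsg.Agent.S1988
import Cfsg.Agent.S3073
set_option autoImplicit false
set_option linter.style.haveILetI false
universe u
open Cfsg

namespace Cfsg.Agent.S3070

open Subgroup Cfsg.Agent.Lib.Perm.ThompsonJ Cfsg.Agent.Lib.Basic.PCore
open Cfsg.Agent.Lib.Transfer.FunctorComplement

theorem cm_of_comm {P : Type*} [Group P] {A : Subgroup P} (h : IsMulCommutative A) : Cm A := by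
  intro a ha b hb
  have := mul_comm' (⟨a, ha⟩ : A) ⟨b, hb⟩
  exact congrArg Subtype.val this

theorem comm_of_cm {P : Type*} [Group P] {A : Subgroup P} (h : Cm A) : IsMulCommutative A :=
  ⟨⟨fun a b => Subtype.ext (h a a.2 b b.2)⟩⟩

/-- Existence of abelian subgroups of maximal order. -/
theorem exists_maxAb {P : Type*} [Group P] [Finite P] : ∃ A, A ∈ maxAbelianSubgroups P := by
  let F : Set (Subgroup P) := {B | IsMulCommutative B}
  have hF : F.Nonempty := ⟨⊥, comm_of_cm (fun a ha b hb => by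
    rw [Subgroup.mem_bot.1 ha, Subgroup.mem_bot.1 hb])⟩
  obtain ⟨A, hA, hmax⟩ := Set.exists_max_image F (fun B => Nat.card B) F.toFinite hF
  exact ⟨A, hA, fun B hB => hmax B hB⟩

theorem map_mem_maxAb {Q R : Type*} [Group Q] [Group R] [Finite Q] (φ : Q ≃* R) {A : Subgroup Q}
    (hA : A ∈ maxAbelianSubgroups Q) : A.map φ.toMonoidHom ∈ maxAbelianSubgroups R := by
  obtain ⟨h1, h2⟩ := hA
  have hcm := cm_of_comm h1
  refine ⟨comm_of_cm ?_, fun B hB => ?_⟩
  · rintro _ ⟨a, ha, rfl⟩ _ ⟨b, hb, rfl⟩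
    show φ a * φ b = φ b * φ a
    rw [← map_mul, ← map_mul, hcm a ha b hb]
  · have hBc := cm_of_comm hB
    have hc : IsMulCommutative (B.map φ.symm.toMonoidHom) := by
      refine comm_of_cm ?_
      rintro _ ⟨a, ha, rfl⟩ _ ⟨b, hb, rfl⟩
      show φ.symm a * φ.symm b = φ.symm b * φ.symm a
      rw [← map_mul, ← map_mul, hBc a ha b hb]
    have h3 := h2 _ hc
    rw [Subgroup.card_map_of_injective (f := φ.symm.toMonoidHom) φ.symm.injective] at h3
    rw [Subgroup.card_map_of_injective (f := φ.toMonoidHom) φ.injective]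
    exact h3

theorem map_thompson_le {Q R : Type*} [Group Q] [Group R] [Finite Q] (φ : Q ≃* R) :
    (thompsonSubgroupA Q).map φ.toMonoidHom ≤ thompsonSubgroupA R := by
  rw [Subgroup.map_le_iff_le_comap]
  refine sSup_le fun A hA => ?_
  rw [← Subgroup.map_le_iff_le_comap]
  exact le_sSup (map_mem_maxAb φ hA)

theorem isChar (p : ℕ) [hp : Fact p.Prime] : IsCharPFunctor.{u} p (fun Q _ => thompsonSubgroupA Q) := by
  refine ⟨?_, ?_⟩
  · intro Q _ _ hQ hn hbot
    obtain ⟨A, hA⟩ := exists_maxAb (P := Q)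
    obtain ⟨x, hx⟩ := exists_ne (1 : Q)
    have h1 : A ≤ thompsonSubgroupA Q := le_sSup hA
    have hbot' : thompsonSubgroupA Q = ⊥ := hbot
    rw [hbot', le_bot_iff] at h1
    have hz : IsMulCommutative (zpowers x) := comm_of_cm (by
      rintro _ ⟨i, rfl⟩ _ ⟨j, rfl⟩
      simp only
      rw [← zpow_add, ← zpow_add, add_comm])
    have h2 := hA.2 _ hz
    rw [h1, Subgroup.card_bot] at h2
    have h3 : zpowers x = ⊥ := by
      have h4 : Nat.card (zpowers x) = 1 := le_antisymm h2 Nat.card_pos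
      exact (Subgroup.card_eq_one).1 h4
    exact hx (zpowers_eq_bot.1 h3)
  · intro Q R _ _ _ _ φ
    haveI : Finite R := Finite.of_equiv Q φ.toEquiv
    refine le_antisymm (map_thompson_le φ) ?_
    have h1 := map_thompson_le φ.symm
    intro r hr
    exact ⟨φ.symm r, h1 ⟨r, hr, rfl⟩, by simp⟩

variable {G : Type u} [Group G] [Finite G]

theorem isMaxAb_of_mem {T : Subgroup G} {A : Subgroup T} (hA : A ∈ maxAbelianSubgroups T) :
    IsMaxAb T (A.map T.subtype) := by
  obtain ⟨h1, h2⟩ := hA
  have hcm := cm_of_comm h1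
  refine ⟨Subgroup.map_subtype_le A, ?_, fun B hB hBc => ?_⟩
  · rintro _ ⟨a, ha, rfl⟩ _ ⟨b, hb, rfl⟩
    exact congrArg Subtype.val (hcm a ha b hb)
  · have hc : IsMulCommutative (B.subgroupOf T) := comm_of_cm (fun a ha b hb =>
      Subtype.ext (hBc a ha b hb))
    have h3 := h2 _ hc
    have e1 : Nat.card (B.subgroupOf T) = Nat.card B :=
      Nat.card_congr (Subgroup.subgroupOfEquivOfLe hB).toEquiv
    have e2 : Nat.card ↥(A.map T.subtype) = Nat.card A :=
      Subgroup.card_map_of_injective T.subtype_injective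
    rw [e2]
    rwa [e1] at h3

theorem mem_of_isMaxAb {T B : Subgroup G} (hB : IsMaxAb T B) :
    B.subgroupOf T ∈ maxAbelianSubgroups T := by
  obtain ⟨h1, h2, h3⟩ := hB
  refine ⟨comm_of_cm (fun a ha b hb => Subtype.ext (h2 a ha b hb)), fun C hC => ?_⟩
  have hcm := cm_of_comm hC
  have e1 : Nat.card (B.subgroupOf T) = Nat.card B :=
    Nat.card_congr (Subgroup.subgroupOfEquivOfLe h1).toEquiv
  have h4 := h3 (C.map T.subtype) (Subgroup.map_subtype_le C) (by
    rintro _ ⟨a, ha, rfl⟩ _ ⟨b, hb, rfl⟩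
    exact congrArg Subtype.val (hcm a ha b hb))
  rwa [Subgroup.card_map_of_injective (f := T.subtype) T.subtype_injective, ← e1] at h4

/-- The local condition. -/
theorem localH {p : ℕ} [hp : Fact p.Prime] (hp5 : 5 ≤ p) (X : Type u) [Group X] [Finite X] :
    LocalH p (fun Q _ => thompsonSubgroupA Q) X := by
  intro hc hq T hT
  haveI hOn : (pCore p X).Normal := pCore_normal p X
  have hOT : pCore p X ≤ (T : Subgroup X) := pCore_le_sylow T
  have hle : ∀ g : X, inducedFunctor (fun Q _ => thompsonSubgroupA Q) (T : Subgroup X) ≤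
      (inducedFunctor (fun Q _ => thompsonSubgroupA Q) (T : Subgroup X)).comap (MulAut.conj g).toMonoidHom := by
    intro g
    refine (Subgroup.map_le_iff_le_comap).2 (sSup_le fun A hA => ?_)
    rw [← Subgroup.map_le_iff_le_comap, ← Subgroup.map_le_iff_le_comap]
    have hA' := isMaxAb_of_mem hA
    have hAO := Cfsg.Agent.Lib.Perm.ThompsonX.theorem_X hp5 hc hq T hT hA'
    set B : Subgroup X := (A.map (T : Subgroup X).subtype).map (MulAut.conj g).toMonoidHom with hB
    have hBO : B ≤ pCore p X := by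
      rintro _ ⟨a, ha, rfl⟩
      exact hOn.conj_mem a (hAO ha) g
    have hBmax : IsMaxAb (T : Subgroup X) B := by
      refine ⟨hBO.trans hOT, ?_, fun C hC hCc => ?_⟩
      · rintro _ ⟨a, ha, rfl⟩ _ ⟨b, hb, rfl⟩
        show (MulAut.conj g) a * (MulAut.conj g) b = (MulAut.conj g) b * (MulAut.conj g) a
        rw [← map_mul, ← map_mul, hA'.2.1 a ha b hb]
      · rw [hB, Subgroup.card_map_of_injective (MulAut.conj g).injective]
        exact hA'.2.2 C hC hCc
    have hmem := mem_of_isMaxAb hBmax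
    have h1 : (B.subgroupOf (T : Subgroup X)).map (T : Subgroup X).subtype = B := by
      rw [Subgroup.subgroupOf_map_subtype, inf_eq_left]
      exact hBO.trans hOT
    rw [← h1]
    exact Subgroup.map_mono (le_sSup hmem)
  constructor
  intro n hn g
  exact hle g hn

theorem result {G : Type*} [Group G] [Finite G] {p : ℕ} [Fact p.Prime]
    (hp : 5 ≤ p) (S : Sylow p G) :
    Cfsg.HasNormalPComplement p G ↔
      ∀ g ∈ Subgroup.normalizer (Cfsg.thompsonSubgroupAOf (S : Subgroup G) : Set G), (orderOf g).Coprime p →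
        g ∈ Subgroup.centralizer (Cfsg.thompsonSubgroupAOf (S : Subgroup G) : Set G) := by
  constructor
  · intro h g hg hco
    exact Cfsg.Agent.S3073.centralizes_of_complement h S _ (Subgroup.map_subtype_le _) g hg hco
  · intro h
    have hN : HasNormalPComplement p
        (normalizer (inducedFunctor (fun Q _ => thompsonSubgroupA Q) (S : Subgroup G) : Set G)) := by
      refine Cfsg.Agent.S1988.hnpc_of_centralizes S ?_ ?_ h
      · rintro x ⟨hxS, hxC⟩
        obtain ⟨A, hA⟩ := exists_maxAb (P := (S : Subgroup G))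
        have hA' := isMaxAb_of_mem hA
        have h1 : x ∈ A.map (S : Subgroup G).subtype := by
          refine mem_of_comm hA' hxS fun a ha => ?_
          have h2 : a ∈ thompsonSubgroupAOf (S : Subgroup G) := Subgroup.map_mono (le_sSup hA) ha
          exact ((mem_centralizer_iff.1 hxC) a h2).symm
        exact Subgroup.map_mono (le_sSup hA) h1
      · exact Subgroup.le_normalizer.trans (normalizer_le_iW (isChar p) S.isPGroup')
    exact main (isChar p) (fun _ _ => True) (fun _ _ _ _ => trivial) (fun _ _ _ _ _ => trivial)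
      (fun X _ _ _ => localH hp X) _ G rfl trivial S hN

end Cfsg.Agent.S3070
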