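import Cfsg.Statements.S3104
import Mathlib
import Cfsg.Agent.S2553
import Cfsg.Agent.S3103
import Cfsg.Agent.Lib.Sect4.OddTop
import Cfsg.Agent.Lib.Sect4.S6
import Cfsg.Agent.Lib.Sect4.Frat

set_option autoImplicit false
open Cfsg

namespace Cfsg.Agent.S3104

open Cfsg.Agent.Lib.Basic.PCore

theorem pCore_bot_of_equiv' {G G' : Type*} [Group G] [Group G'] (e : G ≃* G') (h : Cfsg.pCore 2 G = ⊥) :
    Cfsg.pCore 2 G' = ⊥ := by
  rw [eq_bot_iff]
  refine sSup_le ?_
  rintro N ⟨hN, hP⟩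
  have h1 : N.comap e.toMonoidHom ≤ Cfsg.pCore 2 G :=
    le_pCore (hN.comap _) (hP.comap_of_injective _ e.injective)
  rw [h] at h1
  intro n hn
  have h2 : e.symm n ∈ N.comap e.toMonoidHom := by
    show e (e.symm n) ∈ N
    simpa using hn
  have h3 := h1 h2
  rw [Subgroup.mem_bot] at h3 ⊢
  simpa using h3

theorem pPrimeCore_bot_of_equiv' {G G' : Type*} [Group G] [Group G'] (e : G ≃* G') (h : Cfsg.pPrimeCore 2 G = ⊥) :
    Cfsg.pPrimeCore 2 G' = ⊥ := by
  rw [eq_bot_iff]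
  refine sSup_le ?_
  rintro N ⟨hN, hP⟩
  have hc : Nat.card (N.comap e.toMonoidHom) = Nat.card N :=
    Nat.card_congr (Equiv.subtypeEquiv e.toEquiv (fun a => Iff.rfl))
  have h1 : N.comap e.toMonoidHom ≤ Cfsg.pPrimeCore 2 G :=
    le_pPrimeCore (hN.comap _) (by rw [hc]; exact hP)
  rw [h] at h1
  intro n hn
  have h2 : e.symm n ∈ N.comap e.toMonoidHom := by
    show e (e.symm n) ∈ N
    simpa using hn
  have h3 := h1 h2
  rw [Subgroup.mem_bot] at h3 ⊢
  simpa using h3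

/-- `GL₃(2)` as a projective special linear group. -/
theorem gl3_psl : Nonempty (GL (Fin 3) (ZMod 2) ≃* Matrix.ProjectiveSpecialLinearGroup (Fin 3) (ZMod 2)) := by
  classical
  have hdet : ∀ g : GL (Fin 3) (ZMod 2), (g : Matrix (Fin 3) (Fin 3) (ZMod 2)).det = 1 := by
    intro g
    have h1 : IsUnit (g : Matrix (Fin 3) (Fin 3) (ZMod 2)).det :=
      (Matrix.isUnit_iff_isUnit_det _).1 g.isUnit
    have h2 : ∀ r : ZMod 2, IsUnit r → r = 1 := by decide
    exact h2 _ h1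
  let sl : GL (Fin 3) (ZMod 2) →* Matrix.SpecialLinearGroup (Fin 3) (ZMod 2) :=
    { toFun := fun g => ⟨g, hdet g⟩
      map_one' := by
        apply Subtype.ext
        rfl
      map_mul' := by
        intro a b
        apply Subtype.ext
        rfl }
  let F : GL (Fin 3) (ZMod 2) →* Matrix.ProjectiveSpecialLinearGroup (Fin 3) (ZMod 2) :=
    (QuotientGroup.mk' _).comp sl
  have hinj : Function.Injective F := by
    rw [injective_iff_map_eq_one]
    intro g hg
    have h2 : sl g ∈ Subgroup.center (Matrix.SpecialLinearGroup (Fin 3) (ZMod 2)) :=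
      (QuotientGroup.eq_one_iff _).1 hg
    obtain ⟨r, hr, hrg⟩ := Matrix.SpecialLinearGroup.mem_center_iff.1 h2
    have hr1 : r = 1 := by
      have h5 : ∀ r : ZMod 2, r ^ 3 = 1 → r = 1 := by decide
      exact h5 r (by simpa using hr)
    apply Units.ext
    have h3 : ((sl g : Matrix.SpecialLinearGroup (Fin 3) (ZMod 2)) : Matrix (Fin 3) (Fin 3) (ZMod 2)) =
        Matrix.scalar (Fin 3) r := hrg.symm
    rw [hr1, map_one] at h3
    exact h3
  have hsurj : Function.Surjective F := by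
    intro y
    obtain ⟨s, rfl⟩ := QuotientGroup.mk_surjective y
    refine ⟨(s : GL (Fin 3) (ZMod 2)), ?_⟩
    show ((sl s : Matrix.SpecialLinearGroup (Fin 3) (ZMod 2)) : Matrix.ProjectiveSpecialLinearGroup (Fin 3) (ZMod 2)) = _
    congr 1
  exact ⟨MulEquiv.ofBijective F ⟨hinj, hsurj⟩⟩

/-- The first part of the theorem, for a group in `A₈`. -/
theorem clause1 {Q : Type*} [Group Q] [Finite Q] (f : Q →* alternatingGroup (Fin 8))
    (hf : Function.Injective f) (hns : ¬ Group.IsSolvable Q) (hO2 : Cfsg.pCore 2 Q = ⊥) :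
    (∃ (F : Type) (_ : Field F) (_ : Fintype F), Fintype.card F = 2 ∧
        Nonempty (Q ≃* Matrix.ProjectiveSpecialLinearGroup (Fin 3) F)) ∨
      (∃ n : ℕ, 5 ≤ n ∧ n ≤ 8 ∧ Nonempty (Q ≃* ↥(alternatingGroup (Fin n)))) ∨
      (∃ n : ℕ, 5 ≤ n ∧ n ≤ 7 ∧ Nonempty (Q ≃* Equiv.Perm (Fin n))) ∨
      (Nat.card ↥(Cfsg.pCore 3 Q) = 3 ∧
        (Nonempty (Q ⧸ Cfsg.pCore 3 Q ≃* ↥(alternatingGroup (Fin 5))) ∨
          Nonempty (Q ⧸ Cfsg.pCore 3 Q ≃* Equiv.Perm (Fin 5)))) := by
  classical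
  by_cases hO : Cfsg.pPrimeCore 2 Q = ⊥
  · -- the case of `S2553`
    obtain ⟨f₀, hf₀⟩ := Cfsg.Agent.S2553.exists_GL4_A8
    have hbij : Function.Bijective f₀ := by
      apply (Nat.bijective_iff_injective_and_card f₀).2
      refine ⟨hf₀, ?_⟩
      rw [Cfsg.Agent.S2553.card_GL4, nat_card_alternatingGroup]
      simp [Nat.factorial]
    let E : GL (Fin 4) (ZMod 2) ≃* alternatingGroup (Fin 8) := MulEquiv.ofBijective f₀ hbij
    let g : Q →* GL (Fin 4) (ZMod 2) := E.symm.toMonoidHom.comp f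
    have hg : Function.Injective g := E.symm.injective.comp hf
    let eQ : Q ≃* g.range := MonoidHom.ofInjective hg
    have hH : g.range ≠ ⊥ := by
      intro h
      apply hns
      have hs : ∀ a b : Q, a * b = b * a := by
        intro a b
        have h2 : ∀ c : Q, c = 1 := by
          intro c
          have : g c ∈ g.range := ⟨c, rfl⟩
          rw [h, Subgroup.mem_bot] at this
          exact hg (this.trans (map_one g).symm)
        rw [h2 a, h2 b]
      exact Group.isSolvable_of_comm hs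
    have h1 := Cfsg.Agent.S2553.result g.range hH (pPrimeCore_bot_of_equiv' eQ hO) (pCore_bot_of_equiv' eQ hO2)
    rcases h1 with ⟨n, h5, h8, ⟨e⟩⟩ | ⟨⟨e⟩⟩ | ⟨⟨e⟩⟩ | ⟨⟨e⟩⟩
    · exact Or.inr (Or.inl ⟨n, h5, h8, ⟨eQ.trans e⟩⟩)
    · exact Or.inr (Or.inr (Or.inl ⟨5, by norm_num, by norm_num, ⟨eQ.trans e⟩⟩))
    · exact Or.inr (Or.inr (Or.inl ⟨6, by norm_num, by norm_num, ⟨eQ.trans e⟩⟩))
    · left
      obtain ⟨e2⟩ := gl3_psl
      exact ⟨ZMod 2, inferInstance, inferInstance, ZMod.card 2, ⟨(eQ.trans e).trans e2⟩⟩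
  · exact Or.inr (Or.inr (Or.inr (Cfsg.Agent.Lib.Sect4.OddTop.odd_branch f hf hns hO)))

/-- `S₆` in `S₇`. -/
theorem exists_S6_S7 : ∃ j : Equiv.Perm (Fin 6) →* Equiv.Perm (Fin 7), Function.Injective j := by
  refine ⟨(Equiv.permCongrHom (finSumFinEquiv (m := 6) (n := 1))).toMonoidHom.comp
    ((Equiv.Perm.sumCongrHom (Fin 6) (Fin 1)).comp (MonoidHom.inl _ _)), ?_⟩
  intro a b h
  have h1 := (Equiv.permCongrHom (finSumFinEquiv (m := 6) (n := 1))).injective h
  have h2 := Equiv.Perm.sumCongrHom_injective h1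
  exact congrArg Prod.fst h2

/-- `S₆` in `A₈`. -/
theorem exists_S6_A8 : ∃ j : Equiv.Perm (Fin 6) →* alternatingGroup (Fin 8), Function.Injective j := by
  classical
  let u2 : ℤˣ →* Equiv.Perm (Fin 2) :=
    { toFun := fun u => if u = 1 then 1 else Equiv.swap 0 1
      map_one' := by simp
      map_mul' := by decide }
  have hu2 : ∀ u : ℤˣ, Equiv.Perm.sign (u2 u) = u := by decide
  let j0 : Equiv.Perm (Fin 6) →* Equiv.Perm (Fin 6 ⊕ Fin 2) :=
    (Equiv.Perm.sumCongrHom (Fin 6) (Fin 2)).comp (MonoidHom.prod (MonoidHom.id _) (u2.comp Equiv.Perm.sign))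
  let j1 : Equiv.Perm (Fin 6) →* Equiv.Perm (Fin 8) :=
    (Equiv.permCongrHom (finSumFinEquiv (m := 6) (n := 2))).toMonoidHom.comp j0
  have hj1 : ∀ g, j1 g ∈ alternatingGroup (Fin 8) := by
    intro g
    rw [Equiv.Perm.mem_alternatingGroup]
    show Equiv.Perm.sign ((finSumFinEquiv (m := 6) (n := 2)).permCongr (Equiv.Perm.sumCongr g (u2 (Equiv.Perm.sign g)))) = 1
    rw [Equiv.Perm.sign_permCongr, Equiv.Perm.sign_sumCongr, hu2, ← pow_two, Int.units_sq]
  refine ⟨j1.codRestrict _ hj1, ?_⟩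
  intro a b h
  have h1 : j1 a = j1 b := congrArg Subtype.val h
  have h2 := (Equiv.permCongrHom (finSumFinEquiv (m := 6) (n := 2))).injective h1
  have h3 := Equiv.Perm.sumCongrHom_injective h2
  exact congrArg Prod.fst h3

/-- Let X be a finite nonsolvable 2-constrained group with no nontrivial normal subgroup of odd order such that O₂(X) has sectional 2-rank at most 4, and write Q for X/O₂(X). Then Q is isomorphic to the projective special linear group of dimension 3 over the field with 2 elements, to an alternating group of degree n with 5 ≤ n ≤ 8, to a symmetric group of degree n with 5 ≤ n ≤ 7, or else O₃(Q) has order 3 and Q/O₃(Q) is isomorphic to the alternating or the symmetric group of degree 5 (so Q is the direct product of a group of order 3 with the alternating group of degree 5, or an extension of that direct product by a group of order 2). If moreover X itself has sectional 2-rank at most 4, then Q is not isomorphic to the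 symmetric group of degree 6 or 7 nor to the alternating group of degree 8. -/
theorem result {X : Type*} [Group X] [Finite X] (hns : ¬ Group.IsSolvable X) (hc : Cfsg.IsPConstrained 2 X) (hO : Cfsg.oddCore X = ⊥)
    (h4 : Cfsg.SectionalPRankLE 2 4 ↥(Cfsg.pCore 2 X)) :
    ((∃ (F : Type) (_ : Field F) (_ : Fintype F), Fintype.card F = 2 ∧
          Nonempty (X ⧸ Cfsg.pCore 2 X ≃* Matrix.ProjectiveSpecialLinearGroup (Fin 3) F)) ∨
        (∃ n : ℕ, 5 ≤ n ∧ n ≤ 8 ∧ Nonempty (X ⧸ Cfsg.pCore 2 X ≃* ↥(alternatingGroup (Fin n)))) ∨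
        (∃ n : ℕ, 5 ≤ n ∧ n ≤ 7 ∧ Nonempty (X ⧸ Cfsg.pCore 2 X ≃* Equiv.Perm (Fin n))) ∨
        (Nat.card ↥(Cfsg.pCore 3 (X ⧸ Cfsg.pCore 2 X)) = 3 ∧
          (Nonempty ((X ⧸ Cfsg.pCore 2 X) ⧸ Cfsg.pCore 3 (X ⧸ Cfsg.pCore 2 X) ≃* ↥(alternatingGroup (Fin 5))) ∨
            Nonempty ((X ⧸ Cfsg.pCore 2 X) ⧸ Cfsg.pCore 3 (X ⧸ Cfsg.pCore 2 X) ≃* Equiv.Perm (Fin 5))))) ∧
      (Cfsg.SectionalPRankLE 2 4 X →
        ¬ (Nonempty (X ⧸ Cfsg.pCore 2 X ≃* Equiv.Perm (Fin 6)) ∨ Nonempty (X ⧸ Cfsg.pCore 2 X ≃* Equiv.Perm (Fin 7)) ∨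
            Nonempty (X ⧸ Cfsg.pCore 2 X ≃* ↥(alternatingGroup (Fin 8))))) := by
  classical
  haveI h2F : Fact (Nat.Prime 2) := ⟨Nat.prime_two⟩
  have hRp : IsPGroup 2 (Cfsg.pCore 2 X) := pCore_isPGroup 2
  constructor
  · obtain ⟨f, hf⟩ := Cfsg.Agent.S3103.result hc hO h4
    apply clause1 f hf
    · intro hs
      apply hns
      haveI : Group.IsSolvable (Cfsg.pCore 2 X) := by
        haveI := hRp.isNilpotent
        infer_instance
      exact Group.isSolvable_of_ker_le_range (Cfsg.pCore 2 X).subtype (QuotientGroup.mk' (Cfsg.pCore 2 X)) (by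
        rw [QuotientGroup.ker_mk', Subgroup.range_subtype])
    · exact pCore_quotient_eq_bot
  · intro hX4 hcases
    obtain ⟨V, iV, iFin, cl, α, h2, hcl, hα, hker, h16⟩ :=
      Cfsg.Agent.Lib.Sect4.Frat.frattini_data (Cfsg.pCore 2 X) hRp (fun N h1 h3 => le_pCore h1 h3)
        (Cfsg.Agent.Lib.Sect4.Frat.cen_le hc hO) h4
    have key : ∀ ι : Equiv.Perm (Fin 6) →* X ⧸ Cfsg.pCore 2 X, Function.Injective ι → False := by
      intro ι hι
      let lα : X ⧸ Cfsg.pCore 2 X →* MulAut V :=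
        QuotientGroup.lift (Cfsg.pCore 2 X) α (fun x hx => (hker x).2 hx)
      have hlα : Function.Injective lα := by
        rw [injective_iff_map_eq_one]
        intro a ha
        obtain ⟨x, rfl⟩ := QuotientGroup.mk_surjective a
        have h1 : α x = 1 := ha
        exact (QuotientGroup.eq_one_iff x).2 ((hker x).1 h1)
      refine Cfsg.Agent.Lib.Sect4.S6.no_S6 (Cfsg.pCore 2 X) h2 h16 cl hcl α hα ι hι (lα.comp ι) ?_ (hlα.comp hι) hX4
      intro g x hx
      show lα (ι g) = α x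
      rw [← hx]
      rfl
    rcases hcases with ⟨⟨e⟩⟩ | ⟨⟨e⟩⟩ | ⟨⟨e⟩⟩
    · exact key e.symm.toMonoidHom e.symm.injective
    · obtain ⟨j, hj⟩ := exists_S6_S7
      exact key (e.symm.toMonoidHom.comp j) (e.symm.injective.comp hj)
    · obtain ⟨j, hj⟩ := exists_S6_A8
      exact key (e.symm.toMonoidHom.comp j) (e.symm.injective.comp hj)

end Cfsg.Agent.S3104
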