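import Cfsg.Statements.S3110
import Mathlib
import Cfsg.Agent.Lib.Signalizer.TwoCore

set_option autoImplicit false
open Cfsg

namespace Cfsg.Agent.S3110

open Cfsg.Agent.Lib.Signalizer.TwoCore
open Cfsg.Agent.Lib.Signalizer.CoreBalance
open Cfsg.Agent.Lib.Components.OddCoreFunctor
open scoped Pointwise

/-- The elementary abelian normal subgroup transported to another Sylow subgroup. -/
theorem exists_normal_elem {G : Type*} [Group G] [Finite G] (S S' : Sylow 2 G) (A : Subgroup ↥(S : Subgroup G))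
    (hAn : A.Normal) (hAab : IsMulCommutative ↥A) (hA3 : ¬ Cfsg.PRankLE 2 2 ↥A) :
    ∃ E : Subgroup G, E ≤ (S' : Subgroup G) ∧ (S' : Subgroup G) ≤ Subgroup.normalizer (E : Set G) ∧
      IsMulCommutative E ∧ (∀ e ∈ E, e ^ 2 = 1) ∧ 8 ≤ Nat.card E := by
  classical
  set A' : Subgroup G := A.map (S : Subgroup G).subtype with hA'
  have hA'S : A' ≤ (S : Subgroup G) := by
    rintro _ ⟨a, _, rfl⟩
    exact a.2
  have hcomm : ∀ x ∈ A', ∀ y ∈ A', x * y = y * x := by
    rintro _ ⟨x, hx, rfl⟩ _ ⟨y, hy, rfl⟩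
    exact congrArg Subtype.val (Subgroup.mul_comm_of_mem_isMulCommutative A hx hy)
  let E₀ : Subgroup G :=
    { carrier := {x | x ∈ A' ∧ x ^ 2 = 1}
      one_mem' := ⟨A'.one_mem, one_pow 2⟩
      mul_mem' := by
        rintro x y ⟨hx, hx2⟩ ⟨hy, hy2⟩
        refine ⟨A'.mul_mem hx hy, ?_⟩
        rw [(show Commute x y from hcomm x hx y hy).mul_pow, hx2, hy2, one_mul]
      inv_mem' := by
        rintro x ⟨hx, hx2⟩
        exact ⟨A'.inv_mem hx, by rw [inv_pow, hx2, inv_one]⟩ }
  have hE₀ : ∀ x, x ∈ E₀ ↔ x ∈ A' ∧ x ^ 2 = 1 := fun x => Iff.rfl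
  have hE₀n : ∀ s ∈ (S : Subgroup G), ∀ x ∈ E₀, s * x * s⁻¹ ∈ E₀ := by
    rintro s hs x ⟨⟨a, ha, rfl⟩, hx2⟩
    refine ⟨⟨(⟨s, hs⟩ : ↥(S : Subgroup G)) * a * (⟨s, hs⟩ : ↥(S : Subgroup G))⁻¹,
      hAn.conj_mem a ha _, rfl⟩, ?_⟩
    rw [conj_pow, hx2]
    simp
  have hE₀8 : 8 ≤ Nat.card E₀ := by
    unfold Cfsg.PRankLE at hA3
    push Not at hA3
    obtain ⟨B, hBc, hB2, hBcard⟩ := hA3
    let f : ↥A →* G := (S : Subgroup G).subtype.comp A.subtype
    have hf : Function.Injective f :=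
      (Subgroup.subtype_injective _).comp (Subgroup.subtype_injective _)
    have hBE : B.map f ≤ E₀ := by
      rintro _ ⟨b, hb, rfl⟩
      refine ⟨⟨b.1, b.2, rfl⟩, ?_⟩
      have := hB2 b hb
      exact congrArg f this |>.trans (map_one f) |> fun h => by simpa [f] using h
    have hc : Nat.card B = Nat.card (B.map f) := (Subgroup.card_map_of_injective hf).symm
    have hc2 : Nat.card (B.map f) ≤ Nat.card E₀ :=
      Nat.le_of_dvd Nat.card_pos (Subgroup.card_dvd_of_le hBE)
    apply eight_le_of_lt (isPGroup_of_sq (fun a ha => ((hE₀ a).mp ha).2))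
    norm_num at hBcard
    omega
  obtain ⟨g, hg⟩ : ∃ g : G, g • S = S' := MulAction.exists_smul_eq G S S'
  have hS' : ∀ x, x ∈ (S' : Subgroup G) ↔ g⁻¹ * x * g ∈ (S : Subgroup G) := by
    intro x
    rw [← hg]
    constructor
    · intro hx
      have hx' : x ∈ MulAut.conj g • (S : Subgroup G) := hx
      rw [Subgroup.mem_pointwise_smul_iff_inv_smul_mem] at hx'
      simpa [MulAut.smul_def, MulAut.conj_apply, MulAut.conj_inv_apply, mul_assoc] using hx'
    · intro hx
      have hx' : x ∈ MulAut.conj g • (S : Subgroup G) := by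
        rw [Subgroup.mem_pointwise_smul_iff_inv_smul_mem]
        simpa [MulAut.smul_def, MulAut.conj_apply, MulAut.conj_inv_apply, mul_assoc] using hx
      exact hx'
  set c : G →* G := (MulAut.conj g).toMonoidHom with hc
  have hcinj : Function.Injective c := (MulAut.conj g).injective
  have hcapp : ∀ x, c x = g * x * g⁻¹ := fun x => rfl
  refine ⟨E₀.map c, ?_, ?_, ?_, ?_, ?_⟩
  · rintro _ ⟨x, hx, rfl⟩
    rw [hS', hcapp]
    have : g⁻¹ * (g * x * g⁻¹) * g = x := by group
    rw [this]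
    exact hA'S hx.1
  · intro s hs
    apply Cfsg.Agent.Lib.Coprime.Three.mem_normalizer_of_conj_mem
    rintro _ ⟨x, hx, rfl⟩
    have h1 := (hS' s).mp hs
    refine ⟨(g⁻¹ * s * g) * x * (g⁻¹ * s * g)⁻¹, hE₀n _ h1 x hx, ?_⟩
    rw [hcapp, hcapp]
    group
  · refine ⟨⟨?_⟩⟩
    rintro ⟨_, x, hx, rfl⟩ ⟨_, y, hy, rfl⟩
    apply Subtype.ext
    show c x * c y = c y * c x
    rw [← map_mul, ← map_mul, hcomm x hx.1 y hy.1]
  · rintro _ ⟨x, hx, rfl⟩
    rw [← map_pow, hx.2, map_one]
  · rw [Subgroup.card_map_of_injective hcinj]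
    exact hE₀8

/-- Let G be a finite group in which every 2-local subgroup is 2-constrained and some Sylow 2-subgroup has a self-centralizing abelian normal subgroup of 2-rank at least 3, and let S be any Sylow 2-subgroup of G. Then there is a subgroup W of G of odd order such that, for every subgroup B of S of 2-rank at least 2, W is generated by the largest normal odd-order subgroups O(C_G(b)) of the centralizers of the non-identity elements b of B, and W is normalized by the normalizer of every such B. -/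
theorem result {G : Type*} [Group G] [Finite G]
    (h2c : ∀ T : Subgroup G, IsPGroup 2 T → T ≠ ⊥ → Cfsg.IsPConstrained 2 ↥(Subgroup.normalizer (T : Set G)))
    (S : Sylow 2 G) (A : Subgroup ↥(S : Subgroup G)) (hAn : A.Normal) (hAab : IsMulCommutative ↥A)
    (hAC : Subgroup.centralizer (A : Set ↥(S : Subgroup G)) = A) (hA3 : ¬ Cfsg.PRankLE 2 2 ↥A) (S' : Sylow 2 G) :
    ∃ W : Subgroup G, Odd (Nat.card ↥W) ∧
      ∀ B : Subgroup G, B ≤ (S' : Subgroup G) → ¬ Cfsg.PRankLE 2 1 ↥B →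
        W = (⨆ b : {b : G // b ∈ B ∧ b ≠ 1}, Cfsg.centralizerPPrimeCore 2 (b : G)) ∧
        Subgroup.normalizer (B : Set G) ≤ Subgroup.normalizer (W : Set G) := by
  classical
  haveI : Fact (Nat.Prime 2) := ⟨Nat.prime_two⟩
  have hl : CoreLay G := by
    apply coreLay_of_constrained
    intro b hb
    have hb2 : b ^ 2 = 1 := by rw [← hb]; exact pow_orderOf_eq_one b
    have hb1 : b ≠ 1 := by
      intro h
      rw [h, orderOf_one] at hb
      omega
    have hT : IsPGroup 2 (Subgroup.zpowers b : Subgroup G) := by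
      rintro ⟨_, n, rfl⟩
      refine ⟨1, Subtype.ext ?_⟩
      show (b ^ n) ^ 2 ^ 1 = 1
      rw [pow_one, ← zpow_natCast, ← zpow_mul, mul_comm, zpow_mul, zpow_natCast, hb2, one_zpow]
    have h1 := h2c _ hT (by simpa using hb1)
    rwa [normalizer_zpowers_involution hb] at h1
  obtain ⟨E, hES, hEn, hEc, hE2, hE8⟩ := exists_normal_elem S S' A hAn hAab hA3
  have hS'p : IsPGroup 2 (S' : Subgroup G) := S'.isPGroup'
  obtain ⟨W, hWodd, hW⟩ := exists_coreW hl hS'p hES hEn hEc hE2 hE8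
  refine ⟨W, Nat.not_even_iff_odd.mp (fun h => hWodd (even_iff_two_dvd.mp h)), ?_⟩
  intro B hBS hB2
  have hWB : W = ⨆ b : {b : G // b ∈ B ∧ b ≠ 1}, centralizerPPrimeCore 2 (b : G) := by
    apply le_antisymm
    · -- a four-group in `B`
      unfold Cfsg.PRankLE at hB2
      push Not at hB2
      obtain ⟨B₀, hB₀c, hB₀2, hB₀card⟩ := hB2
      obtain ⟨a, b, ha1, hb1, hab⟩ : ∃ a b : B₀, a ≠ 1 ∧ b ≠ 1 ∧ a ≠ b := by
        haveI : Fintype B₀ := Fintype.ofFinite _
        have h2 : 2 < Fintype.card B₀ := by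
          rw [← Nat.card_eq_fintype_card]
          simpa using hB₀card
        obtain ⟨a, b, c, h1, h2, h3⟩ := Fintype.two_lt_card_iff.1 h2
        by_cases ha : a = 1
        · subst ha
          exact ⟨b, c, h1.symm, h2.symm, h3⟩
        · by_cases hb : b = 1
          · subst hb
            exact ⟨a, c, ha, h3.symm, h2⟩
          · exact ⟨a, b, ha, hb, h1⟩
      set u : G := ((a : ↥B) : G) with hu
      set v : G := ((b : ↥B) : G) with hv
      have hu2 : u ^ 2 = 1 := congrArg Subtype.val (hB₀2 a a.2)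
      have hv2 : v ^ 2 = 1 := congrArg Subtype.val (hB₀2 b b.2)
      have huv : u * v = v * u := by
        have := Subgroup.mul_comm_of_mem_isMulCommutative B₀ a.2 b.2
        exact congrArg Subtype.val this
      have hu1 : u ≠ 1 := fun h => ha1 (Subtype.ext (Subtype.ext h))
      have hv1 : v ≠ 1 := fun h => hb1 (Subtype.ext (Subtype.ext h))
      have hne : u ≠ v := fun h => hab (Subtype.ext (Subtype.ext h))
      have hVK := Cfsg.Agent.S0502.isKleinFour_four hu2 hv2 huv hu1 hv1 hne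
      have hVB : Cfsg.Agent.S0502.four u v hu2 hv2 huv ≤ B := by
        rintro x (rfl | rfl | rfl | rfl)
        · exact B.one_mem
        · exact (a : ↥B).2
        · exact (b : ↥B).2
        · exact B.mul_mem (a : ↥B).2 (b : ↥B).2
      rw [← hW _ (hVB.trans hBS) hVK]
      refine iSup_le fun x => ?_
      exact le_iSup (fun b : {b : G // b ∈ B ∧ b ≠ 1} => centralizerPPrimeCore 2 (b : G))
        ⟨x.1, hVB x.2.1, x.2.2⟩
    · refine iSup_le ?_
      rintro ⟨b, hbB, hb1⟩
      obtain ⟨k, hk⟩ := hS'p ⟨b, hBS hbB⟩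
      have hk' : b ^ 2 ^ k = 1 := congrArg Subtype.val hk
      obtain ⟨b₀, hb₀, hb₀o⟩ := exists_involution_pow hb1 hk'
      have hb₀S : b₀ ∈ (S' : Subgroup G) :=
        (Subgroup.zpowers_le.mpr (hBS hbB)) hb₀
      obtain ⟨V, hVS, hVK, hb₀V⟩ := exists_four_of_involution hS'p hES hEn hEc hE2 hE8 hb₀S hb₀o
      have hb₀1 : b₀ ≠ 1 := by
        intro h
        rw [h, orderOf_one] at hb₀o
        omega
      calc centralizerPPrimeCore 2 b ≤ centralizerPPrimeCore 2 b₀ := core_le_core_pow hl hk' hb₀ hb₀o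
        _ ≤ coreW V := core_le_coreW hb₀V hb₀1
        _ = W := hW V hVS hVK
  refine ⟨hWB, ?_⟩
  intro g hg
  apply Cfsg.Agent.Lib.Coprime.Three.mem_normalizer_of_conj_mem
  intro x hx
  rw [hWB] at hx
  have hle : (⨆ b : {b : G // b ∈ B ∧ b ≠ 1}, centralizerPPrimeCore 2 (b : G)) ≤
      W.comap (MulAut.conj g).toMonoidHom := by
    refine iSup_le ?_
    rintro ⟨b, hbB, hb1⟩ y hy
    show g * y * g⁻¹ ∈ W
    rw [hWB]
    have h1 := conj_mem_centralizerPPrimeCore_conj (p := 2) g hy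
    have h2 : g * b * g⁻¹ ∈ B := (Subgroup.mem_normalizer_iff.mp hg b).mp hbB
    have h3 : g * b * g⁻¹ ≠ 1 := by
      intro h
      apply hb1
      have : g * b = g := by
        calc g * b = g * b * g⁻¹ * g := by group
          _ = g := by rw [h, one_mul]
      simpa using this
    exact (le_iSup (fun b : {b : G // b ∈ B ∧ b ≠ 1} => centralizerPPrimeCore 2 (b : G))
      ⟨_, h2, h3⟩) h1
  exact hle hx

end Cfsg.Agent.S3110
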