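import Cfsg.Statements.S3153
import Mathlib
import Cfsg.Agent.Lib.Components.StdThree
-- import your own Cfsg.Agent.* helpers here

set_option autoImplicit false
open Cfsg

namespace Cfsg.Agent.S3153

/-- Let X be a finite group and P a standard subgroup of X whose centralizer has 2-rank at most 1 and whose centre has odd order. Let S be a Sylow 2-subgroup of N_X(P) and t an involution of S centralizing P. Suppose some element g of X normalizes S, does not lie in S, has its square in S, and conjugates t into P·C_X(P). Then P commutes elementwise with the largest normal odd-order subgroup O(X) of X; consequently every t-invariant 2-component of X containing P is quasisimple. -/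
theorem result {X : Type*} [Group X] [Finite X] (P : Subgroup X) (hP : Cfsg.IsStandardSubgroup P)
    (hr : Cfsg.PRankLE 2 1 ↥(Subgroup.centralizer (P : Set X))) (hZ : Odd (Nat.card ↥(Subgroup.center ↥P)))
    (S : Sylow 2 ↥(Subgroup.normalizer (P : Set X))) (t : X) (ht : orderOf t = 2) (htS : t ∈ (S : Subgroup ↥(Subgroup.normalizer (P : Set X))).map (Subgroup.normalizer (P : Set X)).subtype)
    (htP : t ∈ Subgroup.centralizer (P : Set X))
    (g : X) (hgN : ∀ s ∈ (S : Subgroup ↥(Subgroup.normalizer (P : Set X))).map (Subgroup.normalizer (P : Set X)).subtype, g * s * g⁻¹ ∈ (S : Subgroup ↥(Subgroup.normalizer (P : Set X))).map (Subgroup.normalizer (P : Set X)).subtype)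
    (hgS : g ∉ (S : Subgroup ↥(Subgroup.normalizer (P : Set X))).map (Subgroup.normalizer (P : Set X)).subtype) (hg2 : g ^ 2 ∈ (S : Subgroup ↥(Subgroup.normalizer (P : Set X))).map (Subgroup.normalizer (P : Set X)).subtype)
    (hgt : g * t * g⁻¹ ∈ P ⊔ Subgroup.centralizer (P : Set X)) :
    ⁅P, Cfsg.oddCore X⁆ = ⊥ ∧
      ∀ L : Subgroup X, Cfsg.IsPComponent 2 L → P ≤ L → (∀ l ∈ L, t * l * t⁻¹ ∈ L) → Cfsg.IsQuasisimple ↥L := by
  have hf2 : Fact (Nat.Prime 2) := ⟨Nat.prime_two⟩
  set S' := (S : Subgroup ↥(Subgroup.normalizer (P : Set X))).map (Subgroup.normalizer (P : Set X)).subtype with hS'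
  set K := Subgroup.centralizer (P : Set X) with hK
  -- `S'` is a `2`-group normalizing `K`
  have hS'2 : IsPGroup 2 ↥S' := S.isPGroup'.map _
  have hS'N : S' ≤ Subgroup.normalizer (K : Set X) := by
    rw [← hP.2.2.2]
    rintro _ ⟨s, -, rfl⟩
    exact s.2
  -- `t` is central in `S'`
  have htc : ∀ s ∈ S', s * t * s⁻¹ = t := by
    intro s hs
    have h1 : s * t * s⁻¹ ∈ K := (Subgroup.mem_normalizer_iff.mp (hS'N hs) t).mp htP
    have h2 : s * t * s⁻¹ ∈ S' := S'.mul_mem (S'.mul_mem hs htS) (S'.inv_mem hs)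
    have h3 : orderOf (s * t * s⁻¹) = 2 := by
      rw [← ht]
      exact orderOf_injective (MulAut.conj s).toMonoidHom (MulAut.conj s).injective t
    have hW : IsPGroup 2 ↥(S' ⊓ K) := hS'2.to_le inf_le_left
    exact Cfsg.Agent.Lib.Components.StdThree.eq_of_involutions_of_pGroup hr inf_le_right hW h3 ht
      ⟨h2, h1⟩ ⟨htS, htP⟩
  have ht₁S : g * t * g⁻¹ ∈ S' := hgN t htS
  have hcomm : t * (g * t * g⁻¹) = (g * t * g⁻¹) * t := by
    have h1 := htc _ ht₁S
    rw [mul_inv_eq_iff_eq_mul] at h1
    exact h1.symm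
  have hne : g * t * g⁻¹ ≠ t := by
    intro h
    apply hgS
    have hgC : g ∈ Subgroup.centralizer ({t} : Set X) := by
      rw [Subgroup.mem_centralizer_singleton_iff]
      rw [mul_inv_eq_iff_eq_mul] at h
      exact h
    have hgN' : g ∈ Subgroup.normalizer (P : Set X) :=
      Cfsg.Agent.Lib.Components.StdBasic.centralizer_le_normalizer hP ht htP hgC
    have hmem : (⟨g, hgN'⟩ : ↥(Subgroup.normalizer (P : Set X))) ∈ (S : Subgroup ↥(Subgroup.normalizer (P : Set X))) := by
      apply Cfsg.Agent.Lib.Components.StdThree.mem_sylow_of_normalizes S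
      · intro s hs
        have h1 := hgN (s : X) ⟨s, hs, rfl⟩
        obtain ⟨s', hs', e⟩ := h1
        have : (⟨g, hgN'⟩ : ↥(Subgroup.normalizer (P : Set X))) * s * (⟨g, hgN'⟩ : ↥(Subgroup.normalizer (P : Set X)))⁻¹ = s' :=
          Subtype.ext e.symm
        rw [this]
        exact hs'
      · obtain ⟨s', hs', e⟩ := hg2
        have : (⟨g, hgN'⟩ : ↥(Subgroup.normalizer (P : Set X))) ^ 2 = s' := Subtype.ext e.symm
        rw [this]
        exact hs'
    exact ⟨_, hmem, rfl⟩
  have hOn : (Cfsg.oddCore X).Normal := Cfsg.pPrimeCore_normal 2 _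
  have hodd : Odd (Nat.card (Cfsg.oddCore X)) :=
    Nat.coprime_two_right.mp (Cfsg.Agent.Lib.Components.Transport.coprime_card_pPrimeCore 2)
  obtain ⟨hev, hmain⟩ :=
    Cfsg.Agent.Lib.Components.StdThree.commute_core_of_conj hP rfl hr hZ ht htP hne hcomm hgt hodd
  refine ⟨?_, ?_⟩
  · rw [eq_bot_iff, Subgroup.commutator_le]
    intro x hx c hc
    rw [Subgroup.mem_bot, commutatorElement_eq_one_iff_mul_comm]
    exact hmain x hx c hc
  · intro L hL hPL _
    exact Cfsg.Agent.Lib.Components.StdThree.isQuasisimple_of_le_component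
      (Cfsg.Agent.Lib.Components.StdBasic.isPerfect_standard hP) hev hmain hL hPL

end Cfsg.Agent.S3153
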