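import Cfsg.Statements.S3192
import Mathlib
import Cfsg.Agent.S0205
import Cfsg.Agent.Lib.Rank3.CC3
import Cfsg.Agent.Lib.Rank3.Main

set_option autoImplicit false
open Cfsg

namespace Cfsg.Agent.S3192

/-- Simple groups of conjugate type rank three. For a finite group G consider the set of indices of the centralizers of the non-central elements of G. Then G is a non-abelian simple group for which this set has exactly three members if and only if G is isomorphic to PSL(2, 2^m) for some m ≥ 2. -/
theorem result (G : Type*) [Group G] [Finite G] :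
    (IsSimpleGroup G ∧ ¬ IsMulCommutative G ∧
        Set.ncard {m : ℕ | ∃ x : G, x ∉ Subgroup.center G ∧ m = (Subgroup.centralizer ({x} : Set G)).index} = 3) ↔
      ∃ (m : ℕ) (F : Type) (_ : Field F) (_ : Fintype F), 2 ≤ m ∧ Fintype.card F = 2 ^ m ∧
        Nonempty (G ≃* Matrix.ProjectiveSpecialLinearGroup (Fin 2) F) := by
  constructor
  · rintro ⟨hs, hna, hn⟩
    haveI := hs
    obtain ⟨F, i1, i2, f, hf, hc, he⟩ := Cfsg.Agent.Lib.Rank3.Main.forward hna
      (Cfsg.Agent.Lib.Rank3.CC3.charLemma (Cfsg.Agent.Lib.Rank3.Main.center_eq_bot_of_simple hna))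
      (fun _ hodd => Cfsg.Agent.S0205.result hodd) hn
    exact ⟨f, F, i1, i2, hf, hc, he⟩
  · rintro ⟨m, F, i1, i2, hm, hc, ⟨e⟩⟩
    exact Cfsg.Agent.Lib.Rank3.Main.backward m F hm hc e

end Cfsg.Agent.S3192
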