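import Cfsg.Statements.S3222
import Mathlib
import Cfsg.Agent.Lib.Perm.CenS4G

set_option autoImplicit false
open Cfsg

namespace Cfsg.Agent.S3222

/-- Let G be a finite group of even order such that (1) some involution t lying in the centre of a Sylow 2-subgroup of G has C_G(t) ≅ Z₂ × S₄, and (2) every Sylow 2-subgroup S of G satisfies C_G(S′) = S, where S′ is the derived subgroup of S. Then G = C_G(t) if G is solvable, and G ≅ S₆ otherwise. -/
theorem result {G : Type*} [Group G] [Finite G] (hev : Even (Nat.card G))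
    (t : G) (ht : orderOf t = 2) (T : Sylow 2 G) (htT : t ∈ (T : Subgroup G)) (htc : ∀ s ∈ (T : Subgroup G), s * t = t * s)
    (e : ↥(Subgroup.centralizer ({t} : Set G)) ≃* (Multiplicative (ZMod 2) × Equiv.Perm (Fin 4)))
    (h2 : ∀ S : Sylow 2 G, Subgroup.centralizer ((⁅(S : Subgroup G), (S : Subgroup G)⁆ : Subgroup G) : Set G) = (S : Subgroup G)) :
    (Group.IsSolvable G → Subgroup.centralizer ({t} : Set G) = ⊤) ∧
      (¬ Group.IsSolvable G → Nonempty (G ≃* Equiv.Perm (Fin 6))) := by
  obtain ⟨e', h'⟩ := Cfsg.Agent.Lib.Perm.CenS4.exists_normal t ht T htT htc e h2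
  rcases Cfsg.Agent.Lib.Perm.CenS4.main_of_hyp h' with h1 | h1
  · refine ⟨fun _ => h1, fun hns => absurd ?_ hns⟩
    haveI := Cfsg.Agent.Lib.Perm.CenS4.isSolvable_Tgt
    let j : G →* ↥(Subgroup.centralizer ({t} : Set G)) :=
      MonoidHom.codRestrict (MonoidHom.id G) _ (fun g => by
        have : g ∈ (⊤ : Subgroup G) := Subgroup.mem_top g
        rw [← h1] at this
        exact this)
    refine Group.isSolvable_of_isSolvable_injective (f := e.toMonoidHom.comp j) ?_
    intro x y hxy
    have h3 : j x = j y := e.injective hxy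
    exact congrArg Subtype.val h3
  · obtain ⟨φ⟩ := h1
    refine ⟨fun hs => ?_, fun _ => ⟨φ⟩⟩
    exfalso
    apply Equiv.Perm.not_isSolvable (Fin 6) (by simp only [Cardinal.mk_fintype, Fintype.card_fin]; norm_num)
    exact Group.isSolvable_of_isSolvable_injective (f := φ.symm.toMonoidHom) φ.symm.injective

end Cfsg.Agent.S3222
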