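import Cfsg.Statements.S3224
import Mathlib
import Cfsg.Agent.S3919
-- import your own Cfsg.Agent.* helpers here

set_option autoImplicit false
open Cfsg

namespace Cfsg.Agent.S3224

open Subgroup Cfsg.Agent.Lib.PGroup.Taussky Cfsg.Agent.Lib.PGroup.CyclicMax Cfsg.Agent.Lib.PGroup.CyclicMax2

/-- A finite 2-group containing an involution whose centralizer has order 4 is dihedral, quasi-dihedral (semidihedral), or of order 4. -/
theorem result {S : Type*} [Group S] [Finite S] (hS : IsPGroup 2 S)
    (x : S) (hx : orderOf x = 2) (hC : Nat.card ↥(Subgroup.centralizer ({x} : Set S)) = 4) :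
    (∃ n : ℕ, Nonempty (S ≃* DihedralGroup n)) ∨ Cfsg.IsQuasiDihedral S ∨ Nat.card S = 4 := by
  haveI : Fact (Nat.Prime 2) := ⟨Nat.prime_two⟩
  obtain ⟨k, hk⟩ := IsPGroup.iff_card.mp hS
  by_cases hna : IsMulCommutative S
  · right; right
    have hC1 : centralizer ({x} : Set S) = ⊤ := by
      rw [eq_top_iff]
      intro g _
      rw [Subgroup.mem_centralizer_singleton_iff]
      exact hna.is_comm.comm g x
    rw [hC1] at hC
    rw [← hC]
    exact (Subgroup.card_top).symm
  have hn := Cfsg.Agent.S3919.three_le hna hk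
  obtain ⟨m, rfl⟩ : ∃ m, k = m + 1 := ⟨k - 1, by omega⟩
  have hb1 := Cfsg.Agent.S3919.card_centralizer_bound x
  have hb2 := Subgroup.card_mul_index (centralizer ({x} : Set S))
  have hb3 := Subgroup.card_mul_index (commutator S)
  rw [hk] at hb2 hb3
  have hidx : (commutator S).index ≤ 4 := by
    have h5 : Nat.card (commutator S) * (commutator S).index ≤ Nat.card (commutator S) * 4 := by
      rw [hb3, ← hb2, hC, mul_comm (Nat.card (commutator S))]
      exact Nat.mul_le_mul_left 4 hb1
    exact Nat.le_of_mul_le_mul_left h5 Nat.card_pos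
  have hna' : ∃ a c : S, a * c ≠ c * a := by
    by_contra hcon
    push Not at hcon
    exact hna (isMulCommutative_iff.mpr hcon)
  obtain ⟨h4, h5⟩ := klein_of_index_le_four hS hna' hidx
  obtain ⟨u, b, h⟩ := exists_MC (m := m) (by omega) hk h4 h5
  rcases h.hform with ⟨hbu, hb2' | hb2'⟩ | ⟨hm3, hbu, hb2'⟩
  · left
    exact ⟨2 ^ m, Cfsg.Agent.Lib.PGroup.CyclicMax2.dihedral_of_data h.sc.hu h.hcard h.hb hbu hb2'⟩
  · exfalso
    have hx2 : x ^ 2 = 1 := by rw [← hx]; exact pow_orderOf_eq_one x
    have hm2 := h.hm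
    have hz2 : orderOf (u ^ 2 ^ (m - 1)) = 2 := by
      have := h.orderOf_u_pow (i := m - 1) (by omega)
      rw [this, show m - (m - 1) = 1 by omega, pow_one]
    have hz1 : u ^ 2 ^ (m - 1) ≠ 1 := by
      intro hc
      rw [hc, orderOf_one] at hz2
      omega
    have hxu : x ∈ zpowers u := by
      by_contra hcon
      have hi := h.index_two
      have h1 : x * b⁻¹ ∈ zpowers u := by
        rw [Subgroup.mul_mem_iff_of_index_two hi, inv_mem_iff]
        exact iff_of_false hcon h.hb
      obtain ⟨i, hi'⟩ := h1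
      have hxe : x = u ^ i * b := by
        rw [show u ^ i = x * b⁻¹ from hi']; group
      have hconj : b * u ^ i * b⁻¹ = (u ^ i)⁻¹ := by
        rw [← conj_zpow, hbu, inv_zpow]
      have : x ^ 2 = u ^ 2 ^ (m - 1) := by
        rw [← hb2', hxe, pow_two, pow_two]
        calc u ^ i * b * (u ^ i * b) = u ^ i * (b * u ^ i * b⁻¹) * (b * b) := by group
          _ = b * b := by rw [hconj]; group
      rw [hx2] at this
      exact hz1 this.symm
    have hzsq : (u ^ 2 ^ (m - 1)) ^ 2 = 1 := by
      have := pow_orderOf_eq_one (u ^ 2 ^ (m - 1))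
      rwa [hz2] at this
    have hU : UniqueP 2 (zpowers u) := uniqueP_of_isCyclic
    have hzu : u ^ 2 ^ (m - 1) ∈ zpowers u := pow_mem (mem_zpowers u) _
    have hx1 : x ≠ 1 := by
      rintro rfl
      rw [orderOf_one] at hx
      omega
    have h1 := hU ⟨x, hxu⟩ ⟨u ^ 2 ^ (m - 1), hzu⟩
      (Subtype.ext (by simpa using hx2))
      (Subtype.ext (by simpa using hzsq))
      (fun hc => hx1 (congrArg Subtype.val hc))
      (fun hc => hz1 (congrArg Subtype.val hc))
    obtain ⟨i, hi⟩ := h1
    have h2 : (u ^ 2 ^ (m - 1)) ^ i = x := by simpa using congrArg Subtype.val hi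
    have hxc : x ∈ center S := by
      rw [h.center_eq, ← h2]
      exact zpow_mem (mem_zpowers _) i
    have hC1 : centralizer ({x} : Set S) = ⊤ := by
      rw [eq_top_iff]
      intro g _
      rw [Subgroup.mem_centralizer_singleton_iff]
      exact Subgroup.mem_center_iff.mp hxc g
    rw [hC1, Subgroup.card_top, hk] at hC
    have h6 : 2 ^ (m + 1) ≥ 2 ^ 3 := Nat.pow_le_pow_right (by norm_num) (by omega)
    omega
  · right; left
    refine ⟨m, hm3, h.hcard, u, b, h.sc.hu, ?_, hbu⟩
    apply orderOf_eq_prime hb2'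
    rintro rfl
    exact h.hb (Subgroup.one_mem _)

end Cfsg.Agent.S3224
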