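import Cfsg.Statements.S3246
import Mathlib
import Cfsg.Agent.Lib.Signalizer.TwoCore
import Cfsg.Agent.Lib.PGroup.PConstr
import Cfsg.Agent.Lib.Components.CharP
import Cfsg.Agent.S3247
import Cfsg.Agent.Lib.PGroup.ZJLocal

set_option autoImplicit false
open Cfsg

namespace Cfsg.Agent.S3246

open Cfsg.Agent.Lib.Signalizer.TwoCore
open Cfsg.Agent.Lib.Components.PConstrained

section Kill

variable {H : Type*} [Group H] [Finite H]

/-- `2`-constraint with trivial odd core: `C(O₂) ≤ O₂`. -/
theorem centralizer_pCore_le (hc : IsPConstrained 2 H) (hO : pPrimeCore 2 H = ⊥) :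
    Subgroup.centralizer (pCore 2 H : Set H) ≤ pCore 2 H := by
  haveI : Fact (Nat.Prime 2) := ⟨Nat.prime_two⟩
  exact Cfsg.Agent.Lib.PGroup.PConstr.constr_of_equiv
    ((QuotientGroup.quotientMulEquivOfEq hO).trans QuotientGroup.quotientBot)
    (isPConstrained_iff_centralizer.mp hc)

/-- An odd subgroup normalized by a `2`-subgroup of index at most 2 in a Sylow subgroup dies in a
`2`-constrained group without odd core. -/
theorem eq_bot_of_normalized (hc : IsPConstrained 2 H) (hO : pPrimeCore 2 H = ⊥) {Y U : Subgroup H}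
    (hY : ¬ 2 ∣ Nat.card Y) (hU : IsPGroup 2 U) (hUY : U ≤ Subgroup.normalizer (Y : Set H))
    (hidx : ∀ P : Subgroup H, IsPGroup 2 P → U ≤ P → Nat.card P ≤ 2 * Nat.card U) : Y = ⊥ := by
  classical
  haveI : Fact (Nat.Prime 2) := ⟨Nat.prime_two⟩
  set Q := pCore 2 H with hQ
  have hQp : IsPGroup 2 Q := Cfsg.Agent.Lib.Basic.PCore.pCore_isPGroup 2
  have hQn : Q.Normal := inferInstance
  have hCQ := centralizer_pCore_le hc hO
  have hYQ : Y ⊓ Q = ⊥ := by
    apply Subgroup.inf_eq_bot_of_coprime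
    obtain ⟨k, hk⟩ := IsPGroup.iff_card.mp hQp
    rw [hk]
    exact Nat.Coprime.pow_right k ((Nat.coprime_comm.mp ((Nat.Prime.coprime_iff_not_dvd Nat.prime_two).mpr hY)))
  -- `Y` centralizes `U ⊓ Q`
  have hcomm : ∀ y ∈ Y, ∀ u ∈ U, u ∈ Q → y * u = u * y := by
    intro y hy u huU huQ
    have h1 : y * u * y⁻¹ * u⁻¹ ∈ Q := Q.mul_mem (hQn.conj_mem u huQ y) (Q.inv_mem huQ)
    have h2 : y * u * y⁻¹ * u⁻¹ ∈ Y := by
      have h3 : u * y⁻¹ * u⁻¹ ∈ Y := (Subgroup.mem_normalizer_iff.mp (hUY huU) _).mp (Y.inv_mem hy)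
      have h4 : y * u * y⁻¹ * u⁻¹ = y * (u * y⁻¹ * u⁻¹) := by group
      rw [h4]
      exact Y.mul_mem hy h3
    have h5 : y * u * y⁻¹ * u⁻¹ ∈ Y ⊓ Q := ⟨h2, h1⟩
    rw [hYQ, Subgroup.mem_bot] at h5
    calc y * u = y * u * y⁻¹ * u⁻¹ * (u * y) := by group
      _ = u * y := by rw [h5, one_mul]
  obtain ⟨P, hUP⟩ := hU.exists_le_sylow
  have hPp : IsPGroup 2 (P : Subgroup H) := P.isPGroup'
  have hQP : Q ≤ P := Cfsg.Agent.Lib.Basic.PCore.pCore_le_sylow P
  have hcard := hidx P hPp hUP
  -- index at most 2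
  have hind : (U.subgroupOf (P : Subgroup H)).index ≤ 2 := by
    have h1 := Subgroup.card_mul_index (U.subgroupOf (P : Subgroup H))
    have h2 : Nat.card (U.subgroupOf (P : Subgroup H)) = Nat.card U :=
      Nat.card_congr (Subgroup.subgroupOfEquivOfLe hUP).toEquiv
    rw [h2] at h1
    have h3 : 0 < Nat.card U := Nat.card_pos
    by_contra h4
    push Not at h4
    have h5 : Nat.card U * 3 ≤ Nat.card U * (U.subgroupOf (P : Subgroup H)).index :=
      Nat.mul_le_mul_left _ h4
    omega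
  have hcoset : ∀ q₁ ∈ Q, ∀ q₂ ∈ Q, q₁ ∉ U → q₂ ∉ U → q₁⁻¹ * q₂ ∈ U := by
    intro q₁ h₁ q₂ h₂ hn₁ hn₂
    have hpos : (U.subgroupOf (P : Subgroup H)).index ≠ 0 := Subgroup.index_ne_zero_of_finite
    have hq₁ : q₁ ∈ (P : Subgroup H) := hQP h₁
    have hq₂ : q₂ ∈ (P : Subgroup H) := hQP h₂
    have hcase : (U.subgroupOf (P : Subgroup H)).index = 1 ∨ (U.subgroupOf (P : Subgroup H)).index = 2 := by
      omega
    rcases hcase with h1 | h2
    · exfalso
      apply hn₁
      have htop := Subgroup.index_eq_one.mp h1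
      have : (⟨q₁, hq₁⟩ : ↥(P : Subgroup H)) ∈ U.subgroupOf (P : Subgroup H) := by rw [htop]; trivial
      exact Subgroup.mem_subgroupOf.mp this
    · have h3 := (Subgroup.mul_mem_iff_of_index_two h2 (a := (⟨q₁, hq₁⟩ : ↥(P : Subgroup H))⁻¹)
        (b := (⟨q₂, hq₂⟩ : ↥(P : Subgroup H))))
      have h4 : (⟨q₁, hq₁⟩ : ↥(P : Subgroup H))⁻¹ ∉ U.subgroupOf (P : Subgroup H) := by
        intro h
        apply hn₁
        have := Subgroup.mem_subgroupOf.mp h
        simpa using this
      have h5 : (⟨q₂, hq₂⟩ : ↥(P : Subgroup H)) ∉ U.subgroupOf (P : Subgroup H) := by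
        intro h
        exact hn₂ (Subgroup.mem_subgroupOf.mp h)
      have h6 := h3.mpr (by simp [h4, h5])
      simpa using Subgroup.mem_subgroupOf.mp h6
  -- `Y` centralizes `Q`
  have hYc : ∀ y ∈ Y, ∀ q ∈ Q, y * q = q * y := by
    intro y hy q hq
    by_cases hqU : q ∈ U
    · exact hcomm y hy q hqU hq
    set q' := y * q * y⁻¹ with hq'
    have hq'Q : q' ∈ Q := hQn.conj_mem q hq y
    have hq'U : q' ∉ U := by
      intro h
      apply hqU
      have h1 : y * q' = q' * y := hcomm y hy q' h hq'Q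
      have h2 : q' = q := by
        have : y * q * y⁻¹ * y = q' * y := rfl
        have h3 : y * q = q' * y := by rw [← this]; group
        rw [← h1] at h3
        exact (mul_left_cancel h3).symm
      rwa [h2] at h
    set d := q⁻¹ * q' with hd
    have hdU : d ∈ U := hcoset q hq q' hq'Q hqU hq'U
    have hdQ : d ∈ Q := Q.mul_mem (Q.inv_mem hq) hq'Q
    have hdc : y * d = d * y := hcomm y hy d hdU hdQ
    have hstep : ∀ n : ℕ, y ^ n * q * (y ^ n)⁻¹ = q * d ^ n := by
      intro n
      induction n with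
      | zero => simp
      | succ n ih =>
        have h1 : y * q * y⁻¹ = q * d := by
          show q' = q * (q⁻¹ * q')
          group
        have h2 : Commute y (d ^ n) := (show Commute y d from hdc).pow_right n
        calc y ^ (n + 1) * q * (y ^ (n + 1))⁻¹ = y * (y ^ n * q * (y ^ n)⁻¹) * y⁻¹ := by
              rw [pow_succ']; group
          _ = y * (q * d ^ n) * y⁻¹ := by rw [ih]
          _ = (y * q * y⁻¹) * (y * d ^ n * y⁻¹) := by group
          _ = (q * d) * (d ^ n) := by
              rw [h1, h2.eq]; group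
          _ = q * d ^ (n + 1) := by rw [pow_succ']; group
    have hn := hstep (orderOf y)
    rw [pow_orderOf_eq_one] at hn
    have h7 : d ^ orderOf y = 1 := by
      have : q = q * d ^ orderOf y := by simpa using hn
      simpa using this
    have hoY : (orderOf y).Coprime 2 := by
      have h1 : orderOf y ∣ Nat.card Y := by
        have := orderOf_dvd_natCard (⟨y, hy⟩ : Y)
        rwa [Subgroup.orderOf_mk] at this
      exact Nat.Coprime.coprime_dvd_left h1 ((Nat.coprime_comm.mp ((Nat.Prime.coprime_iff_not_dvd Nat.prime_two).mpr hY)))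
    obtain ⟨k, hk⟩ := hQp ⟨d, hdQ⟩
    have h8 : d ^ 2 ^ k = 1 := congrArg Subtype.val hk
    have h9 : orderOf d ∣ orderOf y := orderOf_dvd_of_pow_eq_one h7
    have h10 : orderOf d ∣ 2 ^ k := orderOf_dvd_of_pow_eq_one h8
    have h11 : orderOf d = 1 := Nat.eq_one_of_dvd_coprimes (Nat.Coprime.pow_right k hoY) h9 h10
    have h12 : d = 1 := orderOf_eq_one_iff.mp h11
    have h13 : q' = q := by
      have : q⁻¹ * q' = 1 := h12
      rw [inv_mul_eq_one] at this
      exact this.symm
    calc y * q = y * q * y⁻¹ * y := by group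
      _ = q * y := by rw [← hq', h13]
  rw [eq_bot_iff, ← hYQ]
  intro y hy
  refine ⟨hy, hCQ ?_⟩
  rw [Subgroup.mem_centralizer_iff]
  intro q hq
  exact (hYc y hy q hq).symm

end Kill

section Main

variable {G : Type*} [Group G] [Finite G]

/-- The transported version inside `G`. -/
theorem eq_bot_of_le {M Y U : Subgroup G} (hc : IsPConstrained 2 ↥M) (hO : pPrimeCore 2 ↥M = ⊥) (hYM : Y ≤ M)
    (hUM : U ≤ M) (hY : ¬ 2 ∣ Nat.card Y) (hU : IsPGroup 2 U) (hUY : U ≤ Subgroup.normalizer (Y : Set G))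
    (hidx : ∀ P : Subgroup G, IsPGroup 2 P → U ≤ P → Nat.card P ≤ 2 * Nat.card U) : Y = ⊥ := by
  have hcardY : Nat.card (Y.subgroupOf M) = Nat.card Y :=
    Nat.card_congr (Subgroup.subgroupOfEquivOfLe hYM).toEquiv
  have hcardU : Nat.card (U.subgroupOf M) = Nat.card U :=
    Nat.card_congr (Subgroup.subgroupOfEquivOfLe hUM).toEquiv
  have h := eq_bot_of_normalized hc hO (Y := Y.subgroupOf M) (U := U.subgroupOf M) (by rwa [hcardY])
    (by
      intro u
      have hm : (u : ↥M).1 ∈ U := u.2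
      obtain ⟨k, hk⟩ := hU ⟨(u : ↥M).1, hm⟩
      refine ⟨k, Subtype.ext (Subtype.ext ?_)⟩
      simpa using congrArg Subtype.val hk)
    (by
      intro u hu
      rw [Subgroup.mem_normalizer_iff]
      intro y
      have h1 := Subgroup.mem_normalizer_iff.mp (hUY (Subgroup.mem_subgroupOf.mp hu)) (y : G)
      simpa [Subgroup.mem_subgroupOf] using h1)
    (by
      intro P hP hUP
      have hP' : IsPGroup 2 (P.map M.subtype) := hP.map _
      have hU' : U ≤ P.map M.subtype := by
        intro u hu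
        refine ⟨⟨u, hUM hu⟩, hUP (Subgroup.mem_subgroupOf.mpr hu), rfl⟩
      have := hidx _ hP' hU'
      rw [Subgroup.card_map_of_injective (Subgroup.subtype_injective _)] at this
      rwa [hcardU])
  rw [eq_bot_iff]
  intro y hy
  have : (⟨y, hYM hy⟩ : ↥M) ∈ Y.subgroupOf M := Subgroup.mem_subgroupOf.mpr hy
  rw [h, Subgroup.mem_bot] at this
  exact Subgroup.mem_bot.mpr (congrArg Subtype.val this)

/-- A maximal `2`-local over any `2`-local. -/
theorem exists_maximal_twoLocal {L : Subgroup G} (hL : IsTwoLocal L) :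
    ∃ M : Subgroup G, IsMaximalTwoLocal M ∧ L ≤ M := by
  have hfin : {N : Subgroup G | IsTwoLocal N}.Finite := Set.toFinite _
  obtain ⟨M, hLM, hM⟩ := hfin.exists_le_maximal hL
  exact ⟨M, ⟨hM.prop, fun N hN hMN => le_antisymm (hM.le_of_ge hN hMN) hMN⟩, hLM⟩

/-- Existence of the elements `z, b`. -/
theorem exists_z_b (S : Subgroup G) (hS : IsPGroup 2 S) {E : Subgroup G} (hES : E ≤ S)
    (hEn : S ≤ Subgroup.normalizer (E : Set G)) (hE8 : 8 ≤ Nat.card E) (hE2 : ∀ e ∈ E, e ^ 2 = 1) :
    ∃ z ∈ E, ∃ b ∈ E, orderOf z = 2 ∧ b ≠ 1 ∧ b ≠ z ∧ (∀ s ∈ S, s * z = z * s) ∧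
      ∀ s ∈ S, s * b * s⁻¹ = b ∨ s * b * s⁻¹ = b * z := by
  classical
  haveI : Fact (Nat.Prime 2) := ⟨Nat.prime_two⟩
  have hE1 : E ≠ ⊥ := by
    intro h
    rw [h] at hE8
    simp at hE8
  obtain ⟨z, hzE, hzo, hzc⟩ := Cfsg.Agent.Lib.Components.CharP.exists_normal_central_orderOf 2 hS hES hEn hE1
  refine ⟨z, hzE, ?_⟩
  have hz2 : z ^ 2 = 1 := by rw [← hzo]; exact pow_orderOf_eq_one z
  -- pass to the quotient of `↥S` by `⟨z⟩`
  set zS : ↥S := ⟨z, hES hzE⟩ with hzS
  set N : Subgroup ↥S := Subgroup.zpowers zS with hN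
  have hzcS : ∀ s : ↥S, s * zS = zS * s := fun s => Subtype.ext (hzc s s.2)
  have hNmem : ∀ x : ↥S, x ∈ N → x = 1 ∨ x = zS := by
    rintro x ⟨n, rfl⟩
    have hzS2 : zS ^ 2 = 1 := Subtype.ext hz2
    show zS ^ n = 1 ∨ zS ^ n = zS
    rcases Int.even_or_odd' n with ⟨m, rfl | rfl⟩
    · left
      rw [zpow_mul, zpow_ofNat, hzS2, one_zpow]
    · right
      rw [zpow_add, zpow_mul, zpow_ofNat, hzS2, one_zpow, one_mul, zpow_one]
  haveI hNn : N.Normal := by
    constructor
    rintro x hx s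
    rcases hNmem x hx with rfl | rfl
    · simpa using N.one_mem
    · have : s * zS * s⁻¹ = zS := by rw [hzcS s]; group
      rw [this]
      exact Subgroup.mem_zpowers _
  set E' : Subgroup ↥S := E.subgroupOf S with hE'
  set π := QuotientGroup.mk' N with hπ
  set R : Subgroup (↥S ⧸ N) := E'.map π with hR
  have hcardE' : Nat.card E' = Nat.card E :=
    Nat.card_congr (Subgroup.subgroupOfEquivOfLe hES).toEquiv
  have hR1 : R ≠ ⊥ := by
    intro h
    have h1 : ∀ x ∈ E', x = 1 ∨ x = zS := by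
      intro x hx
      have h2 : π x ∈ R := ⟨x, hx, rfl⟩
      rw [h, Subgroup.mem_bot] at h2
      exact hNmem x ((QuotientGroup.eq_one_iff x).mp h2)
    have h2 : ((E' : Subgroup ↥S) : Set ↥S) ⊆ (({1, zS} : Finset ↥S) : Set ↥S) := by
      intro x hx
      rcases h1 x hx with rfl | rfl <;> simp
    have h3 := Set.ncard_le_ncard h2 (Finset.finite_toSet _)
    rw [Set.ncard_coe_finset] at h3
    have h4 : Nat.card E' = ((E' : Subgroup ↥S) : Set ↥S).ncard := by
      rw [← Nat.card_coe_set_eq]; rfl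
    rw [← h4, hcardE'] at h3
    have h5 : ({1, zS} : Finset ↥S).card ≤ 2 := Finset.card_le_two
    omega
  have hSbar : IsPGroup 2 (⊤ : Subgroup (↥S ⧸ N)) := by
    have h1 : IsPGroup 2 ↥S := hS
    have h2 : IsPGroup 2 (↥S ⧸ N) := h1.to_quotient N
    exact h2.to_subgroup ⊤
  obtain ⟨zb, hzbR, hzbo, hzbc⟩ := Cfsg.Agent.Lib.Components.CharP.exists_normal_central_orderOf 2 hSbar le_top
    (by
      rintro x -
      apply Cfsg.Agent.Lib.Coprime.Three.mem_normalizer_of_conj_mem
      rintro _ ⟨y, hy, rfl⟩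
      obtain ⟨s, rfl⟩ := QuotientGroup.mk'_surjective N x
      refine ⟨s * y * s⁻¹, ?_, by simp [hπ]⟩
      exact Subgroup.mem_subgroupOf.mpr ((Subgroup.mem_normalizer_iff.mp (hEn s.2) _).mp
        (Subgroup.mem_subgroupOf.mp hy)))
    hR1
  obtain ⟨b', hb'E, rfl⟩ := hzbR
  have hb'N : b' ∉ N := by
    intro h
    have : π b' = 1 := (QuotientGroup.eq_one_iff b').mpr h
    rw [this, orderOf_one] at hzbo
    omega
  refine ⟨(b' : G), Subgroup.mem_subgroupOf.mp hb'E, hzo, ?_, ?_, hzc, ?_⟩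
  · intro h
    apply hb'N
    have : b' = 1 := Subtype.ext h
    rw [this]
    exact N.one_mem
  · intro h
    apply hb'N
    have : b' = zS := Subtype.ext h
    rw [this]
    exact Subgroup.mem_zpowers _
  · intro s hs
    have h1 := hzbc (π ⟨s, hs⟩) (Subgroup.mem_top _)
    have h2 : π (((⟨s, hs⟩ : ↥S) * b' * (⟨s, hs⟩ : ↥S)⁻¹) * b'⁻¹) = 1 := by
      rw [map_mul, map_mul, map_mul, map_inv, map_inv, h1]
      group
    have h3 := hNmem _ ((QuotientGroup.eq_one_iff _).mp h2)
    rcases h3 with h3 | h3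
    · left
      have h4 : (⟨s, hs⟩ : ↥S) * b' * (⟨s, hs⟩ : ↥S)⁻¹ = b' := mul_inv_eq_one.mp h3
      exact congrArg Subtype.val h4
    · right
      have h4 : (⟨s, hs⟩ : ↥S) * b' * (⟨s, hs⟩ : ↥S)⁻¹ = zS * b' := mul_inv_eq_iff_eq_mul.mp h3
      have h5 := congrArg Subtype.val h4
      have h6 : z * (b' : G) = (b' : G) * z := by
        have := hzcS b'
        exact (congrArg Subtype.val this).symm
      calc s * (b' : G) * s⁻¹ = z * b' := h5
        _ = b' * z := h6

/-- Index of the centralizer of `b`. -/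
theorem card_le_two_mul {S : Subgroup G} {z b : G} (hz2 : z ^ 2 = 1) (hzc : ∀ s ∈ S, s * z = z * s)
    (hb : ∀ s ∈ S, s * b * s⁻¹ = b ∨ s * b * s⁻¹ = b * z) :
    Nat.card S ≤ 2 * Nat.card (S ⊓ Subgroup.centralizer ({b} : Set G) : Subgroup G) := by
  classical
  set U : Subgroup G := S ⊓ Subgroup.centralizer ({b} : Set G) with hU
  have hUS : U ≤ S := inf_le_left
  have hmem : ∀ s ∈ S, s ∈ U ↔ s * b * s⁻¹ = b := by
    intro s hs
    constructor
    · intro h
      have h1 : s * b = b * s := Subgroup.mem_centralizer_singleton_iff.mp h.2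
      rw [h1]; group
    · intro h
      refine ⟨hs, ?_⟩
      show s ∈ Subgroup.centralizer {b}
      rw [Subgroup.mem_centralizer_singleton_iff]
      calc s * b = s * b * s⁻¹ * s := by group
        _ = b * s := by rw [h]
  have hcard : Nat.card (U.subgroupOf S) = Nat.card U :=
    Nat.card_congr (Subgroup.subgroupOfEquivOfLe hUS).toEquiv
  have h1 := Subgroup.card_mul_index (U.subgroupOf S)
  rw [hcard] at h1
  by_cases hall : ∀ s ∈ S, s ∈ U
  · have h2 : U.subgroupOf S = ⊤ := by
      rw [eq_top_iff]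
      rintro ⟨s, hs⟩ -
      exact Subgroup.mem_subgroupOf.mpr (hall s hs)
    rw [h2, Subgroup.index_top] at h1
    omega
  · push Not at hall
    obtain ⟨t, htS, htU⟩ := hall
    have htb : t * b * t⁻¹ = b * z := by
      rcases hb t htS with h | h
      · exact absurd ((hmem t htS).mpr h) htU
      · exact h
    have hind : (U.subgroupOf S).index = 2 := by
      rw [Subgroup.index_eq_two_iff]
      refine ⟨⟨t, htS⟩, ?_⟩
      rintro ⟨s, hs⟩
      have hsz : s * z * s⁻¹ = z := by rw [hzc s hs]; group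
      have hzb : b * z * z = b := by
        rw [mul_assoc, ← pow_two, hz2, mul_one]
      simp only [Subgroup.mem_subgroupOf, Subgroup.coe_mul]
      rw [hmem _ (S.mul_mem hs htS), hmem s hs]
      have hcalc : s * t * b * (s * t)⁻¹ = (s * b * s⁻¹) * z := by
        calc s * t * b * (s * t)⁻¹ = s * (t * b * t⁻¹) * s⁻¹ := by group
          _ = s * (b * z) * s⁻¹ := by rw [htb]
          _ = (s * b * s⁻¹) * (s * z * s⁻¹) := by group
          _ = (s * b * s⁻¹) * z := by rw [hsz]
      rw [hcalc]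
      have hne : b * z ≠ b := by
        intro h
        have hz1 : z = 1 := by simpa using h
        rw [hz1] at htb
        apply htU
        rw [hmem t htS, htb, mul_one]
      rcases hb s hs with h | h
      · rw [h]
        exact Or.inr ⟨rfl, hne⟩
      · rw [h, hzb]
        exact Or.inl ⟨rfl, hne⟩
    rw [hind] at h1
    omega

end Main

/-- Let G be a finite group whose Sylow 2-subgroup S has a self-centralizing normal subgroup of rank at least 3. Suppose that either every maximal 2-local subgroup of G is 2-constrained with no nontrivial normal subgroup of odd order, or the centralizer of every involution of G is 2-constrained with no nontrivial normal subgroup of odd order. Then S normalizes no nontrivial subgroup of G of odd order and every 2-local subgroup of G is 2-constrained. -/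
theorem result {G : Type*} [Group G] [Finite G]
    (S : Sylow 2 G) (A : Subgroup G) (hA : Cfsg.IsSCN (S : Subgroup G) A) (hA3 : ¬ Cfsg.PRankLE 2 2 ↥A)
    (h : (∀ M : Subgroup G, Cfsg.IsMaximalTwoLocal M → Cfsg.IsPConstrained 2 ↥M ∧ Cfsg.oddCore ↥M = ⊥) ∨
      (∀ t : G, orderOf t = 2 → Cfsg.IsPConstrained 2 ↥(Subgroup.centralizer ({t} : Set G)) ∧
        Cfsg.oddCore ↥(Subgroup.centralizer ({t} : Set G)) = ⊥)) :
    (∀ X : Subgroup G, Odd (Nat.card ↥X) → (S : Subgroup G) ≤ Subgroup.normalizer (X : Set G) → X = ⊥) ∧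
      (∀ T : Subgroup G, IsPGroup 2 ↥T → T ≠ ⊥ → Cfsg.IsPConstrained 2 ↥(Subgroup.normalizer (T : Set G))) := by
  classical
  haveI : Fact (Nat.Prime 2) := ⟨Nat.prime_two⟩
  -- `2`-constrained overgroups of involution centralizers
  have hover : ∀ v : G, orderOf v = 2 → ∃ M : Subgroup G, Subgroup.centralizer ({v} : Set G) ≤ M ∧
      IsPConstrained 2 ↥M ∧ pPrimeCore 2 ↥M = ⊥ := by
    intro v hv
    rcases h with h | h
    · have hv2 : v ^ 2 = 1 := by rw [← hv]; exact pow_orderOf_eq_one v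
      have hv1 : v ≠ 1 := by
        intro h
        rw [h, orderOf_one] at hv
        omega
      have hT : IsPGroup 2 (Subgroup.zpowers v : Subgroup G) := by
        rintro ⟨_, n, rfl⟩
        refine ⟨1, Subtype.ext ?_⟩
        show (v ^ n) ^ 2 ^ 1 = 1
        rw [pow_one, ← zpow_natCast, ← zpow_mul, mul_comm, zpow_mul, zpow_natCast, hv2, one_zpow]
      have hL : IsTwoLocal (Subgroup.centralizer ({v} : Set G)) :=
        ⟨_, hT, by simpa using hv1, (normalizer_zpowers_involution hv).symm⟩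
      obtain ⟨M, hM, hLM⟩ := exists_maximal_twoLocal hL
      exact ⟨M, hLM, h M hM⟩
    · exact ⟨_, le_rfl, h v hv⟩
  refine ⟨?_, ?_⟩
  · -- the first part
    intro X hXodd hSX
    have hX2 : ¬ 2 ∣ Nat.card X := fun hd => (Nat.not_even_iff_odd.mpr hXodd) (even_iff_two_dvd.mpr hd)
    obtain ⟨hAS, hSA, hAC⟩ := hA
    have hSp : IsPGroup 2 (S : Subgroup G) := S.isPGroup'
    have hcomm : ∀ x ∈ A, ∀ y ∈ A, x * y = y * x := by
      intro x hx y hy
      have h1 : x ∈ Subgroup.centralizer (A : Set G) := by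
        rw [← hAC] at hx
        exact hx.2
      exact ((Subgroup.mem_centralizer_iff.mp h1) y hy).symm
    -- the elementary abelian normal subgroup
    let E : Subgroup G :=
      { carrier := {x | x ∈ A ∧ x ^ 2 = 1}
        one_mem' := ⟨A.one_mem, one_pow 2⟩
        mul_mem' := by
          rintro x y ⟨hx, hx2⟩ ⟨hy, hy2⟩
          refine ⟨A.mul_mem hx hy, ?_⟩
          rw [(show Commute x y from hcomm x hx y hy).mul_pow, hx2, hy2, one_mul]
        inv_mem' := by
          rintro x ⟨hx, hx2⟩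
          exact ⟨A.inv_mem hx, by rw [inv_pow, hx2, inv_one]⟩ }
    have hEm : ∀ x, x ∈ E ↔ x ∈ A ∧ x ^ 2 = 1 := fun x => Iff.rfl
    have hE2 : ∀ e ∈ E, e ^ 2 = 1 := fun e he => ((hEm e).mp he).2
    have hES : E ≤ (S : Subgroup G) := fun x hx => hAS ((hEm x).mp hx).1
    have hEn : (S : Subgroup G) ≤ Subgroup.normalizer (E : Set G) := by
      intro s hs
      apply Cfsg.Agent.Lib.Coprime.Three.mem_normalizer_of_conj_mem
      rintro x ⟨hx, hx2⟩
      refine ⟨(Subgroup.mem_normalizer_iff.mp (hSA hs) x).mp hx, ?_⟩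
      rw [conj_pow, hx2]
      simp
    have hE8 : 8 ≤ Nat.card E := by
      unfold Cfsg.PRankLE at hA3
      push Not at hA3
      obtain ⟨B, hBc, hB2, hBcard⟩ := hA3
      have hBE : B.map A.subtype ≤ E := by
        rintro _ ⟨b, hb, rfl⟩
        refine ⟨b.2, ?_⟩
        exact congrArg Subtype.val (hB2 b hb)
      have hc : Nat.card B = Nat.card (B.map A.subtype) :=
        (Subgroup.card_map_of_injective (Subgroup.subtype_injective _)).symm
      have hc2 : Nat.card (B.map A.subtype) ≤ Nat.card E :=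
        Nat.le_of_dvd Nat.card_pos (Subgroup.card_dvd_of_le hBE)
      apply eight_le_of_lt (isPGroup_of_sq hE2)
      norm_num at hBcard
      omega
    obtain ⟨z, hzE, b, hbE, hzo, hb1, hbz, hzc, hbc⟩ := exists_z_b _ hSp hES hEn hE8 hE2
    have hz2 : z ^ 2 = 1 := hE2 z hzE
    have hb2 : b ^ 2 = 1 := hE2 b hbE
    have hz1 : z ≠ 1 := by
      intro h
      rw [h, orderOf_one] at hzo
      omega
    have hzb : z * b = b * z := hcomm z ((hEm z).mp hzE).1 b ((hEm b).mp hbE).1
    -- the four-group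
    set V := Cfsg.Agent.S0502.four z b hz2 hb2 hzb with hV
    have hVK : IsKleinFour V := Cfsg.Agent.S0502.isKleinFour_four _ _ _ hz1 hb1 hbz.symm
    have hVE : V ≤ E := by
      rintro x (rfl | rfl | rfl | rfl)
      · exact E.one_mem
      · exact hzE
      · exact hbE
      · exact E.mul_mem hzE hbE
    have hVel : IsElementaryAbelian 2 V := by
      refine ⟨?_, fun a ha => hE2 a (hVE ha)⟩
      exact ⟨⟨fun x y => Subtype.ext (hcomm _ ((hEm _).mp (hVE x.2)).1 _ ((hEm _).mp (hVE y.2)).1)⟩⟩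
    have hV4 : 4 ≤ Nat.card V := by
      rw [IsKleinFour.card_four]
    -- each centralizer is trivial
    have hkill : ∀ v ∈ V, v ≠ 1 → Nat.card (S : Subgroup G) ≤
        2 * Nat.card ((S : Subgroup G) ⊓ Subgroup.centralizer ({v} : Set G) : Subgroup G) →
        X ⊓ Subgroup.centralizer ({v} : Set G) = ⊥ := by
      intro v hvV hv1 hcard
      have hvo : orderOf v = 2 := orderOf_eq_prime (hE2 v (hVE hvV)) hv1
      obtain ⟨M, hCM, hMc, hMO⟩ := hover v hvo
      refine eq_bot_of_le hMc hMO (U := (S : Subgroup G) ⊓ Subgroup.centralizer ({v} : Set G))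
        (inf_le_right.trans hCM) (inf_le_right.trans hCM) ?_ ?_ ?_ ?_
      · intro hd
        exact hX2 (hd.trans (Subgroup.card_dvd_of_le inf_le_left))
      · exact hSp.to_le inf_le_left
      · intro u hu
        apply Cfsg.Agent.Lib.Coprime.Three.mem_normalizer_of_conj_mem
        rintro x ⟨hxX, hxC⟩
        refine ⟨(Subgroup.mem_normalizer_iff.mp (hSX hu.1) x).mp hxX, ?_⟩
        exact Subgroup.mul_mem _ (Subgroup.mul_mem _ hu.2 hxC) (Subgroup.inv_mem _ hu.2)
      · intro P hP hUP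
        refine le_trans ?_ hcard
        exact Cfsg.Agent.Lib.PGroup.ZJLocal.card_le_sylow hP S
    have hX : X ≤ ⨆ a : {a : G // a ∈ V ∧ a ≠ 1}, X ⊓ Subgroup.centralizer {(a : G)} :=
      le_iSup_inf_centralizer_four hVel hV4 hX2 ((hVE.trans hES).trans hSX)
    rw [eq_bot_iff]
    refine hX.trans (iSup_le ?_)
    rintro ⟨v, hvV, hv1⟩
    refine (hkill v hvV hv1 ?_).le
    have hzS : ∀ s ∈ (S : Subgroup G), s * z = z * s := hzc
    rcases hvV with h0 | h0 | h0 | h0
    · exact absurd h0 hv1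
    · -- `v = z`
      rw [h0]
      have hU : (S : Subgroup G) ≤ (S : Subgroup G) ⊓ Subgroup.centralizer ({z} : Set G) :=
        le_inf le_rfl (fun s hs => by
          show s ∈ Subgroup.centralizer {z}
          rw [Subgroup.mem_centralizer_singleton_iff]
          exact hzc s hs)
      have := Nat.le_of_dvd Nat.card_pos (Subgroup.card_dvd_of_le hU)
      omega
    · rw [h0]
      exact card_le_two_mul hz2 hzS hbc
    · -- `v = z * b`
      rw [h0]
      have hbc' : ∀ s ∈ (S : Subgroup G), s * (z * b) * s⁻¹ = z * b ∨ s * (z * b) * s⁻¹ = z * b * z := by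
        intro s hs
        have hsz : s * z * s⁻¹ = z := by rw [hzc s hs]; group
        have h1 : s * (z * b) * s⁻¹ = z * (s * b * s⁻¹) := by
          calc s * (z * b) * s⁻¹ = (s * z * s⁻¹) * (s * b * s⁻¹) := by group
            _ = z * (s * b * s⁻¹) := by rw [hsz]
        rw [h1]
        rcases hbc s hs with h | h
        · left; rw [h]
        · right; rw [h, mul_assoc]
      exact card_le_two_mul hz2 hzS hbc'
  · -- the second part
    intro T hT hT1
    rcases h with h | h
    · have hL : IsTwoLocal (Subgroup.normalizer (T : Set G)) := ⟨T, hT, hT1, rfl⟩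
      obtain ⟨M, hM, hLM⟩ := exists_maximal_twoLocal hL
      exact Cfsg.Agent.S3247.isPConstrained_of_le hT hLM (h M hM).1
    · exact Cfsg.Agent.S3247.isPConstrained_of_centralizers hT hT1 (fun x hx => (h x hx).1)

end Cfsg.Agent.S3246
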