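import Cfsg.Statements.S3280
import Mathlib
import Cfsg.Agent.S0848
import Cfsg.Agent.S0495
import Cfsg.Agent.S0497
import Cfsg.Agent.Lib.SCent.Main3

set_option autoImplicit false
open Cfsg

namespace Cfsg.Agent.S3280

open Cfsg.Agent.Lib.SCent

/-- A non-cyclic finite simple group containing an element whose centralizer has order at most 4 is isomorphic to the alternating group of degree 5, 6 or 7, or to PSL(2, 7). -/
theorem result {G : Type*} [Group G] [Finite G] [IsSimpleGroup G] (hG : ¬ IsCyclic G)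
    (w : G) (hw : Nat.card ↥(Subgroup.centralizer ({w} : Set G)) ≤ 4) :
    Nonempty (G ≃* ↥(alternatingGroup (Fin 5))) ∨ Nonempty (G ≃* ↥(alternatingGroup (Fin 6))) ∨
      Nonempty (G ≃* ↥(alternatingGroup (Fin 7))) ∨
      (∃ (F : Type) (_ : Field F) (_ : Fintype F), Fintype.card F = 7 ∧ Nonempty (G ≃* Matrix.ProjectiveSpecialLinearGroup (Fin 2) F)) := by
  classical
  haveI : Fact (Nat.Prime 7) := ⟨by norm_num⟩
  have hperf : commutator G = ⊤ := perfect hG
  rcases reduce_top hG w hw with h5 | h7 | ⟨y, hy, hcy⟩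
  · exact Or.inl h5
  · exact Or.inr (Or.inr (Or.inr ⟨ZMod 7, inferInstance, inferInstance, ZMod.card 7, h7⟩))
  · obtain ⟨C, hD, hc⟩ := exists_cfg hG y hy hcy
    have hpa : 0 < Nat.card C.Ap := Nat.card_pos
    have hpb : 0 < Nat.card C.swap.Ap := Nat.card_pos
    by_cases ha : Nat.card C.Ap = 1
    · by_cases hb : Nat.card C.swap.Ap = 1
      · obtain ⟨e⟩ := Cfg.case_11 hperf hD ha hb
        have hzo : orderOf C.z = 2 := Cfg.order_two_of C.z_z C.z_ne_one
        rcases Cfsg.Agent.S0848.result hperf C.z hzo e with h | h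
        · exact Or.inr (Or.inr (Or.inr ⟨ZMod 7, inferInstance, inferInstance, ZMod.card 7,
            Cfsg.Agent.S0495.result h (ZMod.card 7)⟩))
        · exact Or.inr (Or.inl (Cfsg.Agent.S0497.result h))
      · refine Or.inr (Or.inr (Or.inl ?_))
        apply Cfg.case_b1 (C := C.swap) hperf hD hc
        · rw [Cfg.swap_swap_Ap]; exact ha
        · omega
    · by_cases hb : Nat.card C.swap.Ap = 1
      · exact Or.inr (Or.inr (Or.inl (Cfg.case_b1 hperf hD hc hb (by omega))))
      · exact absurd (Cfg.case_big hD hc (by omega) (by omega)) id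

end Cfsg.Agent.S3280
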