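import Cfsg.Statements.S3304
import Mathlib
import Cfsg.Agent.Lib.PGroup.GL23
import Cfsg.Agent.Lib.PGroup.QuatSL23
import Cfsg.Agent.Lib.PGroup.CyclicMax2
import Cfsg.Agent.Lib.PGroup.CyclicMax
import Cfsg.Agent.Lib.Solvable.PSeries
import Cfsg.Agent.Lib.Basic.PCore
import Cfsg.Agent.S0106
import Cfsg.Agent.S3742
import Cfsg.Agent.S2879
import Cfsg.Agent.S3305

set_option autoImplicit false
open Cfsg

namespace Cfsg.Agent.S3304

open Subgroup Cfsg.Agent.Lib.PGroup.CyclicMax Cfsg.Agent.Lib.PGroup.CyclicMax2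
  Cfsg.Agent.Lib.PGroup.QuatSL23 Cfsg.Agent.Lib.PGroup.GL23

/-- The Klein four-subgroup generated by two commuting involutions. -/
def fourSub {R : Type*} [Group R] (x w : R) (hx : x * x = 1) (hw : w * w = 1) (hc : x * w = w * x) :
    Subgroup R where
  carrier := {g | g = 1 ∨ g = x ∨ g = w ∨ g = x * w}
  mul_mem' := by
    have h3 : w * x = x * w := hc.symm
    have h4 : x * (x * w) = w := by rw [← mul_assoc, hx, one_mul]
    have h5 : w * (x * w) = x := by rw [hc, ← mul_assoc, hw, one_mul]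
    have h6 : x * w * x = w := by rw [mul_assoc, h3, ← mul_assoc, hx, one_mul]
    have h7 : x * w * w = x := by rw [mul_assoc, hw, mul_one]
    have h8 : x * w * (x * w) = 1 := by rw [← mul_assoc, h6, hw]
    rintro a b (rfl | rfl | rfl | rfl) (rfl | rfl | rfl | rfl) <;>
      simp [hx, hw, h3, h4, h5, h6, h7, h8]
  one_mem' := Or.inl rfl
  inv_mem' := by
    have hxi : x⁻¹ = x := inv_eq_of_mul_eq_one_left hx
    have hwi : w⁻¹ = w := inv_eq_of_mul_eq_one_left hw
    rintro a (rfl | rfl | rfl | rfl)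
    · simp
    · right; left; exact hxi
    · right; right; left; exact hwi
    · right; right; right
      rw [mul_inv_rev, hxi, hwi, hc]

theorem not_rank_of_four {R : Type*} [Group R] [Finite R] (x w : R) (hx : x * x = 1) (hw : w * w = 1)
    (hc : x * w = w * x) (hx1 : x ≠ 1) (hw1 : w ≠ 1) (hxw : x ≠ w) : ¬ Cfsg.PRankLE 2 1 R := by
  intro hr
  let A := fourSub x w hx hw hc
  have hcomm : IsMulCommutative A := by
    refine ⟨⟨?_⟩⟩
    rintro ⟨a, ha⟩ ⟨b, hb⟩
    apply Subtype.ext
    show a * b = b * a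
    have h6 : x * (x * w) = x * w * x := by
      rw [mul_assoc x w x, hc]
    have h7 : w * (x * w) = x * w * w := by rw [← mul_assoc, ← hc]
    rcases ha with rfl | rfl | rfl | rfl <;> rcases hb with rfl | rfl | rfl | rfl <;>
      first | rfl | simp | exact hc | exact hc.symm | exact h6 | exact h7 | exact h6.symm | exact h7.symm
  have hexp : ∀ a ∈ A, a ^ 2 = 1 := by
    have h8 : x * w * (x * w) = 1 := by
      rw [mul_assoc, ← mul_assoc w, ← hc, mul_assoc x, hw, mul_one, hx]
    rintro a (rfl | rfl | rfl | rfl)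
    · simp
    · rw [pow_two, hx]
    · rw [pow_two, hw]
    · rw [pow_two, h8]
  have h1 := hr A hcomm hexp
  have h2 : ({1, x, w} : Set R) ⊆ (A : Set R) := by
    rintro g (rfl | rfl | rfl)
    · exact Or.inl rfl
    · exact Or.inr (Or.inl rfl)
    · exact Or.inr (Or.inr (Or.inl rfl))
  have h3 : ({1, x, w} : Set R).ncard = 3 :=
    Set.ncard_eq_three.mpr ⟨1, x, w, hx1.symm, hw1.symm, hxw, rfl⟩
  have h4 := Set.ncard_le_ncard h2 (Set.toFinite _)
  rw [h3] at h4
  have h5 : Nat.card A = (A : Set R).ncard := Nat.card_coe_set_eq _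
  omega

theorem uniqueP_of_rank {R : Type*} [Group R] [Finite R] (hP : IsPGroup 2 R)
    (hr : Cfsg.PRankLE 2 1 R) : UniqueP 2 R := by
  classical
  haveI : Fact (Nat.Prime 2) := ⟨Nat.prime_two⟩
  intro a b ha hb ha1 hb1
  haveI : Nontrivial R := ⟨⟨a, 1, ha1⟩⟩
  haveI : Nontrivial (center R) := hP.center_nontrivial
  have hcen : IsPGroup 2 (center R) := hP.to_subgroup _
  obtain ⟨k, hk⟩ := IsPGroup.iff_card.mp hcen
  have h2 : 2 ∣ Nat.card (center R) := by
    rw [hk]
    apply dvd_pow_self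
    rintro rfl
    rw [pow_zero] at hk
    have : 1 < Nat.card (center R) := Finite.one_lt_card
    omega
  obtain ⟨w, hw⟩ := exists_prime_orderOf_dvd_card' 2 h2
  have hw2 : (w : R) * w = 1 := by
    have h1 := pow_orderOf_eq_one w
    rw [hw, pow_two] at h1
    exact congrArg Subtype.val h1
  have hw1 : (w : R) ≠ 1 := by
    intro h
    have : w = 1 := Subtype.ext h
    rw [this, orderOf_one] at hw
    omega
  have key : ∀ x : R, x ^ 2 = 1 → x ≠ 1 → x = w := by
    intro x hx hx1
    by_contra hne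
    have hx' : x * x = 1 := by rw [← pow_two, hx]
    exact not_rank_of_four x w hx' hw2 (w.2.comm x).symm hx1 hw1 hne hr
  rw [key a ha ha1, ← key b hb hb1]
  exact mem_zpowers _

theorem prank_of_injective {H K : Type*} [Group H] [Group K] [Finite K] (f : H →* K)
    (hf : Function.Injective f) (h : Cfsg.PRankLE 2 1 K) : Cfsg.PRankLE 2 1 H := by
  intro A hAc hA
  have h1 := h (A.map f) ?_ ?_
  · have h2 : Nat.card (A.map f) = Nat.card A :=
      (Nat.card_congr (A.equivMapOfInjective f hf).toEquiv).symm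
    rwa [h2] at h1
  · refine ⟨⟨?_⟩⟩
    rintro ⟨_, x, hx, rfl⟩ ⟨_, y, hy, rfl⟩
    apply Subtype.ext
    show f x * f y = f y * f x
    rw [← map_mul, ← map_mul]
    congr 1
    exact congrArg Subtype.val (hAc.is_comm.comm (⟨x, hx⟩ : A) ⟨y, hy⟩)
  · rintro _ ⟨x, hx, rfl⟩
    rw [← map_pow, hA x hx, map_one]

/-- The hypothesis passes to quotients by normal subgroups of odd order. -/
theorem quot_rank {G : Type*} [Group G] [Finite G]
    (hI : ∀ S T : Sylow 2 G, S ≠ T → Cfsg.PRankLE 2 1 ↥((S : Subgroup G) ⊓ (T : Subgroup G)))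
    (O : Subgroup G) [hOn : O.Normal] (hO : (Nat.card O).Coprime 2) :
    ∀ S T : Sylow 2 (G ⧸ O), S ≠ T →
      Cfsg.PRankLE 2 1 ↥((S : Subgroup (G ⧸ O)) ⊓ (T : Subgroup (G ⧸ O))) := by
  classical
  haveI : Fact (Nat.Prime 2) := ⟨Nat.prime_two⟩
  intro Sb Tb hne A hAc hA
  set π := QuotientGroup.mk' O with hπ
  obtain ⟨S0, hS0⟩ := Sylow.mapSurjective_surjective (QuotientGroup.mk'_surjective O) 2 Sb
  have hS0' : (S0 : Subgroup G).map π = Sb := by
    rw [← hS0]
    rfl
  let A' : Subgroup (G ⧸ O) := A.map (Subgroup.subtype _)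
  let D : Subgroup G := (S0 : Subgroup G) ⊓ A'.comap π
  have hDS : D ≤ S0 := inf_le_left
  have hDp : IsPGroup 2 ↥D := S0.isPGroup'.to_le hDS
  have hDT : D ≤ (Tb : Subgroup (G ⧸ O)).comap π := by
    rintro x ⟨-, a, ha, hax⟩
    show π x ∈ (Tb : Subgroup (G ⧸ O))
    rw [← hax]
    exact a.2.2
  obtain ⟨T0, hDT0, hT0⟩ := Cfsg.Agent.S3305.exists_sylow_map_eq O Tb D hDp hDT
  have hST : S0 ≠ T0 := by
    rintro rfl
    apply hne
    apply Sylow.ext
    rw [← hS0', ← hT0]
  have hrk := hI S0 T0 hST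
  have hDle : D ≤ (S0 : Subgroup G) ⊓ (T0 : Subgroup G) := le_inf hDS hDT0
  -- `D ∩ O = 1`
  have htriv : ∀ x ∈ D, π x = 1 → x = 1 := by
    intro x hx hπx
    have hxO : x ∈ O := by
      have : QuotientGroup.mk' O x = 1 := hπx
      exact (QuotientGroup.eq_one_iff x).mp this
    have h1 : orderOf x ∣ Nat.card O := Subgroup.orderOf_dvd_natCard _ hxO
    obtain ⟨k, hk⟩ := hDp ⟨x, hx⟩
    have h2 : x ^ 2 ^ k = 1 := by
      have := congrArg Subtype.val hk
      simpa using this
    have h3 : orderOf x ∣ 2 ^ k := orderOf_dvd_of_pow_eq_one h2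
    have h4 : (Nat.card O).Coprime (2 ^ k) := Nat.Coprime.pow_right _ hO
    exact orderOf_eq_one_iff.mp (Nat.eq_one_of_dvd_coprimes h4 h1 h3)
  have hDcomm : ∀ x ∈ D, ∀ y ∈ D, x * y = y * x := by
    rintro x hx y hy
    have h1 : x * y * (y * x)⁻¹ ∈ D := mul_mem (mul_mem hx hy) (inv_mem (mul_mem hy hx))
    have h2 : π (x * y * (y * x)⁻¹) = 1 := by
      obtain ⟨-, a, ha, hax⟩ := hx
      obtain ⟨-, b, hb, hby⟩ := hy
      have h3 : π x * π y = π y * π x := by
        rw [← hax, ← hby]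
        have h := hAc.is_comm.comm (⟨a, ha⟩ : A) ⟨b, hb⟩
        exact congrArg (fun z : A => ((z : ↥((Sb : Subgroup (G ⧸ O)) ⊓ (Tb : Subgroup (G ⧸ O)))) : G ⧸ O)) h
      rw [map_mul, map_inv, map_mul, map_mul, h3]
      simp
    have h3 := htriv _ h1 h2
    exact mul_inv_eq_one.mp h3
  have hDexp : ∀ x ∈ D, x ^ 2 = 1 := by
    rintro x hx
    apply htriv _ (pow_mem hx 2)
    obtain ⟨-, a, ha, hax⟩ := hx
    rw [map_pow]
    have h1 := hA a ha
    have h2 := congrArg Subtype.val h1
    rw [← hax]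
    simpa using h2
  have hcardD : Nat.card (D.subgroupOf ((S0 : Subgroup G) ⊓ (T0 : Subgroup G))) ≤ 2 ^ 1 := by
    apply hrk
    · refine ⟨⟨?_⟩⟩
      rintro ⟨⟨x, hx0⟩, hx⟩ ⟨⟨y, hy0⟩, hy⟩
      apply Subtype.ext
      apply Subtype.ext
      exact hDcomm x (Subgroup.mem_subgroupOf.mp hx) y (Subgroup.mem_subgroupOf.mp hy)
    · rintro ⟨x, hx0⟩ hx
      apply Subtype.ext
      simpa using hDexp x (Subgroup.mem_subgroupOf.mp hx)
  have h5 : Nat.card (D.subgroupOf ((S0 : Subgroup G) ⊓ (T0 : Subgroup G))) = Nat.card D :=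
    Nat.card_congr (subgroupOfEquivOfLe hDle).toEquiv
  rw [h5] at hcardD
  -- `A' ≤ π D`
  have h6 : A' ≤ D.map π := by
    intro y hy
    have hyS : y ∈ (Sb : Subgroup (G ⧸ O)) := by
      obtain ⟨a, -, rfl⟩ := hy
      exact a.2.1
    rw [← hS0'] at hyS
    obtain ⟨s, hs, rfl⟩ := hyS
    exact ⟨s, ⟨hs, hy⟩, rfl⟩
  have h7 : Nat.card A' ≤ Nat.card (D.map π) := Subgroup.card_le_of_le h6
  have h8 : Nat.card (D.map π) ≤ Nat.card D :=
    Nat.card_le_card_of_surjective (π.subgroupMap D) (π.subgroupMap_surjective D)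
  have h9 : Nat.card A' = Nat.card A :=
    (Nat.card_congr (A.equivMapOfInjective _ (Subgroup.subtype_injective _)).toEquiv).symm
  omega

theorem QG_noncomm : (QuaternionGroup.a 1 : QG) * QuaternionGroup.xa 0 ≠
    QuaternionGroup.xa 0 * QuaternionGroup.a 1 := by decide +kernel

theorem QG_a2_ne : (QuaternionGroup.a 2 : QG) ≠ 1 := by decide +kernel

/-- Centre and central quotient. -/
theorem center_data {G : Type*} [Group G] [Finite G] (R : Subgroup G) [hRn : R.Normal] (e : R ≃* QG)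
    (hC : centralizer (R : Set G) ≤ R) (hcard : Nat.card G = 48) :
    Nat.card ↥(center G) = 2 ∧ Nonempty (G ⧸ center G ≃* Equiv.Perm (Fin 4)) := by
  classical
  let φ : G →* MulAut R := MulAut.conjNormal
  have hker : ∀ x ∈ φ.ker, x ∈ centralizer (R : Set G) := by
    intro x hx
    rw [mem_centralizer_iff]
    intro q hq
    have h1 : φ x = 1 := hx
    have h2 : ((φ x ⟨q, hq⟩ : R) : G) = x * q * x⁻¹ := MulAut.conjNormal_apply x ⟨q, hq⟩
    rw [h1] at h2
    have h3 : q = x * q * x⁻¹ := h2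
    calc q * x = (x * q * x⁻¹) * x := by rw [← h3]
      _ = x * q := by group
  let z₀ : G := ((e.symm (QuaternionGroup.a 2) : R) : G)
  have hz₀R : z₀ ∈ R := (e.symm (QuaternionGroup.a 2)).2
  have hz₀e : e ⟨z₀, hz₀R⟩ = QuaternionGroup.a 2 := by
    show e (e.symm (QuaternionGroup.a 2)) = _
    simp
  have hz₀1 : z₀ ≠ 1 := by
    intro h
    have h1 : (⟨z₀, hz₀R⟩ : R) = 1 := Subtype.ext h
    rw [h1, map_one] at hz₀e
    exact QG_a2_ne hz₀e.symm
  have hz₀2 : z₀ ^ 2 = 1 := by
    have h1 : (e.symm (QuaternionGroup.a 2) : R) ^ 2 = 1 := by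
      rw [← map_pow, Cfsg.Agent.S2879.QG_a2, map_one]
    have h2 := congrArg Subtype.val h1
    simpa using h2
  -- central in `R` means trivial or `z₀`
  have hcentR : ∀ x ∈ R, (∀ q ∈ R, x * q = q * x) → x = 1 ∨ x = z₀ := by
    intro x hxQ hx
    have h1 : ∀ w : QG, e ⟨x, hxQ⟩ * w = w * e ⟨x, hxQ⟩ := by
      intro w
      obtain ⟨q, rfl⟩ := e.surjective w
      rw [← map_mul, ← map_mul]
      congr 1
      apply Subtype.ext
      exact hx q q.2
    rcases Cfsg.Agent.S2879.QG_center _ h1 with h2 | h2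
    · left
      have h3 : (⟨x, hxQ⟩ : R) = 1 := by
        apply e.injective
        rw [h2, map_one]
      exact congrArg Subtype.val h3
    · right
      have h3 : (⟨x, hxQ⟩ : R) = ⟨z₀, hz₀R⟩ := by
        apply e.injective
        rw [h2, hz₀e]
      exact congrArg Subtype.val h3
  have hz₀R_comm : ∀ q ∈ R, z₀ * q = q * z₀ := by
    intro q hq
    have h2 : ∀ w : QG, (QuaternionGroup.a 2 : QG) * w = w * QuaternionGroup.a 2 := by decide +kernel
    have h3 := h2 (e ⟨q, hq⟩)
    rw [← hz₀e, ← map_mul, ← map_mul] at h3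
    exact congrArg Subtype.val (e.injective h3)
  have hz₀cen : z₀ ∈ center G := by
    rw [Subgroup.mem_center_iff]
    intro g
    have h1 : g * z₀ * g⁻¹ ∈ R := hRn.conj_mem _ hz₀R g
    have h2 : ∀ q ∈ R, g * z₀ * g⁻¹ * q = q * (g * z₀ * g⁻¹) := by
      intro q hq
      have h3 := hz₀R_comm (g⁻¹ * q * g) (by
        have := hRn.conj_mem q hq g⁻¹
        simpa using this)
      calc g * z₀ * g⁻¹ * q = g * (z₀ * (g⁻¹ * q * g)) * g⁻¹ := by group
        _ = g * ((g⁻¹ * q * g) * z₀) * g⁻¹ := by rw [h3]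
        _ = q * (g * z₀ * g⁻¹) := by group
    rcases hcentR _ h1 h2 with h3 | h3
    · exfalso
      apply hz₀1
      have h4 : g * z₀ = g := by
        calc g * z₀ = (g * z₀ * g⁻¹) * g := by group
          _ = g := by rw [h3, one_mul]
      simpa using h4
    · calc g * z₀ = (g * z₀ * g⁻¹) * g := by group
        _ = z₀ * g := by rw [h3]
  have hker2 : ∀ x ∈ φ.ker, x = 1 ∨ x = z₀ := by
    intro x hx
    have hxC := hker x hx
    apply hcentR x (hC hxC)
    intro q hq
    exact ((mem_centralizer_iff.mp hxC) q hq).symm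
  have hkerc : φ.ker = center G := by
    apply le_antisymm
    · intro x hx
      rcases hker2 x hx with rfl | rfl
      · exact one_mem _
      · exact hz₀cen
    · intro x hx
      rw [Subgroup.mem_center_iff] at hx
      rw [MonoidHom.mem_ker]
      ext q
      show x * (q : G) * x⁻¹ = q
      rw [← hx (q : G)]
      group
  have hcen : center G = zpowers z₀ := by
    apply le_antisymm
    · intro x hx
      rw [← hkerc] at hx
      rcases hker2 x hx with rfl | rfl
      · exact one_mem _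
      · exact mem_zpowers _
    · rw [zpowers_le]
      exact hz₀cen
  have hord : orderOf z₀ = 2 := orderOf_eq_prime hz₀2 hz₀1
  have hcc : Nat.card ↥(center G) = 2 := by
    rw [hcen, Nat.card_zpowers, hord]
  refine ⟨hcc, ?_⟩
  obtain ⟨e2⟩ := Cfsg.Agent.S3742.result
  have h2 : Nat.card (MulAut R) = Nat.card (MulAut QG) := Nat.card_congr (MulAut.congr e).toEquiv
  have h3 : Nat.card (MulAut QG) = 24 := by
    rw [Nat.card_congr e2.toEquiv, Nat.card_eq_fintype_card, Fintype.card_perm, Fintype.card_fin]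
    rfl
  have hsurj : Function.Surjective φ := by
    rw [← MonoidHom.range_eq_top]
    apply Subgroup.eq_top_of_card_eq
    have h1 := φ.ker.card_mul_index
    rw [Subgroup.index_ker, hkerc, hcc, hcard] at h1
    rw [h2, h3]
    omega
  exact ⟨(QuotientGroup.quotientMulEquivOfEq hkerc.symm).trans
    ((QuotientGroup.quotientKerEquivOfSurjective φ hsurj).trans ((MulAut.congr e).trans e2))⟩

/-- The Sylow subgroups are generalized quaternion when there is a unique involution. -/
theorem sylow_data {G : Type*} [Group G] [Finite G] (R : Subgroup G) (e : R ≃* QG)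
    (hcard : Nat.card G = 48) (hRP : ∀ P : Sylow 2 G, R ≤ P)
    (hu : ∀ a b : G, a ^ 2 = 1 → b ^ 2 = 1 → a ≠ 1 → b ≠ 1 → a = b) (P : Sylow 2 G) :
    Nonempty (↥(P : Subgroup G) ≃* QuaternionGroup 4) := by
  classical
  haveI : Fact (Nat.Prime 2) := ⟨Nat.prime_two⟩
  have hP : IsPGroup 2 (P : Subgroup G) := P.isPGroup'
  have hUP : UniqueP 2 (P : Subgroup G) := by
    intro a b ha hb ha1 hb1
    have h1 : (a : G) = b := hu a b (by simpa using congrArg Subtype.val ha)
      (by simpa using congrArg Subtype.val hb) (fun h => ha1 (Subtype.ext h))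
      (fun h => hb1 (Subtype.ext h))
    have h2 : a = b := Subtype.ext h1
    rw [h2]
    exact mem_zpowers _
  -- the order of `P`
  have hP16 : Nat.card (P : Subgroup G) = 16 := by
    obtain ⟨k, hk⟩ := IsPGroup.iff_card.mp hP
    have hnd := P.not_dvd_index
    have h2 := (P : Subgroup G).card_mul_index
    rw [hcard, hk] at h2
    have h3 : 2 ^ k ∣ 2 ^ 4 * 3 := ⟨_, by rw [h2]; norm_num⟩
    have h4 : 2 ^ k ∣ 2 ^ 4 := by
      apply Nat.Coprime.dvd_of_dvd_mul_right _ h3
      exact Nat.Coprime.pow_left _ (by norm_num)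
    have h5 : k ≤ 4 := (Nat.pow_dvd_pow_iff_le_right (by norm_num)).mp h4
    interval_cases k
    all_goals first
      | (rw [hk]; norm_num; done)
      | (exfalso; apply hnd; norm_num at h2; omega)
  rcases cyclic_or_quaternion hP hUP with hc | ⟨-, u, b, n, hSC, hn, hc, hb, hbu, hb2⟩
  · exfalso
    haveI := hc
    have h1 : ∀ x y : R, x * y = y * x := by
      intro x y
      have hxP := hRP P x.2
      have hyP := hRP P y.2
      have h2 : (⟨x, hxP⟩ : (P : Subgroup G)) * ⟨y, hyP⟩ = ⟨y, hyP⟩ * ⟨x, hxP⟩ := mul_comm' _ _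
      apply Subtype.ext
      have h3 := congrArg Subtype.val h2
      exact h3
    apply QG_noncomm
    obtain ⟨x, hx⟩ := e.surjective (QuaternionGroup.a 1)
    obtain ⟨y, hy⟩ := e.surjective (QuaternionGroup.xa 0)
    rw [← hx, ← hy, ← map_mul, ← map_mul, h1]
  · have hn3 : n = 3 := by
      rw [hP16] at hc
      have h1 : (2 : ℕ) ^ 4 = 2 ^ (n + 1) := by rw [← hc]; norm_num
      have h2 := Nat.pow_right_injective (le_refl 2) h1
      omega
    subst hn3
    exact quaternion_of_data (by norm_num) hSC.hu hc hb hbu hb2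

/-- The main argument for a group with trivial odd core. -/
theorem main_core {G : Type*} [Group G] [Finite G] (hs : Group.IsSolvable G)
    (hO : Cfsg.pPrimeCore 2 G = ⊥)
    (hI : ∀ S T : Sylow 2 G, S ≠ T → Cfsg.PRankLE 2 1 ↥((S : Subgroup G) ⊓ (T : Subgroup G))) :
    (∃ P : Sylow 2 G, (P : Subgroup G).Normal) ∨
    Nonempty (G ≃* GL (Fin 2) (ZMod 3)) ∨
    (Nat.card G = 48 ∧ Nat.card ↥(Subgroup.center G) = 2 ∧
      Nonempty (G ⧸ Subgroup.center G ≃* Equiv.Perm (Fin 4)) ∧
      ∀ P : Sylow 2 G, Nonempty (↥(P : Subgroup G) ≃* QuaternionGroup 4)) := by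
  classical
  haveI := hs
  haveI : Fact (Nat.Prime 2) := ⟨Nat.prime_two⟩
  by_cases hnorm : ∃ P : Sylow 2 G, (P : Subgroup G).Normal
  · exact Or.inl hnorm
  right
  push Not at hnorm
  -- the core
  obtain ⟨R, hR⟩ : ∃ R, R = Cfsg.pCore 2 G := ⟨_, rfl⟩
  haveI hRn : R.Normal := by rw [hR]; exact Cfsg.pCore_normal 2 G
  have hRp : IsPGroup 2 R := by rw [hR]; exact Cfsg.Agent.Lib.Basic.PCore.pCore_isPGroup 2
  have hC : centralizer (R : Set G) ≤ R := by
    rw [hR]
    exact Cfsg.Agent.Lib.Solvable.PSeries.centralizer_pCore_le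
      Cfsg.Agent.Lib.Solvable.PSeries.isPSolvable_of_solvable hO
  have hRP : ∀ P : Sylow 2 G, R ≤ P := by
    intro P
    rw [hR]
    exact Cfsg.Agent.Lib.Basic.PCore.pCore_le_sylow P
  -- not a `2`-group
  have hnotp : ¬ IsPGroup 2 G := by
    intro hp
    obtain ⟨S⟩ : Nonempty (Sylow 2 G) := inferInstance
    apply hnorm S
    have := S.is_maximal' (hp.to_subgroup ⊤) le_top
    rw [← this]
    exact Subgroup.normal_top
  -- an odd element
  have hnoncent : ∀ g : G, g ≠ 1 → (orderOf g).Coprime 2 → g ∉ centralizer (R : Set G) := by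
    intro g hg hodd hgC
    have hgR := hC hgC
    obtain ⟨k, hk⟩ := hRp ⟨g, hgR⟩
    have h2 : g ^ 2 ^ k = 1 := by
      have := congrArg Subtype.val hk
      simpa using this
    have h3 : orderOf g ∣ 2 ^ k := orderOf_dvd_of_pow_eq_one h2
    have h4 : (orderOf g).Coprime (2 ^ k) := Nat.Coprime.pow_right _ hodd
    exact hg (orderOf_eq_one_iff.mp (Nat.eq_one_of_dvd_coprimes h4 (dvd_refl _) h3))
  obtain ⟨y', hy'1, hy'odd⟩ : ∃ y' : G, y' ≠ 1 ∧ (orderOf y').Coprime 2 := by
    by_contra hcon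
    push Not at hcon
    apply hnotp
    intro g
    obtain ⟨a, m, hm, ham⟩ := Nat.exists_eq_two_pow_mul_odd (n := orderOf g) (orderOf_pos g).ne'
    refine ⟨a, ?_⟩
    by_contra hne
    apply hcon _ hne
    have h1 : (g ^ 2 ^ a) ^ m = 1 := by
      rw [← pow_mul, ← ham, pow_orderOf_eq_one]
    have h2 : orderOf (g ^ 2 ^ a) ∣ m := orderOf_dvd_of_pow_eq_one h1
    exact Nat.Coprime.coprime_dvd_left h2 (Nat.coprime_two_right.mpr hm)
  have hy'n : y' ∈ normalizer (R : Set G) := by
    rw [Subgroup.normalizer_eq_top R]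
    trivial
  have hy'C := hnoncent y' hy'1 hy'odd
  -- two distinct Sylow subgroups
  obtain ⟨S⟩ : Nonempty (Sylow 2 G) := inferInstance
  obtain ⟨T, hT⟩ : ∃ T : Sylow 2 G, S ≠ T := by
    by_contra hall
    push Not at hall
    apply hnorm S
    rw [← normalizer_eq_top_iff, eq_top_iff]
    intro g _
    exact Sylow.smul_eq_iff_mem_normalizer.mp (hall _).symm
  have hRle : R ≤ (S : Subgroup G) ⊓ (T : Subgroup G) := le_inf (hRP S) (hRP T)
  have hrR : Cfsg.PRankLE 2 1 R :=
    prank_of_injective (Subgroup.inclusion hRle) (Subgroup.inclusion_injective hRle) (hI S T hT)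
  have hUR : UniqueP 2 R := uniqueP_of_rank hRp hrR
  -- `R` is quaternion of order 8
  obtain ⟨e⟩ : Nonempty (R ≃* QG) := by
    rcases cyclic_or_quaternion hRp hUR with hc | ⟨-, u, b, k, hSC, hk, hcard, hb, hbu, hb2⟩
    · exact absurd (Cfsg.Agent.S0106.centralizes_of_cyclic R hc hRp hy'n hy'odd) hy'C
    · by_cases hk2 : k = 2
      · subst hk2
        exact quaternion_of_data (by omega) hSC.hu hcard hb hbu hb2
      · exact absurd (Cfsg.Agent.S0106.centralizes_of_big u b k hSC (by omega) hcard hb hbu hb2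
          hy'n hy'odd) hy'C
  have hR8 : Nat.card R = 8 := by
    rw [Nat.card_congr e.toEquiv, Nat.card_eq_fintype_card, QuaternionGroup.card]
  have hdvd := Cfsg.Agent.S2879.card_dvd_48 R e hC
  -- an element of order 3
  have h3 : 3 ∣ Nat.card G := by
    by_contra h3
    apply hnotp
    have h4 : Nat.card G ∣ 2 ^ 4 := by
      have h5 : Nat.Coprime (Nat.card G) 3 := ((Nat.Prime.coprime_iff_not_dvd (by norm_num)).mpr h3).symm
      exact h5.dvd_of_dvd_mul_right (show Nat.card G ∣ 2 ^ 4 * 3 from hdvd)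
    obtain ⟨k, -, hk⟩ := (Nat.dvd_prime_pow Nat.prime_two).mp h4
    exact IsPGroup.iff_card.mpr ⟨k, hk⟩
  haveI : Fact (Nat.Prime 3) := ⟨by norm_num⟩
  obtain ⟨y, hy⟩ := exists_prime_orderOf_dvd_card' 3 h3
  have hyC := hnoncent y (by
      intro h
      rw [h, orderOf_one] at hy
      omega) (by rw [hy]; norm_num)
  obtain ⟨hL24, ⟨e'⟩⟩ := Cfsg.Agent.S2879.sl23_of R e y hy hyC
  obtain ⟨L, hLdef⟩ : ∃ L, L = zpowers y ⊔ R := ⟨_, rfl⟩
  rw [← hLdef] at hL24 e'
  have hRL : R ≤ L := by rw [hLdef]; exact le_sup_right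
  have hdvd24 : 24 ∣ Nat.card G := by
    rw [← hL24]
    exact Subgroup.card_subgroup_dvd_card L
  have hcard : Nat.card G = 48 := by
    have h1 : Nat.card G ≤ 48 := Nat.le_of_dvd (by norm_num) hdvd
    have h2 : Nat.card G ≠ 24 := by
      intro h24
      apply hnorm S
      have h5 : (R : Subgroup G) = S := by
        apply Subgroup.eq_of_le_of_card_ge (hRP S)
        rw [hR8]
        obtain ⟨k, hk⟩ := IsPGroup.iff_card.mp S.isPGroup'
        have h6 : 2 ^ k ∣ 2 ^ 3 * 3 := by
          rw [← hk]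
          have := Subgroup.card_subgroup_dvd_card (S : Subgroup G)
          rw [h24] at this
          exact this
        have h7 : 2 ^ k ∣ 2 ^ 3 := by
          apply Nat.Coprime.dvd_of_dvd_mul_right _ h6
          exact Nat.Coprime.pow_left _ (by norm_num)
        rw [hk]
        exact Nat.le_of_dvd (by norm_num) h7
      rw [← h5]
      exact hRn
    obtain ⟨c, hc⟩ := hdvd24
    obtain ⟨d, hd⟩ := hdvd
    have hc0 : c ≠ 0 := by
      rintro rfl
      have : 0 < Nat.card G := Nat.card_pos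
      omega
    have : c ≤ 2 := by omega
    interval_cases c <;> omega
  have hidx : L.index = 2 := by
    have h1 := L.card_mul_index
    rw [hL24, hcard] at h1
    omega
  haveI hLn : L.Normal := Subgroup.normal_of_index_eq_two hidx
  have hmul : ∀ x, x ∉ L → ∀ y, y ∉ L → x * y ∈ L := by
    intro x hx y hy
    rw [Subgroup.mul_mem_iff_of_index_two hidx]
    exact ⟨fun h => absurd h hx, fun h => absurd h hy⟩
  have hCL : ∀ c, (∀ x ∈ L, c * x = x * c) → c ∈ L := by
    intro c hc
    apply hRL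
    apply hC
    rw [mem_centralizer_iff]
    intro q hq
    exact (hc q (hRL hq)).symm
  by_cases hinv : ∃ t : G, t ∉ L ∧ t * t = 1
  · left
    obtain ⟨t₁, ht₁, ht₁2⟩ := hinv
    obtain ⟨t, ht, ht2, hact⟩ := normal_form (L := L) (e := e') hCL t₁ ht₁ ht₁2
    exact gl_of_data (L := L) (e := e') hmul t ht ht2 (fun x hx => hLn.conj_mem x hx t) hact hcard
  · right
    push Not at hinv
    obtain ⟨hcc, hquo⟩ := center_data R e hC hcard
    refine ⟨hcard, hcc, hquo, ?_⟩
    apply sylow_data R e hcard hRP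
    intro a b ha hb ha1 hb1
    have haL : a ∈ L := by
      by_contra h
      exact hinv a h (by rw [← pow_two, ha])
    have hbL : b ∈ L := by
      by_contra h
      exact hinv b h (by rw [← pow_two, hb])
    have h1 : e' ⟨a, haL⟩ = e' ⟨b, hbL⟩ := by
      apply invol_table
      · rw [← map_pow]
        have : (⟨a, haL⟩ : L) ^ 2 = 1 := Subtype.ext (by simpa using ha)
        rw [this, map_one]
      · rw [← map_pow]
        have : (⟨b, hbL⟩ : L) ^ 2 = 1 := Subtype.ext (by simpa using hb)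
        rw [this, map_one]
      · intro h
        have h2 : (⟨a, haL⟩ : L) = 1 := e'.injective (by rw [h, map_one])
        exact ha1 (congrArg Subtype.val h2)
      · intro h
        have h2 : (⟨b, hbL⟩ : L) = 1 := e'.injective (by rw [h, map_one])
        exact hb1 (congrArg Subtype.val h2)
    exact congrArg Subtype.val (e'.injective h1)



/-- Let G be a finite solvable group in which the intersection of any two distinct Sylow 2-subgroups has 2-rank at most 1 (contains no Klein four-group). Write Q = G/O(G), O(G) the largest normal subgroup of odd order. Then Q has a normal Sylow 2-subgroup; or Q is isomorphic to GL(2,3); or Q has order 48, centre of order 2 with central quotient isomorphic to the symmetric group of degree 4, and generalized quaternion Sylow 2-subgroups of order 16 (the binary octahedral group). The last two are the two representation groups of the symmetric group of degree 4. -/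
theorem result {G : Type*} [Group G] [Finite G] (hs : Group.IsSolvable G)
    (hI : ∀ S T : Sylow 2 G, S ≠ T → Cfsg.PRankLE 2 1 ↥((S : Subgroup G) ⊓ (T : Subgroup G))) :
    (∃ P : Sylow 2 (G ⧸ Cfsg.oddCore G), (P : Subgroup (G ⧸ Cfsg.oddCore G)).Normal) ∨
    Nonempty ((G ⧸ Cfsg.oddCore G) ≃* GL (Fin 2) (ZMod 3)) ∨
    (Nat.card (G ⧸ Cfsg.oddCore G) = 48 ∧ Nat.card ↥(Subgroup.center (G ⧸ Cfsg.oddCore G)) = 2 ∧
      Nonempty ((G ⧸ Cfsg.oddCore G) ⧸ Subgroup.center (G ⧸ Cfsg.oddCore G) ≃* Equiv.Perm (Fin 4)) ∧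
      ∀ P : Sylow 2 (G ⧸ Cfsg.oddCore G), Nonempty (↥(P : Subgroup (G ⧸ Cfsg.oddCore G)) ≃* QuaternionGroup 4)) := by
  classical
  haveI : Fact (Nat.Prime 2) := ⟨Nat.prime_two⟩
  haveI hcoreN : (Cfsg.oddCore G).Normal := Cfsg.Agent.Lib.Basic.PCore.pPrimeCore_normal 2 G
  have hI' := quot_rank hI (Cfsg.oddCore G) (Cfsg.Agent.Lib.Solvable.PSeries.pPrimeCore_coprime 2)
  have hs' : Group.IsSolvable (G ⧸ Cfsg.oddCore G) := inferInstance
  have hcore1 : Cfsg.pPrimeCore 2 (G ⧸ Cfsg.oddCore G) = ⊥ :=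
    Cfsg.Agent.Lib.Solvable.PSeries.pPrimeCore_quotient 2
  exact main_core hs' hcore1 hI'

end Cfsg.Agent.S3304
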