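import Cfsg.Statements.S3333
import Mathlib
import Cfsg.Agent.Lib.Blocks.TID8Quo

set_option autoImplicit false
open Cfsg

namespace Cfsg.Agent.S3333

/-- Let G be a finite group with a Sylow 3-subgroup S of order 9 that is its own centralizer, with N_G(S)/S dihedral of order 8, and such that C_G(x) ≤ N_G(S) for every non-identity x in S. Then S is normal in G or G is isomorphic to the symmetric group of degree 6. -/
theorem result {G : Type*} [Group G] [Finite G]
    (P : Sylow 3 G) (S : Subgroup G) (hSP : S = P) (hcard : Nat.card S = 9)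
    (hC : Subgroup.centralizer (S : Set G) = S)
    (eN : Subgroup.normalizer (S : Set G) ⧸ S.subgroupOf (Subgroup.normalizer (S : Set G)) ≃* DihedralGroup 4)
    (hcent : ∀ x ∈ S, x ≠ 1 → Subgroup.centralizer ({x} : Set G) ≤ Subgroup.normalizer (S : Set G)) :
    S.Normal ∨ Nonempty (G ≃* Equiv.Perm (Fin 6)) := by
  classical
  subst hSP
  by_cases hn : (P : Subgroup G).Normal
  · exact Or.inl hn
  refine Or.inr ?_
  have hcomm : ∀ x ∈ (P : Subgroup G), ∀ y ∈ (P : Subgroup G), x * y = y * x := by
    intro x hx y hy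
    have h1 : x ∈ Subgroup.centralizer (((P : Subgroup G) : Set G)) := by rw [hC]; exact hx
    exact (Subgroup.mem_centralizer_iff.1 h1 y hy).symm
  have hTn : ((P : Subgroup G).subgroupOf (Subgroup.normalizer (((P : Subgroup G) : Set G)))).Normal :=
    Subgroup.normal_in_normalizer
  have h3 : ∀ x ∈ (P : Subgroup G), x ^ 3 = 1 := by
    intro x hx
    by_contra hx3
    have hod : orderOf x ∣ 9 := by
      rw [← hcard]
      have := orderOf_dvd_natCard (⟨x, hx⟩ : (P : Subgroup G))
      rwa [Subgroup.orderOf_mk] at this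
    have h9 : orderOf x = 9 := by
      have hmem : orderOf x ∈ Nat.divisors 9 := Nat.mem_divisors.2 ⟨hod, by norm_num⟩
      rw [show Nat.divisors 9 = {1, 3, 9} by decide] at hmem
      simp only [Finset.mem_insert, Finset.mem_singleton] at hmem
      rcases hmem with h | h | h
      · exfalso
        rw [orderOf_eq_one_iff] at h
        apply hx3
        rw [h, one_pow]
      · exfalso
        apply hx3
        rw [← h]
        exact pow_orderOf_eq_one x
      · exact h
    have hz : Subgroup.zpowers x = (P : Subgroup G) := by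
      apply Subgroup.eq_of_le_of_card_ge
      · rw [Subgroup.zpowers_le]
        exact hx
      · rw [hcard, Nat.card_zpowers, h9]
    have hpow : ∀ n ∈ Subgroup.normalizer (((P : Subgroup G) : Set G)), ∃ a : ℤ, n * x * n⁻¹ = x ^ a := by
      intro n hn'
      have h1 := (Subgroup.mem_normalizer_iff.1 hn' x).1 hx
      rw [← hz] at h1
      obtain ⟨a, ha⟩ := h1
      exact ⟨a, ha.symm⟩
    -- the dihedral group is not commutative
    obtain ⟨n₁, hn₁⟩ := QuotientGroup.mk_surjective (eN.symm (DihedralGroup.r 1))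
    obtain ⟨n₂, hn₂⟩ := QuotientGroup.mk_surjective (eN.symm (DihedralGroup.sr 0))
    obtain ⟨a, ha⟩ := hpow n₁ n₁.2
    obtain ⟨b, hb⟩ := hpow n₂ n₂.2
    have hcon : ∀ (n : G) (k : ℤ), n * x ^ k * n⁻¹ = (n * x * n⁻¹) ^ k := by
      intro n k
      rw [conj_zpow]
    have hc1 : ((n₁ : G) * n₂) * x * ((n₁ : G) * n₂)⁻¹ = ((n₂ : G) * n₁) * x * ((n₂ : G) * n₁)⁻¹ := by
      have e1 : ((n₁ : G) * n₂) * x * ((n₁ : G) * n₂)⁻¹ = x ^ (a * b) := by
        calc ((n₁ : G) * n₂) * x * ((n₁ : G) * n₂)⁻¹ = (n₁ : G) * ((n₂ : G) * x * (n₂ : G)⁻¹) * (n₁ : G)⁻¹ := by group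
          _ = _ := by rw [hb, hcon, ha, ← zpow_mul]
      have e2 : ((n₂ : G) * n₁) * x * ((n₂ : G) * n₁)⁻¹ = x ^ (a * b) := by
        calc ((n₂ : G) * n₁) * x * ((n₂ : G) * n₁)⁻¹ = (n₂ : G) * ((n₁ : G) * x * (n₁ : G)⁻¹) * (n₂ : G)⁻¹ := by group
          _ = _ := by rw [ha, hcon, hb, ← zpow_mul, mul_comm]
      rw [e1, e2]
    have hd : (((n₂ : G) * n₁)⁻¹ * ((n₁ : G) * n₂)) * x = x * (((n₂ : G) * n₁)⁻¹ * ((n₁ : G) * n₂)) := by
      have h2 : ((n₁ : G) * n₂) * x = ((n₂ : G) * n₁) * x * ((n₂ : G) * n₁)⁻¹ * ((n₁ : G) * n₂) := by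
        rw [← hc1]
        group
      calc (((n₂ : G) * n₁)⁻¹ * ((n₁ : G) * n₂)) * x = ((n₂ : G) * n₁)⁻¹ * (((n₁ : G) * n₂) * x) := by group
        _ = ((n₂ : G) * n₁)⁻¹ * (((n₂ : G) * n₁) * x * ((n₂ : G) * n₁)⁻¹ * ((n₁ : G) * n₂)) := by rw [h2]
        _ = _ := by group
    have hdT : ((n₂ : G) * n₁)⁻¹ * ((n₁ : G) * n₂) ∈ (P : Subgroup G) := by
      have h1 : ((n₂ : G) * n₁)⁻¹ * ((n₁ : G) * n₂) ∈ Subgroup.centralizer (((P : Subgroup G) : Set G)) := by
        rw [Subgroup.mem_centralizer_iff]
        intro t ht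
        have ht' : t ∈ Subgroup.zpowers x := by rw [hz]; exact ht
        obtain ⟨k, rfl⟩ := ht'
        exact ((Commute.zpow_right (show Commute _ x from hd) k)).eq.symm
      exact hC.le h1
    have hmk : ((n₁ * n₂ : Subgroup.normalizer (((P : Subgroup G) : Set G))) :
        Subgroup.normalizer (((P : Subgroup G) : Set G)) ⧸
          (P : Subgroup G).subgroupOf (Subgroup.normalizer (((P : Subgroup G) : Set G)))) = (n₂ * n₁ : Subgroup.normalizer (((P : Subgroup G) : Set G))) := by
      rw [eq_comm, QuotientGroup.eq, Subgroup.mem_subgroupOf]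
      exact hdT
    rw [QuotientGroup.mk_mul, QuotientGroup.mk_mul, hn₁, hn₂, ← map_mul, ← map_mul] at hmk
    have := eN.symm.injective hmk
    revert this
    decide
  have hT'card : Nat.card ((P : Subgroup G).subgroupOf (Subgroup.normalizer (((P : Subgroup G) : Set G)))) = 9 := by
    rw [← hcard]
    exact Nat.card_congr (Subgroup.subgroupOfEquivOfLe Subgroup.le_normalizer).toEquiv
  have hNcard : Nat.card (Subgroup.normalizer (((P : Subgroup G) : Set G))) = 72 := by
    have h1 := Subgroup.card_eq_card_quotient_mul_card_subgroup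
      ((P : Subgroup G).subgroupOf (Subgroup.normalizer (((P : Subgroup G) : Set G))))
    rw [hT'card, Nat.card_congr eN.toEquiv, DihedralGroup.nat_card] at h1
    omega
  have hS : ∀ Q : Sylow 2 (Subgroup.normalizer (((P : Subgroup G) : Set G))),
      Nonempty (↥(Q : Subgroup (Subgroup.normalizer (((P : Subgroup G) : Set G)))) ≃* DihedralGroup 4) := by
    intro Q
    haveI : Fact (Nat.Prime 2) := ⟨Nat.prime_two⟩
    have hQcard : Nat.card Q = 8 := by
      obtain ⟨k, hk⟩ := (IsPGroup.iff_card.1 Q.isPGroup')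
      have h1 := Subgroup.card_mul_index (Q : Subgroup (Subgroup.normalizer (((P : Subgroup G) : Set G))))
      have hodd := Q.not_dvd_index
      rw [hNcard] at h1
      have hk' : Nat.card (Q : Subgroup (Subgroup.normalizer (((P : Subgroup G) : Set G)))) = 2 ^ k := hk
      rw [hk'] at h1
      obtain ⟨idx, hidx⟩ : ∃ idx, idx = (Q : Subgroup (Subgroup.normalizer (((P : Subgroup G) : Set G)))).index := ⟨_, rfl⟩
      rw [← hidx] at h1 hodd
      have hk3 : k = 3 := by
        by_contra hne
        have hk4 : k = 0 ∨ k = 1 ∨ k = 2 ∨ 4 ≤ k := by omega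
        rcases hk4 with rfl | rfl | rfl | h4
        · omega
        · omega
        · omega
        · obtain ⟨c, rfl⟩ := Nat.exists_eq_add_of_le h4
          rw [pow_add] at h1
          apply hodd
          have h16 : (2 : ℕ) ^ 4 = 16 := by norm_num
          rw [h16] at h1
          have h5 : 16 ∣ 72 := by
            rw [← h1]
            exact Dvd.dvd.mul_right (Dvd.intro _ rfl) _
          omega
      show Nat.card (Q : Subgroup (Subgroup.normalizer (((P : Subgroup G) : Set G)))) = 8
      rw [hk', hk3]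
      norm_num
    let f : Q →* DihedralGroup 4 := (eN.toMonoidHom).comp
      ((QuotientGroup.mk' _).comp (Q : Subgroup (Subgroup.normalizer (((P : Subgroup G) : Set G)))).subtype)
    have hf : Function.Injective f := by
      rw [injective_iff_map_eq_one]
      intro q hq
      have h1 : (QuotientGroup.mk' ((P : Subgroup G).subgroupOf (Subgroup.normalizer (((P : Subgroup G) : Set G))))) (q : Subgroup.normalizer (((P : Subgroup G) : Set G))) = 1 :=
        eN.injective (by rw [map_one]; exact hq)
      have h2 : (q : Subgroup.normalizer (((P : Subgroup G) : Set G))) ∈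
          (P : Subgroup G).subgroupOf (Subgroup.normalizer (((P : Subgroup G) : Set G))) :=
        (QuotientGroup.eq_one_iff _).1 h1
      have h3' : orderOf q ∣ 8 := by
        rw [← hQcard]
        exact orderOf_dvd_natCard q
      have h4 : orderOf q ∣ 9 := by
        rw [← hT'card]
        have := orderOf_dvd_natCard (⟨q, h2⟩ : (P : Subgroup G).subgroupOf (Subgroup.normalizer (((P : Subgroup G) : Set G))))
        rwa [Subgroup.orderOf_mk, Subgroup.orderOf_coe] at this
      have h5 : orderOf q ∣ Nat.gcd 8 9 := Nat.dvd_gcd h3' h4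
      rw [show Nat.gcd 8 9 = 1 by norm_num, Nat.dvd_one, orderOf_eq_one_iff] at h5
      exact h5
    have hb : Function.Bijective f := by
      refine hf.bijective_of_nat_card_le ?_
      rw [hQcard, DihedralGroup.nat_card]
    exact ⟨MulEquiv.ofBijective f hb⟩
  obtain ⟨φ, hφ⟩ := Cfsg.Agent.Lib.Blocks.TID8.exists_model (P : Subgroup G) h3 hcomm hcard hC P.not_dvd_index hS
  have hSit : Cfsg.Agent.Lib.Blocks.TID8.Sit (P : Subgroup G) φ := ⟨hφ, h3, hcomm, hC, hcent, P.not_dvd_index, hcard⟩
  exact hSit.main P rfl hn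

end Cfsg.Agent.S3333
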