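import Cfsg.Statements.S3347
import Mathlib
import Cfsg.Agent.Lib.Transfer.AbTwoQuot
import Cfsg.Agent.Lib.Transfer.Basic

set_option autoImplicit false
open Cfsg

namespace Cfsg.Agent.S3347

open Cfsg.Agent.Lib.Transfer.AbTwo Cfsg.Agent.Lib.Blocks.AbFrob

/-- Let G be a finite group, p an odd prime, and P an abelian, non-cyclic Sylow p-subgroup of G with [N_G(P) : C_G(P)] = 2. Then either O^p(G) is a proper subgroup of G, or G has p-length 1 (G = O_{p',p,p'}(G)). -/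
theorem result {G : Type*} [Group G] [Finite G]
    (p : ℕ) [Fact p.Prime] (hp : p ≠ 2) (P : Sylow p G) (hab : IsMulCommutative (P : Subgroup G)) (hnc : ¬ IsCyclic (P : Subgroup G))
    (hidx : ((Subgroup.centralizer ((P : Subgroup G) : Set G)).subgroupOf (Subgroup.normalizer ((P : Subgroup G) : Set G))).index = 2) :
    Cfsg.pResidual p G ≠ ⊤ ∨ Cfsg.PLengthLE p 1 G := by
  classical
  obtain ⟨a, ha⟩ := Subgroup.index_eq_two_iff.1 hidx
  have hnC : ∀ n : ↥(NN P), (n : G) ∉ CC P → (n : G) * (a : G) ∈ CC P := by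
    intro n hn
    rcases ha n with h | h
    · exact h.1
    · exact absurd h.1 hn
  have htC : (a : G) ∉ CC P := by
    intro hc
    rcases ha 1 with h | h
    · exact h.2 (Subgroup.one_mem _)
    · apply h.2
      rw [one_mul]
      exact Subgroup.mem_subgroupOf.2 hc
  set t : G := (a : G) with ht
  have htN : t ∈ NN P := a.2
  have hsq : t * t ∈ CC P := hnC a htC
  have hinv : ∀ x ∈ (P : Subgroup G), t * (t * x * t⁻¹) * t⁻¹ = x := by
    intro x hx
    have h1 := (mem_CC_iff.1 hsq) x hx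
    calc t * (t * x * t⁻¹) * t⁻¹ = t * t * x * (t * t)⁻¹ := by group
      _ = x := h1
  have hcomm : ∀ x ∈ (P : Subgroup G), ∀ y ∈ (P : Subgroup G), x * y = y * x := fun x hx y hy =>
    congrArg Subtype.val (hab.is_comm.comm ⟨x, hx⟩ ⟨y, hy⟩)
  by_cases hfix : ∃ x₀ ∈ (P : Subgroup G), x₀ ≠ 1 ∧ t * x₀ * t⁻¹ = x₀
  · left
    intro hres
    obtain ⟨x₀, hx₀, hx₀1, hfx⟩ := hfix
    letI hc : CommGroup ↥(P : Subgroup G) :=
      { (inferInstance : Group ↥(P : Subgroup G)) with mul_comm := hab.is_comm.comm }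
    let V : G →* ↥(P : Subgroup G) := MonoidHom.transfer (MonoidHom.id ↥(P : Subgroup G))
    have hker : Cfsg.pResidual p G ≤ V.ker := Cfsg.Agent.Lib.Transfer.Basic.pResidual_le_ker P.isPGroup' V
    have hV1 : V x₀ = 1 := hker (hres ▸ Subgroup.mem_top _)
    have key : ∀ (k : ℕ) (g₀ : G), g₀⁻¹ * x₀ ^ k * g₀ ∈ (P : Subgroup G) → g₀⁻¹ * x₀ ^ k * g₀ = x₀ ^ k := by
      intro k g₀ hg
      have hy : x₀ ^ k ∈ (P : Subgroup G) := pow_mem hx₀ k
      have hty : t * x₀ ^ k * t⁻¹ = x₀ ^ k := by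
        rw [← conj_pow, hfx]
      obtain ⟨n, hn, e⟩ := P.conj_eq_normalizer_conj_of_mem (x₀ ^ k) g₀ hy hg
      rw [e]
      have hn' : n⁻¹ ∈ NN P := inv_mem hn
      by_cases hnc' : n⁻¹ ∈ CC P
      · have h1 := (mem_CC_iff.1 hnc') _ hy
        simpa using h1
      · have h1 := hnC ⟨n⁻¹, hn'⟩ hnc'
        have h2 := (mem_CC_iff.1 h1) _ hy
        have h3 : n⁻¹ * t * x₀ ^ k * (n⁻¹ * t)⁻¹ = n⁻¹ * (t * x₀ ^ k * t⁻¹) * n := by group
        rw [h3, hty] at h2
        exact h2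
    have h4 : V x₀ = _ := MonoidHom.transfer_eq_pow (MonoidHom.id ↥(P : Subgroup G)) x₀ key
    rw [hV1] at h4
    have h5 : x₀ ^ (P : Subgroup G).index = 1 := (congrArg Subtype.val h4).symm
    obtain ⟨k, hk⟩ := (IsPGroup.iff_orderOf.1 P.isPGroup') (⟨x₀, hx₀⟩ : ↥(P : Subgroup G))
    rw [Subgroup.orderOf_mk] at hk
    have h6 : orderOf x₀ ∣ (P : Subgroup G).index := orderOf_dvd_of_pow_eq_one h5
    rw [hk] at h6
    have hk0 : k ≠ 0 := by
      rintro rfl
      rw [pow_zero] at hk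
      exact hx₀1 (orderOf_eq_one_iff.1 hk)
    exact P.not_dvd_index ((dvd_pow_self p hk0).trans h6)
  · right
    push Not at hfix
    have htx : ∀ x ∈ (P : Subgroup G), t * x * t⁻¹ = x⁻¹ := by
      intro x hx
      have hx' : t * x * t⁻¹ ∈ (P : Subgroup G) := (mem_NN_iff.1 htN x).1 hx
      have h1 : x * (t * x * t⁻¹) = 1 := by
        by_contra hne
        apply hfix _ (mul_mem hx hx') hne
        calc t * (x * (t * x * t⁻¹)) * t⁻¹ = (t * x * t⁻¹) * (t * (t * x * t⁻¹) * t⁻¹) := by group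
          _ = (t * x * t⁻¹) * x := by rw [hinv x hx]
          _ = x * (t * x * t⁻¹) := hcomm _ hx' _ hx
      exact eq_inv_of_mul_eq_one_right h1
    have hN : ∀ n ∈ NN P, (∀ x ∈ (P : Subgroup G), n * x * n⁻¹ = x) ∨ (∀ x ∈ (P : Subgroup G), n * x * n⁻¹ = x⁻¹) := by
      intro n hn
      by_cases hnc' : n ∈ CC P
      · exact Or.inl (mem_CC_iff.1 hnc')
      · right
        intro x hx
        have h1 := hnC ⟨n, hn⟩ hnc'
        have h2 := (mem_CC_iff.1 h1) x⁻¹ (inv_mem hx)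
        have h3 : n * t * x⁻¹ * (n * t)⁻¹ = n * (t * x⁻¹ * t⁻¹) * n⁻¹ := by group
        have h4 := htx x⁻¹ (inv_mem hx)
        rw [inv_inv] at h4
        rw [h3, h4] at h2
        exact h2
    have A : Act P t := ⟨hp, hab, hnc, htx, hN⟩
    exact A.pLength

end Cfsg.Agent.S3347
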