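import Cfsg.Statements.S3374
import Mathlib
import Cfsg.Agent.Lib.Frobenius.MatrixRep

set_option autoImplicit false
open Cfsg

namespace Cfsg.Agent.S3374

/-- The images in `SL(2,11)`, indexed by the base-5 code of a matrix over `ZMod 5`. -/
def tbl : List (ZMod 11 × ZMod 11 × ZMod 11 × ZMod 11) :=
  [(1, 0, 0, 1), (1, 0, 0, 1), (1, 0, 0, 1), (1, 0, 0, 1), (1, 0, 0, 1), (1, 0, 0, 1), (1, 0, 0, 1), (1, 0, 0, 1), (1, 0, 0, 1), (1, 0, 0, 1), (1, 0, 0, 1), (1, 0, 0, 1), (1, 0, 0, 1), (1, 0, 0, 1), (1, 0, 0, 1), (1, 0, 0, 1), (1, 0, 0, 1), (1, 0, 0, 1), (1, 0, 0, 1), (1, 0, 0, 1), (1, 0, 0, 1), (1, 0, 0, 1), (1, 0, 0, 1), (1, 0, 0, 1), (1, 0, 0, 1), (1, 0, 0, 1), (1, 0, 0, 1), (1, 0, 0, 1), (1, 0, 0, 1), (1, 0, 0, 1), (1, 0, 0, 1), (1,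 0, 0, 1), (1, 0, 0, 1), (1, 0, 0, 1), (1, 0, 0, 1), (1, 0, 0, 1), (1, 0, 0, 1), (1, 0, 0, 1), (1, 0, 0, 1), (1, 0, 0, 1), (1, 0, 0, 1), (1, 0, 0, 1), (1, 0, 0, 1), (1, 0, 0, 1), (1, 0, 0, 1), (0, 10, 1, 0), (4, 10, 2, 8), (1, 9, 5, 2), (10, 6, 2, 9), (7, 9, 1, 3), (1, 0, 0, 1), (1, 0, 0, 1), (1, 0, 0, 1), (1, 0, 0, 1), (1, 0, 0, 1), (1, 0, 0, 1), (1, 0, 0, 1), (1, 0, 0, 1), (1, 0, 0, 1), (1, 0, 0, 1), (8, 10, 10, 3), (8, 3, 3, 4), (4, 0, 0, 3), (9, 8, 8, 6), (4, 1, 1, 6), (1, 0, 0, 1), (1, 0, 0, 1), (1, 0, 0, 1), (1, 0, 0, 1), (1, 0, 0, 1), (1, 0, 0, 1), (1, 0, 0, 1), (1, 0, 0, 1), (1, 0, 0, 1), (1, 0, 0, 1), (1, 0, 0, 1), (1, 0, 0, 1), (1, 0, 0, 1), (1, 0, 0, 1), (1, 0, 0, 1), (1, 0, 0, 1), (1, 0, 0, 1), (1, 0, 0, 1), (1, 0, 0, 1),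 (1, 0, 0, 1), (1, 0, 0, 1), (1, 0, 0, 1), (1, 0, 0, 1), (1, 0, 0, 1), (1, 0, 0, 1), (3, 1, 1, 8), (7, 10, 10, 5), (2, 3, 3, 5), (7, 0, 0, 8), (3, 8, 8, 7), (1, 0, 0, 1), (1, 0, 0, 1), (1, 0, 0, 1), (1, 0, 0, 1), (1, 0, 0, 1), (1, 0, 0, 1), (1, 0, 0, 1), (1, 0, 0, 1), (1, 0, 0, 1), (1, 0, 0, 1), (0, 1, 10, 0), (4, 2, 10, 8), (1, 5, 9, 2), (10, 2, 6, 9), (7, 1, 9, 3), (1, 0, 0, 1), (1, 0, 0, 1), (1, 0, 0, 1), (1, 0, 0, 1), (1, 0, 0, 1), (1, 0, 0, 1), (1, 0, 0, 1), (1, 0, 0, 1), (1, 0, 0, 1), (1, 0, 0, 1), (1, 0, 0, 1), (1, 0, 0, 1), (1, 0, 0, 1), (1, 0, 0, 1), (1, 0, 0, 1), (1, 0, 0, 1), (1, 0, 0, 1), (1, 0, 0, 1), (1, 0, 0, 1), (1, 0, 0, 1), (1, 0, 0, 1), (1, 4, 3, 2), (1, 0, 0, 1), (1, 0, 0, 1), (1, 0, 0, 1), (1, 0, 0, 1), (2, 1,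 9, 5), (1, 0, 0, 1), (1, 0, 0, 1), (1, 0, 0, 1), (1, 0, 0, 1), (5, 10, 2, 2), (1, 0, 0, 1), (1, 0, 0, 1), (1, 0, 0, 1), (1, 0, 0, 1), (2, 7, 8, 1), (1, 0, 0, 1), (1, 0, 0, 1), (1, 0, 0, 1), (1, 0, 0, 1), (1, 3, 4, 2), (1, 0, 0, 1), (1, 0, 0, 1), (1, 0, 0, 1), (1, 0, 0, 1), (1, 0, 0, 1), (6, 0, 0, 2), (1, 0, 0, 1), (1, 0, 0, 1), (1, 0, 0, 1), (1, 0, 0, 1), (1, 0, 0, 1), (6, 8, 7, 4), (1, 0, 0, 1), (1, 0, 0, 1), (1, 0, 0, 1), (1, 0, 0, 1), (1, 0, 0, 1), (1, 2, 10, 10), (8, 9, 1, 4), (1, 0, 0, 1), (1, 0, 0, 1), (1, 0, 0, 1), (1, 0, 0, 1), (1, 0, 0, 1), (2, 9, 1, 5), (1, 0, 0, 1), (1, 0, 0, 1), (1, 0, 0, 1), (1, 0, 0, 1), (1, 0, 0, 1), (1, 0, 0, 1), (6, 7, 8, 4), (1, 0, 0, 1), (5, 1, 1, 7), (1, 0, 0, 1), (1, 0, 0, 1), (1, 0, 0, 1), (1,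 0, 0, 1), (1, 0, 0, 1), (1, 0, 0, 1), (9, 7, 6, 6), (1, 0, 0, 1), (1, 0, 0, 1), (1, 0, 0, 1), (1, 0, 0, 1), (1, 0, 0, 1), (1, 0, 0, 1), (0, 9, 6, 0), (1, 0, 0, 1), (5, 2, 10, 2), (1, 0, 0, 1), (1, 0, 0, 1), (1, 0, 0, 1), (1, 0, 0, 1), (1, 0, 0, 1), (1, 0, 0, 1), (1, 0, 0, 1), (1, 10, 2, 10), (1, 0, 0, 1), (1, 0, 0, 1), (9, 6, 7, 6), (1, 0, 0, 1), (1, 0, 0, 1), (4, 8, 8, 8), (1, 0, 0, 1), (1, 0, 0, 1), (1, 0, 0, 1), (1, 0, 0, 1), (1, 0, 0, 1), (1, 0, 0, 1), (1, 0, 0, 1), (3, 7, 6, 7), (1, 0, 0, 1), (1, 0, 0, 1), (2, 8, 7, 1), (1, 0, 0, 1), (1, 0, 0, 1), (1, 0, 0, 1), (8, 1, 9, 4), (1, 0, 0, 1), (1, 0, 0, 1), (1, 0, 0, 1), (1, 0, 0, 1), (1, 0, 0, 1), (1, 0, 0, 1), (1, 0, 0, 1), (1, 0, 0, 1), (0, 6, 9, 0), (1, 0, 0, 1), (1, 0, 0, 1),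 (1, 0, 0, 1), (3, 6, 7, 7), (1, 0, 0, 1), (1, 0, 0, 1), (1, 0, 0, 1), (9, 1, 1, 10), (1, 0, 0, 1), (1, 0, 0, 1), (1, 0, 0, 1), (1, 0, 0, 1), (1, 0, 0, 1), (1, 8, 8, 10), (1, 0, 0, 1), (1, 0, 0, 1), (1, 0, 0, 1), (1, 0, 0, 1), (8, 8, 7, 3), (1, 0, 0, 1), (1, 0, 0, 1), (1, 0, 0, 1), (1, 0, 0, 1), (0, 4, 8, 0), (1, 0, 0, 1), (1, 0, 0, 1), (1, 0, 0, 1), (1, 0, 0, 1), (3, 9, 5, 8), (1, 0, 0, 1), (1, 0, 0, 1), (1, 0, 0, 1), (1, 0, 0, 1), (10, 4, 5, 1), (1, 0, 0, 1), (1, 0, 0, 1), (1, 0, 0, 1), (1, 0, 0, 1), (8, 7, 8, 3), (1, 0, 0, 1), (1, 0, 0, 1), (10, 10, 10, 9), (1, 0, 0, 1), (1, 0, 0, 1), (1, 0, 0, 1), (1, 0, 0, 1), (1, 0, 0, 1), (1, 0, 0, 1), (1, 0, 0, 1), (7, 8, 7, 5), (1, 0, 0, 1), (1, 0, 0, 1), (6, 2, 6, 4), (1, 0, 0, 1), (1, 0,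 0, 1), (2, 6, 2, 1), (1, 0, 0, 1), (1, 0, 0, 1), (1, 0, 0, 1), (1, 0, 0, 1), (1, 0, 0, 1), (1, 0, 0, 1), (1, 0, 0, 1), (0, 8, 4, 0), (1, 0, 0, 1), (1, 0, 0, 1), (1, 0, 0, 1), (1, 0, 0, 1), (1, 0, 0, 1), (7, 7, 8, 5), (5, 8, 8, 2), (1, 0, 0, 1), (1, 0, 0, 1), (1, 0, 0, 1), (1, 0, 0, 1), (1, 0, 0, 1), (6, 5, 4, 9), (1, 0, 0, 1), (1, 0, 0, 1), (1, 0, 0, 1), (1, 0, 0, 1), (1, 0, 0, 1), (4, 5, 9, 6), (1, 0, 0, 1), (1, 0, 0, 1), (1, 0, 0, 1), (1, 0, 0, 1), (1, 0, 0, 1), (3, 5, 9, 8), (1, 0, 0, 1), (1, 0, 0, 1), (1, 0, 0, 1), (6, 6, 2, 4), (1, 0, 0, 1), (1, 0, 0, 1), (1, 0, 0, 1), (6, 4, 5, 9), (1, 0, 0, 1), (1, 0, 0, 1), (1, 0, 0, 1), (3, 0, 0, 4), (1, 0, 0, 1), (1, 0, 0, 1), (1, 0, 0, 1), (1, 0, 0, 1), (1, 0, 0, 1), (1, 0, 0, 1), (1, 0,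 0, 1), (1, 0, 0, 1), (4, 7, 6, 8), (1, 0, 0, 1), (1, 0, 0, 1), (1, 0, 0, 1), (10, 5, 4, 1), (1, 0, 0, 1), (2, 2, 6, 1), (1, 0, 0, 1), (1, 0, 0, 1), (1, 0, 0, 1), (1, 0, 0, 1), (1, 0, 0, 1), (1, 0, 0, 1), (4, 9, 5, 6), (1, 0, 0, 1), (1, 0, 0, 1), (1, 0, 0, 1), (1, 0, 0, 1), (1, 0, 0, 1), (1, 0, 0, 1), (4, 6, 7, 8), (1, 0, 0, 1), (2, 0, 0, 6), (1, 0, 0, 1), (1, 0, 0, 1), (1, 0, 0, 1), (1, 0, 0, 1), (1, 0, 0, 1), (10, 3, 3, 1), (1, 0, 0, 1), (1, 0, 0, 1), (1, 0, 0, 1), (1, 0, 0, 1), (1, 7, 6, 10), (1, 0, 0, 1), (1, 0, 0, 1), (1, 0, 0, 1), (1, 0, 0, 1), (8, 2, 6, 3), (1, 0, 0, 1), (1, 0, 0, 1), (1, 0, 0, 1), (1, 0, 0, 1), (0, 7, 3, 0), (1, 0, 0, 1), (1, 0, 0, 1), (1, 0, 0, 1), (1, 0, 0, 1), (3, 3, 4, 8), (1, 0, 0, 1), (1, 0, 0, 1), (1,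 0, 0, 1), (1, 0, 0, 1), (1, 6, 7, 10), (1, 0, 0, 1), (1, 0, 0, 1), (1, 0, 0, 1), (1, 0, 0, 1), (1, 0, 0, 1), (1, 0, 0, 1), (9, 0, 0, 5), (1, 0, 0, 1), (7, 5, 4, 3), (1, 0, 0, 1), (1, 0, 0, 1), (1, 0, 0, 1), (1, 0, 0, 1), (1, 0, 0, 1), (1, 0, 0, 1), (7, 2, 6, 5), (1, 0, 0, 1), (9, 9, 5, 10), (1, 0, 0, 1), (1, 0, 0, 1), (1, 0, 0, 1), (1, 0, 0, 1), (1, 0, 0, 1), (1, 0, 0, 1), (8, 6, 2, 3), (1, 0, 0, 1), (1, 0, 0, 1), (1, 0, 0, 1), (7, 4, 5, 3), (1, 0, 0, 1), (1, 0, 0, 1), (1, 0, 0, 1), (8, 0, 0, 7), (1, 0, 0, 1), (1, 0, 0, 1), (1, 0, 0, 1), (1, 0, 0, 1), (1, 0, 0, 1), (1, 0, 0, 1), (1, 0, 0, 1), (1, 0, 0, 1), (5, 7, 6, 2), (1, 0, 0, 1), (1, 0, 0, 1), (1, 0, 0, 1), (5, 5, 9, 7), (1, 0, 0, 1), (1, 0, 0, 1), (1, 0, 0, 1), (0, 3, 7, 0),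 (1, 0, 0, 1), (1, 0, 0, 1), (1, 0, 0, 1), (1, 0, 0, 1), (1, 0, 0, 1), (7, 6, 2, 5), (1, 0, 0, 1), (1, 0, 0, 1), (1, 0, 0, 1), (1, 0, 0, 1), (1, 0, 0, 1), (5, 6, 7, 2), (6, 3, 3, 9), (1, 0, 0, 1), (1, 0, 0, 1), (1, 0, 0, 1), (1, 0, 0, 1), (1, 0, 0, 1), (4, 4, 3, 6), (1, 0, 0, 1), (1, 0, 0, 1), (1, 0, 0, 1), (1, 0, 0, 1), (1, 0, 0, 1), (3, 4, 3, 8), (1, 0, 0, 1), (1, 0, 0, 1), (9, 5, 9, 10), (1, 0, 0, 1), (1, 0, 0, 1), (1, 0, 0, 1), (1, 0, 0, 1), (1, 0, 0, 1), (1, 0, 0, 1), (1, 0, 0, 1), (5, 9, 5, 7), (1, 0, 0, 1), (1, 0, 0, 1), (4, 3, 4, 6), (1, 0, 0, 1), (1, 0, 0, 1), (1, 0, 0, 1), (1, 0, 0, 1), (1, 0, 0, 1), (1, 0, 0, 1), (1, 0, 0, 1), (1, 1, 1, 2), (1, 0, 0, 1), (1, 0, 0, 1), (1, 0, 0, 1), (1, 0, 0, 1), (10, 0, 0, 10), (1, 0, 0,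 1), (1, 0, 0, 1), (1, 0, 0, 1), (1, 0, 0, 1), (9, 4, 3, 10), (1, 0, 0, 1), (1, 0, 0, 1), (1, 0, 0, 1), (1, 0, 0, 1), (6, 1, 9, 9), (1, 0, 0, 1), (1, 0, 0, 1), (1, 0, 0, 1), (1, 0, 0, 1), (9, 10, 2, 6), (1, 0, 0, 1), (1, 0, 0, 1), (1, 0, 0, 1), (1, 0, 0, 1), (10, 7, 8, 9), (1, 0, 0, 1), (1, 0, 0, 1), (1, 0, 0, 1), (1, 0, 0, 1), (9, 3, 4, 10), (1, 0, 0, 1), (1, 0, 0, 1), (1, 0, 0, 1), (2, 10, 10, 1), (1, 0, 0, 1), (1, 0, 0, 1), (1, 0, 0, 1), (8, 5, 4, 4), (1, 0, 0, 1), (1, 0, 0, 1), (1, 0, 0, 1), (0, 5, 2, 0), (1, 0, 0, 1), (1, 0, 0, 1), (1, 0, 0, 1), (3, 10, 2, 7), (1, 0, 0, 1), (1, 0, 0, 1), (1, 0, 0, 1), (1, 0, 0, 1), (1, 0, 0, 1), (1, 0, 0, 1), (1, 0, 0, 1), (1, 0, 0, 1), (6, 9, 1, 9), (1, 0, 0, 1), (1, 0, 0, 1), (8, 4, 5, 4), (1,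 0, 0, 1), (1, 0, 0, 1), (7, 3, 3, 3), (1, 0, 0, 1), (1, 0, 0, 1), (1, 0, 0, 1), (1, 0, 0, 1), (1, 0, 0, 1), (1, 0, 0, 1), (1, 0, 0, 1), (2, 5, 4, 5), (1, 0, 0, 1), (1, 0, 0, 1), (10, 1, 9, 1), (1, 0, 0, 1), (1, 0, 0, 1), (1, 0, 0, 1), (1, 0, 0, 1), (1, 0, 0, 1), (1, 0, 0, 1), (1, 0, 0, 1), (9, 2, 10, 6), (1, 0, 0, 1), (0, 2, 5, 0), (1, 0, 0, 1), (1, 0, 0, 1), (1, 0, 0, 1), (1, 0, 0, 1), (1, 0, 0, 1), (1, 0, 0, 1), (2, 4, 5, 5), (1, 0, 0, 1), (6, 10, 10, 4), (1, 0, 0, 1), (1, 0, 0, 1), (1, 0, 0, 1), (1, 0, 0, 1), (1, 0, 0, 1), (1, 0, 0, 1), (5, 4, 3, 7), (1, 0, 0, 1), (1, 0, 0, 1), (1, 0, 0, 1), (1, 0, 0, 1), (1, 0, 0, 1), (1, 0, 0, 1), (10, 8, 7, 9), (3, 2, 10, 7), (1, 0, 0, 1), (1, 0, 0, 1), (1, 0, 0, 1), (1, 0, 0, 1), (1, 0, 0,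 1), (10, 9, 1, 1), (1, 0, 0, 1), (1, 0, 0, 1), (1, 0, 0, 1), (1, 0, 0, 1), (1, 0, 0, 1), (5, 3, 4, 7), (1, 0, 0, 1), (1, 0, 0, 1), (1, 0, 0, 1), (1, 0, 0, 1), (1, 0, 0, 1), (5, 0, 0, 9), (1, 0, 0, 1)]

/-- The table as a function on matrices. -/
def phi (A : Matrix (Fin 2) (Fin 2) (ZMod 5)) : Matrix (Fin 2) (Fin 2) (ZMod 11) :=
  let e := tbl.getD ((A 0 0).val * 125 + (A 0 1).val * 25 + (A 1 0).val * 5 + (A 1 1).val) (1, 0, 0, 1)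
  !![e.1, e.2.1; e.2.2.1, e.2.2.2]

theorem phi_one : phi (1 : Matrix.SpecialLinearGroup (Fin 2) (ZMod 5)).1 = 1 := by
  decide +kernel

theorem phi_mul : ∀ x y : Matrix.SpecialLinearGroup (Fin 2) (ZMod 5),
    phi (x * y).1 = phi x.1 * phi y.1 := by
  decide +kernel

theorem phi_fpf : ∀ x : Matrix.SpecialLinearGroup (Fin 2) (ZMod 5), x ≠ 1 →
    (phi x.1 - 1).det ≠ 0 := by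
  decide +kernel

instance instNontrivial : Nontrivial (Matrix.SpecialLinearGroup (Fin 2) (ZMod 5)) :=
  ⟨⟨1, -1, by decide +kernel⟩⟩

/-- The homomorphism. -/
def phiHom : Matrix.SpecialLinearGroup (Fin 2) (ZMod 5) →* Matrix (Fin 2) (Fin 2) (ZMod 11) where
  toFun := fun x => phi x.1
  map_one' := phi_one
  map_mul' := phi_mul

/-- SL(2,5) occurs as a Frobenius complement: there is a finite group L with a subgroup H isomorphic to SL(2,5) which is a non-trivial proper subgroup meeting each conjugate gHg⁻¹ with g outside H trivially. -/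
theorem result :
    ∃ (L : Type) (_ : Group L) (_ : Finite L) (H : Subgroup L),
      Cfsg.IsFrobeniusComplement H ∧ Nonempty (H ≃* Matrix.SpecialLinearGroup (Fin 2) (ZMod 5)) :=
  haveI : Fact (Nat.Prime 11) := ⟨by norm_num⟩
  Cfsg.Agent.Lib.Frobenius.MatrixRep.exists_frobenius_of_matrix phiHom phi_fpf

end Cfsg.Agent.S3374
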