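import Cfsg.Statements.S3390
import Mathlib
import Cfsg.Agent.S3224
import Cfsg.Agent.Lib.PGroup.MaximalClass

set_option autoImplicit false
open Cfsg

namespace Cfsg.Agent.S3390

open Subgroup MulAction

/-- A permutation all of whose nontrivial cycles have the same even length `m`. -/
theorem sign_eq_of_free {X : Type*} [DecidableEq X] [Fintype X] (σ : Equiv.Perm X) {m c : ℕ}
    (hm : Even m) (h1 : σ ^ m = 1) (hf : ∀ x, σ x ≠ x → ∀ k : ℕ, (σ ^ k) x = x → m ∣ k)
    (hc : σ.support.card = m * c) (hm0 : 0 < m) : Equiv.Perm.sign σ = (-1) ^ c := by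
  have hall : ∀ n ∈ σ.cycleType, n = m := by
    intro n hn
    rw [Equiv.Perm.cycleType_def, Multiset.mem_map] at hn
    obtain ⟨τ, hτ, rfl⟩ := hn
    have hτ' : τ ∈ σ.cycleFactorsFinset := hτ
    have hcyc : τ.IsCycle := (Equiv.Perm.mem_cycleFactorsFinset_iff.mp hτ').1
    obtain ⟨x, hx⟩ : ∃ x, τ x ≠ x := by
      obtain ⟨x, hx, -⟩ := hcyc
      exact ⟨x, hx⟩
    have hxs : x ∈ τ.support := Equiv.Perm.mem_support.mpr hx
    have heq : τ = σ.cycleOf x := Equiv.Perm.cycle_is_cycleOf hxs hτ'
    have hσx : σ x ≠ x := by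
      intro h
      have h2 : x ∉ σ.support := by simpa using h
      have h3 := Equiv.Perm.mem_cycleFactorsFinset_support_le hτ' hxs
      exact h2 h3
    have hpow : ∀ k : ℕ, (τ ^ k) x = (σ ^ k) x := by
      intro k
      rw [heq]
      exact Equiv.Perm.cycleOf_pow_apply_self σ x k
    have hord : orderOf τ = τ.support.card := hcyc.orderOf
    have h2 : τ ^ m = 1 := by
      rw [hcyc.pow_eq_one_iff]
      exact ⟨x, hx, by rw [hpow, h1]; rfl⟩
    have h3 : orderOf τ ∣ m := orderOf_dvd_of_pow_eq_one h2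
    have h4 : m ∣ orderOf τ := by
      apply hf x hσx
      rw [← hpow, pow_orderOf_eq_one]
      rfl
    show Finset.card (Equiv.Perm.support τ) = m
    rw [← hord]
    exact Nat.dvd_antisymm h3 h4
  have hrep : σ.cycleType = Multiset.replicate (Multiset.card σ.cycleType) m :=
    Multiset.eq_replicate.mpr ⟨rfl, hall⟩
  have hsum : σ.cycleType.sum = m * Multiset.card σ.cycleType := by
    conv_lhs => rw [hrep]
    rw [Multiset.sum_replicate, smul_eq_mul, mul_comm]
  have hcard : Multiset.card σ.cycleType = c := by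
    have h2 := Equiv.Perm.sum_cycleType σ
    rw [hsum, hc] at h2
    exact Nat.eq_of_mul_eq_mul_left hm0 h2
  rw [Equiv.Perm.sign_of_cycleType, hsum, hcard, pow_add, hm.mul_right c |>.neg_one_pow, one_mul]

/-- A free action of a finite group: the order of the group divides the size of the set. -/
theorem card_dvd_of_free {P X : Type*} [Group P] [Finite P] [Finite X] [MulAction P X]
    (hfree : ∀ (g : P) (x : X), g • x = x → g = 1) : Nat.card P ∣ Nat.card X := by
  classical
  haveI := Fintype.ofFinite P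
  haveI := Fintype.ofFinite X
  have h := MulAction.sum_card_fixedBy_eq_card_orbits_mul_card_group P X
  have h2 : ∑ g : P, Fintype.card (fixedBy X g) = Fintype.card X := by
    rw [Finset.sum_eq_single (1 : P)]
    · exact Fintype.card_congr (Equiv.subtypeUnivEquiv (fun x => by simp))
    · intro g _ hg
      rw [Fintype.card_eq_zero_iff]
      refine ⟨fun x => hg (hfree g x.1 x.2)⟩
    · intro h3
      exact absurd (Finset.mem_univ _) h3
  rw [h2] at h
  rw [Nat.card_eq_fintype_card, Nat.card_eq_fintype_card, h]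
  exact dvd_mul_left _ _

section Setting

variable {G : Type*} [Group G] {Ω : Type*} [MulAction G Ω]

/-- An element with two fixed points has no other. -/
theorem eq_or_eq_of_fix [Finite Ω] (hfix : ∀ g : G, g ≠ 1 → Nat.card (fixedBy Ω g) ≤ 2) {g : G}
    (hg : g ≠ 1) {a b c : Ω} (hab : a ≠ b) (ha : g • a = a) (hb : g • b = b) (hc : g • c = c) :
    c = a ∨ c = b := by
  classical
  by_contra hcon
  push Not at hcon
  have h1 := hfix g hg
  have h2 : ({a, b, c} : Finset Ω).card = 3 := by
    rw [Finset.card_insert_of_notMem, Finset.card_insert_of_notMem, Finset.card_singleton]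
    · simpa using hcon.2.symm
    · simp only [Finset.mem_insert, Finset.mem_singleton]
      push Not
      exact ⟨hab, hcon.1.symm⟩
  have h3 : (({a, b, c} : Finset Ω) : Set Ω) ⊆ fixedBy Ω g := by
    intro x hx
    simp only [Finset.coe_insert, Finset.coe_singleton, Set.mem_insert_iff, Set.mem_singleton_iff] at hx
    rcases hx with rfl | rfl | rfl <;> assumption
  have h4 := Set.ncard_le_ncard h3 (Set.toFinite _)
  rw [Set.ncard_coe_finset, h2] at h4
  rw [Nat.card_coe_set_eq] at h1
  omega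

/-- The normalizer condition for the stabilizer in a `2`-group. -/
theorem exists_swap [Finite G] {S : Subgroup G} (hS : IsPGroup 2 S) {α : Ω}
    (h : ¬ S ≤ stabilizer G α) :
    ∃ s ∈ S, s • α ≠ α ∧ ∀ t ∈ S, (t • α = α ↔ t • (s • α) = s • α) := by
  haveI : Fact (Nat.Prime 2) := ⟨Nat.prime_two⟩
  haveI : Group.IsNilpotent S := hS.isNilpotent
  let T : Subgroup S := (stabilizer G α).subgroupOf S
  have hT : T ≠ ⊤ := by
    intro hT
    apply h
    intro x hx
    have : (⟨x, hx⟩ : S) ∈ T := by rw [hT]; trivial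
    exact this
  have hlt : T < normalizer (T : Set S) :=
    Group.normalizerCondition_of_isNilpotent (G := S) T (lt_top_iff_ne_top.mpr hT)
  obtain ⟨s, hs, hsT⟩ := SetLike.exists_of_lt hlt
  refine ⟨s, s.2, fun hc => hsT hc, ?_⟩
  intro t ht
  have h1 := (Subgroup.mem_normalizer_iff.mp (inv_mem hs)) ⟨t, ht⟩
  have e1 : (⟨t, ht⟩ : S) ∈ T ↔ t • α = α := Iff.rfl
  have e2 : (s⁻¹ * ⟨t, ht⟩ * s⁻¹⁻¹ : S) ∈ T ↔ t • ((s : G) • α) = (s : G) • α := by
    have : (s⁻¹ * ⟨t, ht⟩ * s⁻¹⁻¹ : S) ∈ T ↔ ((s : G)⁻¹ * t * (s : G)) • α = α := by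
      rw [inv_inv]
      exact Iff.rfl
    rw [this, mul_smul, mul_smul, inv_smul_eq_iff]
  rw [← e1, ← e2]
  exact h1

/-- Orbit-stabilizer count. -/
theorem card_eq_four_of_orbit {C X : Type*} [Group C] [Finite C] [MulAction C X] {γ δ : X} (hne : γ ≠ δ)
    (h1 : ∀ g : C, g • γ = γ ∨ g • γ = δ) (g₀ : C) (hg₀ : g₀ • γ = δ) (u : C) (hu1 : u ≠ 1)
    (huγ : u • γ = γ) (h2 : ∀ g : C, g • γ = γ → g = 1 ∨ g = u) : Nat.card C = 4 := by
  have horb : orbit C γ = {γ, δ} := by
    ext x
    constructor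
    · rintro ⟨g, rfl⟩
      exact h1 g
    · rintro (rfl | rfl)
      · exact mem_orbit_self _
      · exact ⟨g₀, hg₀⟩
  have hidx : (stabilizer C γ).index = 2 := by
    rw [index_stabilizer, horb, Set.ncard_pair hne]
  have hst : Nat.card (stabilizer C γ) = 2 := by
    rw [Nat.card_eq_two_iff]
    refine ⟨1, ⟨u, huγ⟩, ?_, ?_⟩
    · intro h
      exact hu1 (congrArg Subtype.val h).symm
    · ext ⟨g, hg⟩
      simp only [Set.mem_insert_iff, Set.mem_singleton_iff, Set.mem_univ, iff_true]
      rcases h2 g hg with rfl | rfl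
      · left; rfl
      · right; rfl
  have := card_mul_index (stabilizer C γ)
  rw [hidx, hst] at this
  omega

/-- The centralizer of the involution generating a stabilizer of order `2`. -/
theorem centralizer_card_four [Finite G] [Finite Ω]
    (hfix : ∀ g : G, g ≠ 1 → Nat.card (fixedBy Ω g) ≤ 2) {S : Subgroup G} (hS : IsPGroup 2 S)
    {γ : Ω} (u : S) (hu1 : u ≠ 1) (huγ : (u : G) • γ = γ)
    (hst : ∀ g : S, (g : G) • γ = γ → g = 1 ∨ g = u) (hnot : ¬ S ≤ stabilizer G γ) :
    Nat.card (centralizer ({u} : Set S)) = 4 := by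
  obtain ⟨s, hs, hsγ, hiff⟩ := exists_swap hS hnot
  have hu1' : (u : G) ≠ 1 := fun h => hu1 (Subtype.ext h)
  have huδ : (u : G) • (s • γ) = s • γ := (hiff u u.2).mp huγ
  have hcomm : (⟨s, hs⟩ : S) ∈ centralizer ({u} : Set S) := by
    rw [Subgroup.mem_centralizer_singleton_iff]
    have h1 : ((⟨s, hs⟩ : S) * u * (⟨s, hs⟩ : S)⁻¹ : S) = 1 ∨ ((⟨s, hs⟩ : S) * u * (⟨s, hs⟩ : S)⁻¹ : S) = u := by
      apply hst
      apply (hiff _ (SetLike.coe_mem _)).mpr
      show (s * (u : G) * s⁻¹) • s • γ = s • γ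
      rw [mul_smul, mul_smul, inv_smul_smul, huγ]
    rcases h1 with h1 | h1
    · exfalso
      apply hu1
      have : u = (⟨s, hs⟩ : S)⁻¹ * ((⟨s, hs⟩ : S) * u * (⟨s, hs⟩ : S)⁻¹) * (⟨s, hs⟩ : S) := by group
      rw [this, h1]
      group
    · exact mul_inv_eq_iff_eq_mul.mp h1
  have hu1C : (⟨u, Subgroup.mem_centralizer_singleton_iff.mpr rfl⟩ : centralizer ({u} : Set S)) ≠ 1 := by
    intro h
    exact hu1 (congrArg Subtype.val h)
  apply card_eq_four_of_orbit (γ := γ) (δ := s • γ) (Ne.symm hsγ) _ ⟨_, hcomm⟩ rfl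
    ⟨u, Subgroup.mem_centralizer_singleton_iff.mpr rfl⟩ hu1C huγ
  · rintro ⟨g, hg⟩ hgγ
    rcases hst g hgγ with rfl | rfl
    · left; rfl
    · right; rfl
  · rintro ⟨g, hg⟩
    show (g : G) • γ = γ ∨ (g : G) • γ = s • γ
    apply eq_or_eq_of_fix hfix hu1' (Ne.symm hsγ) huγ huδ
    have h3 : (g : G) * u = u * g := congrArg Subtype.val (Subgroup.mem_centralizer_singleton_iff.mp hg)
    rw [← mul_smul, ← h3, mul_smul, huγ]

/-- Elements of `2`-power order are conjugate into a Sylow `2`-subgroup. -/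
theorem exists_conj_mem_sylow [Finite G] (S : Sylow 2 G) {y : G} {a : ℕ} (hy : y ^ 2 ^ a = 1) :
    ∃ g : G, g * y * g⁻¹ ∈ (S : Subgroup G) := by
  haveI : Fact (Nat.Prime 2) := ⟨Nat.prime_two⟩
  have hP : IsPGroup 2 (zpowers y) := by
    rintro ⟨_, k, rfl⟩
    refine ⟨a, Subtype.ext ?_⟩
    show (y ^ k) ^ 2 ^ a = 1
    rw [← zpow_natCast, zpow_comm, zpow_natCast, hy, one_zpow]
  obtain ⟨Q, hQ⟩ := hP.exists_le_sylow
  obtain ⟨g, hg⟩ := MulAction.exists_smul_eq G Q S
  refine ⟨g, ?_⟩
  have h1 : y ∈ (Q : Subgroup G) := hQ (mem_zpowers y)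
  rw [← hg, Sylow.coe_subgroup_smul]
  exact ⟨y, h1, rfl⟩

/-- The congruence for an element of prime order on an invariant subset. -/
theorem ncard_modEq_of_prime_order [Finite G] [Finite Ω] {y : G} {r : ℕ} [hr : Fact r.Prime]
    (hy : orderOf y = r) (A : Set Ω) (hA : ∀ c ∈ A, y • c ∈ A) :
    A.ncard ≡ {c ∈ A | y • c = c}.ncard [MOD r] := by
  have hP : IsPGroup r (zpowers y) := IsPGroup.of_card (n := 1) (by rw [Nat.card_zpowers, hy, pow_one])
  have hA' : ∀ p ∈ zpowers y, ∀ c ∈ A, p • c ∈ A := by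
    intro p hp c hc
    rw [← mem_powers_iff_mem_zpowers] at hp
    obtain ⟨k, rfl⟩ := hp
    dsimp only
    induction k with
    | zero => simpa using hc
    | succ k ih =>
      rw [pow_succ', mul_smul]
      exact hA _ ih
  let B : SubMulAction (zpowers y) Ω :=
    { carrier := A
      smul_mem' := fun p c hc => hA' p p.2 c hc }
  have h1 := hP.card_modEq_card_fixedPoints B
  have h2 : Nat.card B = A.ncard := Nat.card_coe_set_eq A
  have h3 : Nat.card (fixedPoints (zpowers y) B) = {c ∈ A | y • c = c}.ncard := by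
    rw [← Nat.card_coe_set_eq]
    refine Nat.card_congr ⟨fun x => ⟨x.1.1, x.1.2, ?_⟩, fun x => ⟨⟨x.1, x.2.1⟩, ?_⟩, ?_, ?_⟩
    · have := x.2 ⟨y, mem_zpowers y⟩
      exact congrArg Subtype.val this
    · rintro ⟨p, hp⟩
      apply Subtype.ext
      have : zpowers y ≤ stabilizer G x.1 := by
        rw [Subgroup.zpowers_le]
        exact x.2.2
      exact this hp
    · intro x; rfl
    · intro x; rfl
  rw [← h2, ← h3]
  exact h1

/-- The construction of the Frobenius complement from the sign character. -/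
theorem third_of_chi [Finite G] [Finite Ω] (htr : IsPretransitive G Ω) [FaithfulSMul G Ω]
    (hfix : ∀ g : G, g ≠ 1 → Nat.card (fixedBy Ω g) ≤ 2) (S : Sylow 2 G) {α β : Ω} (hαβ : α ≠ β)
    (hT : ∀ t ∈ (S : Subgroup G), t • α = α ↔ t • β = β)
    (ht1 : ∃ t ∈ (S : Subgroup G), t ≠ 1 ∧ t • α = α)
    (hfree : ∀ γ, γ ≠ α → γ ≠ β → ∀ g ∈ (S : Subgroup G), g • γ = γ → g = 1)
    (horb : ∀ g ∈ (S : Subgroup G), g • α = α ∨ g • α = β)
    (χ : G →* ℤˣ) (hχT : ∀ t ∈ (S : Subgroup G), t • α = α → χ t = 1)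
    {s : G} (hs : s ∈ (S : Subgroup G)) (hsα : s • α = β) (hχs : χ s = -1) :
    ∃ N : Subgroup G, N.Normal ∧ N.index = 2 ∧ ∃ H : Subgroup N, Cfsg.IsFrobeniusComplement H := by
  have hχ1 : ∀ g, χ g = 1 ∨ χ g = -1 := fun g => Int.units_eq_one_or _
  have hneg : (-1 : ℤˣ) ≠ 1 := by decide
  -- point stabilizers lie in the kernel
  have hstab : ∀ w : G, w • α = α → χ w = 1 := by
    intro w hw
    rcases hχ1 w with h | h
    · exact h
    exfalso
    have ho : orderOf w ≠ 0 := (orderOf_pos w).ne'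
    obtain ⟨a, b, hb, hab⟩ := Nat.exists_eq_two_pow_mul_odd ho
    have h2 : (w ^ b) ^ 2 ^ a = 1 := by
      rw [← pow_mul, mul_comm, ← hab, pow_orderOf_eq_one]
    obtain ⟨g, hg⟩ := exists_conj_mem_sylow S h2
    set t := g * w ^ b * g⁻¹ with ht
    have hχt : χ t = -1 := by
      rw [ht, map_mul, map_mul, map_pow, h, hb.neg_one_pow, map_inv]
      simp
    have hfix' : t • (g • α) = g • α := by
      have h3 : w ^ b • α = α := by
        have : w ^ b ∈ stabilizer G α := pow_mem (mem_stabilizer_iff.mpr hw) b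
        exact this
      rw [ht, mul_smul, mul_smul, inv_smul_smul, h3]
    by_cases h1 : g • α = α
    · rw [h1] at hfix'
      rw [hχT t hg hfix'] at hχt
      exact hneg hχt.symm
    by_cases h3 : g • α = β
    · rw [h3] at hfix'
      rw [hχT t hg ((hT t hg).mpr hfix')] at hχt
      exact hneg hχt.symm
    have := hfree _ h1 h3 t hg hfix'
    rw [this, map_one] at hχt
    exact hneg hχt.symm
  -- `α, β` are in different orbits of the kernel
  have hnc : ∀ n : G, χ n = 1 → n • α ≠ β := by
    intro n hn h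
    have h1 : (n⁻¹ * s) • α = α := by
      rw [mul_smul, hsα, inv_smul_eq_iff, h]
    have h2 := hstab _ h1
    rw [map_mul, map_inv, hn, hχs] at h2
    simp at h2
  have hST : ∀ t ∈ (S : Subgroup G), χ t = 1 → t • α = α := by
    intro t ht hχ
    rcases horb t ht with h | h
    · exact h
    · exact absurd h (hnc t hχ)
  -- no element of the kernel has two fixed points in one orbit
  have key : ∀ x g : G, χ x = 1 → χ g = 1 → x ≠ 1 → x • α = α → x • (g • α) = g • α → g • α = α := by
    intro x g hχx hχg hx1 hxα hxg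
    by_contra hne
    have hne' : α ≠ g • α := Ne.symm hne
    obtain ⟨r, hr, hrd⟩ := Nat.exists_prime_and_dvd (fun h => hx1 (orderOf_eq_one_iff.mp h) : orderOf x ≠ 1)
    haveI : Fact r.Prime := ⟨hr⟩
    set y := x ^ (orderOf x / r) with hy
    have hyo : orderOf y = r := orderOf_pow_orderOf_div (orderOf_pos x).ne' hrd
    have hy1 : y ≠ 1 := by
      intro h
      rw [h, orderOf_one] at hyo
      exact hr.one_lt.ne hyo
    have hχy : χ y = 1 := by rw [hy, map_pow, hχx, one_pow]
    have hyα : y • α = α := by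
      have : y ∈ stabilizer G α := pow_mem (mem_stabilizer_iff.mpr hxα) _
      exact this
    have hyg : y • (g • α) = g • α := by
      have : y ∈ stabilizer G (g • α) := pow_mem (mem_stabilizer_iff.mpr hxg) _
      exact this
    have hyF : ∀ c, y • c = c → c = α ∨ c = g • α := fun c hc =>
      eq_or_eq_of_fix hfix hy1 hne' hyα hyg hc
    -- the two orbits
    let Ω₁ : Set Ω := {c | ∃ n : G, χ n = 1 ∧ n • α = c}
    let Ω₂ : Set Ω := {c | ∃ n : G, χ n = 1 ∧ n • β = c}
    have hΩ₁ : ∀ c ∈ Ω₁, y • c ∈ Ω₁ := by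
      rintro _ ⟨n, hn, rfl⟩
      exact ⟨y * n, by rw [map_mul, hχy, hn, one_mul], mul_smul _ _ _⟩
    have hΩ₂ : ∀ c ∈ Ω₂, y • c ∈ Ω₂ := by
      rintro _ ⟨n, hn, rfl⟩
      exact ⟨y * n, by rw [map_mul, hχy, hn, one_mul], mul_smul _ _ _⟩
    have hcard : Ω₂.ncard = Ω₁.ncard := by
      have : Ω₂ = (fun c => s • c) '' Ω₁ := by
        ext c
        constructor
        · rintro ⟨n, hn, rfl⟩
          refine ⟨(s⁻¹ * n * s) • α, ⟨s⁻¹ * n * s, ?_, rfl⟩, ?_⟩
          · rw [map_mul, map_mul, hn, map_inv, mul_one, inv_mul_cancel]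
          · dsimp only
            rw [← mul_smul, ← hsα, ← mul_smul]
            congr 1
            group
        · rintro ⟨_, ⟨n, hn, rfl⟩, rfl⟩
          refine ⟨s * n * s⁻¹, ?_, ?_⟩
          · rw [map_mul, map_mul, hn, map_inv, mul_one, mul_inv_cancel]
          · dsimp only
            rw [← hsα, ← mul_smul, ← mul_smul]
            congr 1
            group
      rw [this]
      exact Set.ncard_image_of_injective _ (MulAction.injective s)
    have h1 := ncard_modEq_of_prime_order hyo Ω₁ hΩ₁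
    have h2 := ncard_modEq_of_prime_order hyo Ω₂ hΩ₂
    have hF1 : {c ∈ Ω₁ | y • c = c} = {α, g • α} := by
      ext c
      constructor
      · rintro ⟨-, hc⟩
        exact hyF c hc
      · rintro (rfl | rfl)
        · exact ⟨⟨1, map_one _, one_smul _ _⟩, hyα⟩
        · exact ⟨⟨g, hχg, rfl⟩, hyg⟩
    have hF2 : {c ∈ Ω₂ | y • c = c} = ∅ := by
      ext c
      simp only [Set.mem_ofPred_eq, Set.mem_empty_iff_false, iff_false, not_and]
      rintro ⟨n, hn, rfl⟩ hc
      rcases hyF _ hc with h | h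
      · -- `n • β = α`
        apply hnc n⁻¹ (by rw [map_inv, hn, inv_one])
        rw [inv_smul_eq_iff, h]
      · -- `n • β = g • α`
        apply hnc (n⁻¹ * g) (by rw [map_mul, map_inv, hn, hχg, inv_one, one_mul])
        rw [mul_smul, inv_smul_eq_iff, h]
    rw [hF1, Set.ncard_pair hne'] at h1
    rw [hF2, Set.ncard_empty, hcard] at h2
    have h3 : 2 ≡ 0 [MOD r] := h1.symm.trans h2
    have hr2 : r = 2 := by
      have : r ∣ 2 := (Nat.modEq_zero_iff_dvd).mp h3
      exact (Nat.prime_dvd_prime_iff_eq hr Nat.prime_two).mp this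
    -- `y` is an involution
    have hy2 : y ^ 2 ^ 1 = 1 := by
      rw [pow_one, ← hr2, ← hyo]
      exact pow_orderOf_eq_one y
    obtain ⟨g₂, hg₂⟩ := exists_conj_mem_sylow S hy2
    set t := g₂ * y * g₂⁻¹ with ht
    have hχt : χ t = 1 := by
      rw [ht, map_mul, map_mul, hχy, mul_one, map_inv, mul_inv_cancel]
    have htα := hST t hg₂ hχt
    have htβ := (hT t hg₂).mp htα
    have h4 : y • (g₂⁻¹ • α) = g₂⁻¹ • α := by
      rw [ht, mul_smul, mul_smul, smul_eq_iff_eq_inv_smul] at htα
      exact htα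
    have h5 : y • (g₂⁻¹ • β) = g₂⁻¹ • β := by
      rw [ht, mul_smul, mul_smul, smul_eq_iff_eq_inv_smul] at htβ
      exact htβ
    have hχg₂ : ∀ k : G, χ k = 1 → χ (g₂ * k * g₂⁻¹) = 1 := by
      intro k hk
      rw [map_mul, map_mul, hk, mul_one, map_inv, mul_inv_cancel]
    rcases hyF _ h4 with h6 | h6 <;> rcases hyF _ h5 with h7 | h7
    · apply hαβ
      have := h6.trans h7.symm
      exact MulAction.injective _ this
    · -- `g₂⁻¹ α = α`, `g₂⁻¹ β = g α`
      apply hnc (g₂ * g * g₂⁻¹) (hχg₂ g hχg)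
      rw [mul_smul, mul_smul, h6, ← h7, smul_inv_smul]
    · -- `g₂⁻¹ α = g α`, `g₂⁻¹ β = α`
      apply hnc (g₂ * g⁻¹ * g₂⁻¹) (hχg₂ _ (by rw [map_inv, hχg, inv_one]))
      rw [mul_smul, mul_smul, h6, inv_smul_smul, ← h7, smul_inv_smul]
    · apply hαβ
      have := h6.trans h7.symm
      exact MulAction.injective _ this
  -- the subgroup
  refine ⟨χ.ker, inferInstance, ?_, (stabilizer G α).subgroupOf χ.ker, ?_, ?_, ?_⟩
  · rw [Subgroup.index_ker]
    have h1 : χ.range = ⊤ := by
      rw [eq_top_iff]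
      intro u _
      rcases Int.units_eq_one_or u with rfl | rfl
      · exact one_mem _
      · exact ⟨s, hχs⟩
    rw [h1, Subgroup.card_top, Nat.card_eq_fintype_card]
    rfl
  · obtain ⟨t, ht, ht1, htα⟩ := ht1
    intro h
    have hmem : (⟨t, hχT t ht htα⟩ : χ.ker) ∈ (stabilizer G α).subgroupOf χ.ker := htα
    rw [h, Subgroup.mem_bot] at hmem
    exact ht1 (congrArg Subtype.val hmem)
  · intro htop
    obtain ⟨t, ht, ht1, htα⟩ := ht1
    have hall : ∀ n : G, χ n = 1 → n • α = α := by
      intro n hn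
      have : (⟨n, hn⟩ : χ.ker) ∈ (stabilizer G α).subgroupOf χ.ker := by
        rw [htop]; trivial
      exact this
    apply ht1
    apply FaithfulSMul.eq_of_smul_eq_smul (α := Ω)
    intro ω
    rw [one_smul]
    obtain ⟨g, rfl⟩ := htr.exists_smul_eq α ω
    have h1 : χ (g⁻¹ * t * g) = 1 := by
      rw [map_mul, map_mul, hχT t ht htα, mul_one, map_inv, inv_mul_cancel]
    have h2 := hall _ h1
    rw [mul_smul, mul_smul, inv_smul_eq_iff] at h2
    exact h2
  · rintro ⟨g, hg⟩ hgH
    rw [eq_bot_iff]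
    rintro ⟨x, hx⟩ ⟨hx1, hx2⟩
    rw [Subgroup.mem_bot]
    by_contra hne
    have hx1' : x ≠ 1 := fun h => hne (Subtype.ext h)
    obtain ⟨⟨h, hh⟩, hh2, hh3⟩ := hx2
    have hxg : x • (g • α) = g • α := by
      have e : x = g * h * g⁻¹ := (congrArg Subtype.val hh3).symm
      rw [e, mul_smul, mul_smul, inv_smul_smul]
      have : h • α = α := hh2
      rw [this]
    exact hgH (key x g hx hg hx1' hx1 hxg)

/-- Elements of a `2`-group of order not equal to the order of the group. -/
theorem two_mul_orderOf_dvd [Finite G] {S : Subgroup G} (hS : IsPGroup 2 S) {y : G} (hy : y ∈ S)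
    (hne : orderOf y ≠ Nat.card S) : 2 * orderOf y ∣ Nat.card S := by
  obtain ⟨e, he⟩ := IsPGroup.iff_card.mp hS
  have h1 : orderOf y ∣ Nat.card S := by
    have := orderOf_dvd_natCard (⟨y, hy⟩ : S)
    rwa [Subgroup.orderOf_mk] at this
  rw [he] at h1 hne ⊢
  obtain ⟨k, hk, hk2⟩ := (Nat.dvd_prime_pow Nat.prime_two).mp h1
  have hlt : k < e := by
    refine lt_of_le_of_ne hk ?_
    rintro rfl
    exact hne hk2
  rw [hk2, ← pow_succ']
  exact pow_dvd_pow 2 hlt

/-- Nontrivial elements of a `2`-group have even order. -/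
theorem even_orderOf [Finite G] {S : Subgroup G} (hS : IsPGroup 2 S) {y : G} (hy : y ∈ S) (hy1 : y ≠ 1) :
    Even (orderOf y) := by
  obtain ⟨k, hk⟩ := hS ⟨y, hy⟩
  have h1 : y ^ 2 ^ k = 1 := congrArg Subtype.val hk
  obtain ⟨j, -, hj⟩ := (Nat.dvd_prime_pow Nat.prime_two).mp (orderOf_dvd_of_pow_eq_one h1)
  rw [hj]
  have : j ≠ 0 := by
    rintro rfl
    rw [pow_zero, orderOf_eq_one_iff] at hj
    exact hy1 hj
  exact (Nat.even_pow.mpr ⟨even_two, this⟩)

/-- The cyclic case: the sign character of the regular representation. -/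
theorem chi_cyclic [Finite G] [Finite Ω] (S : Sylow 2 G) {α : Ω} (hT2 : ¬ (S : Subgroup G) ≤ stabilizer G α)
    (hc : IsCyclic (S : Subgroup G)) :
    ∃ χ : G →* ℤˣ, (∀ t ∈ (S : Subgroup G), t • α = α → χ t = 1) ∧
      ∃ s ∈ (S : Subgroup G), s • α ≠ α ∧ χ s = -1 := by
  classical
  haveI : Fact (Nat.Prime 2) := ⟨Nat.prime_two⟩
  haveI := Fintype.ofFinite G
  let χ : G →* ℤˣ := (Equiv.Perm.sign (α := G)).comp (MulAction.toPermHom G G)
  -- the sign of a nontrivial element of `S`
  have hsign : ∀ y ∈ (S : Subgroup G), y ≠ 1 → ∀ c, Nat.card G = orderOf y * c → χ y = (-1) ^ c := by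
    intro y hy hy1 c hcard
    have hpow : ∀ (k : ℕ) (x : G), ((MulAction.toPermHom G G y) ^ k) x = y ^ k * x := by
      intro k x
      rw [← map_pow]
      rfl
    refine sign_eq_of_free (MulAction.toPermHom G G y) (even_orderOf S.2 hy hy1) ?_ ?_ ?_ (orderOf_pos y)
    · ext x
      rw [hpow, pow_orderOf_eq_one, one_mul]
      rfl
    · intro x _ k hk
      rw [hpow] at hk
      exact orderOf_dvd_of_pow_eq_one (by simpa using hk)
    · have : (MulAction.toPermHom G G y).support = Finset.univ := by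
        rw [Finset.eq_univ_iff_forall]
        intro x
        rw [Equiv.Perm.mem_support]
        show y * x ≠ x
        simpa using hy1
      rw [this, Finset.card_univ, ← Nat.card_eq_fintype_card, hcard]
  obtain ⟨c, hcg⟩ := IsCyclic.exists_generator (α := (S : Subgroup G))
  have hcord : orderOf (c : G) = Nat.card (S : Subgroup G) := by
    rw [Subgroup.orderOf_coe]
    exact orderOf_eq_card_of_forall_mem_zpowers hcg
  have hcα : (c : G) • α ≠ α := by
    intro h
    apply hT2
    intro x hx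
    obtain ⟨k, hk⟩ := hcg ⟨x, hx⟩
    have h1 : (c : G) ^ k = x := by
      have := congrArg Subtype.val hk
      simpa using this
    rw [← h1]
    exact zpow_mem (mem_stabilizer_iff.mpr h) k
  have hc1 : (c : G) ≠ 1 := by
    intro h
    apply hcα
    rw [h, one_smul]
  refine ⟨χ, ?_, c, c.2, hcα, ?_⟩
  · intro t ht htα
    by_cases ht1 : t = 1
    · rw [ht1, map_one]
    have hne : orderOf t ≠ Nat.card (S : Subgroup G) := by
      intro h
      apply hT2
      intro x hx
      have h2 : orderOf (⟨t, ht⟩ : S) = Nat.card (S : Subgroup G) := by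
        rw [Subgroup.orderOf_mk]; exact h
      have h3 : zpowers (⟨t, ht⟩ : S) = ⊤ := by
        apply Subgroup.eq_top_of_card_eq
        rw [Nat.card_zpowers, h2]
        rfl
      have h4 : (⟨x, hx⟩ : S) ∈ zpowers (⟨t, ht⟩ : S) := by rw [h3]; trivial
      obtain ⟨k, hk⟩ := h4
      have h1 : t ^ k = x := by
        have := congrArg Subtype.val hk
        simpa using this
      rw [← h1]
      exact zpow_mem (mem_stabilizer_iff.mpr htα) k
    obtain ⟨j, hj⟩ := two_mul_orderOf_dvd S.2 ht hne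
    obtain ⟨i, hi⟩ := Subgroup.card_subgroup_dvd_card (S : Subgroup G)
    have hcard : Nat.card G = orderOf t * (2 * (j * i)) := by
      rw [hi, hj]; ring
    rw [hsign t ht ht1 _ hcard, pow_mul]
    simp
  · have hodd : Odd (S : Subgroup G).index := by
      rw [← Nat.not_even_iff_odd, even_iff_two_dvd]
      exact Sylow.not_dvd_index S
    have hcard : Nat.card G = orderOf (c : G) * (S : Subgroup G).index := by
      rw [hcord]
      exact (Subgroup.card_mul_index _).symm
    rw [hsign c c.2 hc1 _ hcard, hodd.neg_one_pow]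

/-- The non-cyclic case: the sign character on `Ω`. -/
theorem chi_noncyclic [Finite G] [Finite Ω] (S : Sylow 2 G) {α β : Ω} (hαβ : α ≠ β)
    (hfree : ∀ γ, γ ≠ α → γ ≠ β → ∀ g ∈ (S : Subgroup G), g • γ = γ → g = 1)
    (horb : ∀ g ∈ (S : Subgroup G), g • α = α ∨ g • α = β)
    {s : G} (hs : s ∈ (S : Subgroup G)) (hsα : s • α = β)
    (hT : ∀ t ∈ (S : Subgroup G), t • α = α ↔ t • β = β)
    (hc : ¬ IsCyclic (S : Subgroup G)) :
    ∃ χ : G →* ℤˣ, (∀ t ∈ (S : Subgroup G), t • α = α → χ t = 1) ∧ χ s = -1 := by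
  classical
  haveI : Fact (Nat.Prime 2) := ⟨Nat.prime_two⟩
  haveI := Fintype.ofFinite Ω
  let χ : G →* ℤˣ := (Equiv.Perm.sign (α := Ω)).comp (MulAction.toPermHom G Ω)
  have horbβ : ∀ g ∈ (S : Subgroup G), g • β = α ∨ g • β = β := by
    intro g hg
    have := horb (g * s) (mul_mem hg hs)
    rwa [mul_smul, hsα] at this
  have hinv : ∀ g ∈ (S : Subgroup G), ∀ c, c ≠ α → c ≠ β → g • c ≠ α ∧ g • c ≠ β := by
    intro g hg c h1 h2
    constructor
    · intro h
      have : c = g⁻¹ • α := eq_inv_smul_iff.mpr h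
      rcases horb _ (inv_mem hg) with h3 | h3
      · exact h1 (this.trans h3)
      · exact h2 (this.trans h3)
    · intro h
      have : c = g⁻¹ • β := eq_inv_smul_iff.mpr h
      rcases horbβ _ (inv_mem hg) with h3 | h3
      · exact h1 (this.trans h3)
      · exact h2 (this.trans h3)
  -- `|S|` divides `|Ω| - 2`
  let Q : Finset Ω := ({α, β} : Finset Ω)ᶜ
  have hQm : ∀ c, c ∈ Q ↔ c ≠ α ∧ c ≠ β := by
    intro c
    simp [Q]
  have hQcard : Q.card + 2 = Fintype.card Ω := by
    have h1 := Finset.card_compl ({α, β} : Finset Ω)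
    have h2 : ({α, β} : Finset Ω).card = 2 := Finset.card_pair hαβ
    have h3 := Finset.card_le_univ ({α, β} : Finset Ω)
    show ({α, β} : Finset Ω)ᶜ.card + 2 = _
    omega
  have hdvd : Nat.card (S : Subgroup G) ∣ Q.card := by
    let B : SubMulAction (S : Subgroup G) Ω :=
      { carrier := {c | c ≠ α ∧ c ≠ β}
        smul_mem' := fun g c hc => hinv g g.2 c hc.1 hc.2 }
    have h1 : Nat.card (S : Subgroup G) ∣ Nat.card B := by
      apply card_dvd_of_free
      rintro g ⟨x, hx⟩ h
      have h2 : (g : G) • x = x := congrArg Subtype.val h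
      exact Subtype.ext (hfree x hx.1 hx.2 g g.2 h2)
    have h2 : Nat.card B = Q.card := by
      have e : B ≃ {c // c ∈ Q} := Equiv.subtypeEquivRight (fun c => (hQm c).symm)
      rw [Nat.card_congr e, Nat.card_eq_fintype_card, Fintype.card_coe]
    rwa [h2] at h1
  -- the key computation
  have hmain : ∀ y ∈ (S : Subgroup G), y ≠ 1 → ∀ τ : Equiv.Perm Ω,
      (∀ c, c ≠ α → c ≠ β → τ c = y • c) → τ α = α → τ β = β → Equiv.Perm.sign τ = 1 := by
    intro y hy hy1 τ h1 h2 h3
    have hpow : ∀ (k : ℕ) (c : Ω), c ≠ α → c ≠ β → (τ ^ k) c = y ^ k • c := by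
      intro k
      induction k with
      | zero => intro c _ _; simp
      | succ k ih =>
        intro c hc1 hc2
        obtain ⟨h4, h5⟩ := hinv y hy c hc1 hc2
        rw [pow_succ, Equiv.Perm.mul_apply, h1 c hc1 hc2, ih _ h4 h5, pow_succ, mul_smul]
    have hne : orderOf y ≠ Nat.card (S : Subgroup G) := by
      intro h
      apply hc
      apply isCyclic_of_orderOf_eq_card (⟨y, hy⟩ : S)
      rw [Subgroup.orderOf_mk]; exact h
    obtain ⟨j, hj⟩ := two_mul_orderOf_dvd S.2 hy hne
    obtain ⟨i, hi⟩ := hdvd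
    have heven : Even (orderOf y) := even_orderOf S.2 hy hy1
    have hsupp : τ.support = Q := by
      ext c
      rw [Equiv.Perm.mem_support, hQm]
      constructor
      · intro h
        constructor
        · rintro rfl
          exact h h2
        · rintro rfl
          exact h h3
      · rintro ⟨h4, h5⟩ h6
        rw [h1 c h4 h5] at h6
        exact hy1 (hfree c h4 h5 y hy h6)
    have hcard : τ.support.card = orderOf y * (2 * (j * i)) := by
      rw [hsupp, hi, hj]; ring
    rw [sign_eq_of_free τ heven ?_ ?_ hcard (orderOf_pos y), pow_mul]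
    · simp
    · ext c
      by_cases h4 : c = α
      · rw [h4, Equiv.Perm.pow_apply_eq_self_of_apply_eq_self h2]; rfl
      by_cases h5 : c = β
      · rw [h5, Equiv.Perm.pow_apply_eq_self_of_apply_eq_self h3]; rfl
      rw [hpow _ c h4 h5, pow_orderOf_eq_one, one_smul]; rfl
    · intro x hx k hk
      have h4 : x ≠ α := by rintro rfl; exact hx h2
      have h5 : x ≠ β := by rintro rfl; exact hx h3
      rw [hpow k x h4 h5] at hk
      exact orderOf_dvd_of_pow_eq_one (hfree x h4 h5 _ (pow_mem hy k) hk)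
  refine ⟨χ, ?_, ?_⟩
  · intro t ht htα
    by_cases ht1 : t = 1
    · rw [ht1, map_one]
    exact hmain t ht ht1 (MulAction.toPermHom G Ω t) (fun _ _ _ => rfl) htα ((hT t ht).mp htα)
  · have hs1 : s ≠ 1 := by
      rintro rfl
      rw [one_smul] at hsα
      exact hαβ hsα
    have hsβ : s • β = α := by
      rcases horbβ s hs with h | h
      · exact h
      · exfalso
        apply hαβ
        apply MulAction.injective s
        show s • α = s • β
        rw [hsα, h]
    have h1 : Equiv.Perm.sign (Equiv.swap α β * MulAction.toPermHom G Ω s) = 1 := by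
      apply hmain s hs hs1
      · intro c h2 h3
        obtain ⟨h4, h5⟩ := hinv s hs c h2 h3
        rw [Equiv.Perm.mul_apply]
        exact Equiv.swap_apply_of_ne_of_ne h4 h5
      · rw [Equiv.Perm.mul_apply]
        show Equiv.swap α β (s • α) = α
        rw [hsα, Equiv.swap_apply_right]
      · rw [Equiv.Perm.mul_apply]
        show Equiv.swap α β (s • β) = β
        rw [hsβ, Equiv.swap_apply_left]
    rw [Equiv.Perm.sign_mul, Equiv.Perm.sign_swap hαβ] at h1
    have h2 : Equiv.Perm.sign (MulAction.toPermHom G Ω s) = -1 := by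
      have h3 : (-1 : ℤˣ) * ((-1 : ℤˣ) * Equiv.Perm.sign (MulAction.toPermHom G Ω s)) = -1 := by
        rw [h1, mul_one]
      rw [← mul_assoc] at h3
      simpa using h3
    exact h2

end Setting

/-- The main case analysis. -/
theorem main_thm {G : Type*} [Group G] [Finite G] {Ω : Type*} [Fintype Ω] [MulAction G Ω] [FaithfulSMul G Ω] (htr : MulAction.IsPretransitive G Ω)
    (hfix : ∀ g : G, g ≠ 1 → Nat.card (MulAction.fixedBy Ω g) ≤ 2) (α : Ω) (S : Sylow 2 G) :
    (S : Subgroup G) ⊓ MulAction.stabilizer G α = ⊥ ∨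
    (((∃ n : ℕ, Nonempty (↥(S : Subgroup G) ≃* DihedralGroup n)) ∨ Cfsg.IsQuasiDihedral ↥(S : Subgroup G)) ∧
       (Nat.card ↥((S : Subgroup G) ⊓ MulAction.stabilizer G α) = 2 ∨ ((S : Subgroup G) ⊓ MulAction.stabilizer G α).relIndex (S : Subgroup G) = 2)) ∨
    (4 ≤ Nat.card (S : Subgroup G) ∧
       (∃ ω : Ω, Nat.card (MulAction.orbit ↥(S : Subgroup G) ω) = 2 ∧
          ∀ ω' : Ω, ω' ∉ MulAction.orbit ↥(S : Subgroup G) ω → Nat.card (MulAction.orbit ↥(S : Subgroup G) ω') = Nat.card (S : Subgroup G)) ∧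
       ∃ N : Subgroup G, N.Normal ∧ (N.index = 2 ∨ N.index = Nat.card (S : Subgroup G)) ∧ (∃ H : Subgroup ↥N, Cfsg.IsFrobeniusComplement H)) ∨
    (S : Subgroup G) ≤ MulAction.stabilizer G α := by
  classical
  haveI : Fact (Nat.Prime 2) := ⟨Nat.prime_two⟩
  rcases Subgroup.bot_or_exists_ne_one ((S : Subgroup G) ⊓ MulAction.stabilizer G α) with h0 | ⟨t₀, ⟨ht₀S, ht₀α⟩, ht₀1⟩
  · exact Or.inl h0
  have ht₀α' : t₀ • α = α := ht₀α
  by_cases hT2 : (S : Subgroup G) ≤ stabilizer G α
  · exact Or.inr (Or.inr (Or.inr hT2))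
  right
  obtain ⟨s, hs, hsα, hT⟩ := exists_swap S.2 hT2
  set β := s • α with hβ
  have hαβ : α ≠ β := Ne.symm hsα
  -- fixed points of elements of `T`
  have hF : ∀ t ∈ (S : Subgroup G), t ≠ 1 → t • α = α → ∀ c, t • c = c → c = α ∨ c = β := by
    intro t ht ht1 htα c hc
    exact eq_or_eq_of_fix hfix ht1 hαβ htα ((hT t ht).mp htα) hc
  -- the action of `S` on `{α, β}`
  have hnorm : ∀ g ∈ (S : Subgroup G), (g • α = α ∨ g • α = β) → ∀ t ∈ (S : Subgroup G), t • α = α →
      (g * t * g⁻¹) • α = α := by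
    intro g hg hgα t ht htα
    have h1 : (g * t * g⁻¹) • (g • α) = g • α := by
      rw [mul_smul, mul_smul, inv_smul_smul, htα]
    rcases hgα with h2 | h2
    · rwa [h2] at h1
    · rw [h2] at h1
      exact (hT _ (mul_mem (mul_mem hg ht) (inv_mem hg))).mpr h1
  -- orbit sizes
  have hstabS : ∀ ω : Ω, (stabilizer (S : Subgroup G) ω).index = (orbit (S : Subgroup G) ω).ncard :=
    fun ω => index_stabilizer _ ω
  by_cases horb : ∀ g ∈ (S : Subgroup G), g • α = α ∨ g • α = β
  · -- Case (a): `T` is normal in `S`, with index two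
    have horbit : orbit (S : Subgroup G) α = {α, β} := by
      ext x
      constructor
      · rintro ⟨g, rfl⟩
        exact horb g g.2
      · rintro (rfl | rfl)
        · exact mem_orbit_self _
        · exact ⟨⟨s, hs⟩, rfl⟩
    have hidx : (stabilizer (S : Subgroup G) α).index = 2 := by
      rw [hstabS, horbit, Set.ncard_pair hαβ]
    have hrel : ((S : Subgroup G) ⊓ stabilizer G α).relIndex (S : Subgroup G) = 2 := by
      rw [Subgroup.inf_relIndex_left]
      exact hidx
    by_cases hfree : ∀ γ, γ ≠ α → γ ≠ β → ∀ g ∈ (S : Subgroup G), g • γ = γ → g = 1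
    · -- third case
      right
      left
      refine ⟨?_, ⟨α, ?_, ?_⟩, ?_⟩
      · have h1 := Subgroup.card_mul_index (stabilizer (S : Subgroup G) α)
        rw [hidx] at h1
        have h2 : 1 < Nat.card (stabilizer (S : Subgroup G) α) := by
          rw [Finite.one_lt_card_iff_nontrivial]
          refine ⟨⟨⟨⟨t₀, ht₀S⟩, ht₀α⟩, 1, ?_⟩⟩
          intro h
          exact ht₀1 (congrArg Subtype.val (congrArg Subtype.val h))
        omega
      · rw [horbit, Nat.card_coe_set_eq, Set.ncard_pair hαβ]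
      · intro ω hω
        have h1 : ω ≠ α := by
          rintro rfl
          exact hω (mem_orbit_self _)
        have h2 : ω ≠ β := by
          rintro rfl
          exact hω ⟨⟨s, hs⟩, rfl⟩
        have h3 : stabilizer (S : Subgroup G) ω = ⊥ := by
          rw [eq_bot_iff]
          rintro ⟨g, hg⟩ hgω
          rw [Subgroup.mem_bot]
          exact Subtype.ext (hfree ω h1 h2 g hg hgω)
        rw [Nat.card_coe_set_eq, ← hstabS, h3, Subgroup.index_bot]
      · have hχ : ∃ N : Subgroup G, N.Normal ∧ N.index = 2 ∧ ∃ H : Subgroup N, Cfsg.IsFrobeniusComplement H := by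
          by_cases hc : IsCyclic (S : Subgroup G)
          · obtain ⟨χ, h1, c, hc1, hc2, hc3⟩ := chi_cyclic S hT2 hc
            have hcβ : c • α = β := (horb c hc1).resolve_left hc2
            exact third_of_chi htr hfix S hαβ hT ⟨t₀, ht₀S, ht₀1, ht₀α⟩ hfree horb χ h1 hc1 hcβ hc3
          · obtain ⟨χ, h1, h2⟩ := chi_noncyclic S hαβ hfree horb hs rfl hT hc
            exact third_of_chi htr hfix S hαβ hT ⟨t₀, ht₀S, ht₀1, ht₀α⟩ hfree horb χ h1 hs rfl h2
        obtain ⟨N, h1, h2, h3⟩ := hχ
        exact ⟨N, h1, Or.inl h2, h3⟩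
    · -- second case: `S_γ` has order two for some `γ`
      left
      push Not at hfree
      obtain ⟨γ, hγα, hγβ, u, hu, huγ, hu1⟩ := hfree
      have huT : u • α ≠ α := by
        intro h
        rcases hF u hu hu1 h γ huγ with h1 | h1
        · exact hγα h1
        · exact hγβ h1
      have huβ : u • α = β := (horb u hu).resolve_left huT
      have hst : ∀ g : (S : Subgroup G), (g : G) • γ = γ → g = 1 ∨ g = ⟨u, hu⟩ := by
        rintro ⟨g, hg⟩ hgγ
        by_cases hg1 : g = 1
        · left; exact Subtype.ext hg1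
        right
        apply Subtype.ext
        show g = u
        have hgT : g • α ≠ α := by
          intro h
          rcases hF g hg hg1 h γ hgγ with h1 | h1
          · exact hγα h1
          · exact hγβ h1
        have hgβ : g • α = β := (horb g hg).resolve_left hgT
        by_contra hne
        have h1 : g⁻¹ * u ≠ 1 := by
          intro h
          apply hne
          rw [inv_mul_eq_one] at h
          exact h
        have h2 : (g⁻¹ * u) • α = α := by
          rw [mul_smul, huβ, ← hgβ, inv_smul_smul]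
        have h3 : (g⁻¹ * u) • γ = γ := by
          rw [mul_smul, huγ, inv_smul_eq_iff, hgγ]
        rcases hF _ (mul_mem (inv_mem hg) hu) h1 h2 γ h3 with h4 | h4
        · exact hγα h4
        · exact hγβ h4
      have hnot : ¬ (S : Subgroup G) ≤ stabilizer G γ := by
        intro h
        have : t₀ • γ = γ := h ht₀S
        rcases hF t₀ ht₀S ht₀1 ht₀α' γ this with h4 | h4
        · exact hγα h4
        · exact hγβ h4
      have hu1' : (⟨u, hu⟩ : (S : Subgroup G)) ≠ 1 := fun h => hu1 (congrArg Subtype.val h)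
      have hC := centralizer_card_four hfix S.2 (γ := γ) ⟨u, hu⟩ hu1' huγ hst hnot
      have hu2 : (⟨u, hu⟩ : (S : Subgroup G)) ^ 2 = 1 := by
        have h1 : (⟨u, hu⟩ : (S : Subgroup G)) ^ 2 = 1 ∨ (⟨u, hu⟩ : (S : Subgroup G)) ^ 2 = ⟨u, hu⟩ := by
          apply hst
          show u ^ 2 • γ = γ
          rw [pow_two, mul_smul, huγ, huγ]
        rcases h1 with h1 | h1
        · exact h1
        · exfalso
          apply hu1'
          have h2 : (⟨u, hu⟩ : (S : Subgroup G)) * ⟨u, hu⟩ = ⟨u, hu⟩ * 1 := by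
            rw [← pow_two, h1, mul_one]
          exact mul_left_cancel h2
      have huo : orderOf (⟨u, hu⟩ : (S : Subgroup G)) = 2 := orderOf_eq_prime hu2 hu1'
      refine ⟨?_, Or.inr hrel⟩
      rcases Cfsg.Agent.S3224.result S.2 _ huo hC with h | h | h
      · exact Or.inl h
      · exact Or.inr h
      · -- `|S| = 4`: a Klein four group
        left
        refine ⟨2, ?_⟩
        have hTc : Nat.card (stabilizer (S : Subgroup G) α) = 2 := by
          have h1 := Subgroup.card_mul_index (stabilizer (S : Subgroup G) α)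
          rw [hidx, h] at h1
          omega
        have ht2 : (⟨t₀, ht₀S⟩ : (S : Subgroup G)) ^ 2 = 1 := by
          have h1 := pow_card_eq_one' (G := stabilizer (S : Subgroup G) α) (x := ⟨⟨t₀, ht₀S⟩, ht₀α⟩)
          rw [hTc] at h1
          exact congrArg Subtype.val h1
        have hnc : ¬ IsCyclic (S : Subgroup G) := by
          intro hcyc
          haveI := Fintype.ofFinite (S : Subgroup G)
          have h1 := IsCyclic.card_pow_eq_one_le (α := (S : Subgroup G)) (n := 2) (by norm_num)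
          have h2 : ({1, ⟨u, hu⟩, ⟨t₀, ht₀S⟩} : Finset (S : Subgroup G)) ⊆
              Finset.univ.filter (fun a : (S : Subgroup G) => a ^ 2 = 1) := by
            intro x hx
            simp only [Finset.mem_insert, Finset.mem_singleton] at hx
            simp only [Finset.mem_filter, Finset.mem_univ, true_and]
            rcases hx with rfl | rfl | rfl
            · exact one_pow 2
            · exact hu2
            · exact ht2
          have h3 := Finset.card_le_card h2
          have h4 : ({1, ⟨u, hu⟩, ⟨t₀, ht₀S⟩} : Finset (S : Subgroup G)).card = 3 := by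
            rw [Finset.card_insert_of_notMem, Finset.card_insert_of_notMem, Finset.card_singleton]
            · simp only [Finset.mem_singleton]
              intro h5
              apply huT
              have : u = t₀ := congrArg Subtype.val h5
              rw [this]
              exact ht₀α'
            · simp only [Finset.mem_insert, Finset.mem_singleton]
              push Not
              refine ⟨fun h5 => hu1' h5.symm, fun h5 => ht₀1 ?_⟩
              exact (congrArg Subtype.val h5).symm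
          omega
        haveI : Nontrivial (S : Subgroup G) := by
          rw [← Finite.one_lt_card_iff_nontrivial]
          omega
        haveI hK : IsKleinFour (S : Subgroup G) := by
          refine ⟨h, ?_⟩
          rw [Monoid.exponent_eq_prime_iff Nat.prime_two]
          intro g hg
          have h1 : orderOf g ∣ 4 := by
            rw [← h]
            exact orderOf_dvd_natCard g
          have h2 : orderOf g ≠ 4 := by
            intro h3
            exact hnc (isCyclic_of_orderOf_eq_card g (by rw [h3, h]))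
          have h3 : orderOf g ≠ 1 := fun h4 => hg (orderOf_eq_one_iff.mp h4)
          have h4 : orderOf g ∈ Nat.divisors 4 := Nat.mem_divisors.mpr ⟨h1, by norm_num⟩
          have h5 : Nat.divisors 4 = {1, 2, 4} := by decide
          rw [h5] at h4
          simp only [Finset.mem_insert, Finset.mem_singleton] at h4
          omega
        exact IsKleinFour.nonempty_mulEquiv
  · -- Case (b): `T` is not normal in `S`
    left
    push Not at horb
    obtain ⟨g₀, hg₀, hg₀α, hg₀β⟩ := horb
    haveI : Group.IsNilpotent (S : Subgroup G) := S.2.isNilpotent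
    let T' : Subgroup (S : Subgroup G) := stabilizer (S : Subgroup G) α
    have hN : ∀ g : (S : Subgroup G), g ∈ normalizer (T' : Set (S : Subgroup G)) ↔
        (g : G) • α = α ∨ (g : G) • α = β := by
      intro g
      constructor
      · intro hg
        have h1 := (Subgroup.mem_normalizer_iff.mp (inv_mem hg)) ⟨t₀, ht₀S⟩
        have h2 : (g⁻¹ * ⟨t₀, ht₀S⟩ * g⁻¹⁻¹ : (S : Subgroup G)) ∈ T' := h1.mp ht₀α
        have h3 : ((g : G)⁻¹ * t₀ * (g : G)) • α = α := by
          have := h2
          rw [inv_inv] at this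
          exact this
        rw [mul_smul, mul_smul, inv_smul_eq_iff] at h3
        exact hF t₀ ht₀S ht₀1 ht₀α' _ h3
      · intro hg
        apply Cfsg.Agent.Lib.PGroup.MaximalClass.mem_normalizer_of_conj_mem
        intro y hy
        exact hnorm g g.2 hg y y.2 hy
    have hNtop : normalizer (T' : Set (S : Subgroup G)) ≠ ⊤ := by
      intro h
      have h1 : (⟨g₀, hg₀⟩ : (S : Subgroup G)) ∈ normalizer (T' : Set (S : Subgroup G)) := by
        rw [h]; trivial
      rcases (hN _).mp h1 with h2 | h2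
      · exact hg₀α h2
      · exact hg₀β h2
    have hlt : normalizer (T' : Set (S : Subgroup G)) <
        normalizer ((normalizer (T' : Set (S : Subgroup G)) : Subgroup (S : Subgroup G)) : Set (S : Subgroup G)) :=
      Group.normalizerCondition_of_isNilpotent (G := (S : Subgroup G)) _ (lt_top_iff_ne_top.mpr hNtop)
    obtain ⟨g, hgN, hgN'⟩ := SetLike.exists_of_lt hlt
    have hgα : ¬ ((g : G) • α = α ∨ (g : G) • α = β) := fun h => hgN' ((hN g).mpr h)
    push Not at hgα
    have hkey : ∀ t ∈ (S : Subgroup G), t ≠ 1 → t • α = α → ((g : G) * t * (g : G)⁻¹) • α = β := by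
      intro t ht ht1 htα
      have h1 : (⟨t, ht⟩ : (S : Subgroup G)) ∈ normalizer (T' : Set (S : Subgroup G)) :=
        Subgroup.le_normalizer htα
      have h2 := (Subgroup.mem_normalizer_iff.mp hgN _).mp h1
      have h3 := (hN _).mp h2
      rcases h3 with h3 | h3
      · exfalso
        have h3' : ((g : G) * t * (g : G)⁻¹) • α = α := h3
        have hne : (g : G) * t * (g : G)⁻¹ ≠ 1 := by
          intro h
          apply ht1
          have : t = (g : G)⁻¹ * ((g : G) * t * (g : G)⁻¹) * g := by group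
          rw [this, h]
          group
        have h4 : ((g : G) * t * (g : G)⁻¹) • ((g : G) • α) = (g : G) • α := by
          rw [mul_smul, mul_smul, inv_smul_smul, htα]
        rcases hF _ (mul_mem (mul_mem g.2 ht) (inv_mem g.2)) hne h3' _ h4 with h5 | h5
        · exact hgα.1 h5
        · exact hgα.2 h5
      · exact h3
    have huniq : ∀ t ∈ (S : Subgroup G), t • α = α → t = 1 ∨ t = t₀ := by
      intro t ht htα
      by_cases ht1 : t = 1
      · exact Or.inl ht1
      right
      by_contra hne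
      have h1 : t⁻¹ * t₀ ≠ 1 := by
        intro h
        apply hne
        rw [inv_mul_eq_one] at h
        exact h
      have h2 : (t⁻¹ * t₀) • α = α := by
        rw [mul_smul, ht₀α', inv_smul_eq_iff, htα]
      have h3 := hkey _ (mul_mem (inv_mem ht) ht₀S) h1 h2
      have h4 := hkey t ht ht1 htα
      have h5 := hkey t₀ ht₀S ht₀1 ht₀α'
      apply hαβ
      have h6 : ((g : G) * (t⁻¹ * t₀) * (g : G)⁻¹) = ((g : G) * t * (g : G)⁻¹)⁻¹ * ((g : G) * t₀ * (g : G)⁻¹) := by
        group
      rw [h6, mul_smul, h5, inv_smul_eq_iff] at h3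
      exact MulAction.injective ((g : G) * t * (g : G)⁻¹) (h4.trans h3)
    have hst : ∀ c : (S : Subgroup G), (c : G) • α = α → c = 1 ∨ c = ⟨t₀, ht₀S⟩ := by
      rintro ⟨c, hc⟩ hcα
      rcases huniq c hc hcα with rfl | rfl
      · left; rfl
      · right; rfl
    have hx1 : (⟨t₀, ht₀S⟩ : (S : Subgroup G)) ≠ 1 := fun h => ht₀1 (congrArg Subtype.val h)
    have hC := centralizer_card_four hfix S.2 (γ := α) ⟨t₀, ht₀S⟩ hx1 ht₀α' hst hT2
    have hx2 : (⟨t₀, ht₀S⟩ : (S : Subgroup G)) ^ 2 = 1 := by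
      have h1 : (⟨t₀, ht₀S⟩ : (S : Subgroup G)) ^ 2 = 1 ∨ (⟨t₀, ht₀S⟩ : (S : Subgroup G)) ^ 2 = ⟨t₀, ht₀S⟩ := by
        apply hst
        show t₀ ^ 2 • α = α
        rw [pow_two, mul_smul, ht₀α', ht₀α']
      rcases h1 with h1 | h1
      · exact h1
      · exfalso
        apply hx1
        have h2 : (⟨t₀, ht₀S⟩ : (S : Subgroup G)) * ⟨t₀, ht₀S⟩ = ⟨t₀, ht₀S⟩ * 1 := by
          rw [← pow_two, h1, mul_one]
        exact mul_left_cancel h2
    have hxo : orderOf (⟨t₀, ht₀S⟩ : (S : Subgroup G)) = 2 := orderOf_eq_prime hx2 hx1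
    have hTc : Nat.card (stabilizer (S : Subgroup G) α) = 2 := by
      rw [Nat.card_eq_two_iff]
      refine ⟨1, ⟨⟨t₀, ht₀S⟩, ht₀α⟩, ?_, ?_⟩
      · intro h
        exact hx1 (congrArg Subtype.val h).symm
      · ext ⟨c, hc⟩
        simp only [Set.mem_insert_iff, Set.mem_singleton_iff, Set.mem_univ, iff_true]
        rcases hst c hc with rfl | rfl
        · left; rfl
        · right; rfl
    refine ⟨?_, Or.inl ?_⟩
    · rcases Cfsg.Agent.S3224.result S.2 _ hxo hC with h | h | h
      · exact Or.inl h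
      · exact Or.inr h
      · exfalso
        have h1 := Subgroup.card_mul_index (stabilizer (S : Subgroup G) α)
        rw [hstabS, hTc, h] at h1
        have h2 : ({α, β, g₀ • α} : Set Ω) ⊆ orbit (S : Subgroup G) α := by
          intro x hx
          rcases hx with rfl | rfl | rfl
          · exact mem_orbit_self _
          · exact ⟨⟨s, hs⟩, rfl⟩
          · exact ⟨⟨g₀, hg₀⟩, rfl⟩
        have h3 := Set.ncard_le_ncard h2 (Set.toFinite _)
        have h4 : ({α, β, g₀ • α} : Set Ω).ncard = 3 := by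
          rw [Set.ncard_eq_three]
          exact ⟨α, β, g₀ • α, hαβ, Ne.symm hg₀α, Ne.symm hg₀β, rfl⟩
        omega
    · rw [Nat.card_eq_two_iff]
      refine ⟨1, ⟨t₀, ht₀S, ht₀α⟩, ?_, ?_⟩
      · intro h
        exact ht₀1 (congrArg Subtype.val h).symm
      · ext ⟨c, hc, hc2⟩
        simp only [Set.mem_insert_iff, Set.mem_singleton_iff, Set.mem_univ, iff_true]
        rcases huniq c hc hc2 with rfl | rfl
        · left; rfl
        · right; rfl

/-- Let G be a finite group acting faithfully and transitively on a finite set Ω with fixity 2. -/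
theorem result {G : Type*} [Group G] [Finite G] {Ω : Type*} [Fintype Ω] [MulAction G Ω] [FaithfulSMul G Ω] (htr : MulAction.IsPretransitive G Ω)
    (hfix : ∀ g : G, g ≠ 1 → Nat.card (MulAction.fixedBy Ω g) ≤ 2) (hex : ∃ g : G, g ≠ 1 ∧ Nat.card (MulAction.fixedBy Ω g) = 2) (α : Ω) (S : Sylow 2 G) :
    (S : Subgroup G) ⊓ MulAction.stabilizer G α = ⊥ ∨
    (((∃ n : ℕ, Nonempty (↥(S : Subgroup G) ≃* DihedralGroup n)) ∨ Cfsg.IsQuasiDihedral ↥(S : Subgroup G)) ∧
       (Nat.card ↥((S : Subgroup G) ⊓ MulAction.stabilizer G α) = 2 ∨ ((S : Subgroup G) ⊓ MulAction.stabilizer G α).relIndex (S : Subgroup G) = 2)) ∨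
    (4 ≤ Nat.card (S : Subgroup G) ∧
       (∃ ω : Ω, Nat.card (MulAction.orbit ↥(S : Subgroup G) ω) = 2 ∧
          ∀ ω' : Ω, ω' ∉ MulAction.orbit ↥(S : Subgroup G) ω → Nat.card (MulAction.orbit ↥(S : Subgroup G) ω') = Nat.card (S : Subgroup G)) ∧
       ∃ N : Subgroup G, N.Normal ∧ (N.index = 2 ∨ N.index = Nat.card (S : Subgroup G)) ∧ (∃ H : Subgroup ↥N, Cfsg.IsFrobeniusComplement H)) ∨
    (S : Subgroup G) ≤ MulAction.stabilizer G α :=
  main_thm htr hfix α S

end Cfsg.Agent.S3390
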