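import Cfsg.Statements.S3494
import Mathlib
-- import your own Cfsg.Agent.* helpers here

set_option autoImplicit false
open Cfsg

namespace Cfsg.Agent.S3494

open MulAction
open scoped Pointwise

/-- A subgroup normalized by `G_x` and moving `z` is transitive on the `G_x`-orbit of `z`. -/
theorem exists_smul_eq_of_normalized {G : Type*} [Group G] {Ω : Type*} [MulAction G Ω] (x z : Ω)
    (hep : IsPreprimitive (stabilizer G x) (orbit (stabilizer G x) z))
    (N : Subgroup G) (hNle : N ≤ stabilizer G x)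
    (hNn : ∀ g ∈ stabilizer G x, ∀ k ∈ N, g * k * g⁻¹ ∈ N)
    (hmove : ∃ k ∈ N, k • z ≠ z) :
    ∀ g ∈ stabilizer G x, ∃ k ∈ N, k • z = g • z := by
  intro g hg
  let N' : Subgroup (stabilizer G x) := N.subgroupOf (stabilizer G x)
  haveI hN' : N'.Normal := ⟨fun k hk s => hNn s s.prop k hk⟩
  let z₀ : orbit (stabilizer G x) z := ⟨z, mem_orbit_self z⟩
  have hB : IsBlock (stabilizer G x) (orbit N' z₀) := IsBlock.orbit_of_normal z₀
  rcases hep.isTrivialBlock_of_isBlock hB with hs | hu
  · exfalso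
    obtain ⟨k, hk, hkz⟩ := hmove
    have hk' : (⟨k, hNle hk⟩ : stabilizer G x) ∈ N' := hk
    have h1 : (⟨k, hNle hk⟩ : stabilizer G x) • z₀ ∈ orbit N' z₀ := ⟨⟨_, hk'⟩, rfl⟩
    have h2 : z₀ ∈ orbit N' z₀ := mem_orbit_self z₀
    have := hs h1 h2
    exact hkz (congrArg Subtype.val this)
  · have h1 : (⟨g, hg⟩ : stabilizer G x) • z₀ ∈ orbit N' z₀ := by
      rw [hu]
      exact Set.mem_univ _
    obtain ⟨k, hk⟩ := h1
    exact ⟨k.val.val, k.prop, congrArg Subtype.val hk⟩

/-- A subgroup normalized by a maximal point stabilizer `G_x`, having a fixed point `z ≠ x`,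
lies in `G_x`. -/
theorem le_stabilizer_of_normalized {G : Type*} [Group G] {Ω : Type*} [MulAction G Ω]
    [IsPretransitive G Ω] (x z : Ω) (hco : IsCoatom (stabilizer G x)) (hzx : z ≠ x)
    (W : Subgroup G) (hW : ∀ g ∈ stabilizer G x, ∀ w ∈ W, g * w * g⁻¹ ∈ W)
    (hz : ∀ w ∈ W, w • z = z) : W ≤ stabilizer G x := by
  by_contra hnot
  let O : Set Ω := orbit W x
  have hstab : ∀ A : Subgroup G, (∀ g ∈ A, ∀ v ∈ O, g • v ∈ O) → A ≤ stabilizer G O := by
    intro A hA g hg
    rw [mem_stabilizer_iff]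
    apply Set.Subset.antisymm
    · rintro _ ⟨v, hv, rfl⟩
      exact hA g hg v hv
    · intro v hv
      refine ⟨g⁻¹ • v, hA g⁻¹ (A.inv_mem hg) v hv, ?_⟩
      simp
  have h1 : stabilizer G x ≤ stabilizer G O := by
    apply hstab
    rintro g hg _ ⟨w, rfl⟩
    refine ⟨⟨g * w * g⁻¹, hW g hg w w.prop⟩, ?_⟩
    show (g * w * g⁻¹) • x = g • (w • x)
    have hg' : g⁻¹ • x = x := by
      rw [inv_smul_eq_iff]
      exact (mem_stabilizer_iff.mp hg).symm
    rw [mul_smul, mul_smul, hg']
    rfl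
  have h2 : W ≤ stabilizer G O := by
    apply hstab
    rintro g hg _ ⟨w, rfl⟩
    exact ⟨⟨g, hg⟩ * w, by
      show (g * w) • x = g • (w • x)
      rw [mul_smul]
      rfl⟩
  have h3 : stabilizer G x < stabilizer G O := by
    refine lt_of_le_of_ne h1 ?_
    intro h
    exact hnot (h ▸ h2)
  have h4 := hco.2 _ h3
  obtain ⟨g, hg⟩ := exists_smul_eq G x z
  have h5 : g ∈ stabilizer G O := by
    rw [h4]
    exact Subgroup.mem_top g
  have h6 : z ∈ O := by
    rw [← hg, ← mem_stabilizer_iff.mp h5]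
    exact Set.smul_mem_smul_set (mem_orbit_self x)
  obtain ⟨w, hw⟩ := h6
  apply hzx
  have h7 := hz (w : G) w.prop
  have h8 : (w : G) • x = z := hw
  rw [← h8] at h7
  have h9 : (w : G) • x = x := by
    have := smul_left_cancel (w : G) h7
    rw [h8] at this
    exact this ▸ h8
  rw [← h8, h9]

/-- The heart of Manning's theorem. -/
theorem core {G : Type*} [Group G] {Ω : Type*} [Fintype Ω] [MulAction G Ω] [FaithfulSMul G Ω]
    (hprim : IsPreprimitive G Ω)
    (hep : ∀ x z : Ω, IsPreprimitive (stabilizer G x) (orbit (stabilizer G x) z))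
    (α ω : Ω) (hω : ω ≠ α) (K : Subgroup G) (hKle : K ≤ stabilizer G α)
    (hKn : ∀ g ∈ stabilizer G α, ∀ k ∈ K, g * k * g⁻¹ ∈ K) (hKne : K ≠ ⊥)
    (hKω : ∀ k ∈ K, k • ω = ω) : False := by
  classical
  haveI := hprim
  haveI hpt : IsPretransitive G Ω := hprim.toIsPretransitive
  haveI : Nontrivial Ω := ⟨⟨ω, α, hω⟩⟩
  have hco : ∀ x : Ω, IsCoatom (stabilizer G x) :=
    fun x => IsPreprimitive.isCoatom_stabilizer_of_isPreprimitive G x
  have hex : ∀ x : Ω, ∃ u : G, u • α = x := fun x => exists_smul_eq G α x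
  choose u hu using hex
  let KK : Ω → Subgroup G := fun x => K.map (MulAut.conj (u x)).toMonoidHom
  have hKKmem : ∀ (x : Ω) (k : G), k ∈ KK x ↔ (u x)⁻¹ * k * u x ∈ K := by
    intro x k
    constructor
    · rintro ⟨c, hc, rfl⟩
      have : (u x)⁻¹ * ((MulAut.conj (u x)).toMonoidHom c) * u x = c := by
        simp [MulAut.conj_apply]
        group
      rw [this]
      exact hc
    · intro h
      refine ⟨_, h, ?_⟩
      simp [MulAut.conj_apply]
      group
  have hKKconj : ∀ (g : G) (x : Ω) (k : G), k ∈ KK x → g * k * g⁻¹ ∈ KK (g • x) := by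
    intro g x k hk
    rw [hKKmem] at hk ⊢
    have hs : (u (g • x))⁻¹ * g * u x ∈ stabilizer G α := by
      rw [mem_stabilizer_iff, mul_smul, mul_smul, hu, inv_smul_eq_iff, hu]
    have := hKn _ hs _ hk
    convert this using 1
    group
  have hKKle : ∀ x, KK x ≤ stabilizer G x := by
    intro x k hk
    rw [hKKmem] at hk
    have h1 := mem_stabilizer_iff.mp (hKle hk)
    rw [mul_smul, mul_smul, hu, inv_smul_eq_iff, hu] at h1
    exact h1
  have hKKne : ∀ x, KK x ≠ ⊥ := by
    intro x hbot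
    apply hKne
    rw [eq_bot_iff]
    intro c hc
    have h1 : (MulAut.conj (u x)).toMonoidHom c ∈ KK x := ⟨c, hc, rfl⟩
    rw [hbot, Subgroup.mem_bot] at h1
    rw [Subgroup.mem_bot]
    simpa [MulAut.conj_apply] using h1
  let F : Ω → Set Ω := fun x => {v | ∀ k ∈ KK x, k • v = v}
  have hFself : ∀ x, x ∈ F x := fun x k hk => hKKle x hk
  have hFsmul : ∀ (g : G) (x v : Ω), v ∈ F x → g • v ∈ F (g • x) := by
    intro g x v hv k hk
    have h1 := hKKconj g⁻¹ (g • x) k hk
    rw [inv_smul_smul, inv_inv] at h1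
    have h2 := hv _ h1
    rw [mul_smul, mul_smul] at h2
    exact (smul_eq_iff_eq_inv_smul g⁻¹).mp h2 |>.symm ▸ (by simp)
  have hFeq : ∀ (g : G) (x : Ω), F (g • x) = g • F x := by
    intro g x
    ext v
    constructor
    · intro hv
      refine ⟨g⁻¹ • v, ?_, by simp⟩
      have := hFsmul g⁻¹ _ _ hv
      rwa [inv_smul_smul] at this
    · rintro ⟨w, hw, rfl⟩
      exact hFsmul g x w hw
  have hFcard' : ∀ x, (F x).ncard = (F α).ncard := by
    intro x
    rw [← hu x, hFeq, ← Set.image_smul, Set.ncard_image_of_injective _ (MulAction.injective _)]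
  have hFcard : ∀ x y, (F x).ncard = (F y).ncard := fun x y => (hFcard' x).trans (hFcard' y).symm
  have hFα_ne_univ : F α ≠ Set.univ := by
    intro h
    apply hKKne α
    rw [eq_bot_iff]
    intro k hk
    rw [Subgroup.mem_bot]
    apply FaithfulSMul.eq_of_smul_eq_smul (α := Ω)
    intro v
    have hv : v ∈ F α := h ▸ Set.mem_univ v
    rw [hv k hk, one_smul]
  have hstabF : stabilizer G (F α) = stabilizer G α := by
    have h1 : stabilizer G α ≤ stabilizer G (F α) := by
      intro g hg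
      rw [mem_stabilizer_iff, ← hFeq, mem_stabilizer_iff.mp hg]
    by_contra hne
    have h2 : stabilizer G α < stabilizer G (F α) := lt_of_le_of_ne h1 (Ne.symm hne)
    have h3 := (hco α).2 _ h2
    apply hFα_ne_univ
    rw [Set.eq_univ_iff_forall]
    intro v
    obtain ⟨g, hg⟩ := exists_smul_eq G α v
    have h4 : g ∈ stabilizer G (F α) := h3 ▸ Subgroup.mem_top g
    rw [← mem_stabilizer_iff.mp h4, ← hg]
    exact Set.smul_mem_smul_set (hFself α)
  have hFinj : ∀ x y, F x = F y → x = y := by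
    intro x y hxy
    have h1 : (u x)⁻¹ * u y ∈ stabilizer G (F α) := by
      rw [mem_stabilizer_iff, mul_smul, ← hFeq, hu, inv_smul_eq_iff, ← hFeq, hu]
      exact hxy.symm
    rw [hstabF, mem_stabilizer_iff, mul_smul, hu, inv_smul_eq_iff, hu] at h1
    exact h1.symm
  have hexout : ∀ x y, x ≠ y → ∃ z, z ∈ F y ∧ z ∉ F x := by
    intro x y hxy
    by_contra hcon
    push Not at hcon
    have hsub : F y ⊆ F x := hcon
    have := Set.eq_of_subset_of_ncard_le hsub (hFcard x y).le (Set.toFinite _)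
    exact hxy (hFinj y x this).symm
  have hNormalized : ∀ x, ∀ g ∈ stabilizer G x, ∀ k ∈ KK x, g * k * g⁻¹ ∈ KK x := by
    intro x g hg k hk
    have := hKKconj g x k hk
    rwa [mem_stabilizer_iff.mp hg] at this
  have hmoves : ∀ x z, z ∉ F x → ∃ k ∈ KK x, k • z ≠ z := by
    intro x z hz
    by_contra hcon
    push Not at hcon
    exact hz hcon
  have htr : ∀ x z, z ∉ F x → ∀ g ∈ stabilizer G x, ∃ k ∈ KK x, k • z = g • z :=
    fun x z hz => exists_smul_eq_of_normalized x z (hep x z) (KK x) (hKKle x) (hNormalized x)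
      (hmoves x z hz)
  have hsymm : ∀ x y, x ≠ y → y ∈ F x → x ∈ F y := by
    intro x y hxy hy
    obtain ⟨z, hzy, hzx⟩ := hexout x y hxy
    have h1 : ∀ g ∈ stabilizer G x, z ∈ F (g • y) := by
      intro g hg
      obtain ⟨k, hk, hkz⟩ := htr x z hzx g⁻¹ (Subgroup.inv_mem _ hg)
      have h2 : k • z ∈ F (k • y) := hFsmul k y z hzy
      rw [hy k hk, hkz] at h2
      have h3 := hFsmul g y _ h2
      rwa [smul_inv_smul] at h3
    let W : Subgroup G := ⨆ g : stabilizer G x, KK ((g : G) • y)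
    have hW1 : ∀ w ∈ W, w • z = z := by
      have : W ≤ stabilizer G z := iSup_le fun g k hk => h1 g g.prop k hk
      exact fun w hw => this hw
    have hW2 : ∀ g ∈ stabilizer G x, ∀ w ∈ W, g * w * g⁻¹ ∈ W := by
      intro g hg w hw
      have : W ≤ W.comap (MulAut.conj g).toMonoidHom := by
        apply iSup_le
        intro g₁ k hk
        have := hKKconj g _ k hk
        rw [← mul_smul] at this
        exact Subgroup.mem_iSup_of_mem (⟨g * g₁, mul_mem hg g₁.prop⟩ : stabilizer G x) this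
      exact this hw
    have hzx' : z ≠ x := fun h => hzx (h ▸ hFself x)
    have hle := le_stabilizer_of_normalized x z (hco x) hzx' W hW2 hW1
    intro k hk
    have h2 : k ∈ W := Subgroup.mem_iSup_of_mem (1 : stabilizer G x) (by simpa using hk)
    exact hle h2
  -- the final argument
  have hωF : ω ∈ F α := by
    intro k hk
    have h1 := (hKKmem α k).mp hk
    have hs : u α ∈ stabilizer G α := hu α
    have h2 := hKn _ hs _ h1
    have h3 : u α * ((u α)⁻¹ * k * u α) * (u α)⁻¹ = k := by group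
    rw [h3] at h2
    exact hKω k h2
  obtain ⟨z, hzω, hzα⟩ := hexout α ω hω.symm
  have hzne : z ≠ α := fun h => hzα (h ▸ hFself α)
  have hzne' : ω ≠ z := fun h => hzα (h ▸ hωF)
  have hαz : α ∉ F z := fun h => hzα (hsymm z α hzne h)
  have hωz : ω ∈ F z := hsymm ω z hzne' hzω
  let T : Subgroup G := KK α ⊔ KK z
  have hT1 : ∀ t ∈ T, t • ω = ω := by
    have : T ≤ stabilizer G ω := sup_le (fun k hk => hωF k hk) (fun k hk => hωz k hk)
    exact fun t ht => this ht
  have hT2 : ∀ g ∈ stabilizer G α, ∀ t ∈ T, g * t * g⁻¹ ∈ T := by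
    intro g hg t ht
    obtain ⟨k, hk, hkz⟩ := htr α z hzα g hg
    have hsα : k⁻¹ * g ∈ stabilizer G α := mul_mem (Subgroup.inv_mem _ (hKKle α hk)) hg
    have hsz : k⁻¹ * g ∈ stabilizer G z := by
      rw [mem_stabilizer_iff, mul_smul, ← hkz, inv_smul_smul]
    have hcomap : T ≤ T.comap (MulAut.conj (k⁻¹ * g)).toMonoidHom :=
      sup_le (fun c hc => (le_sup_left : KK α ≤ T) (hNormalized α _ hsα c hc))
        (fun c hc => (le_sup_right : KK z ≤ T) (hNormalized z _ hsz c hc))
    have h1 : (k⁻¹ * g) * t * (k⁻¹ * g)⁻¹ ∈ T := hcomap ht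
    have hkT : k ∈ T := (le_sup_left : KK α ≤ T) hk
    have h2 : g * t * g⁻¹ = k * ((k⁻¹ * g) * t * (k⁻¹ * g)⁻¹) * k⁻¹ := by group
    rw [h2]
    exact mul_mem (mul_mem hkT h1) (inv_mem hkT)
  have hle := le_stabilizer_of_normalized α ω (hco α) hω T hT2 hT1
  apply hαz
  intro k hk
  exact hle ((le_sup_right : KK z ≤ T) hk)

/-- Manning's Theorem on extremely primitive groups. Let a finite group G act faithfully and primitively on a finite set Ω with non-trivial point stabilizers, and suppose every point stabilizer G_α acts primitively on each of its orbits. Then G_α acts faithfully on each of its orbits other than {α}: an element of G_α fixing every point of one such orbit is the identity. -/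
theorem result {G : Type*} [Group G] [Finite G] {Ω : Type*} [Fintype Ω] [MulAction G Ω] [FaithfulSMul G Ω] (hprim : MulAction.IsPreprimitive G Ω) (hH : ∀ α : Ω, MulAction.stabilizer G α ≠ ⊥) (hep : ∀ (α : Ω) (ω : Ω), MulAction.IsPreprimitive (MulAction.stabilizer G α) (MulAction.orbit (MulAction.stabilizer G α) ω))
    (α ω : Ω) (hω : ω ≠ α) (h : MulAction.stabilizer G α) (hfix : ∀ x ∈ MulAction.orbit (MulAction.stabilizer G α) ω, h • x = x) : h = 1 := by
  by_contra hne
  let K : Subgroup G := stabilizer G α ⊓ fixingSubgroup G (orbit (stabilizer G α) ω)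
  have hmem : ∀ g : G, g ∈ K ↔ g • α = α ∧ ∀ x ∈ orbit (stabilizer G α) ω, g • x = x := by
    intro g
    rw [Subgroup.mem_inf, mem_stabilizer_iff, mem_fixingSubgroup_iff]
  apply core hprim hep α ω hω K inf_le_left
  · intro g hg k hk
    rw [hmem] at hk ⊢
    have hgα : g • α = α := hg
    have hgα' : g⁻¹ • α = α := by rw [inv_smul_eq_iff, hgα]
    constructor
    · rw [mul_smul, mul_smul, hgα', hk.1, hgα]
    · intro x hx
      have hx' : g⁻¹ • x ∈ orbit (stabilizer G α) ω := by
        obtain ⟨s, rfl⟩ := hx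
        refine ⟨⟨g⁻¹, Subgroup.inv_mem _ hg⟩ * s, ?_⟩
        show ((g⁻¹ * (s : G)) : G) • ω = g⁻¹ • ((s : G) • ω)
        rw [mul_smul]
      rw [mul_smul, mul_smul, hk.2 _ hx', smul_inv_smul]
  · intro hbot
    apply hne
    apply Subtype.ext
    have : (h : G) ∈ K := (hmem _).mpr ⟨h.prop, hfix⟩
    rw [hbot, Subgroup.mem_bot] at this
    exact this
  · intro k hk
    exact ((hmem k).mp hk).2 ω (mem_orbit_self ω)

end Cfsg.Agent.S3494
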