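import Cfsg.Statements.S3495
import Mathlib
import Cfsg.Agent.S3494

set_option autoImplicit false
open Cfsg

namespace Cfsg.Agent.S3495

open MulAction
open scoped Pointwise

/-- Let a finite group G act faithfully and primitively on a finite set Ω with non-trivial point stabilizers, each acting primitively on every one of its orbits (an extremely primitive group), and suppose G has an elementary abelian normal p-subgroup N acting regularly on Ω (affine type). Then every non-trivial subgroup M of a point stabilizer G_α that is normal in G_α has the same orbits on Ω as G_α, and normalizes no subgroup of N other than 1 and N. -/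
theorem result {G : Type*} [Group G] [Finite G] {Ω : Type*} [Fintype Ω] [MulAction G Ω] [FaithfulSMul G Ω] (hprim : MulAction.IsPreprimitive G Ω) (hH : ∀ α : Ω, MulAction.stabilizer G α ≠ ⊥) (hep : ∀ (α : Ω) (ω : Ω), MulAction.IsPreprimitive (MulAction.stabilizer G α) (MulAction.orbit (MulAction.stabilizer G α) ω))
    (N : Subgroup G) [N.Normal] (hNc : IsMulCommutative N) (p : ℕ) (hp : p.Prime) (hNp : ∀ n ∈ N, n ^ p = 1)
    (hNtr : MulAction.IsPretransitive N Ω) (hNreg : ∀ ω : Ω, MulAction.stabilizer N ω = ⊥) (α : Ω) (M : Subgroup G) (hM : M ≠ ⊥) (hMle : M ≤ MulAction.stabilizer G α)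
    (hMn : MulAction.stabilizer G α ≤ Subgroup.normalizer (M : Set G)) :
    (∀ ω : Ω, MulAction.orbit M ω = MulAction.orbit (MulAction.stabilizer G α) ω) ∧
    (∀ L : Subgroup G, L ≤ N → M ≤ Subgroup.normalizer (L : Set G) → L = ⊥ ∨ L = N) := by
  classical
  haveI := hprim
  haveI := hNtr
  have hMn' : ∀ g ∈ stabilizer G α, ∀ k ∈ M, g * k * g⁻¹ ∈ M := fun g hg k hk =>
    (Subgroup.mem_normalizer_iff.mp (hMn hg) k).mp hk
  have hmove : ∀ ω : Ω, ω ≠ α → ∃ k ∈ M, k • ω ≠ ω := by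
    intro ω hω
    by_contra hcon
    push Not at hcon
    exact Cfsg.Agent.S3494.core hprim hep α ω hω M hMle hMn' hM hcon
  have horb : ∀ ω : Ω, orbit M ω = orbit (stabilizer G α) ω := by
    intro ω
    by_cases hω : ω = α
    · subst hω
      ext v
      constructor
      · rintro ⟨m, rfl⟩
        exact ⟨⟨m.val, hMle m.prop⟩, rfl⟩
      · rintro ⟨s, rfl⟩
        have h1 : (s : G) • ω = ω := s.prop
        have h2 : s • ω = ω := h1
        show s • ω ∈ orbit M ω
        rw [h2]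
        exact mem_orbit_self ω
    · ext v
      constructor
      · rintro ⟨m, rfl⟩
        exact ⟨⟨m.val, hMle m.prop⟩, rfl⟩
      · rintro ⟨s, rfl⟩
        obtain ⟨k, hk, hks⟩ := Cfsg.Agent.S3494.exists_smul_eq_of_normalized α ω (hep α ω) M hMle
          hMn' (hmove ω hω) s s.prop
        exact ⟨⟨k, hk⟩, hks⟩
  refine ⟨horb, ?_⟩
  intro L hLN hLM
  have hLM' : ∀ m ∈ M, ∀ l ∈ L, m * l * m⁻¹ ∈ L := fun m hm l hl =>
    (Subgroup.mem_normalizer_iff.mp (hLM hm) l).mp hl
  have hreg : ∀ n ∈ N, n • α = α → n = 1 := by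
    intro n hn hnα
    have h1 : (⟨n, hn⟩ : N) ∈ stabilizer N α := hnα
    rw [hNreg α, Subgroup.mem_bot] at h1
    exact congrArg Subtype.val h1
  let O : Set Ω := orbit L α
  have hOmem : ∀ v, v ∈ O ↔ ∃ l ∈ L, l • α = v := by
    intro v
    constructor
    · rintro ⟨l, rfl⟩
      exact ⟨l, l.prop, rfl⟩
    · rintro ⟨l, hl, rfl⟩
      exact ⟨⟨l, hl⟩, rfl⟩
  -- `O` is `M`-invariant
  have hOM : ∀ m ∈ M, ∀ v ∈ O, m • v ∈ O := by
    intro m hm v hv
    obtain ⟨l, hl, rfl⟩ := (hOmem v).mp hv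
    refine (hOmem _).mpr ⟨m * l * m⁻¹, hLM' m hm l hl, ?_⟩
    have h1 : m⁻¹ • α = α := by
      rw [inv_smul_eq_iff]
      exact (hMle hm).symm
    rw [mul_smul, mul_smul, h1]
  have hOS : ∀ s ∈ stabilizer G α, ∀ v ∈ O, s • v ∈ O := by
    intro s hs v hv
    have h1 : s • v ∈ orbit (stabilizer G α) v := ⟨⟨s, hs⟩, rfl⟩
    rw [← horb v] at h1
    obtain ⟨m, hm⟩ := h1
    have h2 : (m : G) • v = s • v := hm
    rw [← h2]
    exact hOM m m.prop v hv
  have hOS' : ∀ s ∈ stabilizer G α, s • O = O := by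
    intro s hs
    apply Set.Subset.antisymm
    · rintro _ ⟨v, hv, rfl⟩
      exact hOS s hs v hv
    · intro v hv
      refine ⟨s⁻¹ • v, hOS s⁻¹ (Subgroup.inv_mem _ hs) v hv, by simp⟩
  have hcomm : ∀ a ∈ N, ∀ b ∈ N, a * b = b * a := by
    intro a ha b hb
    have := hNc.is_comm.comm ⟨a, ha⟩ ⟨b, hb⟩
    exact congrArg Subtype.val this
  have hOn : ∀ n ∈ N, n • O = O ∨ Disjoint (n • O) O := by
    intro n hn
    by_cases hd : Disjoint (n • O) O
    · exact Or.inr hd
    left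
    obtain ⟨v, hv1, hv2⟩ := Set.not_disjoint_iff.mp hd
    obtain ⟨w, hw, rfl⟩ := hv1
    obtain ⟨l₁, hl₁, rfl⟩ := (hOmem w).mp hw
    obtain ⟨l₂, hl₂, hl₂'⟩ := (hOmem _).mp hv2
    have h1 : l₂⁻¹ * (n * l₁) = 1 := by
      apply hreg
      · exact mul_mem (inv_mem (hLN hl₂)) (mul_mem hn (hLN hl₁))
      · have hl₂'' : l₂ • α = n • (l₁ • α) := hl₂'
        rw [mul_smul, mul_smul, ← hl₂'', inv_smul_smul]
    have h2 : n = l₂ * l₁⁻¹ := by
      have h3 : n * l₁ = l₂ := by
        rw [inv_mul_eq_one] at h1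
        exact h1.symm
      rw [← h3]
      group
    have hnL : n ∈ L := h2 ▸ mul_mem hl₂ (inv_mem hl₁)
    apply Set.Subset.antisymm
    · rintro _ ⟨w', hw', rfl⟩
      obtain ⟨l, hl, rfl⟩ := (hOmem w').mp hw'
      refine (hOmem _).mpr ⟨n * l, mul_mem hnL hl, ?_⟩
      rw [mul_smul]
    · intro w' hw'
      obtain ⟨l, hl, rfl⟩ := (hOmem w').mp hw'
      refine ⟨n⁻¹ • (l • α), (hOmem _).mpr ⟨n⁻¹ * l, mul_mem (inv_mem hnL) hl, ?_⟩, by simp⟩
      rw [mul_smul]
  have hB : IsBlock G O := by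
    rw [isBlock_iff_smul_eq_or_disjoint]
    intro g
    obtain ⟨n, hn⟩ := exists_smul_eq N α (g • α)
    have hs : (n : G)⁻¹ * g ∈ stabilizer G α := by
      rw [mem_stabilizer_iff, mul_smul, inv_smul_eq_iff]
      exact hn.symm
    have h1 : g = (n : G) * ((n : G)⁻¹ * g) := by group
    have h2 : g • O = (n : G) • O := by
      rw [h1, mul_smul, hOS' _ hs]
    rw [h2]
    exact hOn n n.prop
  rcases hprim.isTrivialBlock_of_isBlock hB with hsub | hu
  · left
    rw [eq_bot_iff]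
    intro l hl
    rw [Subgroup.mem_bot]
    apply hreg l (hLN hl)
    exact hsub ((hOmem _).mpr ⟨l, hl, rfl⟩) ((hOmem _).mpr ⟨1, L.one_mem, one_smul _ _⟩)
  · right
    apply le_antisymm hLN
    intro n hn
    have h1 : n • α ∈ O := by
      rw [hu]
      exact Set.mem_univ _
    obtain ⟨l, hl, hl'⟩ := (hOmem _).mp h1
    have h2 : l⁻¹ * n = 1 := by
      apply hreg _ (mul_mem (inv_mem (hLN hl)) hn)
      rw [mul_smul, ← hl', inv_smul_smul]
    rw [inv_mul_eq_one] at h2
    rw [← h2]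
    exact hl

end Cfsg.Agent.S3495
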