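import Cfsg.Statements.S3496
import Mathlib
import Cfsg.Agent.S3494
import Cfsg.Agent.S3495
import Cfsg.Agent.Lib.Solvable.MinimalNormal
import Cfsg.Agent.Lib.Perm.Basic
import Cfsg.Agent.Lib.Frobenius.Norm

set_option autoImplicit false
set_option linter.style.haveILetI false
open Cfsg

namespace Cfsg.Agent.S3496

section Abs
variable {p : ℕ} [hp : Fact p.Prime]

theorem card_algEquiv {R : Type*} [CommRing R] [IsDomain R] [Finite R] [Algebra (ZMod p) R] (d : ℕ)
    (hcard : Nat.card R = p ^ d) : Nat.card (R ≃ₐ[ZMod p] R) = d := by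
  classical
  letI : Field R := (Finite.isDomain_to_isField R).toField
  haveI : FiniteDimensional (ZMod p) R := Module.Finite.of_finite
  haveI : IsGalois (ZMod p) R := inferInstance
  have h1 := IsGalois.card_aut_eq_finrank (ZMod p) R
  have h2 : Nat.card R = Nat.card (ZMod p) ^ Module.finrank (ZMod p) R :=
    Module.natCard_eq_pow_finrank
  rw [Nat.card_zmod, hcard] at h2
  rw [h1]
  exact (Nat.pow_right_injective hp.out.two_le h2).symm

variable {V : Type*} [AddCommGroup V] [Module (ZMod p) V] [Finite V]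

/-- Irreducibility under one operator. -/
def Irr (τ : Module.End (ZMod p) V) : Prop :=
  ∀ W : Submodule (ZMod p) V, (∀ w ∈ W, τ w ∈ W) → W = ⊥ ∨ W = ⊤

/-- The algebra generated by an operator. -/
abbrev RR (τ : Module.End (ZMod p) V) : Subalgebra (ZMod p) (Module.End (ZMod p) V) :=
  Algebra.adjoin (ZMod p) {τ}

theorem comm_gen (τ : Module.End (ZMod p) V) : ∀ a ∈ ({τ} : Set (Module.End (ZMod p) V)),
    ∀ b ∈ ({τ} : Set (Module.End (ZMod p) V)), a * b = b * a := by
  intro a ha b hb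
  rw [Set.mem_singleton_iff] at ha hb
  rw [ha, hb]

theorem comm_tau (τ : Module.End (ZMod p) V) {r : Module.End (ZMod p) V} (hr : r ∈ RR τ) :
    τ * r = r * τ := by
  induction hr using Algebra.adjoin_induction with
  | mem x hx => rw [Set.mem_singleton_iff] at hx; rw [hx]
  | algebraMap c => exact (Algebra.commutes c τ).symm
  | add x y _ _ hx hy => rw [mul_add, add_mul, hx, hy]
  | mul x y _ _ hx hy => rw [← mul_assoc, hx, mul_assoc, hy, mul_assoc]

theorem eq_zero_of_apply (τ : Module.End (ZMod p) V) (hirr : Irr τ) {r : Module.End (ZMod p) V}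
    (hr : r ∈ RR τ) {v : V} (hv : v ≠ 0) (hrv : r v = 0) : r = 0 := by
  have hc := comm_tau τ hr
  rcases hirr (LinearMap.ker r) (by
    intro w hw
    rw [LinearMap.mem_ker] at hw ⊢
    have : r (τ w) = (r * τ) w := rfl
    rw [this, ← hc]
    show τ (r w) = 0
    rw [hw, map_zero]) with h | h
  · exact absurd (by rw [← LinearMap.mem_ker, h, Submodule.mem_bot] at hrv; exact hrv) hv
  · exact LinearMap.ker_eq_top.mp h

theorem surj_apply (τ : Module.End (ZMod p) V) (hirr : Irr τ) {v : V} (hv : v ≠ 0) (w : V) :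
    ∃ r ∈ RR τ, r v = w := by
  let W : Submodule (ZMod p) V :=
    { carrier := {x | ∃ r ∈ RR τ, r v = x}
      add_mem' := by
        rintro _ _ ⟨a, ha, rfl⟩ ⟨b, hb, rfl⟩
        exact ⟨a + b, add_mem ha hb, rfl⟩
      zero_mem' := ⟨0, zero_mem _, rfl⟩
      smul_mem' := by
        rintro c _ ⟨a, ha, rfl⟩
        exact ⟨c • a, Subalgebra.smul_mem _ ha c, rfl⟩ }
  have hτ : τ ∈ RR τ := Algebra.subset_adjoin rfl
  rcases hirr W (by
    rintro _ ⟨a, ha, rfl⟩
    exact ⟨τ * a, mul_mem hτ ha, rfl⟩) with h | h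
  · exfalso
    have : v ∈ W := ⟨1, one_mem _, rfl⟩
    rw [h, Submodule.mem_bot] at this
    exact hv this
  · have : w ∈ W := by rw [h]; trivial
    exact this

/-- The commutative ring structure on the generated algebra. -/
@[reducible] noncomputable def crr (τ : Module.End (ZMod p) V) : CommRing (RR τ) :=
  Algebra.adjoinCommRingOfComm (ZMod p) (comm_gen τ)

theorem isDomain_rr [Nontrivial V] (τ : Module.End (ZMod p) V) (hirr : Irr τ) :
    letI := crr τ
    IsDomain (RR τ) := by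
  letI := crr τ
  obtain ⟨v, hv⟩ := exists_ne (0 : V)
  haveI : Nontrivial (RR τ) := by
    refine ⟨⟨0, 1, ?_⟩⟩
    intro h
    have h2 : ((0 : RR τ) : Module.End (ZMod p) V) = ((1 : RR τ) : Module.End (ZMod p) V) :=
      congrArg Subtype.val h
    have h3 : (0 : Module.End (ZMod p) V) v = (1 : Module.End (ZMod p) V) v := by
      simpa using congrArg (fun f : Module.End (ZMod p) V => f v) h2
    exact hv (by simpa using h3.symm)
  haveI : NoZeroDivisors (RR τ) := by
    refine ⟨fun {a b} hab => ?_⟩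
    by_cases hb : b = 0
    · exact Or.inr hb
    · left
      have hb' : (b : Module.End (ZMod p) V) ≠ 0 := fun h => hb (Subtype.ext h)
      obtain ⟨w, hw⟩ : ∃ w, (b : Module.End (ZMod p) V) w ≠ 0 := by
        by_contra hcon
        push Not at hcon
        exact hb' (LinearMap.ext hcon)
      have hab' : (a : Module.End (ZMod p) V) * (b : Module.End (ZMod p) V) = 0 :=
        congrArg Subtype.val hab
      have h3 : (a : Module.End (ZMod p) V) ((b : Module.End (ZMod p) V) w) = 0 := by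
        have := congrArg (fun f : Module.End (ZMod p) V => f w) hab'
        simpa using this
      exact Subtype.ext (eq_zero_of_apply τ hirr a.2 hw h3)
  exact NoZeroDivisors.to_isDomain _

theorem nonempty_equiv_rr [Nontrivial V] (τ : Module.End (ZMod p) V) (hirr : Irr τ) :
    Nonempty (RR τ ≃ V) := by
  obtain ⟨v, hv⟩ := exists_ne (0 : V)
  refine ⟨Equiv.ofBijective (fun r : RR τ => (r : Module.End (ZMod p) V) v) ⟨?_, ?_⟩⟩
  · intro a b hab
    apply Subtype.ext
    have h1 : ((a : Module.End (ZMod p) V) - b) v = 0 := by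
      simpa [sub_eq_zero] using hab
    have := eq_zero_of_apply τ hirr (sub_mem a.2 b.2) hv h1
    exact sub_eq_zero.mp this
  · intro w
    obtain ⟨r, hr, h⟩ := surj_apply τ hirr hv w
    exact ⟨⟨r, hr⟩, h⟩

theorem card_rr [Nontrivial V] (τ : Module.End (ZMod p) V) (hirr : Irr τ) :
    Nat.card (RR τ) = Nat.card V := by
  obtain ⟨e⟩ := nonempty_equiv_rr τ hirr
  exact Nat.card_congr e

theorem finite_rr [Nontrivial V] (τ : Module.End (ZMod p) V) (hirr : Irr τ) : Finite (RR τ) := by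
  obtain ⟨e⟩ := nonempty_equiv_rr τ hirr
  exact Finite.of_equiv V e.symm

/-- A generator of order dividing `q` with `q ∣ p^i - 1` forces the algebra to be small. -/
theorem not_dvd [Nontrivial V] (τ : Module.End (ZMod p) V) (hirr : Irr τ) (d i q : ℕ)
    (hcard : Nat.card V = p ^ d) (hτ : τ ^ q = 1) (hq : q ∣ p ^ i - 1) (hi0 : 0 < i) (hid : i < d) :
    False := by
  classical
  have hi1 : 1 < p ^ i := Nat.one_lt_pow hi0.ne' hp.out.one_lt
  have hτi : τ ^ (p ^ i) = τ := by
    obtain ⟨k, hk⟩ := hq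
    have : p ^ i = q * k + 1 := by omega
    rw [this, pow_succ, pow_mul, hτ, one_pow, one_mul]
  letI := crr τ
  haveI := isDomain_rr τ hirr
  haveI : Finite (RR τ) := finite_rr τ hirr
  haveI : CharP (RR τ) p := charP_of_injective_algebraMap (algebraMap (ZMod p) (RR τ)).injective p
  have hall : ∀ x : RR τ, x ^ (p ^ i) = x := by
    rintro ⟨y, hy⟩
    induction hy using Algebra.adjoin_induction with
    | mem x hx =>
      rw [Set.mem_singleton_iff] at hx
      subst hx
      exact Subtype.ext (by simpa using hτi)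
    | algebraMap c =>
      have : (⟨algebraMap (ZMod p) _ c, Subalgebra.algebraMap_mem _ c⟩ : RR τ) = algebraMap (ZMod p) (RR τ) c := rfl
      rw [this, ← map_pow, ZMod.pow_card_pow]
    | add x y hx hy h1 h2 =>
      have : (⟨x + y, add_mem hx hy⟩ : RR τ) = ⟨x, hx⟩ + ⟨y, hy⟩ := rfl
      rw [this, add_pow_char_pow, h1, h2]
    | mul x y hx hy h1 h2 =>
      have : (⟨x * y, mul_mem hx hy⟩ : RR τ) = ⟨x, hx⟩ * ⟨y, hy⟩ := rfl
      rw [this, mul_pow, h1, h2]
  cases nonempty_fintype (RR τ)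
  have hle : Fintype.card (RR τ) ≤ p ^ i := by
    let P : Polynomial (RR τ) := Polynomial.X ^ (p ^ i) - Polynomial.X
    have hdeg : P.natDegree = p ^ i := by
      have h1 : (Polynomial.X : Polynomial (RR τ)).natDegree
          < ((Polynomial.X : Polynomial (RR τ)) ^ (p ^ i)).natDegree := by simpa using hi1
      have := Polynomial.natDegree_sub_eq_left_of_natDegree_lt h1
      simpa [P] using this
    have hP0 : P ≠ 0 := by
      intro h
      rw [h, Polynomial.natDegree_zero] at hdeg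
      omega
    have hsub : (Finset.univ : Finset (RR τ)).val ⊆ P.roots := by
      intro x _
      rw [Polynomial.mem_roots hP0]
      simp [P, hall x, Polynomial.IsRoot]
    have := Polynomial.card_le_degree_of_subset_roots hsub
    rw [hdeg] at this
    simpa using this
  have h2 : Nat.card (RR τ) = p ^ d := by rw [card_rr τ hirr, hcard]
  rw [Nat.card_eq_fintype_card] at h2
  rw [h2] at hle
  have := Nat.pow_lt_pow_right hp.out.one_lt hid
  omega

theorem conj_mem {X : Type*} [Group X] (τ : Module.End (ZMod p) V) (ρ : X →* Module.End (ZMod p) V)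
    (x : X) (hx : ρ x * τ * ρ x⁻¹ ∈ RR τ) {r : Module.End (ZMod p) V} (hr : r ∈ RR τ) :
    ρ x * r * ρ x⁻¹ ∈ RR τ := by
  have hinv : ρ x⁻¹ * ρ x = 1 := by rw [← map_mul, inv_mul_cancel, map_one]
  induction hr using Algebra.adjoin_induction with
  | mem y hy =>
    rw [Set.mem_singleton_iff] at hy
    rw [hy]; exact hx
  | algebraMap c =>
    rw [Algebra.algebraMap_eq_smul_one, mul_smul_comm, smul_mul_assoc, mul_one, ← map_mul,
      mul_inv_cancel, map_one]
    exact Subalgebra.smul_mem _ (one_mem _) c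
  | add a b _ _ ha hb =>
    rw [mul_add, add_mul]; exact add_mem ha hb
  | mul a b _ _ ha hb =>
    have : ρ x * (a * b) * ρ x⁻¹ = (ρ x * a * ρ x⁻¹) * (ρ x * b * ρ x⁻¹) := by
      calc ρ x * (a * b) * ρ x⁻¹ = ρ x * a * 1 * b * ρ x⁻¹ := by simp [mul_assoc]
        _ = ρ x * a * (ρ x⁻¹ * ρ x) * b * ρ x⁻¹ := by rw [hinv]
        _ = _ := by simp only [mul_assoc]
    rw [this]; exact mul_mem ha hb

/-- The action on the generated algebra. -/
noncomputable def psi {X : Type*} [Group X] (τ : Module.End (ZMod p) V)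
    (ρ : X →* Module.End (ZMod p) V) (hρ : ∀ x, ρ x * τ * ρ x⁻¹ ∈ RR τ) :
    X →* (RR τ ≃ₐ[ZMod p] RR τ) :=
  MonoidHom.mk' (fun x =>
    { toFun := fun r => ⟨ρ x * r * ρ x⁻¹, conj_mem τ ρ x (hρ x) r.2⟩
      invFun := fun r => ⟨ρ x⁻¹ * r * ρ x⁻¹⁻¹, conj_mem τ ρ x⁻¹ (hρ x⁻¹) r.2⟩
      left_inv := fun r => Subtype.ext (by
        show ρ x⁻¹ * (ρ x * r * ρ x⁻¹) * ρ x⁻¹⁻¹ = r
        have h1 : ρ x⁻¹ * ρ x = 1 := by rw [← map_mul, inv_mul_cancel, map_one]
        have h2 : ρ x⁻¹ * ρ x⁻¹⁻¹ = 1 := by rw [← map_mul, mul_inv_cancel, map_one]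
        calc ρ x⁻¹ * (ρ x * r * ρ x⁻¹) * ρ x⁻¹⁻¹
            = (ρ x⁻¹ * ρ x) * r * (ρ x⁻¹ * ρ x⁻¹⁻¹) := by simp only [mul_assoc]
          _ = r := by rw [h1, h2, one_mul, mul_one])
      right_inv := fun r => Subtype.ext (by
        show ρ x * (ρ x⁻¹ * r * ρ x⁻¹⁻¹) * ρ x⁻¹ = r
        have h1 : ρ x * ρ x⁻¹ = 1 := by rw [← map_mul, mul_inv_cancel, map_one]
        have h2 : ρ x⁻¹⁻¹ * ρ x⁻¹ = 1 := by rw [← map_mul, inv_mul_cancel, map_one]
        calc ρ x * (ρ x⁻¹ * r * ρ x⁻¹⁻¹) * ρ x⁻¹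
            = (ρ x * ρ x⁻¹) * r * (ρ x⁻¹⁻¹ * ρ x⁻¹) := by simp only [mul_assoc]
          _ = r := by rw [h1, h2, one_mul, mul_one])
      map_mul' := fun a b => Subtype.ext (by
        show ρ x * ((a : Module.End (ZMod p) V) * b) * ρ x⁻¹
          = (ρ x * a * ρ x⁻¹) * (ρ x * b * ρ x⁻¹)
        have hinv : ρ x⁻¹ * ρ x = 1 := by rw [← map_mul, inv_mul_cancel, map_one]
        calc ρ x * ((a : Module.End (ZMod p) V) * b) * ρ x⁻¹ = ρ x * a * 1 * b * ρ x⁻¹ := by
              simp [mul_assoc]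
          _ = ρ x * a * (ρ x⁻¹ * ρ x) * b * ρ x⁻¹ := by rw [hinv]
          _ = _ := by simp only [mul_assoc])
      map_add' := fun a b => Subtype.ext (by
        show ρ x * ((a : Module.End (ZMod p) V) + b) * ρ x⁻¹
          = (ρ x * a * ρ x⁻¹) + (ρ x * b * ρ x⁻¹)
        rw [mul_add, add_mul])
      commutes' := fun c => Subtype.ext (by
        show ρ x * (algebraMap (ZMod p) (Module.End (ZMod p) V) c) * ρ x⁻¹ = algebraMap (ZMod p) _ c
        rw [Algebra.algebraMap_eq_smul_one, mul_smul_comm, smul_mul_assoc, mul_one, ← map_mul,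
          mul_inv_cancel, map_one]) })
    (fun a b => by
      apply AlgEquiv.ext
      intro r
      apply Subtype.ext
      show ρ (a * b) * r * ρ (a * b)⁻¹ = ρ a * (ρ b * r * ρ b⁻¹) * ρ a⁻¹
      rw [map_mul, mul_inv_rev, map_mul]
      simp only [mul_assoc])

/-- Linearization of an additive action. -/
noncomputable def endHom {G : Type*} [Group G] (ψ : G → (V →+ V)) (h1 : ∀ x, ψ 1 x = x)
    (hm : ∀ a b x, ψ (a * b) x = ψ a (ψ b x)) : G →* Module.End (ZMod p) V :=
  { toFun := fun h => (ψ h).toZModLinearMap p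
    map_one' := LinearMap.ext h1
    map_mul' := fun a b => LinearMap.ext (hm a b) }

theorem endHom_apply {G : Type*} [Group G] (ψ : G → (V →+ V)) (h1 : ∀ x, ψ 1 x = x)
    (hm : ∀ a b x, ψ (a * b) x = ψ a (ψ b x)) (g : G) (x : V) :
    endHom (p := p) ψ h1 hm g x = ψ g x := rfl

theorem abs_main [Nontrivial V] (τ : Module.End (ZMod p) V) (hirr : Irr τ) (d : ℕ)
    (hcard : Nat.card V = p ^ d) {X : Type*} [Group X] (ρ : X →* Module.End (ZMod p) V)
    (hρ : ∀ x, ρ x * τ * ρ x⁻¹ ∈ RR τ) :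
    ∃ C : Subgroup X, (∀ x, x ∈ C ↔ ρ x * τ * ρ x⁻¹ = τ) ∧ C.index ∣ d := by
  refine ⟨(psi τ ρ hρ).ker, fun x => ?_, ?_⟩
  · rw [MonoidHom.mem_ker]
    constructor
    · intro h
      have h2 := congrArg (fun f : RR τ ≃ₐ[ZMod p] RR τ => ((f ⟨τ, Algebra.subset_adjoin rfl⟩ : RR τ) : Module.End (ZMod p) V)) h
      exact h2
    · intro h
      apply AlgEquiv.ext
      rintro ⟨r, hr⟩
      apply Subtype.ext
      show ρ x * r * ρ x⁻¹ = r
      have hinv : ρ x⁻¹ * ρ x = 1 := by rw [← map_mul, inv_mul_cancel, map_one]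
      induction hr using Algebra.adjoin_induction with
      | mem y hy =>
        rw [Set.mem_singleton_iff] at hy
        rw [hy]; exact h
      | algebraMap c =>
        rw [Algebra.algebraMap_eq_smul_one, mul_smul_comm, smul_mul_assoc, mul_one, ← map_mul,
          mul_inv_cancel, map_one]
      | add a b _ _ ha hb =>
        rw [mul_add, add_mul, ha, hb]
      | mul a b _ _ ha hb =>
        calc ρ x * (a * b) * ρ x⁻¹ = ρ x * a * 1 * b * ρ x⁻¹ := by simp [mul_assoc]
          _ = ρ x * a * (ρ x⁻¹ * ρ x) * b * ρ x⁻¹ := by rw [hinv]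
          _ = (ρ x * a * ρ x⁻¹) * (ρ x * b * ρ x⁻¹) := by simp only [mul_assoc]
          _ = a * b := by rw [ha, hb]
  · rw [Subgroup.index_ker]
    letI := crr τ
    haveI := isDomain_rr τ hirr
    haveI : Finite (RR τ) := finite_rr τ hirr
    have hc := card_algEquiv (p := p) (R := RR τ) d (by rw [card_rr τ hirr, hcard])
    haveI : Finite (RR τ ≃ₐ[ZMod p] RR τ) := by
      apply Finite.of_injective (fun f : RR τ ≃ₐ[ZMod p] RR τ => (f : RR τ → RR τ))
      intro f g h
      exact AlgEquiv.coe_fun_injective h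
    have := Subgroup.card_subgroup_dvd_card (psi τ ρ hρ).range
    rw [hc] at this
    exact this

theorem ring_core {G : Type*} [Group G] (H : Subgroup G) [Nontrivial V] (cj : G → (V →+ V))
    (h1 : ∀ x, cj 1 x = x) (hm : ∀ a b x, cj (a * b) x = cj a (cj b x)) (d : ℕ)
    (hV : Nat.card V = p ^ d) (t : G) (q : ℕ) (htq : t ^ q = 1)
    (hW : ∀ W : Submodule (ZMod p) V, (∀ w ∈ W, cj t w ∈ W) → W = ⊥ ∨ W = ⊤)
    (hHn : ∀ h ∈ H, ∃ k : ℕ, h * t * h⁻¹ = t ^ k) :
    (∀ i, 0 < i → i < d → ¬ q ∣ p ^ i - 1) ∧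
    ∃ C : Subgroup H, (∀ h : H, h ∈ C ↔ ∀ x, cj ((h : G) * t * (h : G)⁻¹) x = cj t x) ∧
      C.index ∣ d := by
  let φ₀ : G →* Module.End (ZMod p) V := endHom cj h1 hm
  let τ : Module.End (ZMod p) V := φ₀ t
  have hIrr : Irr τ := hW
  have hτq : τ ^ q = 1 := by
    show (φ₀ t) ^ q = 1
    rw [← map_pow, htq, map_one]
  refine ⟨fun i hi0 hid hdv => not_dvd τ hIrr d i q hV hτq hdv hi0 hid, ?_⟩
  let ρ : H →* Module.End (ZMod p) V := φ₀.comp H.subtype
  have hρ : ∀ x : H, ρ x * τ * ρ x⁻¹ ∈ RR τ := by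
    intro x
    obtain ⟨k, hk⟩ := hHn x x.2
    have : ρ x * τ * ρ x⁻¹ = τ ^ k := by
      show φ₀ (x : G) * φ₀ t * φ₀ ((x : G)⁻¹) = (φ₀ t) ^ k
      rw [← map_mul, ← map_mul, hk, map_pow]
    rw [this]
    exact pow_mem (Algebra.subset_adjoin (Set.mem_singleton τ)) k
  obtain ⟨C, hC, hCd⟩ := abs_main τ hIrr d hV ρ hρ
  refine ⟨C, fun h => ?_, hCd⟩
  have e1 : ρ h * τ * ρ h⁻¹ = φ₀ ((h : G) * t * (h : G)⁻¹) := by
    have e2 : ρ h⁻¹ = φ₀ ((h : G)⁻¹) := rfl
    have e3 : ρ h = φ₀ (h : G) := rfl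
    rw [e2, e3, ← map_mul, ← map_mul]
  have e4 : ∀ (g : G) (x : V), φ₀ g x = cj g x := fun _ _ => rfl
  refine (hC h).trans ?_
  rw [e1]
  constructor
  · intro he x
    rw [← e4, he]
    exact e4 _ _
  · intro he
    apply LinearMap.ext
    intro x
    rw [e4, he]
    exact (e4 _ _).symm

end Abs

theorem ring_part {G : Type*} [Group G] (N : Subgroup G) [hNn : N.Normal] [Finite N]
    (hcomm : ∀ a ∈ N, ∀ b ∈ N, a * b = b * a) (p : ℕ) [hp : Fact p.Prime]
    (hexp : ∀ x ∈ N, x ^ p = 1) (d : ℕ) (hcard : Nat.card N = p ^ d) (hNne : N ≠ ⊥)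
    (H : Subgroup G) (t : G) (q : ℕ) (htq : t ^ q = 1)
    (hirr : ∀ L : Subgroup G, L ≤ N → (∀ l ∈ L, t * l * t⁻¹ ∈ L) → L = ⊥ ∨ L = N)
    (hHn : ∀ h ∈ H, ∃ k : ℕ, h * t * h⁻¹ = t ^ k) :
    (∀ i, 0 < i → i < d → ¬ q ∣ p ^ i - 1) ∧
    ∃ C : Subgroup H, (∀ h : H, h ∈ C ↔ ∀ n ∈ N,
      ((h : G) * t * (h : G)⁻¹) * n * ((h : G) * t * (h : G)⁻¹)⁻¹ = t * n * t⁻¹) ∧ C.index ∣ d := by
  classical
  letI iCG : CommGroup N :=
    { (inferInstance : Group N) with
      mul_comm := fun a b => Subtype.ext (hcomm a a.prop b b.prop) }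
  haveI iFin : Finite (Additive N) := inferInstanceAs (Finite N)
  letI iM : Module (ZMod p) (Additive N) := AddCommGroup.zmodModule (n := p) (by
    intro x
    apply Additive.toMul.injective
    apply Subtype.ext
    simpa using hexp _ x.toMul.2)
  let cj : G → (Additive N →+ Additive N) := fun h =>
    { toFun := fun x => Additive.ofMul (⟨h * (x.toMul : N).val * h⁻¹, hNn.conj_mem _ x.toMul.2 h⟩ : N)
      map_zero' := by
        apply Additive.toMul.injective
        apply Subtype.ext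
        simp
      map_add' := fun x y => by
        apply Additive.toMul.injective
        apply Subtype.ext
        simp }
  have hcj : ∀ h (x : Additive N), ((cj h x).toMul : N).val = h * (x.toMul : N).val * h⁻¹ :=
    fun _ _ => rfl
  haveI iNt : Nontrivial (Additive N) := by
    obtain ⟨x, hx, hx1⟩ : ∃ x ∈ N, x ≠ 1 := by
      by_contra hcon
      push Not at hcon
      exact hNne ((Subgroup.eq_bot_iff_forall _).mpr hcon)
    refine ⟨⟨Additive.ofMul (⟨x, hx⟩ : N), 0, fun h => hx1 ?_⟩⟩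
    have := congrArg (fun y : Additive N => ((y.toMul : N) : G)) h
    simpa using this
  have hV : Nat.card (Additive N) = p ^ d := by rw [← hcard]; exact Nat.card_congr Additive.toMul
  obtain ⟨h1, C, hC, hCd⟩ := ring_core (p := p) (V := Additive N) H cj
    (fun x => by
      apply Additive.toMul.injective
      apply Subtype.ext
      rw [hcj]
      simp)
    (fun a b x => by
      apply Additive.toMul.injective
      apply Subtype.ext
      rw [hcj, hcj, hcj]
      group) d hV t q htq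
    (by
      intro W hW
      let L : Subgroup G :=
        { carrier := {g | ∃ hg : g ∈ N, Additive.ofMul (⟨g, hg⟩ : N) ∈ W}
          mul_mem' := by
            rintro a b ⟨ha, ha'⟩ ⟨hb, hb'⟩
            exact ⟨mul_mem ha hb, add_mem ha' hb'⟩
          one_mem' := ⟨one_mem _, zero_mem W⟩
          inv_mem' := by
            rintro a ⟨ha, ha'⟩
            exact ⟨inv_mem ha, neg_mem ha'⟩ }
      have hLN : L ≤ N := fun g hg => hg.1
      have hLt : ∀ l ∈ L, t * l * t⁻¹ ∈ L := by
        rintro l ⟨hl, hl'⟩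
        exact ⟨hNn.conj_mem _ hl t, hW _ hl'⟩
      rcases hirr L hLN hLt with h | h
      · left
        rw [eq_bot_iff]
        intro w hw
        have h1 : (w.toMul : N).val ∈ L := ⟨w.toMul.2, hw⟩
        rw [h, Subgroup.mem_bot] at h1
        rw [Submodule.mem_bot]
        apply Additive.toMul.injective
        exact Subtype.ext h1
      · right
        rw [eq_top_iff]
        intro w _
        have h1 : (w.toMul : N).val ∈ L := by rw [h]; exact w.toMul.2
        exact h1.2) hHn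
  refine ⟨h1, C, fun h => ?_, hCd⟩
  rw [hC]
  constructor
  · intro he n hn
    have h2 := congrArg (fun y : Additive N => ((y.toMul : N) : G)) (he (Additive.ofMul (⟨n, hn⟩ : N)))
    exact h2
  · intro he x
    apply Additive.toMul.injective
    apply Subtype.ext
    rw [hcj, hcj]
    exact he _ (x.toMul : N).2


open MulAction Cfsg.Agent.Lib.Solvable.MinimalNormal

/-- The soluble extremely primitive groups. Let a finite solvable group G act faithfully and primitively on a finite set Ω with p ^ d points (p prime), with non-trivial point stabilizers each acting primitively on every one of its orbits. Then there is a prime q such that every orbit of a point stabilizer G_α other than {α} has exactly q points, q divides p ^ d − 1 but no p ^ i − 1 with 0 < i < d, and G_α has a normal subgroup T of order q with G_α generated by T and one further element and the order of G_α dividing q·d (so G_α is cyclic of order q, or an extension of T by a cyclic group of order dividing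 d). -/
theorem result {G : Type*} [Group G] [Finite G] {Ω : Type*} [Fintype Ω] [MulAction G Ω] [FaithfulSMul G Ω] [Group.IsSolvable G] (p d : ℕ) (hp : p.Prime) (hcard : Fintype.card Ω = p ^ d)
    (hprim : MulAction.IsPreprimitive G Ω) (hH : ∀ α : Ω, MulAction.stabilizer G α ≠ ⊥) (hep : ∀ (α : Ω) (ω : Ω), MulAction.IsPreprimitive (MulAction.stabilizer G α) (MulAction.orbit (MulAction.stabilizer G α) ω)) (α : Ω) :
    ∃ q : ℕ, q.Prime ∧ (∀ ω : Ω, ω ≠ α → Nat.card (MulAction.orbit (MulAction.stabilizer G α) ω) = q) ∧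
      q ∣ p ^ d - 1 ∧ (∀ i : ℕ, 0 < i → i < d → ¬ q ∣ p ^ i - 1) ∧
      ∃ T : Subgroup G, T ≤ MulAction.stabilizer G α ∧ MulAction.stabilizer G α ≤ Subgroup.normalizer (T : Set G) ∧ Nat.card T = q ∧
        (∃ h : G, MulAction.stabilizer G α = T ⊔ Subgroup.zpowers h) ∧ Nat.card (MulAction.stabilizer G α) ∣ q * d := by
  classical
  haveI := hprim
  haveI hpF : Fact p.Prime := ⟨hp⟩
  have hHα := hH α
  haveI : Nontrivial G := by
    by_contra hn
    rw [not_nontrivial_iff_subsingleton] at hn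
    exact hHα (Subsingleton.elim _ _)
  obtain ⟨N, hNmin⟩ := exists_isMinNormal (G := G)
  haveI hNn : N.Normal := hNmin.normal
  obtain ⟨r, hr, hNr, hNc, hNexp⟩ := hNmin.exists_isPGroup
  have hNne : N ≠ ⊥ := hNmin.ne_bot
  haveI hNtr : IsPretransitive N Ω :=
    Cfsg.Agent.Lib.Perm.Basic.isPretransitive_of_normal_of_ne_bot N hNne
  have hNcomm : ∀ a ∈ N, ∀ b ∈ N, a * b = b * a := fun a ha b hb =>
    congrArg Subtype.val (hNc.is_comm.comm (⟨a, ha⟩ : N) ⟨b, hb⟩)
  -- regular
  have hNreg : ∀ ω : Ω, stabilizer N ω = ⊥ := by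
    intro ω
    rw [eq_bot_iff]
    intro m hm
    rw [Subgroup.mem_bot]
    have hm' : m • ω = ω := hm
    have hall : ∀ x : Ω, (m : G) • x = x := by
      intro x
      obtain ⟨n, rfl⟩ := exists_smul_eq N ω x
      show (m : G) • ((n : G) • ω) = (n : G) • ω
      rw [smul_smul, hNcomm _ m.2 _ n.2, mul_smul]
      congr 1
    have h1 : (m : G) = 1 := by
      apply FaithfulSMul.eq_of_smul_eq_smul (α := Ω)
      intro x
      rw [hall x, one_smul]
    exact Subtype.ext h1
  have hNcard : Nat.card N = p ^ d := by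
    have h1 := Nat.card_congr (MulAction.orbitProdStabilizerEquivGroup N α)
    rw [Nat.card_prod, hNreg α, Subgroup.card_bot, mul_one, orbit_eq_univ, Nat.card_coe_set_eq,
      Set.ncard_univ, Nat.card_eq_fintype_card, hcard] at h1
    exact h1.symm
  -- the exponent prime is `p`
  have hrp : r = p := by
    obtain ⟨x, hx, hx1⟩ : ∃ x ∈ N, x ≠ 1 := by
      by_contra hcon
      push Not at hcon
      exact hNne ((Subgroup.eq_bot_iff_forall _).mpr hcon)
    haveI : Fact r.Prime := ⟨hr⟩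
    have hox : orderOf (⟨x, hx⟩ : N) = r := by
      apply orderOf_eq_prime
      · exact Subtype.ext (hNexp x hx)
      · intro h
        exact hx1 (congrArg Subtype.val h)
    have : r ∣ p ^ d := by
      rw [← hNcard, ← hox]
      exact orderOf_dvd_natCard _
    exact (Nat.prime_dvd_prime_iff_eq hr hp).mp (hr.dvd_of_dvd_pow this)
  have hpr : p = r := hrp.symm
  subst hpr
  -- a minimal normal subgroup of the stabilizer
  set H := stabilizer G α with hHdef
  haveI : Nontrivial H := (Subgroup.nontrivial_iff_ne_bot H).mpr hHα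
  haveI : Group.IsSolvable H := inferInstance
  obtain ⟨T₀, hT₀⟩ := exists_isMinNormal (G := H)
  haveI hT₀n : T₀.Normal := hT₀.normal
  obtain ⟨q, hq, hT₀q, hT₀c, hT₀exp⟩ := hT₀.exists_isPGroup
  let M : Subgroup G := T₀.map H.subtype
  have hMmem : ∀ x, x ∈ M ↔ ∃ hx : x ∈ H, (⟨x, hx⟩ : H) ∈ T₀ := by
    intro x
    constructor
    · rintro ⟨y, hy, rfl⟩
      exact ⟨y.2, hy⟩
    · rintro ⟨hx, hx'⟩
      exact ⟨_, hx', rfl⟩
  have hMle : M ≤ H := by
    intro x hx
    exact ((hMmem x).mp hx).1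
  have hMn : H ≤ Subgroup.normalizer (M : Set G) := by
    intro g hg
    rw [Subgroup.mem_normalizer_iff]
    intro x
    constructor
    · intro hx
      obtain ⟨hx1, hx2⟩ := (hMmem x).mp hx
      rw [hMmem]
      refine ⟨H.mul_mem (H.mul_mem hg hx1) (H.inv_mem hg), ?_⟩
      exact hT₀n.conj_mem _ hx2 ⟨g, hg⟩
    · intro hx
      obtain ⟨hx1, hx2⟩ := (hMmem _).mp hx
      rw [hMmem]
      have hxH : x ∈ H := by
        have : x = g⁻¹ * (g * x * g⁻¹) * g := by group
        rw [this]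
        exact H.mul_mem (H.mul_mem (H.inv_mem hg) hx1) hg
      refine ⟨hxH, ?_⟩
      have h3 := hT₀n.conj_mem _ hx2 (⟨g, hg⟩ : H)⁻¹
      convert h3 using 1
      apply Subtype.ext
      simp only [Subgroup.coe_mul, InvMemClass.coe_inv]
      group
  have hMne : M ≠ ⊥ := by
    intro h
    apply hT₀.ne_bot
    rw [eq_bot_iff]
    intro x hx
    have : (x : G) ∈ M := (hMmem _).mpr ⟨x.2, hx⟩
    rw [h, Subgroup.mem_bot] at this
    rw [Subgroup.mem_bot]
    exact Subtype.ext this
  have hMcomm : ∀ a ∈ M, ∀ b ∈ M, a * b = b * a := by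
    intro a ha b hb
    obtain ⟨ha1, ha2⟩ := (hMmem a).mp ha
    obtain ⟨hb1, hb2⟩ := (hMmem b).mp hb
    have := hT₀c.is_comm.comm (⟨⟨a, ha1⟩, ha2⟩ : T₀) ⟨⟨b, hb1⟩, hb2⟩
    exact congrArg (fun z : T₀ => ((z : H) : G)) this
  have hMexp : ∀ x ∈ M, x ^ q = 1 := by
    intro x hx
    obtain ⟨hx1, hx2⟩ := (hMmem x).mp hx
    have := hT₀exp _ hx2
    exact congrArg Subtype.val this
  obtain ⟨horb, hirrM⟩ := Cfsg.Agent.S3495.result hprim hH hep N hNc p hp hNexp hNtr hNreg α M hMne
    hMle hMn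
  -- freeness
  have hfree : ∀ ω : Ω, ω ≠ α → ∀ m ∈ M, m • ω = ω → m = 1 := by
    intro ω hω m hm hmω
    have h1 := Cfsg.Agent.S3494.result hprim hH hep α ω hω ⟨m, hMle hm⟩ (by
      intro x hx
      rw [← horb ω] at hx
      obtain ⟨m', rfl⟩ := hx
      show m • ((m' : G) • ω) = (m' : G) • ω
      rw [smul_smul, hMcomm m hm m' m'.2, mul_smul, hmω])
    exact congrArg Subtype.val h1
  haveI hqF : Fact q.Prime := ⟨hq⟩
  haveI : IsMulCommutative N := hNc
  have hMq : IsPGroup q M := by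
    intro x
    exact ⟨1, Subtype.ext (by simpa using hMexp x x.2)⟩
  -- a point different from `α`
  obtain ⟨ω₀, hω₀⟩ : ∃ ω : Ω, ω ≠ α := by
    obtain ⟨g, hg, hg1⟩ : ∃ g ∈ H, g ≠ 1 := by
      by_contra hcon
      push Not at hcon
      exact hHα ((Subgroup.eq_bot_iff_forall _).mpr hcon)
    by_contra hcon
    push Not at hcon
    apply hg1
    apply FaithfulSMul.eq_of_smul_eq_smul (α := Ω)
    intro x
    rw [hcon x, one_smul, ← hcon α]
    exact hg
  have hNfix : ∀ v ∈ N, v • α = α → v = 1 := by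
    intro v hv hvα
    have h1 : (⟨v, hv⟩ : N) ∈ stabilizer N α := hvα
    rw [hNreg α, Subgroup.mem_bot] at h1
    exact congrArg Subtype.val h1
  -- `M` acts with prime order
  have hMcard : Nat.card M = q := by
    obtain ⟨k, hk⟩ := (IsPGroup.iff_card).mp hMq
    have hk0 : k ≠ 0 := by
      rintro rfl
      rw [pow_zero] at hk
      apply hMne
      have := Subgroup.eq_bot_of_card_eq (H := M) hk
      exact this
    have hk1 : k = 1 := by
      by_contra hk1
      have h2 : 2 ≤ k := by omega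
      have hdvd : q ^ 2 ∣ Nat.card M := by
        rw [hk]
        exact pow_dvd_pow q h2
      obtain ⟨E', hE'⟩ := Sylow.exists_subgroup_card_pow_prime q hdvd
      let E : Subgroup G := E'.map M.subtype
      have hEcard : Nat.card E = q ^ 2 := by
        rw [← hE']
        exact Nat.card_congr (Subgroup.equivMapOfInjective E' M.subtype M.subtype_injective).symm.toEquiv
      have hEM : E ≤ M := by
        rintro _ ⟨y, -, rfl⟩
        exact y.2
      refine Cfsg.Agent.Lib.Frobenius.Norm.no_elementary_of_fpf E N hNne ?_ ?_ hEcard ?_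
      · intro a _
        refine Subgroup.mem_normalizer_iff.mpr (fun x => ⟨fun hx => hNn.conj_mem x hx a, fun hx => ?_⟩)
        have h1 := hNn.conj_mem _ hx a⁻¹
        have e : a⁻¹ * (a * x * a⁻¹) * a⁻¹⁻¹ = x := by group
        rwa [e] at h1
      · intro a ha ha1 v hv hav
        have haM := hEM ha
        have haα : a • α = α := hMle haM
        apply hNfix v hv
        by_contra hne
        apply ha1
        refine hfree (v • α) hne a haM ?_
        rw [smul_smul, hav, mul_smul, haα]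
      · intro a ha
        exact hMexp a (hEM ha)
    rw [hk, hk1, pow_one]
  -- `q ∣ p ^ d - 1`
  have hqdvd : q ∣ p ^ d - 1 := by
    have hfix : Nat.card (fixedPoints M Ω) = 1 := by
      rw [Nat.card_eq_one_iff_unique]
      refine ⟨⟨?_⟩, ⟨⟨α, fun m => hMle m.2⟩⟩⟩
      rintro ⟨x, hx⟩ ⟨y, hy⟩
      have hall : ∀ z : Ω, z ∈ fixedPoints M Ω → z = α := by
        intro z hz
        by_contra hne
        apply hMne
        rw [Subgroup.eq_bot_iff_forall]
        intro m hm
        exact hfree z hne m hm (hz ⟨m, hm⟩)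
      exact Subtype.ext ((hall x hx).trans (hall y hy).symm)
    have hmod := hMq.card_modEq_card_fixedPoints Ω
    rw [hfix, Nat.card_eq_fintype_card, hcard] at hmod
    exact (Nat.modEq_iff_dvd' (Nat.one_le_pow _ _ hp.pos)).mp hmod.symm
  -- orbit sizes
  have hOrb : ∀ ω : Ω, ω ≠ α → Nat.card (orbit H ω) = q := by
    intro ω hω
    rw [← horb ω, ← hMcard]
    have h1 := Nat.card_congr (MulAction.orbitProdStabilizerEquivGroup M ω)
    have h2 : stabilizer M ω = ⊥ := by
      rw [eq_bot_iff]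
      intro m hm
      rw [Subgroup.mem_bot]
      exact Subtype.ext (hfree ω hω m m.2 hm)
    rw [Nat.card_prod, h2, Subgroup.card_bot, mul_one] at h1
    exact h1
  -- centralizer of `M` in `H`
  have hCent : ∀ c ∈ H, (∀ m ∈ M, c * m = m * c) → c ∈ M := by
    intro c hc hcm
    have h1 : c • ω₀ ∈ orbit H ω₀ := ⟨⟨c, hc⟩, rfl⟩
    rw [← horb ω₀] at h1
    obtain ⟨m, hm⟩ := h1
    have hm' : (m : G) • ω₀ = c • ω₀ := hm
    have hfx : ((m : G)⁻¹ * c) • ω₀ = ω₀ := by
      rw [mul_smul, ← hm', smul_smul, inv_mul_cancel, one_smul]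
    have hmH : (m : G)⁻¹ * c ∈ H := H.mul_mem (H.inv_mem (hMle m.2)) hc
    have h2 := Cfsg.Agent.S3494.result hprim hH hep α ω₀ hω₀ ⟨_, hmH⟩ (by
      intro x hx
      rw [← horb ω₀] at hx
      obtain ⟨m', rfl⟩ := hx
      show ((m : G)⁻¹ * c) • ((m' : G) • ω₀) = (m' : G) • ω₀
      have e : ((m : G)⁻¹ * c) * (m' : G) = (m' : G) * ((m : G)⁻¹ * c) := by
        rw [mul_assoc, hcm _ m'.2, ← mul_assoc, ← mul_assoc, hMcomm _ (M.inv_mem m.2) _ m'.2]
      rw [smul_smul, e, mul_smul, hfx])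
    have h3 : (m : G)⁻¹ * c = 1 := congrArg Subtype.val h2
    have h4 : c = m := by
      rw [inv_mul_eq_one] at h3
      exact h3.symm
    rw [h4]
    exact m.2
  -- a generator of `M`
  obtain ⟨t, htM, ht1⟩ : ∃ t ∈ M, t ≠ 1 := by
    by_contra hcon
    push Not at hcon
    exact hMne ((Subgroup.eq_bot_iff_forall _).mpr hcon)
  have htq : t ^ q = 1 := hMexp t htM
  have hto : orderOf t = q := orderOf_eq_prime htq ht1
  have hMzp : Subgroup.zpowers t = M := by
    apply Subgroup.eq_of_le_of_card_ge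
    · exact (Subgroup.zpowers_le).mpr htM
    · rw [hMcard, Nat.card_zpowers, hto]
  have hirr : ∀ L : Subgroup G, L ≤ N → (∀ l ∈ L, t * l * t⁻¹ ∈ L) → L = ⊥ ∨ L = N := by
    intro L hLN hL
    apply hirrM L hLN
    have hk : ∀ k : ℕ, ∀ l ∈ L, t ^ k * l * (t ^ k)⁻¹ ∈ L := by
      intro k
      induction k with
      | zero =>
        intro l hl
        simpa using hl
      | succ k ih =>
        intro l hl
        have h1 := hL _ (ih l hl)
        have e : t ^ (k + 1) * l * (t ^ (k + 1))⁻¹ = t * (t ^ k * l * (t ^ k)⁻¹) * t⁻¹ := by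
          rw [pow_succ']
          group
        rw [e]
        exact h1
    have hinv : t ^ (q - 1) = t⁻¹ := by
      apply eq_inv_of_mul_eq_one_left
      rw [← pow_succ, Nat.sub_add_cancel hq.one_le, htq]
    rw [← hMzp, Subgroup.zpowers_le, Subgroup.mem_normalizer_iff]
    intro x
    constructor
    · exact hL x
    · intro hx
      have h1 := hk (q - 1) _ hx
      rw [hinv] at h1
      have e : t⁻¹ * (t * x * t⁻¹) * t⁻¹⁻¹ = x := by group
      rw [e] at h1
      exact h1
  have hHn : ∀ h ∈ H, ∃ k : ℕ, h * t * h⁻¹ = t ^ k := by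
    intro h hh
    have h1 : h * t * h⁻¹ ∈ M := (Subgroup.mem_normalizer_iff.mp (hMn hh) t).mp htM
    rw [← hMzp] at h1
    obtain ⟨k, hk⟩ := mem_powers_iff_mem_zpowers.mpr h1
    exact ⟨k, hk.symm⟩
  haveI : Finite N := inferInstance
  obtain ⟨hnodvd, C, hC, hCd⟩ := ring_part N hNcomm p hNexp d hNcard hNne H t q htq hirr hHn
  -- the subgroup `C` is `T₀`
  have hCT : C = T₀ := by
    ext h
    rw [hC]
    constructor
    · intro hh
      have hhM : (h : G) * t * (h : G)⁻¹ ∈ M :=
        (Subgroup.mem_normalizer_iff.mp (hMn h.2) t).mp htM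
      set y : G := t⁻¹ * ((h : G) * t * (h : G)⁻¹) with hy
      have hyM : y ∈ M := M.mul_mem (M.inv_mem htM) hhM
      have hyc : ∀ n ∈ N, y * n = n * y := by
        intro n hn
        have h1 := hh n hn
        have e : y * n * y⁻¹ = n := by
          rw [hy]
          calc t⁻¹ * ((h : G) * t * (h : G)⁻¹) * n * (t⁻¹ * ((h : G) * t * (h : G)⁻¹))⁻¹
              = t⁻¹ * (((h : G) * t * (h : G)⁻¹) * n * ((h : G) * t * (h : G)⁻¹)⁻¹) * t := by group
            _ = t⁻¹ * (t * n * t⁻¹) * t := by rw [h1]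
            _ = n := by group
        calc y * n = (y * n * y⁻¹) * y := by group
          _ = n * y := by rw [e]
      have hy1 : y = 1 := by
        apply FaithfulSMul.eq_of_smul_eq_smul (α := Ω)
        intro x
        obtain ⟨n, rfl⟩ := exists_smul_eq N α x
        show y • ((n : G) • α) = (1 : G) • ((n : G) • α)
        rw [one_smul, smul_smul, hyc _ n.2, mul_smul]
        congr 1
        exact hMle hyM
      have hcomm : (h : G) * t = t * h := by
        have h5 : (h : G) * t * (h : G)⁻¹ = t := by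
          rw [hy] at hy1
          exact (inv_mul_eq_one.mp hy1).symm
        calc (h : G) * t = ((h : G) * t * (h : G)⁻¹) * h := by group
          _ = t * h := by rw [h5]
      have hhcM : (h : G) ∈ M := by
        apply hCent _ h.2
        intro m hm
        rw [← hMzp] at hm
        obtain ⟨k, rfl⟩ := hm
        exact ((Commute.zpow_right (a := (h : G)) (b := t) hcomm k))
      obtain ⟨_, h6⟩ := (hMmem _).mp hhcM
      exact h6
    · intro hh n hn
      have hhM : (h : G) ∈ M := (hMmem _).mpr ⟨h.2, hh⟩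
      have h5 : (h : G) * t * (h : G)⁻¹ = t := by
        rw [hMcomm _ hhM _ htM]
        group
      rw [h5]
  have hT₀card : Nat.card T₀ = q := by
    rw [← hMcard]
    exact Nat.card_congr (Subgroup.equivMapOfInjective T₀ H.subtype H.subtype_injective).toEquiv
  refine ⟨q, hq, hOrb, hqdvd, hnodvd, M, hMle, hMn, hMcard, ?_, ?_⟩
  · -- cyclicity of the quotient
    haveI hT₀cyc : IsCyclic T₀ := isCyclic_of_prime_card hT₀card
    haveI hunits : IsCyclic (ZMod (Nat.card T₀))ˣ := by
      rw [hT₀card]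
      infer_instance
    haveI hAut : IsCyclic (MulAut T₀) :=
      isCyclic_of_injective (IsCyclic.mulAutMulEquiv T₀).toMonoidHom
        (IsCyclic.mulAutMulEquiv T₀).injective
    let φ : H →* MulAut T₀ := MulAut.conjNormal
    obtain ⟨g₀, hg₀⟩ := IsCyclic.exists_generator (α := φ.range)
    obtain ⟨h₀, hh₀⟩ := g₀.2
    refine ⟨h₀, le_antisymm ?_ (sup_le hMle ?_)⟩
    · intro x hx
      obtain ⟨k, hk⟩ := hg₀ ⟨φ ⟨x, hx⟩, ⟨_, rfl⟩⟩
      have hk' : (g₀ : MulAut T₀) ^ k = φ ⟨x, hx⟩ := congrArg Subtype.val hk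
      rw [← hh₀, ← map_zpow] at hk'
      -- `x * h₀^(-k)` centralizes `T₀`
      have hy : ((h₀ ^ k)⁻¹ * (⟨x, hx⟩ : H) : H) ∈ φ.ker := by
        rw [MonoidHom.mem_ker, map_mul, map_inv, hk', inv_mul_cancel]
      have hyM : (((h₀ ^ k)⁻¹ * (⟨x, hx⟩ : H) : H) : G) ∈ M := by
        apply hCent _ (Subtype.property _)
        intro m hm
        obtain ⟨hm1, hm2⟩ := (hMmem m).mp hm
        have h7 := congrArg (fun f : MulAut T₀ => f ⟨⟨m, hm1⟩, hm2⟩) hy
        have h8 : φ ((h₀ ^ k)⁻¹ * (⟨x, hx⟩ : H)) ⟨⟨m, hm1⟩, hm2⟩ = ⟨⟨m, hm1⟩, hm2⟩ :=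
          MonoidHom.mem_ker.mp hy ▸ rfl
        have h9 := congrArg (fun z : T₀ => ((z : H) : G)) h8
        have h10 : (((h₀ ^ k)⁻¹ * (⟨x, hx⟩ : H) : H) : G) * m * (((h₀ ^ k)⁻¹ * (⟨x, hx⟩ : H) : H) : G)⁻¹ = m := h9
        calc _ = ((((h₀ ^ k)⁻¹ * (⟨x, hx⟩ : H) : H) : G) * m * (((h₀ ^ k)⁻¹ * (⟨x, hx⟩ : H) : H) : G)⁻¹) * (((h₀ ^ k)⁻¹ * (⟨x, hx⟩ : H) : H) : G) := by group
          _ = _ := by rw [h10]
      have e : x = ((h₀ : G) ^ k) * (((h₀ ^ k)⁻¹ * (⟨x, hx⟩ : H) : H) : G) := by
        simp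
      rw [e]
      exact Subgroup.mul_mem _ (Subgroup.mem_sup_right (Subgroup.zpow_mem _ (Subgroup.mem_zpowers _) k))
        (Subgroup.mem_sup_left hyM)
    · exact (Subgroup.zpowers_le).mpr h₀.2
  · rw [hCT] at hCd
    have h1 := Subgroup.card_mul_index T₀
    rw [hT₀card] at h1
    show Nat.card H ∣ q * d
    rw [← h1]
    exact Nat.mul_dvd_mul_left q hCd

end Cfsg.Agent.S3496
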