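import Cfsg.Statements.S3498
import Mathlib
import Cfsg.Agent.S4088
import Cfsg.Agent.Lib.Coprime.InvSylow

set_option autoImplicit false
open Cfsg

namespace Cfsg.Agent.S3498

open Subgroup

/-- A maximal subgroup of a finite almost simple group does not have prime order. Here G is almost simple in the sense that it has a non-abelian simple normal subgroup T with trivial centralizer. -/
theorem result {G : Type*} [Group G] [Finite G] (T : Subgroup G) [T.Normal] (hT : IsSimpleGroup T) (hTc : ¬ IsMulCommutative T)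
    (hC : Subgroup.centralizer (T : Set G) = ⊥) (H : Subgroup G) (hmax : IsCoatom H) : ¬ (Nat.card H).Prime := by
  classical
  intro hpr
  haveI : Fact (Nat.card H).Prime := ⟨hpr⟩
  set p := Nat.card H with hp
  have hHp : IsPGroup p H := IsPGroup.of_card (n := 1) (by rw [pow_one])
  have hHcomm : ∀ a ∈ H, ∀ b ∈ H, a * b = b * a := by
    haveI : IsCyclic H := isCyclic_of_prime_card hp.symm
    intro a ha b hb
    have := (IsCyclic.commGroup (α := H)).mul_comm ⟨a, ha⟩ ⟨b, hb⟩
    exact congrArg Subtype.val this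
  have hTnot : ¬ T ≤ H := by
    intro hle
    apply hTc
    exact ⟨⟨fun a b => Subtype.ext (hHcomm a (hle a.2) b (hle b.2))⟩⟩
  have hH1 : H ≠ ⊥ := by
    rintro rfl
    rw [Subgroup.card_bot] at hp
    have := hpr.one_lt
    omega
  -- H not normal
  have hHnn : ¬ H.Normal := by
    intro hn
    by_cases hle : H ≤ T
    · have hnorm : (H.subgroupOf T).Normal := inferInstance
      rcases hT.eq_bot_or_eq_top_of_normal _ hnorm with h | h
      · apply hH1
        rw [eq_bot_iff]
        intro x hx
        have h1 : (⟨x, hle hx⟩ : T) ∈ H.subgroupOf T := mem_subgroupOf.mpr hx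
        rw [h, Subgroup.mem_bot] at h1
        exact Subgroup.mem_bot.mpr (congrArg Subtype.val h1)
      · apply hTnot
        intro x hx
        have h1 : (⟨x, hx⟩ : T) ∈ H.subgroupOf T := by rw [h]; trivial
        exact mem_subgroupOf.mp h1
    · have hinf : H ⊓ T = ⊥ := by
        have hd : Nat.card ↥(H ⊓ T) ∣ p := Subgroup.card_dvd_of_le inf_le_left
        rcases (Nat.dvd_prime hpr).mp hd with h | h
        · exact Subgroup.eq_bot_of_card_eq _ h
        · exfalso
          apply hle
          have : H ⊓ T = H := Subgroup.eq_of_le_of_card_ge inf_le_left (by rw [h])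
          rw [← this]
          exact inf_le_right
      have hc : ⁅H, T⁆ ≤ H ⊓ T := Subgroup.commutator_le_inf H T
      rw [hinf, le_bot_iff] at hc
      apply hH1
      rw [eq_bot_iff, ← hC]
      intro x hx
      rw [Subgroup.mem_centralizer_iff]
      intro t ht
      have h1 := Subgroup.commutator_mem_commutator hx ht
      rw [hc, Subgroup.mem_bot, commutatorElement_eq_one_iff_mul_comm] at h1
      exact h1.symm
  -- self-normalizing
  have hNH : Subgroup.normalizer (H : Set G) = H := by
    by_contra hne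
    have hlt : H < Subgroup.normalizer (H : Set G) := lt_of_le_of_ne le_normalizer (Ne.symm hne)
    have htop := hmax.2 _ hlt
    exact hHnn (Subgroup.normalizer_eq_top_iff.mp htop)
  -- H is Sylow
  obtain ⟨P, hP⟩ := hHp.exists_le_sylow
  have hHP : H = (P : Subgroup G) := by
    by_contra hne
    have hlt : H < (P : Subgroup G) := lt_of_le_of_ne hP hne
    have h1 := Cfsg.Agent.S4088.lt_inf_normalizer P.isPGroup' hlt
    have h2 : H < H := lt_of_lt_of_le h1 (inf_le_right.trans hNH.le)
    exact lt_irrefl _ h2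
  have hNC : Subgroup.normalizer ((P : Subgroup G) : Set G) ≤ Subgroup.centralizer ((P : Subgroup G) : Set G) := by
    rw [← hHP, hNH]
    intro x hx
    rw [Subgroup.mem_centralizer_iff]
    intro y hy
    exact hHcomm y hy x hx
  set K := (MonoidHom.transferSylow P hNC).ker with hK
  have hcompl : IsComplement' K (P : Subgroup G) := MonoidHom.ker_transferSylow_isComplement' P hNC
  haveI hKn : K.Normal := MonoidHom.normal_ker _
  have hKH : K ⊓ H = ⊥ := by
    rw [hHP]
    exact disjoint_iff.mp hcompl.disjoint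
  have hcardK : ¬ p ∣ Nat.card K := MonoidHom.not_dvd_card_ker_transferSylow P hNC
  by_cases hK1 : K = ⊥
  · -- G = H
    have h1 := hcompl.sup_eq_top
    rw [hK1, bot_sup_eq, ← hHP] at h1
    exact hmax.1 h1
  have hcardK1 : Nat.card K ≠ 1 := fun h => hK1 (Subgroup.eq_bot_of_card_eq _ h)
  obtain ⟨r, hrp, hrK⟩ := Nat.exists_prime_and_dvd hcardK1
  haveI : Fact r.Prime := ⟨hrp⟩
  have hcop : (Nat.card H).Coprime (Nat.card K) := (Nat.Prime.coprime_iff_not_dvd hpr).mpr hcardK
  haveI hsol : Group.IsSolvable H := by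
    haveI : IsCyclic H := isCyclic_of_prime_card hp.symm
    letI := IsCyclic.commGroup (α := H)
    infer_instance
  obtain ⟨R, hR⟩ := Cfsg.Agent.Lib.Coprime.InvSylow.exists_invariant_sylow (A := H) (K := K)
    (fun x _ => by rw [Subgroup.normalizer_eq_top_iff.mpr hKn]; trivial) hcop (Or.inl hsol) r
  set Rh : Subgroup G := (R : Subgroup K).map K.subtype with hRh
  have hRK : Rh ≤ K := by
    rintro _ ⟨x, -, rfl⟩
    exact x.2
  have hRne : Rh ≠ ⊥ := by
    intro h
    rw [hRh, Subgroup.map_eq_bot_iff_of_injective _ K.subtype_injective] at h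
    exact R.ne_bot_of_dvd_card hrK h
  have hlt : H < Rh ⊔ H := by
    refine lt_of_le_of_ne le_sup_right ?_
    intro h
    apply hRne
    have h1 : Rh ≤ H := by
      rw [h]; exact le_sup_left
    have h2 : Rh ≤ K ⊓ H := le_inf hRK h1
    rwa [hKH, le_bot_iff] at h2
  have htop := hmax.2 _ hlt
  have hRn : Rh.Normal := by
    apply Subgroup.normalizer_eq_top_iff.mp
    rw [eq_top_iff, ← htop]
    exact sup_le le_normalizer hR
  have hKR : K ≤ Rh := by
    intro k hk
    have hk' : k ∈ Rh ⊔ H := by rw [htop]; trivial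
    obtain ⟨a, ha, b, hb, rfl⟩ := Subgroup.mem_sup_of_normal_left.mp hk'
    have hbK : b ∈ K := by
      have : b = a⁻¹ * (a * b) := by group
      rw [this]
      exact K.mul_mem (K.inv_mem (hRK ha)) hk
    have hb1 : b ∈ K ⊓ H := ⟨hbK, hb⟩
    rw [hKH, Subgroup.mem_bot] at hb1
    rw [hb1, mul_one]
    exact ha
  have hKr : IsPGroup r K := (R.isPGroup'.map K.subtype).to_le hKR
  rcases hT.eq_bot_or_eq_top_of_normal (K.subgroupOf T) inferInstance with h | h
  · have hinf : K ⊓ T = ⊥ := by
      rw [eq_bot_iff]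
      rintro x ⟨hx1, hx2⟩
      have h1 : (⟨x, hx2⟩ : T) ∈ K.subgroupOf T := mem_subgroupOf.mpr hx1
      rw [h, Subgroup.mem_bot] at h1
      exact Subgroup.mem_bot.mpr (congrArg Subtype.val h1)
    have hc : ⁅K, T⁆ ≤ K ⊓ T := Subgroup.commutator_le_inf K T
    rw [hinf, le_bot_iff] at hc
    apply hK1
    rw [eq_bot_iff, ← hC]
    intro x hx
    rw [Subgroup.mem_centralizer_iff]
    intro t ht
    have h1 := Subgroup.commutator_mem_commutator hx ht
    rw [hc, Subgroup.mem_bot, commutatorElement_eq_one_iff_mul_comm] at h1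
    exact h1.symm
  · have hTK : T ≤ K := by
      intro x hx
      have h1 : (⟨x, hx⟩ : T) ∈ K.subgroupOf T := by rw [h]; trivial
      exact mem_subgroupOf.mp h1
    have hTr : IsPGroup r T := hKr.to_le hTK
    haveI := hT.toNontrivial
    haveI := hTr.center_nontrivial
    obtain ⟨c, hc⟩ := exists_ne (1 : Subgroup.center T)
    have hcen : Subgroup.center T ≠ ⊥ := by
      intro h0
      apply hc
      obtain ⟨c0, hc0⟩ := c
      apply Subtype.ext
      rw [h0, Subgroup.mem_bot] at hc0
      exact hc0
    have htopc := (hT.eq_bot_or_eq_top_of_normal (Subgroup.center T) inferInstance).resolve_left hcen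
    apply hTc
    refine ⟨⟨fun a b => ?_⟩⟩
    have ha : a ∈ Subgroup.center T := by rw [htopc]; trivial
    exact (Subgroup.mem_center_iff.mp ha b).symm

end Cfsg.Agent.S3498
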