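import Cfsg.Statements.S3501
import Mathlib
import Cfsg.Agent.Lib.Basic.JordanCover

set_option autoImplicit false
open Cfsg

namespace Cfsg.Agent.S3501

open MulAction

/-- A finite nonabelian simple group has two non-identity elements with different orders. -/
theorem orders_differ (H : Type*) [Group H] [Finite H] [IsSimpleGroup H]
    (hnc : ¬ IsMulCommutative H) : ∃ y z : H, y ≠ 1 ∧ z ≠ 1 ∧ orderOf y ≠ orderOf z := by
  by_contra hcon
  push Not at hcon
  obtain ⟨y, hy⟩ := exists_ne (1 : H)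
  have hfin : orderOf y ≠ 0 := (orderOf_pos y).ne'
  have hne1 : orderOf y ≠ 1 := by simpa [orderOf_eq_one_iff] using hy
  obtain ⟨q, hq, hqd⟩ := Nat.exists_prime_and_dvd hne1
  haveI : Fact q.Prime := ⟨hq⟩
  have hzo : orderOf (y ^ (orderOf y / q)) = q := orderOf_pow_orderOf_div hfin hqd
  have hz1 : y ^ (orderOf y / q) ≠ 1 := by
    intro h
    rw [h, orderOf_one] at hzo
    exact hq.one_lt.ne hzo
  have hall : ∀ g : H, g ≠ 1 → orderOf g = q := fun g hg => by
    rw [← hzo]
    exact hcon g _ hg hz1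
  have hp : IsPGroup q H := by
    rw [IsPGroup.iff_orderOf]
    intro g
    by_cases hg : g = 1
    · exact ⟨0, by simp [hg]⟩
    · exact ⟨1, by simp [hall g hg]⟩
  have hcen : Nontrivial (Subgroup.center H) := hp.center_nontrivial
  have htop : Subgroup.center H = ⊤ := by
    rcases IsSimpleGroup.eq_bot_or_eq_top_of_normal (Subgroup.center H) inferInstance with h | h
    · exfalso
      rw [h] at hcen
      exact not_subsingleton _ (inferInstance : Subsingleton (⊥ : Subgroup H))
    · exact h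
  apply hnc
  refine ⟨⟨fun a b => ?_⟩⟩
  have : a ∈ Subgroup.center H := by rw [htop]; trivial
  exact (Subgroup.mem_center_iff.mp this b).symm

section Main

variable {G : Type*} [Group G]

/-- the conjugate of a subgroup -/
def cj (g : G) (T : Subgroup G) : Subgroup G := T.map (MulAut.conj g).toMonoidHom

theorem mem_cj {g x : G} {T : Subgroup G} : x ∈ cj g T ↔ g⁻¹ * x * g ∈ T := by
  constructor
  · rintro ⟨a, ha, rfl⟩
    simpa [mul_assoc] using ha
  · intro h
    exact ⟨g⁻¹ * x * g, h, by simp [mul_assoc]⟩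

theorem cj_cj (g h : G) (T : Subgroup G) : cj g (cj h T) = cj (g * h) T := by
  ext x
  simp only [mem_cj]
  have : (g * h)⁻¹ * x * (g * h) = h⁻¹ * (g⁻¹ * x * g) * h := by group
  rw [this]

theorem cj_one (T : Subgroup G) : cj 1 T = T := by
  ext x
  simp [mem_cj]

/-- Minimal subgroups normalised by `N`. -/
structure MinN (N T : Subgroup G) : Prop where
  le : T ≤ N
  ne : T ≠ ⊥
  nor : ∀ n ∈ N, ∀ t ∈ T, n * t * n⁻¹ ∈ T
  min : ∀ R : Subgroup G, R ≤ T → R ≠ ⊥ → (∀ n ∈ N, ∀ r ∈ R, n * r * n⁻¹ ∈ R) → R = T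

section N

variable {N : Subgroup G} [hNn : N.Normal]

theorem MinN.cj' {T : Subgroup G} (hT : MinN N T) (g : G) : MinN N (cj g T) := by
  refine ⟨?_, ?_, ?_, ?_⟩
  · intro x hx
    have h1 := hT.le (mem_cj.mp hx)
    have := hNn.conj_mem _ h1 g
    convert this using 1
    group
  · intro h
    apply hT.ne
    rw [Subgroup.eq_bot_iff_forall]
    intro t ht
    have : g * t * g⁻¹ ∈ cj g T := by
      rw [mem_cj]
      convert ht using 1
      group
    rw [h, Subgroup.mem_bot] at this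
    have h2 : t = g⁻¹ * (g * t * g⁻¹) * g := by group
    rw [h2, this]
    group
  · intro n hn t ht
    rw [mem_cj]
    have h1 : g⁻¹ * n * g ∈ N := by
      have := hNn.conj_mem _ hn g⁻¹
      simpa using this
    have := hT.nor _ h1 _ (mem_cj.mp ht)
    convert this using 1
    group
  · intro R hR hne hnor
    have hR' : cj g⁻¹ R = T := by
      apply hT.min
      · intro x hx
        have := hR (mem_cj.mp hx)
        rw [mem_cj] at this
        simpa [mul_assoc] using this
      · intro h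
        apply hne
        rw [Subgroup.eq_bot_iff_forall]
        intro r hr
        have : g⁻¹ * r * g ∈ cj g⁻¹ R := by
          rw [mem_cj]
          simpa [mul_assoc] using hr
        rw [h, Subgroup.mem_bot] at this
        have h2 : r = g * (g⁻¹ * r * g) * g⁻¹ := by group
        rw [h2, this]
        group
      · intro n hn r hr
        rw [mem_cj] at hr ⊢
        have h1 : g * n * g⁻¹ ∈ N := hNn.conj_mem _ hn g
        have := hnor _ h1 _ hr
        convert this using 1
        group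
    rw [← hR', cj_cj, mul_inv_cancel, cj_one]

omit hNn in
theorem MinN.inf_eq_bot {A B : Subgroup G} (hA : MinN N A) (hB : MinN N B) (hne : A ≠ B) :
    A ⊓ B = ⊥ := by
  by_contra h
  have hnor : ∀ n ∈ N, ∀ r ∈ A ⊓ B, n * r * n⁻¹ ∈ A ⊓ B := fun n hn r hr =>
    ⟨hA.nor n hn r hr.1, hB.nor n hn r hr.2⟩
  have h1 := hA.min _ inf_le_left h hnor
  have h2 := hB.min _ inf_le_right h hnor
  exact hne (h1.symm.trans h2)

omit hNn in
theorem MinN.comm {A B : Subgroup G} (hA : MinN N A) (hB : MinN N B) (hne : A ≠ B) {a b : G}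
    (ha : a ∈ A) (hb : b ∈ B) : a * b = b * a := by
  have h0 := MinN.inf_eq_bot hA hB hne
  have h1 : a * b * a⁻¹ * b⁻¹ ∈ A ⊓ B := by
    constructor
    · have h2 : b * a⁻¹ * b⁻¹ ∈ A := hA.nor _ (hB.le hb) _ (A.inv_mem ha)
      have h3 := A.mul_mem ha h2
      have h4 : a * b * a⁻¹ * b⁻¹ = a * (b * a⁻¹ * b⁻¹) := by group
      rw [h4]
      exact h3
    · have h2 : a * b * a⁻¹ ∈ B := hB.nor _ (hA.le ha) _ hb
      exact B.mul_mem h2 (B.inv_mem hb)
  rw [h0, Subgroup.mem_bot] at h1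
  have : a * b * a⁻¹ * b⁻¹ * (b * a) = b * a := by rw [h1, one_mul]
  simpa [mul_assoc] using this

/-- `N` is minimal normal. -/
def MinNormal (N : Subgroup G) : Prop :=
  N ≠ ⊥ ∧ ∀ M : Subgroup G, M.Normal → M ≤ N → M = ⊥ ∨ M = N

theorem MinN.gen (hN : MinNormal N) {T : Subgroup G} (hT : MinN N T) (P : Subgroup G)
    (hP : ∀ g, cj g T ≤ P) : N ≤ P := by
  have h1 : Subgroup.normalClosure (T : Set G) ≤ N :=
    Subgroup.normalClosure_le_normal (fun x hx => hT.le hx)
  have h2 : Subgroup.normalClosure (T : Set G) ≠ ⊥ := by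
    intro h
    apply hT.ne
    rw [eq_bot_iff, ← h]
    exact Subgroup.le_normalClosure
  rcases hN.2 _ inferInstance h1 with h | h
  · exact absurd h h2
  · rw [← h]
    refine (Subgroup.closure_le _).mpr ?_
    intro x hx
    obtain ⟨a, ha, hax⟩ := Group.mem_conjugatesOfSet_iff.mp hx
    obtain ⟨c, rfl⟩ := isConj_iff.mp hax
    apply hP c
    rw [mem_cj]
    simpa [mul_assoc] using ha

omit hNn in
theorem MinN.alt {T T' : Subgroup G} (hT : MinN N T) (hT' : MinN N T') :
    T' = T ∨ ∀ a ∈ T, ∀ y ∈ T', y * a = a * y := by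
  by_cases h : T' = T
  · exact Or.inl h
  · exact Or.inr fun a ha y hy => hT'.comm hT h hy ha

/-- subgroups of `T` normalised by `T` are trivial or all of `T`. -/
theorem MinN.simple (hN : MinNormal N) {T : Subgroup G} (hT : MinN N T) (R : Subgroup G)
    (hR : R ≤ T) (hnor : ∀ t ∈ T, ∀ r ∈ R, t * r * t⁻¹ ∈ R) : R = ⊥ ∨ R = T := by
  by_cases h : R = ⊥
  · exact Or.inl h
  right
  apply hT.min R hR h
  intro n hn r hr
  have hle : N ≤ Subgroup.normalizer (R : Set G) := by
    apply hT.gen hN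
    intro g y hy
    rw [Subgroup.mem_normalizer_iff]
    intro z
    rcases (hT.alt (hT.cj' (N := N) g)) with h1 | h1
    · rw [h1] at hy
      constructor
      · intro hz
        exact hnor y hy z hz
      · intro hz
        have := hnor y⁻¹ (T.inv_mem hy) _ hz
        simpa [mul_assoc] using this
    · constructor
      · intro hz
        have := h1 z (hR hz) y hy
        rw [this]
        simpa [mul_assoc] using hz
      · intro hz
        have hT2 : MinN N (cj g T) := hT.cj' g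
        by_cases hzT : z ∈ T
        · have := h1 z hzT y hy
          rw [this] at hz
          simpa [mul_assoc] using hz
        · exfalso
          apply hzT
          have h3 := h1 _ (hR hz) y hy
          have h4 : y * (y * z * y⁻¹) = (y * z * y⁻¹) * y := h3
          have h5 : y * z * y⁻¹ ∈ T := hR hz
          have h6 : y * z = z * y := by
            have := congrArg (fun w => y⁻¹ * w * y) h4
            simp only [mul_assoc, inv_mul_cancel_left, inv_mul_cancel, mul_one] at this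
            have h7 : y * (z * (y⁻¹ * y)) = z * (y⁻¹ * (y * y))  := by
              simpa [mul_assoc] using this
            simpa [mul_assoc] using h7
          have h8 : y * z * y⁻¹ = z := by rw [h6]; simp
          rwa [h8] at h5
  exact (Subgroup.mem_normalizer_iff.mp (hle hn) r).mp hr

theorem MinN.isSimple (hN : MinNormal N) {T : Subgroup G} (hT : MinN N T) : IsSimpleGroup T := by
  haveI : Nontrivial T := by
    rw [Subgroup.nontrivial_iff_ne_bot]
    exact hT.ne
  refine ⟨fun R hR => ?_⟩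
  have hnor : ∀ t ∈ T, ∀ r ∈ R.map T.subtype, t * r * t⁻¹ ∈ R.map T.subtype := by
    intro t ht r hr
    obtain ⟨y, hy, rfl⟩ := hr
    have := hR.conj_mem y hy ⟨t, ht⟩
    exact ⟨_, this, by simp⟩
  rcases hT.simple hN (R.map T.subtype) (Subgroup.map_subtype_le R) hnor with h | h
  · left
    rwa [Subgroup.map_eq_bot_iff_of_injective _ T.subtype_injective] at h
  · right
    rw [eq_top_iff]
    intro x _
    have hx : (x : G) ∈ R.map T.subtype := by rw [h]; exact x.2
    obtain ⟨y, hy, hyx⟩ := hx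
    have : y = x := Subtype.ext hyx
    rwa [← this]

theorem MinN.nonab (hN : MinNormal N) {T : Subgroup G} (hT : MinN N T)
    (hab : ∃ a ∈ N, ∃ b ∈ N, a * b ≠ b * a) : ¬ IsMulCommutative T := by
  intro hc
  have hcomm : ∀ a ∈ T, ∀ b ∈ T, a * b = b * a := by
    intro a ha b hb
    have := hc.is_comm.comm ⟨a, ha⟩ ⟨b, hb⟩
    exact congrArg Subtype.val this
  have hcommg : ∀ g, ∀ a ∈ cj g T, ∀ b ∈ cj g T, a * b = b * a := by
    intro g a ha b hb
    have := hcomm _ (mem_cj.mp ha) _ (mem_cj.mp hb)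
    have h2 : g * (g⁻¹ * a * g * (g⁻¹ * b * g)) * g⁻¹ = g * (g⁻¹ * b * g * (g⁻¹ * a * g)) * g⁻¹ := by
      rw [this]
    simpa [mul_assoc] using h2
  have h1 : ∀ g, N ≤ Subgroup.centralizer (cj g T : Set G) := by
    intro g
    apply hT.gen hN
    intro h y hy
    rw [Subgroup.mem_centralizer_iff]
    intro z hz
    rcases (MinN.alt (hT.cj' (N := N) g) (hT.cj' (N := N) h)) with h2 | h2
    · rw [h2] at hy
      exact hcommg g _ hz _ hy
    · exact (h2 z hz y hy).symm
  have h2 : N ≤ Subgroup.centralizer (N : Set G) := by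
    apply hT.gen hN
    intro g y hy
    rw [Subgroup.mem_centralizer_iff]
    intro z hz
    exact (Subgroup.mem_centralizer_iff.mp (h1 g hz) y hy).symm
  obtain ⟨a, ha, b, hb, hne⟩ := hab
  exact hne ((Subgroup.mem_centralizer_iff.mp (h2 hb) a ha))

/-- The elements acting on `T` as an inner automorphism of `T`. -/
def innOn (T : Subgroup G) : Subgroup G where
  carrier := {g | ∃ t ∈ T, ∀ y ∈ T, g * y * g⁻¹ = t * y * t⁻¹}
  mul_mem' := by
    rintro a b ⟨s, hs, has⟩ ⟨t, ht, hbt⟩
    refine ⟨s * t, T.mul_mem hs ht, fun y hy => ?_⟩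
    have h1 : a * b * y * (a * b)⁻¹ = a * (b * y * b⁻¹) * a⁻¹ := by group
    rw [h1, hbt y hy, has _ (T.mul_mem (T.mul_mem ht hy) (T.inv_mem ht))]
    group
  one_mem' := ⟨1, T.one_mem, fun y _ => by simp⟩
  inv_mem' := by
    rintro a ⟨t, ht, hat⟩
    refine ⟨t⁻¹, T.inv_mem ht, fun y hy => ?_⟩
    have hz : t⁻¹ * y * t ∈ T := by
      have := T.mul_mem (T.mul_mem (T.inv_mem ht) hy) ht
      exact this
    have h1 := hat _ hz
    have h2 : t * (t⁻¹ * y * t) * t⁻¹ = y := by group
    rw [h2] at h1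
    have h3 : a⁻¹ * y * a = t⁻¹ * y * t := by
      calc a⁻¹ * y * a = a⁻¹ * (a * (t⁻¹ * y * t) * a⁻¹) * a := by rw [h1]
        _ = t⁻¹ * y * t := by group
    simpa using h3

theorem MinN.le_innOn (hN : MinNormal N) {T : Subgroup G} (hT : MinN N T) : N ≤ innOn T := by
  apply hT.gen hN
  intro g y hy
  rcases (hT.alt (hT.cj' (N := N) g)) with h | h
  · rw [h] at hy
    exact ⟨y, hy, fun _ _ => rfl⟩
  · refine ⟨1, T.one_mem, fun z hz => ?_⟩
    rw [h z hz y hy]
    simp

theorem jordan_sub [Finite G] (T K : Subgroup G) (h : ∀ z ∈ T, ∃ t ∈ T, t * z * t⁻¹ ∈ K) : T ≤ K := by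
  have htop : K.subgroupOf T = ⊤ := by
    apply Cfsg.Agent.Lib.Basic.JordanCover.eq_top_of_forall_conj_mem
    rintro ⟨z, hz⟩
    obtain ⟨t, ht, htz⟩ := h z hz
    refine ⟨⟨t, ht⟩, ?_⟩
    rw [Subgroup.mem_subgroupOf]
    simpa using htz
  intro x hx
  have : (⟨x, hx⟩ : T) ∈ K.subgroupOf T := by rw [htop]; trivial
  simpa [Subgroup.mem_subgroupOf] using this

end N

end Main



section Action

variable {G Ω : Type*} [Group G] [MulAction G Ω]

/-- derangement -/
def IsDer (Ω : Type*) [MulAction G Ω] (g : G) : Prop := ∀ ω : Ω, g • ω ≠ ω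

theorem IsDer.conj {g : G} (hg : IsDer Ω g) (h : G) : IsDer Ω (h * g * h⁻¹) := by
  intro ω hω
  apply hg (h⁻¹ • ω)
  have := congrArg (fun w => h⁻¹ • w) hω
  simpa [mul_smul] using this

theorem orderOf_eq_of_isConj {a b : G} (h : IsConj a b) : orderOf a = orderOf b := by
  obtain ⟨c, hc⟩ := isConj_iff.mp h
  rw [← hc]
  exact SemiconjBy.orderOf_eq c (by
    show c * a = (c * a * c⁻¹) * c
    group)

variable [FaithfulSMul G Ω]

omit [MulAction G Ω] [FaithfulSMul G Ω] in
theorem eq_one_of_center {T : Subgroup G} [IsSimpleGroup T] (hnc : ¬ IsMulCommutative T) {x : G}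
    (hx : x ∈ T) (hc : ∀ a ∈ T, a * x = x * a) : x = 1 := by
  rcases IsSimpleGroup.eq_bot_or_eq_top_of_normal (Subgroup.center T) inferInstance with h | h
  · have : (⟨x, hx⟩ : T) ∈ Subgroup.center T := by
      rw [Subgroup.mem_center_iff]
      rintro ⟨a, ha⟩
      exact Subtype.ext (hc a ha)
    rw [h, Subgroup.mem_bot] at this
    exact congrArg Subtype.val this
  · exfalso
    apply hnc
    refine ⟨⟨fun a b => ?_⟩⟩
    have : a ∈ Subgroup.center T := by rw [h]; trivial
    exact (Subgroup.mem_center_iff.mp this b).symm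

theorem eq_one_of_forall_fix {g : G} (h : ∀ ω : Ω, g • ω = ω) : g = 1 := by
  apply FaithfulSMul.eq_of_smul_eq_smul (α := Ω)
  intro ω
  simp [h ω]

theorem trans_of_normal [IsPreprimitive G Ω] (N : Subgroup G) [N.Normal] (hN : N ≠ ⊥) :
    ∀ ω ω' : Ω, ∃ g ∈ N, g • ω = ω' := by
  have hfix : fixedPoints N Ω ≠ Set.univ := by
    intro h
    apply hN
    rw [Subgroup.eq_bot_iff_forall]
    intro n hn
    apply eq_one_of_forall_fix (Ω := Ω)
    intro ω
    have h1 : ω ∈ fixedPoints N Ω := by rw [h]; trivial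
    exact h1 ⟨n, hn⟩
  haveI : IsPretransitive N Ω := IsQuasiPreprimitive.isPretransitive_of_normal (G := G) hfix
  intro ω ω'
  obtain ⟨g, hg⟩ := exists_smul_eq N ω ω'
  exact ⟨g.1, g.2, hg⟩

omit [FaithfulSMul G Ω] in
theorem two_classes [Finite G] (T : Subgroup G) [IsSimpleGroup T] (hnc : ¬ IsMulCommutative T)
    (h : ∀ t ∈ T, t ≠ 1 → IsDer Ω t)
    (huniq : ∀ u v : G, IsDer Ω u → IsDer Ω v → IsConj u v) : False := by
  obtain ⟨y, z, hy, hz, hne⟩ := orders_differ T hnc
  have hy' : (y : G) ≠ 1 := fun h1 => hy (Subtype.ext h1)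
  have hz' : (z : G) ≠ 1 := fun h1 => hz (Subtype.ext h1)
  have := orderOf_eq_of_isConj (huniq _ _ (h _ y.2 hy') (h _ z.2 hz'))
  apply hne
  rwa [← Subgroup.orderOf_coe y, ← Subgroup.orderOf_coe z]

section Forward

variable [Finite G] [IsPreprimitive G Ω]

/-- The abelian case: the normal subgroup is regular and all derangements lie in it. -/
theorem forward_abelian (N : Subgroup G) [hNn : N.Normal] (hN : N ≠ ⊥)
    (hab : ∀ a ∈ N, ∀ b ∈ N, a * b = b * a)
    (huniq : ∀ u v : G, IsDer Ω u → IsDer Ω v → IsConj u v) :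
    IsMultiplyPretransitive G Ω 2 ∧
      ∀ g : G, g ≠ 1 → ∀ a b : Ω, a ≠ b → g • a = a → g • b ≠ b := by
  have htr := trans_of_normal (Ω := Ω) N hN
  have semi : ∀ n ∈ N, ∀ ω : Ω, n • ω = ω → n = 1 := by
    intro n hn ω hω
    apply eq_one_of_forall_fix (Ω := Ω)
    intro ω'
    obtain ⟨m, hm, rfl⟩ := htr ω ω'
    rw [← mul_smul, hab n hn m hm, mul_smul, hω]
  have derN : ∀ m ∈ N, m ≠ 1 → IsDer Ω m := fun m hm hm1 ω hω => hm1 (semi m hm ω hω)
  obtain ⟨n0', hn0'⟩ := Subgroup.ne_bot_iff_exists_ne_one.mp hN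
  obtain ⟨n0, hn0, hn01⟩ : ∃ n0 ∈ N, n0 ≠ 1 := ⟨n0'.1, n0'.2, fun h => hn0' (Subtype.ext h)⟩
  have allN : ∀ u, IsDer Ω u → u ∈ N := by
    intro u hu
    obtain ⟨c, rfl⟩ := isConj_iff.mp (huniq n0 u (derN n0 hn0 hn01) hu)
    exact hNn.conj_mem _ hn0 c
  have step : ∀ α β γ : Ω, β ≠ α → γ ≠ α → ∃ h : G, h • α = α ∧ h • β = γ := by
    intro α β γ hβ hγ
    obtain ⟨m, hm, rfl⟩ := htr α β
    obtain ⟨m', hm', rfl⟩ := htr α γ
    have hm1 : m ≠ 1 := by
      rintro rfl
      simp at hβ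
    have hm1' : m' ≠ 1 := by
      rintro rfl
      simp at hγ
    obtain ⟨c, hc⟩ := isConj_iff.mp (huniq m m' (derN m hm hm1) (derN m' hm' hm1'))
    obtain ⟨n', hn', hn'c⟩ := htr α (c • α)
    refine ⟨n'⁻¹ * c, ?_, ?_⟩
    · rw [mul_smul, ← hn'c, inv_smul_smul]
    · have h1 : (n'⁻¹ * c) * m * (n'⁻¹ * c)⁻¹ = m' := by
        have h2 : (n'⁻¹ * c) * m * (n'⁻¹ * c)⁻¹ = n'⁻¹ * (c * m * c⁻¹) * n' := by group
        rw [h2, hc, hab _ (N.inv_mem hn') _ hm']
        group
      have h3 : (n'⁻¹ * c) • α = α := by rw [mul_smul, ← hn'c, inv_smul_smul]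
      calc (n'⁻¹ * c) • m • α = ((n'⁻¹ * c) * m * (n'⁻¹ * c)⁻¹) • ((n'⁻¹ * c) • α) := by
            simp [mul_smul]
        _ = m' • α := by rw [h1, h3]
  constructor
  · rw [is_two_pretransitive_iff]
    intro a b c d hab' hcd
    obtain ⟨g1, _, hg1⟩ := htr a c
    have hb : g1 • b ≠ c := by
      rw [← hg1]
      intro h
      exact hab' (smul_left_cancel g1 h).symm
    obtain ⟨h, hh1, hh2⟩ := step c (g1 • b) d hb hcd.symm
    refine ⟨h * g1, ?_, ?_⟩
    · rw [mul_smul, hg1, hh1]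
    · rw [mul_smul, hh2]
  · intro g hg a b hne hga hgb
    have hgn : g ∉ N := fun h => hg (semi g h a hga)
    let θ : N → N := fun m => ⟨m.1 * (g * m.1⁻¹ * g⁻¹), N.mul_mem m.2 (hNn.conj_mem _ (N.inv_mem m.2) g)⟩
    have hsurj : Function.Surjective θ := by
      rintro ⟨n, hn⟩
      have hnd : ¬ IsDer Ω (n * g) := by
        intro hd
        apply hgn
        have := N.mul_mem (N.inv_mem hn) (allN _ hd)
        simpa using this
      simp only [IsDer, not_forall, not_not] at hnd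
      obtain ⟨ω', hω'⟩ := hnd
      obtain ⟨m, hm, rfl⟩ := htr a ω'
      have h1 : (m⁻¹ * n * (g * m * g⁻¹)) • a = a := by
        have h2 : m⁻¹ * n * (g * m * g⁻¹) = m⁻¹ * (n * g) * m * g⁻¹ := by group
        have h3 : g⁻¹ • a = a := by
          conv_lhs => rw [← hga]
          simp
        rw [h2, mul_smul, h3, mul_smul, mul_smul, hω']
        simp
      have h4 := semi _ (N.mul_mem (N.mul_mem (N.inv_mem hm) hn) (hNn.conj_mem _ hm g)) a h1
      refine ⟨⟨m, hm⟩, Subtype.ext ?_⟩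
      have h5 : n = m * (g * m * g⁻¹)⁻¹ := by
        have : m⁻¹ * n = (g * m * g⁻¹)⁻¹ := eq_inv_of_mul_eq_one_left h4
        rw [← this]
        group
      show m * (g * m⁻¹ * g⁻¹) = n
      rw [h5]
      group
    have hinj : Function.Injective θ := Finite.injective_iff_surjective.mpr hsurj
    obtain ⟨m0, hm0, rfl⟩ := htr a b
    have h1 : (m0⁻¹ * (g * m0 * g⁻¹)) • a = a := by
      have h3 : g⁻¹ • a = a := by
        conv_lhs => rw [← hga]
        simp
      have h2 : m0⁻¹ * (g * m0 * g⁻¹) = m0⁻¹ * g * m0 * g⁻¹ := by group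
      rw [h2, mul_smul, h3, mul_smul, mul_smul, hgb]
      simp
    have h4 := semi _ (N.mul_mem (N.inv_mem hm0) (hNn.conj_mem _ hm0 g)) a h1
    have h5 : θ ⟨m0, hm0⟩ = θ 1 := by
      apply Subtype.ext
      show m0 * (g * m0⁻¹ * g⁻¹) = 1 * (g * (1 : G)⁻¹ * g⁻¹)
      have h6 : g * m0 * g⁻¹ = m0 := by
        have : m0⁻¹ * (g * m0 * g⁻¹) = 1 := h4
        calc g * m0 * g⁻¹ = m0 * (m0⁻¹ * (g * m0 * g⁻¹)) := by group
          _ = m0 := by rw [this, mul_one]
      have h7 : g * m0⁻¹ * g⁻¹ = m0⁻¹ := by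
        have : g * m0⁻¹ * g⁻¹ = (g * m0 * g⁻¹)⁻¹ := by group
        rw [this, h6]
      rw [h7]
      simp
    have h6 := hinj h5
    have h7 : m0 = 1 := congrArg Subtype.val h6
    apply hne
    rw [h7, one_smul]

/-- The non-abelian case is impossible. -/
theorem false_of_nonab [Nonempty Ω] (N : Subgroup G) [hNn : N.Normal] (hN : MinNormal N)
    (hab : ∃ a ∈ N, ∃ b ∈ N, a * b ≠ b * a)
    (hnas : ¬ ∃ T : Subgroup G, T.Normal ∧ IsSimpleGroup T ∧ ¬ IsMulCommutative T ∧
      Subgroup.centralizer (T : Set G) = ⊥)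
    (huniq : ∀ u v : G, IsDer Ω u → IsDer Ω v → IsConj u v) : False := by
  classical
  -- a minimal subgroup normalised by `N`
  obtain ⟨T, hT⟩ : ∃ T, MinN N T := by
    let S : Set (Subgroup G) := {R | R ≤ N ∧ R ≠ ⊥ ∧ ∀ n ∈ N, ∀ t ∈ R, n * t * n⁻¹ ∈ R}
    have hS : S.Nonempty := ⟨N, le_refl _, hN.1, fun n hn t ht => hNn.conj_mem _ ht n⟩
    obtain ⟨T, hT⟩ := (Set.toFinite S).exists_minimal hS
    refine ⟨T, hT.1.1, hT.1.2.1, hT.1.2.2, fun R hR hne hnor => ?_⟩
    exact le_antisymm hR (hT.2 ⟨hR.trans hT.1.1, hne, hnor⟩ hR)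
  have htr := trans_of_normal (Ω := Ω) N hN.1
  obtain ⟨ω⟩ := ‹Nonempty Ω›
  have not_le_stab : ∀ T' : Subgroup G, MinN N T' → ¬ T' ≤ stabilizer G ω := by
    intro T' hT' hle
    apply hT'.ne
    rw [Subgroup.eq_bot_iff_forall]
    intro y hy
    apply eq_one_of_forall_fix (Ω := Ω)
    intro ω'
    obtain ⟨g, hg, rfl⟩ := htr ω ω'
    have h1 : g⁻¹ * y * g⁻¹⁻¹ ∈ T' := hT'.nor _ (N.inv_mem hg) _ hy
    have h2 := hle h1
    rw [mem_stabilizer_iff] at h2
    have h3 : y • g • ω = g • (g⁻¹ * y * g⁻¹⁻¹) • ω := by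
      simp [mul_smul]
    rw [h3, h2]
  by_cases hall : ∀ g, cj g T = T
  · -- `T = N` is simple
    have hTn : T.Normal := ⟨fun t ht g => by
      have : g * t * g⁻¹ ∈ cj g T := by
        rw [mem_cj]
        simpa [mul_assoc] using ht
      rwa [hall g] at this⟩
    have hTN : T = N := by
      rcases hN.2 T hTn hT.le with h | h
      · exact absurd h hT.ne
      · exact h
    subst hTN
    haveI hs := hT.isSimple hN
    have hnc := hT.nonab hN hab
    have hC : Subgroup.centralizer (T : Set G) ≠ ⊥ := fun h => hnas ⟨T, hTn, hs, hnc, h⟩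
    haveI : (Subgroup.centralizer (T : Set G)).Normal := Subgroup.normal_centralizer
    have htrC := trans_of_normal (Ω := Ω) _ hC
    apply two_classes (Ω := Ω) T hnc _ huniq
    intro t ht ht1 ω' hω'
    apply ht1
    apply eq_one_of_forall_fix (Ω := Ω)
    intro ω''
    obtain ⟨c, hc, rfl⟩ := htrC ω' ω''
    have := Subgroup.mem_centralizer_iff.mp hc t ht
    rw [← mul_smul, this, mul_smul, hω']
  · -- two different conjugates
    push Not at hall
    obtain ⟨g, hg⟩ := hall
    have hT2 : MinN N (cj g T) := hT.cj' g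
    set T2 := cj g T with hT2def
    haveI hsT := hT.isSimple hN
    haveI hsT2 := hT2.isSimple hN
    have hncT := hT.nonab hN hab
    have hncT2 := hT2.nonab hN hab
    have hcomm : ∀ a ∈ T, ∀ b ∈ T2, a * b = b * a := fun a ha b hb => hT.comm hT2 hg.symm ha hb
    have hdisj : T ⊓ T2 = ⊥ := hT.inf_eq_bot hT2 hg.symm
    have hinnT := hT.le_innOn hN
    have hinnT2 := hT2.le_innOn hN
    -- a derangement in `T`
    obtain ⟨x, hxT, hxd⟩ : ∃ x ∈ T, IsDer Ω x := by
      by_contra hcon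
      push Not at hcon
      apply not_le_stab T hT
      apply jordan_sub
      intro z hz
      have hnd := hcon z hz
      simp only [IsDer, not_forall, not_not] at hnd
      obtain ⟨ω', hω'⟩ := hnd
      obtain ⟨g', hg', rfl⟩ := htr ω ω'
      obtain ⟨t, ht, hzt⟩ := hinnT (N.inv_mem hg')
      refine ⟨t, ht, ?_⟩
      rw [← hzt z hz, mem_stabilizer_iff]
      simp only [mul_smul, inv_inv]
      rw [hω', inv_smul_smul]
    have hx1 : x ≠ 1 := by
      rintro rfl
      exact hxd ω (one_smul _ _)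
    -- products with `T2` are not derangements
    have hnd : ∀ z ∈ T2, z ≠ 1 → ∃ ω' : Ω, (x * z) • ω' = ω' := by
      intro z hz hz1
      by_contra hcon
      push Not at hcon
      obtain ⟨c, hc⟩ := isConj_iff.mp (huniq x (x * z) hxd hcon)
      have h3 : MinN N (cj c T) := hT.cj' c
      have hmem : x * z ∈ cj c T := by
        rw [mem_cj, ← hc]
        simpa [mul_assoc] using hxT
      by_cases h4 : cj c T = T
      · rw [h4] at hmem
        apply hz1
        have h5 : z ∈ T := by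
          have := T.mul_mem (T.inv_mem hxT) hmem
          simpa using this
        have h6 : z ∈ T ⊓ T2 := ⟨h5, hz⟩
        rwa [hdisj, Subgroup.mem_bot] at h6
      · apply hx1
        apply eq_one_of_center hncT hxT
        intro a ha
        have h5 : (x * z) * a = a * (x * z) := h3.comm hT h4 hmem ha
        have h6 : a * z = z * a := hcomm a ha z hz
        have h7 : x * (z * a) = a * x * z := by
          rw [← mul_assoc, h5, mul_assoc]
        rw [← h6, ← mul_assoc] at h7
        exact (mul_right_cancel h7).symm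
    -- the projection of the stabiliser
    let L : Subgroup G :=
      { carrier := {b | b ∈ T2 ∧ ∃ a ∈ T, a * b ∈ stabilizer G ω}
        mul_mem' := by
          rintro b1 b2 ⟨h1, a1, ha1, h1s⟩ ⟨h2, a2, ha2, h2s⟩
          refine ⟨T2.mul_mem h1 h2, a1 * a2, T.mul_mem ha1 ha2, ?_⟩
          have : a1 * a2 * (b1 * b2) = (a1 * b1) * (a2 * b2) := by
            rw [mul_assoc a1 a2, ← mul_assoc a2 b1, hcomm a2 ha2 b1 h1]
            simp [mul_assoc]
          rw [this]
          exact Subgroup.mul_mem _ h1s h2s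
        one_mem' := ⟨T2.one_mem, 1, T.one_mem, by simp [Subgroup.one_mem]⟩
        inv_mem' := by
          rintro b ⟨h1, a, ha, hs⟩
          refine ⟨T2.inv_mem h1, a⁻¹, T.inv_mem ha, ?_⟩
          have : a⁻¹ * b⁻¹ = (a * b)⁻¹ := by
            rw [mul_inv_rev]
            have := hcomm a⁻¹ (T.inv_mem ha) b⁻¹ (T2.inv_mem h1)
            exact this
          rw [this]
          exact Subgroup.inv_mem _ hs }
    have hL : T2 ≤ L := by
      apply jordan_sub
      intro z hz
      by_cases hz1 : z = 1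
      · subst hz1
        refine ⟨1, T2.one_mem, ?_⟩
        simp only [one_mul, mul_one, inv_one]
        exact L.one_mem
      obtain ⟨ω', hω'⟩ := hnd z hz hz1
      obtain ⟨g', hg', rfl⟩ := htr ω ω'
      obtain ⟨t, ht, hzt⟩ := hinnT2 (N.inv_mem hg')
      refine ⟨t, ht, ?_, g'⁻¹ * x * g'⁻¹⁻¹, hT.nor _ (N.inv_mem hg') _ hxT, ?_⟩
      · exact T2.mul_mem (T2.mul_mem ht hz) (T2.inv_mem ht)
      · rw [← hzt z hz, mem_stabilizer_iff]
        have h6 : g'⁻¹ * x * g'⁻¹⁻¹ * (g'⁻¹ * z * g'⁻¹⁻¹) = g'⁻¹ * (x * z) * g' := by group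
        rw [h6]
        simp only [mul_smul]
        rw [← mul_smul x z, hω', inv_smul_smul]
    have hnorA : ∀ t ∈ T2, ∀ r ∈ T2 ⊓ stabilizer G ω, t * r * t⁻¹ ∈ T2 ⊓ stabilizer G ω := by
      intro b hb r hr
      have hbrb : b * r * b⁻¹ ∈ T2 := T2.mul_mem (T2.mul_mem hb hr.1) (T2.inv_mem hb)
      refine ⟨hbrb, ?_⟩
      obtain ⟨_, a, ha, has⟩ := hL hb
      have h1 : (a * b) * r * (a * b)⁻¹ ∈ stabilizer G ω :=
        Subgroup.mul_mem _ (Subgroup.mul_mem _ has hr.2) (Subgroup.inv_mem _ has)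
      have h2 : (a * b) * r * (a * b)⁻¹ = a * (b * r * b⁻¹) * a⁻¹ := by group
      rw [h2, hcomm a ha _ hbrb] at h1
      simpa using h1
    rcases hT2.simple hN _ inf_le_left hnorA with hA | hA
    · -- all non-identity elements of `T2` are derangements
      apply two_classes (Ω := Ω) T2 hncT2 _ huniq
      intro z hz hz1 ω' hω'
      obtain ⟨g', hg', rfl⟩ := htr ω ω'
      have h1 : g'⁻¹ * z * g'⁻¹⁻¹ ∈ T2 ⊓ stabilizer G ω := by
        refine ⟨hT2.nor _ (N.inv_mem hg') _ hz, ?_⟩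
        show g'⁻¹ * z * g'⁻¹⁻¹ ∈ stabilizer G ω
        rw [mem_stabilizer_iff]
        simp only [mul_smul, inv_inv]
        rw [hω', inv_smul_smul]
      rw [hA, Subgroup.mem_bot] at h1
      apply hz1
      have h2 : z = g' * (g'⁻¹ * z * g'⁻¹⁻¹) * g'⁻¹ := by group
      rw [h2, h1]
      group
    · exact not_le_stab T2 hT2 (fun y hy => by
        rw [← hA] at hy
        exact hy.2)

end Forward

section Backward

variable [Finite G] [Fintype Ω]

/-- For `α ≠ γ` exactly one derangement of a sharply 2-transitive group moves `α` to `γ`. -/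
theorem exists_unique_der (ht : ∀ {a b c d : Ω} (_ : a ≠ b) (_ : c ≠ d), ∃ g : G, g • a = c ∧ g • b = d)
    (hsh : ∀ g : G, g ≠ 1 → ∀ a b : Ω, a ≠ b → g • a = a → g • b ≠ b) {α γ : Ω} (hne : α ≠ γ) :
    ∃ u : G, u • α = γ ∧ IsDer Ω u ∧ ∀ v : G, v • α = γ → IsDer Ω v → v = u := by
  classical
  haveI := Fintype.ofFinite G
  have huniq2 : ∀ (g g' : G) (a b : Ω), a ≠ b → g • a = g' • a → g • b = g' • b → g = g' := by
    intro g g' a b hab h1 h2
    by_contra hgg
    have h3 : g'⁻¹ * g ≠ 1 := by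
      intro h
      apply hgg
      have := congrArg (fun w => g' * w) h
      simpa using this
    apply hsh _ h3 a b hab
    · rw [mul_smul, h1, inv_smul_smul]
    · rw [mul_smul, h2, inv_smul_smul]
  let A : Finset G := Finset.univ.filter fun g => g • α = γ
  have hAcard : A.card = Fintype.card Ω - 1 := by
    have h1 : A.card = (Finset.univ.erase γ : Finset Ω).card := by
      refine Finset.card_bij (fun g _ => g • γ) ?_ ?_ ?_
      · intro g hg
        have hg' : g • α = γ := (Finset.mem_filter.mp hg).2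
        simp only [Finset.mem_erase, Finset.mem_univ, and_true]
        intro h
        apply hne
        exact smul_left_cancel g (hg'.trans h.symm)
      · intro g hg g' hg' h
        have h1' : g • α = γ := (Finset.mem_filter.mp hg).2
        have h2' : g' • α = γ := (Finset.mem_filter.mp hg').2
        exact huniq2 g g' α γ hne (h1'.trans h2'.symm) h
      · intro δ hδ
        have hδ' : γ ≠ δ := fun h => (Finset.mem_erase.mp hδ).1 h.symm
        obtain ⟨g, hg1, hg2⟩ := ht hne hδ'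
        exact ⟨g, Finset.mem_filter.mpr ⟨Finset.mem_univ _, hg1⟩, hg2⟩
    rw [h1, Finset.card_erase_of_mem (Finset.mem_univ _), Finset.card_univ]
  let Y : Finset Ω := ((Finset.univ.erase α).erase γ : Finset Ω)
  have hYcard : Y.card = Fintype.card Ω - 2 := by
    have h1 : γ ∈ (Finset.univ.erase α : Finset Ω) :=
      Finset.mem_erase.mpr ⟨hne.symm, Finset.mem_univ _⟩
    simp only [Y]
    rw [Finset.card_erase_of_mem h1, Finset.card_erase_of_mem (Finset.mem_univ _), Finset.card_univ]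
    omega
  have hex : ∀ ε : Ω, ε ≠ α → ε ≠ γ → ∃ g : G, g • ε = ε ∧ g • α = γ := by
    intro ε h1 h2
    exact ht h1 h2
  choose! φ hφ1 hφ2 using hex
  have hY : ∀ ε ∈ Y, ε ≠ α ∧ ε ≠ γ := by
    intro ε hε
    have h1 := Finset.mem_erase.mp hε
    exact ⟨(Finset.mem_erase.mp h1.2).1, h1.1⟩
  have hφne : ∀ ε ∈ Y, φ ε ≠ 1 := by
    intro ε hε h
    have := hφ2 ε (hY ε hε).1 (hY ε hε).2
    rw [h, one_smul] at this
    exact hne this
  let B : Finset G := Y.image φ
  have hBcard : B.card = Y.card := by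
    apply Finset.card_image_of_injOn
    intro ε hε ε' hε' h
    by_contra hee
    have hε1 : ε ∈ Y := hε
    have hε1' : ε' ∈ Y := hε'
    apply hsh (φ ε) (hφne ε hε1) ε ε' hee (hφ1 ε (hY ε hε1).1 (hY ε hε1).2)
    rw [h]
    exact hφ1 ε' (hY ε' hε1').1 (hY ε' hε1').2
  have hBA : B ⊆ A := by
    intro g hg
    obtain ⟨ε, hε, rfl⟩ := Finset.mem_image.mp hg
    exact Finset.mem_filter.mpr ⟨Finset.mem_univ _, hφ2 ε (hY ε hε).1 (hY ε hε).2⟩
  have hcard2 : 2 ≤ Fintype.card Ω := by
    have : 1 < Fintype.card Ω := Fintype.one_lt_card_iff.mpr ⟨α, γ, hne⟩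
    omega
  have hD : (A \ B).card = 1 := by
    rw [Finset.card_sdiff_of_subset hBA, hAcard, hBcard, hYcard]
    omega
  obtain ⟨u, hu⟩ := Finset.card_eq_one.mp hD
  have hu' : u ∈ A \ B := by rw [hu]; exact Finset.mem_singleton_self u
  have huA : u • α = γ := (Finset.mem_filter.mp (Finset.mem_sdiff.mp hu').1).2
  refine ⟨u, huA, ?_, ?_⟩
  · intro ε hε
    have h1 : ε ≠ α := by
      rintro rfl
      rw [huA] at hε
      exact hne hε.symm
    have h2 : ε ≠ γ := by
      rintro rfl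
      exact hne (smul_left_cancel u (huA.trans hε.symm))
    apply (Finset.mem_sdiff.mp hu').2
    refine Finset.mem_image.mpr ⟨ε, ?_, ?_⟩
    · exact Finset.mem_erase.mpr ⟨h2, Finset.mem_erase.mpr ⟨h1, Finset.mem_univ _⟩⟩
    · exact huniq2 _ _ ε α h1 ((hφ1 ε h1 h2).trans hε.symm) ((hφ2 ε h1 h2).trans huA.symm)
  · intro v hv hvd
    have h1 : v ∈ A \ B := by
      refine Finset.mem_sdiff.mpr ⟨Finset.mem_filter.mpr ⟨Finset.mem_univ _, hv⟩, ?_⟩
      intro hvB
      obtain ⟨ε, hε, rfl⟩ := Finset.mem_image.mp hvB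
      exact hvd ε (hφ1 ε (hY ε hε).1 (hY ε hε).2)
    rw [hu] at h1
    exact Finset.mem_singleton.mp h1

end Backward

end Action

theorem main_iff {G : Type*} [Group G] [Finite G] {Ω : Type*} [Fintype Ω] [MulAction G Ω] [FaithfulSMul G Ω] (hΩ : 2 ≤ Fintype.card Ω) (hprim : MulAction.IsPreprimitive G Ω) (hnas : ¬ ∃ T : Subgroup G, T.Normal ∧ IsSimpleGroup T ∧ ¬ IsMulCommutative T ∧ Subgroup.centralizer (T : Set G) = ⊥) :
    Nat.card {c : ConjClasses G // ∃ g : G, ConjClasses.mk g = c ∧ ∀ ω : Ω, g • ω ≠ ω} = 1 ↔ (MulAction.IsMultiplyPretransitive G Ω 2 ∧ ∀ g : G, g ≠ 1 → ∀ a b : Ω, a ≠ b → g • a = a → g • b ≠ b) := by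
  classical
  obtain ⟨a, b, hab⟩ : ∃ a b : Ω, a ≠ b := Fintype.one_lt_card_iff.mp (by omega)
  haveI : Nonempty Ω := ⟨a⟩
  constructor
  · intro h
    obtain ⟨hsub, -⟩ := Nat.card_eq_one_iff_unique.mp h
    have huniq : ∀ u v : G, IsDer Ω u → IsDer Ω v → IsConj u v := by
      intro u v hu hv
      have := hsub.elim ⟨ConjClasses.mk u, u, rfl, hu⟩ ⟨ConjClasses.mk v, v, rfl, hv⟩
      exact ConjClasses.mk_eq_mk_iff_isConj.mp (congrArg Subtype.val this)
    -- a minimal normal subgroup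
    have htop : (⊤ : Subgroup G) ≠ ⊥ := by
      intro h0
      obtain ⟨g, hg⟩ := exists_smul_eq G a b
      have : g = 1 := by
        have h1 : g ∈ (⊤ : Subgroup G) := trivial
        rwa [h0, Subgroup.mem_bot] at h1
      rw [this, one_smul] at hg
      exact hab hg
    let S : Set (Subgroup G) := {R | R.Normal ∧ R ≠ ⊥}
    have hS : S.Nonempty := ⟨⊤, inferInstance, htop⟩
    obtain ⟨N, hN⟩ := (Set.toFinite S).exists_minimal hS
    haveI hNn : N.Normal := hN.1.1
    have hmin : MinNormal N := by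
      refine ⟨hN.1.2, fun M hM hle => ?_⟩
      by_cases h0 : M = ⊥
      · exact Or.inl h0
      · exact Or.inr (le_antisymm hle (hN.2 ⟨hM, h0⟩ hle))
    by_cases hc : ∀ x ∈ N, ∀ y ∈ N, x * y = y * x
    · exact forward_abelian N hN.1.2 hc huniq
    · push Not at hc
      exact (false_of_nonab (Ω := Ω) N hmin hc hnas huniq).elim
  · rintro ⟨h2, hsh⟩
    have ht : ∀ {a b c d : Ω} (_ : a ≠ b) (_ : c ≠ d), ∃ g : G, g • a = c ∧ g • b = d :=
      fun {a b c d} h h' => (is_two_pretransitive_iff (G := G) (α := Ω)).mp h2 h h'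
    refine Nat.card_eq_one_iff_unique.mpr ⟨⟨?_⟩, ?_⟩
    · rintro ⟨c1, g1, rfl, d1⟩ ⟨c2, g2, rfl, d2⟩
      apply Subtype.ext
      apply ConjClasses.mk_eq_mk_iff_isConj.mpr
      have hβ : a ≠ g1 • a := fun h => d1 a h.symm
      have hγ : a ≠ g2 • a := fun h => d2 a h.symm
      obtain ⟨h, hh1, hh2⟩ := ht hβ hγ
      obtain ⟨u, _, _, huu⟩ := exists_unique_der (G := G) ht hsh hγ
      have e1 : h * g1 * h⁻¹ = u := by
        apply huu _ _ (IsDer.conj d1 h)
        have h3 : h⁻¹ • a = a := by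
          conv_lhs => rw [← hh1]
          simp
        rw [mul_smul, h3, mul_smul, hh2]
      have e2 : g2 = u := huu _ rfl d2
      exact isConj_iff.mpr ⟨h, e1.trans e2.symm⟩
    · obtain ⟨u, _, hud, _⟩ := exists_unique_der (G := G) ht hsh hab
      exact ⟨⟨ConjClasses.mk u, u, rfl, hud⟩⟩

/-- Let a finite group G act faithfully and primitively on a finite set Ω with at least two points, and suppose G is not almost simple (it has no non-abelian simple normal subgroup with trivial centralizer). Then the derangements of G form a single conjugacy class if and only if G is sharply 2-transitive (2-transitive, and no non-identity element fixes two points). -/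
theorem result {G : Type*} [Group G] [Finite G] {Ω : Type*} [Fintype Ω] [MulAction G Ω] [FaithfulSMul G Ω] (hΩ : 2 ≤ Fintype.card Ω) (hprim : MulAction.IsPreprimitive G Ω) (hnas : ¬ ∃ T : Subgroup G, T.Normal ∧ IsSimpleGroup T ∧ ¬ IsMulCommutative T ∧ Subgroup.centralizer (T : Set G) = ⊥) :
    Nat.card {c : ConjClasses G // ∃ g : G, ConjClasses.mk g = c ∧ ∀ ω : Ω, g • ω ≠ ω} = 1 ↔ (MulAction.IsMultiplyPretransitive G Ω 2 ∧ ∀ g : G, g ≠ 1 → ∀ a b : Ω, a ≠ b → g • a = a → g • b ≠ b) :=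
  main_iff hΩ hprim hnas

end Cfsg.Agent.S3501
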