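import Cfsg.Statements.S3514
import Mathlib
import Cfsg.Agent.S4088

set_option autoImplicit false
open Cfsg

namespace Cfsg.Agent.S3514

open Subgroup

section gen
variable {Γ V : Type*} [Group Γ] [MulAction Γ V] [Finite V]

/-- The `A`-orbit of `v`. -/
def Orb (A : Subgroup Γ) (v : V) : Set V := {u | ∃ h ∈ A, h • v = u}

lemma orb_self (A : Subgroup Γ) (v : V) : v ∈ Orb A v := ⟨1, A.one_mem, one_smul _ _⟩

lemma orb_eq_of_mem {A : Subgroup Γ} {v u : V} (h : u ∈ Orb A v) : Orb A u = Orb A v := by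
  obtain ⟨a, ha, rfl⟩ := h
  ext w
  constructor
  · rintro ⟨b, hb, rfl⟩
    exact ⟨b * a, A.mul_mem hb ha, mul_smul _ _ _⟩
  · rintro ⟨b, hb, rfl⟩
    refine ⟨b * a⁻¹, A.mul_mem hb (A.inv_mem ha), ?_⟩
    rw [mul_smul, inv_smul_smul]

lemma orb_conj {A B : Subgroup Γ} (hAB : A ≤ normalizer (B : Set Γ)) {a : Γ} (ha : a ∈ A) (u : V) :
    Orb B (a • u) = (fun w => a • w) '' Orb B u := by
  ext w
  constructor
  · rintro ⟨b, hb, rfl⟩
    refine ⟨(a⁻¹ * b * a) • u, ⟨a⁻¹ * b * a, ?_, rfl⟩, ?_⟩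
    · have := (mem_normalizer_iff.mp (hAB (A.inv_mem ha)) b).mp hb
      simpa using this
    · show a • (a⁻¹ * b * a) • u = b • a • u
      rw [← mul_smul, ← mul_smul]
      congr 1
      group
  · rintro ⟨w', ⟨b, hb, rfl⟩, rfl⟩
    refine ⟨a * b * a⁻¹, (mem_normalizer_iff.mp (hAB ha) b).mp hb, ?_⟩
    show (a * b * a⁻¹) • a • u = a • b • u
    rw [← mul_smul, ← mul_smul]
    congr 1
    group

/-- The set of `B`-orbits meeting the `A`-orbit of `v`. -/
def OrbSet (A B : Subgroup Γ) (v : V) : Set (Set V) := (fun u => Orb B u) '' Orb A v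

lemma card_orbset_dvd (A B : Subgroup Γ) (hAB : A ≤ normalizer (B : Set Γ)) (v : V) :
    Nat.card (OrbSet A B v) ∣ Nat.card (Orb A v) := by
  classical
  refine ⟨Nat.card {u : Orb A v // Orb B (u : V) = Orb B v}, ?_⟩
  apply Cfsg.Agent.S4088.card_eq_mul_of_fibers
    (fun u : Orb A v => (⟨Orb B (u : V), (u : V), u.2, rfl⟩ : OrbSet A B v))
  rintro ⟨_, _, ⟨a, ha, rfl⟩, rfl⟩
  apply Nat.card_congr
  refine ⟨fun x => ⟨⟨a⁻¹ • (x.1 : V), ?_⟩, ?_⟩, fun y => ⟨⟨a • (y.1 : V), ?_⟩, ?_⟩, ?_, ?_⟩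
  · obtain ⟨c, hc, e⟩ := x.1.2
    refine ⟨a⁻¹ * c, A.mul_mem (A.inv_mem ha) hc, ?_⟩
    rw [mul_smul, e]
  · have h1 : Orb B (x.1 : V) = Orb B (a • v) := congrArg Subtype.val x.2
    show Orb B (a⁻¹ • (x.1 : V)) = Orb B v
    rw [orb_conj hAB (A.inv_mem ha), h1, orb_conj hAB ha]
    ext w
    simp
  · obtain ⟨c, hc, e⟩ := y.1.2
    refine ⟨a * c, A.mul_mem ha hc, ?_⟩
    rw [mul_smul, e]
  · apply Subtype.ext
    show Orb B (a • (y.1 : V)) = Orb B (a • v)
    have h1 : Orb B (y.1 : V) = Orb B v := y.2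
    rw [orb_conj hAB ha, orb_conj hAB ha, h1]
  · intro x
    apply Subtype.ext
    apply Subtype.ext
    simp
  · intro y
    apply Subtype.ext
    apply Subtype.ext
    simp

lemma card_orb_eq_mul (A B : Subgroup Γ) (hAB : A ≤ normalizer (B : Set Γ)) (hBA : B ≤ A) (v : V) :
    Nat.card (Orb A v) = Nat.card (OrbSet A B v) * Nat.card (Orb B v) := by
  classical
  apply Cfsg.Agent.S4088.card_eq_mul_of_fibers
    (fun u : Orb A v => (⟨Orb B (u : V), (u : V), u.2, rfl⟩ : OrbSet A B v))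
  rintro ⟨_, _, ⟨a, ha, rfl⟩, rfl⟩
  apply Nat.card_congr
  refine ⟨fun x => ⟨a⁻¹ • (x.1 : V), ?_⟩, fun y => ⟨⟨a • (y.1 : V), ?_⟩, ?_⟩, ?_, ?_⟩
  · have h1 : Orb B (x.1 : V) = Orb B (a • v) := congrArg Subtype.val x.2
    have h2 : (x.1 : V) ∈ Orb B (a • v) := by rw [← h1]; exact orb_self _ _
    rw [orb_conj hAB ha] at h2
    obtain ⟨w, hw, e⟩ := h2
    rw [← e]
    simpa using hw
  · obtain ⟨c, hc, e⟩ := y.2
    refine ⟨a * c, A.mul_mem ha (hBA hc), ?_⟩
    rw [mul_smul, e]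
  · apply Subtype.ext
    show Orb B (a • (y.1 : V)) = Orb B (a • v)
    have h1 : Orb B (y.1 : V) = Orb B v := orb_eq_of_mem y.2
    rw [orb_conj hAB ha, orb_conj hAB ha, h1]
  · intro x
    apply Subtype.ext
    apply Subtype.ext
    simp
  · intro y
    apply Subtype.ext
    simp

lemma card_orb_dvd [Finite Γ] (B : Subgroup Γ) (v : V) : Nat.card (Orb B v) ∣ Nat.card B := by
  classical
  refine ⟨Nat.card {b : B // (b : Γ) • v = v}, ?_⟩
  apply Cfsg.Agent.S4088.card_eq_mul_of_fibers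
    (fun b : B => (⟨(b : Γ) • v, b, b.2, rfl⟩ : Orb B v))
  rintro ⟨_, b0, hb0, rfl⟩
  apply Nat.card_congr
  refine ⟨fun x => ⟨⟨b0⁻¹ * x.1, B.mul_mem (B.inv_mem hb0) x.1.2⟩, ?_⟩,
    fun y => ⟨⟨b0 * y.1, B.mul_mem hb0 y.1.2⟩, ?_⟩, ?_, ?_⟩
  · have h1 : ((x.1 : B) : Γ) • v = b0 • v := congrArg Subtype.val x.2
    show (b0⁻¹ * ((x.1 : B) : Γ)) • v = v
    rw [mul_smul, h1, inv_smul_smul]
  · apply Subtype.ext
    show (b0 * ((y.1 : B) : Γ)) • v = b0 • v
    rw [mul_smul]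
    have h1 : ((y.1 : B) : Γ) • v = v := y.2
    rw [h1]
  · intro x
    apply Subtype.ext
    apply Subtype.ext
    show b0 * (b0⁻¹ * ((x.1 : B) : Γ)) = _
    group
  · intro y
    apply Subtype.ext
    apply Subtype.ext
    show b0⁻¹ * (b0 * ((y.1 : B) : Γ)) = _
    group

end gen

/-- Let p be a prime, V a finite vector space over the field with p elements, and H a group of linear transformations of V all of whose orbits on V have size coprime to p. (i) Every normal subgroup K of H has all its orbits on V of size coprime to p. (ii) If N is a group of linear transformations of V of order coprime to p that is normalized by H, then the group generated by N and H has all its orbits on V of size coprime to p. -/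
theorem result (p : ℕ) [Fact p.Prime] {V : Type*} [AddCommGroup V] [Module (ZMod p) V] [Finite V]
    (H : Subgroup (V ≃ₗ[ZMod p] V)) (hH : ∀ v : V, ¬ p ∣ Nat.card {u : V | ∃ h ∈ H, h v = u}) :
    (∀ K : Subgroup (V ≃ₗ[ZMod p] V), K ≤ H → H ≤ Subgroup.normalizer (K : Set (V ≃ₗ[ZMod p] V)) →
        ∀ v : V, ¬ p ∣ Nat.card {u : V | ∃ k ∈ K, k v = u}) ∧
    (∀ N : Subgroup (V ≃ₗ[ZMod p] V), ¬ p ∣ Nat.card N → H ≤ Subgroup.normalizer (N : Set (V ≃ₗ[ZMod p] V)) →
        ∀ v : V, ¬ p ∣ Nat.card {u : V | ∃ x ∈ N ⊔ H, x v = u}) := by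
  classical
  haveI : Finite (V ≃ₗ[ZMod p] V) := Finite.of_injective
    (fun f : V ≃ₗ[ZMod p] V => (f : V → V)) (fun f g h => LinearEquiv.ext (congrFun h))
  have hpp : p.Prime := Fact.out
  have hH' : ∀ v : V, ¬ p ∣ Nat.card (Orb H v) := hH
  constructor
  · intro K hKH hHK v hd
    exact hH' v (hd.trans (Dvd.intro_left _ (card_orb_eq_mul H K hHK hKH v).symm))
  · intro N hN hHN v hd
    -- the big group normalizes N
    have hA : N ⊔ H ≤ normalizer (N : Set (V ≃ₗ[ZMod p] V)) := sup_le le_normalizer hHN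
    have h1 := card_orb_eq_mul (N ⊔ H) N hA le_sup_left v
    have h2 : OrbSet (N ⊔ H) N v = OrbSet H N v := by
      apply Set.Subset.antisymm
      · rintro _ ⟨u, ⟨x, hx, rfl⟩, rfl⟩
        -- x = n h
        have hx' : ∃ n ∈ N, ∃ h ∈ H, x = n * h := by
          have : x ∈ Subgroup.closure ((N : Set (V ≃ₗ[ZMod p] V)) ∪ H) := by
            rw [Subgroup.closure_union, Subgroup.closure_eq, Subgroup.closure_eq]
            exact hx
          induction this using Subgroup.closure_induction with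
          | mem y hy =>
            rcases hy with hy | hy
            · exact ⟨y, hy, 1, H.one_mem, by group⟩
            · exact ⟨1, N.one_mem, y, hy, by group⟩
          | one => exact ⟨1, N.one_mem, 1, H.one_mem, by group⟩
          | mul y z hy hz ihy ihz =>
            obtain ⟨n1, hn1, h1, hh1, rfl⟩ := ihy (Subgroup.closure_le _ |>.mpr (by
              rintro a (ha | ha)
              · exact (le_sup_left : N ≤ N ⊔ H) ha
              · exact (le_sup_right : H ≤ N ⊔ H) ha) hy)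
            obtain ⟨n2, hn2, h2, hh2, rfl⟩ := ihz (Subgroup.closure_le _ |>.mpr (by
              rintro a (ha | ha)
              · exact (le_sup_left : N ≤ N ⊔ H) ha
              · exact (le_sup_right : H ≤ N ⊔ H) ha) hz)
            refine ⟨n1 * (h1 * n2 * h1⁻¹), N.mul_mem hn1 ((mem_normalizer_iff.mp (hHN hh1) n2).mp hn2),
              h1 * h2, H.mul_mem hh1 hh2, by group⟩
          | inv y hy ihy =>
            obtain ⟨n1, hn1, h1, hh1, rfl⟩ := ihy (Subgroup.closure_le _ |>.mpr (by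
              rintro a (ha | ha)
              · exact (le_sup_left : N ≤ N ⊔ H) ha
              · exact (le_sup_right : H ≤ N ⊔ H) ha) hy)
            refine ⟨h1⁻¹ * n1⁻¹ * h1, ?_, h1⁻¹, H.inv_mem hh1, by group⟩
            have := (mem_normalizer_iff.mp (hHN (H.inv_mem hh1)) n1⁻¹).mp (N.inv_mem hn1)
            simpa using this
        obtain ⟨n, hn, h, hh, rfl⟩ := hx'
        refine ⟨h • v, ⟨h, hh, rfl⟩, ?_⟩
        apply orb_eq_of_mem
        exact ⟨n⁻¹, N.inv_mem hn, by rw [mul_smul, inv_smul_smul]⟩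
      · rintro _ ⟨u, ⟨h, hh, rfl⟩, rfl⟩
        exact ⟨h • v, ⟨h, (le_sup_right : H ≤ N ⊔ H) hh, rfl⟩, rfl⟩
    have h3 : ¬ p ∣ Nat.card (OrbSet (N ⊔ H) N v) := by
      rw [h2]
      intro h4
      exact hH' v (h4.trans (card_orbset_dvd H N hHN v))
    have h4 : ¬ p ∣ Nat.card (Orb N v) := fun h5 => hN (h5.trans (card_orb_dvd N v))
    have h5 : p ∣ Nat.card (Orb (N ⊔ H) v) := hd
    rw [h1] at h5
    rcases (Nat.Prime.dvd_mul hpp).mp h5 with h6 | h6
    · exact h3 h6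
    · exact h4 h6

end Cfsg.Agent.S3514
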