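import Cfsg.Statements.S3520
import Mathlib
import Cfsg.Agent.Lib.Perm.Derange
-- import your own Cfsg.Agent.* helpers here

set_option autoImplicit false
open Cfsg

namespace Cfsg.Agent.S3520

open Cfsg.Agent.Lib.Perm.Derange Cfsg.Agent.Lib.Solvable.MinimalNormal Cfsg.Agent.Lib.Perm.Basic
open MulAction

set_option linter.style.haveILetI false

variable {G Ω : Type*} [Group G] [MulAction G Ω]

theorem orderOf_eq_of_conj {x y : G} (h : IsConj x y) : orderOf x = orderOf y := by
  obtain ⟨c, rfl⟩ := isConj_iff.mp h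
  have := orderOf_injective (MulAut.conj c).toMonoidHom (MulAut.conj c).injective x
  simpa [MulAut.conj_apply] using this.symm

/-- number of fixed points as a sum -/
theorem natCard_fixedBy [DecidableEq Ω] [Fintype Ω] (g : G) :
    Nat.card (fixedBy Ω g) = ∑ ω : Ω, if g • ω = ω then 1 else 0 := by
  rw [← Finset.card_filter]
  exact Nat.subtype_card _ (by simp [mem_fixedBy])

/-- Coset average: the fixed points of the elements of a coset of a regular subgroup. -/
theorem sum_fix_coset [Finite G] [Fintype Ω] (N : Subgroup G) [Fintype N]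
    (htr : ∀ x y : Ω, ∃ n ∈ N, n • x = y)
    (hfree : ∀ m ∈ N, ∀ ω : Ω, m • ω = ω → m = 1) (y : G) :
    ∑ m : N, Nat.card (fixedBy Ω (y * (m : G))) = Fintype.card Ω := by
  classical
  simp_rw [natCard_fixedBy]
  rw [Finset.sum_comm]
  have key : ∀ ω : Ω, ∑ m : N, (if (y * (m : G)) • ω = ω then 1 else 0) = 1 := by
    intro ω
    obtain ⟨m₀, hm₀, hω⟩ := htr ω (y⁻¹ • ω)
    rw [Finset.sum_eq_single (⟨m₀, hm₀⟩ : N)]
    · rw [if_pos]
      rw [mul_smul, hω, smul_inv_smul]
    · intro m _ hne
      rw [if_neg]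
      intro hm
      apply hne
      rw [mul_smul, ← eq_inv_smul_iff] at hm
      have h1 : ((m₀ : G)⁻¹ * m) • ω = ω := by
        rw [mul_smul, inv_smul_eq_iff, hm, hω]
      have := hfree _ (mul_mem (inv_mem hm₀) m.2) ω h1
      apply Subtype.ext
      rw [inv_mul_eq_one] at this
      exact this.symm
    · intro h
      exact absurd (Finset.mem_univ _) h
  simp_rw [key]
  simp

/-- Cardinality of a regular subgroup. -/
theorem card_regular (N : Subgroup G) [Fintype Ω] [Finite G] (ω₀ : Ω)
    (htr : ∀ x y : Ω, ∃ n ∈ N, n • x = y)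
    (hfree : ∀ m ∈ N, ∀ ω : Ω, m • ω = ω → m = 1) : Nat.card N = Fintype.card Ω := by
  rw [← Nat.card_eq_fintype_card]
  refine Nat.card_congr (Equiv.ofBijective (fun a : N => (a : G) • ω₀) ⟨?_, ?_⟩)
  · intro a a' haa
    have h1 : ((a' : G)⁻¹ * a) • ω₀ = ω₀ := by
      rw [mul_smul, inv_smul_eq_iff]
      exact haa
    have := hfree _ (mul_mem (inv_mem a'.2) a.2) ω₀ h1
    apply Subtype.ext
    rw [inv_mul_eq_one] at this
    exact this.symm
  · intro y
    obtain ⟨a, ha, hay⟩ := htr ω₀ y
    exact ⟨⟨a, ha⟩, hay⟩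

/-- Outside a regular subgroup: if all elements of a coset have at most one fixed point they have
exactly one. -/
theorem fix_eq_one_of_le [Finite G] [Fintype Ω] (N : Subgroup G) (ω₀ : Ω)
    (htr : ∀ x y : Ω, ∃ n ∈ N, n • x = y)
    (hfree : ∀ m ∈ N, ∀ ω : Ω, m • ω = ω → m = 1) (y : G)
    (h : ∀ m ∈ N, Nat.card (fixedBy Ω (y * m)) ≤ 1) :
    Nat.card (fixedBy Ω y) = 1 := by
  classical
  have := Fintype.ofFinite N
  have hs := sum_fix_coset N htr hfree y
  have hc : ∑ _m : N, 1 = Fintype.card Ω := by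
    rw [← card_regular N ω₀ htr hfree, Nat.card_eq_fintype_card]
    simp
  rw [← hc] at hs
  have h' : ∀ m : N, m ∈ Finset.univ → Nat.card (fixedBy Ω (y * (m : G))) ≤ 1 := fun m _ => h m m.2
  have := (Finset.sum_eq_sum_iff_of_le h').mp hs
  have h1 := this (1 : N) (Finset.mem_univ _)
  simpa using h1

theorem fix_eq_one_of_ge [Finite G] [Fintype Ω] (N : Subgroup G) (ω₀ : Ω)
    (htr : ∀ x y : Ω, ∃ n ∈ N, n • x = y)
    (hfree : ∀ m ∈ N, ∀ ω : Ω, m • ω = ω → m = 1) (y : G)
    (h : ∀ m ∈ N, 1 ≤ Nat.card (fixedBy Ω (y * m))) :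
    Nat.card (fixedBy Ω y) = 1 := by
  classical
  have := Fintype.ofFinite N
  have hs := sum_fix_coset N htr hfree y
  have hc : ∑ _m : N, 1 = Fintype.card Ω := by
    rw [← card_regular N ω₀ htr hfree, Nat.card_eq_fintype_card]
    simp
  rw [← hc] at hs
  have h' : ∀ m : N, m ∈ Finset.univ → 1 ≤ Nat.card (fixedBy Ω (y * (m : G))) := fun m _ => h m m.2
  have := (Finset.sum_eq_sum_iff_of_le h').mp hs.symm
  have h1 := this (1 : N) (Finset.mem_univ _)
  simpa using h1.symm

/-- A non-derangement has a positive number of fixed points. -/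
theorem one_le_fix_of_not_der [Finite Ω] {g : G} (h : ¬ ∀ ω : Ω, g • ω ≠ ω) :
    1 ≤ Nat.card (fixedBy Ω g) := by
  push Not at h
  obtain ⟨ω, hω⟩ := h
  have : Nonempty (fixedBy Ω g) := ⟨⟨ω, hω⟩⟩
  exact Nat.card_pos

/-- If three pairwise non-conjugate derangements exist, there are at least 3 derangement classes. -/
theorem three_le_of_three [Finite G] {u v w : G} (hu : ∀ ω : Ω, u • ω ≠ ω)
    (hv : ∀ ω : Ω, v • ω ≠ ω) (hw : ∀ ω : Ω, w • ω ≠ ω) (huv : ¬ IsConj u v) (huw : ¬ IsConj u w)
    (hvw : ¬ IsConj v w) :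
    3 ≤ Nat.card {c : ConjClasses G // ∃ g : G, ConjClasses.mk g = c ∧ ∀ ω : Ω, g • ω ≠ ω} := by
  classical
  let f : Fin 3 → {c : ConjClasses G // ∃ g : G, ConjClasses.mk g = c ∧ ∀ ω : Ω, g • ω ≠ ω} :=
    ![⟨_, u, rfl, hu⟩, ⟨_, v, rfl, hv⟩, ⟨_, w, rfl, hw⟩]
  have hf : Function.Injective f := by
    intro i j hij
    have huv' : ConjClasses.mk u ≠ ConjClasses.mk v := fun h => huv (ConjClasses.mk_eq_mk_iff_isConj.mp h)
    have huw' : ConjClasses.mk u ≠ ConjClasses.mk w := fun h => huw (ConjClasses.mk_eq_mk_iff_isConj.mp h)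
    have hvw' : ConjClasses.mk v ≠ ConjClasses.mk w := fun h => hvw (ConjClasses.mk_eq_mk_iff_isConj.mp h)
    fin_cases i <;> fin_cases j <;> simp_all [f, Subtype.ext_iff]
  have := Nat.card_le_card_of_injective f hf
  simpa using this


/-- Let a finite group G act faithfully and primitively on a finite set Ω with at least two points, suppose G is not almost simple (no non-abelian simple normal subgroup with trivial centralizer), and suppose the derangements of G form exactly two conjugacy classes. Then either Ω has 3 points and G has order 3; or G has a non-trivial abelian normal subgroup N acting regularly, every non-identity element of G fixes at most one point (so, when n > 3, G is a Frobenius group with kernel N), the number n of points is odd and a point stabilizer has order (n − 1)/2; or G is 2-transitive with a non-trivial abelian regular normal subgroup and some non-identity element fixes at least two points (a non-Frobenius 2-transitive affine group). -/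
theorem result {G : Type*} [Group G] [Finite G] {Ω : Type*} [Fintype Ω] [MulAction G Ω] [FaithfulSMul G Ω] (hΩ : 2 ≤ Fintype.card Ω) (hprim : MulAction.IsPreprimitive G Ω) (hnas : ¬ ∃ T : Subgroup G, T.Normal ∧ IsSimpleGroup T ∧ ¬ IsMulCommutative T ∧ Subgroup.centralizer (T : Set G) = ⊥)
    (hκ : Nat.card {c : ConjClasses G // ∃ g : G, ConjClasses.mk g = c ∧ ∀ ω : Ω, g • ω ≠ ω} = 2) (α : Ω) :
    (Fintype.card Ω = 3 ∧ Nat.card G = 3) ∨
    ((∃ N : Subgroup G, N.Normal ∧ N ≠ ⊥ ∧ IsMulCommutative N ∧ ∀ ω : Ω, MulAction.stabilizer N ω = ⊥) ∧ (∀ g : G, g ≠ 1 → Nat.card (MulAction.fixedBy Ω g) ≤ 1) ∧ ¬ 2 ∣ Fintype.card Ω ∧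
        2 * Nat.card (MulAction.stabilizer G α) = Fintype.card Ω - 1) ∨
    ((∃ N : Subgroup G, N.Normal ∧ N ≠ ⊥ ∧ IsMulCommutative N ∧ ∀ ω : Ω, MulAction.stabilizer N ω = ⊥) ∧ MulAction.IsMultiplyPretransitive G Ω 2 ∧ ∃ g : G, g ≠ 1 ∧ 2 ≤ Nat.card (MulAction.fixedBy Ω g)) := by
  classical
  haveI := hprim
  have hnt : Nontrivial Ω := Fintype.one_lt_card_iff_nontrivial.mp (by omega)
  obtain ⟨a, b, hab⟩ := exists_pair_ne Ω
  haveI : Nonempty Ω := ⟨a⟩
  have hlt : Nat.card {c : ConjClasses G // ∃ g : G, ConjClasses.mk g = c ∧ ∀ ω : Ω, g • ω ≠ ω} < 3 := by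
    rw [hκ]; norm_num
  by_cases hab' : ∃ M : Subgroup G, IsMinNormal M ∧ ∀ x ∈ M, ∀ y ∈ M, x * y = y * x
  swap
  · exfalso
    push Not at hab'
    have hnoab : ∀ M : Subgroup G, IsMinNormal M → ¬ ∀ x ∈ M, ∀ y ∈ M, x * y = y * x := by
      intro M hM hc
      obtain ⟨x, hx, y, hy, hne⟩ := hab' M hM
      exact hne (hc x hx y hy)
    rcases nonabelian_dichotomy a b hab hnoab with hT | ⟨A, B, hR⟩ | ⟨N, A, B, hC⟩
    · exact hnas hT
    · obtain ⟨r, s, hr, hs, hrs, x, y, z, hx, hy, hz, hxd, hyd, hzd⟩ := hR.exists_three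
      have h3 := three_le_of_three hxd hyd hzd
        (fun h => hrs (by rw [← hx, ← hy, orderOf_eq_of_conj h]))
        (fun h => by
          have := orderOf_eq_of_conj h
          rw [hx, hz] at this
          have h1 : r * 1 = r * s := by rw [mul_one]; exact this
          have := Nat.eq_of_mul_eq_mul_left hr.pos h1
          exact hs.one_lt.ne this)
        (fun h => by
          have := orderOf_eq_of_conj h
          rw [hy, hz] at this
          have h1 : 1 * s = r * s := by rw [one_mul]; exact this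
          have := Nat.eq_of_mul_eq_mul_right hs.pos h1
          exact hr.one_lt.ne this)
      omega
    · obtain ⟨u, v, w, hu, hv, hw, h1, h2, h3⟩ := hC.exists_three
      have := three_le_of_three hu hv hw h1 h2 h3
      omega
  obtain ⟨N, hN, hcomm⟩ := hab'
  haveI hNn := hN.1
  haveI hNtr : IsPretransitive N Ω := isPretransitive_of_normal_of_ne_bot N hN.2.1
  have htr : ∀ x y : Ω, ∃ n ∈ N, n • x = y := fun x y => exists_mem_smul_eq N x y
  have hfree : ∀ m ∈ N, ∀ ω : Ω, m • ω = ω → m = 1 := fun m hm ω hω =>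
    eq_one_of_commutative_transitive N hcomm hm hω
  have hstab : ∀ ω : Ω, stabilizer N ω = ⊥ := by
    intro ω
    rw [eq_bot_iff]
    intro m hm
    rw [Subgroup.mem_bot]
    apply Subtype.ext
    exact hfree m m.2 ω hm
  have hNcomm : IsMulCommutative N := ⟨⟨fun x y => Subtype.ext (hcomm x x.2 y y.2)⟩⟩
  have hNder : ∀ x ∈ N, x ≠ 1 → ∀ ω : Ω, x • ω ≠ ω := fun x hx hx1 ω hω => hx1 (hfree x hx ω hω)
  have hder1 : ∀ g : G, (∀ ω : Ω, g • ω ≠ ω) → g ≠ 1 := by
    rintro g hg rfl
    exact hg a (one_smul G a)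
  -- conjugation inside `N` by `G` reduces to conjugation by a point stabilizer
  have hredu : ∀ x y : G, x ∈ N → IsConj x y → ∃ h ∈ stabilizer G α, h * x * h⁻¹ = y := by
    intro x y hx hconj
    obtain ⟨g, rfl⟩ := isConj_iff.mp hconj
    obtain ⟨m, hm, h, hh, rfl⟩ := exists_mem_mul_mem_stabilizer N α g
    refine ⟨h, hh, ?_⟩
    have hin : h * x * h⁻¹ ∈ N := hNn.conj_mem x hx h
    have := hcomm m hm _ hin
    calc h * x * h⁻¹ = m * (h * x * h⁻¹) * m⁻¹ := by rw [this]; group
      _ = m * h * x * (m * h)⁻¹ := by group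
  by_cases hone : ∀ x ∈ N, ∀ y ∈ N, x ≠ 1 → y ≠ 1 → IsConj x y
  · -- 2-transitive case
    right; right
    refine ⟨⟨N, hN.1, hN.2.1, hNcomm, hstab⟩, ?_, ?_⟩
    · haveI : IsPretransitive G Ω := inferInstance
      apply isTwoPretransitive_of_stabilizer α
      intro u v hu hv
      obtain ⟨x, hx, rfl⟩ := htr α u
      obtain ⟨y, hy, rfl⟩ := htr α v
      have hx1 : x ≠ 1 := by rintro rfl; exact hu (one_smul G α)
      have hy1 : y ≠ 1 := by rintro rfl; exact hv (one_smul G α)
      obtain ⟨h, hh, hxy⟩ := hredu x y hx (hone x hx y hy hx1 hy1)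
      refine ⟨h, hh, ?_⟩
      rw [← hxy]
      have hhα : h • α = α := hh
      rw [mul_smul, mul_smul, inv_smul_eq_iff.mpr hhα.symm]
    · by_contra hcon
      push Not at hcon
      have hle : ∀ g : G, g ≠ 1 → Nat.card (fixedBy Ω g) ≤ 1 := by
        intro g hg
        have := hcon g hg
        omega
      -- every derangement lies in `N`
      have hderN : ∀ g : G, (∀ ω : Ω, g • ω ≠ ω) → g ∈ N := by
        intro g hg
        by_contra hgN
        have h1 := fix_eq_one_of_le N a htr hfree g (fun m hm => hle _ (by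
          intro he
          apply hgN
          have : g = m⁻¹ := eq_inv_of_mul_eq_one_left he
          rw [this]
          exact inv_mem hm))
        have := one_le_fix_of_not_der (g := g) (Ω := Ω)
        have h0 : Nat.card (fixedBy Ω g) = 0 := by
          have : IsEmpty (fixedBy Ω g) := ⟨fun x => hg x.1 x.2⟩
          exact Nat.card_of_isEmpty
        omega
      have hsub : Subsingleton {c : ConjClasses G // ∃ g : G, ConjClasses.mk g = c ∧ ∀ ω : Ω, g • ω ≠ ω} := by
        constructor
        rintro ⟨_, g₁, rfl, h₁⟩ ⟨_, g₂, rfl, h₂⟩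
        apply Subtype.ext
        exact ConjClasses.mk_eq_mk_iff_isConj.mpr
          (hone _ (hderN _ h₁) _ (hderN _ h₂) (hder1 _ h₁) (hder1 _ h₂))
      have := Finite.card_le_one_iff_subsingleton.mpr hsub
      omega
  · -- two classes inside `N`
    right; left
    push Not at hone
    obtain ⟨x, hx, y, hy, hx1, hy1, hxy⟩ := hone
    have hxd := hNder x hx hx1
    have hyd := hNder y hy hy1
    have hcl : ∀ g : G, (∀ ω : Ω, g • ω ≠ ω) → IsConj x g ∨ IsConj y g := by
      intro g hg
      have hne : (⟨_, x, rfl, hxd⟩ : {c : ConjClasses G // ∃ g : G, ConjClasses.mk g = c ∧ ∀ ω : Ω, g • ω ≠ ω})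
          ≠ ⟨_, y, rfl, hyd⟩ := by
        intro he
        exact hxy (ConjClasses.mk_eq_mk_iff_isConj.mp (congrArg Subtype.val he))
      obtain ⟨z, hz, huniq⟩ := (Nat.card_eq_two_iff' (⟨_, x, rfl, hxd⟩ : {c : ConjClasses G // ∃ g : G, ConjClasses.mk g = c ∧ ∀ ω : Ω, g • ω ≠ ω})).mp hκ
      by_cases h1 : (⟨_, g, rfl, hg⟩ : {c : ConjClasses G // ∃ g : G, ConjClasses.mk g = c ∧ ∀ ω : Ω, g • ω ≠ ω})
          = ⟨_, x, rfl, hxd⟩
      · left
        exact (ConjClasses.mk_eq_mk_iff_isConj.mp (congrArg Subtype.val h1)).symm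
      · right
        have h2 := huniq _ h1
        have h3 := huniq _ hne.symm
        have h4 := h2.trans h3.symm
        exact (ConjClasses.mk_eq_mk_iff_isConj.mp (congrArg Subtype.val h4)).symm
    have hderN : ∀ g : G, (∀ ω : Ω, g • ω ≠ ω) → g ∈ N := by
      intro g hg
      rcases hcl g hg with h | h
      · obtain ⟨c, rfl⟩ := isConj_iff.mp h
        exact hNn.conj_mem x hx c
      · obtain ⟨c, rfl⟩ := isConj_iff.mp h
        exact hNn.conj_mem y hy c
    have hfixout : ∀ g : G, g ∉ N → Nat.card (fixedBy Ω g) = 1 := by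
      intro g hg
      apply fix_eq_one_of_ge N a htr hfree
      intro m hm
      apply one_le_fix_of_not_der
      intro hd
      apply hg
      have := hderN _ hd
      have e : g = g * m * m⁻¹ := by group
      rw [e]
      exact mul_mem this (inv_mem hm)
    have hfixle : ∀ g : G, g ≠ 1 → Nat.card (fixedBy Ω g) ≤ 1 := by
      intro g hg
      by_cases hgN : g ∈ N
      · have : IsEmpty (fixedBy Ω g) := ⟨fun u => hNder g hgN hg u.1 u.2⟩
        rw [Nat.card_of_isEmpty]
        omega
      · exact (hfixout g hgN).le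
    -- the stabilizer acts semiregularly on `N \ 1`
    have hsemireg : ∀ z ∈ N, z ≠ 1 → ∀ h ∈ stabilizer G α, h * z = z * h → h = 1 := by
      intro z hz hz1 h hh hcz
      by_contra hh1
      have hle := hfixle h hh1
      have hα : h • α = α := hh
      have hzα : h • (z • α) = z • α := by
        rw [← mul_smul, hcz, mul_smul, hα]
      have hne : z • α ≠ α := hNder z hz hz1 α
      have h2 : 1 < Nat.card (fixedBy Ω h) := by
        rw [Finite.one_lt_card_iff_nontrivial]
        exact ⟨⟨⟨α, hα⟩, ⟨z • α, hzα⟩, fun he => hne (congrArg Subtype.val he).symm⟩⟩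
      omega
    -- count
    let H := stabilizer G α
    let F : H × Bool → {z : N // z ≠ 1} := fun p =>
      if p.2 then ⟨⟨(p.1 : G) * x * (p.1 : G)⁻¹, hNn.conj_mem x hx _⟩, fun he => hx1 (by
        have := congrArg Subtype.val he
        simpa using this)⟩
      else ⟨⟨(p.1 : G) * y * (p.1 : G)⁻¹, hNn.conj_mem y hy _⟩, fun he => hy1 (by
        have := congrArg Subtype.val he
        simpa using this)⟩
    have hinj_aux : ∀ z ∈ N, z ≠ 1 → ∀ h h' : H, (h : G) * z * (h : G)⁻¹ = (h' : G) * z * (h' : G)⁻¹ →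
        h = h' := by
      intro z hz hz1 h h' he
      have h1 : (h' : G)⁻¹ * h * z = z * ((h' : G)⁻¹ * h) := by
        have : (h : G) * z = (h' : G) * z * (h' : G)⁻¹ * h := by
          rw [← he]; group
        calc (h' : G)⁻¹ * h * z = (h' : G)⁻¹ * ((h : G) * z) := by group
          _ = (h' : G)⁻¹ * ((h' : G) * z * (h' : G)⁻¹ * h) := by rw [this]
          _ = z * ((h' : G)⁻¹ * h) := by group
      have h2 := hsemireg z hz hz1 _ (mul_mem (inv_mem h'.2) h.2) h1
      apply Subtype.ext
      rw [inv_mul_eq_one] at h2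
      exact h2.symm
    have hFbij : Function.Bijective F := by
      constructor
      · rintro ⟨h, bh⟩ ⟨h', bh'⟩ he
        cases bh <;> cases bh' <;> simp only [F, if_true, if_false, Bool.false_eq_true, reduceIte] at he
        · have := congrArg (fun u => ((u : {z : N // z ≠ 1}).1 : G)) he
          simp only at this
          rw [hinj_aux y hy hy1 h h' this]
        · exfalso
          have := congrArg (fun u => ((u : {z : N // z ≠ 1}).1 : G)) he
          simp only at this
          apply hxy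
          have hc1 : IsConj y ((h : G) * y * (h : G)⁻¹) := isConj_iff.mpr ⟨h, rfl⟩
          have hc2 : IsConj x ((h' : G) * x * (h' : G)⁻¹) := isConj_iff.mpr ⟨h', rfl⟩
          rw [this] at hc1
          exact hc2.trans hc1.symm
        · exfalso
          have := congrArg (fun u => ((u : {z : N // z ≠ 1}).1 : G)) he
          simp only at this
          apply hxy
          have hc1 : IsConj x ((h : G) * x * (h : G)⁻¹) := isConj_iff.mpr ⟨h, rfl⟩
          have hc2 : IsConj y ((h' : G) * y * (h' : G)⁻¹) := isConj_iff.mpr ⟨h', rfl⟩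
          rw [this] at hc1
          exact hc1.trans hc2.symm
        · have := congrArg (fun u => ((u : {z : N // z ≠ 1}).1 : G)) he
          simp only at this
          rw [hinj_aux x hx hx1 h h' this]
      · rintro ⟨⟨z, hzN⟩, hz1⟩
        have hz1' : z ≠ 1 := fun he => hz1 (Subtype.ext he)
        rcases hcl z (hNder z hzN hz1') with hc | hc
        · obtain ⟨h, hh, rfl⟩ := hredu x z hx hc
          exact ⟨(⟨h, hh⟩, true), rfl⟩
        · obtain ⟨h, hh, rfl⟩ := hredu y z hy hc
          exact ⟨(⟨h, hh⟩, false), rfl⟩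
    have hcardF : Nat.card (H × Bool) = Nat.card {z : N // z ≠ 1} :=
      Nat.card_congr (Equiv.ofBijective F hFbij)
    have hNc : Nat.card N = Fintype.card Ω := card_regular N a htr hfree
    have hcard1 : Nat.card {z : N // z ≠ 1} + 1 = Nat.card N := by
      have := Nat.card_congr (Equiv.optionSubtypeNe (1 : N))
      rw [Finite.card_option] at this
      exact this
    have hcard2 : Nat.card (H × Bool) = Nat.card H * 2 := by
      rw [Nat.card_prod]
      simp
    refine ⟨⟨N, hN.1, hN.2.1, hNcomm, hstab⟩, hfixle, ?_, ?_⟩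
    · omega
    · have : Nat.card H = Nat.card (stabilizer G α) := rfl
      omega

end Cfsg.Agent.S3520
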