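import Cfsg.Statements.S3554
import Mathlib

set_option autoImplicit false
open Cfsg

namespace Cfsg.Agent.S3554

private lemma mem_zpowers_of_pow_eq_one {C : Type*} [Group C] [Finite C] [IsCyclic C] {a b : C}
    {p : ℕ} (hp : 0 < p) (ha : orderOf a = p) (hb : b ^ p = 1) : b ∈ Subgroup.zpowers a := by
  classical
  letI := Fintype.ofFinite C
  have hS := IsCyclic.card_pow_eq_one_le (α := C) hp
  let T : Finset C := (Finset.range p).image (fun k => a ^ k)
  have hT : T.card = p := by
    rw [Finset.card_image_of_injOn, Finset.card_range]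
    intro i hi j hj hij
    have hi' : i < orderOf a := by rw [ha]; simpa using hi
    have hj' : j < orderOf a := by rw [ha]; simpa using hj
    exact pow_injOn_Iio_orderOf (by simpa using hi') (by simpa using hj') hij
  have hsub : T ⊆ Finset.univ.filter (fun x : C => x ^ p = 1) := by
    intro x hx
    simp only [T, Finset.mem_image, Finset.mem_range] at hx
    obtain ⟨k, _, rfl⟩ := hx
    simp only [Finset.mem_filter, Finset.mem_univ, true_and]
    rw [← pow_mul, mul_comm, pow_mul, ← ha, pow_orderOf_eq_one, one_pow]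
  have heq := Finset.eq_of_subset_of_card_le hsub (by rw [hT]; exact hS)
  have hbmem : b ∈ T := by
    rw [heq]
    simp [hb]
  simp only [T, Finset.mem_image, Finset.mem_range] at hbmem
  obtain ⟨k, _, rfl⟩ := hbmem
  exact Subgroup.npow_mem_zpowers a k

/-- Let G act faithfully and transitively on a finite set and suppose G has a non-trivial cyclic normal subgroup. Then some element of G of prime order fixes no point. -/
theorem result {G Ω : Type*} [Group G] [Finite G] [MulAction G Ω] [FaithfulSMul G Ω] [Finite Ω]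
    (htrans : MulAction.IsPretransitive G Ω) (C : Subgroup G) (hC : C.Normal) (hC1 : C ≠ ⊥) (hcyc : IsCyclic ↥C) :
    ∃ g : G, (orderOf g).Prime ∧ ∀ ω : Ω, g • ω ≠ ω := by
  have hnt : Nat.card C ≠ 1 := by
    intro h
    exact hC1 (Subgroup.card_eq_one.mp h)
  obtain ⟨p, hp, hdvd⟩ := Nat.exists_prime_and_dvd hnt
  have : Fact p.Prime := ⟨hp⟩
  obtain ⟨c, hc⟩ := exists_prime_orderOf_dvd_card' p hdvd
  have hcG : orderOf (c : G) = p := by rw [Subgroup.orderOf_coe]; exact hc
  refine ⟨(c : G), by rw [hcG]; exact hp, ?_⟩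
  intro ω hω
  -- every conjugate of c is a power of c
  have hconj : ∀ g : G, g * (c : G) * g⁻¹ ∈ Subgroup.zpowers (c : G) := by
    intro g
    have hmem : g * (c : G) * g⁻¹ ∈ C := hC.conj_mem c c.2 g
    let y : C := ⟨g * (c : G) * g⁻¹, hmem⟩
    have hy : y ^ p = 1 := by
      apply Subtype.ext
      simp only [Subgroup.coe_pow, y, Subgroup.coe_one]
      rw [conj_pow, ← hcG, pow_orderOf_eq_one]
      simp
    have := mem_zpowers_of_pow_eq_one hp.pos hc hy
    obtain ⟨k, hk⟩ := this
    refine ⟨k, ?_⟩
    have := congrArg (Subtype.val) hk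
    simpa [y] using this
  -- c fixes every point
  have hfix : ∀ ω' : Ω, (c : G) • ω' = ω' := by
    intro ω'
    obtain ⟨g, rfl⟩ := htrans.exists_smul_eq ω ω'
    -- g⁻¹ c g is a power of c so fixes ω
    have h1 := hconj g⁻¹
    obtain ⟨k, hk⟩ := h1
    have hpow : ∀ k : ℤ, ((c : G) ^ k) • ω = ω := by
      intro k
      have : (c : G) ∈ MulAction.stabilizer G ω := hω
      have h2 : (c : G) ^ k ∈ MulAction.stabilizer G ω := Subgroup.zpow_mem _ this k
      exact h2
    have h3 : g⁻¹ * (c : G) * g⁻¹⁻¹ = (c : G) ^ k := hk.symm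
    have h4 : (g⁻¹ * (c : G) * g) • ω = ω := by
      have := hpow k
      rw [← h3] at this
      simpa using this
    have h5 : (c : G) • g • ω = g • ω := by
      have h6 : g • ((g⁻¹ * (c : G) * g) • ω) = g • ω := by rw [h4]
      rw [← mul_smul] at h6
      rw [← mul_smul]
      simpa [mul_assoc] using h6
    exact h5
  have h1 : (c : G) = 1 := by
    apply FaithfulSMul.eq_of_smul_eq_smul (α := Ω)
    intro a
    rw [hfix a, one_smul]
  rw [h1, orderOf_one] at hcG
  exact hp.one_lt.ne hcG

end Cfsg.Agent.S3554
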