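import Cfsg.Statements.S4252
import Mathlib

set_option autoImplicit false
open Cfsg

namespace Cfsg.Agent.S4252

open MulAction
open scoped Pointwise

theorem mem_conj_stab {G Ω : Type*} [Group G] [MulAction G Ω] (α : Ω) (g x : G) :
    x ∈ MulAut.conj g • stabilizer G α ↔ x • (g • α) = g • α := by
  rw [Subgroup.mem_pointwise_smul_iff_inv_smul_mem]
  simp only [mem_stabilizer_iff, MulAut.smul_def, map_inv, MulAut.conj_inv_apply]
  rw [mul_smul, mul_smul, inv_smul_eq_iff]

theorem result {G Ω : Type*} [Group G] [Finite G] [Fintype Ω] [MulAction G Ω] (hΩ : 1 < Fintype.card Ω)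
    (htrans : ∀ α β : Ω, ∃ g : G, g • α = β) (hnreg : ∃ g : G, g ≠ 1 ∧ ∃ α : Ω, g • α = α)
    (hfix : ∀ g : G, g ≠ 1 → ∀ α β : Ω, g • α = α → g • β = β → α = β) (α : Ω) :
    Cfsg.IsFrobeniusComplement (MulAction.stabilizer G α) ∧
      Cfsg.frobeniusKernel (MulAction.stabilizer G α) = {g : G | g = 1 ∨ ∀ ω : Ω, g • ω ≠ ω} := by
  refine ⟨⟨?_, ?_, ?_⟩, ?_⟩
  · obtain ⟨g, hg1, β, hgβ⟩ := hnreg
    obtain ⟨k, hk⟩ := htrans β α
    intro hbot
    have h1 : k * g * k⁻¹ ∈ stabilizer G α := by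
      rw [mem_stabilizer_iff, mul_smul, mul_smul, ← hk, inv_smul_smul, hgβ]
    rw [hbot, Subgroup.mem_bot] at h1
    apply hg1
    have h2 : g = k⁻¹ * (k * g * k⁻¹) * k := by group
    rw [h2, h1]
    group
  · intro htop
    obtain ⟨a, b, hab⟩ := Fintype.one_lt_card_iff.mp hΩ
    obtain ⟨k, hk⟩ := htrans α a
    obtain ⟨l, hl⟩ := htrans α b
    have h1 : l * k⁻¹ ∈ stabilizer G α := by
      rw [htop]
      trivial
    have h2 : (k⁻¹ * l) ∈ stabilizer G α := by
      rw [htop]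
      trivial
    have h3 : (k⁻¹ * l) • α = α := h2
    rw [mul_smul, inv_smul_eq_iff, hl, hk] at h3
    exact hab h3.symm
  · intro g hg
    rw [eq_bot_iff]
    rintro x ⟨hx1, hx2⟩
    rw [Subgroup.mem_bot]
    by_contra hx
    have hx3 : x • (g • α) = g • α := (mem_conj_stab α g x).mp hx2
    have := hfix x hx α (g • α) hx1 hx3
    apply hg
    rw [mem_stabilizer_iff]
    exact this.symm
  · ext x
    simp only [Cfsg.frobeniusKernel, Set.mem_setOf_eq]
    refine or_congr Iff.rfl ?_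
    constructor
    · intro h ω hω
      obtain ⟨g, rfl⟩ := htrans α ω
      exact h g ((mem_conj_stab α g x).mpr hω)
    · intro h g hg
      exact h _ ((mem_conj_stab α g x).mp hg)

end Cfsg.Agent.S4252
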