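import Cfsg.Statements.S3555
import Mathlib
import Cfsg.Agent.S4252
import Cfsg.Agent.Lib.Char.FrobeniusKernel

set_option autoImplicit false
open Cfsg

namespace Cfsg.Agent.S3555

open MulAction

/-- Under the hypothesis on derangements, every non-identity element fixes at most one point. -/
theorem fix_le_one {G Ω : Type*} [Group G] [Finite G] [MulAction G Ω] [FaithfulSMul G Ω] [Finite Ω]
    (htrans : IsPretransitive G Ω) (hinv : ∀ g : G, (∀ ω : Ω, g • ω ≠ ω) → orderOf g = 2)
    (a : Ω) (g : G) (hg : g • a ≠ a) (b c : Ω) (hb : g • b = b) (hc : g • c = c) : b = c := by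
  classical
  haveI := Fintype.ofFinite G
  haveI := Fintype.ofFinite Ω
  -- fixed point counts
  let f : G → ℕ := fun g => (Finset.univ.filter (fun b : Ω => g • b = b)).card
  let st : Ω → Finset G := fun b => Finset.univ.filter (fun g : G => g • b = b)
  -- all stabilizers have the same size
  have hst : ∀ b, (st b).card * Fintype.card Ω = Fintype.card G := by
    intro b
    have h1 := Subgroup.card_mul_index (stabilizer G b)
    rw [index_stabilizer_of_transitive] at h1
    have h2 : Nat.card (stabilizer G b) = (st b).card :=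
      Nat.subtype_card (st b) (fun g => by simp [st, mem_stabilizer_iff])
    rw [h2, Nat.card_eq_fintype_card, Nat.card_eq_fintype_card] at h1
    exact h1
  have hΩpos : 0 < Fintype.card Ω := Fintype.card_pos_iff.mpr ⟨a⟩
  have hsum : ∑ g, f g = Fintype.card G := by
    have h1 : ∑ g, f g = ∑ b : Ω, (st b).card := by
      simp only [f, st, Finset.card_filter]
      rw [Finset.sum_comm]
    rw [h1]
    have h2 : ∀ b ∈ (Finset.univ : Finset Ω), (st b).card = (st a).card := by
      intro b _
      exact Nat.eq_of_mul_eq_mul_right hΩpos ((hst b).trans (hst a).symm)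
    rw [Finset.sum_congr rfl h2, Finset.sum_const, Finset.card_univ, smul_eq_mul, mul_comm]
    exact hst a
  -- the three sets
  let H : Finset G := st a
  let D : Finset G := Finset.univ.filter (fun g : G => ∀ b : Ω, g • b ≠ b)
  let P : Finset G := Finset.univ.filter (fun g : G => g • a ≠ a ∧ ∃ b : Ω, g • b = b)
  have hpart : ∀ x : G, x ∈ H ∨ x ∈ D ∨ x ∈ P := by
    intro x
    by_cases h1 : x • a = a
    · left
      simp [H, st, h1]
    · by_cases h2 : ∀ b : Ω, x • b ≠ b
      · right; left
        simpa [D] using h2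
      · right; right
        push Not at h2
        simp only [P, Finset.mem_filter, Finset.mem_univ, true_and]
        exact ⟨h1, h2⟩
  have hdHD : Disjoint H D := by
    rw [Finset.disjoint_left]
    intro x hx hx'
    simp only [H, st, D, Finset.mem_filter, Finset.mem_univ, true_and] at hx hx'
    exact hx' a hx
  have hdHP : Disjoint H P := by
    rw [Finset.disjoint_left]
    intro x hx hx'
    simp only [H, st, P, Finset.mem_filter, Finset.mem_univ, true_and] at hx hx'
    exact hx'.1 hx
  have hdDP : Disjoint D P := by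
    rw [Finset.disjoint_left]
    intro x hx hx'
    simp only [D, P, Finset.mem_filter, Finset.mem_univ, true_and] at hx hx'
    obtain ⟨b, hb⟩ := hx'.2
    exact hx b hb
  have hunion : (Finset.univ : Finset G) = H ∪ (D ∪ P) := by
    ext x
    simp only [Finset.mem_univ, Finset.mem_union, true_iff]
    exact hpart x
  have hdisj2 : Disjoint H (D ∪ P) := Finset.disjoint_union_right.mpr ⟨hdHD, hdHP⟩
  have hcardG : Fintype.card G = H.card + (D.card + P.card) := by
    rw [← Finset.card_univ, hunion, Finset.card_union_of_disjoint hdisj2,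
      Finset.card_union_of_disjoint hdDP]
  have hsum2 : ∑ g, f g = ∑ g ∈ H, f g + (∑ g ∈ D, f g + ∑ g ∈ P, f g) := by
    rw [hunion, Finset.sum_union hdisj2, Finset.sum_union hdDP]
  have hD0 : ∑ g ∈ D, f g = 0 := by
    apply Finset.sum_eq_zero
    intro x hx
    simp only [D, Finset.mem_filter, Finset.mem_univ, true_and] at hx
    simp only [f, Finset.card_eq_zero, Finset.filter_eq_empty_iff, Finset.mem_univ,
      forall_const]
    exact hx
  -- the two-point count
  let st2 : Ω → Finset G := fun b => Finset.univ.filter (fun g : G => g • a = a ∧ g • b = b)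
  let A : ℕ := ∑ b ∈ Finset.univ.erase a, (st2 b).card
  have hHsum : ∑ g ∈ H, f g = H.card + A := by
    have h1 : ∀ g ∈ H, f g = 1 + ∑ b ∈ Finset.univ.erase a, (if g • b = b then 1 else 0) := by
      intro g hg
      have hga : g • a = a := by
        simpa [H, st] using hg
      simp only [f, Finset.card_filter]
      rw [← Finset.add_sum_erase _ _ (Finset.mem_univ a), if_pos hga]
    rw [Finset.sum_congr rfl h1, Finset.sum_add_distrib]
    simp only [Finset.sum_const, smul_eq_mul, mul_one]
    congr 1
    rw [Finset.sum_comm]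
    apply Finset.sum_congr rfl
    intro b _
    simp only [st2, H, st, Finset.card_filter]
    rw [Finset.sum_filter]
    apply Finset.sum_congr rfl
    intro x _
    by_cases h1 : x • a = a <;> by_cases h2 : x • b = b <;> simp [h1, h2]
  -- derangements are few
  have hDle : D.card ≤ A := by
    have h1 : D = (Finset.univ.erase a).biUnion (fun b => D.filter (fun x => x • a = b)) := by
      ext x
      rw [Finset.mem_biUnion]
      constructor
      · intro hx
        have hx' : ∀ b : Ω, x • b ≠ b := (Finset.mem_filter.mp hx).2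
        exact ⟨x • a, Finset.mem_erase.mpr ⟨hx' a, Finset.mem_univ _⟩,
          Finset.mem_filter.mpr ⟨hx, rfl⟩⟩
      · rintro ⟨b, -, hb⟩
        exact (Finset.mem_filter.mp hb).1
    rw [h1]
    refine Finset.card_biUnion_le.trans ?_
    apply Finset.sum_le_sum
    intro b _
    by_cases hne : (D.filter (fun x => x • a = b)).Nonempty
    · obtain ⟨x₀, hx₀⟩ := hne
      simp only [D, Finset.mem_filter, Finset.mem_univ, true_and] at hx₀
      have hx₀2 : x₀ * x₀ = 1 := by
        have := pow_orderOf_eq_one x₀
        rw [hinv x₀ hx₀.1, pow_two] at this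
        exact this
      apply Finset.card_le_card_of_injOn (fun x => x₀⁻¹ * x)
      · intro x hx
        simp only [D, Finset.coe_filter, Finset.mem_filter, Finset.mem_univ, true_and,
          Set.mem_setOf_eq] at hx
        have hx2 : x * x = 1 := by
          have := pow_orderOf_eq_one x
          rw [hinv x hx.1, pow_two] at this
          exact this
        simp only [st2, Finset.coe_filter, Finset.mem_univ, true_and, Set.mem_setOf_eq]
        have hha : (x₀⁻¹ * x) • a = a := by
          rw [mul_smul, hx.2, ← hx₀.2, inv_smul_smul]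
        refine ⟨hha, ?_⟩
        -- x₀⁻¹ x fixes b
        have hi0 : x₀⁻¹ = x₀ := inv_eq_of_mul_eq_one_left hx₀2
        have hix : x⁻¹ = x := inv_eq_of_mul_eq_one_left hx2
        have hxb : x • b = a := by
          rw [← hx.2, ← mul_smul, hx2, one_smul]
        have hx0b : x₀ • b = a := by
          rw [← hx₀.2, ← mul_smul, hx₀2, one_smul]
        rw [mul_smul, hxb, hi0]
        exact hx₀.2
      · intro x _ y _ hxy
        exact mul_left_cancel hxy
    · rw [Finset.not_nonempty_iff_eq_empty] at hne
      rw [hne]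
      simp
  -- conclusion
  have hPle : ∑ g ∈ P, f g ≤ P.card := by
    have h1 := hsum2
    rw [hsum, hHsum, hD0, hcardG] at h1
    omega
  have hP1 : ∀ x ∈ P, 1 ≤ f x := by
    intro x hx
    simp only [P, Finset.mem_filter, Finset.mem_univ, true_and] at hx
    obtain ⟨b, hb⟩ := hx.2
    apply Finset.card_pos.mpr
    exact ⟨b, by simpa using hb⟩
  have hPeq : ∀ x ∈ P, f x = 1 := by
    have h2 : ∑ x ∈ P, 1 = ∑ x ∈ P, f x := by
      apply le_antisymm
      · exact Finset.sum_le_sum hP1
      · simpa using hPle
    have h3 := (Finset.sum_eq_sum_iff_of_le hP1).mp h2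
    intro x hx
    exact (h3 x hx).symm
  have hgP : g ∈ P := by
    simp only [P, Finset.mem_filter, Finset.mem_univ, true_and]
    exact ⟨hg, b, hb⟩
  have hf1 := hPeq g hgP
  simp only [f] at hf1
  rw [Finset.card_eq_one] at hf1
  obtain ⟨d, hd⟩ := hf1
  have hbm : b ∈ Finset.univ.filter (fun b : Ω => g • b = b) := by simpa using hb
  have hcm : c ∈ Finset.univ.filter (fun b : Ω => g • b = b) := by simpa using hc
  rw [hd, Finset.mem_singleton] at hbm hcm
  rw [hbm, hcm]

theorem result {G Ω : Type*} [Group G] [Finite G] [MulAction G Ω] [FaithfulSMul G Ω] [Finite Ω]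
    (htrans : MulAction.IsPretransitive G Ω) (hinv : ∀ g : G, (∀ ω : Ω, g • ω ≠ ω) → orderOf g = 2) :
    (IsMulCommutative G ∧ ∀ g : G, g ^ 2 = 1) ∨
    (∃ H : Subgroup G, Cfsg.IsFrobeniusComplement H ∧
      (∀ x ∈ Cfsg.frobeniusKernel H, x ^ 2 = 1) ∧
      ∀ x ∈ Cfsg.frobeniusKernel H, ∀ y ∈ Cfsg.frobeniusKernel H, x * y = y * x) := by
  classical
  have hmove : ∀ {g : G}, g ≠ 1 → ∃ a : Ω, g • a ≠ a := by
    intro g hg
    by_contra h
    push Not at h
    exact hg (eq_of_smul_eq_smul (fun b => by rw [h b, one_smul]))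
  have hone : ∀ g : G, g ≠ 1 → ∀ b c : Ω, g • b = b → g • c = c → b = c := by
    intro g hg b c hb hc
    obtain ⟨a, ha⟩ := hmove hg
    exact fix_le_one htrans hinv a g ha b c hb hc
  have hsq : ∀ g : G, (∀ ω : Ω, g • ω ≠ ω) → g ^ 2 = 1 := by
    intro g hg
    have := pow_orderOf_eq_one g
    rwa [hinv g hg] at this
  have hcomm_of : ∀ x y : G, x ^ 2 = 1 → y ^ 2 = 1 → (x * y) ^ 2 = 1 → x * y = y * x := by
    intro x y hx hy hxy
    have hxi : x⁻¹ = x := inv_eq_of_mul_eq_one_left (by rw [← pow_two]; exact hx)
    have hyi : y⁻¹ = y := inv_eq_of_mul_eq_one_left (by rw [← pow_two]; exact hy)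
    have h1 : (x * y)⁻¹ = x * y := inv_eq_of_mul_eq_one_left (by rw [← pow_two]; exact hxy)
    rw [mul_inv_rev, hxi, hyi] at h1
    exact h1.symm
  by_cases hreg : ∃ g : G, g ≠ 1 ∧ ∃ a : Ω, g • a = a
  · right
    obtain ⟨g, hg1, a, hga⟩ := hreg
    haveI := Fintype.ofFinite Ω
    have hΩ : 1 < Fintype.card Ω := by
      obtain ⟨b, hb⟩ := hmove hg1
      exact Fintype.one_lt_card_iff.mpr ⟨g • b, b, hb⟩
    have htr' : ∀ α β : Ω, ∃ g : G, g • α = β := fun α β => htrans.exists_smul_eq α β
    obtain ⟨h1, h2⟩ := S4252.result hΩ htr' ⟨g, hg1, a, hga⟩ hone a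
    refine ⟨stabilizer G a, h1, ?_, ?_⟩
    · intro x hx
      rw [h2] at hx
      rcases hx with rfl | hx
      · simp
      · exact hsq x hx
    · obtain ⟨N, hN, -, -⟩ := Cfsg.Agent.Lib.Char.FrobeniusKernel.frobenius_theorem _ h1
      have hkersq : ∀ x ∈ N, x ^ 2 = 1 := by
        intro x hx
        have hx' : x ∈ Cfsg.frobeniusKernel (stabilizer G a) := by
          rw [← hN]; exact hx
        rw [h2] at hx'
        rcases hx' with rfl | hx'
        · simp
        · exact hsq x hx'
      intro x hx y hy
      have hx' : x ∈ N := by rw [← SetLike.mem_coe, hN]; exact hx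
      have hy' : y ∈ N := by rw [← SetLike.mem_coe, hN]; exact hy
      exact hcomm_of x y (hkersq x hx') (hkersq y hy') (hkersq _ (N.mul_mem hx' hy'))
  · left
    push Not at hreg
    have hall : ∀ g : G, g ^ 2 = 1 := by
      intro g
      by_cases hg : g = 1
      · rw [hg, one_pow]
      · exact hsq g (fun ω => hreg g hg ω)
    exact ⟨⟨⟨fun x y => hcomm_of x y (hall x) (hall y) (hall _)⟩⟩, hall⟩

end Cfsg.Agent.S3555
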