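import Cfsg.Statements.S3556
import Mathlib
import Cfsg.Agent.Lib.Perm.Derange
-- import your own Cfsg.Agent.* helpers here

set_option autoImplicit false
open Cfsg

namespace Cfsg.Agent.S3556

/-- Let G act faithfully and primitively on a finite set with at least two points, and suppose that for some fixed prime p every element of G fixing no point has order a power of p. Then G is of affine type (it has a regular normal subgroup that is an elementary abelian r-group for some prime r) or almost simple (it has a non-abelian simple normal subgroup with trivial centralizer). -/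
theorem result {G Ω : Type*} [Group G] [Finite G] [MulAction G Ω] [FaithfulSMul G Ω] [Finite Ω]
    (hprim : MulAction.IsPreprimitive G Ω) (hΩ : 2 ≤ Nat.card Ω) (p : ℕ) (hp : p.Prime)
    (hder : ∀ g : G, (∀ ω : Ω, g • ω ≠ ω) → ∃ k : ℕ, orderOf g = p ^ k) :
    (∃ (N : Subgroup G) (r : ℕ), r.Prime ∧ N.Normal ∧ Cfsg.IsElementaryAbelian r N ∧
      MulAction.IsPretransitive N Ω ∧ ∀ a : Ω, MulAction.stabilizer N a = ⊥) ∨
    (∃ T : Subgroup G, T.Normal ∧ IsSimpleGroup ↥T ∧ ¬ IsMulCommutative ↥T ∧
      Subgroup.centralizer (T : Set G) = ⊥) := by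
  classical
  open Cfsg.Agent.Lib.Perm.Derange Cfsg.Agent.Lib.Solvable.MinimalNormal Cfsg.Agent.Lib.Perm.Basic in
  haveI := hprim
  haveI : Nontrivial Ω := Finite.one_lt_card_iff_nontrivial.mp (by omega)
  obtain ⟨a, b, hab⟩ := exists_pair_ne Ω
  -- a derangement commuting with an element of prime order `q ≠ p` is impossible
  have hkey : ∀ x c : G, (∀ ω : Ω, x • ω ≠ ω) → Commute x c →
      (∃ q : ℕ, q.Prime ∧ q ≠ p ∧ orderOf c = q) → False := by
    rintro x c hx hc ⟨q, hq, hqp, rfl⟩
    obtain ⟨k, hk⟩ := hder x hx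
    have hcop : Nat.Coprime (orderOf x) (orderOf c) := by
      rw [hk]
      exact Nat.Coprime.pow_left _ ((Nat.coprime_primes hp hq).mpr (Ne.symm hqp))
    obtain ⟨m, hm⟩ := hder _ (mul_derangement_of_coprime hx hc hcop)
    rw [hc.orderOf_mul_eq_mul_orderOf_of_coprime hcop] at hm
    have hd : orderOf c ∣ p ^ m := Dvd.intro_left _ hm
    exact hqp ((Nat.prime_dvd_prime_iff_eq hq hp).mp (hq.dvd_of_dvd_pow hd))
  by_cases hab' : ∃ M : Subgroup G, IsMinNormal M ∧ ∀ x ∈ M, ∀ y ∈ M, x * y = y * x
  · obtain ⟨M, hM, hcomm⟩ := hab'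
    obtain ⟨r, hr, hpow⟩ := exists_prime_pow_eq_one_of_minNormal hM hcomm
    haveI := hM.1
    haveI hMtr : MulAction.IsPretransitive M Ω := isPretransitive_of_normal_of_ne_bot M hM.2.1
    left
    refine ⟨M, r, hr, hM.1, ⟨⟨⟨fun x y => Subtype.ext (hcomm x x.2 y y.2)⟩⟩, hpow⟩, hMtr, ?_⟩
    intro ω
    rw [eq_bot_iff]
    intro m hm
    rw [Subgroup.mem_bot]
    apply Subtype.ext
    exact eq_one_of_commutative_transitive M hcomm m.2 (a := ω) hm
  · push Not at hab'
    have hnoab : ∀ M : Subgroup G, IsMinNormal M → ¬ ∀ x ∈ M, ∀ y ∈ M, x * y = y * x := by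
      intro M hM hc
      obtain ⟨x, hx, y, hy, hne⟩ := hab' M hM
      exact hne (hc x hx y hy)
    rcases nonabelian_dichotomy a b hab hnoab with hT | ⟨A, B, hR⟩ | ⟨N, A, B, hC⟩
    · right
      exact hT
    · exfalso
      haveI : Nonempty Ω := ⟨a⟩
      obtain ⟨x, c, hx, hc, hq⟩ := hR.exists_derangement_commuting p hp
      exact hkey x c hx hc hq
    · exfalso
      obtain ⟨x, c, hx, hc, hq⟩ := hC.exists_derangement_commuting p hp
      exact hkey x c hx hc hq

end Cfsg.Agent.S3556
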