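import Cfsg.Statements.S3557
import Cfsg.Agent.Lib.PGroup.Basic

set_option autoImplicit false
open Cfsg

namespace Cfsg.Agent.S3557

open MulAction Subgroup

section QLevel

variable {Q Ω : Type*} [Group Q] [Finite Q] [MulAction Q Ω] {p : ℕ} [hp : Fact p.Prime]

theorem pow_mem_of_relIndex_le (hQ : IsPGroup p Q) {T : Subgroup Q} {m : Q}
    (h : T.relIndex (zpowers m) ≤ p) : m ^ p ∈ T := by
  classical
  have hC : IsPGroup p (zpowers m) := hQ.to_subgroup _
  obtain ⟨j, hj⟩ := hC.index (T.subgroupOf (zpowers m))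
  have hnorm : (T.subgroupOf (zpowers m)).Normal := by
    refine ⟨fun n hn g => ?_⟩
    have hcomm : g * n * g⁻¹ = n := by
      rcases g with ⟨g, hg⟩
      rcases n with ⟨n, hn'⟩
      obtain ⟨a, rfl⟩ := Subgroup.mem_zpowers_iff.mp hg
      obtain ⟨b, rfl⟩ := Subgroup.mem_zpowers_iff.mp hn'
      apply Subtype.ext
      simp only [Subgroup.coe_mul, Subgroup.coe_inv]
      rw [← zpow_add, ← zpow_neg, ← zpow_add]
      congr 1
      ring
    rwa [hcomm]
  have hk : T.relIndex (zpowers m) = p ^ j := hj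
  have hj1 : j ≤ 1 := by
    by_contra hlt
    push Not at hlt
    have : p ^ 2 ≤ p ^ j := Nat.pow_le_pow_right hp.out.pos hlt
    have h2 : p < p ^ 2 := by
      have := hp.out.two_le
      nlinarith
    omega
  have hmem := Subgroup.pow_index_mem (T.subgroupOf (zpowers m)) (⟨m, mem_zpowers m⟩ : zpowers m)
  rw [Subgroup.mem_subgroupOf] at hmem
  have hmem' : m ^ (T.subgroupOf (zpowers m)).index ∈ T := by simpa using hmem
  have hmem2 : m ^ (p ^ j) ∈ T := by rwa [hj] at hmem'
  interval_cases j
  · have : m ∈ T := by simpa using hmem2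
    exact T.pow_mem this p
  · simpa using hmem2

theorem exists_M (hQ : IsPGroup p Q) {α : Ω} (hα : (stabilizer Q α).index = p ^ 2)
    (faith : ∀ h : Q, (∀ a ∈ orbit Q α, h • a = a) → h = 1) :
    ∃ M : Subgroup Q, M.Normal ∧ M.index = p ∧ stabilizer Q α ≤ M ∧ ∀ m ∈ M, m ^ p = 1 := by
  classical
  have hpp := hp.out
  obtain ⟨N, hN⟩ := IsPGroup.iff_card.mp hQ
  set S := stabilizer Q α with hS
  have hSc : Nat.card S * S.index = Nat.card Q := S.card_mul_index
  have hd : p ^ 2 ∣ p ^ N := by
    rw [← hα, ← hN]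
    exact S.index_dvd_card
  have h2 : 2 ≤ N := (Nat.pow_dvd_pow_iff_le_right hpp.one_lt).mp hd
  have hcS : Nat.card S = p ^ (N - 2) := by
    have h3 : p ^ N = p ^ (N - 2) * p ^ 2 := by
      rw [← pow_add]; congr 1; omega
    rw [hα, hN, h3] at hSc
    exact Nat.eq_of_mul_eq_mul_right (pow_pos hpp.pos _) hSc
  obtain ⟨M, hMc, hSM⟩ := Sylow.exists_subgroup_card_pow_prime_le (G := Q) p (n := N - 2) (m := N - 1)
    (by rw [hN]; exact pow_dvd_pow p (by omega)) S hcS (by omega)
  have hMi : M.index = p := by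
    have h4 := M.card_mul_index
    rw [hMc, hN] at h4
    have h3 : p ^ N = p ^ (N - 1) * p := by
      rw [← pow_succ]; congr 1; omega
    rw [h3] at h4
    exact Nat.eq_of_mul_eq_mul_left (pow_pos hpp.pos _) h4
  have hMn : M.Normal := by
    apply Subgroup.normal_of_index_eq_minFac_card
    rw [hMi, hN, Nat.Prime.pow_minFac hpp (by omega)]
  refine ⟨M, hMn, hMi, hSM, fun m hm => ?_⟩
  apply faith
  rintro a ⟨g, rfl⟩
  -- stabilizer of a
  set b := (fun m : Q => m • α) g with hb
  have hTM : stabilizer Q b ≤ M := by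
    intro y hy
    have hy' : y • (g • α) = g • α := hy
    have h5 : g⁻¹ * y * g ∈ S := by
      rw [hS, mem_stabilizer_iff, mul_smul, mul_smul, hy', inv_smul_smul]
    have h6 := hMn.conj_mem _ (hSM h5) g
    have h7 : g * (g⁻¹ * y * g) * g⁻¹ = y := by group
    rwa [h7] at h6
  have hTi : (stabilizer Q b).index = p ^ 2 := by
    rw [index_stabilizer, hb]
    show (orbit Q (g • α)).ncard = _
    rw [orbit_smul, ← index_stabilizer, hα]
  have hrel : (stabilizer Q b).relIndex M = p := by
    have h8 := Subgroup.relIndex_mul_index hTM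
    rw [hTi, hMi] at h8
    have : p ^ 2 = p * p := by ring
    rw [this] at h8
    exact Nat.eq_of_mul_eq_mul_right hpp.pos h8
  have hCM : zpowers m ≤ M := by
    rw [zpowers_le]; exact hm
  have hle : (stabilizer Q b).relIndex (zpowers m) ≤ p := by
    rw [← hrel]
    exact Subgroup.relIndex_le_of_le_right hCM (by rw [hrel]; exact hpp.ne_zero)
  exact pow_mem_of_relIndex_le hQ hle

/-- `u` acts centrally and without fixed points on the orbit of `β`. -/
theorem exists_u (hQ : IsPGroup p Q) {α β : Ω} (hα : (stabilizer Q α).index = p ^ 2)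
    (hβ : (stabilizer Q β).index = p ^ 2)
    (faith : ∀ h : Q, (∀ a ∈ orbit Q α, h • a = a) → h = 1) :
    ∃ u : Q, u ^ p = 1 ∧ (∀ a ∈ orbit Q β, u • a ≠ a) ∧
      ∀ h : Q, ∀ a ∈ orbit Q β, u • (h • a) = h • (u • a) := by
  classical
  obtain ⟨M, hMn, hMi, -, hMe⟩ := exists_M hQ hα faith
  -- the kernel on the orbit of `β`
  let K : Subgroup Q :=
    { carrier := {h | ∀ a ∈ orbit Q β, h • a = a}
      one_mem' := fun a _ => one_smul _ a
      mul_mem' := fun {x y} hx hy a ha => by rw [mul_smul, hy a ha, hx a ha]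
      inv_mem' := fun {x} hx a ha => by
        have := hx a ha
        rw [inv_smul_eq_iff, this] }
  have hKmem : ∀ h, h ∈ K ↔ ∀ a ∈ orbit Q β, h • a = a := fun h => Iff.rfl
  have hKn : K.Normal := by
    refine ⟨fun n hn g => ?_⟩
    rw [hKmem] at hn ⊢
    intro a ha
    have h1 : g⁻¹ • a ∈ orbit Q β := by
      rcases ha with ⟨x, rfl⟩
      exact ⟨g⁻¹ * x, by simp [mul_smul]⟩
    rw [mul_smul, mul_smul, hn _ h1, smul_inv_smul]
  have hMK : ¬ M ≤ K := by
    intro hle
    have hle2 : M ≤ stabilizer Q β := fun m hm => hle hm β (mem_orbit_self β)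
    have hd := Subgroup.index_dvd_of_le hle2
    rw [hβ, hMi] at hd
    have := Nat.le_of_dvd hp.out.pos hd
    have h2 := hp.out.two_le
    nlinarith
  let N : Subgroup (Q ⧸ K) := M.map (QuotientGroup.mk' K)
  haveI hNn : N.Normal := hMn.map _ (QuotientGroup.mk'_surjective K)
  have hNne : N ≠ ⊥ := by
    intro hbot
    apply hMK
    intro m hm
    have : (QuotientGroup.mk' K) m ∈ N := ⟨m, hm, rfl⟩
    rw [hbot, Subgroup.mem_bot] at this
    exact (QuotientGroup.eq_one_iff m).mp this
  have hcen := Cfsg.Agent.Lib.PGroup.Basic.inf_center_ne_bot (hQ.to_quotient K) hNne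
  obtain ⟨c, hc1⟩ := Subgroup.ne_bot_iff_exists_ne_one.mp hcen
  obtain ⟨c, hc⟩ := c
  obtain ⟨hcN, hcZ⟩ := hc
  obtain ⟨u, huM, rfl⟩ := hcN
  have hc1' : QuotientGroup.mk' K u ≠ 1 := fun h => hc1 (Subtype.ext h)
  have huK : u ∉ K := fun h => hc1' ((QuotientGroup.eq_one_iff u).mpr h)
  have hcomm : ∀ h : Q, ∀ a ∈ orbit Q β, u • (h • a) = h • (u • a) := by
    intro h a ha
    have h1 : (QuotientGroup.mk' K) h * (QuotientGroup.mk' K) u
        = (QuotientGroup.mk' K) u * (QuotientGroup.mk' K) h :=
      (Subgroup.mem_center_iff.mp hcZ _)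
    have h2 : ((QuotientGroup.mk (h * u) : Q ⧸ K)) = QuotientGroup.mk (u * h) := h1
    have h3 := QuotientGroup.eq.mp h2
    have h4 := h3 a ha
    rw [mul_smul, inv_smul_eq_iff, mul_smul, mul_smul] at h4
    exact h4
  have hfix : ∀ a ∈ orbit Q β, u • a ≠ a := by
    intro a ha hfa
    apply huK
    rw [hKmem]
    intro b hb
    have hb' : b ∈ orbit Q a := by
      rw [orbit_eq_iff.mpr ha]
      exact hb
    rcases hb' with ⟨x, rfl⟩
    show u • (x • a) = x • a
    rw [hcomm x a ha, hfa]
  exact ⟨u, hMe u huM, hfix, hcomm⟩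

theorem exists_central_order_p (hQ : IsPGroup p Q) (K : Subgroup Q) [K.Normal] (hK : K ≠ ⊥) :
    ∃ z ∈ K, z ∈ center Q ∧ orderOf z = p := by
  classical
  have hcen := Cfsg.Agent.Lib.PGroup.Basic.inf_center_ne_bot hQ hK
  obtain ⟨c, hc1⟩ := Subgroup.ne_bot_iff_exists_ne_one.mp hcen
  have hT : IsPGroup p ↥(K ⊓ center Q) := hQ.to_subgroup _
  obtain ⟨n, hn⟩ := IsPGroup.iff_card.mp hT
  haveI : Nontrivial ↥(K ⊓ center Q) := ⟨⟨c, 1, hc1⟩⟩
  have hd : p ∣ Nat.card ↥(K ⊓ center Q) := by
    rw [hn]
    have hn0 : n ≠ 0 := by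
      rintro rfl
      have : Nat.card ↥(K ⊓ center Q) = 1 := by simpa using hn
      have := (Nat.card_eq_one_iff_unique.mp this).1
      exact hc1 (Subsingleton.elim _ _)
    exact dvd_pow_self p hn0
  obtain ⟨x, hx⟩ := exists_prime_orderOf_dvd_card' p hd
  refine ⟨x, x.2.1, x.2.2, ?_⟩
  rw [Subgroup.orderOf_coe, hx]

end QLevel

section GLevel

variable {G Ω : Type*} [Group G] [Finite G] [MulAction G Ω] [FaithfulSMul G Ω] {p : ℕ}
  [hp : Fact p.Prime]

theorem case_A {P : Subgroup G} (hQ : IsPGroup p P) {α β : Ω}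
    (hcov : ∀ a : Ω, a ∈ orbit P α ∨ a ∈ orbit P β)
    (hf1 : ¬ ∀ h : P, (∀ a ∈ orbit P α, h • a = a) → h = 1)
    (hf2 : ¬ ∀ h : P, (∀ a ∈ orbit P β, h • a = a) → h = 1) :
    ∃ g : G, (orderOf g).Prime ∧ ∀ ω : Ω, g • ω ≠ ω := by
  classical
  -- kernels
  have key : ∀ γ : Ω, (¬ ∀ h : P, (∀ a ∈ orbit P γ, h • a = a) → h = 1) →
      ∃ z : P, (∀ a ∈ orbit P γ, z • a = a) ∧ z ∈ center P ∧ orderOf z = p := by
    intro γ hγ
    let K : Subgroup P :=
      { carrier := {h | ∀ a ∈ orbit P γ, h • a = a}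
        one_mem' := fun a _ => one_smul _ a
        mul_mem' := fun {x y} hx hy a ha => by rw [mul_smul, hy a ha, hx a ha]
        inv_mem' := fun {x} hx a ha => by
          have := hx a ha
          rw [inv_smul_eq_iff, this] }
    have hKn : K.Normal := by
      refine ⟨fun n hn g => ?_⟩
      show ∀ a ∈ orbit P γ, (g * n * g⁻¹) • a = a
      intro a ha
      have h1 : g⁻¹ • a ∈ orbit P γ := by
        rcases ha with ⟨x, rfl⟩
        exact ⟨g⁻¹ * x, by simp [mul_smul]⟩
      rw [mul_smul, mul_smul, hn _ h1, smul_inv_smul]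
    have hne : K ≠ ⊥ := by
      intro hbot
      apply hγ
      intro h hh
      have : h ∈ K := hh
      rwa [hbot, Subgroup.mem_bot] at this
    obtain ⟨z, hz, hzc, hzo⟩ := exists_central_order_p hQ K hne
    exact ⟨z, hz, hzc, hzo⟩
  obtain ⟨z1, hz1, hz1c, hz1o⟩ := key α hf1
  obtain ⟨z2, hz2, hz2c, hz2o⟩ := key β hf2
  -- an element of `Z(Q)` trivial on one orbit with a fixed point in the other is trivial
  have triv : ∀ z : P, z ∈ center P → ∀ a : Ω, z • a = a → (∀ b ∈ orbit P a, z • b = b) := by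
    intro z hz a ha b hb
    rcases hb with ⟨x, rfl⟩
    show z • (x • a) = x • a
    have : z * x = x * z := (Subgroup.mem_center_iff.mp hz x).symm
    rw [← mul_smul, this, mul_smul, ha]
  have trivial : ∀ z : P, (∀ a : Ω, z • a = a) → z = 1 := by
    intro z hz
    apply Subtype.ext
    apply FaithfulSMul.eq_of_smul_eq_smul (α := Ω)
    intro a
    show (z : G) • a = (1 : G) • a
    rw [one_smul]
    exact hz a
  have hcm : z1 * z2 = z2 * z1 := (Subgroup.mem_center_iff.mp hz1c z2).symm
  have hz1ne : z1 ≠ 1 := by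
    rintro rfl
    rw [orderOf_one] at hz1o
    exact hp.out.one_lt.ne hz1o
  have hz2ne : z2 ≠ 1 := by
    rintro rfl
    rw [orderOf_one] at hz2o
    exact hp.out.one_lt.ne hz2o
  have hfpf : ∀ ω : Ω, (z1 * z2) • ω ≠ ω := by
    intro ω hω
    rcases hcov ω with h | h
    · -- `ω ∈ Δ`: `z1` fixes it, so `z2` does
      have h1 : z1 • ω = ω := hz1 ω h
      have h2 : z2 • ω = ω := by
        rw [hcm, mul_smul, h1] at hω
        exact hω
      apply hz2ne
      apply trivial
      intro b
      rcases hcov b with hb | hb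
      · apply triv z2 hz2c ω h2
        rwa [orbit_eq_iff.mpr h]
      · exact hz2 b hb
    · have h1 : z2 • ω = ω := hz2 ω h
      have h2 : z1 • ω = ω := by
        rw [mul_smul, h1] at hω
        exact hω
      apply hz1ne
      apply trivial
      intro b
      rcases hcov b with hb | hb
      · exact hz1 b hb
      · apply triv z1 hz1c ω h2
        rwa [orbit_eq_iff.mpr h]
  have hpow : (z1 * z2) ^ p = 1 := by
    have e1 : z1 ^ p = 1 := by
      have := pow_orderOf_eq_one z1
      rwa [hz1o] at this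
    have e2 : z2 ^ p = 1 := by
      have := pow_orderOf_eq_one z2
      rwa [hz2o] at this
    rw [(show Commute z1 z2 from hcm).mul_pow, e1, e2, one_mul]
  have hne : ((z1 * z2 : P) : G) ≠ 1 := by
    intro h
    have : (z1 * z2 : P) = 1 := Subtype.ext h
    rw [this] at hfpf
    exact hfpf α (one_smul _ α)
  refine ⟨((z1 * z2 : P) : G), ?_, fun ω => hfpf ω⟩
  have : orderOf ((z1 * z2 : P) : G) = p := by
    apply orderOf_eq_prime
    · rw [← Subgroup.coe_pow, hpow, Subgroup.coe_one]
    · exact hne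
  rw [this]
  exact hp.out

theorem case_C {P : Subgroup G} (hQ : IsPGroup p P)
    (hmax : ∀ H : Subgroup G, IsPGroup p H → P ≤ H → H = P) {α β : Ω}
    (hcov : ∀ a : Ω, a ∈ orbit P α ∨ a ∈ orbit P β) (hαβ : β ∉ orbit P α)
    (hα : (stabilizer P α).index = p ^ 2)
    (hβ : (stabilizer P β).index = p ^ 2)
    (hf : ∀ h : P, (∀ a ∈ orbit P α, h • a = a) → h = 1)
    (hcl : ∀ σ : Equiv.Perm Ω, (∀ a b : Ω, ∃ g : G, σ a = g • a ∧ σ b = g • b) →
      ∃ g : G, ∀ a : Ω, σ a = g • a) :
    ∃ g : G, (orderOf g).Prime ∧ ∀ ω : Ω, g • ω ≠ ω := by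
  classical
  obtain ⟨u, hup, hufix, hucomm⟩ := exists_u hQ hα hβ hf
  have hD'smul : ∀ (h : P) (a : Ω), h • a ∈ orbit P β ↔ a ∈ orbit P β := by
    intro h a
    constructor
    · rintro ⟨x, hx⟩
      exact ⟨h⁻¹ * x, by
        show (h⁻¹ * x) • β = a
        rw [mul_smul]
        have hx' : x • β = h • a := hx
        rw [hx', inv_smul_smul]⟩
    · rintro ⟨x, rfl⟩
      exact ⟨h * x, by simp [mul_smul]⟩
  -- `u` fixes no point of `Δ`
  have hufix2 : ∀ a ∈ orbit P α, u • a ≠ a := by
    intro α0 hα0 hfix0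
    let σ : Equiv.Perm Ω :=
      { toFun := fun a => if a ∈ orbit P β then u • a else a
        invFun := fun a => if a ∈ orbit P β then u⁻¹ • a else a
        left_inv := fun a => by
          by_cases ha : a ∈ orbit P β
          · have : u • a ∈ orbit P β := (hD'smul u a).mpr ha
            simp [ha, this]
          · simp [ha]
        right_inv := fun a => by
          by_cases ha : a ∈ orbit P β
          · have : u⁻¹ • a ∈ orbit P β := (hD'smul u⁻¹ a).mpr ha
            simp [ha, this]
          · simp [ha] }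
    have hσ1 : ∀ a ∈ orbit P β, σ a = u • a := fun a ha => by
      show (if a ∈ orbit P β then u • a else a) = _
      rw [if_pos ha]
    have hσ2 : ∀ a, a ∉ orbit P β → σ a = a := fun a ha => by
      show (if a ∈ orbit P β then u • a else a) = _
      rw [if_neg ha]
    -- mixed pairs
    have hmix : ∀ a b : Ω, a ∈ orbit P β → b ∉ orbit P β → ∃ g : G, u • a = g • a ∧ b = g • b := by
      intro a b ha hb
      have hbα : b ∈ orbit P α := (hcov b).resolve_right hb
      have hb0 : b ∈ orbit P α0 := by rwa [orbit_eq_iff.mpr hα0]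
      obtain ⟨h, rfl⟩ := hb0
      refine ⟨((h * u * h⁻¹ : P) : G), ?_, ?_⟩
      · show u • a = (h * u * h⁻¹) • a
        have h1 : h⁻¹ • a ∈ orbit P β := (hD'smul h⁻¹ a).mpr ha
        have h2 := hucomm h (h⁻¹ • a) h1
        rw [smul_inv_smul] at h2
        rw [mul_smul, mul_smul, h2]
      · show h • α0 = (h * u * h⁻¹) • (h • α0)
        rw [mul_smul, mul_smul, inv_smul_smul, hfix0]
    obtain ⟨g0, hg0⟩ := hcl σ (by
      intro a b
      by_cases ha : a ∈ orbit P β <;> by_cases hb : b ∈ orbit P β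
      · exact ⟨(u : G), hσ1 a ha, hσ1 b hb⟩
      · obtain ⟨g, hg1, hg2⟩ := hmix a b ha hb
        exact ⟨g, by rw [hσ1 a ha]; exact hg1, by rw [hσ2 b hb]; exact hg2⟩
      · obtain ⟨g, hg1, hg2⟩ := hmix b a hb ha
        exact ⟨g, by rw [hσ2 a ha]; exact hg2, by rw [hσ1 b hb]; exact hg1⟩
      · exact ⟨1, by rw [hσ2 a ha, one_smul], by rw [hσ2 b hb, one_smul]⟩)
    have hg1 : ∀ a ∈ orbit P β, g0 • a = u • a := fun a ha => by rw [← hg0, hσ1 a ha]
    have hg2 : ∀ a, a ∉ orbit P β → g0 • a = a := fun a ha => by rw [← hg0, hσ2 a ha]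
    have hmem_smul_not : ∀ (h : P) (a : Ω), a ∉ orbit P β → h • a ∉ orbit P β := by
      intro h a ha h'
      exact ha ((hD'smul h a).mp h')
    have hcomm0 : ∀ h : P, (h : G) * g0 = g0 * h := by
      intro h
      apply FaithfulSMul.eq_of_smul_eq_smul (α := Ω)
      intro a
      rw [mul_smul, mul_smul]
      by_cases ha : a ∈ orbit P β
      · show (h : G) • g0 • a = g0 • h • a
        have h1 : h • a ∈ orbit P β := (hD'smul h a).mpr ha
        rw [hg1 a ha, hg1 _ h1, hucomm h a ha]
        rfl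
      · show (h : G) • g0 • a = g0 • h • a
        have h1 := hmem_smul_not h a ha
        rw [hg2 a ha, hg2 _ h1]
        rfl
    have hpow : g0 ^ p = 1 := by
      apply FaithfulSMul.eq_of_smul_eq_smul (α := Ω)
      intro a
      rw [one_smul]
      by_cases ha : a ∈ orbit P β
      · have hk : ∀ k : ℕ, g0 ^ k • a = (u ^ k) • a := by
          intro k
          induction k with
          | zero => simp
          | succ k ih =>
            rw [pow_succ', pow_succ', mul_smul, ih, mul_smul]
            rw [hg1 _ ((hD'smul _ a).mpr ha)]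
        rw [hk, hup, one_smul]
      · have hk : ∀ k : ℕ, g0 ^ k • a = a := by
          intro k
          induction k with
          | zero => simp
          | succ k ih =>
            rw [pow_succ', mul_smul, ih, hg2 a ha]
        exact hk p
    -- `g0 ∈ P`
    have hC : IsPGroup p (zpowers g0) := by
      apply IsPGroup.of_card (n := if g0 = 1 then 0 else 1)
      rw [Nat.card_zpowers]
      split_ifs with h1
      · simp [h1]
      · rw [pow_one]
        exact orderOf_eq_prime hpow h1
    have hmem : g0 ∈ P := by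
      have hle : zpowers g0 ≤ Subgroup.normalizer (P : Set G) := by
        rw [zpowers_le, Subgroup.mem_normalizer_iff]
        intro n
        constructor
        · intro hn
          have h1 := hcomm0 ⟨n, hn⟩
          have h2 : g0 * n * g0⁻¹ = n := by
            have h3 : (n : G) * g0 = g0 * n := h1
            rw [← h3, mul_inv_cancel_right]
          rwa [h2]
        · intro hn
          have h1 := hcomm0 ⟨_, hn⟩
          have h3 : (g0 * n * g0⁻¹) * g0 = g0 * (g0 * n * g0⁻¹) := h1
          rw [inv_mul_cancel_right] at h3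
          have h4 : n = g0 * n * g0⁻¹ := mul_left_cancel h3
          rwa [h4]
      have hsup := IsPGroup.to_sup_of_normal_left' hQ hC hle
      have heq := hmax _ hsup le_sup_left
      have : g0 ∈ P ⊔ zpowers g0 := (le_sup_right : zpowers g0 ≤ _) (mem_zpowers g0)
      rwa [heq] at this
    have htriv : (⟨g0, hmem⟩ : P) = 1 := by
      apply hf
      intro a ha
      show g0 • a = a
      apply hg2
      intro hab
      apply hαβ
      rw [← orbit_eq_iff.mpr ha]
      rw [orbit_eq_iff.mpr hab]
      exact mem_orbit_self β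
    have hg01 : g0 = 1 := congrArg Subtype.val htriv
    apply hufix β (mem_orbit_self β)
    have := hg1 β (mem_orbit_self β)
    rw [hg01, one_smul] at this
    exact this.symm
  have hfpf : ∀ ω : Ω, (u : G) • ω ≠ ω := by
    intro ω hω
    rcases hcov ω with h | h
    · exact hufix2 ω h hω
    · exact hufix ω h hω
  have hune : (u : G) ≠ 1 := by
    intro h1
    rw [h1] at hfpf
    exact hfpf α (one_smul _ α)
  refine ⟨(u : G), ?_, hfpf⟩
  have : orderOf (u : G) = p := by
    apply orderOf_eq_prime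
    · rw [← Subgroup.coe_pow, hup, Subgroup.coe_one]
    · exact hune
  rw [this]
  exact hp.out

/-- The orbit lemma: `p^k` dividing `|Ω|` divides all orbit sizes of a Sylow subgroup. -/
theorem pow_dvd_index (P : Sylow p G) (htrans : IsPretransitive G Ω) {k : ℕ}
    (hk : p ^ k ∣ Nat.card Ω) (ω : Ω) : p ^ k ∣ (stabilizer (P : Subgroup G) ω).index := by
  classical
  have hA : (stabilizer G ω).index = Nat.card Ω := by
    rw [index_stabilizer, orbit_eq_univ, Set.ncard_univ]
  have h1 : (stabilizer (P : Subgroup G) ω) = (stabilizer G ω).subgroupOf (P : Subgroup G) := by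
    ext x
    rfl
  have h2 : (stabilizer (P : Subgroup G) ω).index = (stabilizer G ω).relIndex (P : Subgroup G) := by
    rw [h1]; rfl
  rw [h2]
  set A := stabilizer G ω
  set Q := (P : Subgroup G)
  have h3 : A.relIndex Q * Q.index = (A ⊓ Q).index := by
    have := Subgroup.relIndex_inf_mul_relIndex A Q ⊤
    simpa using this
  have h4 : Q.relIndex A * A.index = (A ⊓ Q).index := by
    have := Subgroup.relIndex_inf_mul_relIndex Q A ⊤
    simpa [inf_comm] using this
  have hdvd : p ^ k ∣ A.relIndex Q * Q.index := by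
    rw [h3, ← h4, hA]
    exact hk.mul_left _
  have hcop : Nat.Coprime (p ^ k) Q.index :=
    Nat.Coprime.pow_left k ((Nat.Prime.coprime_iff_not_dvd hp.out).mpr P.not_dvd_index)
  exact hcop.dvd_of_dvd_mul_right hdvd

theorem main [Finite Ω] (htrans : IsPretransitive G Ω)
    (hcard : Nat.card Ω = 2 * p ^ 2)
    (hcl : ∀ σ : Equiv.Perm Ω, (∀ a b : Ω, ∃ g : G, σ a = g • a ∧ σ b = g • b) →
      ∃ g : G, ∀ a : Ω, σ a = g • a) :
    ∃ g : G, (orderOf g).Prime ∧ ∀ ω : Ω, g • ω ≠ ω := by
  classical
  have hpp := hp.out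
  obtain ⟨P⟩ : Nonempty (Sylow p G) := inferInstance
  have hQ : IsPGroup p (P : Subgroup G) := P.isPGroup'
  have hmax : ∀ H : Subgroup G, IsPGroup p H → (P : Subgroup G) ≤ H → H = P :=
    fun H hH hle => P.is_maximal' hH hle
  have hpos : 0 < Nat.card Ω := by
    rw [hcard]
    have := pow_pos hpp.pos 2
    omega
  haveI : Nonempty Ω := (Nat.card_pos_iff.mp hpos).1
  have hle : ∀ ω : Ω, (stabilizer (P : Subgroup G) ω).index ≤ Nat.card Ω := by
    intro ω
    rw [index_stabilizer]
    exact Set.ncard_le_card _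
  have hipos : ∀ ω : Ω, 0 < (stabilizer (P : Subgroup G) ω).index := by
    intro ω
    rw [index_stabilizer]
    exact (Set.ncard_pos (Set.toFinite _)).mpr ⟨ω, mem_orbit_self ω⟩
  obtain ⟨ω0⟩ := (inferInstance : Nonempty Ω)
  by_cases h2 : p = 2
  · subst h2
    have hc8 : Nat.card Ω = 8 := by rw [hcard]; norm_num
    have hd := pow_dvd_index P htrans (k := 3) (by rw [hc8]; norm_num) ω0
    have hi8 : (stabilizer (P : Subgroup G) ω0).index = 8 := by
      have h1 := Nat.le_of_dvd (hipos ω0) hd
      have h3 := hle ω0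
      omega
    have hall : ∀ a : Ω, a ∈ orbit (P : Subgroup G) ω0 := by
      intro a
      have h1 : orbit (P : Subgroup G) ω0 = Set.univ := by
        apply Set.eq_of_subset_of_ncard_le (Set.subset_univ _)
        rw [Set.ncard_univ, hc8, ← index_stabilizer, hi8]
      rw [h1]
      exact Set.mem_univ a
    have hne : (⊤ : Subgroup (P : Subgroup G)) ≠ ⊥ := by
      intro hb
      have h1 : (stabilizer (P : Subgroup G) ω0) = ⊤ := by
        ext x
        simp only [Subgroup.mem_top, iff_true]
        have : x ∈ (⊤ : Subgroup (P : Subgroup G)) := Subgroup.mem_top x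
        rw [hb, Subgroup.mem_bot] at this
        rw [this]
        exact one_mem _
      rw [h1, Subgroup.index_top] at hi8
      omega
    obtain ⟨z, -, hzc, hzo⟩ := exists_central_order_p hQ ⊤ hne
    refine ⟨(z : G), ?_, ?_⟩
    · rw [Subgroup.orderOf_coe, hzo]
      exact hpp
    · intro a ha
      have hz1 : (z : G) = 1 := by
        apply FaithfulSMul.eq_of_smul_eq_smul (α := Ω)
        intro b
        rw [one_smul]
        have hb : b ∈ orbit (P : Subgroup G) a := by
          rw [orbit_eq_iff.mpr (hall a)]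
          exact hall b
        rcases hb with ⟨x, rfl⟩
        show (z : G) • (x • a) = x • a
        have hcm : z * x = x * z := (Subgroup.mem_center_iff.mp hzc x).symm
        have h3 : z • (x • a) = x • a := by
          rw [← mul_smul, hcm, mul_smul]
          congr 1
        exact h3
      have : z = 1 := Subtype.ext hz1
      rw [this, orderOf_one] at hzo
      exact hpp.one_lt.ne hzo
  · have hp3 : 3 ≤ p := by
      have := hpp.two_le
      omega
    have hidx : ∀ ω : Ω, (stabilizer (P : Subgroup G) ω).index = p ^ 2 := by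
      intro ω
      have hd := pow_dvd_index P htrans (k := 2) (by rw [hcard]; exact dvd_mul_left _ _) ω
      obtain ⟨k, hk⟩ := hQ.index (stabilizer (P : Subgroup G) ω)
      rw [hk] at hd ⊢
      have h1 : 2 ≤ k := (Nat.pow_dvd_pow_iff_le_right hpp.one_lt).mp hd
      have h4 : k < 3 := by
        by_contra hc
        push Not at hc
        have h5 : p ^ 3 ≤ p ^ k := Nat.pow_le_pow_right hpp.pos hc
        have h6 := hle ω
        rw [hk, hcard] at h6
        have h7 : 3 * p ^ 2 ≤ p ^ 3 := by
          rw [pow_succ p 2, mul_comm]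
          exact Nat.mul_le_mul_left _ hp3
        have h8 := pow_pos hpp.pos 2
        omega
      have : k = 2 := by omega
      rw [this]
    have hnc : ∀ ω : Ω, (orbit (P : Subgroup G) ω).ncard = p ^ 2 := by
      intro ω
      rw [← index_stabilizer, hidx]
    have hsq := pow_pos hpp.pos 2
    obtain ⟨β, hβ⟩ : ∃ β, β ∉ orbit (P : Subgroup G) ω0 := by
      by_contra hc
      push Not at hc
      have h1 : orbit (P : Subgroup G) ω0 = Set.univ := Set.eq_univ_of_forall hc
      have h3 := hnc ω0
      rw [h1, Set.ncard_univ, hcard] at h3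
      omega
    have hdis : Disjoint (orbit (P : Subgroup G) ω0) (orbit (P : Subgroup G) β) := by
      rw [Set.disjoint_left]
      intro a ha hab
      apply hβ
      rw [← orbit_eq_iff.mpr ha, orbit_eq_iff.mpr hab]
      exact mem_orbit_self β
    have hβ' : ω0 ∉ orbit (P : Subgroup G) β := by
      intro h
      exact Set.disjoint_left.mp hdis (mem_orbit_self ω0) h
    have hun : orbit (P : Subgroup G) ω0 ∪ orbit (P : Subgroup G) β = Set.univ := by
      apply Set.eq_of_subset_of_ncard_le (Set.subset_univ _)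
      rw [Set.ncard_univ, hcard, Set.ncard_union_eq hdis, hnc, hnc]
      omega
    have hcov : ∀ a : Ω, a ∈ orbit (P : Subgroup G) ω0 ∨ a ∈ orbit (P : Subgroup G) β := by
      intro a
      have : a ∈ orbit (P : Subgroup G) ω0 ∪ orbit (P : Subgroup G) β := by
        rw [hun]; exact Set.mem_univ a
      exact this
    by_cases hf1 : ∀ h : (P : Subgroup G), (∀ a ∈ orbit (P : Subgroup G) ω0, h • a = a) → h = 1
    · exact case_C hQ hmax hcov hβ (hidx _) (hidx _) hf1 hcl
    by_cases hf2 : ∀ h : (P : Subgroup G), (∀ a ∈ orbit (P : Subgroup G) β, h • a = a) → h = 1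
    · exact case_C hQ hmax (fun a => (hcov a).symm) hβ' (hidx _) (hidx _) hf2 hcl
    exact case_A hQ hcov hf1 hf2

end GLevel



/-- Let G act faithfully and transitively on a finite set with 2p² points, p a prime, and suppose G is 2-closed: every permutation of the set which, on each ordered pair of points, agrees with some element of G, is itself induced by an element of G. Then some element of G of prime order fixes no point. -/
theorem result {G Ω : Type*} [Group G] [Finite G] [MulAction G Ω] [FaithfulSMul G Ω] [Finite Ω]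
    (htrans : MulAction.IsPretransitive G Ω) (p : ℕ) (hp : p.Prime) (hcard : Nat.card Ω = 2 * p ^ 2)
    (hcl : ∀ σ : Equiv.Perm Ω, (∀ a b : Ω, ∃ g : G, σ a = g • a ∧ σ b = g • b) → ∃ g : G, ∀ a : Ω, σ a = g • a) :
    ∃ g : G, (orderOf g).Prime ∧ ∀ ω : Ω, g • ω ≠ ω := by
  haveI : Fact p.Prime := ⟨hp⟩
  exact main htrans hcard hcl

end Cfsg.Agent.S3557
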