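import Cfsg.Statements.S3592
import Mathlib
import Cfsg.Agent.S2490
import Cfsg.Agent.Lib.M11Rec.Nse
import Cfsg.Agent.Lib.M11Rec.Target
import Cfsg.Agent.Lib.M11Order.Final

set_option autoImplicit false
open Cfsg

namespace Cfsg.Agent.S3592

open Subgroup

section Local

variable {G : Type*} [Group G] [Finite G]

theorem sylow_eq_of_mem [Fact (Nat.Prime 11)] (hG : Nat.card G = 7920) {x : G} (hx : orderOf x = 11)
    {P : Sylow 11 G} (h : x ∈ (P : Subgroup G)) : zpowers x = (P : Subgroup G) := by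
  apply Subgroup.eq_of_le_of_card_ge
  · exact (Subgroup.zpowers_le).2 h
  · rw [Nat.card_zpowers, hx, Cfsg.Agent.S2490.card_syl11 hG P]

theorem sylow_unique [Fact (Nat.Prime 11)] (hG : Nat.card G = 7920) {x : G} (hx : orderOf x = 11)
    {P P' : Sylow 11 G} (h : x ∈ (P : Subgroup G)) (h' : x ∈ (P' : Subgroup G)) : P = P' :=
  Sylow.ext ((sylow_eq_of_mem hG hx h).symm.trans (sylow_eq_of_mem hG hx h'))

theorem exists_sylow_mem [Fact (Nat.Prime 11)] {x : G} (hx : orderOf x = 11) :
    ∃ P : Sylow 11 G, x ∈ (P : Subgroup G) := by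
  have hp : IsPGroup 11 (zpowers x) := IsPGroup.of_card (n := 1) (by rw [Nat.card_zpowers, hx, pow_one])
  obtain ⟨Q, hQ⟩ := hp.exists_le_sylow
  exact ⟨Q, hQ (mem_zpowers x)⟩

theorem order_of_mem [Fact (Nat.Prime 11)] (hG : Nat.card G = 7920) {P : Sylow 11 G} {y : G}
    (hy : y ∈ (P : Subgroup G)) (hy1 : y ≠ 1) : orderOf y = 11 := by
  have h1 : orderOf (⟨y, hy⟩ : (P : Subgroup G)) ∣ Nat.card (P : Subgroup G) := orderOf_dvd_natCard _
  rw [Cfsg.Agent.S2490.card_syl11 hG P, Subgroup.orderOf_mk] at h1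
  refine ((Nat.dvd_prime (by norm_num)).1 h1).resolve_left ?_
  intro h
  exact hy1 (orderOf_eq_one_iff.1 h)

/-- The number of elements of order `11`. -/
theorem count_eleven [Fact (Nat.Prime 11)] (hG : Nat.card G = 7920) :
    Nat.card {g : G // orderOf g = 11} = Nat.card (Sylow 11 G) * 10 := by
  classical
  cases nonempty_fintype (Sylow 11 G)
  let f : {g : G // orderOf g = 11} → Sylow 11 G := fun g => (exists_sylow_mem g.2).choose
  have hf : ∀ g, g.1 ∈ ((f g : Sylow 11 G) : Subgroup G) := fun g => (exists_sylow_mem g.2).choose_spec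
  have hfib : ∀ P : Sylow 11 G, Nat.card {g : {g : G // orderOf g = 11} // f g = P} = 10 := by
    intro P
    have hcard : Nat.card {y : (P : Subgroup G) // y ≠ 1} = 10 := by
      have h1 : Nat.card (P : Subgroup G) = 11 := Cfsg.Agent.S2490.card_syl11 hG P
      haveI : Fintype (P : Subgroup G) := Fintype.ofFinite _
      rw [Nat.card_eq_fintype_card, Fintype.card_subtype_compl, Fintype.card_subtype_eq]
      rw [Nat.card_eq_fintype_card] at h1
      omega
    rw [← hcard]
    refine Nat.card_congr ⟨fun g => ⟨⟨g.1.1, by have h0 := hf g.1; rw [g.2] at h0; exact h0⟩, ?_⟩,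
      fun y => ⟨⟨y.1.1, order_of_mem hG y.1.2 (fun h => y.2 (Subtype.ext h))⟩, ?_⟩, ?_, ?_⟩
    · intro h
      have h1 := congrArg Subtype.val h
      have h2 : g.1.1 = 1 := h1
      have h3 := g.1.2
      rw [h2, orderOf_one] at h3
      omega
    · have hy := order_of_mem hG y.1.2 (fun h => y.2 (Subtype.ext h))
      exact sylow_unique hG hy (hf ⟨y.1.1, hy⟩) y.1.2
    · intro g
      rfl
    · intro y
      rfl
  have h := Nat.card_congr (Equiv.sigmaFiberEquiv f)
  rw [Nat.card_sigma] at h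
  simp only [hfib, Finset.sum_const, smul_eq_mul] at h
  rw [← h, Finset.card_univ, Nat.card_eq_fintype_card]

/-- The number of Sylow `11`-subgroups. -/
theorem card_sylow_eleven [Fact (Nat.Prime 11)] (hG : Nat.card G = 7920)
    (hS : ∀ n : ℕ, 0 < Nat.card {g : G // orderOf g = n} → Nat.card {g : G // orderOf g = n} ∈
      ({0, 1, 165, 440, 990, 1584, 1320, 1980, 1440} : Set ℕ)) :
    Nat.card (Sylow 11 G) = 144 := by
  have h1 := count_eleven (G := G) hG
  have h2 : Nat.card (Sylow 11 G) ≡ 1 [MOD 11] := card_sylow_modEq_one 11 G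
  have h3 : 0 < Nat.card (Sylow 11 G) := Nat.card_pos
  have h4 := hS 11 (by rw [h1]; omega)
  rw [h1] at h4
  simp only [Set.mem_insert_iff, Set.mem_singleton_iff] at h4
  have h5 : Nat.card (Sylow 11 G) % 11 = 1 := h2
  omega

theorem card_normalizer_eleven [Fact (Nat.Prime 11)] (hG : Nat.card G = 7920) (hn : Nat.card (Sylow 11 G) = 144)
    (P : Sylow 11 G) : Nat.card (normalizer ((P : Subgroup G) : Set G)) = 55 := by
  have h := Cfsg.Agent.S2490.card_norm_mul P
  rw [hG, hn] at h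
  omega

theorem mem_normalizer_of_comm {P : Subgroup G} {x c : G} (hP : zpowers x = P) (hc : c * x = x * c) :
    c ∈ normalizer (P : Set G) :=
  Subgroup.centralizer_le_normalizer _ (Cfsg.Agent.S2490.mem_centralizer_of_comm hP hc)

/-- An element of order `11 q` has its order dividing `55`. -/
theorem order_dvd [Fact (Nat.Prime 11)] (hG : Nat.card G = 7920) (hn : Nat.card (Sylow 11 G) = 144)
    {g : G} {q : ℕ} (hq : 0 < q) (hg : orderOf g = 11 * q) : 11 * q ∣ 55 := by
  have hx : orderOf (g ^ q) = 11 := by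
    rw [orderOf_pow' g hq.ne', hg, Nat.gcd_eq_right (Dvd.intro_left 11 rfl)]
    exact Nat.mul_div_cancel _ hq
  obtain ⟨P, hP⟩ := exists_sylow_mem hx
  have h1 := sylow_eq_of_mem hG hx hP
  have h2 : g ∈ normalizer ((P : Subgroup G) : Set G) :=
    mem_normalizer_of_comm h1 (by rw [← pow_succ', ← pow_succ])
  have h3 := Subgroup.orderOf_dvd_natCard (normalizer ((P : Subgroup G) : Set G)) h2
  rw [card_normalizer_eleven hG hn, hg] at h3
  exact h3

/-- No element of order `55`. -/
theorem no_order_55 [Fact (Nat.Prime 11)] (hG : Nat.card G = 7920) (hn : Nat.card (Sylow 11 G) = 144)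
    (hS : ∀ n : ℕ, 0 < Nat.card {g : G // orderOf g = n} → Nat.card {g : G // orderOf g = n} ∈
      ({0, 1, 165, 440, 990, 1584, 1320, 1980, 1440} : Set ℕ)) (g : G) : orderOf g ≠ 55 := by
  classical
  intro hg
  have hx : orderOf (g ^ 5) = 11 := by
    rw [orderOf_pow' g (by norm_num), hg]
    norm_num
  obtain ⟨T, hT⟩ := exists_sylow_mem hx
  have hex : ∀ S : Sylow 11 G, ∃ y : G, y • T = S := fun S => MulAction.exists_smul_eq G T S
  choose e he using hex
  have hmem : ∀ S : Sylow 11 G, (e S * g * (e S)⁻¹) ^ 5 ∈ (S : Subgroup G) := by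
    intro S
    have h1 : (e S * g * (e S)⁻¹) ^ 5 = e S * g ^ 5 * (e S)⁻¹ := by
      rw [conj_pow]
    rw [h1]
    have h2 : e S * g ^ 5 * (e S)⁻¹ ∈ ((e S • T : Sylow 11 G) : Subgroup G) := by
      rw [Sylow.coe_subgroup_smul]
      exact ⟨g ^ 5, hT, rfl⟩
    rwa [he S] at h2
  have hord : ∀ S : Sylow 11 G, orderOf (e S * g * (e S)⁻¹) = 55 := by
    intro S
    rw [orderOf_eq_iff (by norm_num)] at hg ⊢
    refine ⟨?_, ?_⟩
    · rw [conj_pow, hg.1]
      group
    · intro m hm hm0 h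
      rw [conj_pow] at h
      apply hg.2 m hm hm0
      have := congrArg (fun z => (e S)⁻¹ * z * e S) h
      simpa [mul_assoc] using this
  let U := {k : Fin 55 // Nat.Coprime k.1 55}
  let Φ : Sylow 11 G × U → {h : G // orderOf h = 55} := fun z =>
    ⟨(e z.1 * g * (e z.1)⁻¹) ^ z.2.1.1, by
      rw [Nat.Coprime.orderOf_pow, hord]
      rw [hord]
      exact (Nat.coprime_comm.1 z.2.2)⟩
  have hinj : Function.Injective Φ := by
    rintro ⟨S, k⟩ ⟨S', k'⟩ h
    have h1 : (e S * g * (e S)⁻¹) ^ k.1.1 = (e S' * g * (e S')⁻¹) ^ k'.1.1 := congrArg Subtype.val h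
    have hk : Nat.Coprime k.1.1 11 := Nat.Coprime.coprime_dvd_right (by norm_num) k.2
    have ha : orderOf (((e S * g * (e S)⁻¹) ^ 5) ^ k.1.1) = 11 := by
      rw [Nat.Coprime.orderOf_pow]
      · rw [orderOf_pow' _ (by norm_num), hord]
        norm_num
      · rw [orderOf_pow' _ (by norm_num), hord]
        norm_num
        exact (Nat.coprime_comm.1 hk)
    have hm1 : ((e S * g * (e S)⁻¹) ^ 5) ^ k.1.1 ∈ (S : Subgroup G) := Subgroup.pow_mem _ (hmem S) _
    have hm2 : ((e S * g * (e S)⁻¹) ^ 5) ^ k.1.1 ∈ (S' : Subgroup G) := by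
      have h2 : ((e S * g * (e S)⁻¹) ^ 5) ^ k.1.1 = ((e S' * g * (e S')⁻¹) ^ 5) ^ k'.1.1 := by
        rw [← pow_mul, ← pow_mul, mul_comm 5, mul_comm 5, pow_mul, pow_mul, h1]
      rw [h2]
      exact Subgroup.pow_mem _ (hmem S') _
    have hSS : S = S' := sylow_unique hG ha hm1 hm2
    subst hSS
    have h3 : k.1.1 ≡ k'.1.1 [MOD 55] := by
      have := (pow_inj_mod (x := e S * g * (e S)⁻¹)).1 h1
      rw [hord] at this
      exact this
    have h4 : k.1.1 < 55 := k.1.2
    have h5 : k'.1.1 < 55 := k'.1.2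
    have h6 : k.1.1 = k'.1.1 := by
      have : k.1.1 % 55 = k'.1.1 % 55 := h3
      omega
    have h7 : k = k' := Subtype.ext (Fin.ext h6)
    rw [h7]
  have hle := Nat.card_le_card_of_injective Φ hinj
  have hU : Nat.card U = 40 := by
    rw [Nat.card_eq_fintype_card]
    decide
  rw [Nat.card_prod, hn, hU] at hle
  have hpos : 0 < Nat.card {h : G // orderOf h = 55} := by omega
  have h4 := hS 55 hpos
  simp only [Set.mem_insert_iff, Set.mem_singleton_iff] at h4
  omega

/-- The group is simple. -/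
theorem isSimple (hG : Nat.card G = 7920)
    (hS : ∀ n : ℕ, 0 < Nat.card {g : G // orderOf g = n} → Nat.card {g : G // orderOf g = n} ∈
      ({0, 1, 165, 440, 990, 1584, 1320, 1980, 1440} : Set ℕ)) : IsSimpleGroup G := by
  haveI : Fact (Nat.Prime 11) := ⟨by norm_num⟩
  have hn := card_sylow_eleven hG hS
  apply Cfsg.Agent.S2490.result hG
  refine ⟨{11}, ⟨11, rfl, by norm_num, by rw [hG]; norm_num⟩, ⟨2, by simp, Nat.prime_two, by rw [hG]; norm_num⟩, ?_⟩
  rintro a rfl b hb - hbp - hb2 ⟨g, hg⟩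
  have hd := order_dvd hG hn (q := b) hbp.pos hg
  have hb3 : b ∣ 5 := (Nat.dvd_of_mul_dvd_mul_left (by norm_num : 0 < 11) (by simpa using hd))
  have hb5 : b = 5 := ((Nat.dvd_prime (by norm_num)).1 hb3).resolve_left hbp.one_lt.ne'
  subst hb5
  exact no_order_55 hG hn hS g hg

end Local

/-- Let M be the Mathieu group M₁₁ (order 7920). If a finite group G has the same order as M and the same set of values of the function 'number of elements of order n' (taken over the element orders n that occur), then G is isomorphic to M. -/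
theorem result {G : Type*} [Group G] [Finite G]
    (hcard : Nat.card G = Nat.card ↥Cfsg.Spor.M11)
    (hnse : {c : ℕ | 0 < c ∧ ∃ n : ℕ, c = Nat.card {g : G // orderOf g = n}} =
      {c : ℕ | 0 < c ∧ ∃ n : ℕ, c = Nat.card {g : ↥Cfsg.Spor.M11 // orderOf g = n}}) :
    Nonempty (G ≃* ↥Cfsg.Spor.M11) := by
  have hG : Nat.card G = 7920 := by
    rw [hcard]
    exact Cfsg.Agent.Lib.M11Rec.card_M
  have hS : ∀ n : ℕ, 0 < Nat.card {g : G // orderOf g = n} → Nat.card {g : G // orderOf g = n} ∈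
      ({0, 1, 165, 440, 990, 1584, 1320, 1980, 1440} : Set ℕ) := by
    intro n hn
    have h1 : Nat.card {g : G // orderOf g = n} ∈ {c : ℕ | 0 < c ∧ ∃ n : ℕ, c = Nat.card {g : G // orderOf g = n}} :=
      ⟨hn, n, rfl⟩
    rw [hnse] at h1
    obtain ⟨-, m, hm⟩ := h1
    rw [hm]
    exact Cfsg.Agent.Lib.M11Rec.card_order_mem m
  have hs := isSimple hG hS
  cases nonempty_fintype G
  haveI := hs
  obtain ⟨a1, a2, a3, b, e1, e2, c, g, d, T⟩ := Cfsg.Agent.Lib.M11Order.exists_T10 hG
  haveI := Fintype.ofFinite (Sylow 3 G)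
  exact Cfsg.Agent.Lib.M11Rec.recognize (Cfsg.Agent.Lib.M11Order.hyp_of_simple hG T)

end Cfsg.Agent.S3592
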