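import Cfsg.Statements.S3634
import Mathlib

set_option autoImplicit false
open Cfsg

namespace Cfsg.Agent.S3634

section sumIdentity

variable {B V : Type*} [Group B] [CommGroup V] (ρ : B →* MulAut V)

/-- The Frobenius sum identity: a `q`-group `Q` and an element `z` of prime order normalising `Q`,
acting without fixed points as below on an abelian group `V`, force `v ^ |Q| = 1`. -/
theorem pow_card_eq_one_of_fpf [Finite B] (Q : Subgroup B) (z : B) {r : ℕ} (hr : r.Prime)
    (hz : z ^ r = 1) (hzQ : z ∈ Subgroup.normalizer (Q : Set B))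
    (hfix : ∀ i, 0 < i → i < r → ∀ w ∈ Q, z ^ i * w * (z ^ i)⁻¹ = w → w = 1)
    (hQV : ∀ v : V, (∀ u ∈ Q, ρ u v = v) → v = 1)
    (hzV : ∀ v : V, ρ z v = v → v = 1) (v : V) : v ^ Nat.card Q = 1 := by
  classical
  letI : Fintype Q := Fintype.ofFinite _
  -- the sum over the powers of `z`
  have hA : ∀ x : V, ∏ i ∈ Finset.range r, ρ (z ^ i) x = 1 := by
    intro x
    apply hzV
    have h1 : ρ z (∏ i ∈ Finset.range r, ρ (z ^ i) x) =
        ∏ i ∈ Finset.range r, ρ (z ^ (i + 1)) x := by
      rw [map_prod]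
      refine Finset.prod_congr rfl fun i _ => ?_
      rw [pow_succ', map_mul, MulAut.mul_apply]
    rw [h1]
    have h2 := Finset.prod_range_succ (fun i => ρ (z ^ i) x) r
    have h3 := Finset.prod_range_succ' (fun i => ρ (z ^ i) x) r
    rw [h2] at h3
    simp only [hz, pow_zero] at h3
    exact (mul_right_cancel h3).symm
  -- the sum over `Q`
  have hB : ∀ x : V, ∏ u : Q, ρ (u : B) x = 1 := by
    intro x
    apply hQV
    intro u₀ hu₀
    rw [map_prod]
    have := Equiv.prod_comp (Equiv.mulLeft (⟨u₀, hu₀⟩ : Q)) (fun u : Q => ρ (u : B) x)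
    rw [← this]
    refine Finset.prod_congr rfl fun u _ => ?_
    simp [map_mul, MulAut.mul_apply]
  -- the bijection
  have hσ : ∀ i, 0 < i → i < r → ∀ x : V,
      ∏ u : Q, ρ ((u : B) * z ^ i) x = ∏ w : Q, ρ ((w : B) * z ^ i * (w : B)⁻¹) x := by
    intro i hi hir x
    have hzi : z ^ i ∈ Subgroup.normalizer (Q : Set B) := Subgroup.pow_mem _ hzQ i
    have hmem : ∀ w : Q, z ^ i * ((w : B))⁻¹ * (z ^ i)⁻¹ ∈ Q := by
      intro w
      exact (Subgroup.mem_normalizer_iff.mp hzi _).mp (Q.inv_mem w.2)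
    let σ : Q → Q := fun w => ⟨(w : B) * (z ^ i * ((w : B))⁻¹ * (z ^ i)⁻¹),
      Q.mul_mem w.2 (hmem w)⟩
    have hinj : Function.Injective σ := by
      intro a b hab
      have h := congrArg (fun x : Q => (x : B)) hab
      simp only [σ] at h
      have key : z ^ i * ((b : B)⁻¹ * (a : B)) * (z ^ i)⁻¹ = (b : B)⁻¹ * (a : B) := by
        have h' : (b : B)⁻¹ * (a : B) * (z ^ i * (a : B)⁻¹ * (z ^ i)⁻¹) =
            z ^ i * (b : B)⁻¹ * (z ^ i)⁻¹ := by
          calc (b : B)⁻¹ * (a : B) * (z ^ i * (a : B)⁻¹ * (z ^ i)⁻¹)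
              = (b : B)⁻¹ * ((a : B) * (z ^ i * (a : B)⁻¹ * (z ^ i)⁻¹)) := by group
            _ = (b : B)⁻¹ * ((b : B) * (z ^ i * (b : B)⁻¹ * (z ^ i)⁻¹)) := by rw [h]
            _ = z ^ i * (b : B)⁻¹ * (z ^ i)⁻¹ := by group
        calc z ^ i * ((b : B)⁻¹ * (a : B)) * (z ^ i)⁻¹
            = (z ^ i * (b : B)⁻¹ * (z ^ i)⁻¹) * (z ^ i * (a : B) * (z ^ i)⁻¹) := by group
          _ = ((b : B)⁻¹ * (a : B) * (z ^ i * (a : B)⁻¹ * (z ^ i)⁻¹)) *
                (z ^ i * (a : B) * (z ^ i)⁻¹) := by rw [h']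
          _ = (b : B)⁻¹ * (a : B) := by group
      have h1 := hfix i hi hir _ (Q.mul_mem (Q.inv_mem b.2) a.2) key
      have h2 : (b : B) = a := by
        have := eq_of_inv_mul_eq_one h1
        exact this
      exact (Subtype.ext h2).symm
    have hbij : Function.Bijective σ := Finite.injective_iff_bijective.mp hinj
    rw [← hbij.prod_comp (fun u : Q => ρ ((u : B) * z ^ i) x)]
    refine Finset.prod_congr rfl fun w _ => ?_
    simp only [σ]
    congr 2
    group
  -- evaluate the double sum in two ways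
  have hr0 : r = (r - 1) + 1 := (Nat.sub_add_cancel hr.one_le).symm
  have e1 : ∏ u : Q, ∏ i ∈ Finset.range r, ρ ((u : B) * z ^ i) v = 1 := by
    refine Finset.prod_eq_one fun u _ => ?_
    have : ∏ i ∈ Finset.range r, ρ ((u : B) * z ^ i) v =
        ρ (u : B) (∏ i ∈ Finset.range r, ρ (z ^ i) v) := by
      rw [map_prod]
      refine Finset.prod_congr rfl fun i _ => ?_
      simp [map_mul, MulAut.mul_apply]
    rw [this, hA, map_one]
  have e2 : ∏ u : Q, ∏ i ∈ Finset.range r, ρ ((u : B) * z ^ i) v = (v⁻¹) ^ Nat.card Q := by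
    rw [Finset.prod_comm, hr0, Finset.prod_range_succ']
    have h0 : ∏ u : Q, ρ ((u : B) * z ^ 0) v = 1 := by
      simpa using hB v
    rw [h0, mul_one]
    have h1 : ∏ i ∈ Finset.range (r - 1), ∏ u : Q, ρ ((u : B) * z ^ (i + 1)) v =
        ∏ i ∈ Finset.range (r - 1), ∏ w : Q, ρ ((w : B) * z ^ (i + 1) * (w : B)⁻¹) v := by
      refine Finset.prod_congr rfl fun i hi => ?_
      refine hσ (i + 1) (Nat.succ_pos _) ?_ v
      have := Finset.mem_range.mp hi
      omega
    rw [h1, Finset.prod_comm]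
    have h2 : ∀ w : Q, ∏ i ∈ Finset.range (r - 1), ρ ((w : B) * z ^ (i + 1) * (w : B)⁻¹) v = v⁻¹ := by
      intro w
      have h3 : ∏ i ∈ Finset.range (r - 1), ρ ((w : B) * z ^ (i + 1) * (w : B)⁻¹) v =
          ρ (w : B) (∏ i ∈ Finset.range (r - 1), ρ (z ^ (i + 1)) (ρ ((w : B)⁻¹) v)) := by
        rw [map_prod]
        refine Finset.prod_congr rfl fun i _ => ?_
        simp [map_mul, MulAut.mul_apply]
      rw [h3]
      have h4 := hA (ρ ((w : B)⁻¹) v)
      rw [hr0, Finset.prod_range_succ'] at h4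
      simp only [pow_zero, map_one, MulAut.one_apply] at h4
      rw [eq_inv_of_mul_eq_one_left h4, map_inv]
      have h5 : ρ (w : B) (ρ ((w : B)⁻¹) v) = v := by
        rw [← MulAut.mul_apply, ← map_mul]
        simp
      rw [h5]
    simp only [h2]
    simp [Finset.prod_const, Finset.card_univ, Nat.card_eq_fintype_card]
  have := e1.symm.trans e2
  rw [inv_pow] at this
  exact inv_eq_one.mp this.symm

end sumIdentity

/-- A nontrivial `p`-element commuting with an element of coprime order `s` yields an element of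
order `p * s`. -/
theorem exists_orderOf_mul {B : Type*} [Group B] {p s : ℕ} (hp : p.Prime) (hps : Nat.Coprime p s)
    {v y : B} (hv : v ≠ 1) (hvp : ∃ k : ℕ, v ^ p ^ k = 1) (hy : orderOf y = s)
    (hc : Commute v y) : ∃ x : B, orderOf x = p * s := by
  obtain ⟨k, hk⟩ := hvp
  have hdvd : orderOf v ∣ p ^ k := orderOf_dvd_of_pow_eq_one hk
  obtain ⟨j, -, hj⟩ := (Nat.dvd_prime_pow hp).mp hdvd
  have hj0 : j ≠ 0 := by
    rintro rfl
    apply hv
    exact orderOf_eq_one_iff.mp (by simpa using hj)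
  have hne : orderOf v ≠ 0 := by rw [hj]; exact (pow_pos hp.pos _).ne'
  have hpd : p ∣ orderOf v := by rw [hj]; exact dvd_pow_self _ hj0
  have hw : orderOf (v ^ (orderOf v / p)) = p := orderOf_pow_orderOf_div hne hpd
  refine ⟨v ^ (orderOf v / p) * y, ?_⟩
  have hc' : Commute (v ^ (orderOf v / p)) y := hc.pow_left _
  rw [hc'.orderOf_mul_eq_mul_orderOf_of_coprime (by rw [hw, hy]; exact hps), hw, hy]

/-- The main group-theoretic lemma. -/
theorem no_triple {B : Type*} [Group B] [Finite B] {p q r : ℕ} (hp : p.Prime) (hq : q.Prime)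
    (hr : r.Prime) (hpq : p ≠ q) (hpr : p ≠ r) (hqr : q ≠ r)
    (P : Subgroup B) [P.Normal] (hP : IsPGroup p P) (hP1 : P ≠ ⊥)
    (Q : Subgroup B) (hQ : IsPGroup q Q) (hQ1 : Q ≠ ⊥)
    (z : B) (hz : orderOf z = r) (hzQ : z ∈ Subgroup.normalizer (Q : Set B))
    (h1 : ¬ ∃ x : B, orderOf x = p * q) (h2 : ¬ ∃ x : B, orderOf x = p * r)
    (h3 : ¬ ∃ x : B, orderOf x = q * r) : False := by
  classical
  have : Fact p.Prime := ⟨hp⟩
  have : Fact q.Prime := ⟨hq⟩
  have : Fact r.Prime := ⟨hr⟩
  -- the abelian normal subgroup `V = Z(P)`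
  let V : Subgroup B := P ⊓ Subgroup.centralizer (P : Set B)
  haveI : V.Normal := inferInstanceAs (P ⊓ Subgroup.centralizer (P : Set B)).Normal
  have hVcomm : ∀ a b : V, a * b = b * a := by
    intro a b
    apply Subtype.ext
    have ha := a.2.1
    have hb := b.2.2
    have := Subgroup.mem_centralizer_iff.mp hb (a : B) ha
    exact this
  letI instV : CommGroup V := { (inferInstance : Group V) with mul_comm := hVcomm }
  let ρ : B →* MulAut V := MulAut.conjNormal
  have hρ : ∀ (g : B) (v : V), ((ρ g v : V) : B) = g * (v : B) * g⁻¹ := fun g v =>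
    MulAut.conjNormal_apply g v
  have hVp : ∀ v : V, ∃ k : ℕ, (v : B) ^ p ^ k = 1 := by
    intro v
    obtain ⟨k, hk⟩ := hP ⟨(v : B), v.2.1⟩
    exact ⟨k, by simpa [Subtype.ext_iff] using hk⟩
  have hcopq : Nat.Coprime p q := (Nat.coprime_primes hp hq).mpr hpq
  have hcopr : Nat.Coprime p r := (Nat.coprime_primes hp hr).mpr hpr
  have hcoqr : Nat.Coprime q r := (Nat.coprime_primes hq hr).mpr hqr
  -- elements of `Q` of order `q`
  have hQcard : q ∣ Nat.card Q := by
    obtain ⟨n, hn⟩ := IsPGroup.iff_card.mp hQ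
    have hn0 : n ≠ 0 := by
      rintro rfl
      apply hQ1
      have : Nat.card Q = 1 := by simpa using hn
      exact Subgroup.eq_bot_of_card_eq Q this
    rw [hn]
    exact dvd_pow_self _ hn0
  obtain ⟨y, hy⟩ := exists_prime_orderOf_dvd_card' (G := Q) q hQcard
  have hzV : ∀ v : V, ρ z v = v → v = 1 := by
    intro v hv
    by_contra hne
    have hne' : (v : B) ≠ 1 := fun h => hne (Subtype.ext h)
    refine h2 (exists_orderOf_mul hp hcopr hne' (hVp v) hz ?_)
    have := congrArg (fun x : V => (x : B)) hv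
    simp only [hρ] at this
    exact (mul_inv_eq_iff_eq_mul.mp this).symm
  have hQV : ∀ v : V, (∀ u ∈ Q, ρ u v = v) → v = 1 := by
    intro v hv
    by_contra hne
    have hne' : (v : B) ≠ 1 := fun h => hne (Subtype.ext h)
    refine h1 (exists_orderOf_mul hp hcopq hne' (hVp v) (y := (y : B)) ?_ ?_)
    · rw [← hy, Subgroup.orderOf_coe]
    · have := congrArg (fun x : V => (x : B)) (hv y y.2)
      simp only [hρ] at this
      exact (mul_inv_eq_iff_eq_mul.mp this).symm
  have hfix : ∀ i, 0 < i → i < r → ∀ w ∈ Q, z ^ i * w * (z ^ i)⁻¹ = w → w = 1 := by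
    intro i hi hir w hw hc
    by_contra hne
    have hord : orderOf (z ^ i) = r := by
      rw [orderOf_pow' _ hi.ne', hz, Nat.gcd_comm]
      have : Nat.gcd i r = 1 := ((Nat.Prime.coprime_iff_not_dvd hr).mpr (Nat.not_dvd_of_pos_of_lt hi hir)).symm
      simp [this]
    refine h3 (exists_orderOf_mul hq hcoqr hne ?_ hord ?_)
    · obtain ⟨k, hk⟩ := hQ ⟨w, hw⟩
      exact ⟨k, by simpa [Subtype.ext_iff] using hk⟩
    · exact (mul_inv_eq_iff_eq_mul.mp hc).symm
  have hzr : z ^ r = 1 := by rw [← hz]; exact pow_orderOf_eq_one z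
  have key := pow_card_eq_one_of_fpf ρ Q z hr hzr hzQ hfix hQV hzV
  -- `V` is nontrivial
  haveI : Nontrivial P := (Subgroup.nontrivial_iff_ne_bot P).mpr hP1
  haveI := hP.center_nontrivial
  obtain ⟨c, hc⟩ := exists_ne (1 : Subgroup.center P)
  let v : V := ⟨((c : P) : B), (c : P).2, Subgroup.mem_centralizer_iff.mpr (fun x hx => by
    have := (Subgroup.mem_center_iff.mp c.2) ⟨x, hx⟩
    exact congrArg (fun a : P => (a : B)) this)⟩
  have hv : (v : B) ≠ 1 := by
    intro h
    apply hc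
    apply Subtype.ext
    apply Subtype.ext
    exact h
  have hvpow : (v : B) ^ Nat.card Q = 1 := by
    have := congrArg (fun x : V => (x : B)) (key v)
    simpa using this
  obtain ⟨k, hk⟩ := hVp v
  obtain ⟨n, hn⟩ := IsPGroup.iff_card.mp hQ
  have hd1 := orderOf_dvd_of_pow_eq_one hk
  have hd2 := orderOf_dvd_of_pow_eq_one hvpow
  rw [hn] at hd2
  have : Nat.Coprime (p ^ k) (q ^ n) := Nat.Coprime.pow _ _ hcopq
  have h1' : orderOf (v : B) = 1 := Nat.eq_one_of_dvd_coprimes this hd1 hd2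
  exact hv (orderOf_eq_one_iff.mp h1')

/-- Let G be a finite group with normal subgroups K ≤ M, and let p, q, r be distinct primes with p dividing the order of K, q dividing the order of M/K and r dividing the order of G/M. Then p, q, r are not pairwise non-adjacent in the prime graph of G: G has an element of order pq, pr or qr. -/
theorem result {G : Type*} [Group G] [Finite G] (K M : Subgroup G) [K.Normal] [M.Normal] (hKM : K ≤ M)
    (p q r : ℕ) (hp : p.Prime) (hq : q.Prime) (hr : r.Prime) (hpq : p ≠ q) (hpr : p ≠ r) (hqr : q ≠ r)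
    (hpK : p ∣ Nat.card ↥K) (hqM : q ∣ Nat.card ↥M / Nat.card ↥K) (hrG : r ∣ Nat.card G / Nat.card ↥M) :
    (∃ x : G, orderOf x = p * q) ∨ (∃ x : G, orderOf x = p * r) ∨ (∃ x : G, orderOf x = q * r) := by
  classical
  by_contra hcon
  rw [not_or, not_or] at hcon
  obtain ⟨h1, h2, h3⟩ := hcon
  have : Fact p.Prime := ⟨hp⟩
  have : Fact q.Prime := ⟨hq⟩
  have : Fact r.Prime := ⟨hr⟩
  -- Frattini for `P ∈ Syl_p(K)`
  obtain ⟨PK⟩ : Nonempty (Sylow p K) := inferInstance
  let P' : Subgroup G := (PK : Subgroup K).map K.subtype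
  let H : Subgroup G := Subgroup.normalizer (P' : Set G)
  have hHK : H ⊔ K = ⊤ := Sylow.normalizer_sup_eq_top PK
  have hP'ne : P' ≠ ⊥ := by
    intro h
    have hne := PK.ne_bot_of_dvd_card hpK
    apply hne
    exact (Subgroup.map_eq_bot_iff_of_injective _ K.subtype_injective).mp h
  have hP'p : IsPGroup p P' := PK.isPGroup'.map K.subtype
  -- arithmetic
  have hrel1 : K.relIndex M = Nat.card M / Nat.card K := by
    have h1 := Subgroup.relIndex_mul_index hKM
    have h2 := K.card_mul_index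
    have h3 := M.card_mul_index
    have hpos : 0 < M.index := Nat.pos_of_ne_zero Subgroup.index_ne_zero_of_finite
    have : Nat.card M = Nat.card K * K.relIndex M := by
      apply Nat.eq_of_mul_eq_mul_right hpos
      rw [h3, mul_assoc, h1, h2]
    exact (Nat.div_eq_of_eq_mul_right Nat.card_pos this).symm
  have hrel2 : M.index = Nat.card G / Nat.card M := by
    have := M.card_mul_index
    exact (Nat.div_eq_of_eq_mul_right Nat.card_pos this.symm).symm
  have hq1 : q ∣ K.relIndex (H ⊓ M) := by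
    have hsup : H ⊓ M ⊔ K = M := by
      apply le_antisymm
      · exact sup_le inf_le_right hKM
      · intro x hx
        have hx' : x ∈ H ⊔ K := by rw [hHK]; trivial
        obtain ⟨a, ha, b, hb, rfl⟩ := Subgroup.mem_sup_of_normal_right.mp hx'
        have ham : a ∈ M := by
          have := M.mul_mem hx (M.inv_mem (hKM hb))
          simpa using this
        exact Subgroup.mul_mem_sup ⟨ha, ham⟩ hb
    have := Subgroup.relIndex_sup_right (H ⊓ M) K
    rw [hsup] at this
    rw [← this, hrel1]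
    exact hqM
  have hq2 : q ∣ Nat.card ↥(H ⊓ M) := hq1.trans (Subgroup.relIndex_dvd_card _ _)
  have hr1 : r ∣ M.relIndex H := by
    have h' : H ⊔ M = ⊤ := top_le_iff.mp (hHK ▸ sup_le_sup_left hKM H)
    have := Subgroup.relIndex_sup_right H M
    rw [h', Subgroup.relIndex_top_right] at this
    rw [← this, hrel2]
    exact hrG
  -- pass to the normaliser of `P'`
  let D : Subgroup H := M.subgroupOf H
  haveI : D.Normal := inferInstanceAs (M.subgroupOf H).Normal
  have hDcard : q ∣ Nat.card D := by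
    have : Nat.card D = Nat.card ↥(H ⊓ M) := by
      have e : D = (H ⊓ M).subgroupOf H := by
        ext x
        simp [D, Subgroup.mem_subgroupOf]
      rw [e]
      exact Nat.card_congr (Subgroup.subgroupOfEquivOfLe inf_le_left).toEquiv
    rw [this]; exact hq2
  obtain ⟨Q₀⟩ : Nonempty (Sylow q D) := inferInstance
  let Q : Subgroup H := (Q₀ : Subgroup D).map D.subtype
  have hQne : Q ≠ ⊥ := by
    intro h
    have hne := Q₀.ne_bot_of_dvd_card hDcard
    apply hne
    exact (Subgroup.map_eq_bot_iff_of_injective _ D.subtype_injective).mp h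
  have hQp : IsPGroup q Q := Q₀.isPGroup'.map D.subtype
  have hNsup : (Subgroup.normalizer (Q : Set H)) ⊔ D = ⊤ := Sylow.normalizer_sup_eq_top Q₀
  have hr2 : r ∣ Nat.card (Subgroup.normalizer (Q : Set H)) := by
    have h := Subgroup.relIndex_sup_right (Subgroup.normalizer (Q : Set H)) D
    rw [hNsup, Subgroup.relIndex_top_right] at h
    have h3 : r ∣ D.index := hr1
    rw [h] at h3
    exact h3.trans (Subgroup.relIndex_dvd_card _ _)
  obtain ⟨z, hz⟩ := exists_prime_orderOf_dvd_card' (G := (Subgroup.normalizer (Q : Set H))) r hr2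
  have hlift : ∀ n : ℕ, (¬ ∃ x : G, orderOf x = n) → ¬ ∃ x : H, orderOf x = n := by
    intro n hn ⟨x, hx⟩
    exact hn ⟨(x : G), by rw [Subgroup.orderOf_coe]; exact hx⟩
  refine no_triple (B := H) hp hq hr hpq hpr hqr (P'.subgroupOf H) ?_ ?_ Q hQp hQne (z : H) ?_ z.2
    (hlift _ h1) (hlift _ h2) (hlift _ h3)
  · exact hP'p.comap_subtype
  · intro h
    apply hP'ne
    have hle : P' ≤ H := Subgroup.le_normalizer
    exact (Subgroup.subgroupOf_eq_bot.mp h).eq_bot_of_le hle
  · rw [Subgroup.orderOf_coe]; exact hz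

end Cfsg.Agent.S3634
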