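import Cfsg.Statements.S3633
import Mathlib
import Cfsg.Agent.S3634

set_option autoImplicit false
open Cfsg

namespace Cfsg.Agent.S3633

universe u

theorem exists_abelian_normal {G : Type u} [Group G] [Finite G] (K : Subgroup G) :
    K.Normal → Group.IsSolvable K → K ≠ ⊥ →
    ∃ A : Subgroup G, A.Normal ∧ A ≤ K ∧ A ≠ ⊥ ∧ ∀ a ∈ A, ∀ b ∈ A, a * b = b * a := by
  induction K using WellFoundedLT.induction with
  | ind K ih =>
    intro hKn hKs hne
    by_cases hc : ⁅K, K⁆ = ⊥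
    · refine ⟨K, hKn, le_rfl, hne, fun a ha b hb => ?_⟩
      have := Subgroup.commutator_mem_commutator ha hb
      rw [hc, Subgroup.mem_bot, commutatorElement_eq_one_iff_mul_comm] at this
      exact this
    · have hle : ⁅K, K⁆ ≤ K := Subgroup.commutator_le_self K
      have hlt : ⁅K, K⁆ < K := by
        refine lt_of_le_of_ne hle fun heq => ?_
        haveI : Nontrivial K := (Subgroup.nontrivial_iff_ne_bot K).mpr hne
        have h1 := Group.IsSolvable.commutator_lt_top_of_nontrivial K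
        apply h1.ne
        apply Subgroup.map_injective K.subtype_injective
        rw [Subgroup.map_subtype_commutator, heq, ← MonoidHom.range_eq_map, Subgroup.range_subtype]
      have hs' : Group.IsSolvable ↥(⁅K, K⁆ : Subgroup G) :=
        Group.isSolvable_of_isSolvable_injective (f := Subgroup.inclusion hle)
          (Subgroup.inclusion_injective hle)
      have hn' : (⁅K, K⁆ : Subgroup G).Normal := inferInstance
      obtain ⟨A, hA, hAle, hAne, hAc⟩ := ih _ hlt hn' hs' hc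
      exact ⟨A, hA, hAle.trans hle, hAne, hAc⟩

theorem exists_normal_pgroup {G : Type u} [Group G] [Finite G] (K : Subgroup G) (hKn : K.Normal)
    (hKs : Group.IsSolvable K) (hne : K ≠ ⊥) :
    ∃ ℓ : ℕ, ℓ.Prime ∧ ∃ L : Subgroup G, L.Normal ∧ L ≤ K ∧ IsPGroup ℓ L ∧ L ≠ ⊥ := by
  obtain ⟨A, hA, hAK, hAne, hAc⟩ := exists_abelian_normal K hKn hKs hne
  have hAcard : Nat.card A ≠ 1 := by
    intro h
    exact hAne (Subgroup.eq_bot_of_card_eq A h)
  obtain ⟨ℓ, hℓ, hdvd⟩ := Nat.exists_prime_and_dvd hAcard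
  refine ⟨ℓ, hℓ, ?_⟩
  let L : Subgroup G :=
    { carrier := {x | x ∈ A ∧ ∃ k : ℕ, x ^ ℓ ^ k = 1}
      one_mem' := ⟨A.one_mem, 0, by simp⟩
      mul_mem' := by
        rintro a b ⟨ha, k, hk⟩ ⟨hb, m, hm⟩
        refine ⟨A.mul_mem ha hb, k + m, ?_⟩
        have hcomm : Commute a b := hAc a ha b hb
        rw [hcomm.mul_pow, pow_add ℓ k m, pow_mul, hk, mul_comm (ℓ ^ k), pow_mul, hm]
        simp
      inv_mem' := by
        rintro a ⟨ha, k, hk⟩
        exact ⟨A.inv_mem ha, k, by rw [inv_pow, hk, inv_one]⟩ }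
  refine ⟨L, ⟨?_⟩, ?_, ?_, ?_⟩
  · rintro a ⟨ha, k, hk⟩ g
    refine ⟨hA.conj_mem a ha g, k, ?_⟩
    rw [conj_pow, hk]
    simp
  · rintro a ⟨ha, -⟩
    exact hAK ha
  · rintro ⟨a, ha, k, hk⟩
    exact ⟨k, Subtype.ext hk⟩
  · haveI : Fact ℓ.Prime := ⟨hℓ⟩
    obtain ⟨y, hy⟩ := exists_prime_orderOf_dvd_card' (G := A) ℓ hdvd
    intro hL
    have hmem : (y : G) ∈ L := ⟨y.2, 1, by
      have := pow_orderOf_eq_one y
      rw [hy] at this
      have h2 := congrArg (fun x : A => (x : G)) this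
      simpa using h2⟩
    rw [hL, Subgroup.mem_bot] at hmem
    have hy1 : y = 1 := Subtype.ext hmem
    rw [hy1, orderOf_one] at hy
    exact hℓ.one_lt.ne hy

theorem card_eq_mul_map {G : Type u} [Group G] [Finite G] (L K : Subgroup G) [L.Normal]
    (h : L ≤ K) : Nat.card K = Nat.card L * Nat.card (K.map (QuotientGroup.mk' L)) := by
  have h1 := Subgroup.relIndex_ker (K := K) (QuotientGroup.mk' L)
  rw [QuotientGroup.ker_mk'] at h1
  rw [← h1]
  have h2 := Subgroup.relIndex_mul_index h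
  have h3 := L.card_mul_index
  have h4 := K.card_mul_index
  have hpos : 0 < K.index := Nat.pos_of_ne_zero Subgroup.index_ne_zero_of_finite
  apply Nat.eq_of_mul_eq_mul_right hpos
  rw [h4, mul_assoc, h2, h3]

theorem exists_lift {G : Type u} [Group G] [Finite G] (L : Subgroup G) [L.Normal] (n : ℕ)
    (h : ∃ x : G ⧸ L, orderOf x = n) : ∃ x : G, orderOf x = n := by
  obtain ⟨x, hx⟩ := h
  obtain ⟨g, rfl⟩ := QuotientGroup.mk'_surjective L x
  have hdvd : n ∣ orderOf g := by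
    rw [← hx]
    exact orderOf_map_dvd _ g
  have hne : orderOf g ≠ 0 := (orderOf_pos g).ne'
  exact ⟨g ^ (orderOf g / n), orderOf_pow_orderOf_div hne hdvd⟩

section Lfacts

variable {G : Type u} [Group G] [Finite G] {ℓ : ℕ}

theorem dvd_card_of_pgroup (hℓ : ℓ.Prime) {L : Subgroup G} (hp : IsPGroup ℓ L) (hne : L ≠ ⊥) :
    ℓ ∣ Nat.card L := by
  have : Fact ℓ.Prime := ⟨hℓ⟩
  obtain ⟨n, hn⟩ := IsPGroup.iff_card.mp hp
  have hn0 : n ≠ 0 := by
    rintro rfl
    apply hne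
    exact Subgroup.eq_bot_of_card_eq L (by simpa using hn)
  rw [hn]
  exact dvd_pow_self _ hn0

theorem not_dvd_card_of_pgroup (hℓ : ℓ.Prime) {L : Subgroup G} (hp : IsPGroup ℓ L) {c : ℕ}
    (hc : c.Prime) (hcl : c ≠ ℓ) : ¬ c ∣ Nat.card L := by
  have : Fact ℓ.Prime := ⟨hℓ⟩
  obtain ⟨n, hn⟩ := IsPGroup.iff_card.mp hp
  rw [hn]
  intro h
  exact hcl ((Nat.prime_dvd_prime_iff_eq hc hℓ).mp (hc.dvd_of_dvd_pow h))

theorem dvd_index_of_pgroup (hℓ : ℓ.Prime) {L : Subgroup G} (hp : IsPGroup ℓ L) {c : ℕ}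
    (hc : c.Prime) (hcl : c ≠ ℓ) (hd : c ∣ Nat.card G) : c ∣ L.index := by
  rw [← L.card_mul_index] at hd
  exact (hc.dvd_mul.mp hd).resolve_left (not_dvd_card_of_pgroup hℓ hp hc hcl)

theorem dvd_map_of_pgroup (hℓ : ℓ.Prime) {L K : Subgroup G} [L.Normal] (hp : IsPGroup ℓ L)
    (hLK : L ≤ K) {c : ℕ} (hc : c.Prime) (hcl : c ≠ ℓ) (hd : c ∣ Nat.card K) :
    c ∣ Nat.card (K.map (QuotientGroup.mk' L)) := by
  rw [card_eq_mul_map L K hLK] at hd
  exact (hc.dvd_mul.mp hd).resolve_left (not_dvd_card_of_pgroup hℓ hp hc hcl)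

theorem map_lt (hℓ : ℓ.Prime) {L K : Subgroup G} [L.Normal] (hp : IsPGroup ℓ L) (hne : L ≠ ⊥)
    (hLK : L ≤ K) : Nat.card (K.map (QuotientGroup.mk' L)) < Nat.card K := by
  have h1 := card_eq_mul_map L K hLK
  have h2 : 2 ≤ Nat.card L := by
    have := dvd_card_of_pgroup hℓ hp hne
    exact hℓ.two_le.trans (Nat.le_of_dvd Nat.card_pos this)
  have h3 : 0 < Nat.card (K.map (QuotientGroup.mk' L)) := Nat.card_pos
  rw [h1]
  nlinarith

theorem map_solvable (L K : Subgroup G) [L.Normal] (hs : Group.IsSolvable K) :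
    Group.IsSolvable (K.map (QuotientGroup.mk' L)) :=
  Group.isSolvable_of_surjective (f := (QuotientGroup.mk' L).subgroupMap K)
    ((QuotientGroup.mk' L).subgroupMap_surjective K)

end Lfacts

theorem chain_exists : ∀ (n : ℕ) (G : Type u) [Group G] [Finite G] (K : Subgroup G) [K.Normal],
    Nat.card K = n → Group.IsSolvable K → ∀ a b : ℕ, a.Prime → b.Prime → a ≠ b →
    a ∣ Nat.card K → b ∣ Nat.card G →
    ∃ M : Subgroup G, M.Normal ∧ M ≤ K ∧
      ((a ∣ Nat.card M ∧ b ∣ M.index) ∨ (b ∣ Nat.card M ∧ a ∣ M.index)) := by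
  intro n
  induction n using Nat.strong_induction_on with
  | _ n ih =>
    intro G _ _ K hKn hn hs a b ha hb hab haK hbG
    have hKne : K ≠ ⊥ := by
      rintro rfl
      simp only [Subgroup.card_bot, Nat.dvd_one] at haK
      exact ha.one_lt.ne' haK
    obtain ⟨ℓ, hℓ, L, hLn, hLK, hLp, hLne⟩ := exists_normal_pgroup K hKn hs hKne
    have haG : a ∣ Nat.card G := haK.trans (Subgroup.card_subgroup_dvd_card K)
    by_cases h1 : a = ℓ
    · subst h1
      exact ⟨L, hLn, hLK, Or.inl ⟨dvd_card_of_pgroup hℓ hLp hLne,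
        dvd_index_of_pgroup hℓ hLp hb (Ne.symm hab) hbG⟩⟩
    by_cases h2 : b = ℓ
    · subst h2
      exact ⟨L, hLn, hLK, Or.inr ⟨dvd_card_of_pgroup hℓ hLp hLne,
        dvd_index_of_pgroup hℓ hLp ha hab haG⟩⟩
    let f := QuotientGroup.mk' L
    have hfs : Function.Surjective f := QuotientGroup.mk'_surjective L
    haveI hKbar : (K.map f).Normal := Subgroup.Normal.map hKn f hfs
    obtain ⟨M', hM'n, hM'le, hM'⟩ := ih (Nat.card (K.map f)) (by
        rw [← hn]; exact map_lt hℓ hLp hLne hLK) (G ⧸ L) (K.map f) rfl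
        (map_solvable L K hs) a b ha hb hab (dvd_map_of_pgroup hℓ hLp hLK ha h1 haK)
        (dvd_index_of_pgroup hℓ hLp hb h2 hbG)
    have hLM : L ≤ M'.comap f := fun x hx => by
      show f x ∈ M'
      have h0 : f x = 1 := (QuotientGroup.eq_one_iff x).mpr hx
      rw [h0]
      exact M'.one_mem
    have hcardM : Nat.card (M'.comap f) = Nat.card L * Nat.card M' := by
      have := card_eq_mul_map L (M'.comap f) hLM
      rwa [Subgroup.map_comap_eq_self_of_surjective hfs] at this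
    have hidx : (M'.comap f).index = M'.index := Subgroup.index_comap_of_surjective _ hfs
    refine ⟨M'.comap f, Subgroup.Normal.comap hM'n f, ?_, ?_⟩
    · have h3 : (K.map f).comap f = K := by
        apply Subgroup.comap_map_eq_self
        intro x hx
        exact hLK ((QuotientGroup.eq_one_iff x).mp hx)
      calc M'.comap f ≤ (K.map f).comap f := Subgroup.comap_mono hM'le
        _ = K := h3
    · rw [hcardM, hidx]
      rcases hM' with ⟨h3, h4⟩ | ⟨h3, h4⟩
      · exact Or.inl ⟨Dvd.dvd.mul_left h3 _, h4⟩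
      · exact Or.inr ⟨Dvd.dvd.mul_left h3 _, h4⟩

theorem chain_triple {G : Type u} [Group G] [Finite G] (L : Subgroup G) [L.Normal]
    {p a b : ℕ} (hp : p.Prime) (ha : a.Prime) (hb : b.Prime) (hpa : p ≠ a) (hpb : p ≠ b)
    (hab : a ≠ b) (hLp : IsPGroup p L) (hLne : L ≠ ⊥)
    (K' : Subgroup (G ⧸ L)) [K'.Normal] (hs : Group.IsSolvable K')
    (haK : a ∣ Nat.card K') (hbK : b ∣ Nat.card (G ⧸ L)) :
    (∃ x : G, orderOf x = p * a) ∨ (∃ x : G, orderOf x = p * b) ∨ (∃ x : G, orderOf x = a * b) := by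
  obtain ⟨M', hM'n, -, hM'⟩ := chain_exists _ (G ⧸ L) K' rfl hs a b ha hb hab haK hbK
  let f := QuotientGroup.mk' L
  have hfs : Function.Surjective f := QuotientGroup.mk'_surjective L
  have hLM : L ≤ M'.comap f := fun x hx => by
    show f x ∈ M'
    have h0 : f x = 1 := (QuotientGroup.eq_one_iff x).mpr hx
    rw [h0]
    exact M'.one_mem
  have hcardM : Nat.card (M'.comap f) = Nat.card L * Nat.card M' := by
    have := card_eq_mul_map L (M'.comap f) hLM
    rwa [Subgroup.map_comap_eq_self_of_surjective hfs] at this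
  have hidx : (M'.comap f).index = M'.index := Subgroup.index_comap_of_surjective _ hfs
  haveI : (M'.comap f).Normal := Subgroup.Normal.comap hM'n f
  have hd1 : Nat.card (M'.comap f) / Nat.card L = Nat.card M' := by
    rw [hcardM]
    exact Nat.mul_div_cancel_left _ Nat.card_pos
  have hd2 : Nat.card G / Nat.card (M'.comap f) = M'.index := by
    rw [← hidx]
    exact Nat.div_eq_of_eq_mul_right Nat.card_pos (Subgroup.card_mul_index _).symm
  have hpL := dvd_card_of_pgroup hp hLp hLne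
  rcases hM' with ⟨h3, h4⟩ | ⟨h3, h4⟩
  · exact Cfsg.Agent.S3634.result L (M'.comap f) hLM p a b hp ha hb hpa hpb hab hpL
      (by rw [hd1]; exact h3) (by rw [hd2]; exact h4)
  · rcases Cfsg.Agent.S3634.result L (M'.comap f) hLM p b a hp hb ha hpb hpa (Ne.symm hab) hpL
      (by rw [hd1]; exact h3) (by rw [hd2]; exact h4) with h | h | h
    · exact Or.inr (Or.inl h)
    · exact Or.inl h
    · obtain ⟨x, hx⟩ := h
      exact Or.inr (Or.inr ⟨x, by rw [hx, mul_comm]⟩)

theorem triple : ∀ (n : ℕ) (G : Type u) [Group G] [Finite G] (K : Subgroup G) [K.Normal],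
    Nat.card K = n → Group.IsSolvable K → ∀ p₁ p₂ p₃ : ℕ, p₁.Prime → p₂.Prime → p₃.Prime →
    p₁ ≠ p₂ → p₁ ≠ p₃ → p₂ ≠ p₃ → p₁ ∣ Nat.card K → p₂ ∣ Nat.card K → p₃ ∣ Nat.card G →
    (∃ x : G, orderOf x = p₁ * p₂) ∨ (∃ x : G, orderOf x = p₁ * p₃) ∨
      (∃ x : G, orderOf x = p₂ * p₃) := by
  intro n
  induction n using Nat.strong_induction_on with
  | _ n ih =>
    intro G _ _ K hKn hn hs p₁ p₂ p₃ h1 h2 h3 h12 h13 h23 d1 d2 d3
    have hKne : K ≠ ⊥ := by
      rintro rfl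
      simp only [Subgroup.card_bot, Nat.dvd_one] at d1
      exact h1.one_lt.ne' d1
    obtain ⟨ℓ, hℓ, L, hLn, hLK, hLp, hLne⟩ := exists_normal_pgroup K hKn hs hKne
    have d1G : p₁ ∣ Nat.card G := d1.trans (Subgroup.card_subgroup_dvd_card K)
    have d2G : p₂ ∣ Nat.card G := d2.trans (Subgroup.card_subgroup_dvd_card K)
    let f := QuotientGroup.mk' L
    have hfs : Function.Surjective f := QuotientGroup.mk'_surjective L
    haveI hKbar : (K.map f).Normal := Subgroup.Normal.map hKn f hfs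
    have hsbar : Group.IsSolvable (K.map f) := map_solvable L K hs
    by_cases e1 : p₁ = ℓ
    · subst e1
      exact chain_triple L h1 h2 h3 h12 h13 h23 hLp hLne (K.map f) hsbar
        (dvd_map_of_pgroup h1 hLp hLK h2 (Ne.symm h12) d2)
        (dvd_index_of_pgroup h1 hLp h3 (Ne.symm h13) d3)
    by_cases e2 : p₂ = ℓ
    · subst e2
      rcases chain_triple L h2 h1 h3 (Ne.symm h12) h23 h13 hLp hLne (K.map f) hsbar
        (dvd_map_of_pgroup h2 hLp hLK h1 h12 d1)
        (dvd_index_of_pgroup h2 hLp h3 (Ne.symm h23) d3) with h | h | h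
      · obtain ⟨x, hx⟩ := h
        exact Or.inl ⟨x, by rw [hx, mul_comm]⟩
      · exact Or.inr (Or.inr h)
      · exact Or.inr (Or.inl h)
    by_cases e3 : p₃ = ℓ
    · subst e3
      rcases chain_triple L h3 h1 h2 (Ne.symm h13) (Ne.symm h23) h12 hLp hLne (K.map f) hsbar
        (dvd_map_of_pgroup h3 hLp hLK h1 h13 d1)
        (dvd_index_of_pgroup h3 hLp h2 h23 d2G) with h | h | h
      · obtain ⟨x, hx⟩ := h
        exact Or.inr (Or.inl ⟨x, by rw [hx, mul_comm]⟩)
      · obtain ⟨x, hx⟩ := h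
        exact Or.inr (Or.inr ⟨x, by rw [hx, mul_comm]⟩)
      · exact Or.inl h
    rcases ih (Nat.card (K.map f)) (by rw [← hn]; exact map_lt hℓ hLp hLne hLK) (G ⧸ L) (K.map f)
      rfl hsbar p₁ p₂ p₃ h1 h2 h3 h12 h13 h23
      (dvd_map_of_pgroup hℓ hLp hLK h1 e1 d1) (dvd_map_of_pgroup hℓ hLp hLK h2 e2 d2)
      (dvd_index_of_pgroup hℓ hLp h3 e3 d3) with h | h | h
    · exact Or.inl (exists_lift L _ h)
    · exact Or.inr (Or.inl (exists_lift L _ h))
    · exact Or.inr (Or.inr (exists_lift L _ h))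

theorem part_one {G : Type*} [Group G] [Finite G] (ρ : Finset ℕ) (hρ : 3 ≤ ρ.card)
    (hc : ((∀ r ∈ ρ, r.Prime ∧ r ∣ Nat.card G) ∧
      (∀ r ∈ ρ, ∀ s ∈ ρ, r ≠ s → ¬ ∃ x : G, orderOf x = r * s)))
    (K : Subgroup G) [K.Normal] (hK : Group.IsSolvable ↥K) :
    ∀ r ∈ ρ, ∀ s ∈ ρ, r ∣ Nat.card ↥K → s ∣ Nat.card ↥K → r = s := by
  intro r hr s hs hrK hsK
  by_contra hne
  -- a third prime
  have hcard : 1 ≤ ((ρ.erase r).erase s).card := by
    have h1 := Finset.pred_card_le_card_erase (s := ρ) (a := r)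
    have h2 := Finset.pred_card_le_card_erase (s := ρ.erase r) (a := s)
    omega
  obtain ⟨t, ht⟩ := Finset.card_pos.mp hcard
  have hts : t ≠ s := (Finset.mem_erase.mp ht).1
  have htr : t ≠ r := (Finset.mem_erase.mp (Finset.mem_erase.mp ht).2).1
  have htρ : t ∈ ρ := (Finset.mem_erase.mp (Finset.mem_erase.mp ht).2).2
  rcases triple _ G K rfl hK r s t (hc.1 r hr).1 (hc.1 s hs).1 (hc.1 t htρ).1 hne (Ne.symm htr)
    (Ne.symm hts) hrK hsK (hc.1 t htρ).2 with h | h | h
  · exact hc.2 r hr s hs hne h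
  · exact hc.2 r hr t htρ (Ne.symm htr) h
  · exact hc.2 s hs t htρ (Ne.symm hts) h

/-- Let G be a finite group and ρ a set of at least three prime divisors of the order of G that are pairwise non-adjacent in the prime graph (no element of order rs for distinct r, s ∈ ρ). Then at most one prime of ρ divides the order of any given solvable normal subgroup of G; in particular G is not solvable. -/
theorem result {G : Type*} [Group G] [Finite G] (ρ : Finset ℕ) (hρ : 3 ≤ ρ.card) (hc : ((∀ r ∈ ρ, r.Prime ∧ r ∣ Nat.card G) ∧ (∀ r ∈ ρ, ∀ s ∈ ρ, r ≠ s → ¬ ∃ x : G, orderOf x = r * s)))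
    (K : Subgroup G) [K.Normal] (hK : Group.IsSolvable ↥K) :
    (∀ r ∈ ρ, ∀ s ∈ ρ, r ∣ Nat.card ↥K → s ∣ Nat.card ↥K → r = s) ∧ ¬ Group.IsSolvable G := by
  refine ⟨part_one ρ hρ hc K hK, fun hG => ?_⟩
  have htop : Group.IsSolvable (⊤ : Subgroup G) := inferInstance
  have key := part_one ρ hρ hc (⊤ : Subgroup G) htop
  obtain ⟨a, ha, b, hb, hab⟩ := Finset.one_lt_card.mp (by omega : 1 < ρ.card)
  apply hab
  apply key a ha b hb
  · rw [Subgroup.card_top]; exact (hc.1 a ha).2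
  · rw [Subgroup.card_top]; exact (hc.1 b hb).2

end Cfsg.Agent.S3633
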