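import Cfsg.Statements.S3669
import Mathlib
import Cfsg.Agent.S0494
import Cfsg.Agent.S4845
import Cfsg.Agent.Lib.Coprime.KGV
import Cfsg.Agent.Lib.Char.CompleteCor
import Cfsg.Agent.Lib.Char.LinearChars
import Cfsg.Agent.Lib.Basic.PCore
import Cfsg.Agent.Lib.Compute.ConjCount
-- import your own Cfsg.Agent.* helpers here

set_option autoImplicit false
set_option linter.style.haveILetI false
open Cfsg

namespace Cfsg.Agent.S3669

open Equiv Equiv.Perm
open scoped commutatorElement

/-- If `|M| = 5 m` with `5 ∤ m`, Sylow `5`-subgroups have order `5`. -/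
theorem card_sylow_five {M : Type*} [Group M] [Finite M] (m : ℕ) (hm : ¬ 5 ∣ m)
    (hM : Nat.card M = 5 * m) (P : Sylow 5 M) : Nat.card P = 5 := by
  haveI : Fact (Nat.Prime 5) := ⟨by norm_num⟩
  obtain ⟨k, hk⟩ := P.2.exists_card_eq
  have hidx := Subgroup.card_mul_index (P : Subgroup M)
  have hnd := P.not_dvd_index
  rw [hk, hM] at hidx
  rcases k with _ | k
  · exfalso
    apply hnd
    simp at hidx
    rw [hidx]
    exact dvd_mul_right _ _
  rcases k with _ | k
  · simpa using hk
  · exfalso
    apply hm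
    have : 5 ^ (k + 2) * (P : Subgroup M).index = 5 * (5 ^ (k + 1) * (P : Subgroup M).index) := by
      ring
    rw [this] at hidx
    have h2 := Nat.eq_of_mul_eq_mul_left (by norm_num) hidx
    rw [← h2, pow_succ]
    exact ⟨5 ^ k * (P : Subgroup M).index, by ring⟩

/-- If `|M| = 5 m` with `m ≤ 4`, the Sylow `5`-subgroup is unique. -/
theorem subsingleton_small {M : Type*} [Group M] [Finite M] (m : ℕ) (hm0 : 0 < m) (hm : m ≤ 4)
    (hM : Nat.card M = 5 * m) : Subsingleton (Sylow 5 M) := by
  haveI : Fact (Nat.Prime 5) := ⟨by norm_num⟩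
  obtain ⟨P⟩ : Nonempty (Sylow 5 M) := inferInstance
  have hP := card_sylow_five m (by intro h; have := Nat.le_of_dvd hm0 h; omega) hM P
  have hidx := Subgroup.card_mul_index (P : Subgroup M)
  rw [hP, hM] at hidx
  have hi : (P : Subgroup M).index = m := Nat.eq_of_mul_eq_mul_left (by norm_num) hidx
  have hd := P.card_dvd_index
  rw [hi] at hd
  have hmod := card_sylow_modEq_one 5 M
  have hle := Nat.le_of_dvd hm0 hd
  have hone : Nat.card (Sylow 5 M) = 1 := by
    have h1 : Nat.card (Sylow 5 M) % 5 = 1 := hmod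
    omega
  exact (Nat.card_eq_one_iff_unique.mp hone).1

/-- A central-in-normalizer Sylow: groups of order two. -/
theorem normalizer_le_of_card_two {M : Type*} [Group M] (T : Subgroup M) (hT : Nat.card T = 2) :
    Subgroup.normalizer (T : Set M) ≤ Subgroup.centralizer (T : Set M) := by
  classical
  intro g hg
  rw [Subgroup.mem_centralizer_iff]
  intro t ht
  by_cases ht1 : t = 1
  · simp [ht1]
  have h1 : g * t * g⁻¹ ∈ T := (Subgroup.mem_normalizer_iff.mp hg t).mp ht
  have h2 : g * t * g⁻¹ ≠ 1 := by
    intro h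
    apply ht1
    have : g * t = g := by
      have := congrArg (· * g) h
      simpa using this
    simpa using this
  -- `T` has exactly two elements
  have h3 : ∀ x y : T, x ≠ 1 → y ≠ 1 → x = y := by
    intro x y hx hy
    obtain ⟨a, b, hab, huniv⟩ := Nat.card_eq_two_iff.mp hT
    have h1 : (1 : T) = a ∨ (1 : T) = b := by
      have : (1 : T) ∈ ({a, b} : Set T) := by rw [huniv]; trivial
      simpa using this
    have hx' : x = a ∨ x = b := by
      have : x ∈ ({a, b} : Set T) := by rw [huniv]; trivial
      simpa using this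
    have hy' : y = a ∨ y = b := by
      have : y ∈ ({a, b} : Set T) := by rw [huniv]; trivial
      simpa using this
    rcases h1 with h1 | h1 <;> rcases hx' with rfl | rfl <;> rcases hy' with rfl | rfl <;>
      first | rfl | exact absurd h1.symm hx | exact absurd h1.symm hy
  have h4 := h3 ⟨_, h1⟩ ⟨t, ht⟩ (by simpa [Subtype.ext_iff] using h2) (by simpa [Subtype.ext_iff] using ht1)
  have h5 : g * t * g⁻¹ = t := congrArg Subtype.val h4
  have h6 : g * t = t * g := by
    rw [← h5]
    simp [h5]
    have := congrArg (· * g) h5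
    simpa using this
  exact h6.symm

/-- Groups of order `30`: unique Sylow `5`-subgroup. -/
theorem subsingleton_thirty {M : Type*} [Group M] [Finite M] (hM : Nat.card M = 30) :
    Subsingleton (Sylow 5 M) := by
  haveI : Fact (Nat.Prime 5) := ⟨by norm_num⟩
  haveI : Fact (Nat.Prime 2) := ⟨by norm_num⟩
  obtain ⟨T⟩ : Nonempty (Sylow 2 M) := inferInstance
  have hT : Nat.card T = 2 := by
    obtain ⟨k, hk⟩ := T.2.exists_card_eq
    have hidx := Subgroup.card_mul_index (T : Subgroup M)
    have hnd := T.not_dvd_index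
    rw [hk, hM] at hidx
    rcases k with _ | k
    · exfalso
      apply hnd
      simp at hidx
      rw [hidx]
      norm_num
    rcases k with _ | k
    · simpa using hk
    · exfalso
      have : 2 ^ (k + 2) ∣ 30 := ⟨_, hidx.symm⟩
      have h4 : 4 ∣ 2 ^ (k + 2) := ⟨2 ^ k, by ring⟩
      have := h4.trans this
      norm_num at this
  have hc := normalizer_le_of_card_two (T : Subgroup M) hT
  have hcomp := MonoidHom.ker_transferSylow_isComplement' T hc
  set R := (MonoidHom.transferSylow T hc).ker with hR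
  have hRn : R.Normal := MonoidHom.normal_ker _
  have hcardR : Nat.card R = 15 := by
    have h1 := hcomp.card_mul_card
    rw [hT, hM] at h1
    omega
  have hs := subsingleton_small (M := R) 3 (by norm_num) (by norm_num) (by rw [hcardR])
  obtain ⟨Q⟩ : Nonempty (Sylow 5 R) := inferInstance
  have hQc : (Q : Subgroup R).Characteristic := Sylow.characteristic_of_subsingleton Q
  have hQn : ((Q : Subgroup R).map R.subtype).Normal :=
    Cfsg.Agent.Lib.Basic.PCore.map_subtype_normal_of_characteristic _
  have hcardQ : Nat.card Q = 5 := card_sylow_five (M := R) 3 (by norm_num) (by rw [hcardR]) Q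
  have hcardQ' : Nat.card ((Q : Subgroup R).map R.subtype) = 5 := by
    rw [Subgroup.card_map_of_injective R.subtype_injective]
    exact hcardQ
  have hfac : (Nat.card M).factorization 5 = 1 := by
    rw [hM]
    have : (30 : ℕ) = 5 * 6 := by norm_num
    rw [this, Nat.factorization_mul (by norm_num) (by norm_num)]
    simp [Nat.Prime.factorization_self (by norm_num : Nat.Prime 5)]
    exact Nat.factorization_eq_zero_of_not_dvd (by norm_num)
  let S : Sylow 5 M := Sylow.ofCard ((Q : Subgroup R).map R.subtype) (by rw [hcardQ', hfac]; norm_num)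
  haveI := Sylow.unique_of_normal S (by simpa [S] using hQn)
  infer_instance

/-- Groups of order `12` have a characteristic subgroup of order `3` or `4`. -/
theorem exists_char_twelve {M : Type*} [Group M] [Finite M] (hM : Nat.card M = 12) :
    ∃ C : Subgroup M, C.Characteristic ∧ (Nat.card C = 3 ∨ Nat.card C = 4) := by
  haveI : Fact (Nat.Prime 3) := ⟨by norm_num⟩
  haveI : Fact (Nat.Prime 2) := ⟨by norm_num⟩
  obtain ⟨Q⟩ : Nonempty (Sylow 3 M) := inferInstance
  have hQ : Nat.card Q = 3 := by
    obtain ⟨k, hk⟩ := Q.2.exists_card_eq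
    have hidx := Subgroup.card_mul_index (Q : Subgroup M)
    have hnd := Q.not_dvd_index
    rw [hk, hM] at hidx
    rcases k with _ | k
    · exfalso
      apply hnd
      simp at hidx
      rw [hidx]
      norm_num
    rcases k with _ | k
    · simpa using hk
    · exfalso
      have : 3 ^ (k + 2) ∣ 12 := ⟨_, hidx.symm⟩
      have h4 : 9 ∣ 3 ^ (k + 2) := ⟨3 ^ k, by ring⟩
      have := h4.trans this
      norm_num at this
  by_cases hs : Subsingleton (Sylow 3 M)
  · exact ⟨Q, Sylow.characteristic_of_subsingleton Q, Or.inl hQ⟩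
  -- four Sylow subgroups
  have hidx : (Q : Subgroup M).index = 4 := by
    have := Subgroup.card_mul_index (Q : Subgroup M)
    rw [hQ, hM] at this
    omega
  have hd := Q.card_dvd_index
  rw [hidx] at hd
  have hmod : Nat.card (Sylow 3 M) % 3 = 1 := card_sylow_modEq_one 3 M
  have hne : Nat.card (Sylow 3 M) ≠ 1 := fun h => hs (Nat.card_eq_one_iff_unique.mp h).1
  have hn : Nat.card (Sylow 3 M) = 4 := by
    have hle := Nat.le_of_dvd (by norm_num) hd
    have : Nat.card (Sylow 3 M) ≠ 0 := Nat.card_pos.ne'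
    interval_cases h : Nat.card (Sylow 3 M) <;> omega
  have hnorm : Subgroup.normalizer ((Q : Subgroup M) : Set M) = (Q : Subgroup M) := by
    have h1 : Nat.card (Sylow 3 M) = (Subgroup.normalizer ((Q : Subgroup M) : Set M)).index :=
      Q.card_eq_index_normalizer
    rw [hn] at h1
    have h2 := Subgroup.card_mul_index (Subgroup.normalizer ((Q : Subgroup M) : Set M))
    rw [← h1, hM] at h2
    have h3 : Nat.card (Subgroup.normalizer ((Q : Subgroup M) : Set M)) = 3 := by omega
    symm
    apply Subgroup.eq_of_le_of_card_ge Subgroup.le_normalizer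
    rw [h3, hQ]
  have hc : Subgroup.normalizer ((Q : Subgroup M) : Set M) ≤ Subgroup.centralizer ((Q : Subgroup M) : Set M) := by
    rw [hnorm]
    haveI : IsCyclic (Q : Subgroup M) := isCyclic_of_prime_card hQ
    letI : CommGroup (Q : Subgroup M) := IsCyclic.commGroup
    intro x hx
    rw [Subgroup.mem_centralizer_iff]
    intro y hy
    have := mul_comm (⟨x, hx⟩ : (Q : Subgroup M)) ⟨y, hy⟩
    exact (congrArg Subtype.val this).symm
  have hcomp := MonoidHom.ker_transferSylow_isComplement' Q hc
  set R := (MonoidHom.transferSylow Q hc).ker with hR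
  have hRn : R.Normal := MonoidHom.normal_ker _
  have hcardR : Nat.card R = 4 := by
    have h1 := hcomp.card_mul_card
    rw [hQ, hM] at h1
    omega
  have hfac : (Nat.card M).factorization 2 = 2 := by
    rw [hM]
    have : (12 : ℕ) = 2 ^ 2 * 3 := by norm_num
    rw [this, Nat.factorization_mul (by norm_num) (by norm_num), Nat.factorization_pow]
    simp [Nat.Prime.factorization_self Nat.prime_two]
    exact Nat.factorization_eq_zero_of_not_dvd (by norm_num)
  let S : Sylow 2 M := Sylow.ofCard R (by rw [hcardR, hfac]; norm_num)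
  haveI := Sylow.unique_of_normal S (by simpa [S] using hRn)
  exact ⟨S, Sylow.characteristic_of_subsingleton S, Or.inr (by simpa [S] using hcardR)⟩

/-- The possible orders with unique Sylow `5`-subgroup. -/
theorem subsingleton_five {M : Type*} [Group M] [Finite M]
    (hM : Nat.card M = 5 ∨ Nat.card M = 10 ∨ Nat.card M = 15 ∨ Nat.card M = 20 ∨ Nat.card M = 30) :
    Subsingleton (Sylow 5 M) := by
  rcases hM with h | h | h | h | h
  · exact subsingleton_small 1 (by norm_num) (by norm_num) (by rw [h])
  · exact subsingleton_small 2 (by norm_num) (by norm_num) (by rw [h])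
  · exact subsingleton_small 3 (by norm_num) (by norm_num) (by rw [h])
  · exact subsingleton_small 4 (by norm_num) (by norm_num) (by rw [h])
  · exact subsingleton_thirty h

theorem card_sylow_of_five {M : Type*} [Group M] [Finite M]
    (hM : Nat.card M = 5 ∨ Nat.card M = 10 ∨ Nat.card M = 15 ∨ Nat.card M = 20 ∨ Nat.card M = 30)
    (P : Sylow 5 M) : Nat.card P = 5 := by
  rcases hM with h | h | h | h | h
  · exact card_sylow_five 1 (by norm_num) (by rw [h]) P
  · exact card_sylow_five 2 (by norm_num) (by rw [h]) P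
  · exact card_sylow_five 3 (by norm_num) (by rw [h]) P
  · exact card_sylow_five 4 (by norm_num) (by rw [h]) P
  · exact card_sylow_five 6 (by norm_num) (by rw [h]) P

/-- Step one. -/
theorem step_one {G : Type*} [Group G] [Finite G] (N : Subgroup G) [hN : N.Normal]
    (hc : Nat.card N = 5 ∨ Nat.card N = 10 ∨ Nat.card N = 15 ∨ Nat.card N = 20 ∨ Nat.card N = 30) :
    ∃ S : Subgroup G, S.Normal ∧ Nat.card S = 5 := by
  haveI := subsingleton_five hc
  haveI : Fact (Nat.Prime 5) := ⟨by norm_num⟩
  obtain ⟨Q⟩ : Nonempty (Sylow 5 N) := inferInstance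
  haveI hQc : (Q : Subgroup N).Characteristic := Sylow.characteristic_of_subsingleton Q
  refine ⟨(Q : Subgroup N).map N.subtype,
    Cfsg.Agent.Lib.Basic.PCore.map_subtype_normal_of_characteristic _, ?_⟩
  rw [Subgroup.card_map_of_injective N.subtype_injective]
  exact card_sylow_of_five hc Q

/-- Step two. -/
theorem step_two {G : Type*} [Group G] [Finite G] (hG : Nat.card G = 60) (N : Subgroup G)
    [hN : N.Normal]
    (hc : Nat.card N = 2 ∨ Nat.card N = 3 ∨ Nat.card N = 4 ∨ Nat.card N = 6) :
    ∃ S : Subgroup G, S.Normal ∧ Nat.card S = 5 := by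
  haveI : Fact (Nat.Prime 5) := ⟨by norm_num⟩
  have hq : Nat.card (G ⧸ N) * Nat.card N = 60 := by
    rw [← hG]
    exact (Subgroup.card_eq_card_quotient_mul_card_subgroup N).symm
  have hq' : Nat.card (G ⧸ N) = 5 ∨ Nat.card (G ⧸ N) = 10 ∨ Nat.card (G ⧸ N) = 15 ∨
      Nat.card (G ⧸ N) = 20 ∨ Nat.card (G ⧸ N) = 30 := by
    rcases hc with h | h | h | h <;> rw [h] at hq <;> omega
  haveI := subsingleton_five hq'
  obtain ⟨Q⟩ : Nonempty (Sylow 5 (G ⧸ N)) := inferInstance
  haveI hQn : (Q : Subgroup (G ⧸ N)).Normal := Sylow.normal_of_subsingleton Q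
  have hQc := card_sylow_of_five hq' Q
  let M : Subgroup G := (Q : Subgroup (G ⧸ N)).comap (QuotientGroup.mk' N)
  haveI hMn : M.Normal := Subgroup.Normal.comap hQn _
  have hidx : M.index = (Q : Subgroup (G ⧸ N)).index :=
    Subgroup.index_comap_of_surjective _ (QuotientGroup.mk'_surjective N)
  have h1 := Subgroup.card_mul_index M
  have h2 := Subgroup.card_mul_index (Q : Subgroup (G ⧸ N))
  rw [hidx, hG] at h1
  rw [hQc] at h2
  apply step_one M
  rcases hc with h | h | h | h <;> rw [h] at hq
  · have h3 : (Q : Subgroup (G ⧸ N)).index = 6 := by omega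
    rw [h3] at h1
    have : Nat.card M = 10 := by omega
    simp [this]
  · have h3 : (Q : Subgroup (G ⧸ N)).index = 4 := by omega
    rw [h3] at h1
    have : Nat.card M = 15 := by omega
    simp [this]
  · have h3 : (Q : Subgroup (G ⧸ N)).index = 3 := by omega
    rw [h3] at h1
    have : Nat.card M = 20 := by omega
    simp [this]
  · have h3 : (Q : Subgroup (G ⧸ N)).index = 2 := by omega
    rw [h3] at h1
    have : Nat.card M = 30 := by omega
    simp [this]

/-- A proper nontrivial normal subgroup of a group of order `60` yields a normal subgroup of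
order `5`. -/
theorem exists_normal_five {G : Type*} [Group G] [Finite G] (hG : Nat.card G = 60) (N : Subgroup G)
    [hN : N.Normal] (h1 : N ≠ ⊥) (h2 : N ≠ ⊤) :
    ∃ S : Subgroup G, S.Normal ∧ Nat.card S = 5 := by
  have hd : Nat.card N ∣ 60 := hG ▸ Subgroup.card_subgroup_dvd_card N
  have hne1 : Nat.card N ≠ 1 := fun h => h1 (Subgroup.card_eq_one.mp h)
  have hne2 : Nat.card N ≠ 60 := fun h => h2 (Subgroup.card_eq_iff_eq_top N |>.mp (by rw [h, hG]))
  have hmem : Nat.card N ∈ Nat.divisors 60 := Nat.mem_divisors.mpr ⟨hd, by norm_num⟩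
  have hdiv : Nat.divisors 60 = {1, 2, 3, 4, 5, 6, 10, 12, 15, 20, 30, 60} := by decide
  rw [hdiv] at hmem
  simp only [Finset.mem_insert, Finset.mem_singleton] at hmem
  have hcases : (Nat.card N = 5 ∨ Nat.card N = 10 ∨ Nat.card N = 15 ∨ Nat.card N = 20 ∨ Nat.card N = 30) ∨
      (Nat.card N = 2 ∨ Nat.card N = 3 ∨ Nat.card N = 4 ∨ Nat.card N = 6) ∨ Nat.card N = 12 := by
    omega
  rcases hcases with h | h | h
  · exact step_one N h
  · exact step_two hG N h
  · obtain ⟨C, hC, hC'⟩ := exists_char_twelve h
    haveI := Cfsg.Agent.Lib.Basic.PCore.map_subtype_normal_of_characteristic C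
    apply step_two hG (C.map N.subtype)
    rw [Subgroup.card_map_of_injective N.subtype_injective]
    omega

/-! ### The alternating group -/

private def b2 : Perm (Fin 5) := swap 0 1 * swap 2 3
private def b3 : Perm (Fin 5) := swap 0 1 * swap 1 2
private def b5 : Perm (Fin 5) := swap 0 1 * swap 1 2 * swap 2 3 * swap 3 4
private def b5' : Perm (Fin 5) := b5 * b5

private theorem conj_reps : ∀ σ : Perm (Fin 5), sign σ = 1 → ∃ τ : Perm (Fin 5), sign τ = 1 ∧
    (τ * σ * τ⁻¹ = 1 ∨ τ * σ * τ⁻¹ = b2 ∨ τ * σ * τ⁻¹ = b3 ∨ τ * σ * τ⁻¹ = b5 ∨ τ * σ * τ⁻¹ = b5') := by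
  decide +kernel

theorem card_classes_le : Nat.card (ConjClasses (alternatingGroup (Fin 5))) ≤ 5 := by
  have mem : ∀ σ : Perm (Fin 5), sign σ = 1 → σ ∈ alternatingGroup (Fin 5) :=
    fun σ h => Equiv.Perm.mem_alternatingGroup.mpr h
  let r : Fin 5 → alternatingGroup (Fin 5) := ![⟨1, mem _ (by decide)⟩, ⟨b2, mem _ (by decide +kernel)⟩,
    ⟨b3, mem _ (by decide +kernel)⟩, ⟨b5, mem _ (by decide +kernel)⟩, ⟨b5', mem _ (by decide +kernel)⟩]
  let f : Fin 5 → ConjClasses (alternatingGroup (Fin 5)) := fun i => ConjClasses.mk (r i)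
  have hf : Function.Surjective f := by
    intro C
    obtain ⟨g, rfl⟩ := C.exists_rep
    obtain ⟨τ, hτ, h⟩ := conj_reps g.1 (Equiv.Perm.mem_alternatingGroup.mp g.2)
    have hconj : ∀ i : Fin 5, τ * g.1 * τ⁻¹ = (r i).1 → f i = ConjClasses.mk g := by
      intro i hi
      apply ConjClasses.mk_eq_mk_iff_isConj.mpr
      refine (isConj_iff.mpr ⟨⟨τ, mem τ hτ⟩, ?_⟩).symm
      exact Subtype.ext hi
    rcases h with h | h | h | h | h
    · exact ⟨0, hconj 0 h⟩
    · exact ⟨1, hconj 1 h⟩
    · exact ⟨2, hconj 2 h⟩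
    · exact ⟨3, hconj 3 h⟩
    · exact ⟨4, hconj 4 h⟩
  have := Nat.card_le_card_of_surjective f hf
  simpa using this

theorem commutator_eq_top : commutator (alternatingGroup (Fin 5)) = ⊤ := by
  haveI : IsSimpleGroup (alternatingGroup (Fin 5)) := alternatingGroup.isSimpleGroup (by simp)
  have hn : (commutator (alternatingGroup (Fin 5))).Normal := inferInstance
  rcases hn.eq_bot_or_eq_top with h | h
  · exfalso
    have hc : ∀ a b : alternatingGroup (Fin 5), a * b = b * a := by
      intro a b
      have : ⁅a, b⁆ ∈ commutator (alternatingGroup (Fin 5)) :=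
        Subgroup.commutator_mem_commutator (Subgroup.mem_top a) (Subgroup.mem_top b)
      rw [h, Subgroup.mem_bot, commutatorElement_eq_one_iff_mul_comm] at this
      exact this
    have h1 : ((⟨b3, Equiv.Perm.mem_alternatingGroup.mpr (by decide +kernel)⟩ : alternatingGroup (Fin 5)) *
        ⟨b2, Equiv.Perm.mem_alternatingGroup.mpr (by decide +kernel)⟩).1 = b3 * b2 := rfl
    have h2 := congrArg Subtype.val (hc ⟨b3, Equiv.Perm.mem_alternatingGroup.mpr (by decide +kernel)⟩
      ⟨b2, Equiv.Perm.mem_alternatingGroup.mpr (by decide +kernel)⟩)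
    have h3 : b3 * b2 ≠ b2 * b3 := by decide +kernel
    exact h3 h2
  · exact h

/-- `A₅` has an irreducible character of degree divisible by `5`. -/
theorem exists_five_dvd : ∃ χ : IrrCharacter (alternatingGroup (Fin 5)),
    5 ∣ charDegree (χ : alternatingGroup (Fin 5) → ℂ) := by
  classical
  by_contra hcon
  push Not at hcon
  have hA : Nat.card (alternatingGroup (Fin 5)) = 60 := Cfsg.Agent.Lib.Compute.ConjCount.card_alt5
  haveI := Fintype.ofFinite (IrrCharacter (alternatingGroup (Fin 5)))
  set d : IrrCharacter (alternatingGroup (Fin 5)) → ℕ := fun χ => charDegree (χ : alternatingGroup (Fin 5) → ℂ) with hd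
  have hsum : ∑ χ, d χ ^ 2 = 60 := by
    have h1 := Cfsg.Agent.Lib.Char.CompleteCor.sum_sq_degrees (G := alternatingGroup (Fin 5))
    rw [hA] at h1
    have h2 : ∀ χ : IrrCharacter (alternatingGroup (Fin 5)), (χ : alternatingGroup (Fin 5) → ℂ) 1 = (d χ : ℂ) :=
      fun χ => (Cfsg.Agent.S4845.deg_cast χ).symm
    simp only [h2] at h1
    exact_mod_cast h1
  have hcard : Fintype.card (IrrCharacter (alternatingGroup (Fin 5))) ≤ 5 := by
    rw [← Nat.card_eq_fintype_card, Cfsg.Agent.Lib.Char.CompleteCor.card_irr_eq_card_conjClasses]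
    exact card_classes_le
  have hlin : Nat.card {χ : IrrCharacter (alternatingGroup (Fin 5)) // (χ : alternatingGroup (Fin 5) → ℂ) 1 = 1} = 1 := by
    rw [Cfsg.Agent.Lib.Char.LinearChars.card_linear_chars, commutator_eq_top, Subgroup.index_top]
  have hval : ∀ χ, d χ ∈ ({1, 2, 3, 4, 6} : Finset ℕ) := by
    intro χ
    have h1 : d χ ∣ 60 := hA ▸ Cfsg.Agent.S4845.deg_dvd χ
    have h2 : d χ ^ 2 ≤ 60 := by
      rw [← hsum]
      exact Finset.single_le_sum (f := fun χ => d χ ^ 2) (fun _ _ => Nat.zero_le _) (Finset.mem_univ χ)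
    have h3 : d χ ≤ 7 := by nlinarith
    have h4 := hcon χ
    have h5 : d χ ≠ 0 := fun h => by rw [h] at h1; norm_num at h1
    have h6 : d χ ≠ 5 := fun h => h4 (by rw [show charDegree (χ : alternatingGroup (Fin 5) → ℂ) = d χ from rfl, h])
    have h7 : d χ ≠ 7 := fun h => by rw [h] at h1; norm_num at h1
    simp only [Finset.mem_insert, Finset.mem_singleton]
    omega
  have hs1 := Finset.sum_fiberwise_of_maps_to (s := Finset.univ) (t := ({1, 2, 3, 4, 6} : Finset ℕ)) (g := d)
    (fun χ _ => hval χ) (fun χ => d χ ^ 2)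
  have hs2 := Finset.card_eq_sum_card_fiberwise (s := (Finset.univ : Finset (IrrCharacter (alternatingGroup (Fin 5)))))
    (t := ({1, 2, 3, 4, 6} : Finset ℕ)) (f := d) (fun χ _ => hval χ)
  have hfib : ∀ v, ∑ χ ∈ Finset.univ.filter (fun χ => d χ = v), d χ ^ 2 = (Finset.univ.filter (fun χ => d χ = v)).card * v ^ 2 := by
    intro v
    rw [Finset.sum_congr rfl (g := fun _ => v ^ 2)]
    · simp
    · intro χ hχ
      rw [(Finset.mem_filter.mp hχ).2]
  have hone : (Finset.univ.filter (fun χ => d χ = 1)).card = 1 := by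
    have h2 : Finset.univ.filter (fun χ => d χ = 1) =
        Finset.univ.filter (fun χ : IrrCharacter (alternatingGroup (Fin 5)) => (χ : alternatingGroup (Fin 5) → ℂ) 1 = 1) := by
      ext χ
      simp only [Finset.mem_filter, Finset.mem_univ, true_and]
      exact Cfsg.Agent.S4845.deg_eq_one_iff χ
    rw [h2, ← Fintype.card_subtype, ← Nat.card_eq_fintype_card]
    exact hlin
  rw [hsum] at hs1
  simp only [hfib] at hs1
  rw [Finset.card_univ] at hs2
  simp at hs1 hs2
  rw [hone] at hs1 hs2
  omega

/-- The character degree graph of a finite group has as vertices the primes dividing some irreducible complex character degree, two distinct primes being joined when their product divides some irreducible character degree; two groups have the same character degree graph when they have the same vertices and the same joined pairs. A finite group of order 60 with the same character degree graph as the alternating group A₅ (whose character degrees are 1, 3, 4, 5, so the graph has vertices 2, 3, 5 and no edges) is isomorphic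 to A₅. -/
theorem result {G : Type*} [Group G] [Finite G] (hcard : Nat.card G = 60)
    (hΓ : Cfsg.degreePrimes G = Cfsg.degreePrimes (alternatingGroup (Fin 5)) ∧ Cfsg.degreeGraph G = Cfsg.degreeGraph (alternatingGroup (Fin 5))) : Nonempty (G ≃* alternatingGroup (Fin 5)) := by
  have h5 : (5 : ℕ) ∈ Cfsg.degreePrimes G := by
    rw [hΓ.1]
    obtain ⟨χ, hχ⟩ := exists_five_dvd
    exact ⟨by norm_num, _, ⟨χ, rfl⟩, hχ⟩
  obtain ⟨-, d, ⟨χ, rfl⟩, h5d⟩ := h5
  haveI hsimple : IsSimpleGroup G := by
    haveI : Nontrivial G := by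
      apply Finite.one_lt_card_iff_nontrivial.mp
      omega
    refine ⟨fun N hN => ?_⟩
    by_contra hcon
    push Not at hcon
    obtain ⟨S, hS, hSc⟩ := exists_normal_five hcard N hcon.1 hcon.2
    have hcy : IsCyclic S := isCyclic_of_prime_card (p := 5) (hp := ⟨by norm_num⟩) hSc
    letI : CommGroup S := IsCyclic.commGroup
    have hab : ∀ a ∈ S, ∀ b ∈ S, a * b = b * a := by
      intro a ha b hb
      exact congrArg Subtype.val (mul_comm (⟨a, ha⟩ : S) ⟨b, hb⟩)
    obtain ⟨e, he, hd⟩ := Cfsg.Agent.Lib.Coprime.KGV.exists_degree_dvd_index S hab χ.2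
    have hidx : S.index = 12 := by
      have := Subgroup.card_mul_index S
      rw [hSc, hcard] at this
      omega
    have h2 := Cfsg.Agent.Lib.Char.Values.IsCharacter.charDegree_eq
      (Cfsg.Agent.Lib.Char.Values.IsIrrCharacter.isCharacter χ.2) he
    rw [h2] at h5d
    rw [hidx] at hd
    have := h5d.trans hd
    norm_num at this
  exact Cfsg.Agent.S0494.result hcard

end Cfsg.Agent.S3669
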