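import Cfsg.Statements.S3681
import Mathlib
set_option autoImplicit false
open Cfsg Equiv Equiv.Perm MulAction
namespace Cfsg.Agent.S3681

theorem ai {Ω : Type*} (x : Perm Ω) (p : Ω) : x (x⁻¹ p) = p := by simp
theorem ia {Ω : Type*} (x : Perm Ω) (p : Ω) : x⁻¹ (x p) = p := by simp

/-- Two permutations whose supports meet in exactly one point have a 3-cycle as commutator. -/
theorem commutator_three {Ω : Type*} [Fintype Ω] [DecidableEq Ω] (x y : Perm Ω) (a : Ω)
    (hxa : x a ≠ a) (hya : y a ≠ a) (h : ∀ p, x p ≠ p → y p ≠ p → p = a) :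
    IsThreeCycle (x * y * x⁻¹ * y⁻¹) := by
  have hxy : ∀ p, p ≠ a → y p ≠ p → x p = p := fun p hp hy => by
    by_contra hx
    exact hp (h p hx hy)
  have hyx : ∀ p, p ≠ a → x p ≠ p → y p = p := fun p hp hx => by
    by_contra hy
    exact hp (h p hx hy)
  have hxb : x (y a) = y a := hxy _ hya (fun h3 => hya (y.injective h3))
  have hyb : y (x a) = x a := hyx _ hxa (fun h3 => hxa (x.injective h3))
  have hb : y a ≠ x a := by
    intro hab
    rw [hab] at hxb
    exact hxa (x.injective hxb)
  have key : x * y * x⁻¹ * y⁻¹ = swap a (y a) * swap a (x a) := by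
    ext p
    simp only [Perm.mul_apply]
    by_cases h1 : p = y a
    · subst h1
      rw [swap_apply_of_ne_of_ne hya hb, swap_apply_right, ia]
      have hr : x⁻¹ a ≠ a := by
        intro h2
        exact hxa (inv_eq_iff_eq.mp h2).symm
      have h3 : x (x⁻¹ a) ≠ x⁻¹ a := by
        rw [ai]
        exact hr.symm
      rw [hyx _ hr h3, ai]
    by_cases h2 : p = a
    · subst h2
      rw [swap_apply_left, swap_apply_of_ne_of_ne hxa hb.symm]
      have hr : y⁻¹ p ≠ p := by
        intro h2
        exact hya (inv_eq_iff_eq.mp h2).symm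
      have h3 : y (y⁻¹ p) ≠ y⁻¹ p := by
        rw [ai]
        exact hr.symm
      have h4 := hxy _ hr h3
      have h5 : x⁻¹ (y⁻¹ p) = y⁻¹ p := by
        rw [inv_eq_iff_eq]
        exact h4.symm
      rw [h5, ai]
    by_cases h3 : p = x a
    · subst h3
      rw [swap_apply_right, swap_apply_left]
      have h5 : y⁻¹ (x a) = x a := by
        rw [inv_eq_iff_eq]
        exact hyb.symm
      rw [h5, ia, hxb]
    · rw [swap_apply_of_ne_of_ne h2 h3, swap_apply_of_ne_of_ne h2 h1]
      set q := y⁻¹ p with hq
      have hp : y q = p := by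
        rw [hq, ai]
      have hqa : q ≠ a := by
        intro h4
        apply h1
        rw [← hp, h4]
      by_cases hxq : x q = q
      · have h5 : x⁻¹ q = q := by
          rw [inv_eq_iff_eq]
          exact hxq.symm
        rw [h5, hp]
        by_cases hyq : y q = q
        · rw [← hp, hyq, hxq]
        · rw [← hp]
          exact hxy _ (by rw [hp]; exact h2) (fun h6 => hyq (y.injective h6))
      · have hyq := hyx q hqa hxq
        have hqp : q = p := hyq.symm.trans hp
        rw [hqp] at hxq ⊢
        set r := x⁻¹ p with hr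
        have hxr : x r = p := by
          rw [hr, ai]
        have hra : r ≠ a := by
          intro h4
          apply h3
          rw [← hxr, h4]
        have hxr2 : x r ≠ r := by
          intro h4
          apply hxq
          have h5 : r = p := h4.symm.trans hxr
          rw [← h5]
          exact h4
        rw [hyx r hra hxr2, hxr]
  rw [key]
  exact isThreeCycle_swap_mul_swap_same hya.symm hxa.symm hb

theorem result {G Ω : Type*} [Group G] [Finite G] [MulAction G Ω] [FaithfulSMul G Ω] [Fintype Ω] [DecidableEq Ω]
    (hprim : MulAction.IsPreprimitive G Ω) (hA : ¬ alternatingGroup Ω ≤ (MulAction.toPermHom G Ω).range) :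
    Nat.card G * Nat.factorial ((Fintype.card Ω + 1) / 2) ≤ Nat.factorial (Fintype.card Ω) := by
  classical
  set n := Fintype.card Ω with hn
  -- no 3-cycle in G
  have hno : ∀ c : G, ¬ IsThreeCycle (toPermHom G Ω c) := by
    intro c hc
    apply hA
    let R := (toPermHom G Ω).range
    let f : Ω →ₑ[(toPermHom G Ω).rangeRestrict] Ω :=
      ⟨id, fun _ _ => rfl⟩
    have hR : IsPreprimitive R Ω := IsPreprimitive.of_surjective (f := f) Function.surjective_id
    exact alternatingGroup_le_of_isPreprimitive_of_isThreeCycle_mem hR hc ⟨c, rfl⟩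
  -- bases
  let IsBase : Finset Ω → Prop := fun B => ∀ g : G, (∀ p ∈ B, g • p = p) → g = 1
  have huniv : IsBase Finset.univ := by
    intro g hg
    apply FaithfulSMul.eq_of_smul_eq_smul (α := Ω)
    intro p
    rw [one_smul]
    exact hg p (Finset.mem_univ _)
  -- a base of minimal size
  obtain ⟨A, hA1, hmin⟩ := Finset.exists_min_image (Finset.univ.filter IsBase) Finset.card
    ⟨_, Finset.mem_filter.mpr ⟨Finset.mem_univ _, huniv⟩⟩
  have hAb : IsBase A := (Finset.mem_filter.mp hA1).2
  have herase : ∀ a ∈ A, ¬ IsBase (A.erase a) := by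
    intro a ha hbase
    have := hmin (A.erase a) (Finset.mem_filter.mpr ⟨Finset.mem_univ _, hbase⟩)
    rw [Finset.card_erase_of_mem ha] at this
    have h0 : 0 < A.card := Finset.card_pos.mpr ⟨a, ha⟩
    omega
  -- its complement is a base as well
  have hAc : IsBase Aᶜ := by
    intro g hg
    by_contra hne
    obtain ⟨a, hga⟩ : ∃ a, g • a ≠ a := by
      by_contra hcon
      push Not at hcon
      apply hne
      apply FaithfulSMul.eq_of_smul_eq_smul (α := Ω)
      intro p
      rw [one_smul]
      exact hcon p
    have ha : a ∈ A := by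
      by_contra hna
      exact hga (hg a (Finset.mem_compl.mpr hna))
    have h1 := herase a ha
    simp only [IsBase] at h1
    push Not at h1
    obtain ⟨x, hx1, hx2⟩ := h1
    have hxa : x • a ≠ a := by
      intro h2
      apply hx2
      apply hAb
      intro p hp
      by_cases hpa : p = a
      · rw [hpa]
        exact h2
      · exact hx1 p (Finset.mem_erase.mpr ⟨hpa, hp⟩)
    apply hno (x * g * x⁻¹ * g⁻¹)
    have h3 := commutator_three (toPermHom G Ω x) (toPermHom G Ω g) a hxa hga (by
      intro p hp1 hp2
      have hpA : p ∈ A := by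
        by_contra hna
        exact hp2 (hg p (Finset.mem_compl.mpr hna))
      by_contra hpa
      exact hp1 (hx1 p (Finset.mem_erase.mpr ⟨hpa, hpA⟩)))
    simpa [map_mul, map_inv] using h3
  -- one of them is small
  obtain ⟨B, hB, hBc⟩ : ∃ B : Finset Ω, IsBase B ∧ 2 * B.card ≤ n := by
    by_cases h2 : 2 * A.card ≤ n
    · exact ⟨A, hAb, h2⟩
    · refine ⟨Aᶜ, hAc, ?_⟩
      rw [Finset.card_compl]
      omega
  have hinj : Function.Injective (fun g : G => (⟨fun p : B => g • (p : Ω), fun p q h =>
      Subtype.ext (MulAction.injective g h)⟩ : B ↪ Ω)) := by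
    intro g g' h
    have h1 : g'⁻¹ * g = 1 := by
      apply hB
      intro p hp
      have h2 := congrArg (fun e : B ↪ Ω => e ⟨p, hp⟩) h
      rw [mul_smul, inv_smul_eq_iff]
      exact h2
    rw [inv_mul_eq_one] at h1
    exact h1.symm
  haveI : Fintype G := Fintype.ofFinite G
  have hcard := Fintype.card_le_of_injective _ hinj
  rw [Fintype.card_embedding_eq, Fintype.card_coe] at hcard
  rw [Nat.card_eq_fintype_card]
  have h4 : B.card ≤ n := by omega
  have h5 := Nat.factorial_mul_descFactorial h4
  calc Fintype.card G * Nat.factorial ((n + 1) / 2) ≤ n.descFactorial B.card * Nat.factorial (n - B.card) := by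
        apply Nat.mul_le_mul hcard
        apply Nat.factorial_le
        omega
    _ = Nat.factorial n := by rw [mul_comm]; exact h5

end Cfsg.Agent.S3681
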