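import Cfsg.Statements.S3687
import Cfsg.Agent.Lib.Perm.Knapp.Final
-- import your own Cfsg.Agent.* helpers here

set_option autoImplicit false
open Cfsg

namespace Cfsg.Agent.S3687

open Cfsg.Agent.Lib.Perm.Knapp MulAction Subgroup Equiv

/-- Let a finite group G act faithfully and primitively on a set Ω, let a and b be points such that the orbit Δ of b under the stabilizer H of a has d ≥ 6 elements, and suppose that the permutation group induced by H on Δ contains the alternating group of Δ (the image of H in the symmetric group of Δ has index at most 2) while H does not act faithfully on Δ. Then either H induces exactly the alternating group of Δ and H is isomorphic to the direct product of the alternating groups of degrees d and d - 1; or H induces the full symmetric group of Δ and H is isomorphic to one of: the direct product of the symmetric groups of degrees d and d - 1, the direct product of the symmetric group of degree d with the alternating group of degree d - 1, or the subgroup of the direct product of the symmetric groups of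 degrees d and d - 1 consisting of the pairs of permutations with equal signs. -/
theorem result {G Ω : Type*} [Group G] [Finite G] [MulAction G Ω] [FaithfulSMul G Ω] [Finite Ω]
    (hprim : MulAction.IsPreprimitive G Ω) (a b : Ω) (d : ℕ) (hd : Nat.card (MulAction.orbit (MulAction.stabilizer G a) b) = d) (h6 : 6 ≤ d)
    (halt : (MulAction.toPermHom (MulAction.stabilizer G a) (MulAction.orbit (MulAction.stabilizer G a) b)).range.index ≤ 2)
    (hunf : ¬ Function.Injective (MulAction.toPermHom (MulAction.stabilizer G a) (MulAction.orbit (MulAction.stabilizer G a) b))) :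
    ((MulAction.toPermHom (MulAction.stabilizer G a) (MulAction.orbit (MulAction.stabilizer G a) b)).range.index = 2 ∧
      Nonempty (MulAction.stabilizer G a ≃* alternatingGroup (Fin d) × alternatingGroup (Fin (d - 1)))) ∨
    ((MulAction.toPermHom (MulAction.stabilizer G a) (MulAction.orbit (MulAction.stabilizer G a) b)).range = ⊤ ∧
      (Nonempty (MulAction.stabilizer G a ≃* Equiv.Perm (Fin d) × Equiv.Perm (Fin (d - 1))) ∨
       Nonempty (MulAction.stabilizer G a ≃* Equiv.Perm (Fin d) × alternatingGroup (Fin (d - 1))) ∨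
       Nonempty (MulAction.stabilizer G a ≃* ((Equiv.Perm.sign.comp (MonoidHom.fst (Equiv.Perm (Fin d)) (Equiv.Perm (Fin (d - 1))))) *
         (Equiv.Perm.sign.comp (MonoidHom.snd (Equiv.Perm (Fin d)) (Equiv.Perm (Fin (d - 1)))))).ker))) := by
  classical
  haveI := hprim.toIsPretransitive
  set H : Subgroup G := stabilizer G a with hHdef
  set Δ : Set Ω := orbit ↥H b with hΔ
  haveI : Fintype ↥Δ := Fintype.ofFinite _
  let R : Ω → Ω → Prop := fun v w => ∃ h : G, h • a = v ∧ h • b = w
  have hab : R a b := ⟨1, one_smul _ _, one_smul _ _⟩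
  have hinv : ∀ (h : G) v w, R v w → R (h • v) (h • w) := by
    rintro h v w ⟨k, rfl, rfl⟩
    exact ⟨h * k, mul_smul _ _ _, mul_smul _ _ _⟩
  have hRa : {w | R a w} = Δ := by
    ext w
    constructor
    · rintro ⟨k, hk1, rfl⟩
      exact ⟨⟨k, hk1⟩, rfl⟩
    · rintro ⟨⟨k, hk1⟩, rfl⟩
      exact ⟨k, hk1, rfl⟩
  have hcard0 : Nat.card ↥{w | R a w} = d := by
    rw [hRa]
    exact hd
  have hne_ab : a ≠ b := by
    rintro rfl
    have h1 : Δ = {a} := by
      ext w
      constructor
      · rintro ⟨⟨k, hk1⟩, rfl⟩
        exact hk1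
      · intro hw
        rw [Set.mem_singleton_iff] at hw
        rw [hw]
        exact ⟨1, one_smul _ _⟩
    have h2 : Nat.card ↥Δ = 1 := by
      rw [h1]
      simp
    have h3 : Nat.card ↥Δ = d := hd
    omega
  have hcardconj : ∀ v, Nat.card ↥{w | R v w} = d := by
    intro v
    obtain ⟨h, rfl⟩ := exists_smul_eq G a v
    rw [← hcard0]
    apply Nat.card_congr
    refine ⟨fun w => ⟨h⁻¹ • (w : Ω), ?_⟩, fun w => ⟨h • (w : Ω), hinv h _ _ w.2⟩, ?_, ?_⟩
    · have := hinv h⁻¹ _ _ w.2
      simpa using this
    · intro w
      apply Subtype.ext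
      simp
    · intro w
      apply Subtype.ext
      simp
  have hcardH : Nat.card (stabilizer G a) = Nat.card (stabilizer G b) := by
    obtain ⟨g, rfl⟩ := exists_smul_eq G a b
    rw [MulAction.stabilizer_smul_eq_stabilizer_map_conj]
    exact Nat.card_congr ((stabilizer G a).equivMapOfInjective _ (MulAut.conj g).injective).toEquiv
  have hIn0 : Nat.card ↥{u | R u b} = d := by
    have hp : Pres (stabilizer G a) {w | R a w} := by
      intro q hq w hw
      have := hinv q a w hw
      rwa [MulAction.mem_stabilizer_iff.mp hq] at this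
    have h1 := card_inf_stab_mul (Q := stabilizer G a) (Λ := {w | R a w}) (x := b) hp hab
      (by
        rintro y ⟨k, hk1, rfl⟩
        exact ⟨k, hk1, rfl⟩)
    have hp' : Pres (stabilizer G b) {u | R u b} := by
      intro q hq w hw
      have := hinv q w b hw
      rwa [MulAction.mem_stabilizer_iff.mp hq] at this
    have h2 := card_inf_stab_mul (Q := stabilizer G b) (Λ := {u | R u b}) (x := a) hp' hab
      (by
        rintro y ⟨k, rfl, hk1⟩
        exact ⟨k, hk1, rfl⟩)
    rw [hcard0] at h1
    rw [inf_comm, ← hcardH, ← h1] at h2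
    have hpos : 0 < Nat.card ↥(stabilizer G a ⊓ stabilizer G b) := Nat.card_pos
    exact Nat.eq_of_mul_eq_mul_left hpos h2
  have hIn : ∀ v, Nat.card ↥{u | R u v} = d := by
    intro v
    obtain ⟨h, rfl⟩ := exists_smul_eq G b v
    rw [← hIn0]
    apply Nat.card_congr
    refine ⟨fun w => ⟨h⁻¹ • (w : Ω), ?_⟩, fun w => ⟨h • (w : Ω), hinv h _ _ w.2⟩, ?_, ?_⟩
    · have := hinv h⁻¹ _ _ w.2
      simpa using this
    · intro w
      apply Subtype.ext
      simp
    · intro w
      apply Subtype.ext
      simp
  -- the permutation actions agree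
  have hpΔ : Pres H Δ := by
    intro q hq w hw
    rw [← hRa] at hw ⊢
    have := hinv q a w hw
    rwa [MulAction.mem_stabilizer_iff.mp hq] at this
  have hactΔ : act H Δ hpΔ = toPermHom ↥H ↥Δ := by
    ext q w
    rfl
  have halt' : alternatingGroup ↥Δ ≤ (act H Δ hpΔ).range := by
    rw [hactΔ]
    exact Equiv.Perm.alternatingGroup_le_of_index_le_two halt
  have hF0 : Form3 (stabilizer G a) {w | R a w} := by
    rw [hRa]
    exact form3_of_alt_le_range hpΔ halt'
  have hFall : ∀ v, Form3 (stabilizer G v) {w | R v w} := by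
    intro v
    obtain ⟨h, rfl⟩ := exists_smul_eq G a v
    intro x hx y hy z hz h1 h2 h3
    have hx' : R a (h⁻¹ • x) := by
      have := hinv h⁻¹ _ _ hx
      simpa using this
    have hy' : R a (h⁻¹ • y) := by
      have := hinv h⁻¹ _ _ hy
      simpa using this
    have hz' : R a (h⁻¹ • z) := by
      have := hinv h⁻¹ _ _ hz
      simpa using this
    obtain ⟨q, hq, h4, h5, h6', h7⟩ := hF0 _ hx' _ hy' _ hz'
      (fun e => h1 (MulAction.injective _ e)) (fun e => h2 (MulAction.injective _ e))
      (fun e => h3 (MulAction.injective _ e))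
    refine ⟨h * q * h⁻¹, ?_, ?_, ?_, ?_, ?_⟩
    · rw [MulAction.mem_stabilizer_iff]
      have hq' : q • a = a := hq
      simp [mul_smul, hq']
    · rw [mul_smul, mul_smul, h4, smul_inv_smul]
    · rw [mul_smul, mul_smul, h5, smul_inv_smul]
    · rw [mul_smul, mul_smul, h6', smul_inv_smul]
    · intro w hw hw1 hw2 hw3
      have hw' : R a (h⁻¹ • w) := by
        have := hinv h⁻¹ _ _ hw
        simpa using this
      rw [mul_smul, mul_smul, h7 _ hw' (fun e => hw1 (MulAction.injective _ e))
        (fun e => hw2 (MulAction.injective _ e)) (fun e => hw3 (MulAction.injective _ e)),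
        smul_inv_smul]
  have P : Pre G R d :=
    { inv := hinv
      arcT := by
        rintro v w v' w' ⟨k, rfl, rfl⟩ ⟨k', rfl, rfl⟩
        refine ⟨k' * k⁻¹, ?_, ?_⟩ <;> simp [mul_smul]
      d6 := h6
      irr := by
        rintro v w ⟨k, rfl, rfl⟩ e
        exact hne_ab (MulAction.injective _ e)
      cardOut := hcardconj
      cardIn := hIn
      altOut := hFall }
  have L : Loc G R d := P.toLoc
  -- the kernel
  have hKmem : ∀ q : G, q ∈ Kr G R a ↔ q ∈ H ∧ ∀ x ∈ Δ, q • x = x := by
    intro q
    constructor
    · rintro ⟨h1, h2⟩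
      refine ⟨h1, fun x hx => h2 x ?_⟩
      rw [← hRa] at hx
      exact hx
    · rintro ⟨h1, h2⟩
      refine ⟨h1, fun x hx => h2 x ?_⟩
      rw [← hRa]
      exact hx
  have hKa : Kr G R a ≠ ⊥ := by
    intro hbot
    apply hunf
    rw [injective_iff_map_eq_one]
    intro q hq
    have h1 : (q : G) ∈ Kr G R a := by
      rw [hKmem]
      refine ⟨q.2, fun x hx => ?_⟩
      have := congrArg (fun σ : Perm ↥Δ => (σ ⟨x, hx⟩).1) hq
      exact this
    rw [hbot, Subgroup.mem_bot] at h1
    exact Subtype.ext h1
  have hne : ∀ v, Kr G R v ≠ ⊥ := by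
    intro v
    obtain ⟨h, rfl⟩ := exists_smul_eq G a v
    rw [L.equi h a]
    intro hb
    apply hKa
    exact (Subgroup.map_eq_bot_iff_of_injective _ (MulAut.conj h).injective).mp hb
  have hKK : ∀ v, Kr G (rev R) v = Kr G R v := by
    rcases L.main_dich a with h | h
    · exact h
    · exact (L.caseB hprim h a).elim
  -- the orders
  have hcardK : Nat.card H = Nat.card (Kr G R a) * Nat.card (act H Δ hpΔ).range :=
    card_eq_mul hpΔ hKmem
  rw [hactΔ] at hcardK
  have hind := (toPermHom ↥H ↥Δ).range.card_mul_index
  rw [card_perm_set] at hind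
  have hΔc : Nat.card ↥Δ = d := hd
  rw [hΔc] at hind
  have hi0 : (toPermHom ↥H ↥Δ).range.index ≠ 0 := Subgroup.index_ne_zero_of_finite
  have hicases : (toPermHom ↥H ↥Δ).range.index = 1 ∨ (toPermHom ↥H ↥Δ).range.index = 2 := by
    have halt2 : (toPermHom ↥H ↥Δ).range.index ≤ 2 := halt
    omega
  rcases hicases with hi | hi
  · right
    have htop : (toPermHom ↥H ↥Δ).range = ⊤ := Subgroup.index_eq_one.mp hi
    refine ⟨htop, ?_⟩
    rw [hi, mul_one] at hind
    rw [hind] at hcardK
    exact core_sym L hprim hKK hne a hcardK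
  · left
    refine ⟨hi, ?_⟩
    rw [hi] at hind
    have hr : Nat.card (toPermHom ↥H ↥Δ).range = d.factorial / 2 := by
      omega
    rw [hr] at hcardK
    exact core_alt L hprim hKK hne a hcardK

end Cfsg.Agent.S3687
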