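import Cfsg.Statements.S4083
import Mathlib
import Cfsg.Agent.S0106
import Cfsg.Agent.S0228
import Cfsg.Agent.Lib.PGroup.CyclicMax2

set_option autoImplicit false
open Cfsg

namespace Cfsg.Agent.S4083

open Subgroup Cfsg.Agent.Lib.PGroup.CyclicMax2 DihedralGroup

variable {G : Type*} [Group G]

/-- Subgroups of dihedral `2`-groups are cyclic or dihedral. -/
theorem dih_sub {n : ℕ} (T : Subgroup (DihedralGroup (2 ^ n))) :
    IsCyclic T ∨ ∃ m : ℕ, Nonempty (T ≃* DihedralGroup (2 ^ m)) := by
  classical
  haveI : NeZero (2 ^ n) := ⟨by positivity⟩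
  let R : Subgroup (DihedralGroup (2 ^ n)) := zpowers (r (1 : ZMod (2 ^ n)))
  have hRr : ∀ t, t ∈ R ↔ ∃ j, t = r j := by
    intro t
    constructor
    · rintro ⟨a, rfl⟩
      exact ⟨_, r_one_zpow a⟩
    · rintro ⟨j, rfl⟩
      refine ⟨(j.val : ℤ), ?_⟩
      simp only [r_one_zpow]
      simp
  haveI : IsCyclic R := inferInstance
  by_cases hrot : ∀ t ∈ T, ∃ i, t = r i
  · left
    have hle : T ≤ R := fun t ht => (hRr t).mpr (hrot t ht)
    exact isCyclic_of_injective (Subgroup.inclusion hle) (Subgroup.inclusion_injective hle)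
  · right
    push Not at hrot
    obtain ⟨s, hsT, hs⟩ := hrot
    have hsr : ∃ i, s = sr i := by
      cases s with
      | r i => exact absurd rfl (hs i)
      | sr i => exact ⟨i, rfl⟩
    obtain ⟨i, rfl⟩ := hsr
    let A : Subgroup T := R.subgroupOf T
    have hAm : ∀ t : T, t ∈ A ↔ ∃ j, (t : DihedralGroup (2 ^ n)) = r j := by
      intro t
      rw [Subgroup.mem_subgroupOf, hRr]
    have hAinj : Function.Injective (fun a : A => (⟨((a : T) : DihedralGroup (2 ^ n)),
        (Subgroup.mem_subgroupOf.mp a.2)⟩ : R)) := by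
      intro a b hab
      have := congrArg Subtype.val hab
      exact Subtype.ext (Subtype.ext this)
    let f : A →* R :=
      { toFun := fun a => ⟨((a : T) : DihedralGroup (2 ^ n)), Subgroup.mem_subgroupOf.mp a.2⟩
        map_one' := rfl
        map_mul' := fun _ _ => rfl }
    haveI hAc : IsCyclic A := isCyclic_of_injective f hAinj
    obtain ⟨g, hg⟩ := IsCyclic.exists_generator (α := A)
    have hA2 : ∃ m, Nat.card A = 2 ^ m := by
      have h1 : Nat.card A ∣ Nat.card (DihedralGroup (2 ^ n)) := by
        have h2 : Nat.card A ∣ Nat.card T := Subgroup.card_subgroup_dvd_card A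
        exact h2.trans (Subgroup.card_subgroup_dvd_card T)
      rw [nat_card, ← pow_succ'] at h1
      obtain ⟨m, -, hm⟩ := (Nat.dvd_prime_pow Nat.prime_two).mp h1
      exact ⟨m, hm⟩
    obtain ⟨m, hm⟩ := hA2
    refine ⟨m, ?_⟩
    have hT2 : A.index = 2 := by
      rw [Subgroup.index_eq_two_iff]
      refine ⟨⟨sr i, hsT⟩, fun t => ?_⟩
      obtain ⟨t, ht⟩ := t
      cases t with
      | r j =>
        right
        constructor
        · exact (hAm _).mpr ⟨j, rfl⟩
        · intro h
          obtain ⟨k, hk⟩ := (hAm _).mp h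
          simp at hk
      | sr j =>
        left
        constructor
        · exact (hAm _).mpr ⟨i - j, by simp⟩
        · intro h
          obtain ⟨k, hk⟩ := (hAm _).mp h
          simp at hk
    have hcard : Nat.card T = 2 ^ (m + 1) := by
      have := Subgroup.card_mul_index A
      rw [hm, hT2] at this
      rw [← this, pow_succ]
    have hu : orderOf (g : T) = 2 ^ m := by
      rw [Subgroup.orderOf_coe, orderOf_eq_card_of_forall_mem_zpowers hg, hm]
    have hzp : zpowers (g : T) ≤ A := by
      rw [Subgroup.zpowers_le]; exact g.2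
    obtain ⟨j, hj⟩ := (hAm _).mp g.2
    have hb : (⟨sr i, hsT⟩ : T) ∉ zpowers (g : T) := by
      intro h
      obtain ⟨k, hk⟩ := (hAm _).mp (hzp h)
      simp at hk
    refine dihedral_of_data hu hcard hb ?_ ?_
    · apply Subtype.ext
      have hsi : (sr i : DihedralGroup (2 ^ n))⁻¹ = sr i := by
        rw [inv_eq_iff_mul_eq_one, sr_mul_self]
      simp only [Subgroup.coe_mul, Subgroup.coe_inv, hj, hsi, sr_mul_r, sr_mul_sr]
      rw [inv_r]
      congr 1
      ring
    · apply Subtype.ext
      simp [pow_two, sr_mul_self]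

/-- The subgroup `{1,u,v,uv}`. -/
def kl {X : Type*} [Group X] (u v : X) (hu : u * u = 1) (hv : v * v = 1) (huv : v * u = u * v) :
    Subgroup X where
  carrier := {1, u, v, u * v}
  one_mem' := by simp
  mul_mem' := by
    have h1 : ∀ x, u * (u * x) = x := fun x => by rw [← mul_assoc, hu, one_mul]
    have h2 : ∀ x, v * (v * x) = x := fun x => by rw [← mul_assoc, hv, one_mul]
    have h3 : ∀ x, v * (u * x) = u * (v * x) := fun x => by rw [← mul_assoc, huv, mul_assoc]
    rintro a b (rfl | rfl | rfl | rfl) (rfl | rfl | rfl | rfl) <;>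
      simp only [mul_assoc, one_mul, mul_one, hu, hv, huv, h1, h2, h3, Set.mem_insert_iff,
        Set.mem_singleton_iff, true_or, or_true]
  inv_mem' := by
    have h1 : u⁻¹ = u := inv_eq_of_mul_eq_one_left hu
    have h2 : v⁻¹ = v := inv_eq_of_mul_eq_one_left hv
    rintro a (rfl | rfl | rfl | rfl)
    · simp
    · simp [h1]
    · simp [h2]
    · simp only [mul_inv_rev, h1, h2, huv]
      simp

theorem kl_card {X : Type*} [Group X] [Finite X] (u v : X) (hu : u * u = 1) (hv : v * v = 1)
    (huv : v * u = u * v) (hu1 : u ≠ 1) (hv1 : v ≠ 1) (hne : u ≠ v) :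
    Nat.card (kl u v hu hv huv) = 4 := by
  classical
  have h : ((kl u v hu hv huv : Subgroup X) : Set X) = (({1, u, v, u * v} : Finset X) : Set X) := by
    ext x
    simp [kl]
  have h0 : Nat.card (kl u v hu hv huv) = Nat.card ((kl u v hu hv huv : Subgroup X) : Set X) := rfl
  rw [h0, Nat.card_coe_set_eq, h, Set.ncard_coe_finset]
  rw [Finset.card_insert_of_notMem, Finset.card_insert_of_notMem, Finset.card_insert_of_notMem,
    Finset.card_singleton]
  · simp only [Finset.mem_singleton]
    intro h; apply hu1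
    have : u * v * v = v * v := by rw [← h]
    rwa [mul_assoc, hv, mul_one] at this
  · simp only [Finset.mem_insert, Finset.mem_singleton, not_or]
    refine ⟨hne, ?_⟩
    intro h; apply hv1
    have : u * u = u * (u * v) := by rw [← h]
    rw [← mul_assoc, hu, one_mul] at this
    exact this.symm
  · simp only [Finset.mem_insert, Finset.mem_singleton, not_or]
    refine ⟨hu1.symm, hv1.symm, ?_⟩
    intro h; apply hne
    calc u = u * v * v := by rw [mul_assoc, hv, mul_one]
      _ = v := by rw [← h, one_mul]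

theorem kl_sq {X : Type*} [Group X] (u v : X) (hu : u * u = 1) (hv : v * v = 1)
    (huv : v * u = u * v) : ∀ k ∈ kl u v hu hv huv, k ^ 2 = 1 := by
  rintro k (rfl | rfl | rfl | rfl)
  · simp
  · rw [pow_two, hu]
  · rw [pow_two, hv]
  · rw [pow_two, mul_assoc, ← mul_assoc v, huv, mul_assoc, hv, mul_one, hu]

/-- A group of exponent two is abelian (subgroup form). -/
theorem comm_of_sq {X : Type*} [Group X] (K : Subgroup X) (hexp : ∀ k ∈ K, k ^ 2 = 1) :
    ∀ a ∈ K, ∀ b ∈ K, a * b = b * a := by
  intro a ha b hb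
  have h1 := hexp _ (K.mul_mem ha hb)
  have h2 := hexp _ ha
  have h3 := hexp _ hb
  rw [pow_two] at h1 h2 h3
  calc a * b = a * (a * b * (a * b)) * b := by rw [h1]; simp
    _ = (a * a) * (b * a) * (b * b) := by group
    _ = b * a := by rw [h2, h3]; simp

theorem commute_of_sq {X : Type*} [Group X] [Finite X] {y k : X} (hodd : (orderOf y).Coprime 2)
    (h : Commute (y ^ 2) k) : Commute y k := by
  obtain ⟨m, hm⟩ := exists_pow_eq_self_of_coprime hodd.symm
  have := h.pow_left m
  rwa [hm] at this

/-- Enumeration of a four-group. -/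
theorem four_elems {X : Type*} [Group X] [Finite X] (K : Subgroup X) (hcard : Nat.card K = 4)
    {a c : X} (ha : a ∈ K) (hc : c ∈ K) (ha1 : a ≠ 1) (hc1 : c ≠ 1) (hac : a ≠ c)
    (hac' : a * c ≠ 1) :
    ∀ k ∈ K, k = 1 ∨ k = a ∨ k = c ∨ k = a * c := by
  classical
  intro k hk
  by_contra hcon
  push Not at hcon
  obtain ⟨h1, h2, h3, h4⟩ := hcon
  have hs : (({k, 1, a, c, a * c} : Finset X) : Set X) ⊆ (K : Set X) := by
    intro x hx
    simp only [Finset.coe_insert, Finset.coe_singleton, Set.mem_insert_iff,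
      Set.mem_singleton_iff] at hx
    rcases hx with rfl | rfl | rfl | rfl | rfl
    · exact hk
    · exact K.one_mem
    · exact ha
    · exact hc
    · exact K.mul_mem ha hc
  have hle := Set.ncard_le_ncard hs (Set.toFinite _)
  rw [Set.ncard_coe_finset, ← Nat.card_coe_set_eq] at hle
  have hc4 : Nat.card (K : Set X) = 4 := hcard
  rw [hc4] at hle
  have : ({k, 1, a, c, a * c} : Finset X).card = 5 := by
    rw [Finset.card_insert_of_notMem, Finset.card_insert_of_notMem, Finset.card_insert_of_notMem,
      Finset.card_insert_of_notMem, Finset.card_singleton]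
    · simp only [Finset.mem_singleton]
      intro h; apply ha1
      have : c * c⁻¹ = a * c * c⁻¹ := by rw [← h]
      simpa using this.symm
    · simp only [Finset.mem_insert, Finset.mem_singleton, not_or]
      refine ⟨hac, ?_⟩
      intro h; apply hc1
      have : a⁻¹ * a = a⁻¹ * (a * c) := by rw [← h]
      simpa using this.symm
    · simp only [Finset.mem_insert, Finset.mem_singleton, not_or]
      exact ⟨ha1.symm, hc1.symm, hac'.symm⟩
    · simp only [Finset.mem_insert, Finset.mem_singleton, not_or]
      exact ⟨h1, h2, h3, h4⟩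
  omega

/-- Action of an odd-order element on a four-group. -/
theorem four_act {X : Type*} [Group X] [Finite X] (K : Subgroup X) (hcard : Nat.card K = 4)
    (hexp : ∀ k ∈ K, k ^ 2 = 1) {y : X} (hyN : ∀ k ∈ K, y * k * y⁻¹ ∈ K)
    (hodd : (orderOf y).Coprime 2) :
    (∀ k ∈ K, Commute y k) ∨ ((∀ k ∈ K, Commute (y ^ 3) k) ∧ ∀ k ∈ K, k ≠ 1 → ¬ Commute y k) := by
  classical
  have hcomm := comm_of_sq K hexp
  have hself : ∀ k ∈ K, k * k = 1 := fun k hk => by rw [← pow_two]; exact hexp k hk
  have hne : ∀ {a c : X}, a ∈ K → c ∈ K → a ≠ c → a * c ≠ 1 := by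
    intro a c ha hc hac h
    apply hac
    have := hself c hc
    calc a = a * (c * c) := by rw [this, mul_one]
      _ = c := by rw [← mul_assoc, h, one_mul]
  have hconj1 : ∀ {k : X}, k ≠ 1 → y * k * y⁻¹ ≠ 1 := by
    intro k hk h
    apply hk
    have : y⁻¹ * (y * k * y⁻¹) * y = k := by group
    rw [← this, h]; group
  have hcom : ∀ {k : X}, y * k * y⁻¹ = k → Commute y k := by
    intro k h
    show y * k = k * y
    calc y * k = y * k * y⁻¹ * y := by group
      _ = k * y := by rw [h]
  have hcom' : ∀ {k : X}, Commute y k → y * k * y⁻¹ = k := by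
    intro k h
    calc y * k * y⁻¹ = k * y * y⁻¹ := by rw [h.eq]
      _ = k := by group
  -- fixed point implies centralizing
  have hfix : ∀ a ∈ K, a ≠ 1 → Commute y a → ∀ k ∈ K, Commute y k := by
    intro a ha ha1 hya k hk
    by_cases hk1 : k = 1
    · rw [hk1]; exact Commute.one_right y
    by_cases hka : k = a
    · rw [hka]; exact hya
    have hen := four_elems K hcard ha hk ha1 hk1 (Ne.symm hka) (hne ha hk (Ne.symm hka))
    have hm := hyN k hk
    rcases hen _ hm with h | h | h | h
    · exact absurd h (hconj1 hk1)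
    · -- y k y⁻¹ = a = y a y⁻¹
      exfalso; apply hka
      have h2 : y * k * y⁻¹ = y * a * y⁻¹ := by rw [h, hcom' hya]
      have h3 : y * k = y * a := mul_right_cancel h2
      exact mul_left_cancel h3
    · exact hcom h
    · apply commute_of_sq hodd
      show y ^ 2 * k = k * y ^ 2
      rw [pow_two]
      have h2 : y * (y * k * y⁻¹) * y⁻¹ = k := by
        rw [h]
        have h3 : y * (a * k) * y⁻¹ = (y * a * y⁻¹) * (y * k * y⁻¹) := by group
        rw [h3, hcom' hya, h, ← mul_assoc, hself a ha, one_mul]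
      calc y * y * k = y * (y * k * y⁻¹) * y⁻¹ * (y * y) := by group
        _ = k * (y * y) := by rw [h2]
  by_cases hex : ∃ a ∈ K, a ≠ 1 ∧ Commute y a
  · left
    obtain ⟨a, ha, ha1, hya⟩ := hex
    exact hfix a ha ha1 hya
  right
  push Not at hex
  refine ⟨?_, fun k hk hk1 => hex k hk hk1⟩
  -- pick a nontrivial element
  obtain ⟨a, ha, ha1⟩ : ∃ a ∈ K, a ≠ 1 := by
    by_contra hcon
    push Not at hcon
    have : K = ⊥ := by
      rw [eq_bot_iff]; intro x hx; exact Subgroup.mem_bot.mpr (hcon x hx)
    rw [this] at hcard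
    simp at hcard
  have hb : y * a * y⁻¹ ∈ K := hyN a ha
  obtain ⟨b, hbe⟩ : ∃ b, b = y * a * y⁻¹ := ⟨_, rfl⟩
  rw [← hbe] at hb
  have hb1 : b ≠ 1 := by rw [hbe]; exact hconj1 ha1
  have hab : a ≠ b := by
    intro h
    apply hex a ha ha1
    apply hcom
    rw [← hbe, h]
  have hen := four_elems K hcard ha hb ha1 hb1 hab (hne ha hb hab)
  have hm := hyN b hb
  have hyb : y * b * y⁻¹ = a * b := by
    rcases hen _ hm with h | h | h | h
    · exact absurd h (hconj1 hb1)
    · exfalso
      apply hex a ha ha1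
      apply commute_of_sq hodd
      show y ^ 2 * a = a * y ^ 2
      rw [pow_two]
      calc y * y * a = y * (y * a * y⁻¹) * y⁻¹ * (y * y) := by group
        _ = a * (y * y) := by rw [← hbe, h]
    · exact absurd (hcom h) (hex b hb hb1)
    · exact h
  have hyab : y * (a * b) * y⁻¹ = a := by
    have h3 : y * (a * b) * y⁻¹ = (y * a * y⁻¹) * (y * b * y⁻¹) := by group
    rw [h3, ← hbe, hyb, hcomm a ha b hb, ← mul_assoc, hself b hb, one_mul]
  have hy3a : Commute (y ^ 3) a := by
    show y ^ 3 * a = a * y ^ 3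
    rw [pow_succ, pow_two]
    calc y * y * y * a = y * (y * (y * a * y⁻¹) * y⁻¹) * y⁻¹ * (y * y * y) := by group
      _ = a * (y * y * y) := by rw [← hbe, hyb, hyab]
  have hy3b : Commute (y ^ 3) b := by
    show y ^ 3 * b = b * y ^ 3
    rw [pow_succ, pow_two]
    calc y * y * y * b = y * (y * (y * b * y⁻¹) * y⁻¹) * y⁻¹ * (y * y * y) := by group
      _ = b * (y * y * y) := by rw [hyb, hyab, ← hbe]
  intro k hk
  rcases hen k hk with rfl | rfl | rfl | rfl
  · exact Commute.one_right _
  · exact hy3a
  · exact hy3b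
  · exact hy3a.mul_right hy3b

/-- Odd generator modulo a normal subgroup of odd index with cyclic quotient. -/
theorem exists_odd_gen {X : Type*} [Group X] [Finite X] (S : Subgroup X) [S.Normal]
    (hidx : S.index.Coprime 2) (hcyc : IsCyclic (X ⧸ S)) :
    ∃ y : X, (orderOf y).Coprime 2 ∧ ∀ x : X, ∃ (i : ℕ), ∃ s ∈ S, x = y ^ i * s := by
  classical
  obtain ⟨q, hq⟩ := IsCyclic.exists_generator (α := X ⧸ S)
  obtain ⟨x, rfl⟩ := QuotientGroup.mk_surjective q
  obtain ⟨a, m, hm, hx⟩ : ∃ a m : ℕ, Odd m ∧ orderOf x = 2 ^ a * m := by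
    obtain ⟨a, m, hm, h⟩ := Nat.exists_eq_two_pow_mul_odd (orderOf_pos x).ne'
    exact ⟨a, m, hm, h⟩
  have hco : (2 ^ a).Coprime S.index := (Nat.Coprime.pow_left a hidx.symm)
  obtain ⟨e, he1, he2⟩ := Nat.chineseRemainder hco 0 1
  obtain ⟨c, hc⟩ : 2 ^ a ∣ e := (Nat.modEq_zero_iff_dvd).mp he1
  refine ⟨x ^ e, ?_, ?_⟩
  · have h1 : (x ^ e) ^ m = 1 := by
      calc (x ^ e) ^ m = x ^ ((2 ^ a * m) * c) := by rw [← pow_mul, hc]; congr 1; ring
        _ = 1 := by rw [pow_mul, ← hx, pow_orderOf_eq_one, one_pow]
    have h2 : orderOf (x ^ e) ∣ m := orderOf_dvd_of_pow_eq_one h1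
    exact Nat.Coprime.coprime_dvd_left h2 (Nat.coprime_two_right.mpr hm)
  · intro z
    have h1 : ((x : X ⧸ S)) ^ S.index = 1 := by
      have := pow_card_eq_one' (x := (x : X ⧸ S))
      rwa [← Subgroup.index_eq_card] at this
    have h2 : ((x ^ e : X) : X ⧸ S) = (x : X ⧸ S) := by
      rw [QuotientGroup.mk_pow]
      have h3 : orderOf ((x : X ⧸ S)) ∣ S.index := orderOf_dvd_of_pow_eq_one h1
      have h4 : e ≡ 1 [MOD orderOf (x : X ⧸ S)] := he2.of_dvd h3
      have := (pow_eq_pow_iff_modEq (x := (x : X ⧸ S))).mpr h4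
      rwa [pow_one] at this
    have hz := hq (z : X ⧸ S)
    obtain ⟨i, hi⟩ := (mem_powers_iff_mem_zpowers).mpr hz
    refine ⟨i, ((x ^ e) ^ i)⁻¹ * z, ?_, by group⟩
    rw [← QuotientGroup.eq]
    simp only at hi
    rw [QuotientGroup.mk_pow, h2]
    exact hi

open Cfsg.Agent.S0106 in
/-- Odd-order elements normalizing a dihedral `2`-group of order at least `8` centralize it. -/
theorem centralizes_dih {X : Type*} [Group X] [Finite X] (S : Subgroup X) {m : ℕ} (hm : 2 ≤ m)
    (e : S ≃* DihedralGroup (2 ^ m)) {y : X} (hyN : y ∈ normalizer (S : Set X))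
    (hodd : (orderOf y).Coprime 2) : ∀ z ∈ S, Commute y z := by
  classical
  haveI : NeZero (2 ^ m) := ⟨by positivity⟩
  obtain ⟨a, hae⟩ : ∃ a : S, a = e.symm (r 1) := ⟨_, rfl⟩
  obtain ⟨b, hbe⟩ : ∃ b : S, b = e.symm (sr 0) := ⟨_, rfl⟩
  have hea : e a = r 1 := by rw [hae]; simp
  have heb : e b = sr 0 := by rw [hbe]; simp
  have hao : orderOf (a : X) = 2 ^ m := by
    rw [Subgroup.orderOf_coe, ← MulEquiv.orderOf_eq e, hea, orderOf_r_one]
  have hcardS : Nat.card S = 2 ^ (m + 1) := by
    rw [Nat.card_congr e.toEquiv, nat_card, pow_succ']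
  -- rotations are the powers of `a`
  have hrot1 : ∀ z : S, (∃ i, e z = r i) → (z : X) ∈ zpowers (a : X) := by
    rintro z ⟨i, hi⟩
    have h1 : z = a ^ i.val := by
      apply e.injective
      rw [hi, map_pow, hea, r_one_pow]
      simp
    rw [h1]
    simp only [Subgroup.coe_pow]
    exact pow_mem (mem_zpowers _) _
  have hrot2 : ∀ z : S, (z : X) ∈ zpowers (a : X) → ∃ i, e z = r i := by
    rintro z ⟨k, hk⟩
    have h1 : z = a ^ k := by
      apply Subtype.ext
      simpa using hk.symm
    refine ⟨(k : ZMod (2 ^ m)), ?_⟩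
    rw [h1, map_zpow, hea, r_one_zpow]
  have ha2 : ∀ g ∈ normalizer (S : Set X), g * (a : X) * g⁻¹ ∈ zpowers (a : X) := by
    intro g hg
    have h1 : g * (a : X) * g⁻¹ ∈ S := (mem_normalizer_iff.mp hg _).mp a.2
    apply hrot1 ⟨_, h1⟩
    generalize hw : e ⟨_, h1⟩ = w
    cases w with
    | r i => exact ⟨i, rfl⟩
    | sr i =>
      exfalso
      have h2 : (⟨_, h1⟩ : S) ^ 2 = 1 := by
        apply e.injective
        rw [map_pow, hw, map_one, pow_two, sr_mul_self]
      have h3 : (g * (a : X) * g⁻¹) ^ 2 = 1 := by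
        have := congrArg Subtype.val h2
        simpa using this
      have h4 : (a : X) ^ 2 = 1 := by
        have h5 : (g * (a : X) * g⁻¹) ^ 2 = g * (a : X) ^ 2 * g⁻¹ := by
          rw [conj_pow]
        rw [h5] at h3
        have : g⁻¹ * (g * (a : X) ^ 2 * g⁻¹) * g = (a : X) ^ 2 := by group
        rw [← this, h3]; group
      have h5 := orderOf_dvd_of_pow_eq_one h4
      rw [hao] at h5
      have h6 := Nat.le_of_dvd (by norm_num) h5
      have h7 : 2 ^ 2 ≤ 2 ^ m := Nat.pow_le_pow_right (by norm_num) hm
      omega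
  have hyN' : y ∈ normalizer ((zpowers (a : X) : Subgroup X) : Set X) := by
    have hpow : ∀ g ∈ normalizer (S : Set X), ∀ h ∈ zpowers (a : X), g * h * g⁻¹ ∈ zpowers (a : X) := by
      rintro g hg _ ⟨k, rfl⟩
      have := ha2 g hg
      show g * (a : X) ^ k * g⁻¹ ∈ _
      rw [← conj_zpow]
      exact zpow_mem this k
    rw [mem_normalizer_iff]
    intro h
    constructor
    · exact hpow y hyN h
    · intro hh
      have h1 := hpow y⁻¹ (inv_mem hyN) _ hh
      have h2 : y⁻¹ * (y * h * y⁻¹) * y⁻¹⁻¹ = h := by group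
      rwa [h2] at h1
  have h2grp : IsPGroup 2 (zpowers (a : X)) := by
    apply IsPGroup.of_card (n := m)
    rw [Nat.card_zpowers, hao]
  have hyc := centralizes_of_cyclic (zpowers (a : X)) inferInstance h2grp hyN' hodd
  have hcomm : ∀ c ∈ zpowers (a : X), Commute y c := by
    intro c hc
    exact (mem_centralizer_iff.mp hyc c hc).symm
  -- `y` fixes `b`
  have hbfix : Commute y (b : X) := by
    have h1 : y * (b : X) * y⁻¹ ∈ S := (mem_normalizer_iff.mp hyN _).mp b.2
    have hbnot : (b : X) ∉ zpowers (a : X) := by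
      intro h
      obtain ⟨i, hi⟩ := hrot2 b h
      rw [heb] at hi
      simp at hi
    generalize hw : e ⟨_, h1⟩ = w
    cases w with
    | r i =>
      exfalso
      have h2 := hrot1 ⟨_, h1⟩ ⟨i, hw⟩
      have h3 := hcomm _ h2
      apply hbnot
      have h4 : (b : X) = y * (b : X) * y⁻¹ := by
        have h5 : y * (y * (b : X) * y⁻¹) = (y * (b : X) * y⁻¹) * y := h3
        calc (b : X) = y⁻¹ * ((y * (b : X) * y⁻¹) * y) := by group
          _ = y⁻¹ * (y * (y * (b : X) * y⁻¹)) := by rw [h5]
          _ = y * (b : X) * y⁻¹ := by group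
      rw [h4]; exact h2
    | sr k =>
      obtain ⟨c, hce⟩ : ∃ c : S, c = b⁻¹ * ⟨_, h1⟩ := ⟨_, rfl⟩
      have hcr : e c = r k := by
        have h0 : (sr 0 : DihedralGroup (2 ^ m))⁻¹ = sr 0 := by
          rw [inv_eq_iff_mul_eq_one, sr_mul_self]
        rw [hce, map_mul, hw, map_inv, heb, h0, sr_mul_sr]
        simp
      have hcz := hrot1 c ⟨k, hcr⟩
      have hyc' := hcomm _ hcz
      have hwb : y * (b : X) * y⁻¹ = (b : X) * (c : X) := by
        rw [hce]
        simp
      have hpow : ∀ n : ℕ, y ^ n * (b : X) * (y ^ n)⁻¹ = (b : X) * (c : X) ^ n := by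
        intro n
        induction n with
        | zero => simp
        | succ n ih =>
          have h2 : (c : X) ^ n * y⁻¹ = y⁻¹ * (c : X) ^ n := by
            have := ((hyc'.inv_left).pow_right n).eq
            exact this.symm
          calc y ^ (n + 1) * (b : X) * (y ^ (n + 1))⁻¹
              = y * (y ^ n * (b : X) * (y ^ n)⁻¹) * y⁻¹ := by rw [pow_succ']; group
            _ = y * (b : X) * y⁻¹ * (y * (c : X) ^ n * y⁻¹) := by rw [ih]; group
            _ = (b : X) * (c : X) * (c : X) ^ n := by
                rw [hwb, (hyc'.pow_right n).eq]; group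
            _ = (b : X) * (c : X) ^ (n + 1) := by rw [pow_succ']; group
      have h3 := hpow (orderOf y)
      rw [pow_orderOf_eq_one] at h3
      have h4 : (c : X) ^ orderOf y = 1 := by
        have : (b : X) = (b : X) * (c : X) ^ orderOf y := by simpa using h3
        exact (mul_eq_left.mp this.symm)
      have h5 : orderOf (c : X) ∣ orderOf y := orderOf_dvd_of_pow_eq_one h4
      have h6 : orderOf (c : X) ∣ 2 ^ (m + 1) := by
        rw [Subgroup.orderOf_coe, ← hcardS]
        exact orderOf_dvd_natCard c
      have h7 : orderOf (c : X) = 1 :=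
        Nat.Coprime.eq_one_of_dvd (Nat.Coprime.coprime_dvd_left h5 (Nat.Coprime.pow_right _ hodd)) h6
      have h8 : (c : X) = 1 := orderOf_eq_one_iff.mp h7
      rw [h8, mul_one] at hwb
      show y * (b : X) = (b : X) * y
      calc y * (b : X) = y * (b : X) * y⁻¹ * y := by group
        _ = (b : X) * y := by rw [hwb]
  intro z hz
  generalize hw : e ⟨z, hz⟩ = w
  cases w with
  | r i => exact hcomm z (hrot1 ⟨z, hz⟩ ⟨i, hw⟩)
  | sr i =>
    have h1 : (⟨z, hz⟩ : S) = b * e.symm (r i) := by
      apply e.injective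
      rw [map_mul, hw, heb]
      simp
    have h2 : z = (b : X) * ((e.symm (r i) : S) : X) := congrArg Subtype.val h1
    rw [h2]
    exact hbfix.mul_right (hcomm _ (hrot1 _ ⟨i, by simp⟩))

open Cfsg.Agent.S0106 in
/-- The structure theorem inside a `2`-by-cyclic group. -/
theorem main_X {X : Type*} [Group X] [Finite X] (S : Subgroup X) [S.Normal] (hS2 : IsPGroup 2 S)
    (hidx : S.index.Coprime 2) (hcyc : IsCyclic (X ⧸ S))
    (hS : IsCyclic S ∨ ((∃ m : ℕ, Nonempty (S ≃* DihedralGroup (2 ^ m))) ∧
      ∀ K : Subgroup X, K ≤ S → Nat.card K = 4 → (∀ k ∈ K, k ^ 2 = 1) →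
        centralizer (K : Set X) ≤ K)) :
    IsCyclic X ∨ (∃ n : ℕ, Nonempty (X ≃* DihedralGroup (2 ^ n))) ∨
      Nonempty (X ≃* alternatingGroup (Fin 4)) := by
  classical
  obtain ⟨y, hodd, hX⟩ := exists_odd_gen S hidx hcyc
  have hyN : y ∈ normalizer (S : Set X) := by
    have : normalizer (S : Set X) = ⊤ := Subgroup.normalizer_eq_top S
    rw [this]; trivial
  have hordq : orderOf ((y : X ⧸ S)) = S.index := by
    rw [Subgroup.index_eq_card]
    apply orderOf_eq_card_of_forall_mem_zpowers
    intro q
    obtain ⟨x, rfl⟩ := QuotientGroup.mk_surjective q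
    obtain ⟨i, s, hs, rfl⟩ := hX x
    refine ⟨i, ?_⟩
    simp only [zpow_natCast]
    rw [QuotientGroup.mk_mul, QuotientGroup.mk_pow, (QuotientGroup.eq_one_iff s).mpr hs, mul_one]
  have hidxdvd : S.index ∣ orderOf y := by
    rw [← hordq]
    exact orderOf_map_dvd (QuotientGroup.mk' S) y
  have hcard : Nat.card X = Nat.card S * S.index := (Subgroup.card_mul_index S).symm
  have hcycCase : IsCyclic S → IsCyclic X := by
    intro hSc
    have hyc := centralizes_of_cyclic S hSc hS2 hyN hodd
    obtain ⟨s, hs⟩ := IsCyclic.exists_generator (α := S)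
    have hso : orderOf (s : X) = Nat.card S := by
      rw [Subgroup.orderOf_coe, orderOf_eq_card_of_forall_mem_zpowers hs]
    have hcomm : Commute y (s : X) := (mem_centralizer_iff.mp hyc s s.2).symm
    obtain ⟨k, hk⟩ := IsPGroup.iff_card.mp hS2
    have hco : (orderOf y).Coprime (orderOf (s : X)) := by
      rw [hso, hk]
      exact Nat.Coprime.pow_right _ hodd
    have h1 := hcomm.orderOf_mul_eq_mul_orderOf_of_coprime hco
    apply isCyclic_of_orderOf_eq_card (y * s)
    apply Nat.dvd_antisymm (orderOf_dvd_natCard _)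
    rw [h1, hcard, hso, mul_comm (orderOf y)]
    exact Nat.mul_dvd_mul_left _ hidxdvd
  have hy1 : ∀ k : X, k ^ 2 = 1 → (orderOf k).Coprime 2 → k = 1 := by
    intro k hk hk2
    have h1 : orderOf k ∣ 2 := orderOf_dvd_of_pow_eq_one hk
    exact orderOf_eq_one_iff.mp (Nat.Coprime.eq_one_of_dvd hk2 h1)
  have htop : y = 1 → S = ⊤ := by
    intro h
    rw [eq_top_iff]
    intro x _
    obtain ⟨i, s, hs, rfl⟩ := hX x
    rw [h, one_pow, one_mul]
    exact hs
  have hdih : ∀ {m : ℕ}, S = ⊤ → (S ≃* DihedralGroup (2 ^ m)) →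
      Nonempty (X ≃* DihedralGroup (2 ^ m)) := by
    intro m h e
    exact ⟨(Subgroup.topEquiv.symm.trans (MulEquiv.subgroupCongr h.symm)).trans e⟩
  rcases hS with hSc | ⟨⟨m, ⟨e⟩⟩, hself⟩
  · exact Or.inl (hcycCase hSc)
  obtain hm0 | hm1 | hm2 : m = 0 ∨ m = 1 ∨ 2 ≤ m := by omega
  · subst hm0
    left
    apply hcycCase
    haveI : Fact (Nat.Prime (Nat.card S)) := by
      rw [Nat.card_congr e.toEquiv, nat_card]
      exact ⟨by norm_num⟩
    exact isCyclic_of_prime_card rfl
  · subst hm1
    have hsq : ∀ k ∈ S, k ^ 2 = 1 := by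
      intro k hk
      have h1 : ∀ x : DihedralGroup (2 ^ 1), x ^ 2 = 1 := by decide
      have h2 := h1 (e ⟨k, hk⟩)
      rw [← map_pow, ← map_one e] at h2
      have h3 := e.injective h2
      simpa using congrArg Subtype.val h3
    have hc4 : Nat.card S = 4 := by
      rw [Nat.card_congr e.toEquiv, nat_card]; norm_num
    have hyK : ∀ k ∈ S, y * k * y⁻¹ ∈ S := fun k hk => (mem_normalizer_iff.mp hyN k).mp hk
    rcases four_act S hc4 hsq hyK hodd with hc | ⟨hc3, hcf⟩
    · have h1 : y ∈ S := hself S le_rfl hc4 hsq (mem_centralizer_iff.mpr (fun k hk => (hc k hk).symm))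
      right; left
      exact ⟨1, hdih (htop (hy1 y (hsq y h1) hodd)) e⟩
    · right; right
      have hne : y ≠ 1 := by
        rintro rfl
        obtain ⟨a, ha, ha1⟩ : ∃ a ∈ S, a ≠ 1 := by
          by_contra hcon
          push Not at hcon
          have : S = ⊥ := by
            rw [eq_bot_iff]; intro x hx; exact Subgroup.mem_bot.mpr (hcon x hx)
          rw [this] at hc4
          simp at hc4
        exact hcf a ha ha1 (Commute.one_left _)
      have h1 : y ^ 3 ∈ S := hself S le_rfl hc4 hsq
        (mem_centralizer_iff.mpr (fun k hk => (hc3 k hk).symm))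
      have h2 := hsq _ h1
      rw [← pow_mul] at h2
      have h3 : orderOf y ∣ 3 * 2 := orderOf_dvd_of_pow_eq_one h2
      have h4 : orderOf y ∣ 3 := hodd.dvd_of_dvd_mul_right h3
      have h5 : y ^ 3 = 1 := by
        obtain ⟨c, hc⟩ := h4
        rw [hc, pow_mul, pow_orderOf_eq_one, one_pow]
      have hidx3 : S.index ∣ 3 := hidxdvd.trans h4
      have hidx' : S.index = 3 := by
        rcases (Nat.dvd_prime Nat.prime_three).mp hidx3 with h | h
        · exfalso
          rw [Subgroup.index_eq_one] at h
          have hyS : y ∈ S := by rw [h]; trivial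
          exact hne (hy1 y (hsq y hyS) hodd)
        · exact h
      have h12 : Nat.card X = 12 := by rw [hcard, hc4, hidx']
      refine Cfsg.Agent.S0228.result h12 ?_
      intro z hz hzc
      have hzS : z ∈ S := by
        have h6 : (z : X ⧸ S) ^ 2 = 1 := by
          have h9 : z ^ 2 = 1 := by rw [← hz]; exact pow_orderOf_eq_one z
          rw [← QuotientGroup.mk_pow, h9]; rfl
        have h7 : (z : X ⧸ S) ^ 3 = 1 := by
          have := pow_card_eq_one' (x := (z : X ⧸ S))
          rwa [← Subgroup.index_eq_card, hidx'] at this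
        have h8 : (z : X ⧸ S) = 1 := by
          have h9 : orderOf (z : X ⧸ S) ∣ 1 := by
            have := Nat.dvd_gcd (orderOf_dvd_of_pow_eq_one h6) (orderOf_dvd_of_pow_eq_one h7)
            simpa using this
          exact orderOf_eq_one_iff.mp (Nat.dvd_one.mp h9)
        exact (QuotientGroup.eq_one_iff z).mp h8
      refine hcf z hzS ?_ ?_
      · rintro rfl
        simp at hz
      · exact (Subgroup.mem_center_iff.mp hzc y)
  · haveI : NeZero (2 ^ m) := ⟨by positivity⟩
    have hc := centralizes_dih S hm2 e hyN hodd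
    -- a four-subgroup
    obtain ⟨u, hue⟩ : ∃ u : S, u = e.symm (r ((2 ^ (m - 1) : ℕ) : ZMod (2 ^ m))) := ⟨_, rfl⟩
    obtain ⟨v, hve⟩ : ∃ v : S, v = e.symm (sr 0) := ⟨_, rfl⟩
    have heu : e u = r ((2 ^ (m - 1) : ℕ) : ZMod (2 ^ m)) := by rw [hue]; simp
    have hev : e v = sr 0 := by rw [hve]; simp
    have h2m : (2 ^ m : ℕ) = 2 ^ (m - 1) + 2 ^ (m - 1) := by
      obtain ⟨n, rfl⟩ : ∃ n, m = n + 1 := ⟨m - 1, by omega⟩
      simp [pow_succ]; ring
    have hdbl : (((2 ^ (m - 1) : ℕ) : ZMod (2 ^ m))) + ((2 ^ (m - 1) : ℕ) : ZMod (2 ^ m)) = 0 := by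
      rw [← Nat.cast_add, ← h2m]
      exact ZMod.natCast_self _
    have hu : (u : X) * u = 1 := by
      have : u * u = 1 := by
        apply e.injective
        rw [map_mul, heu, r_mul_r, hdbl, map_one, r_zero]
      simpa using congrArg Subtype.val this
    have hv : (v : X) * v = 1 := by
      have : v * v = 1 := by
        apply e.injective
        rw [map_mul, hev, sr_mul_self, map_one]
      simpa using congrArg Subtype.val this
    have huv : (v : X) * u = u * v := by
      have : v * u = u * v := by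
        apply e.injective
        rw [map_mul, map_mul, heu, hev, sr_mul_r, r_mul_sr]
        congr 1
        rw [eq_sub_iff_add_eq, add_assoc, hdbl]
        simp
      simpa using congrArg Subtype.val this
    have hu1 : (u : X) ≠ 1 := by
      intro h
      have h1 : u = 1 := Subtype.ext h
      rw [h1, map_one, one_def] at heu
      have h2 : (0 : ZMod (2 ^ m)) = ((2 ^ (m - 1) : ℕ) : ZMod (2 ^ m)) := r.inj heu
      have h3 := (ZMod.natCast_eq_zero_iff (2 ^ (m - 1)) (2 ^ m)).mp h2.symm
      have h4 := Nat.le_of_dvd (by positivity) h3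
      omega
    have hv1 : (v : X) ≠ 1 := by
      intro h
      have h1 : v = 1 := Subtype.ext h
      rw [h1, map_one, one_def] at hev
      cases hev
    have hne : (u : X) ≠ v := by
      intro h
      have h1 : u = v := Subtype.ext h
      rw [h1, hev] at heu
      simp at heu
    have hKle : kl (u : X) v hu hv huv ≤ S := by
      rintro k (rfl | rfl | rfl | rfl)
      · exact S.one_mem
      · exact u.2
      · exact v.2
      · exact S.mul_mem u.2 v.2
    have hyK : y ∈ kl (u : X) v hu hv huv := by
      apply hself _ hKle (kl_card _ _ hu hv huv hu1 hv1 hne) (kl_sq _ _ hu hv huv)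
      exact mem_centralizer_iff.mpr (fun k hk => (hc k (hKle hk)).symm)
    have h1 : y = 1 := hy1 y (kl_sq _ _ hu hv huv y hyK) hodd
    right; left
    exact ⟨m, hdih (htop h1) e⟩

theorem le_normal_sylow {X : Type*} [Group X] [Finite X] (S : Sylow 2 X)
    [hn : (S : Subgroup X).Normal] (T : Subgroup X) (hT : IsPGroup 2 T) : T ≤ S := by
  obtain ⟨Q, hQ⟩ := hT.exists_le_sylow
  haveI := Sylow.unique_of_normal S hn
  have : Q = S := Subsingleton.elim _ _
  rwa [this] at hQ


/-- Let G be a finite group with Sylow 2-subgroup P. Every subgroup H of G whose Sylow 2-subgroup is normal in H with cyclic quotient is cyclic, dihedral of 2-power order, or isomorphic to the alternating group of degree 4, if and only if either P is cyclic, or P is dihedral (of order at least 4) and every elementary abelian subgroup K of order 4 of P satisfies C_G(K) = K. -/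
theorem result {G : Type*} [Group G] [Finite G] (P : Sylow 2 G) :
    (∀ H : Subgroup G, (∀ S : Sylow 2 ↥H, (S : Subgroup ↥H).Normal) →
        (∀ (S : Sylow 2 ↥H) [(S : Subgroup ↥H).Normal], IsCyclic (↥H ⧸ (S : Subgroup ↥H))) →
        IsCyclic H ∨ (∃ n : ℕ, Nonempty (H ≃* DihedralGroup (2 ^ n))) ∨ Nonempty (H ≃* alternatingGroup (Fin 4))) ↔
    (IsCyclic P ∨
      ((∃ n : ℕ, 1 ≤ n ∧ Nonempty ((P : Subgroup G) ≃* DihedralGroup (2 ^ n))) ∧
        ∀ K : Subgroup G, K ≤ P → Nat.card K = 4 → (∀ k ∈ K, k ^ 2 = 1) → Subgroup.centralizer (K : Set G) = K)) := by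
  classical
  constructor
  · intro hH
    -- the Sylow subgroup itself
    have htop : ∀ {X : Type _} [Group X] [Finite X] (hX : IsPGroup 2 X) (S : Sylow 2 X),
        (S : Subgroup X) = ⊤ := by
      intro X _ _ hX S
      exact (S.is_maximal' (hX.to_subgroup ⊤) le_top).symm
    have hP2 : IsPGroup 2 (P : Subgroup G) := P.2
    have h1 := hH (P : Subgroup G)
      (fun S => by rw [htop hP2 S]; infer_instance)
      (fun S _ => by
        have h2 := htop hP2 S
        have : Subsingleton (↥(P : Subgroup G) ⧸ (S : Subgroup ↥(P : Subgroup G))) := by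
          rw [QuotientGroup.subsingleton_iff]
          exact h2
        exact isCyclic_of_subsingleton)
    rcases h1 with h1 | ⟨n, ⟨e⟩⟩ | ⟨⟨e⟩⟩
    · exact Or.inl h1
    · obtain rfl | hn : n = 0 ∨ 1 ≤ n := by omega
      · left
        haveI : Fact (Nat.Prime (Nat.card (P : Subgroup G))) := by
          rw [Nat.card_congr e.toEquiv, DihedralGroup.nat_card]
          exact ⟨by norm_num⟩
        exact isCyclic_of_prime_card rfl
      · right
        refine ⟨⟨n, hn, ⟨e⟩⟩, ?_⟩
        intro K hKP hK4 hKsq
        have hKcomm := comm_of_sq K hKsq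
        apply le_antisymm
        · intro x hx
          have hxc : ∀ k ∈ K, k * x = x * k := fun k hk => mem_centralizer_iff.mp hx k hk
          let H : Subgroup G := closure ((K : Set G) ∪ {x})
          have hKH : K ≤ H := fun k hk => subset_closure (Or.inl hk)
          have hxH : x ∈ H := subset_closure (Or.inr rfl)
          have hHc : ∀ a ∈ H, ∀ b ∈ H, a * b = b * a := by
            have hgen : ∀ a ∈ ((K : Set G) ∪ {x}), ∀ b ∈ ((K : Set G) ∪ {x}), a * b = b * a := by
              rintro a (ha | ha) b (hb | hb)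
              · exact hKcomm a ha b hb
              · rw [Set.mem_singleton_iff.mp hb]; exact hxc a ha
              · rw [Set.mem_singleton_iff.mp ha]; exact (hxc b hb).symm
              · rw [Set.mem_singleton_iff.mp ha, Set.mem_singleton_iff.mp hb]
            have hcl := isMulCommutative_closure hgen
            intro a ha b hb
            exact congrArg Subtype.val (hcl.is_comm.comm ⟨a, ha⟩ ⟨b, hb⟩)
          have hHc' : ∀ a b : H, a * b = b * a := fun a b =>
            Subtype.ext (hHc a a.2 b b.2)
          have hnorm : ∀ S : Subgroup H, S.Normal := by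
            intro S
            refine ⟨fun n hn g => ?_⟩
            rw [hHc' g n, mul_assoc, mul_inv_cancel, mul_one]
            exact hn
          have hK'2 : IsPGroup 2 (K.subgroupOf H) := by
            apply IsPGroup.of_card (n := 2)
            rw [Nat.card_congr (Subgroup.subgroupOfEquivOfLe hKH).toEquiv, hK4]
            norm_num
          have hK'4 : Nat.card (K.subgroupOf H) = 4 := by
            rw [Nat.card_congr (Subgroup.subgroupOfEquivOfLe hKH).toEquiv, hK4]
          have h3 := hH H (fun S => hnorm _) (fun S _ => by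
            have hle := le_normal_sylow S _ hK'2
            rw [isCyclic_iff_exists_zpowers_eq_top]
            refine ⟨((⟨x, hxH⟩ : H) : H ⧸ (S : Subgroup H)), ?_⟩
            rw [eq_top_iff]
            rintro q -
            obtain ⟨⟨h, hh⟩, rfl⟩ := QuotientGroup.mk_surjective q
            revert hh
            intro hh
            induction hh using Subgroup.closure_induction with
            | mem z hz =>
              rcases hz with hz | hz
              · have h5 : (⟨z, subset_closure (Or.inl hz)⟩ : H) ∈ (S : Subgroup H) :=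
                  hle (Subgroup.mem_subgroupOf.mpr hz)
                have h6 := (QuotientGroup.eq_one_iff _).mpr h5
                rw [h6]
                exact one_mem _
              · have hzx := Set.mem_singleton_iff.mp hz
                have h7 : ∀ (w : H), (w : G) = x →
                    ((w : H) : H ⧸ (S : Subgroup H)) ∈ zpowers ((⟨x, hxH⟩ : H) : H ⧸ (S : Subgroup H)) := by
                  intro w hw
                  have h8 : w = ⟨x, hxH⟩ := Subtype.ext hw
                  rw [h8]
                  exact mem_zpowers _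
                exact h7 _ hzx
            | one =>
              have h6 : ((⟨1, one_mem _⟩ : H) : H ⧸ (S : Subgroup H)) = 1 := rfl
              rw [h6]; exact one_mem _
            | mul a b ha hb iha ihb =>
              have h6 : ((⟨a * b, mul_mem ha hb⟩ : H) : H ⧸ (S : Subgroup H)) =
                  ((⟨a, ha⟩ : H) : H ⧸ (S : Subgroup H)) * ((⟨b, hb⟩ : H) : H ⧸ (S : Subgroup H)) := rfl
              rw [h6]; exact mul_mem iha ihb
            | inv a ha iha =>
              have h6 : ((⟨a⁻¹, inv_mem ha⟩ : H) : H ⧸ (S : Subgroup H)) =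
                  ((⟨a, ha⟩ : H) : H ⧸ (S : Subgroup H))⁻¹ := rfl
              rw [h6]; exact inv_mem iha)
          have hnotcyc : ¬ IsCyclic H := by
            intro hc
            haveI : IsCyclic (K.subgroupOf H) := inferInstance
            obtain ⟨g, hg⟩ := IsCyclic.exists_generator (α := K.subgroupOf H)
            have h4 : orderOf g = 4 := by
              rw [orderOf_eq_card_of_forall_mem_zpowers hg, hK'4]
            have h5 : g ^ 2 = 1 := by
              apply Subtype.ext
              apply Subtype.ext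
              have := hKsq ((g : H) : G) (Subgroup.mem_subgroupOf.mp g.2)
              simpa using this
            have h6 := orderOf_dvd_of_pow_eq_one h5
            rw [h4] at h6
            omega
          rcases h3 with h3 | ⟨n', ⟨e'⟩⟩ | ⟨⟨e'⟩⟩
          · exact absurd h3 hnotcyc
          · have hcomm : IsMulCommutative (DihedralGroup (2 ^ n')) := by
              refine ⟨⟨fun a b => ?_⟩⟩
              apply e'.symm.injective
              rw [map_mul, map_mul, hHc']
            have h6 := DihedralGroup.commutative_iff.mp hcomm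
            have h7 : Nat.card H ≤ 4 := by
              rw [Nat.card_congr e'.toEquiv, DihedralGroup.nat_card]
              omega
            have h8 : K.subgroupOf H = ⊤ := by
              apply Subgroup.eq_top_of_le_card
              rw [hK'4]; exact h7
            have h9 : (⟨x, hxH⟩ : H) ∈ K.subgroupOf H := by rw [h8]; trivial
            exact Subgroup.mem_subgroupOf.mp h9
          · exfalso
            have hnc : ¬ ∀ a b : alternatingGroup (Fin 4), a * b = b * a := by decide +kernel
            apply hnc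
            intro a b
            apply e'.symm.injective
            rw [map_mul, map_mul, hHc']
        · intro k hk
          exact mem_centralizer_iff.mpr (fun a ha => hKcomm a ha k hk)
    · exfalso
      have h1 : Nat.card (P : Subgroup G) = 12 := by
        rw [Nat.card_congr e.toEquiv, Nat.card_eq_fintype_card]
        decide +kernel
      obtain ⟨k, hk⟩ := IsPGroup.iff_card.mp hP2
      rw [h1] at hk
      have h3 : 3 ∣ 2 ^ k := by rw [← hk]; norm_num
      have := Nat.Prime.dvd_of_dvd_pow Nat.prime_three h3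
      omega
  · intro hP H hN hC
    obtain ⟨S₀⟩ : Nonempty (Sylow 2 H) := inferInstance
    haveI := hN S₀
    have hc := hC S₀
    have hidx : (S₀ : Subgroup H).index.Coprime 2 :=
      Nat.Coprime.symm ((Nat.Prime.coprime_iff_not_dvd Nat.prime_two).mpr S₀.not_dvd_index)
    apply main_X (S₀ : Subgroup H) S₀.2 hidx hc
    have hT : IsPGroup 2 ((S₀ : Subgroup H).map H.subtype) := S₀.2.map H.subtype
    obtain ⟨Q, hQ⟩ := hT.exists_le_sylow
    let φ₁ : (S₀ : Subgroup H) →* (Q : Subgroup G) :=
      { toFun := fun x => ⟨((x : H) : G), hQ ⟨x, x.2, rfl⟩⟩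
        map_one' := rfl
        map_mul' := fun _ _ => rfl }
    have hφ₁ : Function.Injective φ₁ := by
      intro a b hab
      have := congrArg Subtype.val hab
      exact Subtype.ext (Subtype.ext this)
    let φ : (S₀ : Subgroup H) →* (P : Subgroup G) := (Sylow.equiv Q P).toMonoidHom.comp φ₁
    have hφ : Function.Injective φ := (Sylow.equiv Q P).injective.comp hφ₁
    rcases hP with hPc | ⟨⟨n, hn, ⟨e⟩⟩, hself⟩
    · left
      exact isCyclic_of_injective φ hφ
    · let ψ : (S₀ : Subgroup H) →* DihedralGroup (2 ^ n) := e.toMonoidHom.comp φ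
      have hψ : Function.Injective ψ := e.injective.comp hφ
      have eψ := MonoidHom.ofInjective hψ
      rcases dih_sub ψ.range with h1 | ⟨m, ⟨e2⟩⟩
      · left
        exact isCyclic_of_injective eψ.toMonoidHom eψ.injective
      · right
        refine ⟨⟨m, ⟨eψ.trans e2⟩⟩, ?_⟩
        intro K hKS hK4 hKsq x hx
        obtain ⟨g, hg⟩ := MulAction.exists_smul_eq G P Q
        have hgmem : ∀ k ∈ (Q : Subgroup G), g⁻¹ * k * g ∈ (P : Subgroup G) := by
          intro k hk
          rw [← hg, Sylow.coe_subgroup_smul, Subgroup.mem_pointwise_smul_iff_inv_smul_mem] at hk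
          simpa using hk
        let K₁ : Subgroup G := (K.map H.subtype).map (MulAut.conj g⁻¹).toMonoidHom
        have hK₁P : K₁ ≤ P := by
          rintro _ ⟨_, ⟨k, hk, rfl⟩, rfl⟩
          have := hgmem _ (hQ ⟨k, hKS hk, rfl⟩)
          simpa using this
        have hK₁4 : Nat.card K₁ = 4 := by
          rw [Subgroup.card_map_of_injective (MulAut.conj g⁻¹).injective,
            Subgroup.card_map_of_injective H.subtype_injective, hK4]
        have hK₁sq : ∀ k ∈ K₁, k ^ 2 = 1 := by
          rintro _ ⟨_, ⟨k, hk, rfl⟩, rfl⟩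
          have h1 := hKsq k hk
          have h2 : ((k : H) : G) ^ 2 = 1 := by
            simpa using congrArg Subtype.val h1
          show (MulAut.conj g⁻¹ ((k : H) : G)) ^ 2 = 1
          rw [← map_pow, h2, map_one]
        have h5 := hself K₁ hK₁P hK₁4 hK₁sq
        have h6 : MulAut.conj g⁻¹ (x : G) ∈ centralizer (K₁ : Set G) := by
          rw [mem_centralizer_iff]
          rintro _ ⟨_, ⟨k, hk, rfl⟩, rfl⟩
          have h7 := mem_centralizer_iff.mp hx k hk
          have h8 : ((k : H) : G) * x = x * k := congrArg Subtype.val h7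
          show MulAut.conj g⁻¹ ((k : H) : G) * MulAut.conj g⁻¹ (x : G) =
            MulAut.conj g⁻¹ (x : G) * MulAut.conj g⁻¹ ((k : H) : G)
          rw [← map_mul, ← map_mul, h8]
        rw [h5] at h6
        obtain ⟨_, ⟨k, hk, rfl⟩, h9⟩ := h6
        have h10 : ((k : H) : G) = x := (MulAut.conj g⁻¹).injective h9
        have h11 : k = x := Subtype.ext h10
        rwa [← h11]

end Cfsg.Agent.S4083
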