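import Cfsg.Statements.S3739
import Mathlib
import Cfsg.Agent.S4083
import Cfsg.Agent.S0121
import Cfsg.Agent.Lib.PGroup.AnisoQuad
import Cfsg.Agent.Lib.PGroup.Critical
import Cfsg.Agent.Lib.PGroup.Basic
import Cfsg.Agent.Lib.Basic.PCore

set_option autoImplicit false
open Cfsg

namespace Cfsg.Agent.S3739

open Subgroup Cfsg.Agent.S4083

/-- Permutations of order dividing three. -/
theorem card_mod_three {α : Type*} [Finite α] (f : α → α) (hf : ∀ x, f (f (f x)) = x) :
    Nat.card α ≡ Nat.card {x // f x = x} [MOD 3] := by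
  classical
  haveI := Fintype.ofFinite α
  have h := Equiv.Perm.card_fixedPoints_modEq (p := 3) (n := 1) (f := (f : Function.End α))
    (by
      funext x
      show f (f (f x)) = x
      exact hf x)
  rw [Nat.card_eq_fintype_card]
  have h2 : Nat.card {x // f x = x} = Fintype.card (Function.fixedPoints (f : Function.End α)) := by
    rw [Nat.card_eq_fintype_card]
    exact Fintype.card_congr (Equiv.refl _)
  rw [h2]
  exact h

theorem ncard_mod_three {G : Type*} [Group G] [Finite G] (T : Set G) (y : G) (hy : y ^ 3 = 1)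
    (hT : ∀ x ∈ T, y * x * y⁻¹ ∈ T) :
    T.ncard ≡ (T ∩ {x | y * x = x * y}).ncard [MOD 3] := by
  classical
  let f : T → T := fun x => ⟨y * x * y⁻¹, hT x x.2⟩
  have hf : ∀ x, f (f (f x)) = x := by
    intro x
    apply Subtype.ext
    show y * (y * (y * (x : G) * y⁻¹) * y⁻¹) * y⁻¹ = x
    have h1 : y * y * y = 1 := by
      rw [← hy, pow_succ, pow_two]
    calc y * (y * (y * (x : G) * y⁻¹) * y⁻¹) * y⁻¹ = (y * y * y) * x * (y * y * y)⁻¹ := by group
      _ = x := by rw [h1]; group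
  have h := card_mod_three f hf
  rw [Nat.card_coe_set_eq] at h
  have h2 : Nat.card {x // f x = x} = (T ∩ {x | y * x = x * y}).ncard := by
    rw [← Nat.card_coe_set_eq]
    apply Nat.card_congr
    refine
      { toFun := fun x => ⟨x.1.1, x.1.2, ?_⟩
        invFun := fun x => ⟨⟨x.1, x.2.1⟩, ?_⟩
        left_inv := fun x => rfl
        right_inv := fun x => rfl }
    · have h3 : y * (x.1 : G) * y⁻¹ = x.1 := congrArg Subtype.val x.2
      show y * (x.1 : G) = x.1 * y
      calc y * (x.1 : G) = y * (x.1 : G) * y⁻¹ * y := by group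
        _ = x.1 * y := by rw [h3]
    · apply Subtype.ext
      show y * (x.1 : G) * y⁻¹ = x.1
      have h3 : y * (x.1 : G) = x.1 * y := x.2.2
      rw [h3]; group
  rw [h2] at h
  exact h

/-- The counting argument. -/
theorem count_final {G : Type*} [Group G] [Finite G] (W D : Subgroup G) [W.Normal] [D.Normal]
    (hWD : W ≤ D) (hcardW : Nat.card W = 4) (hW2 : ∀ w ∈ W, w ^ 2 = 1)
    (hWc : ∀ w ∈ W, ∀ x ∈ D, w * x = x * w)
    (hDsq : ∀ x ∈ D, x ^ 2 ∈ W) (hDani : ∀ x ∈ D, x ^ 2 = 1 → x ∈ W)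
    (hD64 : Nat.card D ≤ 64) (hD2 : ∃ k, Nat.card D = 2 ^ k)
    (d y : G) (hdfree : ∀ k ∈ W, k ≠ 1 → ¬ Commute d k) (hdodd : (orderOf d).Coprime 2)
    (hyW : ∀ k ∈ W, Commute y k) (hy3 : y ^ 3 = 1) : ∀ x ∈ D, Commute y x := by
  classical
  have hcomm := comm_of_sq W hW2
  obtain ⟨a, ha, ha1⟩ : ∃ a ∈ W, a ≠ 1 := by
    by_contra hcon
    push Not at hcon
    have : W = ⊥ := by
      rw [eq_bot_iff]; intro x hx; exact Subgroup.mem_bot.mpr (hcon x hx)
    rw [this] at hcardW
    simp at hcardW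
  have hconjW : ∀ (g k : G), k ∈ W → g * k * g⁻¹ ∈ W := fun g k hk =>
    Subgroup.Normal.conj_mem inferInstance k hk g
  have hconjD : ∀ (g k : G), k ∈ D → g * k * g⁻¹ ∈ D := fun g k hk =>
    Subgroup.Normal.conj_mem inferInstance k hk g
  have hconj1 : ∀ {g k : G}, k ≠ 1 → g * k * g⁻¹ ≠ 1 := by
    intro g k hk h
    apply hk
    have : g⁻¹ * (g * k * g⁻¹) * g = k := by group
    rw [← this, h]; group
  have hcom : ∀ {k : G}, d * k * d⁻¹ = k → Commute d k := by
    intro k h
    show d * k = k * d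
    calc d * k = d * k * d⁻¹ * d := by group
      _ = k * d := by rw [h]
  -- the three involutions
  obtain ⟨c₂, hc₂⟩ : ∃ c, c = d * a * d⁻¹ := ⟨_, rfl⟩
  obtain ⟨c₃, hc₃⟩ : ∃ c, c = d * c₂ * d⁻¹ := ⟨_, rfl⟩
  have hc₂W : c₂ ∈ W := by rw [hc₂]; exact hconjW _ _ ha
  have hc₃W : c₃ ∈ W := by rw [hc₃]; exact hconjW _ _ hc₂W
  have hc₂1 : c₂ ≠ 1 := by rw [hc₂]; exact hconj1 ha1
  have hc₃1 : c₃ ≠ 1 := by rw [hc₃]; exact hconj1 hc₂1
  have h12 : a ≠ c₂ := by
    intro h
    apply hdfree a ha ha1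
    apply hcom
    rw [← hc₂, h]
  have h23 : c₂ ≠ c₃ := by
    intro h
    apply hdfree c₂ hc₂W hc₂1
    apply hcom
    rw [← hc₃, h]
  have h13 : a ≠ c₃ := by
    intro h
    apply hdfree a ha ha1
    apply commute_of_sq hdodd
    show d ^ 2 * a = a * d ^ 2
    rw [pow_two]
    calc d * d * a = d * (d * a * d⁻¹) * d⁻¹ * (d * d) := by group
      _ = a * (d * d) := by rw [← hc₂, ← hc₃, ← h]
  have hne12 : a * c₂ ≠ 1 := by
    intro h
    apply h12
    have h3 : c₂ * c₂ = 1 := by rw [← pow_two]; exact hW2 _ hc₂W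
    calc a = a * (c₂ * c₂) := by rw [h3, mul_one]
      _ = c₂ := by rw [← mul_assoc, h, one_mul]
  have hen := four_elems W hcardW ha hc₂W ha1 hc₂1 h12 hne12
  have hc₃e : c₃ = a * c₂ := by
    rcases hen c₃ hc₃W with h | h | h | h
    · exact absurd h hc₃1
    · exact absurd h.symm h13
    · exact absurd h.symm h23
    · exact h
  have hen3 : ∀ k ∈ W, k = 1 ∨ k = a ∨ k = c₂ ∨ k = c₃ := by
    intro k hk
    rw [hc₃e]
    exact hen k hk
  let L : G → Set G := fun c => {x | x ∈ D ∧ x ^ 2 = c}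
  have hLconj : ∀ c, (L (d * c * d⁻¹)).ncard = (L c).ncard := by
    intro c
    have himg : L (d * c * d⁻¹) = (fun x => d * x * d⁻¹) '' L c := by
      ext x
      constructor
      · rintro ⟨hx, hx2⟩
        refine ⟨d⁻¹ * x * d, ⟨?_, ?_⟩, by group⟩
        · have := hconjD d⁻¹ x hx
          simpa using this
        · have h : (d⁻¹ * x * d) ^ 2 = d⁻¹ * x ^ 2 * d := by
            rw [pow_two, pow_two]; group
          rw [h, hx2]; group
      · rintro ⟨z, ⟨hz, hz2⟩, rfl⟩
        refine ⟨hconjD _ _ hz, ?_⟩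
        rw [conj_pow, hz2]
    rw [himg]
    exact Set.ncard_image_of_injective _ (fun x y h => by simpa using h)
  have hl2 : (L c₂).ncard = (L a).ncard := by rw [hc₂]; exact hLconj a
  have hl3 : (L c₃).ncard = (L a).ncard := by rw [hc₃, hLconj c₂, hl2]
  obtain ⟨l, hl⟩ : ∃ l, l = (L a).ncard := ⟨_, rfl⟩
  rw [← hl] at hl2 hl3
  let F : Subgroup G :=
    { carrier := {x | x ∈ D ∧ y * x = x * y}
      one_mem' := ⟨D.one_mem, by simp⟩
      mul_mem' := fun {p q} hp hq => ⟨D.mul_mem hp.1 hq.1, (Commute.mul_right hp.2 hq.2)⟩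
      inv_mem' := fun {p} hp => ⟨D.inv_mem hp.1, (Commute.inv_right hp.2)⟩ }
  have hFm : ∀ x, x ∈ F ↔ x ∈ D ∧ y * x = x * y := fun x => Iff.rfl
  let Lf : G → Set G := fun c => L c ∩ {x | y * x = x * y}
  have hWF : ∀ k ∈ W, k ∈ F := fun k hk => ⟨hWD hk, hyW k hk⟩
  have h1ne : ∀ c, c ∈ W → c ≠ 1 → Disjoint (W : Set G) (L c) := by
    intro c _ hc1
    rw [Set.disjoint_left]
    rintro x hx ⟨-, hx2⟩
    exact hc1 (hx2 ▸ hW2 x hx)
  have hLd : ∀ c c' : G, c ≠ c' → Disjoint (L c) (L c') := by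
    intro c c' hcc
    rw [Set.disjoint_left]
    rintro x ⟨-, hx⟩ ⟨-, hx'⟩
    exact hcc (hx.symm.trans hx')
  have hDpart : (D : Set G) = (W : Set G) ∪ (L a ∪ (L c₂ ∪ L c₃)) := by
    ext x
    constructor
    · intro hx
      by_cases hx1 : x ^ 2 = 1
      · exact Or.inl (hDani x hx hx1)
      · right
        rcases hen3 _ (hDsq x hx) with h | h | h | h
        · exact absurd h hx1
        · exact Or.inl ⟨hx, h⟩
        · exact Or.inr (Or.inl ⟨hx, h⟩)
        · exact Or.inr (Or.inr ⟨hx, h⟩)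
    · rintro (h | h | h | h)
      · exact hWD h
      · exact h.1
      · exact h.1
      · exact h.1
  have hFpart : (F : Set G) = (W : Set G) ∪ (Lf a ∪ (Lf c₂ ∪ Lf c₃)) := by
    ext x
    constructor
    · rintro ⟨hx, hxc⟩
      have h0 : x ∈ (D : Set G) := hx
      rw [hDpart] at h0
      rcases h0 with h | h | h | h
      · exact Or.inl h
      · exact Or.inr (Or.inl ⟨h, hxc⟩)
      · exact Or.inr (Or.inr (Or.inl ⟨h, hxc⟩))
      · exact Or.inr (Or.inr (Or.inr ⟨h, hxc⟩))
    · rintro (h | h | h | h)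
      · exact hWF x h
      · exact ⟨h.1.1, h.2⟩
      · exact ⟨h.1.1, h.2⟩
      · exact ⟨h.1.1, h.2⟩
  have hWncard : (W : Set G).ncard = 4 := by
    rw [← Nat.card_coe_set_eq]; exact hcardW
  have hDn : Nat.card D = 4 + (l + (l + l)) := by
    have h0 : Nat.card D = (D : Set G).ncard := by
      rw [← Nat.card_coe_set_eq]; rfl
    rw [h0, hDpart, Set.ncard_union_eq _ (Set.toFinite _) (Set.toFinite _),
      Set.ncard_union_eq _ (Set.toFinite _) (Set.toFinite _),
      Set.ncard_union_eq _ (Set.toFinite _) (Set.toFinite _), hWncard, ← hl, hl2, hl3]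
    · exact hLd _ _ h23
    · rw [Set.disjoint_union_right]
      exact ⟨hLd _ _ h12, hLd _ _ h13⟩
    · rw [Set.disjoint_union_right, Set.disjoint_union_right]
      exact ⟨h1ne _ ha ha1, h1ne _ hc₂W hc₂1, h1ne _ hc₃W hc₃1⟩
  have hFn : Nat.card F = 4 + ((Lf a).ncard + ((Lf c₂).ncard + (Lf c₃).ncard)) := by
    have h0 : Nat.card F = (F : Set G).ncard := by
      rw [← Nat.card_coe_set_eq]; rfl
    have hsub : ∀ c c', Disjoint (L c) (L c') → Disjoint (Lf c) (Lf c') := fun c c' h =>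
      h.mono Set.inter_subset_left Set.inter_subset_left
    have hsub' : ∀ c, Disjoint (W : Set G) (L c) → Disjoint (W : Set G) (Lf c) := fun c h =>
      h.mono_right Set.inter_subset_left
    rw [h0, hFpart, Set.ncard_union_eq _ (Set.toFinite _) (Set.toFinite _),
      Set.ncard_union_eq _ (Set.toFinite _) (Set.toFinite _),
      Set.ncard_union_eq _ (Set.toFinite _) (Set.toFinite _), hWncard]
    · exact hsub _ _ (hLd _ _ h23)
    · rw [Set.disjoint_union_right]
      exact ⟨hsub _ _ (hLd _ _ h12), hsub _ _ (hLd _ _ h13)⟩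
    · rw [Set.disjoint_union_right, Set.disjoint_union_right]
      exact ⟨hsub' _ (h1ne _ ha ha1), hsub' _ (h1ne _ hc₂W hc₂1), hsub' _ (h1ne _ hc₃W hc₃1)⟩
  -- the action of `y`
  have hLy : ∀ c ∈ W, ∀ x ∈ L c, y * x * y⁻¹ ∈ L c := by
    rintro c hc x ⟨hx, hx2⟩
    refine ⟨hconjD _ _ hx, ?_⟩
    rw [conj_pow, hx2, (hyW c hc).eq]
    group
  have hLmod : ∀ c ∈ W, (L c).ncard ≡ (Lf c).ncard [MOD 3] := fun c hc =>
    ncard_mod_three (L c) y hy3 (hLy c hc)
  have hDmod : Nat.card D ≡ Nat.card F [MOD 3] := by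
    have h0 : Nat.card D = (D : Set G).ncard := by
      rw [← Nat.card_coe_set_eq]; rfl
    have h1 : Nat.card F = (F : Set G).ncard := by
      rw [← Nat.card_coe_set_eq]; rfl
    rw [h0, h1]
    exact ncard_mod_three (D : Set G) y hy3 (fun x hx => hconjD _ _ hx)
  have hcoset : ∀ c ∈ W, ∀ x ∈ Lf c, 4 ≤ (Lf c).ncard := by
    rintro c hc x ⟨⟨hx, hx2⟩, hxy⟩
    have hsubs : (fun w => x * w) '' (W : Set G) ⊆ Lf c := by
      rintro _ ⟨w, hw, rfl⟩
      refine ⟨⟨D.mul_mem hx (hWD hw), ?_⟩, ?_⟩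
      · have h1 : Commute x w := (hWc w hw x hx).symm
        show (x * w) ^ 2 = c
        rw [h1.mul_pow, hW2 w hw, mul_one]
        exact hx2
      · exact Commute.mul_right hxy (hyW w hw)
    have h1 := Set.ncard_le_ncard hsubs (Set.toFinite _)
    rwa [Set.ncard_image_of_injective _ (mul_right_injective x), hWncard] at h1
  have hFD : F = D → ∀ x ∈ D, Commute y x := by
    intro h x hx
    have : x ∈ F := by rw [h]; exact hx
    exact this.2
  obtain ⟨k, hk⟩ := hD2
  have hFle : F ≤ D := fun x hx => hx.1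
  have hFdvd : Nat.card F ∣ Nat.card D := Subgroup.card_dvd_of_le hFle
  have hk6 : k ≤ 6 := by
    by_contra hcon
    have h7 : 2 ^ 7 ≤ 2 ^ k := Nat.pow_le_pow_right (by norm_num) (by omega)
    omega
  have hfne : ∀ c ∈ W, (L c).ncard = l → ¬ 3 ∣ l → 4 ≤ (Lf c).ncard := by
    intro c hc hcl h3
    have h1 := hLmod c hc
    rw [hcl] at h1
    have h2 : (Lf c) ≠ ∅ := by
      intro h
      rw [h, Set.ncard_empty] at h1
      exact h3 (Nat.modEq_zero_iff_dvd.mp h1)
    obtain ⟨x, hx⟩ := Set.nonempty_iff_ne_empty.mpr h2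
    exact hcoset c hc x hx
  have hm1 := hLmod a ha
  have hm2 := hLmod c₂ hc₂W
  have hm3 := hLmod c₃ hc₃W
  rw [← hl] at hm1
  rw [hl2] at hm2
  rw [hl3] at hm3
  unfold Nat.ModEq at hm1 hm2 hm3 hDmod
  have hk' : 4 + (l + (l + l)) = 2 ^ k := hDn.symm.trans hk
  interval_cases k
  · norm_num at hk'; omega
  · norm_num at hk'; omega
  · -- `D = W`
    intro x hx
    have h1 : W = D := by
      apply Subgroup.eq_of_le_of_card_ge hWD
      rw [hk, hcardW]
      norm_num
    rw [← h1] at hx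
    exact hyW x hx
  · norm_num at hk'; omega
  · have hl4 : l = 4 := by norm_num at hk'; omega
    apply hFD
    apply Subgroup.eq_of_le_of_card_ge hFle
    have h3 : ¬ 3 ∣ l := by rw [hl4]; norm_num
    have h1 := hfne a ha hl.symm h3
    have h2 := hfne c₂ hc₂W hl2 h3
    have h4 := hfne c₃ hc₃W hl3 h3
    rw [hFn, hk]
    omega
  · norm_num at hk'; omega
  · have hl20 : l = 20 := by norm_num at hk'; omega
    apply hFD
    apply Subgroup.eq_of_le_of_card_ge hFle
    have h3 : ¬ 3 ∣ l := by rw [hl20]; norm_num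
    have h1 := hfne a ha hl.symm h3
    have h2 := hfne c₂ hc₂W hl2 h3
    have h4 := hfne c₃ hc₃W hl3 h3
    have h5 : 19 ≤ Nat.card F := by omega
    rw [hk] at hFdvd hDmod ⊢
    obtain ⟨j, hj, hj2⟩ := (Nat.dvd_prime_pow Nat.prime_two).mp hFdvd
    rw [hj2] at h5 hDmod ⊢
    interval_cases j <;> revert h5 hDmod <;> norm_num

/-- Adjoining a central involution to a subgroup of exponent two. -/
theorem adjoin {G : Type*} [Group G] [Finite G] (A : Subgroup G) (hA2 : ∀ a ∈ A, a ^ 2 = 1) (s : G)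
    (hs : s ^ 2 = 1) (hsA : s ∉ A) (hc : ∀ a ∈ A, s * a = a * s) :
    ∃ E : Subgroup G, (∀ e ∈ E, e ^ 2 = 1) ∧ Nat.card E = 2 * Nat.card A := by
  classical
  have hss : s * s = 1 := by rw [← pow_two]; exact hs
  have hsi : s⁻¹ = s := inv_eq_of_mul_eq_one_left hss
  have hcE : ∀ x, x * s ∈ A → s * x = x * s := by
    intro x hx
    have h1 := hc _ hx
    rw [← mul_assoc] at h1
    exact mul_right_cancel h1
  let E : Subgroup G :=
    { carrier := {x | x ∈ A ∨ x * s ∈ A}
      one_mem' := Or.inl A.one_mem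
      mul_mem' := by
        rintro x y (hx | hx) (hy | hy)
        · exact Or.inl (A.mul_mem hx hy)
        · exact Or.inr (by rw [mul_assoc]; exact A.mul_mem hx hy)
        · right
          have h1 : x * y * s = x * s * y := by
            rw [mul_assoc, mul_assoc, hc y hy]
          rw [h1]
          exact A.mul_mem hx hy
        · left
          have h3 : x * y = (x * s) * (y * s) := by
            calc x * y = x * y * (s * s) := by rw [hss, mul_one]
              _ = x * (y * s) * s := by simp only [mul_assoc]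
              _ = x * (s * y) * s := by rw [hcE y hy]
              _ = (x * s) * (y * s) := by simp only [mul_assoc]
          rw [h3]
          exact A.mul_mem hx hy
      inv_mem' := by
        rintro x (hx | hx)
        · exact Or.inl (A.inv_mem hx)
        · right
          have h1 : x⁻¹ * s = (x * s)⁻¹ := by
            rw [mul_inv_rev, hsi]
            have h2 := hcE x hx
            have h3 : s * x⁻¹ = x⁻¹ * s := Commute.inv_right (show Commute s x from h2)
            exact h3.symm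
          rw [h1]
          exact A.inv_mem hx }
  have hEm : ∀ x, x ∈ E ↔ x ∈ A ∨ x * s ∈ A := fun x => Iff.rfl
  have hsE : s ∈ E := Or.inr (by rw [hss]; exact A.one_mem)
  have hAE : A ≤ E := fun x hx => Or.inl hx
  refine ⟨E, ?_, ?_⟩
  · rintro e (he | he)
    · exact hA2 e he
    · have h1 := hA2 _ he
      have h2 : Commute e s := (hcE e he).symm
      rw [h2.mul_pow, hs, mul_one] at h1
      exact h1
  · have hidx : (A.subgroupOf E).index = 2 := by
      rw [Subgroup.index_eq_two_iff]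
      refine ⟨⟨s, hsE⟩, fun b => ?_⟩
      by_cases hb : (b : G) ∈ A
      · right
        refine ⟨Subgroup.mem_subgroupOf.mpr hb, ?_⟩
        intro h
        apply hsA
        have h1 : (b : G) * s ∈ A := Subgroup.mem_subgroupOf.mp h
        have h2 := A.mul_mem (A.inv_mem hb) h1
        simpa using h2
      · left
        refine ⟨?_, fun h => hb (Subgroup.mem_subgroupOf.mp h)⟩
        apply Subgroup.mem_subgroupOf.mpr
        exact ((hEm _).mp b.2).resolve_left hb
    have h1 := (A.subgroupOf E).card_mul_index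
    rw [hidx, Nat.card_congr (Subgroup.subgroupOfEquivOfLe hAE).toEquiv] at h1
    rw [← h1, mul_comm]

/-- A commutator identity in class two. -/
theorem comm_sq_id {G : Type*} [Group G] {a b c : G} (hc : c = a * b * a⁻¹ * b⁻¹)
    (hca : Commute c a) : a * a * b * (a * a)⁻¹ * b⁻¹ = c * c := by
  have h1 : a * b = c * b * a := by rw [hc]; group
  have h2 : a * c = c * a := hca.eq.symm
  calc a * a * b * (a * a)⁻¹ * b⁻¹ = a * (a * b) * a⁻¹ * a⁻¹ * b⁻¹ := by group
    _ = a * (c * b * a) * a⁻¹ * a⁻¹ * b⁻¹ := by rw [h1]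
    _ = (a * c) * b * a⁻¹ * b⁻¹ := by group
    _ = (c * a) * b * a⁻¹ * b⁻¹ := by rw [h2]
    _ = c * (a * b * a⁻¹ * b⁻¹) := by group
    _ = c * c := by rw [← hc]

theorem sq_mul_id {G : Type*} [Group G] {a b c : G} (hc : c = b * a * b⁻¹ * a⁻¹)
    (hca : Commute c a) (hcb : Commute c b) : (a * b) ^ 2 = c * (a ^ 2 * b ^ 2) := by
  have h1 : b * a = c * a * b := by rw [hc]; group
  calc (a * b) ^ 2 = a * (b * a) * b := by rw [pow_two]; group
    _ = a * (c * a * b) * b := by rw [h1]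
    _ = (a * c) * a * b * b := by simp only [mul_assoc]
    _ = (c * a) * a * b * b := by rw [hca.eq.symm]
    _ = c * (a ^ 2 * b ^ 2) := by simp only [pow_two, mul_assoc]


/-- Let G be a finite group with C_G(O₂(G)) ≤ O₂(G) containing an element of order 6, and let d be a non-identity 3-element of G normalizing a nontrivial elementary abelian 2-subgroup W with C_W(d) = 1. Then G has an elementary abelian subgroup of order 8. -/
theorem result {G : Type*} [Group G] [Finite G] (hchar : Subgroup.centralizer (Cfsg.pCore 2 G : Set G) ≤ Cfsg.pCore 2 G) (hsix : ∃ g : G, orderOf g = 6) (d : G) (hd1 : d ≠ 1) (hd : IsPGroup 3 ↥(Subgroup.zpowers d)) (W : Subgroup G) (hW : Cfsg.IsElementaryAbelian 2 W) (hW1 : W ≠ ⊥) (hdW : d ∈ Subgroup.normalizer (W : Set G)) (hfpf : W ⊓ Subgroup.centralizer {d} = ⊥) : ∃ E : Subgroup G, Cfsg.IsElementaryAbelian 2 E ∧ Nat.card E = 8 := by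
  classical
  by_contra hno
  have hno8 : ∀ E : Subgroup G, (∀ e ∈ E, e ^ 2 = 1) → Nat.card E ≠ 8 := by
    intro E hE h8
    apply hno
    refine ⟨E, ⟨⟨⟨fun a b => Subtype.ext (comm_of_sq E hE a a.2 b b.2)⟩⟩, hE⟩, h8⟩
  have hW2 : ∀ w ∈ W, w ^ 2 = 1 := hW.2
  have hdodd : (orderOf d).Coprime 2 := by
    obtain ⟨j, hj⟩ := IsPGroup.iff_card.mp hd
    rw [Nat.card_zpowers] at hj
    rw [hj]
    exact Nat.Coprime.pow_left _ (by norm_num)
  have hdfix : ∀ a ∈ W, Commute d a → a = 1 := by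
    intro a ha hda
    have h0 : a ∈ Subgroup.centralizer {d} := by
      rw [Subgroup.mem_centralizer_singleton_iff]
      exact hda.symm
    have h1 : a ∈ W ⊓ Subgroup.centralizer {d} := Subgroup.mem_inf.mpr ⟨ha, h0⟩
    rw [hfpf] at h1
    simpa using h1
  have hdN : ∀ k ∈ W, d * k * d⁻¹ ∈ W := fun k hk => (mem_normalizer_iff.mp hdW k).mp hk
  -- `W` has order four
  have hW4 : Nat.card W = 4 := by
    have hWp : IsPGroup 2 W := by
      intro z
      refine ⟨1, Subtype.ext ?_⟩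
      simpa using hW2 z z.2
    obtain ⟨k, hk⟩ := IsPGroup.iff_card.mp hWp
    have hk3 : k < 3 := by
      by_contra hcon
      have h1 : 2 ^ 3 ∣ Nat.card W := by
        rw [hk]; exact pow_dvd_pow 2 (by omega)
      obtain ⟨K, hK⟩ := Sylow.exists_subgroup_card_pow_prime 2 h1
      apply hno8 (K.map W.subtype)
      · rintro _ ⟨z, -, rfl⟩
        exact hW2 z z.2
      · rw [Subgroup.card_map_of_injective W.subtype_injective, hK]
        norm_num
    obtain ⟨a, ha, ha1⟩ : ∃ a ∈ W, a ≠ 1 := by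
      obtain h | h := W.bot_or_exists_ne_one
      · exact absurd h hW1
      · exact h
    interval_cases k
    · exfalso
      have h1 : W = ⊥ := by
        rw [pow_zero] at hk
        exact Subgroup.card_eq_one.mp hk
      exact hW1 h1
    · exfalso
      -- the unique involution is fixed
      have h1 := hdN a ha
      have h2 : d * a * d⁻¹ ≠ 1 := by
        intro h
        apply ha1
        have : d⁻¹ * (d * a * d⁻¹) * d = a := by group
        rw [← this, h]; group
      have h3 : d * a * d⁻¹ = a := by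
        by_contra hne
        have hf : (({1, a, d * a * d⁻¹} : Finset G) : Set G) ⊆ (W : Set G) := by
          intro x hx
          simp only [Finset.coe_insert, Finset.coe_singleton, Set.mem_insert_iff,
            Set.mem_singleton_iff] at hx
          rcases hx with rfl | rfl | rfl
          · exact one_mem _
          · exact ha
          · exact h1
        have h4 := Set.ncard_le_ncard hf (Set.toFinite _)
        rw [Set.ncard_coe_finset, ← Nat.card_coe_set_eq] at h4
        have h5 : Nat.card (W : Set G) = 2 := by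
          have : Nat.card (W : Set G) = Nat.card W := rfl
          rw [this, hk]; norm_num
        rw [h5] at h4
        have h6 : ({1, a, d * a * d⁻¹} : Finset G).card = 3 := by
          rw [Finset.card_insert_of_notMem, Finset.card_insert_of_notMem, Finset.card_singleton]
          · simpa using fun h => hne h.symm
          · simp only [Finset.mem_insert, Finset.mem_singleton, not_or]
            exact ⟨ha1.symm, h2.symm⟩
        omega
      apply ha1
      apply hdfix a ha
      show d * a = a * d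
      calc d * a = d * a * d⁻¹ * d := by group
        _ = a * d := by rw [h3]
    · rw [hk]; norm_num
  -- the action of `d`
  have hd34 := four_act W hW4 hW2 hdN hdodd
  have hdfree : ∀ k ∈ W, k ≠ 1 → ¬ Commute d k := by
    intro k hk hk1 hc
    exact hk1 (hdfix k hk hc)
  have hWex : ∃ a ∈ W, a ≠ 1 := by
    obtain h | h := W.bot_or_exists_ne_one
    · exact absurd h hW1
    · exact h
  -- adjoining involutions
  have hno4 : ∀ s : G, s ^ 2 = 1 → (∀ a ∈ W, s * a = a * s) → s ∈ W := by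
    intro s hs hc
    by_contra hsW
    obtain ⟨E, hE, hEc⟩ := adjoin W hW2 s hs hsW hc
    apply hno8 E hE
    rw [hEc, hW4]
  -- the core
  have hQn : (Cfsg.pCore 2 G).Normal := Cfsg.Agent.Lib.Basic.PCore.pCore_normal 2 G
  haveI := hQn
  have hQ2 : IsPGroup 2 (Cfsg.pCore 2 G) := Cfsg.Agent.Lib.Basic.PCore.pCore_isPGroup 2
  obtain ⟨Q, hQ⟩ : ∃ Q, Q = Cfsg.pCore 2 G := ⟨_, rfl⟩
  rw [← hQ] at hchar hQ2 hQn
  haveI := hQn
  have hQne : Q ≠ ⊥ := by
    rintro rfl
    apply hd1
    have h1 : d ∈ centralizer ((⊥ : Subgroup G) : Set G) := by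
      rw [mem_centralizer_iff]
      intro h hh
      have : h = 1 := by simpa using hh
      rw [this]; simp
    simpa using hchar h1
  -- the central involutions of `Q`
  let Z₀ : Subgroup G :=
    { carrier := {x | x ∈ Q ∧ x ^ 2 = 1 ∧ ∀ y ∈ Q, x * y = y * x}
      one_mem' := ⟨Q.one_mem, by simp, by simp⟩
      mul_mem' := by
        rintro x y ⟨hx, hx2, hxc⟩ ⟨hy, hy2, hyc⟩
        refine ⟨Q.mul_mem hx hy, ?_, ?_⟩
        · have h1 : Commute x y := hxc y hy
          rw [h1.mul_pow, hx2, hy2, one_mul]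
        · intro z hz
          rw [mul_assoc, hyc z hz, ← mul_assoc, hxc z hz, mul_assoc]
      inv_mem' := by
        rintro x ⟨hx, hx2, hxc⟩
        refine ⟨Q.inv_mem hx, by rw [inv_pow, hx2, inv_one], ?_⟩
        intro z hz
        have h1 : Commute x z := hxc z hz
        exact h1.inv_left }
  have hZ₀m : ∀ x, x ∈ Z₀ ↔ x ∈ Q ∧ x ^ 2 = 1 ∧ ∀ y ∈ Q, x * y = y * x := fun x => Iff.rfl
  haveI hZ₀n : Z₀.Normal := by
    refine ⟨fun x hx g => ?_⟩
    obtain ⟨hxQ, hx2, hxc⟩ := hx
    refine ⟨Subgroup.Normal.conj_mem hQn x hxQ g, ?_, ?_⟩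
    · rw [conj_pow, hx2]; group
    · intro y hy
      have h1 := hxc _ (Subgroup.Normal.conj_mem hQn y hy g⁻¹)
      have h2 : g⁻¹ * y * g⁻¹⁻¹ = g⁻¹ * y * g := by group
      rw [h2] at h1
      calc g * x * g⁻¹ * y = g * (x * (g⁻¹ * y * g)) * g⁻¹ := by group
        _ = g * ((g⁻¹ * y * g) * x) * g⁻¹ := by rw [h1]
        _ = y * (g * x * g⁻¹) := by group
  have hZ₀ne : Z₀ ≠ ⊥ := by
    haveI : Nontrivial Q := (Subgroup.nontrivial_iff_ne_bot Q).mpr hQne
    haveI := hQ2.center_nontrivial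
    obtain ⟨k, hk⟩ := IsPGroup.iff_card.mp (hQ2.to_subgroup (center Q))
    have h2 : 2 ∣ Nat.card (center Q) := by
      have h3 : Nat.card (center Q) ≠ 1 := (Finite.one_lt_card).ne'
      rw [hk] at h3 ⊢
      apply dvd_pow_self
      rintro rfl
      exact h3 (pow_zero 2)
    obtain ⟨z, hz⟩ := exists_prime_orderOf_dvd_card' (G := center Q) 2 h2
    intro hb
    have hzm : (((z : center Q) : Q) : G) ∈ Z₀ := by
      refine ⟨((z : center Q) : Q).2, ?_, ?_⟩
      · have h4 : z ^ 2 = 1 := by rw [← hz]; exact pow_orderOf_eq_one z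
        have h5 := congrArg (fun w : center Q => ((w : Q) : G)) h4
        simpa using h5
      · intro y hy
        have h6 := Subgroup.mem_center_iff.mp z.2 ⟨y, hy⟩
        exact (congrArg Subtype.val h6).symm
    rw [hb, Subgroup.mem_bot] at hzm
    have hz1 : z = 1 := Subtype.ext (Subtype.ext hzm)
    rw [hz1, orderOf_one] at hz
    omega
  have hWp : IsPGroup 2 W := by
    intro z
    refine ⟨1, Subtype.ext ?_⟩
    simpa using hW2 z z.2
  have hZ₀p : IsPGroup 2 Z₀ := by
    intro z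
    refine ⟨1, Subtype.ext ?_⟩
    simpa using z.2.2.1
  obtain ⟨v, hvZ, hv1, hvW⟩ : ∃ v ∈ Z₀, v ≠ 1 ∧ ∀ a ∈ W, v * a = a * v := by
    have hH2 : IsPGroup 2 (W ⊔ Z₀ : Subgroup G) := IsPGroup.to_sup_of_normal_right hWp hZ₀p
    have hNne : Z₀.subgroupOf (W ⊔ Z₀) ≠ ⊥ := by
      intro h
      obtain hb | ⟨z, hz, hz1⟩ := Z₀.bot_or_exists_ne_one
      · exact hZ₀ne hb
      have h1 : (⟨z, (le_sup_right : Z₀ ≤ W ⊔ Z₀) hz⟩ : (W ⊔ Z₀ : Subgroup G)) ∈
          Z₀.subgroupOf (W ⊔ Z₀) := Subgroup.mem_subgroupOf.mpr hz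
      rw [h, Subgroup.mem_bot] at h1
      exact hz1 (congrArg Subtype.val h1)
    have h1 := Cfsg.Agent.Lib.PGroup.Basic.inf_center_ne_bot hH2 hNne
    obtain hb | ⟨w, hw, hw1⟩ := (Z₀.subgroupOf (W ⊔ Z₀) ⊓ center (W ⊔ Z₀ : Subgroup G)).bot_or_exists_ne_one
    · exact absurd hb h1
    obtain ⟨hwN, hwc⟩ := Subgroup.mem_inf.mp hw
    refine ⟨w, Subgroup.mem_subgroupOf.mp hwN, fun h => hw1 (Subtype.ext h), ?_⟩
    intro a ha
    have h2 := Subgroup.mem_center_iff.mp hwc ⟨a, (le_sup_left : W ≤ W ⊔ Z₀) ha⟩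
    exact (congrArg Subtype.val h2).symm
  have hvWm : v ∈ W := hno4 v hvZ.2.1 hvW
  have hdZ₀ : d * v * d⁻¹ ∈ Z₀ := Subgroup.Normal.conj_mem hZ₀n v hvZ d
  have hdv : d * v * d⁻¹ ∈ W := hdN v hvWm
  have hdv1 : d * v * d⁻¹ ≠ 1 := by
    intro h
    apply hv1
    have : d⁻¹ * (d * v * d⁻¹) * d = v := by group
    rw [← this, h]; group
  have hne : v ≠ d * v * d⁻¹ := by
    intro h
    apply hdfree v hvWm hv1
    show d * v = v * d
    calc d * v = d * v * d⁻¹ * d := by group
      _ = v * d := by rw [← h]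
  have hne' : v * (d * v * d⁻¹) ≠ 1 := by
    intro h
    apply hne
    have h3 : (d * v * d⁻¹) * (d * v * d⁻¹) = 1 := by rw [← pow_two]; exact hW2 _ hdv
    calc v = v * ((d * v * d⁻¹) * (d * v * d⁻¹)) := by rw [h3, mul_one]
      _ = d * v * d⁻¹ := by rw [← mul_assoc, h, one_mul]
  have hWZ : W ≤ Z₀ := by
    intro k hk
    rcases four_elems W hW4 hvWm hdv hv1 hdv1 hne hne' k hk with rfl | rfl | rfl | rfl
    · exact one_mem _
    · exact hvZ
    · exact hdZ₀
    · exact Z₀.mul_mem hvZ hdZ₀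
  have hZW : Z₀ ≤ W := by
    intro z hz
    exact hno4 z hz.2.1 (fun a ha => hz.2.2 a (hWZ ha).1)
  have hWeq : Z₀ = W := le_antisymm hZW hWZ
  haveI hWn : W.Normal := by rw [← hWeq]; exact hZ₀n
  have hWQ : W ≤ Q := fun w hw => (hWZ hw).1
  have hWcen : ∀ w ∈ W, ∀ x ∈ Q, w * x = x * w := fun w hw x hx => (hWZ hw).2.2 x hx
  have hQinv : ∀ s ∈ Q, s ^ 2 = 1 → s ∈ W := fun s hs hs2 =>
    hno4 s hs2 (fun a ha => (hWcen a ha s hs).symm)
  -- the element of order six
  obtain ⟨g, hg⟩ := hsix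
  haveI : Fact (Nat.Prime 3) := ⟨Nat.prime_three⟩
  have hg6 : g ^ 6 = 1 := by rw [← hg]; exact pow_orderOf_eq_one g
  obtain ⟨y, hy⟩ : ∃ y, y = g ^ 2 := ⟨_, rfl⟩
  obtain ⟨t, ht⟩ : ∃ t, t = g ^ 3 := ⟨_, rfl⟩
  have hy3 : y ^ 3 = 1 := by rw [hy, ← pow_mul]; exact hg6
  have ht2 : t ^ 2 = 1 := by rw [ht, ← pow_mul]; exact hg6
  have hy1 : y ≠ 1 := by
    rw [hy]
    intro h
    have := orderOf_dvd_of_pow_eq_one h
    rw [hg] at this
    omega
  have ht1 : t ≠ 1 := by
    rw [ht]
    intro h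
    have := orderOf_dvd_of_pow_eq_one h
    rw [hg] at this
    omega
  have hyo : orderOf y = 3 := orderOf_eq_prime hy3 hy1
  have hyodd : (orderOf y).Coprime 2 := by rw [hyo]; norm_num
  have hyt : Commute y t := by
    rw [hy, ht]
    exact Commute.pow_pow (Commute.refl g) 2 3
  have hyN : ∀ k ∈ W, y * k * y⁻¹ ∈ W := fun k hk => Subgroup.Normal.conj_mem hWn k hk y
  have hyW : ∀ k ∈ W, Commute y k := by
    rcases four_act W hW4 hW2 hyN hyodd with h | ⟨-, hfree⟩
    · exact h
    exfalso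
    by_cases htc : ∀ a ∈ W, t * a = a * t
    · exact hfree t (hno4 t ht2 htc) ht1 hyt
    push Not at htc
    obtain ⟨a, ha, hat⟩ := htc
    have htt : t * t = 1 := by rw [← pow_two]; exact ht2
    have hti : t⁻¹ = t := inv_eq_of_mul_eq_one_left htt
    have hcomm := comm_of_sq W hW2
    have hself : ∀ k ∈ W, k * k = 1 := fun k hk => by rw [← pow_two]; exact hW2 k hk
    have ha1 : a ≠ 1 := by
      rintro rfl
      simp at hat
    obtain ⟨b, hb⟩ : ∃ b, b = t * a * t⁻¹ := ⟨_, rfl⟩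
    have hbW : b ∈ W := by rw [hb]; exact Subgroup.Normal.conj_mem hWn a ha t
    have hab : a ≠ b := by
      intro h
      apply hat
      calc t * a = t * a * t⁻¹ * t := by group
        _ = a * t := by rw [← hb, ← h]
    have htb : t * b * t⁻¹ = a := by
      rw [hb, hti]
      calc t * (t * a * t) * t = (t * t) * a * (t * t) := by group
        _ = a := by rw [htt]; simp
    obtain ⟨f, hf⟩ : ∃ f, f = a * b := ⟨_, rfl⟩
    have hfW : f ∈ W := by rw [hf]; exact W.mul_mem ha hbW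
    have hf1 : f ≠ 1 := by
      intro h
      apply hab
      rw [hf] at h
      calc a = a * (b * b) := by rw [hself b hbW, mul_one]
        _ = b := by rw [← mul_assoc, h, one_mul]
    have htf : Commute t f := by
      show t * f = f * t
      have h3 : t * f * t⁻¹ = f := by
        rw [hf]
        calc t * (a * b) * t⁻¹ = (t * a * t⁻¹) * (t * b * t⁻¹) := by group
          _ = a * b := by rw [← hb, htb, hcomm b hbW a ha]
      calc t * f = t * f * t⁻¹ * t := by group
        _ = f * t := by rw [h3]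
    obtain ⟨f', hf'⟩ : ∃ f', f' = y * f * y⁻¹ := ⟨_, rfl⟩
    have hf'W : f' ∈ W := by rw [hf']; exact hyN f hfW
    have hf'1 : f' ≠ 1 := by
      rw [hf']
      intro h
      apply hf1
      have : y⁻¹ * (y * f * y⁻¹) * y = f := by group
      rw [← this, h]; group
    have hff' : f ≠ f' := by
      intro h
      apply hfree f hfW hf1
      show y * f = f * y
      calc y * f = y * f * y⁻¹ * y := by group
        _ = f * y := by rw [← hf', ← h]
    have htf' : Commute t f' := by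
      rw [hf']
      have h3 : Commute t y := hyt.symm
      exact (h3.mul_right htf).mul_right h3.inv_right
    have hne2 : f * f' ≠ 1 := by
      intro h
      apply hff'
      calc f = f * (f' * f') := by rw [hself f' hf'W, mul_one]
        _ = f' := by rw [← mul_assoc, h, one_mul]
    apply hat
    rcases four_elems W hW4 hfW hf'W hf1 hf'1 hff' hne2 a ha with h | h | h | h
    · exact absurd h ha1
    · rw [h]; exact htf
    · rw [h]; exact htf'
    · rw [h]; exact htf.mul_right htf'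
  have hyQ : ¬ ∀ q ∈ Q, Commute y q := by
    intro h
    have h1 : y ∈ centralizer ((Q : Subgroup G) : Set G) :=
      mem_centralizer_iff.mpr (fun q hq => (h q hq).symm)
    have h2 := hchar h1
    have h3 : orderOf y ∣ Nat.card Q := by
      have := orderOf_dvd_natCard (⟨y, h2⟩ : Q)
      rwa [Subgroup.orderOf_mk] at this
    obtain ⟨k, hk⟩ := IsPGroup.iff_card.mp hQ2
    rw [hk, hyo] at h3
    have := Nat.Prime.dvd_of_dvd_pow Nat.prime_three h3
    omega
  -- the critical subgroup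
  obtain ⟨H, hHc, h1, h2, h3⟩ := Cfsg.Agent.Lib.PGroup.Critical.exists_critical hQ2
  let C : Subgroup G := H.map Q.subtype
  have hCQ : C ≤ Q := by
    rintro _ ⟨x, -, rfl⟩
    exact x.2
  have hCm : ∀ x (hx : x ∈ Q), (⟨x, hx⟩ : Q) ∈ H → x ∈ C := fun x hx h => ⟨⟨x, hx⟩, h, rfl⟩
  have hCm' : ∀ x ∈ C, ∃ hx : x ∈ Q, (⟨x, hx⟩ : Q) ∈ H := by
    rintro _ ⟨x, hx, rfl⟩
    exact ⟨x.2, hx⟩
  have hCconj : ∀ (g x : G), x ∈ C → g * x * g⁻¹ ∈ C := by
    intro g x hx
    obtain ⟨hxQ, hxH⟩ := hCm' x hx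
    have h4 := (Subgroup.characteristic_iff_map_le.mp hHc (MulAut.conjNormal g))
      ⟨⟨x, hxQ⟩, hxH, rfl⟩
    exact hCm _ (Subgroup.Normal.conj_mem hQn x hxQ g) h4
  have hWC : W ≤ C := by
    intro w hw
    apply hCm w (hWQ hw)
    apply h3
    rw [mem_centralizer_iff]
    intro x _
    exact Subtype.ext (hWcen w hw x x.2).symm
  have hcl : ∀ x ∈ C, ∀ x' ∈ C, Commute (x * x' * x⁻¹ * x'⁻¹) x ∧ Commute (x * x' * x⁻¹ * x'⁻¹) x' := by
    intro x hx x' hx'
    obtain ⟨hxQ, hxH⟩ := hCm' x hx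
    obtain ⟨hxQ', hxH'⟩ := hCm' x' hx'
    have h4' := h2 (Subgroup.commutator_mem_commutator hxH (mem_top (⟨x', hxQ'⟩ : Q)))
    rw [commutatorElement_def] at h4'
    have h4 := h4'.2
    have h5 := mem_centralizer_iff.mp h4 _ hxH
    have h6 := mem_centralizer_iff.mp h4 _ hxH'
    constructor
    · have := congrArg Subtype.val h5
      simp only [Subgroup.coe_mul, Subgroup.coe_inv] at this
      exact this.symm
    · have := congrArg Subtype.val h6
      simp only [Subgroup.coe_mul, Subgroup.coe_inv] at this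
      exact this.symm
  have hcommW : ∀ x ∈ C, x ^ 2 ∈ W → ∀ x' ∈ C, x * x' * x⁻¹ * x'⁻¹ ∈ W := by
    intro x hx hx2 x' hx'
    obtain ⟨c, hc⟩ : ∃ c, c = x * x' * x⁻¹ * x'⁻¹ := ⟨_, rfl⟩
    rw [← hc]
    have h4 := comm_sq_id hc (by rw [hc]; exact (hcl x hx x' hx').1)
    have h5 : x * x * x' * (x * x)⁻¹ * x'⁻¹ = 1 := by
      have h6 : (x * x) * x' = x' * (x * x) := by
        rw [← pow_two]
        exact hWcen _ hx2 _ (hCQ hx')
      rw [h6]; group
    rw [h5] at h4
    have hcC : c ∈ Q := by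
      rw [hc]
      exact Q.mul_mem (Q.mul_mem (Q.mul_mem (hCQ hx) (hCQ hx')) (Q.inv_mem (hCQ hx))) (Q.inv_mem (hCQ hx'))
    exact hQinv c hcC (by rw [pow_two]; exact h4.symm)
  let D : Subgroup G :=
    { carrier := {x | x ∈ C ∧ x ^ 2 ∈ W}
      one_mem' := ⟨C.one_mem, by simp⟩
      mul_mem' := by
        rintro x x' ⟨hx, hx2⟩ ⟨hx', hx2'⟩
        refine ⟨C.mul_mem hx hx', ?_⟩
        obtain ⟨c, hc⟩ : ∃ c, c = x' * x * x'⁻¹ * x⁻¹ := ⟨_, rfl⟩
        have h4 := hcl x' hx' x hx
        rw [sq_mul_id hc (by rw [hc]; exact h4.2) (by rw [hc]; exact h4.1)]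
        exact W.mul_mem (by rw [hc]; exact hcommW x' hx' hx2' x hx) (W.mul_mem hx2 hx2')
      inv_mem' := by
        rintro x ⟨hx, hx2⟩
        exact ⟨C.inv_mem hx, by rw [inv_pow]; exact W.inv_mem hx2⟩ }
  have hDm : ∀ x, x ∈ D ↔ x ∈ C ∧ x ^ 2 ∈ W := fun x => Iff.rfl
  haveI hDn : D.Normal := by
    refine ⟨fun x hx g => ?_⟩
    refine ⟨hCconj g x hx.1, ?_⟩
    rw [conj_pow]
    exact Subgroup.Normal.conj_mem hWn _ hx.2 g
  have hWD : W ≤ D := fun w hw => ⟨hWC hw, by rw [hW2 w hw]; exact W.one_mem⟩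
  have hDQ : D ≤ Q := fun x hx => hCQ hx.1
  have hD2 : ∃ k, Nat.card D = 2 ^ k := IsPGroup.iff_card.mp (hQ2.to_le hDQ)
  -- the bound
  have hD64 : Nat.card D ≤ 64 := by
    have hW' : Nat.card (W.subgroupOf D) = 4 := by
      rw [Nat.card_congr (Subgroup.subgroupOfEquivOfLe hWD).toEquiv, hW4]
    have h4 := Cfsg.Agent.Lib.PGroup.AnisoQuad.card_quotient_le (D := D) (W.subgroupOf D)
      (by
        intro w hw x
        exact Subtype.ext (hWcen _ (Subgroup.mem_subgroupOf.mp hw) _ (hDQ x.2)))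
      (fun x => Subgroup.mem_subgroupOf.mpr (by simpa using x.2.2))
      (fun x y => Subgroup.mem_subgroupOf.mpr (by
        simpa using hcommW _ x.2.1 x.2.2 _ y.2.1))
      (fun w hw => Subtype.ext (by simpa using hW2 _ (Subgroup.mem_subgroupOf.mp hw)))
      hW'
      (fun x hx => Subgroup.mem_subgroupOf.mpr (hQinv _ (hDQ x.2) (by
        simpa using congrArg Subtype.val hx)))
    have h5 := (W.subgroupOf D).card_mul_index
    rw [hW', Subgroup.index_eq_card] at h5
    omega
  have hfix := count_final W D hWD hW4 hW2 (fun w hw x hx => hWcen w hw x (hDQ hx))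
    (fun x hx => hx.2) (fun x hx hx1 => hQinv x (hDQ hx) hx1) hD64 hD2 d y hdfree hdodd hyW hy3
  -- back to the critical subgroup
  apply hyQ
  obtain ⟨a, ha⟩ : ∃ a : MulAut Q, a = MulAut.conjNormal y := ⟨_, rfl⟩
  have haap : ∀ x : Q, ((a x : Q) : G) = y * x * y⁻¹ := by
    intro x
    rw [ha]
    exact MulAut.conjNormal_apply _ _
  have ha3 : a ^ 3 = 1 := by
    rw [ha, ← map_pow, hy3, map_one]
  have haco : (orderOf a).Coprime 2 := by
    have h4 : orderOf a ∣ 3 := orderOf_dvd_of_pow_eq_one ha3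
    exact Nat.Coprime.coprime_dvd_left h4 (by norm_num)
  have haH : ∀ x ∈ H, a x ∈ H := by
    intro x hx
    exact (Subgroup.characteristic_iff_map_le.mp hHc a) ⟨x, hx, rfl⟩
  have hfH : ∀ x ∈ H, a x = x := by
    apply Cfsg.Agent.Lib.PGroup.Critical.fixes_of_fixes_kernel hQ2 H a haco haH (n := 4) (by norm_num)
    · intro x hx x' hx'
      exact Cfsg.Agent.Lib.PGroup.Critical.critical_mul_pow hQ2 h1 h2 (n := 4) (by decide) hx hx'
    · intro x hx hx4
      have hxC : (x : G) ∈ C := hCm _ x.2 hx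
      have hx2 : (x : G) ^ 2 ∈ W := by
        apply hQinv _ (Q.pow_mem x.2 2)
        rw [← pow_mul]
        simpa using congrArg Subtype.val hx4
      have h4 := hfix (x : G) ⟨hxC, hx2⟩
      apply Subtype.ext
      rw [haap, h4.eq]
      group
  have ha1 := Cfsg.Agent.S0121.result hQ2 H hHc h1 h2 h3 a haco hfH
  intro q hq
  have h4 := haap ⟨q, hq⟩
  rw [ha1] at h4
  have h5 : q = y * q * y⁻¹ := h4
  show y * q = q * y
  calc y * q = (y * q * y⁻¹) * y := by group
    _ = q * y := by rw [← h5]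

end Cfsg.Agent.S3739
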