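import Cfsg.Statements.S3778
import Mathlib
import Cfsg.Agent.S0662
-- import your own Cfsg.Agent.* helpers here

set_option autoImplicit false
open Cfsg

namespace Cfsg.Agent.S3778


open scoped commutatorElement

section
variable {G : Type*} [Group G] [Finite G] {p : ℕ} [hp : Fact p.Prime]

local notation "L" => Subgroup.lowerCentralSeries (⊤ : Subgroup G)

/-- Elements centralizing `L i` modulo `L (i+2)`. -/
noncomputable def layerCent (i : ℕ) : Subgroup G :=
  (Subgroup.centralizer (((L i).map (QuotientGroup.mk' (L (i + 2))) : Subgroup (G ⧸ L (i + 2))) : Set (G ⧸ L (i + 2)))).comap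
    (QuotientGroup.mk' (L (i + 2)))

lemma mem_layerCent {i : ℕ} {x : G} :
    x ∈ layerCent (G := G) i ↔ ∀ g ∈ L i, ((g : G ⧸ L (i + 2)) * (x : G ⧸ L (i + 2))) = (x : G ⧸ L (i + 2)) * (g : G ⧸ L (i + 2)) := by
  unfold layerCent
  rw [Subgroup.mem_comap, Subgroup.mem_centralizer_iff]
  constructor
  · intro h g hg
    exact h _ ⟨g, hg, rfl⟩
  · rintro h _ ⟨g, hg, rfl⟩
    exact h g hg

lemma layerCent_ne_top (hX : IsPGroup p G) (i : ℕ) (h : L (i + 1) ≠ ⊥) : layerCent (G := G) i ≠ ⊤ := by
  intro htop
  have hle : L (i + 1) ≤ L (i + 2) := by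
    rw [Subgroup.lowerCentralSeries_succ, Subgroup.commutator_le]
    intro a ha b _
    have hb : b ∈ layerCent (G := G) i := by rw [htop]; trivial
    have h1 := mem_layerCent.mp hb a ha
    rw [← QuotientGroup.eq_one_iff, commutatorElement_def]
    have e : ((a * b * a⁻¹ * b⁻¹ : G) : G ⧸ L (i + 2)) =
      (a : G ⧸ L (i + 2)) * b * (a : G ⧸ L (i + 2))⁻¹ * (b : G ⧸ L (i + 2))⁻¹ := rfl
    rw [e, h1]
    group
  have h2 := Cfsg.Agent.S0662.lcs_step hX (i + 1) h
  have h3 := Subgroup.card_le_of_le hle
  have h4 : 0 < Nat.card ↥(L (i + 2)) := Nat.card_pos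
  have h5 := hp.out.two_le
  have h6 : Nat.card ↥(L (i + 1 + 1)) * p ≤ Nat.card ↥(L (i + 2)) := h2.trans h3
  change Nat.card ↥(L (i + 2)) * p ≤ Nat.card ↥(L (i + 2)) at h6
  nlinarith

lemma mul_card_le_of_lt (hX : IsPGroup p G) {A B : Subgroup G} (h : A < B) :
    Nat.card A * p ≤ Nat.card B := by
  have hpp := hp.out
  obtain ⟨a, ha⟩ := (hX.to_subgroup A).exists_card_eq
  obtain ⟨b, hb⟩ := (hX.to_subgroup B).exists_card_eq
  have hd := Subgroup.card_dvd_of_le h.le
  rw [ha, hb, Nat.pow_dvd_pow_iff_le_right hpp.one_lt] at hd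
  have hab : a ≠ b := by
    rintro rfl
    exact h.ne (Subgroup.eq_of_le_of_card_ge h.le (by rw [ha, hb]))
  rw [ha, hb, ← pow_succ]
  exact Nat.pow_le_pow_right hpp.pos (by omega)

/-- Strict drop at non-centralizing layers. -/
lemma drop (hX : IsPGroup p G) (x : G) (k : ℕ) (hk : x ∉ layerCent (G := G) k) :
    Nat.card ↥(L (k + 1) ⊔ Subgroup.centralizer ({x} : Set G)) * p ≤
      Nat.card ↥(L k ⊔ Subgroup.centralizer ({x} : Set G)) := by
  apply mul_card_le_of_lt hX
  have hle : L (k + 1) ≤ L k := Subgroup.lowerCentralSeries_antitone _ (Nat.le_succ k)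
  refine lt_of_le_of_ne (sup_le_sup_right hle _) ?_
  intro heq
  apply hk
  rw [mem_layerCent]
  intro g hg
  have hg1 : g ∈ L (k + 1) ⊔ Subgroup.centralizer ({x} : Set G) := by
    rw [heq]; exact Subgroup.mem_sup_left hg
  have hg2 : g ∈ ((L (k + 1) ⊔ Subgroup.centralizer ({x} : Set G) : Subgroup G) : Set G) := hg1
  rw [Subgroup.normal_mul] at hg2
  obtain ⟨h, hh, y, hy, rfl⟩ := Set.mem_mul.mp hg2
  have hy' : y * x = x * y := by
    have := hy
    rw [SetLike.mem_coe, Subgroup.mem_centralizer_singleton_iff] at this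
    exact this
  have hcentral : (h : G ⧸ L (k + 2)) * (x : G ⧸ L (k + 2)) = (x : G ⧸ L (k + 2)) * (h : G ⧸ L (k + 2)) := by
    have h1 : ⁅h, x⁆ ∈ L (k + 2) := Subgroup.commutator_mem_commutator hh (Subgroup.mem_top x)
    rw [← QuotientGroup.eq_one_iff, commutatorElement_def] at h1
    have e : ((h * x * h⁻¹ * x⁻¹ : G) : G ⧸ L (k + 2)) =
      (h : G ⧸ L (k + 2)) * x * (h : G ⧸ L (k + 2))⁻¹ * (x : G ⧸ L (k + 2))⁻¹ := rfl
    rw [e] at h1
    have h5 := mul_inv_eq_one.mp h1
    rw [mul_inv_eq_iff_eq_mul] at h5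
    exact h5
  have e1 : ((h * y : G) : G ⧸ L (k + 2)) = (h : G ⧸ L (k + 2)) * (y : G ⧸ L (k + 2)) := rfl
  have e2 : (y : G ⧸ L (k + 2)) * (x : G ⧸ L (k + 2)) = (x : G ⧸ L (k + 2)) * (y : G ⧸ L (k + 2)) :=
    congrArg (fun z : G => (z : G ⧸ L (k + 2))) hy'
  rw [e1, mul_assoc, e2, ← mul_assoc, hcentral, mul_assoc]

open Classical in
lemma chain (hX : IsPGroup p G) (x : G) (m : ℕ) :
    p ^ ((Finset.range m).filter (fun i => x ∉ layerCent (G := G) i)).card *
      Nat.card ↥(L m ⊔ Subgroup.centralizer ({x} : Set G)) ≤ Nat.card G := by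
  induction m with
  | zero =>
    simp only [Finset.range_zero, Finset.filter_empty, Finset.card_empty, pow_zero, one_mul]
    exact (Subgroup.card_le_card_group _)
  | succ m ih =>
    rw [Finset.range_add_one, Finset.filter_insert]
    by_cases hm : x ∉ layerCent (G := G) m
    · rw [if_pos hm, Finset.card_insert_of_notMem (by simp), pow_succ, mul_assoc]
      have hd := drop hX x m hm
      calc _ ≤ p ^ ((Finset.range m).filter (fun i => x ∉ layerCent (G := G) i)).card * Nat.card ↥(L m ⊔ Subgroup.centralizer ({x} : Set G)) := by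
            apply Nat.mul_le_mul_left
            rw [mul_comm]; exact hd
        _ ≤ _ := ih
    · rw [if_neg hm]
      refine le_trans ?_ ih
      apply Nat.mul_le_mul_left
      apply Subgroup.card_le_of_le
      exact sup_le_sup_right (Subgroup.lowerCentralSeries_antitone _ (Nat.le_succ m)) _

end

/-- If G is a finite p-group in which every conjugacy class has at most p^b elements (every element has centralizer of index at most p^b), then G is abelian when b = 0, and when b ≥ 1 its nilpotency class c satisfies (c − 1)(p − 1) < bp, that is c < bp/(p − 1) + 1, and hence c ≤ 2b. -/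
theorem result {G : Type*} [Group G] [Finite G] {p : ℕ} [Fact p.Prime] (hG : IsPGroup p G) (b : ℕ) (hb : ∀ x : G, (Subgroup.centralizer ({x} : Set G)).index ≤ p ^ b) : ∃ c : ℕ, (⊤ : Subgroup G).lowerCentralSeries c = ⊥ ∧ (b ≠ 0 → (c - 1) * (p - 1) < b * p ∧ c ≤ 2 * b) ∧ (b = 0 → c ≤ 1) := by
  classical
  haveI : Fintype G := Fintype.ofFinite G
  haveI : Group.IsNilpotent G := hG.isNilpotent
  have hpp : p.Prime := Fact.out
  have hp1 := hpp.one_lt
  set c := Group.nilpotencyClass G with hc
  have hLc : (⊤ : Subgroup G).lowerCentralSeries c = ⊥ :=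
    Subgroup.lowerCentralSeries_eq_bot_iff_nilpotencyClass_le.mpr le_rfl
  have hb0 : b = 0 → c ≤ 1 := by
    rintro rfl
    apply Subgroup.lowerCentralSeries_eq_bot_iff_nilpotencyClass_le.mp
    rw [Subgroup.top_lowerCentralSeries_one, eq_bot_iff, commutator_def, Subgroup.commutator_le]
    intro a _ c _
    rw [Subgroup.mem_bot, commutatorElement_eq_one_iff_mul_comm]
    have h1 := hb c
    rw [pow_zero] at h1
    have h2 : (Subgroup.centralizer ({c} : Set G)).index = 1 :=
      le_antisymm h1 (Nat.pos_of_ne_zero Subgroup.index_ne_zero_of_finite)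
    rw [Subgroup.index_eq_one] at h2
    have h3 : a ∈ Subgroup.centralizer ({c} : Set G) := by rw [h2]; trivial
    rw [Subgroup.mem_centralizer_singleton_iff] at h3
    exact h3
  refine ⟨c, hLc, ?_, hb0⟩
  intro hbne
  have hb1 : 1 ≤ b := Nat.pos_of_ne_zero hbne
  -- main inequality
  have hmain : (c - 1) * (p - 1) < b * p := by
    by_cases hc2 : c ≤ 1
    · have : c - 1 = 0 := by omega
      rw [this, zero_mul]
      have := hpp.pos
      positivity
    push Not at hc2
    set m := c - 1 with hm
    have hm1 : 1 ≤ m := by omega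
    -- every layer centralizer is proper
    have hproper : ∀ i ∈ Finset.range m, Nat.card ↥(layerCent (G := G) i) * p ≤ Nat.card G := by
      intro i hi
      rw [Finset.mem_range] at hi
      have hne : (⊤ : Subgroup G).lowerCentralSeries (i + 1) ≠ ⊥ := by
        intro h
        have := Subgroup.lowerCentralSeries_eq_bot_iff_nilpotencyClass_le.mp h
        omega
      have htop := layerCent_ne_top hG i hne
      have hlt : layerCent (G := G) i < ⊤ := lt_top_iff_ne_top.mpr htop
      have := mul_card_le_of_lt hG hlt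
      rwa [Subgroup.card_top] at this
    -- exists a good element
    have hex : ∃ x : G, m * (p - 1) < p * ((Finset.range m).filter (fun i => x ∉ layerCent (G := G) i)).card := by
      by_contra hcon
      push Not at hcon
      -- double counting
      have hdc : ∑ x : G, ((Finset.range m).filter (fun i => x ∉ layerCent (G := G) i)).card =
          ∑ i ∈ Finset.range m, (Finset.univ.filter (fun x : G => x ∉ layerCent (G := G) i)).card := by
        simp only [Finset.card_filter]
        rw [Finset.sum_comm]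
      have hlow : ∀ i ∈ Finset.range m, Nat.card G * (p - 1) ≤
          p * (Finset.univ.filter (fun x : G => x ∉ layerCent (G := G) i)).card := by
        intro i hi
        have h1 := hproper i hi
        have h2 : (Finset.univ.filter (fun x : G => x ∉ layerCent (G := G) i)).card + Nat.card ↥(layerCent (G := G) i) = Nat.card G := by
          rw [Nat.card_eq_fintype_card (α := G), ← Finset.card_univ,
            ← Finset.card_filter_add_card_filter_not (s := Finset.univ) (fun x : G => x ∉ layerCent (G := G) i)]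
          congr 1
          simp only [not_not]
          rw [← Fintype.card_subtype, ← Nat.card_eq_fintype_card]
        obtain ⟨q, hq⟩ : ∃ q, p = q + 1 := ⟨p - 1, by omega⟩
        rw [hq] at h1 ⊢
        simp only [Nat.add_sub_cancel]
        set n := (Finset.univ.filter (fun x : G => x ∉ layerCent (G := G) i)).card
        rw [← h2] at h1 ⊢
        nlinarith
      have hsum_low : m * (Nat.card G * (p - 1)) ≤ ∑ x : G, p * ((Finset.range m).filter (fun i => x ∉ layerCent (G := G) i)).card := by
        rw [← Finset.mul_sum, hdc, Finset.mul_sum]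
        calc m * (Nat.card G * (p - 1)) = ∑ _i ∈ Finset.range m, (Nat.card G * (p - 1)) := by
              rw [Finset.sum_const, Finset.card_range, smul_eq_mul]
          _ ≤ _ := Finset.sum_le_sum hlow
      have h1zero : ((Finset.range m).filter (fun i => (1 : G) ∉ layerCent (G := G) i)).card = 0 := by
        rw [Finset.card_eq_zero, Finset.filter_eq_empty_iff]
        intro i _
        simp
      have hsum_up : ∑ x : G, p * ((Finset.range m).filter (fun i => x ∉ layerCent (G := G) i)).card ≤
          (Nat.card G - 1) * (m * (p - 1)) := by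
        rw [← Finset.add_sum_erase Finset.univ _ (Finset.mem_univ (1 : G)), h1zero, mul_zero, zero_add]
        calc _ ≤ ∑ _x ∈ Finset.univ.erase (1 : G), (m * (p - 1)) := Finset.sum_le_sum (fun x _ => hcon x)
          _ = _ := by
            rw [Finset.sum_const, Finset.card_erase_of_mem (Finset.mem_univ _), Finset.card_univ,
              smul_eq_mul, Nat.card_eq_fintype_card]
      have hcardpos : 0 < Nat.card G := Nat.card_pos
      have hq0 : 0 < m * (p - 1) := Nat.mul_pos hm1 (by omega)
      have h3 := hsum_low.trans hsum_up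
      obtain ⟨g, hg⟩ : ∃ g, Nat.card G = g + 1 := ⟨Nat.card G - 1, by omega⟩
      rw [hg] at h3
      simp only [Nat.add_sub_cancel] at h3
      nlinarith
    obtain ⟨x, hx⟩ := hex
    have hch := chain hG x m
    set w := ((Finset.range m).filter (fun i => x ∉ layerCent (G := G) i)).card with hw
    have h1 : Nat.card ↥(Subgroup.centralizer ({x} : Set G)) ≤
        Nat.card ↥((⊤ : Subgroup G).lowerCentralSeries m ⊔ Subgroup.centralizer ({x} : Set G)) :=
      Subgroup.card_le_of_le le_sup_right
    have h2 := (Subgroup.centralizer ({x} : Set G)).card_mul_index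
    have h3 : p ^ w * Nat.card ↥(Subgroup.centralizer ({x} : Set G)) ≤
        Nat.card ↥(Subgroup.centralizer ({x} : Set G)) * p ^ b := by
      calc _ ≤ p ^ w * Nat.card ↥((⊤ : Subgroup G).lowerCentralSeries m ⊔ Subgroup.centralizer ({x} : Set G)) :=
            Nat.mul_le_mul_left _ h1
        _ ≤ Nat.card G := hch
        _ = _ := h2.symm
        _ ≤ _ := Nat.mul_le_mul_left _ (hb x)
    have h4 : p ^ w ≤ p ^ b := by
      have hpos : 0 < Nat.card ↥(Subgroup.centralizer ({x} : Set G)) := Nat.card_pos
      rw [mul_comm] at h3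
      exact Nat.le_of_mul_le_mul_left h3 hpos
    have h5 : w ≤ b := (Nat.pow_le_pow_iff_right hp1).mp h4
    calc m * (p - 1) < p * w := hx
      _ ≤ p * b := Nat.mul_le_mul_left _ h5
      _ = b * p := mul_comm _ _
  refine ⟨hmain, ?_⟩
  -- `c ≤ 2 b`
  by_contra hcon
  push Not at hcon
  have h1 : 2 * b ≤ c - 1 := by omega
  have h2 : 2 * b * (p - 1) ≤ (c - 1) * (p - 1) := Nat.mul_le_mul_right _ h1
  obtain ⟨q, rfl⟩ : ∃ q, p = q + 1 := ⟨p - 1, by omega⟩
  simp only [Nat.add_sub_cancel] at h2 hmain
  have hq : 1 ≤ q := by omega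
  nlinarith

end Cfsg.Agent.S3778
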