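import Cfsg.Statements.S3806
import Cfsg.Agent.Lib.PGroup.MaxClass.Main
import Cfsg.Agent.Lib.PGroup.MaxClass.Upper

set_option autoImplicit false
open Cfsg

namespace Cfsg.Agent.S3806

open Cfsg.Agent.Lib.PGroup.MaxClass
open scoped commutatorElement

/-- A section `H / N'` that is abelian of exponent `p` and of order `p ^ (k + 1)` contradicts
sectional rank at most `k`. -/
theorem no_section {S : Type*} [Group S] [Finite S] {p k : ℕ} (hp : 1 < p)
    (hsec : Cfsg.SectionalPRankLE p k S) (H N' : Subgroup S) [hN' : N'.Normal] (hle : N' ≤ H)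
    (hc : Nat.card H = Nat.card N' * p ^ (k + 1)) (hcomm : ∀ a ∈ H, ∀ b ∈ H, ⁅a, b⁆ ∈ N')
    (hpow : ∀ a ∈ H, a ^ p ∈ N') : False := by
  have hcommQ : IsMulCommutative (⊤ : Subgroup (H ⧸ N'.subgroupOf H)) := by
    refine ⟨⟨fun a b => ?_⟩⟩
    obtain ⟨a, -⟩ := a
    obtain ⟨b, -⟩ := b
    apply Subtype.ext
    show a * b = b * a
    obtain ⟨x, rfl⟩ := QuotientGroup.mk_surjective a
    obtain ⟨y, rfl⟩ := QuotientGroup.mk_surjective b
    rw [← QuotientGroup.mk_mul, ← QuotientGroup.mk_mul, QuotientGroup.eq, Subgroup.mem_subgroupOf]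
    have := hcomm _ (inv_mem y.2) _ (inv_mem x.2)
    convert this using 1
    simp only [commutatorElement_def, Subgroup.coe_mul, Subgroup.coe_inv, InvMemClass.coe_inv]
    group
  have h1 := hsec H (N'.subgroupOf H) ⊤ hcommQ (by
    intro a _
    obtain ⟨x, rfl⟩ := QuotientGroup.mk_surjective a
    rw [← QuotientGroup.mk_pow, QuotientGroup.eq_one_iff, Subgroup.mem_subgroupOf]
    exact hpow _ x.2)
  rw [Subgroup.card_top] at h1
  have h2 : Nat.card (H ⧸ N'.subgroupOf H) = (N'.subgroupOf H).index := rfl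
  have h3 := (N'.subgroupOf H).card_mul_index
  have h4 : Nat.card (N'.subgroupOf H) = Nat.card N' :=
    Nat.card_congr (Subgroup.subgroupOfEquivOfLe hle).toEquiv
  rw [h4, hc] at h3
  have h5 : 0 < Nat.card N' := Nat.card_pos
  have h6 := Nat.eq_of_mul_eq_mul_left h5 h3
  rw [← h2] at h6
  rw [h6] at h1
  have := (Nat.pow_le_pow_iff_right hp).1 h1
  omega

/-- Let p be a prime and S a finite p-group of order pⁿ (n ≥ 2) of maximal nilpotency class n − 1 whose sectional p-rank is exactly k (every section has p-rank at most k, and some section has p-rank k). If p ≥ k + 2 then the order of S is at most p^(2k). -/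
theorem result {S : Type*} [Group S] [Finite S] (p : ℕ) [Fact p.Prime] (hS : IsPGroup p S) [Group.IsNilpotent S]
    (n : ℕ) (hn : 2 ≤ n) (hcard : Nat.card S = p ^ n) (hmax : Group.nilpotencyClass S = n - 1)
    (k : ℕ) (hk : 1 ≤ k) (hsr : Cfsg.SectionalPRankLE p k S ∧ ¬ Cfsg.SectionalPRankLE p (k - 1) S)
    (hpk : k + 2 ≤ p) : Nat.card S ≤ p ^ (2 * k) := by
  have hp' : p.Prime := Fact.out
  have hp1 := hp'.one_lt
  rw [hcard]
  by_contra hcon
  have hlt : 2 * k < n := by
    by_contra hle
    exact hcon (Nat.pow_le_pow_right hp'.pos (by omega))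
  have hn3 : 3 ≤ n := by omega
  have h : MC S p n := MC.of_class hn3 hcard hmax
  rcases Nat.lt_or_ge k 2 with hk1 | hk2
  · -- `k = 1`: the section `S / LL 1` of order `p ^ 2`.
    have e : k = 1 := by omega
    subst e
    refine no_section hp1 hsr.1 ⊤ (LL S 1) le_top ?_ ?_ ?_
    · rw [Subgroup.card_top]
      exact h.card_top_eq
    · intro a _ b _
      exact comm_top_mem_LL (i := 0) (Subgroup.mem_top a) b
    · intro a _
      exact h.pow_mem_LL_one a
  · -- `k ≥ 2`: the section `LL (k - 1) / LL (2 k)` of order `p ^ (k + 1)`.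
    have hcommH : ∀ a ∈ LL S (k - 1), ∀ b ∈ LL S (k - 1), ⁅a, b⁆ ∈ LL S (2 * k) := by
      obtain ⟨w, hw, hw'⟩ : ∃ w ∈ LL S (k - 1), w ∉ LL S (k - 1 + 1) :=
        SetLike.exists_of_lt (h.lt_LL (i := k - 1) (by omega))
      have hdec := fun {a : S} (ha : a ∈ LL S (k - 1)) => h.decomp (by omega) hw hw' ha
      have hy : ∀ y ∈ LL S (k - 1 + 1), ∀ b ∈ LL S (k - 1), ⁅y, b⁆ ∈ LL S (2 * k) := by
        intro y hy b hb
        have := comm_mem_LL hy hb
        rwa [show k - 1 + 1 + (k - 1) + 1 = 2 * k by omega] at this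
      have h1 : ∀ b ∈ LL S (k - 1), ⁅b, w⁆ ∈ LL S (2 * k) := by
        intro b hb
        obtain ⟨t, z, hz, rfl⟩ := hdec hb
        refine comm_mul_mem ?_ (hy z hz w hw)
        have : ⁅w ^ t, w⁆ = 1 := by
          rw [commutatorElement_eq_one_iff_mul_comm]
          exact (Commute.refl w).pow_left t
        rw [this]
        exact one_mem _
      intro a ha b hb
      obtain ⟨s, y, hy', rfl⟩ := hdec ha
      refine comm_mul_mem (comm_pow_mem ?_ s) (hy y hy' b hb)
      rw [← commutatorElement_inv]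
      exact inv_mem (h1 b hb)
    refine no_section hp1 hsr.1 (LL S (k - 1)) (LL S (2 * k)) (LL_anti (by omega)) ?_ hcommH ?_
    · rw [h.card_LL (i := k - 1) (by omega) (by omega), h.card_LL (i := 2 * k) (by omega) (by omega),
        ← pow_add]
      congr 1
      omega
    · intro a ha
      have := h.pow_mem_of_mem (i := k - 1) (by omega) ha
      exact LL_anti (by omega) this

end Cfsg.Agent.S3806
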