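import Cfsg.Statements.S3808
import Cfsg.Agent.S0112

set_option autoImplicit false
open Cfsg

namespace Cfsg.Agent.S3808

theorem result {S : Type*} [Group S] [Finite S] (p : ℕ) [Fact p.Prime] (hS : IsPGroup p S) (Q : Subgroup S) (hQ : Cfsg.IsExtraspecial p ↥Q) (hQi : Q.index = p) :
    Subgroup.center S = (Subgroup.center ↥Q).map Q.subtype ∨
      (Q ⊔ Subgroup.center S = ⊤ ∧ Nat.card (Subgroup.center S) = p ^ 2) := by
  classical
  have hp : p.Prime := Fact.out
  have hQn : Q.Normal := by
    apply Subgroup.normal_of_index_eq_minFac_card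
    obtain ⟨k, hk⟩ := IsPGroup.iff_card.1 hS
    have hk0 : k ≠ 0 := by
      rintro rfl
      have h1 := Q.index_dvd_card
      rw [hQi, hk, pow_zero] at h1
      exact hp.one_lt.ne' (Nat.dvd_one.1 h1)
    rw [hk, hQi, Nat.Prime.pow_minFac hp hk0]
  set Z : Subgroup S := (Subgroup.center ↥Q).map Q.subtype with hZ
  have hZcard : Nat.card Z = p := by
    rw [hZ, ← hQ.2]
    exact Nat.card_congr (Subgroup.equivMapOfInjective _ _ Q.subtype_injective).toEquiv.symm
  have hZmem : ∀ x : S, x ∈ Z ↔ x ∈ Q ∧ ∀ q ∈ Q, q * x = x * q := by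
    intro x
    constructor
    · rintro ⟨y, hy, rfl⟩
      refine ⟨y.2, fun q hq => ?_⟩
      have := (Subgroup.mem_center_iff.1 hy) ⟨q, hq⟩
      exact congrArg Subtype.val this
    · rintro ⟨hxQ, hx⟩
      refine ⟨⟨x, hxQ⟩, ?_, rfl⟩
      refine SetLike.mem_coe.2 (Subgroup.mem_center_iff.2 ?_)
      rintro ⟨q, hq⟩
      exact Subtype.ext (hx q hq)
  have hZn : Z.Normal := by
    refine ⟨fun z hz s => ?_⟩
    rw [hZmem] at hz ⊢
    refine ⟨hQn.conj_mem _ hz.1 s, fun q hq => ?_⟩
    have h1 := hz.2 (s⁻¹ * q * s) (by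
      have := hQn.conj_mem q hq s⁻¹
      simpa using this)
    have h2 : q = s * (s⁻¹ * q * s) * s⁻¹ := by group
    calc q * (s * z * s⁻¹) = s * ((s⁻¹ * q * s) * z) * s⁻¹ := by group
      _ = s * (z * (s⁻¹ * q * s)) * s⁻¹ := by rw [h1]
      _ = s * z * s⁻¹ * q := by group
  have hZcen : Z ≤ Subgroup.center S := by
    intro z hz
    rw [Subgroup.mem_center_iff]
    intro s
    have hs : s ∈ Subgroup.normalizer (Z : Set S) := by
      rw [Subgroup.normalizer_eq_top_iff.2 hZn]
      trivial
    have := Cfsg.Agent.S0112.normalizer_le_centralizer_of_card_eq hS Z hZcard hs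
    rw [Subgroup.mem_centralizer_iff] at this
    exact (this z hz).symm
  have hinf : Q ⊓ Subgroup.center S = Z := by
    apply le_antisymm
    · rintro x ⟨hxQ, hxc⟩
      rw [hZmem]
      exact ⟨hxQ, fun q _ => Subgroup.mem_center_iff.1 hxc q⟩
    · intro z hz
      exact ⟨((hZmem z).1 hz).1, hZcen hz⟩
  by_cases hle : Subgroup.center S ≤ Q
  · left
    rw [← hinf]
    exact (inf_eq_right.2 hle).symm
  · right
    have hrel1 := Subgroup.relIndex_sup_left (H := Subgroup.center S) (K := Q)
    have hsup : Q ⊔ Subgroup.center S = ⊤ := by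
      have h1 : Q.relIndex (Q ⊔ Subgroup.center S) * (Q ⊔ Subgroup.center S).index = Q.index :=
        Subgroup.relIndex_mul_index le_sup_left
      rw [hQi] at h1
      rcases (Nat.dvd_prime hp).1 (Dvd.intro_left _ h1) with h2 | h2
      · exact Subgroup.index_eq_one.1 h2
      · exfalso
        rw [h2] at h1
        have h3 : Q.relIndex (Q ⊔ Subgroup.center S) = 1 := by
          have := hp.pos
          nlinarith
        exact hle (le_trans le_sup_right (Subgroup.relIndex_eq_one.1 h3))
    refine ⟨hsup, ?_⟩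
    rw [hsup, Subgroup.relIndex_top_right, hQi] at hrel1
    have h4 : Z.relIndex (Subgroup.center S) = p := by
      rw [← hinf, Subgroup.inf_relIndex_right, ← hrel1]
    have h5 := Subgroup.relIndex_mul_relIndex (⊥ : Subgroup S) Z (Subgroup.center S) bot_le hZcen
    rw [Subgroup.relIndex_bot_left, Subgroup.relIndex_bot_left, hZcard, h4] at h5
    rw [← h5, pow_two]

end Cfsg.Agent.S3808
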