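import Cfsg.Statements.S3809
import Mathlib
import Cfsg.Agent.Lib.PGroup.Extraspecial
-- import your own Cfsg.Agent.* helpers here

set_option autoImplicit false
open Cfsg

namespace Cfsg.Agent.S3809

section
open scoped commutatorElement
open Subgroup Cfsg.Agent.Lib.PGroup.Extraspecial

theorem aux {S : Type*} [Group S] [Finite S] (p : ℕ) [hp : Fact p.Prime] (hS : IsPGroup p S)
    (Q : Subgroup S) (hQ : Cfsg.IsExtraspecial p ↥Q) (hQi : Q.index = p) :
    (∃ n : ℕ, 1 ≤ n ∧ Nat.card S = p ^ (2 + 2 * n)) ∧ derivedSeries S 3 = ⊥ ∧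
      ∀ x : S, x ^ (p ^ 3) = 1 := by
  have hQn : Q.Normal := by
    have hnt : Nat.card S ≠ 1 := by
      intro h1
      have : Subsingleton S := (Nat.card_eq_one_iff_unique.mp h1).1
      have h2 : Q = ⊤ := Subsingleton.elim _ _
      rw [h2, Subgroup.index_top] at hQi
      exact hp.out.one_lt.ne hQi
    obtain ⟨k, hk⟩ := IsPGroup.iff_card.mp hS
    have hk0 : k ≠ 0 := by
      rintro rfl
      exact hnt (by simpa using hk)
    apply Subgroup.normal_of_index_eq_minFac_card
    rw [hQi, hk, hp.out.pow_minFac hk0]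
  have hqcard : Nat.card (S ⧸ Q) = p := hQi
  have hqc : IsCyclic (S ⧸ Q) := isCyclic_of_prime_card hqcard
  refine ⟨?_, ?_, ?_⟩
  · obtain ⟨n, hn, hcard⟩ := IsExtraspecial.exists_card_eq hQ
    refine ⟨n, hn, ?_⟩
    have := Subgroup.card_mul_index Q
    rw [hcard, hQi] at this
    rw [← this]
    ring
  · have hD1 : commutator S ≤ Q := by
      rw [commutator_def, Subgroup.commutator_le]
      intro a _ b _
      rw [← QuotientGroup.eq_one_iff, commutatorElement_def]
      have hcomm : ∀ x y : S ⧸ Q, x * y = y * x :=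
        fun x y => (IsCyclic.commGroup (α := S ⧸ Q)).mul_comm x y
      simp only [QuotientGroup.mk_mul, QuotientGroup.mk_inv]
      rw [hcomm (a : S ⧸ Q) (b : S ⧸ Q)]
      group
    have hN : ∀ a b : Q, ⁅(a : S), (b : S)⁆ ∈ (center Q).map Q.subtype := by
      intro a b
      exact ⟨⁅a, b⁆, IsExtraspecial.comm_mem_center hQ a b, rfl⟩
    have hD2 : ⁅commutator S, commutator S⁆ ≤ (center Q).map Q.subtype := by
      rw [Subgroup.commutator_le]
      intro a ha b hb
      exact hN ⟨a, hD1 ha⟩ ⟨b, hD1 hb⟩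
    have h3 : derivedSeries S 3 = ⁅⁅commutator S, commutator S⁆, ⁅commutator S, commutator S⁆⁆ := rfl
    rw [h3, eq_bot_iff, Subgroup.commutator_le]
    intro a ha b hb
    obtain ⟨a', ha', rfl⟩ := hD2 ha
    obtain ⟨b', hb', rfl⟩ := hD2 hb
    rw [Subgroup.mem_bot, commutatorElement_eq_one_iff_mul_comm]
    exact congrArg Subtype.val (mem_center_iff.mp ha' b').symm
  · intro x
    have h1 : x ^ p ∈ Q := by
      rw [← QuotientGroup.eq_one_iff, QuotientGroup.mk_pow, ← hqcard]
      exact pow_card_eq_one'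
    have h2 := IsSpecial.pow_sq_eq_one hQ.1 ⟨x ^ p, h1⟩
    have h3 : (x ^ p) ^ p ^ 2 = 1 := congrArg Subtype.val h2
    rw [← pow_mul] at h3
    rw [show p ^ 3 = p * p ^ 2 by ring]
    exact h3

end

/-- Let S be a finite p-group with an extraspecial subgroup of index p. Then S has order p^(2+2n) for some n ≥ 1, derived length at most 3, and exponent dividing p³. -/
theorem result {S : Type*} [Group S] [Finite S] (p : ℕ) [Fact p.Prime] (hS : IsPGroup p S) (Q : Subgroup S) (hQ : Cfsg.IsExtraspecial p ↥Q) (hQi : Q.index = p) :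
    (∃ n : ℕ, 1 ≤ n ∧ Nat.card S = p ^ (2 + 2 * n)) ∧ derivedSeries S 3 = ⊥ ∧ ∀ x : S, x ^ (p ^ 3) = 1 := by
  exact aux p hS Q hQ hQi

end Cfsg.Agent.S3809
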