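import Cfsg.Statements.S3810
import Mathlib
import Cfsg.Agent.Lib.PGroup.Extraspecial
-- import your own Cfsg.Agent.* helpers here

set_option autoImplicit false
open Cfsg

namespace Cfsg.Agent.S3810

section
open scoped commutatorElement
open Subgroup Cfsg.Agent.Lib.PGroup.Extraspecial

/-- A normal subgroup of prime order of a finite `p`-group is central. -/
theorem le_center_of_normal_of_card_eq {G : Type*} [Group G] [Finite G] {p : ℕ} [hp : Fact p.Prime]
    (hG : IsPGroup p G) (N : Subgroup G) [N.Normal] (hN : Nat.card N = p) : N ≤ center G := by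
  have hne : N ≠ ⊥ := by
    intro hb
    rw [hb, Subgroup.card_bot] at hN
    exact hp.out.one_lt.ne hN
  have h1 := Cfsg.Agent.Lib.PGroup.Basic.inf_center_ne_bot hG (N := N) hne
  have h2 : (N ⊓ center G).subgroupOf N = ⊤ := by
    obtain h4 | h4 := ((N ⊓ center G).subgroupOf N).eq_bot_or_eq_top_of_prime_card
      (hp := by rw [hN]; exact hp)
    · exfalso
      apply h1
      rw [Subgroup.subgroupOf_eq_bot] at h4
      exact (h4.eq_bot_of_le inf_le_left)
    · exact h4
  rw [Subgroup.subgroupOf_eq_top] at h2
  exact le_inf_iff.mp h2 |>.2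

theorem aux {S : Type*} [Group S] [Finite S] (p : ℕ) [hp : Fact p.Prime] (hS : IsPGroup p S)
    (Q : Subgroup S) (hQ : Cfsg.IsExtraspecial p ↥Q) (hQi : Q.index = p) :
    (∃ A : Subgroup S, IsMulCommutative ↥A ∧ A.index = p) ↔ Nat.card S = p ^ 4 := by
  have hp0 : 0 < p := hp.out.pos
  have hp1 : 1 < p := hp.out.one_lt
  have hcard := Subgroup.card_mul_index Q
  rw [hQi] at hcard
  have hc := IsExtraspecial.comm_mem_center hQ
  constructor
  · rintro ⟨A, hA, hAi⟩
    let B : Subgroup Q := A.subgroupOf Q
    have hB : B ≤ centralizer (B : Set Q) := by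
      rintro ⟨x, hx⟩ hxB
      rw [mem_centralizer_iff]
      rintro ⟨y, hy⟩ hyB
      apply Subtype.ext
      have := hA.is_comm.comm ⟨y, hyB⟩ ⟨x, hxB⟩
      have h' : y * x = x * y := congrArg Subtype.val this
      exact h'
    have h1 := card_sq_le_of_le_centralizer hQ.1.1 hc hQ.2 hB
    have hrel : B.index ≤ p := by
      have h2 : A.relIndex Q ≤ A.relIndex ⊤ := by
        apply Subgroup.relIndex_le_of_le_right le_top
        rw [Subgroup.relIndex_top_right, hAi]
        exact hp.out.ne_zero
      rw [Subgroup.relIndex_top_right, hAi] at h2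
      exact h2
    have hcardB := Subgroup.card_mul_index B
    obtain ⟨n, hn, hQcard⟩ := IsExtraspecial.exists_card_eq hQ
    -- `|Q| ≤ p³`
    have hQle : Nat.card Q ≤ p ^ 3 := by
      have hqpos : 0 < Nat.card Q := Nat.card_pos
      have h3 : Nat.card Q * Nat.card Q ≤ Nat.card Q * p ^ 3 := by
        calc Nat.card Q * Nat.card Q
            = Nat.card B ^ 2 * B.index ^ 2 := by rw [← hcardB]; ring
          _ ≤ (Nat.card Q * p) * p ^ 2 := Nat.mul_le_mul h1 (Nat.pow_le_pow_left hrel 2)
          _ = Nat.card Q * p ^ 3 := by ring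
      exact Nat.le_of_mul_le_mul_left h3 hqpos
    rw [hQcard] at hQle
    have hn1 : 2 * n + 1 ≤ 3 := (Nat.pow_le_pow_iff_right hp1).mp hQle
    have hn2 : n = 1 := by omega
    subst hn2
    rw [← hcard, hQcard]
    ring
  · intro hcardS
    classical
    have hQn : Q.Normal := by
      apply Subgroup.normal_of_index_eq_minFac_card
      rw [hQi, hcardS, hp.out.pow_minFac (by norm_num)]
    have hQcard : Nat.card Q = p ^ 3 := by
      have : Nat.card Q * p = p ^ 3 * p := by rw [hcard, hcardS]; ring
      exact Nat.eq_of_mul_eq_mul_right hp0 this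
    -- the centre `N` of `Q` viewed in `S`
    let N : Subgroup S := (center Q).map Q.subtype
    have hNcard : Nat.card N = p := by
      rw [← hQ.2]
      exact Nat.card_congr (Subgroup.equivMapOfInjective _ _ Q.subtype_injective).toEquiv.symm
    have hNmem : ∀ x : S, x ∈ N ↔ x ∈ Q ∧ ∀ y ∈ Q, y * x = x * y := by
      intro x
      constructor
      · rintro ⟨z, hz, rfl⟩
        refine ⟨z.2, fun y hy => ?_⟩
        have := mem_center_iff.mp hz ⟨y, hy⟩
        exact congrArg Subtype.val this
      · rintro ⟨hx1, hx2⟩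
        refine ⟨⟨x, hx1⟩, ?_, rfl⟩
        rw [SetLike.mem_coe, mem_center_iff]
        rintro ⟨y, hy⟩
        exact Subtype.ext (hx2 y hy)
    have hNnormal : N.Normal := by
      constructor
      intro z hz g
      obtain ⟨hz1, hz2⟩ := (hNmem z).mp hz
      refine (hNmem _).mpr ⟨hQn.conj_mem z hz1 g, fun y hy => ?_⟩
      have hy' : g⁻¹ * y * g ∈ Q := by
        have := hQn.conj_mem y hy g⁻¹
        simpa using this
      have h1 := hz2 _ hy'
      calc y * (g * z * g⁻¹) = g * ((g⁻¹ * y * g) * z) * g⁻¹ := by group
        _ = g * (z * (g⁻¹ * y * g)) * g⁻¹ := by rw [h1]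
        _ = g * z * g⁻¹ * y := by group
    have hNcentral : N ≤ center S := le_center_of_normal_of_card_eq hS N hNcard
    have hNQ : N ≤ Q := fun x hx => ((hNmem x).mp hx).1
    -- an element `a ∈ Q ∖ N` central modulo `N`
    have hSq : IsPGroup p (S ⧸ N) := hS.to_quotient N
    have hQbar : Q.map (QuotientGroup.mk' N) ≠ ⊥ := by
      intro hb
      rw [Subgroup.map_eq_bot_iff, QuotientGroup.ker_mk'] at hb
      have := Subgroup.card_le_of_le hb
      rw [hQcard, hNcard] at this
      have h2 : p ^ 1 < p ^ 3 := Nat.pow_lt_pow_right hp1 (by norm_num)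
      rw [pow_one] at h2
      omega
    have : (Q.map (QuotientGroup.mk' N)).Normal :=
      Subgroup.Normal.map hQn _ (QuotientGroup.mk'_surjective N)
    have hinf := Cfsg.Agent.Lib.PGroup.Basic.inf_center_ne_bot hSq hQbar
    obtain ⟨⟨abar, habar⟩, hane'⟩ := Subgroup.ne_bot_iff_exists_ne_one.mp hinf
    have hane : abar ≠ 1 := fun h => hane' (Subtype.ext h)
    obtain ⟨⟨a, haQ, rfl⟩, hacen⟩ := Subgroup.mem_inf.mp habar
    have haN : a ∉ N := by
      intro h
      apply hane
      exact (QuotientGroup.eq_one_iff a).mpr h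
    have hcomm : ∀ s : S, ⁅s, a⁆ ∈ N := by
      intro s
      rw [← QuotientGroup.eq_one_iff, commutatorElement_def]
      have h1 := mem_center_iff.mp hacen (s : S ⧸ N)
      change (s : S ⧸ N) * (QuotientGroup.mk a) = (QuotientGroup.mk a) * (s : S ⧸ N) at h1
      simp only [QuotientGroup.mk_mul, QuotientGroup.mk_inv]
      rw [h1]
      group
    -- the homomorphism `s ↦ ⁅s, a⁆` to `N`
    let f : S →* N :=
      { toFun := fun s => ⟨⁅s, a⁆, hcomm s⟩
        map_one' := by ext; simp
        map_mul' := fun s t => by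
          apply Subtype.ext
          have h1 := commutatorElement_mul_left_eq_conj_mul s t a
          change ⁅s * t, a⁆ = ⁅s, a⁆ * ⁅t, a⁆
          rw [h1]
          have h2 : s * ⁅t, a⁆ = ⁅t, a⁆ * s := (mem_center_iff.mp (hNcentral (hcomm t)) s)
          rw [h2, mul_inv_cancel_right]
          exact (mem_center_iff.mp (hNcentral (hcomm t)) _).symm }
    let C : Subgroup S := centralizer ({a} : Set S)
    have hker : f.ker = C := by
      ext s
      rw [MonoidHom.mem_ker]
      constructor
      · intro h
        exact mem_centralizer_singleton_iff_comm.mpr (congrArg Subtype.val h)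
      · intro h
        exact Subtype.ext (mem_centralizer_singleton_iff_comm.mp h)
    have hCi : C.index = p := by
      rw [← hker, Subgroup.index_ker]
      have : Fact (Nat.card N).Prime := by rw [hNcard]; exact hp
      obtain h | h := f.range.eq_bot_or_eq_top_of_prime_card
      · exfalso
        apply haN
        refine (hNmem a).mpr ⟨haQ, fun y _ => ?_⟩
        have h1 : f y = 1 := by
          have : f y ∈ f.range := ⟨y, rfl⟩
          rw [h] at this
          simpa using this
        have h2 : ⁅y, a⁆ = 1 := congrArg Subtype.val h1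
        exact (commutatorElement_eq_one_iff_mul_comm).mp h2
      · rw [h, Subgroup.card_top, hNcard]
    have hCcard : Nat.card C = p ^ 3 := by
      have h1 := Subgroup.card_mul_index C
      rw [hCi, hcardS] at h1
      have : Nat.card C * p = p ^ 3 * p := by rw [h1]; ring
      exact Nat.eq_of_mul_eq_mul_right hp0 this
    refine ⟨C, ?_, hCi⟩
    -- `C` has large centre
    have haC : a ∈ C := mem_centralizer_singleton_iff_comm.mpr (by simp)
    have hNC : N ≤ C := by
      intro x hx
      exact mem_centralizer_singleton_iff_comm.mpr (by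
        rw [commutatorElement_eq_one_iff_mul_comm]
        exact (mem_center_iff.mp (hNcentral hx) a).symm)
    let D : Subgroup C := center C
    have hN'D : N.subgroupOf C ≤ D := by
      intro x hx
      rw [mem_center_iff]
      intro y
      apply Subtype.ext
      exact (mem_center_iff.mp (hNcentral hx) y)
    have ha'D : (⟨a, haC⟩ : C) ∈ D := by
      rw [mem_center_iff]
      intro y
      apply Subtype.ext
      have := mem_centralizer_singleton_iff_comm.mp y.2
      exact ((commutatorElement_eq_one_iff_mul_comm).mp this)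
    have ha'N : (⟨a, haC⟩ : C) ∉ N.subgroupOf C := haN
    have hlt : N.subgroupOf C < D := lt_of_le_of_ne hN'D (fun h => ha'N (h ▸ ha'D))
    have hcardlt : p < Nat.card D := by
      have h1 : Nat.card (N.subgroupOf C) < Nat.card D := by
        by_contra hge
        exact hlt.ne (Subgroup.eq_of_le_of_card_ge hlt.le (not_lt.mp hge))
      have h2 : Nat.card (N.subgroupOf C) = Nat.card N :=
        Nat.card_congr (subgroupOfEquivOfLe hNC).toEquiv
      rwa [h2, hNcard] at h1
    obtain ⟨k, hk⟩ := IsPGroup.iff_card.mp ((hS.to_subgroup C).to_subgroup D)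
    have hk2 : 2 ≤ k := by
      rw [hk] at hcardlt
      by_contra hlt2
      have hk1 : k ≤ 1 := by omega
      have h3 : p ^ k ≤ p ^ 1 := Nat.pow_le_pow_right hp0 hk1
      rw [pow_one] at h3
      omega
    obtain ⟨j, rfl⟩ : ∃ j, k = j + 2 := ⟨k - 2, by omega⟩
    have hidx : Nat.card (C ⧸ D) ∣ p := by
      have h1 := Subgroup.card_mul_index D
      rw [hk, hCcard] at h1
      have h2 : p ^ j * D.index = p := by
        have h3 : (p ^ j * D.index) * p ^ 2 = p * p ^ 2 := by
          rw [show p * p ^ 2 = p ^ 3 by ring, ← h1]; ring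
        exact Nat.eq_of_mul_eq_mul_right (by positivity) h3
      exact ⟨p ^ j, by rw [mul_comm]; exact h2.symm⟩
    have hcyc : IsCyclic (C ⧸ D) := isCyclic_of_card_dvd_prime hidx
    exact (QuotientGroup.mk' D).isMulCommutative_of_isCyclic_of_ker_le_center
      (by rw [QuotientGroup.ker_mk'])

end

/-- Let S be a finite p-group with an extraspecial subgroup of index p. Then S has an abelian subgroup of index p if and only if S has order p⁴. -/
theorem result {S : Type*} [Group S] [Finite S] (p : ℕ) [Fact p.Prime] (hS : IsPGroup p S) (Q : Subgroup S) (hQ : Cfsg.IsExtraspecial p ↥Q) (hQi : Q.index = p) :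
    (∃ A : Subgroup S, IsMulCommutative ↥A ∧ A.index = p) ↔ Nat.card S = p ^ 4 := by
  exact aux p hS Q hQ hQi

end Cfsg.Agent.S3810
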