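import Cfsg.Statements.S3811
import Mathlib
import Cfsg.Agent.Lib.PGroup.Soft
-- import your own Cfsg.Agent.* helpers here

set_option autoImplicit false
open Cfsg

namespace Cfsg.Agent.S3811

/-- Let P be a finite p-group and E an abelian subgroup of P that contains its centralizer, has index p in its normalizer, and has index at least p² in P. Then the subgroups of P containing E are totally ordered by inclusion, each proper one has index p in its normalizer (so they form the normalizer tower of E, with all steps of index p), and the i-th member of the tower above E has nilpotency class i + 1 whenever it is a proper subgroup of P. -/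
theorem result {P : Type*} [Group P] [Finite P] (p : ℕ) [Fact p.Prime] (hP : IsPGroup p P)
    (E : Subgroup P) (hEab : IsMulCommutative ↥E) (hC : Subgroup.centralizer (E : Set P) ≤ E)
    (hN : (E.subgroupOf (Subgroup.normalizer (E : Set P))).index = p) (hidx : p ^ 2 ≤ E.index) :
    (∀ K L : Subgroup P, E ≤ K → E ≤ L → K ≤ L ∨ L ≤ K) ∧
      (∀ K : Subgroup P, E ≤ K → K ≠ ⊤ → (K.subgroupOf (Subgroup.normalizer (K : Set P))).index = p) ∧
      ∀ (i : ℕ) (K : Subgroup P) [Group.IsNilpotent ↥K], E ≤ K → K ≠ ⊤ → K.index * p ^ i = E.index →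
        Group.nilpotencyClass ↥K = i + 1 := by
  open Cfsg.Agent.Lib.PGroup.Soft in
  have hE : Soft p E := ⟨fun a ha b hb => by
      have := hEab.is_comm.comm ⟨a, ha⟩ ⟨b, hb⟩
      simpa using congrArg Subtype.val this, hC, hN, hidx⟩
  have hT := Cfsg.Agent.Lib.PGroup.Soft.tower_of_soft (p := p) _ P E hP hE rfl
  have hpp : p.Prime := Fact.out
  refine ⟨hT.chain, hT.step, ?_⟩
  intro i K _ hEK hK hidxK
  apply le_antisymm
  · rw [← Subgroup.lowerCentralSeries_eq_bot_iff_nilpotencyClass_le]
    have hlcs : K.lowerCentralSeries (i + 1) = ⊥ := by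
      rcases i with _ | i
      · have hKE : K = E := by
          simp only [pow_zero, mul_one] at hidxK
          have h2 := Subgroup.relIndex_mul_index hEK
          rw [← hidxK] at h2
          have hpos : 0 < K.index := Nat.pos_of_ne_zero Subgroup.index_ne_zero_of_finite
          have h3 : E.relIndex K = 1 := by
            have : E.relIndex K * K.index = 1 * K.index := by rw [h2, one_mul]
            exact Nat.eq_of_mul_eq_mul_right hpos this
          exact le_antisymm (Subgroup.relIndex_eq_one.mp h3) hEK
        rw [hKE]
        change ⁅E, E⁆ = ⊥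
        rw [Subgroup.commutator_eq_bot_iff_le_centralizer]
        intro a ha
        rw [Subgroup.mem_centralizer_iff]
        intro b hb
        exact hE.ab b hb a ha
      · exact Cfsg.Agent.Lib.PGroup.Soft.upper_of_soft (p := p) _ P E hP hE rfl K (i + 1) hEK hK (by omega) hidxK
    rw [← Subgroup.top_subtype_lowerCentralSeries K] at hlcs
    exact (Subgroup.map_eq_bot_iff_of_injective _ K.subtype_injective).mp hlcs
  · set c := Group.nilpotencyClass ↥K with hc
    have hc0 : c ≠ 0 := by
      intro h
      have h1 := Group.nilpotencyClass_zero_iff_subsingleton.mp h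
      apply hE.ne_bot
      rw [eq_bot_iff]
      intro a ha
      have : (⟨a, hEK ha⟩ : ↥K) = 1 := Subsingleton.elim _ _
      simpa using congrArg Subtype.val this
    obtain ⟨j, hj⟩ : ∃ j, c = j + 1 := ⟨c - 1, by omega⟩
    have h1 := Cfsg.Agent.Lib.PGroup.Soft.card_le_of_ucs hP hE hEK hK j
    have h2 : Subgroup.upperCentralSeries ↥K (j + 1) = ⊤ := by
      rw [← hj, hc]; exact Subgroup.upperCentralSeries_nilpotencyClass
    rw [h2, ← MonoidHom.range_eq_map, Subgroup.range_subtype, sup_eq_left.mpr hEK] at h1
    -- card K = card E * p ^ i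
    have h3 : Nat.card K = Nat.card E * p ^ i := by
      have e1 := K.card_mul_index
      have e2 := E.card_mul_index
      rw [← hidxK] at e2
      have hpos : 0 < K.index := Nat.pos_of_ne_zero Subgroup.index_ne_zero_of_finite
      apply Nat.eq_of_mul_eq_mul_right hpos
      rw [e1, ← e2]; ring
    rw [h3] at h1
    have hpos : 0 < Nat.card E := Nat.card_pos
    have h4 : p ^ i ≤ p ^ j := Nat.le_of_mul_le_mul_left h1 hpos
    have h5 : i ≤ j := (Nat.pow_le_pow_iff_right hpp.one_lt).mp h4
    omega

end Cfsg.Agent.S3811
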