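import Cfsg.Statements.S3864
import Cfsg.Agent.Lib.Transfer.Basic
import Cfsg.Agent.Lib.Transfer.Frobenius
import Cfsg.Agent.Lib.Transfer.IndexTwo
import Cfsg.Agent.S0514
import Cfsg.Agent.S1946

set_option autoImplicit false
open Cfsg

namespace Cfsg.Agent.S3864

open Subgroup DihedralGroup
open Cfsg.Agent.Lib.Transfer.Basic Cfsg.Agent.Lib.Transfer.Frobenius

theorem oa_ne : Multiplicative.ofAdd (1 : ZMod 2) ≠ (1 : Multiplicative (ZMod 2)) := by decide

theorem oa_aux1 : ∀ J : ZMod 2, Multiplicative.ofAdd (0 + 1 + 2 * J) ≠ (1 : Multiplicative (ZMod 2)) := by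
  decide

theorem oa_aux2 : ∀ E J : ZMod 2,
    Multiplicative.ofAdd (E + 1 + 2 * J - E) ≠ (1 : Multiplicative (ZMod 2)) := by
  decide

section Dih

variable {m : ℕ}

/-- The parity homomorphisms of a dihedral group of even degree. -/
def chi (hm2 : 2 ∣ m) (ε : ZMod m) : DihedralGroup m →* Multiplicative (ZMod 2) :=
  MonoidHom.mk' (fun x => match x with
    | r i => Multiplicative.ofAdd (ZMod.castHom hm2 (ZMod 2) i)
    | sr i => Multiplicative.ofAdd (ZMod.castHom hm2 (ZMod 2) (i - ε))) (by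
      have k1 : ∀ A B E : ZMod 2, B - A - E = A + (B - E) := by decide
      have k2 : ∀ A B E : ZMod 2, A + B - E = A - E + B := by decide
      have k3 : ∀ A B E : ZMod 2, B - A = A - E + (B - E) := by decide
      rintro (i | i) (j | j)
      · show Multiplicative.ofAdd (ZMod.castHom hm2 (ZMod 2) (i + j)) = _
        rw [map_add]
        rfl
      · show _ = Multiplicative.ofAdd _ * Multiplicative.ofAdd _
        rw [← ofAdd_add, r_mul_sr]
        show Multiplicative.ofAdd _ = _
        congr 1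
        simp only [map_sub]
        exact k1 _ _ _
      · show _ = Multiplicative.ofAdd _ * Multiplicative.ofAdd _
        rw [← ofAdd_add, sr_mul_r]
        show Multiplicative.ofAdd _ = _
        congr 1
        simp only [map_sub, map_add]
        exact k2 _ _ _
      · show _ = Multiplicative.ofAdd _ * Multiplicative.ofAdd _
        rw [← ofAdd_add, sr_mul_sr]
        show Multiplicative.ofAdd _ = _
        congr 1
        simp only [map_sub]
        exact k3 _ _ _)

theorem chi_r (hm2 : 2 ∣ m) (ε i : ZMod m) :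
    chi hm2 ε (r i) = Multiplicative.ofAdd (ZMod.castHom hm2 (ZMod 2) i) := rfl

theorem chi_sr (hm2 : 2 ∣ m) (ε i : ZMod m) :
    chi hm2 ε (sr i) = Multiplicative.ofAdd (ZMod.castHom hm2 (ZMod 2) (i - ε)) := rfl

theorem conj_sr (j k : ZMod m) : r (-j) * sr k * (r (-j))⁻¹ = sr (k + 2 * j) := by
  rw [inv_r, r_mul_sr, sr_mul_r]
  congr 1
  ring

theorem parity [NeZero m] (ε i : ZMod m) : ∃ j : ZMod m, i = ε + 2 * j ∨ i = ε + 1 + 2 * j := by
  obtain ⟨v, hv⟩ : ∃ v : ℕ, i - ε = v := ⟨(i - ε).val, (ZMod.natCast_zmod_val _).symm⟩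
  obtain ⟨j, hj | hj⟩ := Nat.even_or_odd' v
  · refine ⟨j, Or.inl ?_⟩
    have : i = ε + (v : ZMod m) := by rw [← hv]; ring
    rw [this, hj]; push_cast; ring
  · refine ⟨j, Or.inr ?_⟩
    have : i = ε + (v : ZMod m) := by rw [← hv]; ring
    rw [this, hj]; push_cast; ring

/-- classification of the involutions of a dihedral group -/
theorem classify [NeZero m] (k : ℕ) (hk : m = 2 * k) (ε : ZMod m) (w : DihedralGroup m)
    (hw : w ^ 2 = 1) (hw1 : w ≠ 1) :
    w = r (k : ZMod m) ∨ (∃ j : ZMod m, w = r (-j) * sr ε * (r (-j))⁻¹) ∨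
      (∃ j : ZMod m, w = r (-j) * sr (ε + 1) * (r (-j))⁻¹) := by
  rcases w with i | i
  · left
    have hkpos : 0 < k := by
      rcases Nat.eq_zero_or_pos k with h | h
      · exfalso; rw [h] at hk; exact (NeZero.ne m) hk
      · exact h
    have h1 : (2 : ZMod m) * i = 0 := by
      rw [pow_two, r_mul_r] at hw
      have : r (i + i) = r 0 := hw
      have h2 := r.inj this
      rw [two_mul]; exact h2
    have hi : ((2 * i.val : ℕ) : ZMod m) = 0 := by
      push_cast
      rw [ZMod.natCast_zmod_val]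
      exact h1
    rw [ZMod.natCast_eq_zero_iff] at hi
    have hlt : i.val < m := ZMod.val_lt i
    obtain ⟨c, hc⟩ := hi
    have hc' : i.val = k * c := by
      have h3 : 2 * i.val = 2 * (k * c) := by
        rw [hc, ← mul_assoc, ← hk]
      exact Nat.eq_of_mul_eq_mul_left (by norm_num) h3
    have hc1 : c < 2 := by
      by_contra hn
      have : k * 2 ≤ k * c := Nat.mul_le_mul_left k (by omega)
      omega
    interval_cases c
    · exfalso
      apply hw1
      have : i = 0 := by
        rw [← ZMod.natCast_zmod_val i, show i.val = 0 by simpa using hc']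
        simp
      rw [this]; rfl
    · congr 1
      rw [← ZMod.natCast_zmod_val i, show i.val = k by simpa using hc']
  · right
    obtain ⟨j, hj | hj⟩ := parity ε i
    · left
      exact ⟨j, by rw [conj_sr, hj]⟩
    · right
      exact ⟨j, by rw [conj_sr, hj]⟩

end Dih

section Main

variable {G : Type*} [Group G] [Finite G] {P : Sylow 2 G} {m : ℕ}

/-- The embedding of the dihedral group as `P`. -/
def F (e : ↥(P : Subgroup G) ≃* DihedralGroup m) : DihedralGroup m →* G :=
  (P : Subgroup G).subtype.comp e.symm.toMonoidHom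

theorem F_mem (e : ↥(P : Subgroup G) ≃* DihedralGroup m) (d : DihedralGroup m) :
    F e d ∈ (P : Subgroup G) := (e.symm d).2

theorem F_inj (e : ↥(P : Subgroup G) ≃* DihedralGroup m) : Function.Injective (F e) := by
  intro x y h
  exact e.symm.injective (Subtype.ext h)

theorem exists_F (e : ↥(P : Subgroup G) ≃* DihedralGroup m) {x : G} (hx : x ∈ (P : Subgroup G)) :
    F e (e ⟨x, hx⟩) = x := by
  show ((e.symm (e ⟨x, hx⟩) : ↥(P : Subgroup G)) : G) = x
  rw [MulEquiv.symm_apply_apply]

theorem isConj_of_F (e : ↥(P : Subgroup G) ≃* DihedralGroup m) {g y : G} {d x u : DihedralGroup m}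
    (hd : F e d = y * g * y⁻¹) (h : d = x * u * x⁻¹) : IsConj g (F e u) := by
  rw [isConj_iff]
  refine ⟨(F e x)⁻¹ * y, ?_⟩
  have h1 : F e d = F e x * F e u * (F e x)⁻¹ := by
    rw [h, map_mul, map_mul, map_inv]
  rw [hd] at h1
  calc (F e x)⁻¹ * y * g * ((F e x)⁻¹ * y)⁻¹ = (F e x)⁻¹ * (y * g * y⁻¹) * F e x := by group
    _ = (F e x)⁻¹ * (F e x * F e u * (F e x)⁻¹) * F e x := by rw [h1]
    _ = F e u := by group

theorem inv_cases [NeZero m] (e : ↥(P : Subgroup G) ≃* DihedralGroup m) (k : ℕ) (hk : m = 2 * k)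
    (ε : ZMod m) (g : G) (hg : orderOf g = 2) :
    IsConj g (F e (r (k : ZMod m))) ∨ IsConj g (F e (sr ε)) ∨ IsConj g (F e (sr (ε + 1))) := by
  haveI : Fact (Nat.Prime 2) := ⟨Nat.prime_two⟩
  have hg2 : g ^ 2 = 1 := by rw [← hg]; exact pow_orderOf_eq_one g
  have hZ : IsPGroup 2 (zpowers g) :=
    IsPGroup.iff_card.mpr ⟨1, by rw [Nat.card_zpowers, hg, pow_one]⟩
  obtain ⟨y, hy⟩ := exists_conj_mem_of_isPGroup P hZ
  have h1 := hy g (mem_zpowers g)
  have hd := exists_F e h1
  set d := e ⟨y * g * y⁻¹, h1⟩ with hdd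
  have hd2 : d ^ 2 = 1 := by
    apply F_inj e
    rw [map_pow, hd, conj_pow, hg2, map_one]
    group
  have hd1 : d ≠ 1 := by
    intro h0
    rw [h0, map_one] at hd
    have hg1 : g = 1 := by
      have h3 : y⁻¹ * (y * g * y⁻¹) * y = y⁻¹ * 1 * y := by rw [← hd]
      simpa [mul_assoc] using h3
    rw [hg1] at hg
    simp at hg
  rcases classify k hk ε d hd2 hd1 with h | ⟨j, h⟩ | ⟨j, h⟩
  · left
    have h3 : d = 1 * r (k : ZMod m) * 1⁻¹ := by rw [h]; group
    exact isConj_of_F e hd.symm.symm h3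
  · exact Or.inr (Or.inl (isConj_of_F e hd h))
  · exact Or.inr (Or.inr (isConj_of_F e hd h))

theorem mem_A_iff [NeZero m] (e : ↥(P : Subgroup G) ≃* DihedralGroup m) (x : G) :
    x ∈ zpowers (F e (r (1 : ZMod m))) ↔ ∃ i : ZMod m, x = F e (r i) := by
  constructor
  · rintro ⟨n, rfl⟩
    refine ⟨(n : ZMod m), ?_⟩
    show _ ^ n = _
    rw [← map_zpow, r_one_zpow]
  · rintro ⟨i, rfl⟩
    refine ⟨(i.val : ℤ), ?_⟩
    show _ ^ ((i.val : ℕ) : ℤ) = _
    rw [zpow_natCast, ← map_pow, r_one_pow, ZMod.natCast_zmod_val]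

theorem A_le [NeZero m] (e : ↥(P : Subgroup G) ≃* DihedralGroup m) :
    zpowers (F e (r (1 : ZMod m))) ≤ (P : Subgroup G) := by
  rw [zpowers_le]; exact F_mem e _

theorem A_inv [NeZero m] (e : ↥(P : Subgroup G) ≃* DihedralGroup m) :
    ∀ s ∈ (P : Subgroup G), s ∉ zpowers (F e (r (1 : ZMod m))) → s ^ 2 = 1 := by
  intro s hs hna
  have h1 := exists_F e hs
  rcases h : e ⟨s, hs⟩ with i | i
  · exfalso
    rw [h] at h1
    exact hna ((mem_A_iff e s).mpr ⟨i, h1.symm⟩)
  · rw [h] at h1
    rw [← h1, ← map_pow, pow_two, sr_mul_self, map_one]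

theorem A_prod [NeZero m] (e : ↥(P : Subgroup G) ≃* DihedralGroup m) :
    ∀ s ∈ (P : Subgroup G), ∀ s' ∈ (P : Subgroup G), s ∉ zpowers (F e (r (1 : ZMod m))) →
      s' ∉ zpowers (F e (r (1 : ZMod m))) → s * s' ∈ zpowers (F e (r (1 : ZMod m))) := by
  intro s hs s' hs' hna hna'
  have h1 := exists_F e hs
  have h2 := exists_F e hs'
  rcases h : e ⟨s, hs⟩ with i | i
  · exfalso
    rw [h] at h1
    exact hna ((mem_A_iff e s).mpr ⟨i, h1.symm⟩)
  rcases h' : e ⟨s', hs'⟩ with j | j
  · exfalso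
    rw [h'] at h2
    exact hna' ((mem_A_iff e s').mpr ⟨j, h2.symm⟩)
  rw [h] at h1
  rw [h'] at h2
  rw [mem_A_iff]
  refine ⟨j - i, ?_⟩
  rw [← h1, ← h2, ← map_mul, sr_mul_sr]

/-- `z` commutes with everything in `P`. -/
theorem z_central [NeZero m] (k : ℕ) (hk : m = 2 * k) (d : DihedralGroup m) :
    d * r (k : ZMod m) = r (k : ZMod m) * d := by
  have h2k : (k : ZMod m) + k = 0 := by
    have : ((2 * k : ℕ) : ZMod m) = 0 := by
      rw [← hk]; exact ZMod.natCast_self m
    push_cast at this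
    rw [← two_mul]; exact this
  have hneg : -(k : ZMod m) = k := by
    rw [neg_eq_iff_add_eq_zero]; exact h2k
  rcases d with i | i
  · rw [r_mul_r, r_mul_r, add_comm]
  · rw [sr_mul_r, r_mul_sr]
    congr 1
    rw [sub_eq_add_neg, hneg]

theorem z_ne_one [NeZero m] (k : ℕ) (hk : m = 2 * k) : (r (k : ZMod m) : DihedralGroup m) ≠ 1 := by
  intro h
  have h1 : (k : ZMod m) = 0 := r.inj h
  rw [ZMod.natCast_eq_zero_iff] at h1
  have hkpos : 0 < k := by
    rcases Nat.eq_zero_or_pos k with h | h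
    · exfalso; rw [h] at hk; exact (NeZero.ne m) hk
    · exact h
  have := Nat.le_of_dvd hkpos h1
  omega

theorem z_sq [NeZero m] (k : ℕ) (hk : m = 2 * k) : (r (k : ZMod m) : DihedralGroup m) ^ 2 = 1 := by
  have h2k : (k : ZMod m) + k = 0 := by
    have : ((2 * k : ℕ) : ZMod m) = 0 := by
      rw [← hk]; exact ZMod.natCast_self m
    push_cast at this
    rw [← two_mul]; exact this
  rw [pow_two, r_mul_r, h2k]
  rfl

/-- When `z` is conjugate to no reflection, `G` has a normal `2`-complement. -/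
theorem nc_of_no_fusion [NeZero m] (e : ↥(P : Subgroup G) ≃* DihedralGroup m) (k : ℕ)
    (hk : m = 2 * k)
    (hza : ¬ IsConj (F e (r (k : ZMod m))) (F e (sr 0)))
    (hzb : ¬ IsConj (F e (r (k : ZMod m))) (F e (sr 1))) : Cfsg.HasNormalPComplement 2 G := by
  haveI : Fact (Nat.Prime 2) := ⟨Nat.prime_two⟩
  apply hasNormalPComplement_of_hyp
  apply frobeniusHyp_of_sylow P
  intro Q hQP g hg hc
  have hodd : Odd (orderOf g) := Nat.coprime_two_right.mp hc
  have hcyc : IsCyclic (zpowers (F e (r (1 : ZMod m)))) := inferInstance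
  have key : ∀ q ∈ Q, g * q * g⁻¹ = q := by
    by_cases hcase : ∃ y ∈ Q, y ∈ zpowers (F e (r (1 : ZMod m))) ∧ y ^ 2 ≠ 1
    · exact Cfsg.Agent.S0514.lemma_case1 (P : Subgroup G) _ P.isPGroup' (A_inv e) (A_prod e) hcyc
        Q hQP g hg hodd hcase
    push Not at hcase
    have hσQ : ∀ q ∈ Q, g * q * g⁻¹ ∈ Q := fun q hq => (mem_normalizer_iff.mp hg q).mp hq
    set z : G := F e (r (k : ZMod m)) with hz
    have hz1 : z ≠ 1 := by
      intro h
      apply z_ne_one k hk
      apply F_inj e
      rw [map_one]; exact h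
    have hz2 : z ^ 2 = 1 := by
      rw [hz, ← map_pow, z_sq k hk, map_one]
    have hzP : z ∈ (P : Subgroup G) := F_mem e _
    -- the elements of `Q` in the rotation subgroup are `1` or `z`
    have hA : ∀ y ∈ Q, y ∈ zpowers (F e (r (1 : ZMod m))) → y = 1 ∨ y = z := by
      intro y hy hyA
      have hy2 := hcase y hy hyA
      obtain ⟨i, rfl⟩ := (mem_A_iff e y).mp hyA
      by_cases hi1 : (r i : DihedralGroup m) = 1
      · left; rw [hi1, map_one]
      right
      have hi2 : (r i : DihedralGroup m) ^ 2 = 1 := by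
        apply F_inj e
        rw [map_pow, hy2, map_one]
      rcases classify k hk 0 (r i) hi2 hi1 with h | ⟨j, h⟩ | ⟨j, h⟩
      · rw [h]
      · rw [conj_sr] at h; exact absurd h (by simp)
      · rw [conj_sr] at h; exact absurd h (by simp)
    by_cases hzQ : z ∈ Q
    · -- `g` fixes `z`
      have hfix : g * z * g⁻¹ = z := by
        set w := g * z * g⁻¹ with hw
        have hwP : w ∈ (P : Subgroup G) := hQP (hσQ z hzQ)
        have hd := exists_F e hwP
        set d := e ⟨w, hwP⟩ with hdd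
        have hd2 : d ^ 2 = 1 := by
          apply F_inj e
          rw [map_pow, hd, hw, conj_pow, hz2, map_one]
          group
        have hd1 : d ≠ 1 := by
          intro h0
          rw [h0, map_one] at hd
          apply hz1
          have h3 : g⁻¹ * (g * z * g⁻¹) * g = g⁻¹ * 1 * g := by rw [← hw, ← hd]
          simpa [mul_assoc] using h3
        rcases classify k hk 0 d hd2 hd1 with h | ⟨j, h⟩ | ⟨j, h⟩
        · rw [← hd, h]
        · exact absurd (isConj_of_F e hd h) hza
        · rw [zero_add] at h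
          exact absurd (isConj_of_F e hd h) hzb
      have hzcomm : ∀ q ∈ Q, q * z = z * q := by
        intro q hq
        have h1 := exists_F e (hQP hq)
        rw [← h1, hz, ← map_mul, ← map_mul, z_central k hk]
      refine Cfsg.Agent.S0514.lemma_A (P : Subgroup G) _ P.isPGroup' (A_le e) hcyc (A_inv e)
        (A_prod e) z hzP hz2 hz1 Q hQP hzcomm g ?_ hg hodd
      calc g * z = (g * z * g⁻¹) * g := by group
        _ = z * g := by rw [hfix]
    · intro q hq
      by_cases hq1 : q = 1
      · simp [hq1]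
      have hqA : ∀ x ∈ Q, x ≠ 1 → x ∉ zpowers (F e (r (1 : ZMod m))) := by
        intro x hx hx1 hxA
        rcases hA x hx hxA with h | h
        · exact hx1 h
        · exact hzQ (h ▸ hx)
      have hσ1 : g * q * g⁻¹ ≠ 1 := by
        intro h
        apply hq1
        have h3 : g⁻¹ * (g * q * g⁻¹) * g = g⁻¹ * 1 * g := by rw [h]
        simpa [mul_assoc] using h3
      have h4 := A_prod e q (hQP hq) _ (hQP (hσQ q hq)) (hqA q hq hq1)
        (hqA _ (hσQ q hq) hσ1)
      have h5 : q * (g * q * g⁻¹) = 1 := by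
        by_contra hn
        exact hqA _ (Q.mul_mem hq (hσQ q hq)) hn h4
      have h6 : q ^ 2 = 1 := A_inv e q (hQP hq) (hqA q hq hq1)
      have h7 : q * q = 1 := by rw [← pow_two]; exact h6
      exact (mul_left_cancel (h5.trans h7.symm))
  rw [Subgroup.mem_centralizer_iff]
  intro q hq
  calc q * g = (g * q * g⁻¹) * g := by rw [key q hq]
    _ = g * q := by group

theorem card_T (S : Set (ConjClasses G))
    (h : ∀ C, C ∈ S ↔ ∃ g : G, ConjClasses.mk g = C ∧ orderOf g = 2) :
    Nat.card {C : ConjClasses G // ∃ g : G, ConjClasses.mk g = C ∧ orderOf g = 2} = S.ncard := by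
  have h1 : {C : ConjClasses G | ∃ g : G, ConjClasses.mk g = C ∧ orderOf g = 2} = S := by
    ext C; exact (h C).symm
  rw [← h1]
  exact Nat.card_coe_set_eq _

theorem F_orderOf (e : ↥(P : Subgroup G) ≃* DihedralGroup m) (d : DihedralGroup m)
    (h2 : d ^ 2 = 1) (h1 : d ≠ 1) : orderOf (F e d) = 2 := by
  haveI : Fact (Nat.Prime 2) := ⟨Nat.prime_two⟩
  apply orderOf_eq_prime
  · rw [← map_pow, h2, map_one]
  · intro h
    apply h1
    apply F_inj e
    rw [h, map_one]

theorem sr_sq (i : ZMod m) : (sr i : DihedralGroup m) ^ 2 = 1 := by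
  rw [pow_two, sr_mul_self]

theorem sr_ne (i : ZMod m) : (sr i : DihedralGroup m) ≠ 1 := by
  intro h; cases h

theorem F_r_mem_of [NeZero m] (e : ↥(P : Subgroup G) ≃* DihedralGroup m) (N : Subgroup G) (i : ℕ) :
    F e (r (1 : ZMod m)) ^ i = F e (r (i : ZMod m)) := by
  rw [← map_pow, r_one_pow]

/-- No index-two subgroup when all involutions are conjugate. -/
theorem no_index_two [NeZero m] (e : ↥(P : Subgroup G) ≃* DihedralGroup m) (k l : ℕ)
    (hk : m = 2 * k) (hl : k = 2 * l)
    (hza : IsConj (F e (r (k : ZMod m))) (F e (sr 0)))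
    (hzb : IsConj (F e (r (k : ZMod m))) (F e (sr 1)))
    (N : Subgroup G) (hN : N.Normal) : N.index ≠ 2 := by
  intro h2
  have h1 : F e (r (1 : ZMod m)) ^ 2 ∈ N := Subgroup.sq_mem_of_index_two h2 _
  have hz : F e (r (k : ZMod m)) ∈ N := by
    have h3 : F e (r (k : ZMod m)) = (F e (r (1 : ZMod m)) ^ 2) ^ l := by
      rw [← pow_mul, ← hl, ← map_pow, r_one_pow]
    rw [h3]
    exact N.pow_mem h1 l
  have hcn : ∀ {x y : G}, x ∈ N → IsConj x y → y ∈ N := by
    intro x y hx hc
    obtain ⟨c, rfl⟩ := isConj_iff.mp hc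
    exact hN.conj_mem x hx c
  have ha := hcn hz hza
  have hb := hcn hz hzb
  have hr1 : F e (r (1 : ZMod m)) ∈ N := by
    have : (r (1 : ZMod m) : DihedralGroup m) = sr 0 * sr 1 := by
      rw [sr_mul_sr, sub_zero]
    rw [this, map_mul]
    exact N.mul_mem ha hb
  have hri : ∀ i : ZMod m, F e (r i) ∈ N := by
    intro i
    have : (r i : DihedralGroup m) = (r 1) ^ i.val := by
      rw [r_one_pow, ZMod.natCast_zmod_val]
    rw [this, map_pow]
    exact N.pow_mem hr1 _
  have hall : (P : Subgroup G) ≤ N := by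
    intro x hx
    rw [← exists_F e hx]
    rcases e ⟨x, hx⟩ with i | i
    · exact hri i
    · have : (sr i : DihedralGroup m) = sr 0 * r i := by
        rw [sr_mul_r, zero_add]
      rw [this, map_mul]
      exact N.mul_mem ha (hri i)
  have h3 : N.index ∣ (P : Subgroup G).index := Subgroup.index_dvd_of_le hall
  rw [h2] at h3
  exact P.not_dvd_index h3

/-- The two class case. -/
theorem caseII [NeZero m] (e : ↥(P : Subgroup G) ≃* DihedralGroup m) (k l : ℕ)
    (hk : m = 2 * k) (hl : k = 2 * l) (ε : ZMod m)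
    (hc : IsConj (F e (r (k : ZMod m))) (F e (sr ε)))
    (hd : ¬ IsConj (F e (r (k : ZMod m))) (F e (sr (ε + 1)))) :
    Nat.card {C : ConjClasses G // ∃ g : G, ConjClasses.mk g = C ∧ orderOf g = 2} = 2 ∧
      (∃ N : Subgroup G, N.Normal ∧ N.index = 2) ∧ ∀ N : Subgroup G, N.Normal → N.index ≠ 4 := by
  haveI : Fact (Nat.Prime 2) := ⟨Nat.prime_two⟩
  have hm2 : 2 ∣ m := ⟨k, hk⟩
  have hchi1 : chi hm2 ε (sr (ε + 1)) ≠ 1 := by
    rw [chi_sr, add_sub_cancel_left, map_one]
    exact oa_ne
  have hchi0 : chi hm2 ε (sr ε) = 1 := by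
    rw [chi_sr, sub_self, map_zero]
    rfl
  refine ⟨?_, ?_, ?_⟩
  · rw [card_T {ConjClasses.mk (F e (r (k : ZMod m))), ConjClasses.mk (F e (sr (ε + 1)))} ?_]
    · rw [Set.ncard_pair]
      intro h
      exact hd (ConjClasses.mk_eq_mk_iff_isConj.mp h)
    · intro C
      simp only [Set.mem_insert_iff, Set.mem_singleton_iff]
      constructor
      · rintro (rfl | rfl)
        · exact ⟨_, rfl, F_orderOf e _ (z_sq k hk) (z_ne_one k hk)⟩
        · exact ⟨_, rfl, F_orderOf e _ (sr_sq _) (sr_ne _)⟩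
      · rintro ⟨g, rfl, hg⟩
        rcases inv_cases e k hk ε g hg with h | h | h
        · exact Or.inl (ConjClasses.mk_eq_mk_iff_isConj.mpr h)
        · exact Or.inl (ConjClasses.mk_eq_mk_iff_isConj.mpr (h.trans hc.symm))
        · exact Or.inr (ConjClasses.mk_eq_mk_iff_isConj.mpr h)
  · -- Thompson transfer
    set d : G := F e (sr (ε + 1)) with hdd
    have hd2 : d ^ 2 = 1 := by rw [hdd, ← map_pow, sr_sq, map_one]
    have hd1 : d ≠ 1 := by
      intro h
      apply sr_ne (ε + 1)
      apply F_inj e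
      rw [map_one]; exact h
    have hodd : Odd (P : Subgroup G).index := by
      rw [← Nat.not_even_iff_odd, even_iff_two_dvd]
      exact P.not_dvd_index
    have hex : ∃ N : Subgroup G, N.Normal ∧ N.index = 2 ∧ d ∉ N := by
      refine Cfsg.Agent.Lib.Transfer.IndexTwo.exists_normal_index_two
        (P : Subgroup G) hodd ((chi hm2 ε).comp e.toMonoidHom) d 1 (by rwa [pow_one]) ?_ ?_
      · intro g h hchi
        have hF := exists_F e h
        set w := e ⟨g⁻¹ * d * g, h⟩ with hw
        have hchi' : chi hm2 ε w = 1 := hchi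
        have hF' : F e w = g⁻¹ * d * (g⁻¹)⁻¹ := by rw [hF, inv_inv]
        have hw2 : w ^ 2 = 1 := by
          apply F_inj e
          rw [map_pow, hF', conj_pow, hd2, map_one]
          group
        have hw1 : w ≠ 1 := by
          intro h0
          rw [h0, map_one] at hF
          apply hd1
          have h3 : g * (g⁻¹ * d * g) * g⁻¹ = g * 1 * g⁻¹ := by rw [← hF]
          simpa [mul_assoc] using h3
        rcases classify k hk ε w hw2 hw1 with h5 | ⟨j, h5⟩ | ⟨j, h5⟩
        · apply hd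
          have h3 : w = 1 * r (k : ZMod m) * 1⁻¹ := by rw [h5]; group
          exact (isConj_of_F e hF' h3).symm
        · apply hd
          exact hc.trans (isConj_of_F e hF' h5).symm
        · apply hchi1
          rw [h5] at hchi'
          rw [map_mul, map_mul, map_inv, mul_inv_cancel_comm] at hchi'
          exact hchi'
      · intro i hi hid g h
        have hi2 : i = 2 := by
          have : i ∣ 2 := by simpa using hid
          have := Nat.le_of_dvd (by norm_num) this
          omega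
        subst hi2
        have : (⟨g⁻¹ * d ^ 2 * g, h⟩ : (P : Subgroup G)) = 1 := by
          apply Subtype.ext
          simp [hd2]
        rw [this, map_one]
    obtain ⟨N, hN, hN2, -⟩ := hex
    exact ⟨N, hN, hN2⟩
  · intro K hK h4
    have hcard : Nat.card (G ⧸ K) = 2 ^ 2 := by
      have : Nat.card (G ⧸ K) = K.index := rfl
      rw [this, h4]; norm_num
    have hab := IsPGroup.isMulCommutative_of_card_eq_prime_sq (p := 2) (G := G ⧸ K) hcard
    have hcomm : ∀ x y : G, x * y * x⁻¹ * y⁻¹ ∈ K := by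
      intro x y
      rw [← QuotientGroup.eq_one_iff]
      have h1 : ((x : G ⧸ K)) * (y : G ⧸ K) = (y : G ⧸ K) * (x : G ⧸ K) := hab.is_comm.comm _ _
      have h2 : ((x * y * x⁻¹ * y⁻¹ : G) : G ⧸ K) =
          (x : G ⧸ K) * (y : G ⧸ K) * (x : G ⧸ K)⁻¹ * (y : G ⧸ K)⁻¹ := rfl
      rw [h2, h1]
      group
    have hr2 : F e (r (2 : ZMod m)) ∈ K := by
      have h1 := hcomm (F e (r (1 : ZMod m))) (F e (sr 0))
      have h2 : F e (r (1 : ZMod m)) * F e (sr 0) * (F e (r (1 : ZMod m)))⁻¹ * (F e (sr 0))⁻¹ =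
          F e (r 2) := by
        rw [← map_inv, ← map_inv, ← map_mul, ← map_mul, ← map_mul]
        congr 1
        rw [inv_r, inv_sr, r_mul_sr, sr_mul_r, sr_mul_sr]
        congr 1
        ring
      rwa [h2] at h1
    have hr2j : ∀ j : ZMod m, F e (r (2 * j)) ∈ K := by
      intro j
      have : (r (2 * j) : DihedralGroup m) = (r 2) ^ j.val := by
        rw [r_pow, ZMod.natCast_zmod_val]
      rw [this, map_pow]
      exact K.pow_mem hr2 _
    have hz : F e (r (k : ZMod m)) ∈ K := by
      have h1 := hr2j (l : ZMod m)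
      have : ((2 : ZMod m) * (l : ZMod m)) = (k : ZMod m) := by
        rw [hl]; push_cast; ring
      rwa [this] at h1
    have hcK : F e (sr ε) ∈ K := by
      obtain ⟨c, hc'⟩ := isConj_iff.mp hc
      rw [← hc']
      exact hK.conj_mem _ hz c
    have hker : ((chi hm2 ε).comp e.toMonoidHom).ker ≤ K.subgroupOf (P : Subgroup G) := by
      rintro ⟨x, hx⟩ hxk
      rw [Subgroup.mem_subgroupOf]
      have hF := exists_F e hx
      have hchi' : chi hm2 ε (e ⟨x, hx⟩) = 1 := hxk
      show x ∈ K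
      rw [← hF]
      rcases h : e ⟨x, hx⟩ with i | i
      · obtain ⟨j, hj | hj⟩ := parity 0 i
        · rw [zero_add] at hj
          rw [hj]
          exact hr2j j
        · exfalso
          rw [h, chi_r, hj] at hchi'
          have h5 : (ZMod.castHom hm2 (ZMod 2)) (0 + 1 + 2 * j) =
              0 + 1 + 2 * (ZMod.castHom hm2 (ZMod 2)) j := by
            simp only [map_add, map_mul, map_zero, map_one, map_ofNat]
          rw [h5] at hchi'
          exact oa_aux1 _ hchi'
      · obtain ⟨j, hj | hj⟩ := parity ε i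
        · have h3 := conj_sr (m := m) j ε
          rw [hj, ← h3, map_mul, map_mul, map_inv]
          exact hK.conj_mem _ hcK _
        · exfalso
          rw [h, chi_sr, hj] at hchi'
          have h5 : (ZMod.castHom hm2 (ZMod 2)) (ε + 1 + 2 * j - ε) =
              (ZMod.castHom hm2 (ZMod 2)) ε + 1 + 2 * (ZMod.castHom hm2 (ZMod 2)) j -
                (ZMod.castHom hm2 (ZMod 2)) ε := by
            simp only [map_sub, map_add, map_mul, map_one, map_ofNat]
          rw [h5] at hchi'
          exact oa_aux2 _ _ hchi'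
    have h1 : (K.subgroupOf (P : Subgroup G)).index ∣ 2 := by
      have h2 := Subgroup.index_dvd_of_le hker
      rw [Subgroup.index_ker] at h2
      refine h2.trans ?_
      have h3 : Nat.card ((chi hm2 ε).comp e.toMonoidHom).range ∣ Nat.card (Multiplicative (ZMod 2)) :=
        Subgroup.card_subgroup_dvd_card _
      have h4 : Nat.card (Multiplicative (ZMod 2)) = 2 := by
        simp [Nat.card_eq_fintype_card]
      rwa [h4] at h3
    have hsup : K ⊔ (P : Subgroup G) = ⊤ := by
      have h2 : (K ⊔ (P : Subgroup G)).index ∣ (P : Subgroup G).index :=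
        Subgroup.index_dvd_of_le le_sup_right
      have h3 : (K ⊔ (P : Subgroup G)).index ∣ K.index :=
        Subgroup.index_dvd_of_le le_sup_left
      rw [h4] at h3
      have h5 : Nat.Coprime (P : Subgroup G).index 4 := by
        have : Nat.Coprime (P : Subgroup G).index 2 :=
          Nat.Coprime.symm ((Nat.Prime.coprime_iff_not_dvd Nat.prime_two).mpr P.not_dvd_index)
        exact Nat.Coprime.pow_right 2 this
      have h6 := Nat.eq_one_of_dvd_coprimes h5 h2 h3
      exact Subgroup.index_eq_one.mp h6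
    have h7 : K.relIndex (P : Subgroup G) = 4 := by
      rw [← Subgroup.relIndex_sup_left, hsup, Subgroup.relIndex_top_right, h4]
    have h8 : K.relIndex (P : Subgroup G) = (K.subgroupOf (P : Subgroup G)).index := rfl
    rw [← h8, h7] at h1
    omega

/-- The three class case. -/
theorem caseI [NeZero m] (e : ↥(P : Subgroup G) ≃* DihedralGroup m) (k : ℕ)
    (hk : m = 2 * k)
    (hza : ¬ IsConj (F e (r (k : ZMod m))) (F e (sr 0)))
    (hzb : ¬ IsConj (F e (r (k : ZMod m))) (F e (sr 1))) :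
    Nat.card {C : ConjClasses G // ∃ g : G, ConjClasses.mk g = C ∧ orderOf g = 2} = 3 ∧
      Cfsg.HasNormalPComplement 2 G := by
  haveI : Fact (Nat.Prime 2) := ⟨Nat.prime_two⟩
  have hm2 : 2 ∣ m := ⟨k, hk⟩
  have hcomp := nc_of_no_fusion e k hk hza hzb
  refine ⟨?_, hcomp⟩
  have hab : ¬ IsConj (F e (sr 0)) (F e (sr 1)) := by
    intro hc
    obtain ⟨g, hg⟩ := isConj_iff.mp hc
    have ha2 : (F e (sr (0 : ZMod m))) ^ 2 = 1 := by rw [← map_pow, sr_sq, map_one]
    obtain ⟨x, hx, hxe⟩ := (Cfsg.Agent.S1946.result P).mp hcomp (F e (sr 0)) (F_mem e _)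
      (Or.inl ha2) g (by rw [hg]; exact F_mem e _)
    rw [hg, ← exists_F e hx, ← map_inv, ← map_mul, ← map_mul] at hxe
    have h2 := F_inj e hxe
    have h3 := congrArg (chi hm2 0) h2
    rw [map_mul, map_mul, map_inv, chi_sr, chi_sr] at h3
    rw [mul_inv_cancel_comm] at h3
    simp only [sub_zero, sub_self, map_one, map_zero] at h3
    exact oa_ne h3
  rw [card_T {ConjClasses.mk (F e (r (k : ZMod m))), ConjClasses.mk (F e (sr 0)),
    ConjClasses.mk (F e (sr 1))} ?_]
  · rw [Set.ncard_insert_of_notMem, Set.ncard_pair]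
    · intro h
      exact hab (ConjClasses.mk_eq_mk_iff_isConj.mp h)
    · simp only [Set.mem_insert_iff, Set.mem_singleton_iff, not_or]
      exact ⟨fun h => hza (ConjClasses.mk_eq_mk_iff_isConj.mp h),
        fun h => hzb (ConjClasses.mk_eq_mk_iff_isConj.mp h)⟩
  · intro C
    simp only [Set.mem_insert_iff, Set.mem_singleton_iff]
    constructor
    · rintro (rfl | rfl | rfl)
      · exact ⟨_, rfl, F_orderOf e _ (z_sq k hk) (z_ne_one k hk)⟩
      · exact ⟨_, rfl, F_orderOf e _ (sr_sq _) (sr_ne _)⟩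
      · exact ⟨_, rfl, F_orderOf e _ (sr_sq _) (sr_ne _)⟩
    · rintro ⟨g, rfl, hg⟩
      have h0 := inv_cases e k hk 0 g hg
      rw [zero_add] at h0
      rcases h0 with h | h | h
      · exact Or.inl (ConjClasses.mk_eq_mk_iff_isConj.mpr h)
      · exact Or.inr (Or.inl (ConjClasses.mk_eq_mk_iff_isConj.mpr h))
      · exact Or.inr (Or.inr (ConjClasses.mk_eq_mk_iff_isConj.mpr h))

/-- The one class case. -/
theorem caseIII [NeZero m] (e : ↥(P : Subgroup G) ≃* DihedralGroup m) (k l : ℕ)
    (hk : m = 2 * k) (hl : k = 2 * l)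
    (hza : IsConj (F e (r (k : ZMod m))) (F e (sr 0)))
    (hzb : IsConj (F e (r (k : ZMod m))) (F e (sr 1))) :
    Nat.card {C : ConjClasses G // ∃ g : G, ConjClasses.mk g = C ∧ orderOf g = 2} = 1 ∧
      ∀ N : Subgroup G, N.Normal → N.index ≠ 2 := by
  refine ⟨?_, fun N hN => no_index_two e k l hk hl hza hzb N hN⟩
  rw [card_T {ConjClasses.mk (F e (r (k : ZMod m)))} ?_]
  · exact Set.ncard_singleton _
  · intro C
    simp only [Set.mem_singleton_iff]
    constructor
    · rintro rfl
      exact ⟨_, rfl, F_orderOf e _ (z_sq k hk) (z_ne_one k hk)⟩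
    · rintro ⟨g, rfl, hg⟩
      have h0 := inv_cases e k hk 0 g hg
      rw [zero_add] at h0
      rcases h0 with h | h | h
      · exact ConjClasses.mk_eq_mk_iff_isConj.mpr h
      · exact ConjClasses.mk_eq_mk_iff_isConj.mpr (h.trans hza.symm)
      · exact ConjClasses.mk_eq_mk_iff_isConj.mpr (h.trans hzb.symm)

end Main

/-- Let G be a finite group whose Sylow 2-subgroups are dihedral of order 2 ^ n with n ≥ 3, and count the conjugacy classes of involutions of G. Then exactly one of the following holds: there is one class of involutions and no normal subgroup of index 2; there are two classes of involutions, a normal subgroup of index 2 and none of index 4; there are three classes of involutions and G has a normal 2-complement. -/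
theorem result {G : Type*} [Group G] [Finite G] (P : Sylow 2 G) (n : ℕ) (hn : 3 ≤ n) (hdih : Nonempty (↥(P : Subgroup G) ≃* DihedralGroup (2 ^ (n - 1)))) : (Nat.card {C : ConjClasses G // ∃ g : G, ConjClasses.mk g = C ∧ orderOf g = 2} = 1 ∧ ∀ N : Subgroup G, N.Normal → N.index ≠ 2) ∨ (Nat.card {C : ConjClasses G // ∃ g : G, ConjClasses.mk g = C ∧ orderOf g = 2} = 2 ∧ (∃ N : Subgroup G, N.Normal ∧ N.index = 2) ∧ ∀ N : Subgroup G, N.Normal → N.index ≠ 4) ∨ (Nat.card {C : ConjClasses G // ∃ g : G, ConjClasses.mk g = C ∧ orderOf g = 2} = 3 ∧ Cfsg.HasNormalPComplement 2 G) := by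
  obtain ⟨e⟩ := hdih
  obtain ⟨j, rfl⟩ : ∃ j, n = j + 3 := ⟨n - 3, by omega⟩
  have hm : 2 ^ (j + 3 - 1) = 2 * (2 * 2 ^ j) := by
    rw [show j + 3 - 1 = j + 2 by omega]; ring
  haveI : NeZero (2 ^ (j + 3 - 1)) := ⟨by positivity⟩
  by_cases hza : IsConj (F e (r ((2 * 2 ^ j : ℕ) : ZMod (2 ^ (j + 3 - 1))))) (F e (sr 0))
  · by_cases hzb : IsConj (F e (r ((2 * 2 ^ j : ℕ) : ZMod (2 ^ (j + 3 - 1))))) (F e (sr 1))
    · exact Or.inl (caseIII e _ (2 ^ j) hm rfl hza hzb)
    · refine Or.inr (Or.inl (caseII e _ (2 ^ j) hm rfl 0 hza ?_))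
      rwa [zero_add]
  · by_cases hzb : IsConj (F e (r ((2 * 2 ^ j : ℕ) : ZMod (2 ^ (j + 3 - 1))))) (F e (sr 1))
    · refine Or.inr (Or.inl (caseII e _ (2 ^ j) hm rfl 1 hzb ?_))
      intro hc
      apply hza
      refine hc.trans ?_
      have h3 := conj_sr (m := 2 ^ (j + 3 - 1)) 1 0
      rw [show (1 : ZMod (2 ^ (j + 3 - 1))) + 1 = 0 + 2 * 1 by ring, ← h3, map_mul, map_mul, map_inv]
      exact (isConj_iff.mpr ⟨_, rfl⟩).symm
    · exact Or.inr (Or.inr (caseI e _ hm hza hzb))

end Cfsg.Agent.S3864
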