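import Cfsg.Statements.S3867
import Mathlib
import Cfsg.Agent.S4088
import Cfsg.Agent.Lib.Perm.SylowConj

set_option autoImplicit false
open Cfsg

namespace Cfsg.Agent.S3867

open Subgroup Cfsg.Agent.Lib.Perm.SylowConj

variable {G : Type*} [Group G] [Finite G]

lemma mem_P_of_mem_sup {p : ℕ} [Fact p.Prime] (P : Sylow p G) (M N : Subgroup G) [hM : M.Normal]
    [hN : N.Normal] (hMN : M ⊓ N = ⊥) {z : G} (h1 : z ∈ (P : Subgroup G) ⊔ M)
    (h2 : z ∈ (P : Subgroup G) ⊔ N) : z ∈ (P : Subgroup G) := by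
  obtain ⟨a, ha, m, hm, rfl⟩ := mem_sup_of_normal_right.mp h1
  set L : Subgroup G := ((P : Subgroup G) ⊔ N) ⊓ M with hL
  have hmL : m ∈ L := by
    refine mem_inf.mpr ⟨?_, hm⟩
    have e : m = a⁻¹ * (a * m) := by group
    rw [e]
    exact Subgroup.mul_mem _ ((le_sup_left : (P : Subgroup G) ≤ _) ((P : Subgroup G).inv_mem ha)) h2
  have hLp : IsPGroup p L := by
    rintro ⟨x, hx⟩
    obtain ⟨hx1, hx2⟩ := mem_inf.mp hx
    obtain ⟨b, hb, n, hn, rfl⟩ := mem_sup_of_normal_right.mp hx1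
    obtain ⟨k, hk⟩ := IsPGroup.iff_orderOf.mp P.isPGroup' ⟨b, hb⟩
    have hk' : b ^ (p ^ k) = 1 := by
      have : orderOf b = p ^ k := by rw [← hk, Subgroup.orderOf_mk]
      rw [← this]
      exact pow_orderOf_eq_one b
    refine ⟨k, ?_⟩
    apply Subtype.ext
    show (b * n) ^ (p ^ k) = 1
    have h3 : ((b * n) ^ (p ^ k) : G) ∈ N := by
      have h4 : (QuotientGroup.mk' N) ((b * n) ^ (p ^ k)) = 1 := by
        have hnk : QuotientGroup.mk' N n = 1 := (QuotientGroup.eq_one_iff n).mpr hn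
        rw [map_pow, map_mul, hnk, mul_one, ← map_pow, hk', map_one]
      exact (QuotientGroup.eq_one_iff _).mp h4
    have h5 : ((b * n) ^ (p ^ k) : G) ∈ M ⊓ N := mem_inf.mpr ⟨M.pow_mem hx2 _, h3⟩
    rw [hMN] at h5
    exact mem_bot.mp h5
  have hnorm : (P : Subgroup G) ≤ normalizer (L : Set G) := by
    intro y hy
    have hyT : y ∈ (P : Subgroup G) ⊔ N := (le_sup_left : (P : Subgroup G) ≤ _) hy
    rw [mem_normalizer_iff]
    intro x
    constructor
    · intro hx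
      obtain ⟨hx1, hx2⟩ := mem_inf.mp hx
      exact mem_inf.mpr ⟨Subgroup.mul_mem _ (Subgroup.mul_mem _ hyT hx1) (Subgroup.inv_mem _ hyT),
        hM.conj_mem x hx2 y⟩
    · intro hx
      obtain ⟨hx1, hx2⟩ := mem_inf.mp hx
      have e : x = y⁻¹ * (y * x * y⁻¹) * y⁻¹⁻¹ := by group
      rw [e]
      exact mem_inf.mpr ⟨Subgroup.mul_mem _ (Subgroup.mul_mem _ (Subgroup.inv_mem _ hyT) hx1)
        (Subgroup.inv_mem _ (Subgroup.inv_mem _ hyT)), hM.conj_mem _ hx2 y⁻¹⟩
  have hsup : IsPGroup p ((P : Subgroup G) ⊔ L : Subgroup G) :=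
    P.isPGroup'.to_sup_of_normal_right' hLp hnorm
  have heq : (P : Subgroup G) ⊔ L = P := P.is_maximal' hsup le_sup_left
  have hmP : m ∈ (P : Subgroup G) := by
    rw [← heq]
    exact (le_sup_right : L ≤ _) hmL
  exact (P : Subgroup G).mul_mem ha hmP

lemma card_prod_eq {A B C : Subgroup G} (hA : A ≤ C) (hB : B ≤ C)
    (h : ∀ g ∈ C, ∃ a ∈ A, ∃ b ∈ B, a * b = g) :
    Nat.card A * Nat.card B = Nat.card C * Nat.card (A ⊓ B : Subgroup G) := by
  classical
  rw [← Nat.card_prod]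
  apply Cfsg.Agent.S4088.card_eq_mul_of_fibers (fun z : A × B =>
    (⟨(z.1 : G) * (z.2 : G), C.mul_mem (hA z.1.2) (hB z.2.2)⟩ : C))
  rintro ⟨g, hg⟩
  obtain ⟨a0, ha0, b0, hb0, rfl⟩ := h g hg
  symm
  apply Nat.card_congr
  refine Equiv.ofBijective (fun c => ⟨(⟨a0 * c.1, A.mul_mem ha0 c.2.1⟩,
    ⟨(c.1 : G)⁻¹ * b0, B.mul_mem (B.inv_mem c.2.2) hb0⟩), ?_⟩) ⟨?_, ?_⟩
  · apply Subtype.ext
    show a0 * c.1 * ((c.1 : G)⁻¹ * b0) = a0 * b0
    group
  · intro c d hcd
    have := congrArg (fun z => ((z.1.1 : A) : G)) hcd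
    simp only [mul_right_inj] at this
    exact Subtype.ext this
  · rintro ⟨⟨⟨a, ha⟩, ⟨b, hb⟩⟩, hz⟩
    have hz' : a * b = a0 * b0 := congrArg Subtype.val hz
    refine ⟨⟨a0⁻¹ * a, A.mul_mem (A.inv_mem ha0) ha, ?_⟩, ?_⟩
    · have : a0⁻¹ * a = b0 * b⁻¹ := by
        rw [inv_mul_eq_iff_eq_mul, ← mul_assoc, eq_mul_inv_iff_mul_eq, hz']
      rw [this]
      exact B.mul_mem hb0 (B.inv_mem hb)
    · apply Subtype.ext
      apply Prod.ext
      · apply Subtype.ext
        show a0 * (a0⁻¹ * a) = a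
        group
      · apply Subtype.ext
        show (a0⁻¹ * a)⁻¹ * b0 = b
        have : b0 = a0⁻¹ * a * b := by rw [mul_assoc, hz']; group
        rw [this]
        group

/-- Let M and N be nontrivial normal subgroups of the finite group G with M ⊓ N trivial, and let p be a prime. Writing n(X) for the number of Sylow p-subgroups of a group X, one has n(G) · n(G/MN) = n(G/M) · n(G/N). -/
theorem result {G : Type*} [Group G] [Finite G] (p : ℕ) [Fact p.Prime] (M N : Subgroup G) [M.Normal] [N.Normal] (hM : M ≠ ⊥) (hN : N ≠ ⊥) (hMN : M ⊓ N = ⊥) : Nat.card (Sylow p G) * Nat.card (Sylow p (G ⧸ (M ⊔ N))) = Nat.card (Sylow p (G ⧸ M)) * Nat.card (Sylow p (G ⧸ N)) := by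
  classical
  obtain ⟨P⟩ : Nonempty (Sylow p G) := inferInstance
  set U := Subgroup.normalizer ((P : Subgroup G) : Set G) with hU
  set A := M ⊔ U with hA
  set B := N ⊔ U with hB
  set C := (M ⊔ N) ⊔ U with hC
  have e0 : Nat.card (Sylow p G) = U.index := Sylow.card_eq_index_normalizer P
  have e1 : Nat.card (Sylow p (G ⧸ (M ⊔ N))) = C.index := card_sylow_quotient_eq_index P (M ⊔ N)
  have e2 : Nat.card (Sylow p (G ⧸ M)) = A.index := card_sylow_quotient_eq_index P M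
  have e3 : Nat.card (Sylow p (G ⧸ N)) = B.index := card_sylow_quotient_eq_index P N
  rw [e0, e1, e2, e3]
  have hnorm : ∀ (K : Subgroup G) [K.Normal], ∀ g ∈ K ⊔ U, ∀ y ∈ (P : Subgroup G),
      g * y * g⁻¹ ∈ (P : Subgroup G) ⊔ K := by
    intro K hK g hg y hy
    obtain ⟨k, hk, u, hu, rfl⟩ := Subgroup.mem_sup_of_normal_left.mp hg
    have h1 : u * y * u⁻¹ ∈ (P : Subgroup G) := (Subgroup.mem_normalizer_iff.mp hu y).mp hy
    have e : k * u * y * (k * u)⁻¹ = (k * (u * y * u⁻¹) * k⁻¹ * (u * y * u⁻¹)⁻¹) * (u * y * u⁻¹) := by group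
    rw [e]
    have h2 : k * (u * y * u⁻¹) * k⁻¹ * (u * y * u⁻¹)⁻¹ ∈ K := by
      have e2 : k * (u * y * u⁻¹) * k⁻¹ * (u * y * u⁻¹)⁻¹ = k * ((u * y * u⁻¹) * k⁻¹ * (u * y * u⁻¹)⁻¹) := by group
      rw [e2]
      exact K.mul_mem hk (hK.conj_mem _ (K.inv_mem hk) _)
    exact Subgroup.mul_mem _ ((le_sup_right : K ≤ _) h2) ((le_sup_left : (P : Subgroup G) ≤ _) h1)
  have hinf : A ⊓ B = U := by
    apply le_antisymm
    · intro g hg
      obtain ⟨hg1, hg2⟩ := Subgroup.mem_inf.mp hg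
      have hle : ((g • P : Sylow p G) : Subgroup G) ≤ (P : Subgroup G) := by
        intro x hx
        rw [mem_smul_iff] at hx
        have e : x = g * (g⁻¹ * x * g) * g⁻¹ := by group
        rw [e]
        exact mem_P_of_mem_sup P M N hMN (hnorm M g hg1 _ hx) (hnorm N g hg2 _ hx)
      have heq : g • P = P := Sylow.ext ((g • P).is_maximal' P.isPGroup' hle).symm
      exact Sylow.smul_eq_iff_mem_normalizer.mp heq
    · exact le_inf le_sup_right le_sup_right
  have hprod := card_prod_eq (A := A) (B := B) (C := C)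
    (sup_le (le_sup_left.trans le_sup_left) le_sup_right)
    (sup_le (le_sup_right.trans le_sup_left) le_sup_right)
    (by
      intro g hg
      obtain ⟨y, hy, u, hu, rfl⟩ := Subgroup.mem_sup_of_normal_left.mp hg
      obtain ⟨m, hm, n, hn, rfl⟩ := Subgroup.mem_sup_of_normal_left.mp hy
      exact ⟨m, (le_sup_left : M ≤ A) hm, n * u, B.mul_mem ((le_sup_left : N ≤ B) hn)
        ((le_sup_right : U ≤ B) hu), by group⟩)
  rw [hinf] at hprod
  have i0 := Subgroup.index_mul_card U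
  have i1 := Subgroup.index_mul_card C
  have i2 := Subgroup.index_mul_card A
  have i3 := Subgroup.index_mul_card B
  have hpos : 0 < Nat.card A * Nat.card B := Nat.mul_pos Nat.card_pos Nat.card_pos
  apply Nat.eq_of_mul_eq_mul_right hpos
  calc U.index * C.index * (Nat.card A * Nat.card B)
      = U.index * C.index * (Nat.card C * Nat.card U) := by rw [hprod]
    _ = (U.index * Nat.card U) * (C.index * Nat.card C) := by ring
    _ = (A.index * Nat.card A) * (B.index * Nat.card B) := by rw [i0, i1, i2, i3]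
    _ = _ := by ring

end Cfsg.Agent.S3867
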