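import Cfsg.Statements.S3868
import Mathlib
import Cfsg.Agent.Lib.FG3.MinNonClosedTail
-- import your own Cfsg.Agent.* helpers here

set_option autoImplicit false
open Cfsg

namespace Cfsg.Agent.S3868

open Cfsg.Agent.Lib.FG3.MinNonClosed Cfsg.Agent.Lib.FG3.MinNonClosedTail

/-- Structure of the non-simple minimal non-p-closed groups. Call a finite group p-closed when its Sylow p-subgroups are normal, and minimal non-p-closed when it is not p-closed but every proper subgroup and every proper quotient is. If such a group G is not simple, then there is a prime q ≠ p such that G has order p · q^e, where e is the multiplicative order of q modulo p, and G has a normal subgroup A of order q^e that is elementary abelian and is a minimal normal subgroup of G (so G is the semidirect product of A by a group of order p acting irreducibly). -/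
theorem result {G : Type*} [Group G] [Finite G] {p : ℕ} [Fact p.Prime]
    (hnc : ¬ Cfsg.IsPClosed p G) (hsub : ∀ H : Subgroup G, H ≠ ⊤ → Cfsg.IsPClosed p ↥H)
    (hquo : ∀ (N : Subgroup G) [N.Normal], N ≠ ⊥ → Cfsg.IsPClosed p (G ⧸ N)) (hns : ¬ IsSimpleGroup G) :
    ∃ q : ℕ, q.Prime ∧ q ≠ p ∧ Nat.card G = p * q ^ orderOf (q : ZMod p) ∧
      ∃ A : Subgroup G, A.Normal ∧ Nat.card ↥A = q ^ orderOf (q : ZMod p) ∧ Cfsg.IsElementaryAbelian q A ∧
        ∀ B : Subgroup G, B.Normal → B ≤ A → B = ⊥ ∨ B = A := by
  have hnp : ¬ IsPGroup p G := fun h => hnc (pclosed_of_isPGroup h)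
  refine tail ?_ ?_ hns hnp
  · intro H hH x hxH hxp u huH
    have hcl := hsub H hH
    let x' : H := ⟨x, hxH⟩
    let u' : H := ⟨u, huH⟩
    have hx'p : x' ^ p = 1 := Subtype.ext (by simpa [x'] using hxp)
    have hzp : IsPGroup p (Subgroup.zpowers x') := by
      rintro ⟨g, hg⟩
      obtain ⟨i, rfl⟩ := Subgroup.mem_zpowers_iff.1 hg
      refine ⟨1, Subtype.ext ?_⟩
      simp only [pow_one, Subgroup.coe_pow]
      rw [← zpow_natCast, ← zpow_mul, mul_comm, zpow_mul, zpow_natCast, hx'p, one_zpow]
      rfl
    obtain ⟨P, hP⟩ := hzp.exists_le_sylow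
    have hPn : (P : Subgroup H).Normal := hcl P
    have hxP : x' ∈ (P : Subgroup H) := hP (Subgroup.mem_zpowers x')
    have hc2 : x' * u' * x'⁻¹ * u'⁻¹ ∈ (P : Subgroup H) := by
      have := hPn.conj_mem x'⁻¹ (P.1.inv_mem hxP) u'
      have e : x' * u' * x'⁻¹ * u'⁻¹ = x' * (u' * x'⁻¹ * u'⁻¹) := by group
      rw [e]
      exact P.1.mul_mem hxP this
    obtain ⟨k, hk⟩ := P.2 ⟨_, hc2⟩
    refine ⟨k, ?_⟩
    have := congrArg (fun t : (P : Subgroup H) => ((t : H) : G)) hk
    simpa [x', u'] using this
  · intro N _ hbot htop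
    constructor
    · -- no element of order `p` in `N`
      intro hpN
      let S : Sylow p N := default
      have hS : (S : Subgroup N).Normal := hsub N htop S
      haveI hc := Sylow.characteristic_of_normal S hS
      haveI hT : ((S : Subgroup N).map N.subtype).Normal := inferInstance
      have hTp : IsPGroup p ((S : Subgroup N).map N.subtype) := S.2.map N.subtype
      by_cases hT0 : (S : Subgroup N).map N.subtype = ⊥
      · rw [Subgroup.map_eq_bot_iff_of_injective _ N.subtype_injective] at hT0
        exact S.ne_bot_of_dvd_card hpN hT0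
      · exact hnc (pclosed_of_quotient _ hTp (hquo _ hT0))
    · -- `G / N` is a `p`-group
      let R : Sylow p (G ⧸ N) := default
      have hR : (R : Subgroup (G ⧸ N)).Normal := hquo N hbot R
      let M : Subgroup G := (R : Subgroup (G ⧸ N)).comap (QuotientGroup.mk' N)
      haveI hMn : M.Normal := hR.comap _
      have hMi : M.index = (R : Subgroup (G ⧸ N)).index :=
        Subgroup.index_comap_of_surjective _ (QuotientGroup.mk'_surjective N)
      have hMt : M = ⊤ := by
        by_contra hM
        refine hnc (pclosed_of_normal_of_coprime_index M ?_ (hsub M hM))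
        rw [hMi]
        exact R.not_dvd_index
      intro z
      obtain ⟨g, rfl⟩ := QuotientGroup.mk_surjective z
      have hg : g ∈ M := by rw [hMt]; trivial
      obtain ⟨k, hk⟩ := R.2 ⟨_, hg⟩
      refine ⟨k, ?_⟩
      exact congrArg Subtype.val hk

end Cfsg.Agent.S3868
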