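import Cfsg.Statements.S3869
import Mathlib
import Cfsg.Agent.Lib.FG3.MinNonClosed
-- import your own Cfsg.Agent.* helpers here

set_option autoImplicit false
open Cfsg

namespace Cfsg.Agent.S3869

open Cfsg.Agent.Lib.FG3.MinNonClosed

/-- Let p and q be distinct primes and G a finite non-abelian group with a normal elementary abelian q-subgroup A that is a minimal normal subgroup of G and has index p. Then A has order q^e with e the multiplicative order of q modulo p, and G is minimal non-p-closed: its Sylow p-subgroups are not normal, while in every proper subgroup and in every proper quotient of G the Sylow p-subgroups are normal. -/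
theorem result {G : Type*} [Group G] [Finite G] {p q : ℕ} [Fact p.Prime] (hq : q.Prime) (hpq : q ≠ p)
    (hna : ¬ IsMulCommutative G) (A : Subgroup G) [A.Normal] (hA : Cfsg.IsElementaryAbelian q A) (hidx : A.index = p)
    (hmin : ∀ B : Subgroup G, B.Normal → B ≤ A → B = ⊥ ∨ B = A) :
    Nat.card ↥A = q ^ orderOf (q : ZMod p) ∧ ¬ Cfsg.IsPClosed p G ∧ (∀ H : Subgroup G, H ≠ ⊤ → Cfsg.IsPClosed p ↥H) ∧
      ∀ (N : Subgroup G) [N.Normal], N ≠ ⊥ → Cfsg.IsPClosed p (G ⧸ N) := by
  have hp : p.Prime := Fact.out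
  haveI : Fact q.Prime := ⟨hq⟩
  have hAc : ∀ a ∈ A, ∀ b ∈ A, a * b = b * a := by
    intro a ha b hb
    have := hA.1.is_comm.comm ⟨a, ha⟩ ⟨b, hb⟩
    exact congrArg Subtype.val this
  have hApg : IsPGroup q A := fun a => ⟨1, by
    have := hA.2 a a.2
    exact Subtype.ext (by simpa using this)⟩
  have hAcard : ∀ H : Subgroup G, H ≤ A → ¬ p ∣ Nat.card H := by
    intro H hH hdvd
    obtain ⟨n, hn⟩ := IsPGroup.iff_card.1 hApg
    have h1 : p ∣ Nat.card A := hdvd.trans (Subgroup.card_dvd_of_le hH)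
    rw [hn] at h1
    exact hpq ((Nat.prime_dvd_prime_iff_eq hp hq).1 (hp.dvd_of_dvd_pow h1)).symm
  have hquotp : IsPGroup p (G ⧸ A) :=
    IsPGroup.of_card (n := 1) (by rw [← Subgroup.index_eq_card, hidx, pow_one])
  have hnoncomm : ∀ h : G, h ∉ A → ¬ ∀ a ∈ A, h * a = a * h := by
    intro h hh hc
    exact hna ⟨⟨comm_of_centralizes A hidx hAc hh hc⟩⟩
  -- normal subgroups meeting `A`
  have hnormal_inf : ∀ (h : G), h ∉ A → ∀ H : Subgroup G, h ∈ H → (H ⊓ A) = ⊥ ∨ (H ⊓ A) = A := by
    intro h hh H hhH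
    refine hmin _ ?_ inf_le_right
    refine normal_of_stable A hidx hAc hh _ inf_le_right ?_
    rintro b ⟨hb1, hb2⟩
    exact ⟨H.mul_mem (H.mul_mem hhH hb1) (H.inv_mem hhH), (inferInstance : A.Normal).conj_mem b hb2 h⟩
  refine ⟨card_of_index hq hpq hna A hA hidx hmin, ?_, ?_, ?_⟩
  · -- not `p`-closed
    intro hcl
    have hdvd : p ∣ Nat.card G := by
      rw [← A.card_mul_index, hidx]
      exact Dvd.intro_left _ rfl
    obtain ⟨x, hx⟩ := exists_prime_orderOf_dvd_card' p hdvd
    have hxp : x ^ p = 1 := by rw [← hx]; exact pow_orderOf_eq_one x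
    have hxA : x ∉ A := by
      intro hxA
      have h1 : x = 1 := eq_one_of_pow_pow hq hpq (a := 1) (b := 1) (by simpa using hxp)
        (by simpa using hA.2 x hxA)
      rw [h1, orderOf_one] at hx
      exact hp.ne_one hx.symm
    have hzp : IsPGroup p (Subgroup.zpowers x) := by
      refine IsPGroup.of_card (n := 1) ?_
      rw [Nat.card_zpowers, hx, pow_one]
    obtain ⟨P, hP⟩ := hzp.exists_le_sylow
    have hPn : (P : Subgroup G).Normal := hcl P
    have hxP : x ∈ (P : Subgroup G) := hP (Subgroup.mem_zpowers x)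
    apply hnoncomm x hxA
    intro a ha
    -- the commutator lies in both
    have hc1 : x * a * x⁻¹ * a⁻¹ ∈ A :=
      A.mul_mem ((inferInstance : A.Normal).conj_mem a ha x) (A.inv_mem ha)
    have hc2 : x * a * x⁻¹ * a⁻¹ ∈ (P : Subgroup G) := by
      have := hPn.conj_mem x⁻¹ (P.1.inv_mem hxP) a
      have e : x * a * x⁻¹ * a⁻¹ = x * (a * x⁻¹ * a⁻¹) := by group
      rw [e]
      exact P.1.mul_mem hxP this
    obtain ⟨k, hk⟩ := P.2 ⟨_, hc2⟩
    have hk' : (x * a * x⁻¹ * a⁻¹) ^ p ^ k = 1 := congrArg Subtype.val hk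
    have h1 := eq_one_of_pow_pow hq hpq (b := 1) hk' (by simpa using hA.2 _ hc1)
    have h2 : x * a * x⁻¹ = a := by
      rwa [mul_inv_eq_one] at h1
    rw [mul_inv_eq_iff_eq_mul] at h2
    exact h2
  · -- proper subgroups
    intro H hH
    by_cases hHA : H ≤ A
    · exact pclosed_of_coprime (hAcard H hHA)
    · obtain ⟨h, hhH, hhA⟩ := SetLike.not_le_iff_exists.1 hHA
      rcases hnormal_inf h hhA H hhH with h0 | h0
      · apply pclosed_of_isPGroup
        refine hquotp.of_injective ((QuotientGroup.mk' A).comp H.subtype) ?_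
        rw [injective_iff_map_eq_one]
        intro a ha
        have h1 : (a : G) ∈ A := by
          have : (QuotientGroup.mk (a : G) : G ⧸ A) = 1 := ha
          exact (QuotientGroup.eq_one_iff _).1 this
        have h2 : (a : G) ∈ H ⊓ A := ⟨a.2, h1⟩
        rw [h0] at h2
        exact Subtype.ext (Subgroup.mem_bot.1 h2)
      · exfalso
        apply hH
        have hAH : A ≤ H := by rw [← h0]; exact inf_le_left
        rw [eq_top_iff]
        intro g _
        obtain ⟨n, a, ha, rfl⟩ := exists_pow_mul A hidx hhA g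
        exact H.mul_mem (H.pow_mem hhH n) (hAH ha)
  · -- proper quotients
    intro N _ hN
    obtain ⟨⟨n, hn⟩, hn0⟩ := Subgroup.ne_bot_iff_exists_ne_one.1 hN
    have hn1 : n ≠ 1 := fun h => hn0 (Subtype.ext h)
    have hnor : (N ⊓ A).Normal := inferInstance
    rcases hmin _ hnor inf_le_right with h0 | h0
    · exfalso
      have hnA : n ∉ A := by
        intro h
        have : n ∈ N ⊓ A := ⟨hn, h⟩
        rw [h0] at this
        exact hn1 (Subgroup.mem_bot.1 this)
      apply hnoncomm n hnA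
      intro a ha
      have hc1 : n * a * n⁻¹ * a⁻¹ ∈ A :=
        A.mul_mem ((inferInstance : A.Normal).conj_mem a ha n) (A.inv_mem ha)
      have hc2 : n * a * n⁻¹ * a⁻¹ ∈ N := by
        have := (inferInstance : N.Normal).conj_mem n⁻¹ (N.inv_mem hn) a
        have e : n * a * n⁻¹ * a⁻¹ = n * (a * n⁻¹ * a⁻¹) := by group
        rw [e]
        exact N.mul_mem hn this
      have : n * a * n⁻¹ * a⁻¹ ∈ N ⊓ A := ⟨hc2, hc1⟩
      rw [h0] at this
      have h2 : n * a * n⁻¹ * a⁻¹ = 1 := Subgroup.mem_bot.1 this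
      have h3 : n * a * n⁻¹ = a := by rwa [mul_inv_eq_one] at h2
      rw [mul_inv_eq_iff_eq_mul] at h3
      exact h3
    · apply pclosed_of_isPGroup
      have hAN : A ≤ N := by rw [← h0]; exact inf_le_left
      refine hquotp.of_surjective (QuotientGroup.map A N (MonoidHom.id G) hAN) ?_
      intro z
      obtain ⟨g, rfl⟩ := QuotientGroup.mk_surjective z
      exact ⟨QuotientGroup.mk g, rfl⟩

end Cfsg.Agent.S3869
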