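import Cfsg.Statements.S3870
import Mathlib
import Cfsg.Agent.Lib.PGroup.Basic
-- import your own Cfsg.Agent.* helpers here

set_option autoImplicit false
open Cfsg

namespace Cfsg.Agent.S3870

theorem card_lt {G : Type*} [Group G] [Finite G] {A B : Subgroup G} (h : A < B) :
    Nat.card A < Nat.card B := by
  by_contra hcon
  exact h.ne (Subgroup.eq_of_le_of_card_ge h.le (not_lt.mp hcon))

/-- Let G be a finite simple group whose Sylow p-subgroups are not normal but such that every proper subgroup of G has a normal Sylow p-subgroup. Then any two distinct Sylow p-subgroups of G intersect trivially, and for every Sylow p-subgroup P the normalizer of every non-identity subgroup of P lies in the normalizer of P. -/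
theorem result {G : Type*} [Group G] [Finite G] [IsSimpleGroup G] {p : ℕ} [Fact p.Prime]
    (hnc : ¬ Cfsg.IsPClosed p G) (hsub : ∀ H : Subgroup G, H ≠ ⊤ → Cfsg.IsPClosed p ↥H) :
    (∀ P Q : Sylow p G, P ≠ Q → (P : Subgroup G) ⊓ (Q : Subgroup G) = ⊥) ∧
      ∀ (P : Sylow p G) (R : Subgroup G), R ≤ P → R ≠ ⊥ →
        Subgroup.normalizer (R : Set G) ≤ Subgroup.normalizer ((P : Subgroup G) : Set G) := by
  classical
  have hSeq : ∀ P Q : Sylow p G, (P : Subgroup G) ≤ Q → P = Q := fun P Q h =>
    Sylow.ext (P.3 Q.isPGroup' h).symm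
  have hTI : ∀ P Q : Sylow p G, P ≠ Q → (P : Subgroup G) ⊓ (Q : Subgroup G) = ⊥ := by
    by_contra hcon
    push Not at hcon
    obtain ⟨P0, Q0, hne0, hD0⟩ := hcon
    let α := {x : Sylow p G × Sylow p G // x.1 ≠ x.2}
    have : Nonempty α := ⟨⟨(P0, Q0), hne0⟩⟩
    obtain ⟨⟨⟨P, Q⟩, hne⟩, hmax⟩ := Finite.exists_max
      (fun x : α => Nat.card ((x.1.1 : Subgroup G) ⊓ (x.1.2 : Subgroup G) : Subgroup G))
    simp only at hne hmax
    set D := (P : Subgroup G) ⊓ (Q : Subgroup G) with hD
    have hDne : D ≠ ⊥ := by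
      intro hbot
      apply hD0
      have h1 := hmax ⟨(P0, Q0), hne0⟩
      simp only at h1
      rw [hbot, Subgroup.card_bot] at h1
      exact (Subgroup.card_le_one_iff_eq_bot _).mp h1
    have hDP : D < P := by
      refine lt_of_le_of_ne inf_le_left fun h => hne (hSeq P Q ?_)
      rw [← h]
      exact inf_le_right
    have hDQ : D < Q := by
      refine lt_of_le_of_ne inf_le_right fun h => hne (hSeq Q P ?_).symm
      rw [← h]
      exact inf_le_left
    have hNne : Subgroup.normalizer (D : Set G) ≠ ⊤ := by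
      intro hN
      have hDn : D.Normal := Subgroup.normalizer_eq_top_iff.mp hN
      have hDtop : D = ⊤ := (hDn.eq_bot_or_eq_top).resolve_left hDne
      apply hne
      apply hSeq
      rw [hD] at hDtop
      intro z _
      exact (inf_eq_top_iff.mp hDtop).2 ▸ Subgroup.mem_top z
    have hcl := hsub _ hNne
    obtain ⟨x, hxP, hxD, hxN⟩ := Cfsg.Agent.Lib.PGroup.Basic.exists_mem_normalizer_of_lt P.isPGroup' hDP
    obtain ⟨y, hyQ, hyD, hyN⟩ := Cfsg.Agent.Lib.PGroup.Basic.exists_mem_normalizer_of_lt Q.isPGroup' hDQ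
    set N := Subgroup.normalizer (D : Set G) with hN
    have hsubg : ∀ A : Sylow p G, IsPGroup p ↥((A : Subgroup G).subgroupOf N) := fun A =>
      A.isPGroup'.comap_of_injective N.subtype Subtype.val_injective
    obtain ⟨R1, hR1⟩ := (hsubg P).exists_le_sylow
    obtain ⟨R2, hR2⟩ := (hsubg Q).exists_le_sylow
    have hR12 : R1 = R2 := by
      have := Sylow.unique_of_normal R1 (hcl R1)
      exact Subsingleton.elim _ _
    subst hR12
    have hRp : IsPGroup p ↥((R1 : Subgroup N).map N.subtype) := R1.isPGroup'.map _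
    obtain ⟨T, hT⟩ := hRp.exists_le_sylow
    have hTmem : ∀ (A : Sylow p G), (A : Subgroup G).subgroupOf N ≤ R1 → ∀ z ∈ (A : Subgroup G), z ∈ N → z ∈ (T : Subgroup G) := by
      intro A hA z hzA hzN
      apply hT
      exact ⟨⟨z, hzN⟩, hA (Subgroup.mem_subgroupOf.mpr hzA), rfl⟩
    have hDle : D ≤ N := Subgroup.le_normalizer
    have hTP : T = P := by
      by_contra hTne
      have h1 := hmax ⟨(T, P), hTne⟩
      simp only at h1
      have hlt : D < (T : Subgroup G) ⊓ (P : Subgroup G) := by
        refine lt_of_le_of_ne (le_inf (fun z hz => hTmem P hR1 z hz.1 (hDle hz)) inf_le_left) ?_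
        intro h
        apply hxD
        rw [h]
        exact ⟨hTmem P hR1 x hxP hxN, hxP⟩
      have h2 : Nat.card D < Nat.card ((T : Subgroup G) ⊓ (P : Subgroup G) : Subgroup G) := card_lt hlt
      omega
    have hTQ : T = Q := by
      by_contra hTne
      have h1 := hmax ⟨(T, Q), hTne⟩
      simp only at h1
      have hlt : D < (T : Subgroup G) ⊓ (Q : Subgroup G) := by
        refine lt_of_le_of_ne (le_inf (fun z hz => hTmem Q hR2 z hz.2 (hDle hz)) inf_le_right) ?_
        intro h
        apply hyD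
        rw [h]
        exact ⟨hTmem Q hR2 y hyQ hyN, hyQ⟩
      have h2 : Nat.card D < Nat.card ((T : Subgroup G) ⊓ (Q : Subgroup G) : Subgroup G) := card_lt hlt
      omega
    exact hne (hTP.symm.trans hTQ)
  refine ⟨hTI, ?_⟩
  intro P R hRP hRne g hg
  -- conjugate of `P`
  have hgP : g • P = P := by
    by_contra hne
    have h1 := hTI (g • P) P hne
    apply hRne
    rw [eq_bot_iff]
    intro z hz
    rw [← h1]
    refine ⟨?_, hRP hz⟩
    have h2 : g⁻¹ * z * g ∈ R := by
      have := (Subgroup.mem_normalizer_iff.mp (inv_mem hg) z).mp hz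
      simpa using this
    have h3 : g⁻¹ * z * g ∈ P := hRP h2
    have hmem : z ∈ ((g • P : Sylow p G) : Set G) := by
      rw [Sylow.coe_smul, Set.mem_smul_set_iff_inv_smul_mem]
      simpa [MulAut.smul_def, MulAut.conj_apply, mul_assoc] using h3
    exact hmem
  exact Sylow.smul_eq_iff_mem_normalizer.mp hgP

end Cfsg.Agent.S3870
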