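import Cfsg.Statements.S3872
import Mathlib
import Cfsg.Agent.Lib.PGroup.HallPetrescu
import Cfsg.Agent.Lib.PGroup.CyclicMax2
import Cfsg.Agent.Lib.PGroup.FrattiniBasis
import Cfsg.Agent.Lib.PGroup.Basic
import Cfsg.Agent.Lib.PGroup.RankTwoThree.ClassKit
import Cfsg.Agent.S3053

set_option autoImplicit false
open Cfsg

namespace Cfsg.Agent.S3872

open Subgroup

section
variable {G : Type*} [Group G] [Finite G] {p : ℕ} [hp : Fact p.Prime]

theorem card_mul_le_of_lt (hG : IsPGroup p G) {K H : Subgroup G} (h : K < H) :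
    Nat.card K * p ≤ Nat.card H := by
  obtain ⟨a, ha⟩ := IsPGroup.iff_card.mp (hG.to_subgroup H)
  have hdvd : Nat.card K ∣ Nat.card H := by
    have := Subgroup.card_dvd_of_le h.le
    exact this
  rw [ha] at hdvd
  obtain ⟨b, hb, hb2⟩ := (Nat.dvd_prime_pow hp.out).mp hdvd
  rw [ha, hb2]
  have hne : b ≠ a := by
    rintro rfl
    have : K = H := Subgroup.eq_of_le_of_card_ge h.le (by rw [ha, hb2])
    exact h.ne this
  have hlt : b + 1 ≤ a := by omega
  calc p ^ b * p = p ^ (b + 1) := (pow_succ _ _).symm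
    _ ≤ p ^ a := Nat.pow_le_pow_right hp.out.pos hlt

/-- in a group with cyclic image, etc: the closed-subgroup lemma. -/
theorem proper_closed (hsub : ∀ K : Subgroup G, K ≠ ⊤ → (∃ H : Subgroup ↥K, (H : Set ↥K) = {g : ↥K | g ^ p = 1}))
    {K : Subgroup G} (hK : K ≠ ⊤) {u v : G} (hu : u ∈ K) (hv : v ∈ K) (hu1 : u ^ p = 1) (hv1 : v ^ p = 1) :
    (u * v) ^ p = 1 := by
  obtain ⟨H, hH⟩ := hsub K hK
  have h1 : (⟨u, hu⟩ : K) ∈ H := by
    have : (⟨u, hu⟩ : K) ∈ (H : Set K) := by
      rw [hH]
      exact Subtype.ext hu1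
    exact this
  have h2 : (⟨v, hv⟩ : K) ∈ H := by
    have : (⟨v, hv⟩ : K) ∈ (H : Set K) := by
      rw [hH]
      exact Subtype.ext hv1
    exact this
  have h3 : (⟨u, hu⟩ : K) * ⟨v, hv⟩ ∈ (H : Set K) := H.mul_mem h1 h2
  rw [hH] at h3
  exact congrArg Subtype.val h3

end


/-- Say that a finite group is p-exponent closed when its elements of order dividing p form a subgroup. Let G be a finite p-group that is not p-exponent closed, but all of whose proper subgroups and proper quotients are. Then G is generated by two elements, has nilpotency class at least p, has exponent p², has cyclic center, and has order at least p^(p+1). -/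
theorem result {G : Type*} [Group G] [Finite G] {p : ℕ} [Fact p.Prime] (hG : IsPGroup p G)
    (hnc : ¬ (∃ H : Subgroup G, (H : Set G) = {g : G | g ^ p = 1})) (hsub : ∀ K : Subgroup G, K ≠ ⊤ → (∃ H : Subgroup ↥K, (H : Set ↥K) = {g : ↥K | g ^ p = 1}))
    (hquo : ∀ (N : Subgroup G) [N.Normal], N ≠ ⊥ → (∃ H : Subgroup (G ⧸ N), (H : Set (G ⧸ N)) = {g : (G ⧸ N) | g ^ p = 1})) :
    (∃ x y : G, Subgroup.closure ({x, y} : Set G) = ⊤) ∧ (⊤ : Subgroup G).lowerCentralSeries (p - 1) ≠ ⊥ ∧
      Monoid.exponent G = p ^ 2 ∧ IsCyclic ↥(Subgroup.center G) ∧ p ^ (p + 1) ≤ Nat.card G := by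
  classical
  have hpp := (Fact.out : p.Prime)
  -- two elements
  obtain ⟨x, y, hx, hy, hxy⟩ : ∃ x y : G, x ^ p = 1 ∧ y ^ p = 1 ∧ (x * y) ^ p ≠ 1 := by
    by_contra hcon
    push Not at hcon
    apply hnc
    refine ⟨⟨⟨⟨{g | g ^ p = 1}, ?_⟩, ?_⟩, ?_⟩, rfl⟩
    · intro a b ha hb
      exact hcon a b ha hb
    · show (1 : G) ^ p = 1
      simp
    · intro a ha
      show a⁻¹ ^ p = 1
      have ha' : a ^ p = 1 := ha
      rw [inv_pow, ha', inv_one]
  have hncomm : x * y ≠ y * x := by
    intro h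
    apply hxy
    rw [Commute.mul_pow h, hx, hy, one_mul]
  have hgen : closure ({x, y} : Set G) = ⊤ := by
    by_contra hne
    exact hxy (proper_closed hsub hne (subset_closure (by simp)) (subset_closure (by simp)) hx hy)
  have hncyc : ∀ z : G, closure ({z} : Set G) ≠ ⊤ := by
    intro z hz
    apply hncomm
    have hxz : x ∈ closure ({z} : Set G) := by rw [hz]; exact mem_top x
    have hyz : y ∈ closure ({z} : Set G) := by rw [hz]; exact mem_top y
    rw [← zpowers_eq_closure] at hxz hyz
    obtain ⟨a, rfl⟩ := mem_zpowers_iff.mp hxz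
    obtain ⟨b, rfl⟩ := mem_zpowers_iff.mp hyz
    exact (Commute.refl z).zpow_zpow a b
  -- the normal closure
  set N := normalClosure ({x} : Set G) with hN
  have hxN : x ∈ N := subset_normalClosure (by simp)
  have hNne : N ≠ ⊤ := by
    rcases eq_top_or_exists_le_coatom (closure ({x} : Set G)) with h | ⟨M, hM, hle⟩
    · exact absurd h (hncyc x)
    · have hMn : M.Normal := Cfsg.Agent.Lib.PGroup.FrattiniBasis.coatom_normal hG hM
      have hxM : x ∈ M := hle (subset_closure rfl)
      have : N ≤ M := normalClosure_le_normal (by simpa using hxM)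
      intro htop
      rw [htop] at this
      exact hM.1 (top_le_iff.mp this)
  have hNexp : ∀ g ∈ N, g ^ p = 1 := by
    have key : ∀ g ∈ N, g ∈ N ∧ g ^ p = 1 := by
      intro g hg
      have hg' : g ∈ closure (Group.conjugatesOfSet ({x} : Set G)) := hg
      induction hg' using closure_induction with
      | mem a ha =>
        refine ⟨hg, ?_⟩
        rw [Group.mem_conjugatesOfSet_iff] at ha
        obtain ⟨b, hb, hc⟩ := ha
        have hb' : b = x := hb
        subst hb'
        obtain ⟨c, rfl⟩ := isConj_iff.mp hc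
        rw [conj_pow, hx]
        simp
      | one => exact ⟨N.one_mem, one_pow _⟩
      | mul a b ha hb h1 h2 =>
        obtain ⟨h1a, h1b⟩ := h1 ha
        obtain ⟨h2a, h2b⟩ := h2 hb
        exact ⟨N.mul_mem h1a h2a, proper_closed hsub hNne h1a h2a h1b h2b⟩
      | inv a ha h1 =>
        obtain ⟨h1a, h1b⟩ := h1 ha
        exact ⟨N.inv_mem h1a, by rw [inv_pow, h1b, inv_one]⟩
    exact fun g hg => (key g hg).2
  -- the quotient
  have hq : ∀ g : G, ∃ k : ℤ, (g : G ⧸ N) = (y : G ⧸ N) ^ k := by
    intro g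
    have hg : g ∈ closure ({x, y} : Set G) := by rw [hgen]; exact mem_top g
    induction hg using closure_induction with
    | mem a ha =>
      rcases ha with rfl | rfl
      · refine ⟨0, ?_⟩
        rw [zpow_zero]
        exact (QuotientGroup.eq_one_iff _).mpr hxN
      · exact ⟨1, by rw [zpow_one]⟩
    | one => exact ⟨0, by simp⟩
    | mul a b _ _ h1 h2 =>
      obtain ⟨k, hk⟩ := h1
      obtain ⟨m, hm⟩ := h2
      exact ⟨k + m, by rw [QuotientGroup.mk_mul, hk, hm, zpow_add]⟩
    | inv a _ h1 =>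
      obtain ⟨k, hk⟩ := h1
      exact ⟨-k, by rw [QuotientGroup.mk_inv, hk, zpow_neg]⟩
  have hpowN : ∀ g : G, g ^ p ∈ N := by
    intro g
    obtain ⟨k, hk⟩ := hq g
    rw [← QuotientGroup.eq_one_iff, QuotientGroup.mk_pow, hk, ← zpow_natCast, ← zpow_mul, mul_comm,
      zpow_mul, zpow_natCast, ← QuotientGroup.mk_pow, hy]
    simp
  have hcommN : ∀ a b : G, a * b * a⁻¹ * b⁻¹ ∈ N := by
    intro a b
    obtain ⟨k, hk⟩ := hq a
    obtain ⟨m, hm⟩ := hq b
    rw [← QuotientGroup.eq_one_iff, QuotientGroup.mk_mul, QuotientGroup.mk_mul, QuotientGroup.mk_mul,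
      QuotientGroup.mk_inv, QuotientGroup.mk_inv, hk, hm]
    have : Commute ((y : G ⧸ N) ^ k) ((y : G ⧸ N) ^ m) := (Commute.refl _).zpow_zpow k m
    rw [this.eq]
    group
  have hG'N : (⊤ : Subgroup G).lowerCentralSeries 1 ≤ N := by
    show ⁅(⊤ : Subgroup G), (⊤ : Subgroup G)⁆ ≤ N
    rw [commutator_le]
    intro a _ b _
    rw [commutatorElement_def]
    exact hcommN a b
  have hexp2 : ∀ g : G, g ^ (p ^ 2) = 1 := by
    intro g
    rw [pow_two, pow_mul]
    exact hNexp _ (hpowN g)
  have hexponent : Monoid.exponent G = p ^ 2 := by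
    have hdvd : Monoid.exponent G ∣ p ^ 2 := Monoid.exponent_dvd_of_forall_pow_eq_one hexp2
    obtain ⟨k, hk, hk2⟩ := (Nat.dvd_prime_pow hpp).mp hdvd
    have hk3 : k = 2 := by
      by_contra hne
      have hk1 : k ≤ 1 := by omega
      have : Monoid.exponent G ∣ p := by
        rw [hk2]
        exact (pow_dvd_pow p hk1).trans (by simp)
      exact hxy (Monoid.exponent_dvd_iff_forall_pow_eq_one.mp this _)
    rw [hk2, hk3]
  -- the centre
  have hcen : ∀ z ∈ center G, z ^ p = 1 → z ≠ 1 → (x * y) ^ p ∈ zpowers z := by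
    intro z hz hzp hz1
    have hzle : zpowers z ≤ center G := by
      rw [zpowers_le]
      exact hz
    haveI hnorm : (zpowers z).Normal := by
      refine ⟨fun n hn g => ?_⟩
      have hnc := mem_center_iff.mp (hzle hn) g
      rw [hnc]
      simpa using hn
    have hne : zpowers z ≠ ⊥ := by
      rw [Ne, zpowers_eq_bot]
      exact hz1
    obtain ⟨H, hH⟩ := hquo (zpowers z) hne
    have h1 : ((x : G) : G ⧸ zpowers z) ∈ H := by
      have : ((x : G) : G ⧸ zpowers z) ∈ (H : Set (G ⧸ zpowers z)) := by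
        rw [hH]
        show ((x : G) : G ⧸ zpowers z) ^ p = 1
        rw [← QuotientGroup.mk_pow, hx]
        rfl
      exact this
    have h2 : ((y : G) : G ⧸ zpowers z) ∈ H := by
      have : ((y : G) : G ⧸ zpowers z) ∈ (H : Set (G ⧸ zpowers z)) := by
        rw [hH]
        show ((y : G) : G ⧸ zpowers z) ^ p = 1
        rw [← QuotientGroup.mk_pow, hy]
        rfl
      exact this
    have h3 : ((x : G) : G ⧸ zpowers z) * (y : G) ∈ (H : Set (G ⧸ zpowers z)) := H.mul_mem h1 h2
    rw [hH] at h3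
    have h4 : (((x : G) : G ⧸ zpowers z) * (y : G)) ^ p = 1 := h3
    rw [← QuotientGroup.mk_mul, ← QuotientGroup.mk_pow] at h4
    exact (QuotientGroup.eq_one_iff _).mp h4
  have hcyc : IsCyclic (center G) := by
    refine Cfsg.Agent.Lib.PGroup.CyclicMax2.isCyclic_of_comm_uniqueP (p := p)
      (fun a b => Subtype.ext (mem_center_iff.mp b.2 a)) (hG.to_subgroup _) ?_
    rintro ⟨a, ha⟩ ⟨b, hb⟩ ha1 hb1 ha2 hb2
    have ha1' : a ^ p = 1 := congrArg Subtype.val ha1
    have hb1' : b ^ p = 1 := congrArg Subtype.val hb1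
    have ha2' : a ≠ 1 := fun h => ha2 (Subtype.ext h)
    have hb2' : b ≠ 1 := fun h => hb2 (Subtype.ext h)
    have hwa := hcen a ha ha1' ha2'
    have hwb := hcen b hb hb1' hb2'
    obtain ⟨k, hk⟩ := Cfsg.Agent.S3053.line_gen ha1' hwa hxy a (mem_zpowers a)
    obtain ⟨m, hm⟩ := mem_zpowers_iff.mp hwb
    refine mem_zpowers_iff.mpr ⟨m * k, ?_⟩
    apply Subtype.ext
    show b ^ (m * (k : ℤ)) = a
    rw [hk, zpow_mul, hm, zpow_natCast]
  -- the class
  have hlcs : (⊤ : Subgroup G).lowerCentralSeries (p - 1) ≠ ⊥ := by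
    intro hbot
    have h1 := Cfsg.Agent.Lib.PGroup.HallPetrescu.hall_petrescu_mem (H := ⊤) (a := x) (b := y)
      (mem_top x) (mem_top y) hbot p (N := ⊥) (by
        intro k hk g hg
        rw [mem_bot]
        rcases lt_trichotomy k p with hlt | rfl | hgt
        · have h2 : g ∈ (⊤ : Subgroup G).lowerCentralSeries 1 :=
            Subgroup.lowerCentralSeries_antitone _ (by omega) hg
          obtain ⟨c, hc⟩ := hpp.dvd_choose_self (by omega) hlt
          rw [hc, pow_mul, hNexp g (hG'N h2), one_pow]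
        · rw [hbot, mem_bot] at hg
          rw [hg, one_pow]
        · rw [Nat.choose_eq_zero_of_lt hgt, pow_zero])
    rw [mem_bot, hx, hy, one_mul, mul_one, inv_eq_one] at h1
    exact hxy h1
  have hcard : p ^ (p + 1) ≤ Nat.card G := by
    have hchain : ∀ j : ℕ, j ≤ p - 1 → p ^ (j + 1) ≤ Nat.card ((⊤ : Subgroup G).lowerCentralSeries (p - 1 - j)) := by
      intro j
      induction j with
      | zero =>
        intro _
        have h1 := card_mul_le_of_lt hG (bot_lt_iff_ne_bot.mpr hlcs)
        simpa using h1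
      | succ j ih =>
        intro hj
        have h2 := ih (by omega)
        have hne : (⊤ : Subgroup G).lowerCentralSeries (p - 1 - (j + 1)) ≠ ⊥ := by
          intro hb
          apply hlcs
          have := Subgroup.lowerCentralSeries_antitone (⊤ : Subgroup G) (show p - 1 - (j + 1) ≤ p - 1 by omega)
          rw [hb] at this
          exact le_bot_iff.mp this
        have hlt := Cfsg.Agent.Lib.PGroup.RankTwoThree.lcs_succ_lt hG ⊤ hne
        have hidx : p - 1 - (j + 1) + 1 = p - 1 - j := by omega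
        rw [hidx] at hlt
        have h3 := card_mul_le_of_lt hG hlt
        calc p ^ (j + 1 + 1) = p ^ (j + 1) * p := pow_succ _ _
          _ ≤ _ := Nat.mul_le_mul_right _ h2
          _ ≤ _ := h3
    have hp2 := hpp.two_le
    have h1 := hchain (p - 2) (by omega)
    have hidx : p - 1 - (p - 2) = 1 := by omega
    rw [hidx] at h1
    have hxnot : (⊤ : Subgroup G).lowerCentralSeries 1 ≠ N := by
      intro heq
      have hxc : x ∈ commutator G := by
        have : x ∈ (⊤ : Subgroup G).lowerCentralSeries 1 := by rw [heq]; exact hxN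
        exact this
      have hxf : x ∈ frattini G := Cfsg.Agent.Lib.PGroup.Basic.commutator_le_frattini hG hxc
      have htop : closure ({y} : Set G) ⊔ frattini G = ⊤ := by
        rw [eq_top_iff, ← hgen, closure_le]
        rintro a (rfl | rfl)
        · exact (le_sup_right : frattini G ≤ _) hxf
        · exact (le_sup_left : closure ({a} : Set G) ≤ _) (subset_closure rfl)
      exact hncyc y (frattini_nongenerating htop)
    have h2 := card_mul_le_of_lt hG (lt_of_le_of_ne hG'N hxnot)
    have h3 := card_mul_le_of_lt hG (lt_top_iff_ne_top.mpr hNne)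
    rw [Subgroup.card_top] at h3
    calc p ^ (p + 1) = p ^ (p - 2 + 1) * p * p := by
          rw [← pow_succ, ← pow_succ]
          congr 1
          omega
      _ ≤ Nat.card ((⊤ : Subgroup G).lowerCentralSeries 1) * p * p := by gcongr
      _ ≤ Nat.card N * p := by gcongr
      _ ≤ Nat.card G := h3
  refine ⟨⟨x, y, hgen⟩, hlcs, hexponent, hcyc, hcard⟩

end Cfsg.Agent.S3872
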