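import Cfsg.Statements.S3873
import Mathlib
import Cfsg.Agent.Lib.FG3.MinNonClosedTail
-- import your own Cfsg.Agent.* helpers here

set_option autoImplicit false
open Cfsg

namespace Cfsg.Agent.S3873

open Cfsg.Agent.Lib.FG3.MinNonClosed Cfsg.Agent.Lib.FG3.MinNonClosedTail

/-- Say that a finite group is p-exponent closed when its elements of order dividing p form a subgroup. Let G be a finite group that is not p-exponent closed, but all of whose proper subgroups and proper quotients are, and suppose G is neither simple nor a p-group. Then there is a prime q ≠ p such that G has order p · q^e, where e is the multiplicative order of q modulo p, and G has a normal elementary abelian subgroup of order q^e that is a minimal normal subgroup of G. -/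
theorem result {G : Type*} [Group G] [Finite G] {p : ℕ} [Fact p.Prime]
    (hnc : ¬ (∃ H : Subgroup G, (H : Set G) = {g : G | g ^ p = 1})) (hsub : ∀ K : Subgroup G, K ≠ ⊤ → (∃ H : Subgroup ↥K, (H : Set ↥K) = {g : ↥K | g ^ p = 1}))
    (hquo : ∀ (N : Subgroup G) [N.Normal], N ≠ ⊥ → (∃ H : Subgroup (G ⧸ N), (H : Set (G ⧸ N)) = {g : (G ⧸ N) | g ^ p = 1}))
    (hns : ¬ IsSimpleGroup G) (hnp : ¬ IsPGroup p G) :
    ∃ q : ℕ, q.Prime ∧ q ≠ p ∧ Nat.card G = p * q ^ orderOf (q : ZMod p) ∧
      ∃ A : Subgroup G, A.Normal ∧ Nat.card ↥A = q ^ orderOf (q : ZMod p) ∧ Cfsg.IsElementaryAbelian q A ∧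
        ∀ B : Subgroup G, B.Normal → B ≤ A → B = ⊥ ∨ B = A := by
  classical
  have hpp : p.Prime := Fact.out
  -- two elements with non-closed product
  have hab : ∃ a b : G, a ^ p = 1 ∧ b ^ p = 1 ∧ (a * b) ^ p ≠ 1 := by
    by_contra hcon
    push Not at hcon
    apply hnc
    have hmul : ∀ a b : G, a ^ p = 1 → b ^ p = 1 → (a * b) ^ p = 1 := fun a b ha hb => hcon a b ha hb
    refine ⟨{ carrier := {g : G | g ^ p = 1}
              mul_mem' := fun {a b} ha hb => hmul a b ha hb
              one_mem' := one_pow _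
              inv_mem' := fun {a} ha => by
                change a⁻¹ ^ p = 1
                rw [inv_pow, show a ^ p = 1 from ha, inv_one] }, rfl⟩
  obtain ⟨a, b, ha, hb, hab⟩ := hab
  have hgen : Subgroup.closure ({a, b} : Set G) = ⊤ := by
    by_contra hK
    obtain ⟨H, hH⟩ := hsub _ hK
    have ha' : a ∈ Subgroup.closure ({a, b} : Set G) := Subgroup.subset_closure (by simp)
    have hb' : b ∈ Subgroup.closure ({a, b} : Set G) := Subgroup.subset_closure (by simp)
    have hmem : ∀ x : Subgroup.closure ({a, b} : Set G), x ∈ H ↔ x ^ p = 1 := by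
      intro x
      have := Set.ext_iff.1 hH x
      exact this
    have h1 : (⟨a, ha'⟩ : Subgroup.closure ({a, b} : Set G)) ∈ H :=
      (hmem _).2 (Subtype.ext (by simpa using ha))
    have h2 : (⟨b, hb'⟩ : Subgroup.closure ({a, b} : Set G)) ∈ H :=
      (hmem _).2 (Subtype.ext (by simpa using hb))
    have h3 := (hmem _).1 (H.mul_mem h1 h2)
    exact hab (by simpa using congrArg Subtype.val h3)
  -- proper quotients have exponent `p`
  have hexp : ∀ (N : Subgroup G) [N.Normal], N ≠ ⊥ → ∀ g : G, (QuotientGroup.mk g : G ⧸ N) ^ p = 1 := by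
    intro N _ hbot g
    obtain ⟨H, hH⟩ := hquo N hbot
    have hmem : ∀ x : G ⧸ N, x ∈ H ↔ x ^ p = 1 := by
      intro x
      exact Set.ext_iff.1 hH x
    have hle : Subgroup.closure ({a, b} : Set G) ≤ H.comap (QuotientGroup.mk' N) := by
      rw [Subgroup.closure_le]
      rintro x (rfl | hx)
      · change (QuotientGroup.mk x : G ⧸ N) ∈ H
        rw [hmem, ← QuotientGroup.mk_pow, ha]
        rfl
      · have hx' : x = b := hx
        subst hx'
        change (QuotientGroup.mk x : G ⧸ N) ∈ H
        rw [hmem, ← QuotientGroup.mk_pow, hb]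
        rfl
    have hg : g ∈ H.comap (QuotientGroup.mk' N) := by
      apply hle
      rw [hgen]
      trivial
    exact (hmem _).1 hg
  refine tail ?_ ?_ hns hnp
  · intro K hK x hxK hxp u huK
    obtain ⟨H, hH⟩ := hsub K hK
    have hmem : ∀ y : K, y ∈ H ↔ y ^ p = 1 := by
      intro y
      exact Set.ext_iff.1 hH y
    let x' : K := ⟨x, hxK⟩
    let u' : K := ⟨u, huK⟩
    have hx' : x' ∈ H := (hmem _).2 (Subtype.ext (by simpa [x'] using hxp))
    have h1 : u' * x'⁻¹ * u'⁻¹ ∈ H := by
      rw [hmem, conj_pow, inv_pow, (hmem _).1 hx']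
      simp
    have h2 : x' * (u' * x'⁻¹ * u'⁻¹) ∈ H := H.mul_mem hx' h1
    have h3 := (hmem _).1 h2
    refine ⟨1, ?_⟩
    have h4 := congrArg Subtype.val h3
    simp only [x', u', Subgroup.coe_pow, Subgroup.coe_mul, InvMemClass.coe_inv, Subgroup.coe_one] at h4
    rw [pow_one, show x * u * x⁻¹ * u⁻¹ = x * (u * x⁻¹ * u⁻¹) by group]
    exact h4
  · intro N hNn hbot htop
    constructor
    · intro hpN
      obtain ⟨H, hH⟩ := hsub N htop
      have hmem : ∀ y : N, y ∈ H ↔ y ^ p = 1 := by
        intro y
        exact Set.ext_iff.1 hH y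
      haveI hchar : H.Characteristic := by
        rw [Subgroup.characteristic_iff_le_map]
        intro φ y hy
        refine ⟨φ.symm y, ?_, by simp⟩
        rw [SetLike.mem_coe, hmem, ← map_pow, (hmem _).1 hy, map_one] 
      haveI hT : (H.map N.subtype).Normal := inferInstance
      by_cases hT0 : H.map N.subtype = ⊥
      · rw [Subgroup.map_eq_bot_iff_of_injective _ N.subtype_injective] at hT0
        obtain ⟨x, hx⟩ := exists_prime_orderOf_dvd_card' p hpN
        have h1 : x ^ p = 1 := by rw [← hx]; exact pow_orderOf_eq_one x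
        have h2 : x ∈ H := (hmem x).2 h1
        rw [hT0] at h2
        have h3 : x = 1 := Subgroup.mem_bot.1 h2
        rw [h3, orderOf_one] at hx
        exact hpp.ne_one hx.symm
      · apply hnp
        intro g
        refine ⟨2, ?_⟩
        have h1 := hexp (H.map N.subtype) hT0 g
        have h2 : g ^ p ∈ H.map N.subtype := by
          rw [← QuotientGroup.eq_one_iff, QuotientGroup.mk_pow]
          exact h1
        obtain ⟨y, hy, hye⟩ := h2
        have h3 : y ^ p = 1 := (hmem y).1 hy
        have h4 : (g ^ p) ^ p = 1 := by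
          rw [← hye]
          simpa using congrArg Subtype.val h3
        rw [pow_two, pow_mul]
        exact h4
    · intro z
      obtain ⟨g, rfl⟩ := QuotientGroup.mk_surjective z
      refine ⟨1, ?_⟩
      rw [pow_one]
      exact hexp N hbot g

end Cfsg.Agent.S3873
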