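import Cfsg.Statements.S3875
import Mathlib
import Cfsg.Prelude.Def_LocalStructure
import Cfsg.Agent.S0999
import Cfsg.Agent.Lib.DefectOne.PSLOut
-- import your own Cfsg.Agent.* helpers here

set_option autoImplicit false
open Cfsg

namespace Cfsg.Agent.S3875

section Aux

open Subgroup MulAction
open scoped Pointwise

section Coprime

variable {p : ℕ} [Fact p.Prime]

/-- The fixed subgroup of a `p`-group acting on a `p'`-group has index `≡ 1` mod `p`. -/
lemma index_fixed_mod {P R : Type} [Group P] [Group R] [Finite P] [Finite R]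
    [MulDistribMulAction P R] (hP : IsPGroup p P) (hR : ¬ p ∣ Nat.card R) :
    (FixedPoints.subgroup P R).index % p = 1 := by
  have hp1 : 1 < p := (Fact.out : p.Prime).one_lt
  have h1 := hP.card_modEq_card_fixedPoints R
  have h2 : Nat.card (MulAction.fixedPoints P R) = Nat.card (FixedPoints.subgroup P R) := rfl
  rw [h2] at h1
  have h3 := Subgroup.card_mul_index (FixedPoints.subgroup P R)
  set c := Nat.card (FixedPoints.subgroup P R) with hc
  set i := (FixedPoints.subgroup P R).index with hi
  have hcc : Nat.Coprime p c := by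
    rw [(Fact.out : p.Prime).coprime_iff_not_dvd]
    intro h
    exact hR (h3 ▸ Dvd.dvd.mul_right h i)
  have h4 : c * i ≡ c * 1 [MOD p] := by
    rw [h3, mul_one]
    exact h1
  have h5 : i ≡ 1 [MOD p] := Nat.ModEq.cancel_left_of_coprime hcc h4
  have h6 : i % p = 1 % p := h5
  rwa [Nat.mod_eq_of_lt hp1] at h6

/-- A nontrivial coprime action yields a prime power `≡ 1` mod `p`, at most the order. -/
lemma exists_primePow {P N : Type} [Group P] [Group N] [Finite P] [Finite N]
    [MulDistribMulAction P N] (hP : IsPGroup p P) (hN : ¬ p ∣ Nat.card N)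
    (hnt : ∃ (x : P) (y : N), x • y ≠ y) :
    ∃ k, IsPrimePow k ∧ k % p = 1 ∧ k ≤ Nat.card N := by
  classical
  set C := FixedPoints.subgroup P N with hC
  have hC1 : C.index ≠ 1 := by
    intro h
    rw [Subgroup.index_eq_one] at h
    obtain ⟨x, y, hxy⟩ := hnt
    have : y ∈ C := h ▸ Subgroup.mem_top y
    exact hxy ((FixedPoints.mem_subgroup P N y).1 this x)
  obtain ⟨q, hq, hqC⟩ := Nat.exists_prime_and_dvd hC1
  haveI : Fact q.Prime := ⟨hq⟩
  obtain ⟨R₀⟩ : Nonempty (Sylow q N) := inferInstance
  -- fixed Sylow subgroup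
  have hnd : ¬ p ∣ Nat.card (Sylow q N) := by
    intro h
    have h1 := R₀.card_dvd_index
    have h2 : (R₀ : Subgroup N).index ∣ Nat.card N := Subgroup.index_dvd_card _
    exact hN (h.trans (h1.trans h2))
  obtain ⟨R, hR⟩ := hP.nonempty_fixed_point_of_prime_not_dvd_card (Sylow q N) hnd
  have hRinv : ∀ (x : P) (r : N), r ∈ (R : Subgroup N) → x • r ∈ (R : Subgroup N) := by
    intro x r hr
    have h1 : x • R = R := hR x
    have h2 : (↑(x • R) : Subgroup N) = x • (R : Subgroup N) := Sylow.pointwise_smul_def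
    rw [h1] at h2
    rw [h2]
    exact Subgroup.smul_mem_pointwise_smul r x _ hr
  letI : MulDistribMulAction P (R : Subgroup N) :=
    { smul := fun x r => ⟨x • r.1, hRinv x r.1 r.2⟩
      one_smul := fun r => Subtype.ext (one_smul P r.1)
      mul_smul := fun x y r => Subtype.ext (mul_smul x y r.1)
      smul_mul := fun x a b => Subtype.ext (smul_mul' x a.1 b.1)
      smul_one := fun x => Subtype.ext (smul_one x) }
  have hsm : ∀ (x : P) (r : (R : Subgroup N)), ((x • r : (R : Subgroup N)) : N) = x • (r : N) := fun _ _ => rfl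
  have hRd : Nat.card (R : Subgroup N) ∣ Nat.card N := Subgroup.card_subgroup_dvd_card _
  have hRp : ¬ p ∣ Nat.card (R : Subgroup N) := fun h => hN (h.trans hRd)
  have hk := index_fixed_mod (p := p) (P := P) (R := (R : Subgroup N)) hP hRp
  refine ⟨(FixedPoints.subgroup P (R : Subgroup N)).index, ?_, hk, ?_⟩
  · obtain ⟨n, hn⟩ := IsPGroup.iff_card.1 R.isPGroup'
    have hd : (FixedPoints.subgroup P (R : Subgroup N)).index ∣ q ^ n := hn ▸ Subgroup.index_dvd_card _
    obtain ⟨b, -, hb⟩ := (Nat.dvd_prime_pow hq).1 hd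
    rw [hb]
    refine hq.isPrimePow.pow ?_
    rintro rfl
    rw [pow_zero] at hb
    -- all of `R` is fixed
    rw [Subgroup.index_eq_one] at hb
    have hle : (R : Subgroup N) ≤ C := by
      intro r hr
      rw [hC, FixedPoints.mem_subgroup]
      intro x
      have h1 : (⟨r, hr⟩ : (R : Subgroup N)) ∈ FixedPoints.subgroup P (R : Subgroup N) := hb ▸ Subgroup.mem_top _
      have h2 := (FixedPoints.mem_subgroup P (R : Subgroup N) _).1 h1 x
      have h3 := congrArg Subtype.val h2
      simpa [hsm] using h3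
    have h4 : C.index ∣ (R : Subgroup N).index := Subgroup.index_dvd_of_le hle
    exact R.not_dvd_index (hqC.trans h4)
  · exact (Nat.le_of_dvd Nat.card_pos (Subgroup.index_dvd_card _)).trans (Nat.le_of_dvd Nat.card_pos hRd)

end Coprime

section Normal

variable {p : ℕ} [Fact p.Prime] {H : Type} [Group H] [Finite H]

/-- Conjugation action of a subgroup on a normal subgroup gives a prime power. -/
lemma exists_primePow_of_normal (N : Subgroup H) [hN : N.Normal] (S : Sylow p H)
    (hd : ¬ p ∣ Nat.card N) (hnc : ¬ ∀ x ∈ (S : Subgroup H), ∀ y ∈ N, x * y * x⁻¹ = y) :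
    ∃ k, IsPrimePow k ∧ k % p = 1 ∧ p * k ≤ Nat.card H := by
  classical
  letI : MulDistribMulAction (S : Subgroup H) N :=
    { smul := fun x y => ⟨x.1 * y.1 * x.1⁻¹, hN.conj_mem _ y.2 _⟩
      one_smul := fun y => Subtype.ext (by change (1 : H) * y.1 * (1 : H)⁻¹ = y.1; simp)
      mul_smul := fun x x' y => Subtype.ext (by
        change (x.1 * x'.1) * y.1 * (x.1 * x'.1)⁻¹ = x.1 * (x'.1 * y.1 * x'.1⁻¹) * x.1⁻¹
        group)
      smul_mul := fun x a b => Subtype.ext (by
        change x.1 * (a.1 * b.1) * x.1⁻¹ = (x.1 * a.1 * x.1⁻¹) * (x.1 * b.1 * x.1⁻¹)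
        group)
      smul_one := fun x => Subtype.ext (by change x.1 * (1 : H) * x.1⁻¹ = 1; simp) }
  have hsm : ∀ (x : (S : Subgroup H)) (y : N), ((x • y : N) : H) = x.1 * y.1 * x.1⁻¹ := fun _ _ => rfl
  have hnt : ∃ (x : (S : Subgroup H)) (y : N), x • y ≠ y := by
    by_contra hcon
    push Not at hcon
    apply hnc
    intro x hx y hy
    have := congrArg Subtype.val (hcon ⟨x, hx⟩ ⟨y, hy⟩)
    simpa [hsm] using this
  obtain ⟨k, hk1, hk2, hk3⟩ := exists_primePow (p := p) S.isPGroup' hd hnt
  refine ⟨k, hk1, hk2, ?_⟩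
  -- the orders
  have hSd : Nat.card (S : Subgroup H) ∣ Nat.card H := Subgroup.card_subgroup_dvd_card _
  have hNd : Nat.card N ∣ Nat.card H := Subgroup.card_subgroup_dvd_card _
  obtain ⟨n, hn⟩ := IsPGroup.iff_card.1 S.isPGroup'
  have hpn : Nat.Coprime (Nat.card (S : Subgroup H)) (Nat.card N) := by
    rw [hn]
    exact Nat.Coprime.pow_left _ (((Fact.out : p.Prime).coprime_iff_not_dvd).2 hd)
  have hmul := hpn.mul_dvd_of_dvd_of_dvd hSd hNd
  have hle := Nat.le_of_dvd Nat.card_pos hmul
  have hn0 : n ≠ 0 := by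
    rintro rfl
    rw [pow_zero] at hn
    have hbot : (S : Subgroup H) = ⊥ := (Subgroup.card_eq_one).1 hn
    apply hnc
    intro x hx y _
    rw [hbot, Subgroup.mem_bot] at hx
    simp [hx]
  have hpS : p ≤ Nat.card (S : Subgroup H) := by
    rw [hn]
    calc p = p ^ 1 := (pow_one p).symm
      _ ≤ p ^ n := Nat.pow_le_pow_right (Fact.out : p.Prime).pos (Nat.one_le_iff_ne_zero.2 hn0)
  calc p * k ≤ Nat.card (S : Subgroup H) * Nat.card N := Nat.mul_le_mul hpS hk3
    _ ≤ Nat.card H := hle

omit [Fact p.Prime] in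
/-- Quotient `p`-closed gives a normal join. -/
lemma sup_normal [Fact p.Prime] (N : Subgroup H) [N.Normal] (hQ : IsPClosed p (H ⧸ N)) (S : Sylow p H) :
    ((S : Subgroup H) ⊔ N).Normal := by
  have h1 := hQ (S.mapSurjective (QuotientGroup.mk'_surjective N))
  rw [Sylow.coe_mapSurjective] at h1
  have h2 := h1.comap (QuotientGroup.mk' N)
  rw [QuotientGroup.comap_map_mk', sup_comm] at h2
  exact h2

/-- Frattini: normalized by a normal subgroup containing it. -/
lemma normal_of_le_normalizer (K : Subgroup H) [K.Normal] (S : Sylow p H) (hSK : (S : Subgroup H) ≤ K)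
    (hK : K ≤ Subgroup.normalizer ((S : Subgroup H) : Set H)) : (S : Subgroup H).Normal := by
  have h : Subgroup.normalizer ((S : Subgroup H) : Set H) ⊔ K = ⊤ := S.normalizer_sup_eq_top' hSK
  rw [sup_eq_left.2 hK] at h
  exact Subgroup.normalizer_eq_top_iff.1 h

end Normal

section Simple

open scoped MatrixGroups

/-- Simple case: `S0999` gives the lower bound. -/
lemma simple_bound (p : ℕ) [Fact p.Prime] (_hp : p ≠ 2) (H : Type) [Group H] [Finite H] [IsSimpleGroup H]
    (hnc : ¬ IsPClosed p H) : p * (p ^ 2 - 1) / 2 ≤ Nat.card H := by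
  classical
  have hp' : p.Prime := Fact.out
  have hp1 : 1 < p := hp'.one_lt
  have hpH : p ∣ Nat.card H := by
    by_contra hnd
    apply hnc
    intro S
    have h1 : Nat.card (S : Subgroup H) = 1 := by
      rw [S.card_eq_multiplicity, Nat.factorization_eq_zero_of_not_dvd hnd, pow_zero]
    rw [(Subgroup.card_eq_one).1 h1]
    infer_instance
  have hcyc : ¬ IsCyclic H := by
    intro hc
    apply hnc
    intro S
    refine ⟨fun n hn g => ?_⟩
    have hcomm : g * n = n * g := by
      letI := IsCyclic.commGroup (α := H)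
      exact mul_comm g n
    rw [hcomm]
    simpa using hn
  by_cases hlt : Nat.card H < p ^ 3
  · rcases Cfsg.Agent.S0999.result hcyc p hp' hpH hlt with ⟨F, _, _, hF, h3, ⟨e⟩⟩ | ⟨k, F, _, _, hF, hpk, h3, ⟨e⟩⟩
    · rw [Nat.card_congr e.toEquiv]
      have h1 := Cfsg.Agent.Lib.PSL2.DicksonCor.card_PSL2_mul_dd F
      have h2 : Cfsg.Agent.Lib.PSL2.DicksonCor.dd F = 2 := by
        unfold Cfsg.Agent.Lib.PSL2.DicksonCor.dd
        rw [hF]
        apply Nat.gcd_eq_left
        have := hp'.eq_two_or_odd
        omega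
      rw [h2, hF] at h1
      omega
    · rw [Nat.card_congr e.toEquiv]
      have hk : 1 ≤ k := by
        rcases Nat.eq_zero_or_pos k with rfl | h
        · simp at hpk
          omega
        · exact h
      have h1 := Cfsg.Agent.Lib.DefectOne.card_psl_two (F := F) hk hF
      rw [h1]
      set q := 2 ^ k with hq
      have hq4 : 4 ≤ q := by
        have : 2 ≤ k := by
          rcases Nat.lt_or_ge k 2 with h | h
          · have : k = 1 := by omega
            subst this
            simp at hq
            omega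
          · exact h
        calc 4 = 2 ^ 2 := by norm_num
          _ ≤ 2 ^ k := Nat.pow_le_pow_right (by norm_num) this
      rw [hpk]
      have hgen : ∀ q : ℕ, 4 ≤ q → (q + 1) * ((q + 1) ^ 2 - 1) / 2 ≤ q * (q ^ 2 - 1) := by
        intro q hq4
        obtain ⟨r, rfl⟩ : ∃ r, q = r + 4 := ⟨q - 4, by omega⟩
        apply Nat.div_le_of_le_mul
        have e1 : (r + 4 + 1) ^ 2 - 1 = (r + 4) * (r + 6) := by
          have : (r + 4 + 1) ^ 2 = (r + 4) * (r + 6) + 1 := by ring
          omega
        have e2 : (r + 4) ^ 2 - 1 = (r + 3) * (r + 5) := by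
          have : (r + 4) ^ 2 = (r + 3) * (r + 5) + 1 := by ring
          omega
        rw [e1, e2]
        nlinarith [Nat.zero_le r, Nat.zero_le (r * r), Nat.zero_le (r * r * r)]
      exact hgen q hq4
  · push Not at hlt
    refine le_trans ?_ hlt
    calc p * (p ^ 2 - 1) / 2 ≤ p * (p ^ 2 - 1) := Nat.div_le_self _ _
      _ ≤ p * p ^ 2 := Nat.mul_le_mul_left _ (Nat.sub_le _ _)
      _ = p ^ 3 := by ring

end Simple

section Lower

variable (p : ℕ) [Fact p.Prime] (hp : p ≠ 2) (m : ℕ)
  (hleast : ∀ k : ℕ, IsPrimePow k → k % p = 1 → m ≤ k)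

include hp hleast

lemma lower_aux (n : ℕ) : ∀ (H : Type) [Group H] [Finite H], Nat.card H = n → ¬ IsPClosed p H →
    min (p * m) (p * (p ^ 2 - 1) / 2) ≤ n := by
  classical
  induction n using Nat.strong_induction_on with
  | _ n IH =>
    intro H _ _ hn hnc
    subst hn
    have hcard_sub : ∀ K : Subgroup H, K ≠ ⊤ → Nat.card K < Nat.card H := by
      intro K hK
      have h1 := Subgroup.card_mul_index K
      have h2 : K.index ≠ 1 := fun h => hK (Subgroup.index_eq_one.1 h)
      have h3 : K.index ≠ 0 := Subgroup.index_ne_zero_of_finite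
      have h4 : 0 < Nat.card K := Nat.card_pos
      have h5 : 2 ≤ K.index := by omega
      nlinarith
    have hcard_quo : ∀ (K : Subgroup H) [K.Normal], K ≠ ⊥ → Nat.card (H ⧸ K) < Nat.card H := by
      intro K _ hK
      have h1 := Subgroup.card_mul_index K
      have h2 : Nat.card K ≠ 1 := fun h => hK (Subgroup.card_eq_one.1 h)
      have h3 : 0 < Nat.card K := Nat.card_pos
      have h4 : 0 < K.index := Nat.pos_of_ne_zero Subgroup.index_ne_zero_of_finite
      have h5 : 2 ≤ Nat.card K := by omega
      have h6 : Nat.card (H ⧸ K) = K.index := rfl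
      rw [h6]
      nlinarith
    -- non-normal Sylow
    obtain ⟨S, hS⟩ : ∃ S : Sylow p H, ¬ (S : Subgroup H).Normal := by
      by_contra hcon
      push Not at hcon
      exact hnc hcon
    by_cases hsimple : IsSimpleGroup H
    · exact (min_le_right _ _).trans (simple_bound p hp H hnc)
    have hNon : Nontrivial H := by
      by_contra hnt
      rw [not_nontrivial_iff_subsingleton] at hnt
      apply hS
      rw [Subsingleton.elim (S : Subgroup H) ⊥]
      infer_instance
    obtain ⟨N, hNn, hN1, hN2⟩ : ∃ N : Subgroup H, N.Normal ∧ N ≠ ⊥ ∧ N ≠ ⊤ := by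
      by_contra hcon
      push Not at hcon
      apply hsimple
      refine ⟨fun N hN => ?_⟩
      by_cases h : N = ⊥
      · exact Or.inl h
      · exact Or.inr (hcon N hN h)
    by_cases hNc : IsPClosed p N
    swap
    · exact (IH _ (hcard_sub N hN2) N rfl hNc).trans (hcard_sub N hN2).le
    by_cases hQc : IsPClosed p (H ⧸ N)
    swap
    · exact (IH _ (hcard_quo N hN1) (H ⧸ N) rfl hQc).trans (hcard_quo N hN1).le
    by_cases hd : p ∣ Nat.card N
    · -- a nontrivial normal `p`-subgroup
      obtain ⟨Q⟩ : Nonempty (Sylow p N) := inferInstance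
      have hQn := hNc Q
      have hQch := Q.characteristic_of_normal hQn
      set Q' : Subgroup H := (Q : Subgroup N).map N.subtype with hQ'
      have hQ'n : Q'.Normal := by
        refine ⟨fun x hx g => ?_⟩
        obtain ⟨y, hy, rfl⟩ := hx
        have h1 := (hQch.fixed (MulAut.conjNormal g))
        have h2 : MulAut.conjNormal g y ∈ (Q : Subgroup N) := by
          have : (MulAut.conjNormal g) y ∈ (Q : Subgroup N).map (MulAut.conjNormal g).toMonoidHom := ⟨y, hy, rfl⟩
          have h3 : (Q : Subgroup N).map (MulAut.conjNormal g).toMonoidHom = (Q : Subgroup N) := by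
            exact (Subgroup.characteristic_iff_map_eq.1 hQch) _
          rwa [h3] at this
        refine ⟨_, h2, ?_⟩
        simp [MulAut.conjNormal_apply]
      have hQ'1 : Q' ≠ ⊥ := by
        intro h
        have h1 : (Q : Subgroup N) = ⊥ := by
          rw [hQ', Subgroup.map_eq_bot_iff_of_injective _ N.subtype_injective] at h
          exact h
        exact Q.ne_bot_of_dvd_card hd h1
      by_cases hQ2 : IsPClosed p (H ⧸ Q')
      swap
      · exact (IH _ (hcard_quo Q' hQ'1) (H ⧸ Q') rfl hQ2).trans (hcard_quo Q' hQ'1).le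
      exfalso
      apply hS
      have h1 := sup_normal Q' hQ2 S
      have hpQ' : IsPGroup p Q' := Q.isPGroup'.map N.subtype
      have hle : Q' ≤ (S : Subgroup H) := by
        have h2 := S.isPGroup'.to_sup_of_normal_right hpQ'
        have h3 := S.is_maximal' h2 le_sup_left
        have h4 : Q' ≤ (S : Subgroup H) ⊔ Q' := le_sup_right
        rw [h3] at h4
        exact h4
      rwa [sup_eq_left.2 hle] at h1
    · -- `N` is a `p'`-group
      by_cases hcen : ∀ x ∈ (S : Subgroup H), ∀ y ∈ N, x * y * x⁻¹ = y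
      · exfalso
        apply hS
        haveI h1 := sup_normal N hQc S
        refine normal_of_le_normalizer ((S : Subgroup H) ⊔ N) S le_sup_left ?_
        rw [sup_le_iff]
        refine ⟨Subgroup.le_normalizer, ?_⟩
        intro y hy
        rw [Subgroup.mem_normalizer_iff]
        have hc' : ∀ z ∈ (S : Subgroup H), z * y = y * z := by
          intro z hz
          have h2 := hcen z hz y hy
          calc z * y = (z * y * z⁻¹) * z := by group
            _ = y * z := by rw [h2]
        intro x
        constructor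
        · intro hx
          have h2 : y * x * y⁻¹ = x := by
            rw [← hc' x hx]
            group
          rw [h2]
          exact hx
        · intro hx
          have h2 := hc' _ hx
          have h3 : y * x = y * (y * x * y⁻¹) := by
            rw [← h2]
            group
          have h4 : x = y * x * y⁻¹ := mul_left_cancel h3
          rw [h4]
          exact hx
      · obtain ⟨k, hk1, hk2, hk3⟩ := exists_primePow_of_normal (p := p) N S hd hcen
        exact (min_le_left _ _).trans ((Nat.mul_le_mul_left _ (hleast k hk1 hk2)).trans hk3)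

end Lower

section Exist

variable {p : ℕ} [Fact p.Prime]

/-- The affine example. -/
lemma exists_affine {m : ℕ} (hm : IsPrimePow m) (hm1 : m % p = 1) :
    ∃ (H : Type) (_ : Group H) (_ : Finite H), Nat.card H = p * m ∧ ¬ IsPClosed p H := by
  classical
  have hp' : p.Prime := Fact.out
  have hp1 : 1 < p := hp'.one_lt
  obtain ⟨q, a, hq, ha, rfl⟩ := hm
  have hq' : q.Prime := hq.nat_prime
  haveI : Fact q.Prime := ⟨hq'⟩
  let F := GaloisField q a
  have hF : Nat.card F = q ^ a := GaloisField.card q a ha.ne'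
  have hm2 : 1 < q ^ a := Nat.one_lt_pow ha.ne' hq'.one_lt
  have hFin : Finite F := Nat.finite_of_card_ne_zero (by rw [hF]; omega)
  have hdvd : p ∣ Nat.card Fˣ := by
    rw [Nat.card_units, hF]
    exact (Nat.modEq_iff_dvd' hm2.le).1 (by
      change 1 % p = q ^ a % p
      rw [hm1, Nat.mod_eq_of_lt hp1])
  obtain ⟨u, hu⟩ := exists_prime_orderOf_dvd_card' p hdvd
  let U : Subgroup Fˣ := Subgroup.zpowers u
  have hU : Nat.card U = p := by rw [Nat.card_zpowers, hu]
  let φ : U →* MulAut (Multiplicative F) :=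
    ((MulAutMultiplicative F).symm.toMonoidHom).comp
      ((DistribMulAction.toAddAut Fˣ F).comp U.subtype)
  have hφ : ∀ (g : U) (x : F), φ g (Multiplicative.ofAdd x) = Multiplicative.ofAdd ((g : Fˣ) • x) := by
    intro g x
    rfl
  let H := Multiplicative F ⋊[φ] U
  have hcard : Nat.card H = q ^ a * p := by
    rw [SemidirectProduct.card, hU, Nat.card_congr Multiplicative.toAdd, hF]
  refine ⟨H, inferInstance, Nat.finite_of_card_ne_zero (by rw [hcard]; positivity), by rw [hcard, mul_comm], ?_⟩
  intro hcl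
  have hpm : ¬ p ∣ q ^ a := by
    intro h
    have := Nat.mod_eq_zero_of_dvd h
    omega
  let S : Subgroup H := (SemidirectProduct.inr : U →* H).range
  haveI hHfin : Finite H := Nat.finite_of_card_ne_zero (by rw [hcard]; positivity)
  have hS : Nat.card S = p ^ (Nat.card H).factorization p := by
    have h1 : Nat.card S = p := by
      rw [← hU]
      exact Nat.card_congr (MonoidHom.ofInjective SemidirectProduct.inr_injective).symm.toEquiv
    rw [h1, hcard, Nat.factorization_mul (by positivity) (by omega), Finsupp.add_apply,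
      Nat.factorization_eq_zero_of_not_dvd hpm, hp'.factorization_self]
    simp
  have hn := hcl (Sylow.ofCard S hS)
  rw [Sylow.coe_ofCard] at hn
  -- conjugating by a translation leaves the complement
  let g : U := ⟨u, Subgroup.mem_zpowers u⟩
  have hmem : (SemidirectProduct.inr g : H) ∈ S := ⟨g, rfl⟩
  let A : Multiplicative F := Multiplicative.ofAdd (1 : F)
  have hconj := hn.conj_mem _ hmem (SemidirectProduct.inl A)
  obtain ⟨g', hg'⟩ := hconj
  have hleft := congrArg SemidirectProduct.left hg'
  have h2 : (SemidirectProduct.inl A * SemidirectProduct.inr g * (SemidirectProduct.inl A)⁻¹ : H).left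
      = A * φ g A⁻¹ := by
    rw [← map_inv, SemidirectProduct.mul_left, SemidirectProduct.mul_left, SemidirectProduct.mul_right]
    simp
    exact (map_inv (φ g) A).symm
  rw [h2, SemidirectProduct.left_inr] at hleft
  have h3 : A⁻¹ = Multiplicative.ofAdd (-1 : F) := rfl
  rw [h3, hφ] at hleft
  have h4 : (0 : F) = 1 + (g : Fˣ) • (-1 : F) := congrArg Multiplicative.toAdd hleft
  have h5 : ((u : Fˣ) : F) = 1 := by
    have h6 : (g : Fˣ) • (-1 : F) = -((u : Fˣ) : F) := by
      change ((u : Fˣ) : F) * (-1 : F) = _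
      ring
    rw [h6] at h4
    linear_combination h4
  have h7 : u = 1 := Units.ext h5
  rw [h7, orderOf_one] at hu
  omega

/-- The projective example. -/
lemma exists_psl (h3 : 3 < p) :
    ∃ (H : Type) (_ : Group H) (_ : Finite H), Nat.card H * 2 = p * (p ^ 2 - 1) ∧ ¬ IsPClosed p H := by
  classical
  have hp' : p.Prime := Fact.out
  refine ⟨Matrix.ProjectiveSpecialLinearGroup (Fin 2) (ZMod p), inferInstance, inferInstance,
    Cfsg.Agent.Lib.DefectOne.card_psl_zmod h3, ?_⟩
  intro hcl
  haveI hs : IsSimpleGroup (Matrix.ProjectiveSpecialLinearGroup (Fin 2) (ZMod p)) :=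
    Matrix.ProjectiveSpecialLinearGroup.rank_two_simple (by rw [Nat.card_zmod]; omega)
  have hc := Cfsg.Agent.Lib.DefectOne.card_psl_zmod (p := p) h3
  set H := Matrix.ProjectiveSpecialLinearGroup (Fin 2) (ZMod p) with hH
  obtain ⟨S⟩ : Nonempty (Sylow p H) := inferInstance
  have hodd : Odd p := hp'.odd_of_ne_two (by omega)
  have hsq : p ^ 2 - 1 = (p - 1) * (p + 1) := by
    obtain ⟨r, rfl⟩ : ∃ r, p = r + 1 := ⟨p - 1, by omega⟩
    have : (r + 1) ^ 2 = r * (r + 1 + 1) + 1 := by ring
    simp only [Nat.add_sub_cancel]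
    omega
  have hnd : ¬ p ∣ p ^ 2 - 1 := by
    intro h
    have h1 : p ∣ p ^ 2 := Dvd.intro_left (p ^ 1) (by ring)
    have h2 : 1 ≤ p ^ 2 := Nat.one_le_pow _ _ (by omega)
    have h3' := (Nat.dvd_sub h1 h) 
    rw [Nat.sub_sub_self h2] at h3'
    exact hp'.one_lt.ne' (Nat.dvd_one.1 h3')
  have hpd : p ∣ Nat.card H := by
    have h1 : p ∣ Nat.card H * 2 := hc ▸ Dvd.intro _ rfl
    exact ((hp'.dvd_mul).1 h1).resolve_right (fun h => by
      have := Nat.le_of_dvd (by norm_num) h
      omega)
  rcases (hcl S).eq_bot_or_eq_top with h | h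
  · exact S.ne_bot_of_dvd_card hpd h
  · -- `H` would be a `p`-group
    have hcardS : Nat.card H = p ^ (Nat.card H).factorization p := by
      have h1 := S.card_eq_multiplicity
      rw [h, Subgroup.card_top] at h1
      exact h1
    set n := (Nat.card H).factorization p with hn
    have h2 : p ^ n * 2 = p * (p ^ 2 - 1) := by rw [← hcardS]; exact hc
    rcases n with _ | n
    · rw [pow_zero] at h2
      have : 2 ≤ p * (p ^ 2 - 1) := by
        have : 1 ≤ p ^ 2 - 1 := by
          have : 4 ^ 2 ≤ p ^ 2 := Nat.pow_le_pow_left h3 2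
          omega
        nlinarith
      have h4 : 4 ≤ p := h3
      have h5 : 1 ≤ p ^ 2 - 1 := by
        have : 4 ^ 2 ≤ p ^ 2 := Nat.pow_le_pow_left h3 2
        omega
      nlinarith
    · have h4 : p ^ n * 2 = p ^ 2 - 1 := by
        have : p * (p ^ n * 2) = p * (p ^ 2 - 1) := by rw [← h2]; ring
        exact Nat.eq_of_mul_eq_mul_left hp'.pos this
      rcases n with _ | n
      · rw [pow_zero] at h4
        have : 4 ^ 2 ≤ p ^ 2 := Nat.pow_le_pow_left h3 2
        omega
      · apply hnd
        rw [← h4, pow_succ]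
        exact ⟨p ^ n * 2, by ring⟩

end Exist


end Aux

/-- Let p be an odd prime and let m be the least prime power congruent to 1 modulo p. Then the least order of a finite group whose Sylow p-subgroups are not normal is the smaller of p · m and p(p² − 1)/2: every finite group whose Sylow p-subgroups are not normal has at least that order, and some group of exactly that order has non-normal Sylow p-subgroups. -/
theorem result (p : ℕ) [Fact p.Prime] (hp : p ≠ 2) (m : ℕ) (hm : IsPrimePow m) (hm1 : m % p = 1)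
    (hleast : ∀ k : ℕ, IsPrimePow k → k % p = 1 → m ≤ k) :
    (∀ (H : Type) [Group H] [Finite H], ¬ Cfsg.IsPClosed p H → min (p * m) (p * (p ^ 2 - 1) / 2) ≤ Nat.card H) ∧
      ∃ (H : Type) (_ : Group H) (_ : Finite H), Nat.card H = min (p * m) (p * (p ^ 2 - 1) / 2) ∧ ¬ Cfsg.IsPClosed p H := by
  have hp' : p.Prime := Fact.out
  refine ⟨fun H _ _ hnc => lower_aux p hp m hleast _ H rfl hnc, ?_⟩
  by_cases hle : p * m ≤ p * (p ^ 2 - 1) / 2
  · obtain ⟨H, i1, i2, h1, h2⟩ := exists_affine (p := p) hm hm1
    refine ⟨H, i1, i2, ?_, h2⟩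
    rw [min_eq_left hle, h1]
  · push Not at hle
    have h3 : 3 < p := by
      rcases Nat.lt_or_ge 3 p with h | h
      · exact h
      · exfalso
        have hp2 := hp'.two_le
        have : p = 3 := by omega
        subst this
        have h4 : m ≤ 4 := hleast 4 (by
          have : (4 : ℕ) = 2 ^ 2 := by norm_num
          rw [this]
          exact Nat.prime_two.isPrimePow.pow (by norm_num)) (by norm_num)
        norm_num at hle
        omega
    obtain ⟨H, i1, i2, h1, h2⟩ := exists_psl (p := p) h3
    refine ⟨H, i1, i2, ?_, h2⟩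
    rw [min_eq_right hle.le, ← h1]
    simp


end Cfsg.Agent.S3875
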