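import Cfsg.Statements.S3889
import Mathlib

set_option autoImplicit false
open Cfsg

namespace Cfsg.Agent.S3889

/-- A finite abelian group that is the union of a family of proper subgroups any two of which intersect trivially is elementary abelian: its exponent is a prime. -/
theorem result {G : Type*} [CommGroup G] [Finite G] (𝓑 : Set (Subgroup G)) (hprop : ∀ B ∈ 𝓑, B ≠ ⊤)
    (hcov : ∀ g : G, ∃ B ∈ 𝓑, g ∈ B) (hdisj : ∀ B ∈ 𝓑, ∀ C ∈ 𝓑, B ≠ C → B ⊓ C = ⊥) :
    (Monoid.exponent G).Prime := by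
  have hinter : ∀ B ∈ 𝓑, ∀ C ∈ 𝓑, B ≠ C → ∀ z, z ∈ B → z ∈ C → z = 1 := by
    intro B hB C hC hne z hz1 hz2
    have : z ∈ B ⊓ C := ⟨hz1, hz2⟩
    rw [hdisj B hB C hC hne] at this
    exact Subgroup.mem_bot.mp this
  -- key divisibility
  have key : ∀ B ∈ 𝓑, ∀ x ∈ B, x ≠ 1 → ∀ y, y ∉ B → orderOf y ∣ orderOf x := by
    intro B hB x hx hx1 y hy
    obtain ⟨C, hC, hyC⟩ := hcov y
    obtain ⟨D, hD, hxyD⟩ := hcov (x * y)
    have hBC : B ≠ C := fun h => hy (h ▸ hyC)
    have hCD : C ≠ D := by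
      intro h
      subst h
      have hxC : x ∈ C := by
        have : x = (x * y) * y⁻¹ := by group
        rw [this]
        exact C.mul_mem hxyD (C.inv_mem hyC)
      exact hx1 (hinter B hB C hC hBC x hx hxC)
    apply orderOf_dvd_of_pow_eq_one
    apply hinter C hC D hD hCD
    · exact C.pow_mem hyC _
    · have : y ^ orderOf x = (x * y) ^ orderOf x := by
        rw [mul_pow, pow_orderOf_eq_one, one_mul]
      rw [this]
      exact D.pow_mem hxyD _
  have hout : ∀ B ∈ 𝓑, ∃ y, y ∉ B := by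
    intro B hB
    by_contra hcon
    push Not at hcon
    exact hprop B hB ((Subgroup.eq_top_iff' B).mpr hcon)
  -- all nontrivial elements have the same order
  have hdiff : ∀ x y : G, x ≠ 1 → y ≠ 1 → (∃ B ∈ 𝓑, x ∈ B ∧ y ∉ B) → orderOf x = orderOf y := by
    rintro x y hx hy ⟨B, hB, hxB, hyB⟩
    obtain ⟨C, hC, hyC⟩ := hcov y
    have hBC : B ≠ C := fun h => hyB (h ▸ hyC)
    have hxC : x ∉ C := fun h => hx (hinter B hB C hC hBC x hxB h)
    exact Nat.dvd_antisymm (key C hC y hyC hy x hxC) (key B hB x hxB hx y hyB)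
  have hsame : ∀ x y : G, x ≠ 1 → y ≠ 1 → orderOf x = orderOf y := by
    intro x y hx hy
    obtain ⟨B, hB, hxB⟩ := hcov x
    by_cases hyB : y ∈ B
    · obtain ⟨z, hz⟩ := hout B hB
      have hz1 : z ≠ 1 := fun h => hz (h ▸ B.one_mem)
      exact (hdiff x z hx hz1 ⟨B, hB, hxB, hz⟩).trans (hdiff z y hz1 hy (by
        obtain ⟨C, hC, hzC⟩ := hcov z
        refine ⟨C, hC, hzC, fun hyC => ?_⟩
        have hBC : B ≠ C := fun h => hz (h ▸ hzC)
        exact hy (hinter B hB C hC hBC y hyB hyC)))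
    · exact hdiff x y hx hy ⟨B, hB, hxB, hyB⟩
  -- pick a nontrivial element
  obtain ⟨B, hB⟩ : ∃ B, B ∈ 𝓑 := by
    obtain ⟨B, hB, -⟩ := hcov 1
    exact ⟨B, hB⟩
  obtain ⟨x, hx⟩ := hout B hB
  have hx1 : x ≠ 1 := fun h => hx (h ▸ B.one_mem)
  have hxord : orderOf x ≠ 1 := fun h => hx1 (orderOf_eq_one_iff.mp h)
  obtain ⟨p, hp, hpd⟩ := Nat.exists_prime_and_dvd hxord
  have hx0 : 0 < orderOf x := orderOf_pos x
  obtain ⟨m, hm⟩ := hpd
  -- x ^ m has order p
  have hpm : orderOf (x ^ m) = p := by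
    have hm0 : m ≠ 0 := by
      rintro rfl
      rw [mul_zero] at hm
      omega
    rw [orderOf_pow_of_dvd hm0 (Dvd.intro_left _ hm.symm), hm]
    exact Nat.mul_div_cancel _ (Nat.pos_of_ne_zero hm0)
  have hxm1 : x ^ m ≠ 1 := by
    intro h
    rw [h, orderOf_one] at hpm
    exact hp.one_lt.ne hpm
  have hordp : ∀ g : G, g ≠ 1 → orderOf g = p := fun g hg => by
    rw [← hpm]
    exact hsame g _ hg hxm1
  have hpow : ∀ g : G, g ^ p = 1 := by
    intro g
    by_cases hg : g = 1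
    · simp [hg]
    · rw [← hordp g hg]
      exact pow_orderOf_eq_one g
  have hexp : Monoid.exponent G ∣ p := Monoid.exponent_dvd_of_forall_pow_eq_one hpow
  rcases (Nat.dvd_prime hp).mp hexp with h | h
  · exfalso
    have := Monoid.pow_exponent_eq_one x
    rw [h, pow_one] at this
    exact hx1 this
  · rw [h]; exact hp

end Cfsg.Agent.S3889
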