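import Cfsg.Statements.S3890
import Cfsg.Agent.Lib.Perm.NilCover

set_option autoImplicit false
open Cfsg

namespace Cfsg.Agent.S3890

/-- A cover of a group is a finite set of proper subgroups whose union is the whole group; it is minimal when no cover has fewer members, and nilpotent when all its members are nilpotent. Let G be a finite group with trivial center admitting a nilpotent minimal cover 𝓐, and let P be an abelian Sylow p-subgroup of G that is not normal. Then either P is elementary abelian of order greater than p, or P is a Sylow p-subgroup of some member A of 𝓐, the normalizer N of P is a maximal subgroup of G, N meets each of its conjugates by elements outside N in a subgroup of order prime to p, and the centralizer of P equals A. -/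
theorem result {G : Type*} [Group G] [Finite G] (hZ : Subgroup.center G = ⊥) (𝓐 : Finset (Subgroup G))
    (h𝓐 : ((∀ A ∈ 𝓐, A ≠ ⊤) ∧ (∀ g : G, ∃ A ∈ 𝓐, g ∈ A)) ∧ (∀ 𝓑 : Finset (Subgroup G), (∀ A ∈ 𝓑, A ≠ ⊤) ∧ (∀ g : G, ∃ A ∈ 𝓑, g ∈ A) → 𝓐.card ≤ 𝓑.card) ∧ (∀ A ∈ 𝓐, Group.IsNilpotent ↥A)) {p : ℕ} [Fact p.Prime] (P : Sylow p G) (hab : IsMulCommutative ↥(P : Subgroup G))
    (hnn : ¬ (P : Subgroup G).Normal) :
    (Cfsg.IsElementaryAbelian p (P : Subgroup G) ∧ p < Nat.card ↥(P : Subgroup G)) ∨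
    (∃ A ∈ 𝓐, (P : Subgroup G) ≤ A ∧ ¬ p ∣ ((P : Subgroup G).subgroupOf A).index ∧
      IsCoatom (Subgroup.normalizer ((P : Subgroup G) : Set G)) ∧
      (∀ g : G, g ∉ Subgroup.normalizer ((P : Subgroup G) : Set G) →
        ¬ p ∣ Nat.card ↥(Subgroup.normalizer ((P : Subgroup G) : Set G) ⊓
          (Subgroup.normalizer ((P : Subgroup G) : Set G)).map (MulAut.conj g).toMonoidHom)) ∧
      Subgroup.centralizer ((P : Subgroup G) : Set G) = A) := by
  have h : Cfsg.Agent.Lib.Perm.NilCover.MinNilCover 𝓐 := h𝓐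
  have hP1 := Cfsg.Agent.Lib.Perm.NilCover.ne_bot_of_not_normal hnn
  by_cases hE : Cfsg.IsElementaryAbelian p (P : Subgroup G) ∧ p < Nat.card ↥(P : Subgroup G)
  · exact Or.inl hE
  right
  have hpp : Nat.Prime p := Fact.out
  have hG : Cfsg.Agent.Lib.Perm.NilCover.Good P := by
    by_cases hEl : Cfsg.IsElementaryAbelian p (P : Subgroup G)
    · left
      have hcard : ¬ p < Nat.card ↥(P : Subgroup G) := fun hlt => hE ⟨hEl, hlt⟩
      obtain ⟨n, hn⟩ := (IsPGroup.iff_card.1 P.isPGroup')
      have hn0 : n ≠ 0 := by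
        rintro rfl
        apply hP1
        rw [pow_zero] at hn
        exact Subgroup.card_eq_one.1 hn
      have hle : p ^ n ≤ p := by rw [← hn]; exact not_lt.1 hcard
      have hn1 : n = 1 := by
        by_contra hne
        have : p ^ 2 ≤ p ^ n := Nat.pow_le_pow_right hpp.pos (by omega)
        have : p * p ≤ p := by nlinarith
        nlinarith [hpp.two_le]
      subst hn1
      rw [pow_one] at hn
      exact isCyclic_of_prime_card hn
    · exact Or.inr ⟨hab, hEl⟩
  have hc := Cfsg.Agent.Lib.Perm.NilCover.centralizer_mem h hZ hG hP1 P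
  have hco := Cfsg.Agent.Lib.Perm.NilCover.normalizer_isCoatom h hZ hG hnn
  refine ⟨_, hc.1, hc.2, ?_, hco, ?_, rfl⟩
  · -- index
    intro hd
    have h1 := Subgroup.relIndex_mul_index hc.2
    have h2 : p ∣ (P : Subgroup G).index := by
      rw [← h1]
      exact Dvd.dvd.mul_right hd _
    exact P.not_dvd_index h2
  · intro g hg hd
    obtain ⟨⟨z, hz⟩, hzo⟩ := exists_prime_orderOf_dvd_card' (G := ↥(Subgroup.normalizer ((P : Subgroup G) : Set G) ⊓
          (Subgroup.normalizer ((P : Subgroup G) : Set G)).map (MulAut.conj g).toMonoidHom)) p hd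
    have hzo' : orderOf z = p := by
      rw [← hzo, Subgroup.orderOf_mk]
    have hzp : z ^ p ^ 1 = 1 := by
      rw [pow_one, ← hzo', pow_orderOf_eq_one]
    have hz1 : z ≠ 1 := by
      intro e
      rw [e, orderOf_one] at hzo'
      exact hpp.one_lt.ne hzo'
    obtain ⟨n, hn, hnz⟩ := Subgroup.mem_map.1 hz.2
    have hnz' : g * n * g⁻¹ = z := by simpa [MulAut.conj_apply] using hnz
    have hnp : n ^ p ^ 1 = 1 := by
      have h3 : g * n ^ p ^ 1 * g⁻¹ = (g * n * g⁻¹) ^ p ^ 1 := by
        rw [conj_pow]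
      rw [hnz', hzp] at h3
      have h4 : n ^ p ^ 1 = g⁻¹ * (g * n ^ p ^ 1 * g⁻¹) * g := by group
      rw [h4, h3]; group
    have hzP := Cfsg.Agent.Lib.Perm.NilCover.mem_sylow_of_normalizes P hzp hz.1
    have hnP := Cfsg.Agent.Lib.Perm.NilCover.mem_sylow_of_normalizes P hnp hn
    have hzQ : z ∈ ((g • P : Sylow p G) : Subgroup G) := by
      rw [Sylow.coe_subgroup_smul, ← hnz']
      exact ⟨n, hnP, by simp [MulAut.conj_apply]⟩
    have hcQ := Cfsg.Agent.Lib.Perm.NilCover.centralizer_mem h hZ hG hP1 (g • P)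
    have heq := Cfsg.Agent.Lib.Perm.NilCover.member_unique h hZ hab hz1 hzp hc.1 hcQ.1 (hc.2 hzP) (hcQ.2 hzQ)
    have hPQ := Cfsg.Agent.Lib.Perm.NilCover.eq_of_centralizer_eq hab heq
    exact hg ((Sylow.smul_eq_iff_mem_normalizer (g := g) (P := P)).1 hPQ.symm)

end Cfsg.Agent.S3890
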