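import Cfsg.Statements.S3892
import Cfsg.Agent.Lib.Perm.NilCover

set_option autoImplicit false
open Cfsg
open Equiv

namespace Cfsg.Agent.S3892

open Cfsg.Agent.Lib.Perm.NilCover

section General

variable {G : Type*} [Group G] [Finite G]

/-- A subgroup of prime order is Sylow when the square of the prime does not divide the order. -/
theorem exists_sylow {p : ℕ} [hp : Fact p.Prime] {c : G} (hc : orderOf c = p)
    (hG : ¬ p ^ 2 ∣ Nat.card G) : ∃ P : Sylow p G, (P : Subgroup G) = Subgroup.zpowers c := by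
  have hcard : Nat.card (Subgroup.zpowers c) = p := by rw [Nat.card_zpowers, hc]
  have hpg : IsPGroup p (Subgroup.zpowers c) := by
    apply IsPGroup.of_card (n := 1)
    rw [hcard, pow_one]
  obtain ⟨Q, hQ⟩ := hpg.exists_le_sylow
  refine ⟨Q, ?_⟩
  obtain ⟨k, hk⟩ := IsPGroup.iff_card.1 Q.isPGroup'
  have hdvd : Nat.card (Q : Subgroup G) ∣ Nat.card G := Subgroup.card_subgroup_dvd_card _
  have hk1 : k ≤ 1 := by
    by_contra hcon
    apply hG
    have : p ^ 2 ∣ p ^ k := pow_dvd_pow p (by omega)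
    exact this.trans (hk ▸ hdvd)
  have hle : Nat.card (Q : Subgroup G) ≤ p := by
    rw [hk]
    calc p ^ k ≤ p ^ 1 := Nat.pow_le_pow_right hp.out.pos hk1
      _ = p := pow_one p
  exact (Subgroup.eq_of_le_of_card_ge hQ (by rw [hcard]; exact hle)).symm

/-- The core contradiction. -/
theorem no_cover (hZ : Subgroup.center G = ⊥) {p : ℕ} (hp : p.Prime) {c : G} (hc : orderOf c = p)
    (hG : ¬ p ^ 2 ∣ Nat.card G) {M : Subgroup G} (hM : M ≠ ⊤)
    (hCM : Subgroup.centralizer {c} ≤ M) {m : G} (hm : m ∈ M) (hmc : ¬ Commute (m * c * m⁻¹) c)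
    (𝓐 : Finset (Subgroup G)) (h : MinNilCover 𝓐) : False := by
  haveI : Fact p.Prime := ⟨hp⟩
  obtain ⟨P, hP⟩ := exists_sylow hc hG
  have hgood : Good P := by
    left
    rw [hP]
    infer_instance
  have hc1 : c ≠ 1 := by
    intro e
    rw [e, orderOf_one] at hc
    exact hp.one_lt.ne hc
  have hP1 : (P : Subgroup G) ≠ ⊥ := by
    rw [hP]
    simp [hc1]
  have hCM' : Subgroup.centralizer ((P : Subgroup G) : Set G) ≤ M := by
    refine le_trans ?_ hCM
    apply Subgroup.centralizer_le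
    rw [hP]
    simpa using Subgroup.mem_zpowers c
  have hmN := le_normalizer h hZ hgood hP1 hM hCM' hm
  rw [Subgroup.mem_normalizer_iff] at hmN
  have h1 : c ∈ (P : Subgroup G) := by rw [hP]; exact Subgroup.mem_zpowers c
  have h2 := (hmN c).1 h1
  rw [hP] at h2
  obtain ⟨k, hk⟩ := h2
  apply hmc
  rw [← hk]
  exact (Commute.refl c).zpow_left k

end General

section Perm

variable {n : ℕ}

theorem center_perm (hn : 3 ≤ n) : Subgroup.center (Perm (Fin n)) = ⊥ := by
  rw [Subgroup.eq_bot_iff_forall]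
  intro g hg
  by_contra hne
  obtain ⟨x, hx⟩ : ∃ x, g x ≠ x := by
    by_contra hcon
    push Not at hcon
    exact hne (Equiv.ext hcon)
  have hex : ∃ z : Fin n, z ≠ x ∧ z ≠ g x := by
    by_contra hcon
    push Not at hcon
    have hsub : (Finset.univ : Finset (Fin n)) ⊆ {x, g x} := by
      intro z _
      by_cases hz : z = x
      · simp [hz]
      · simp [hcon z hz]
    have := Finset.card_le_card hsub
    have h2 : ({x, g x} : Finset (Fin n)).card ≤ 2 := Finset.card_le_two
    simp at this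
    omega
  obtain ⟨z, hzx, hzg⟩ := hex
  have hcomm := (Subgroup.mem_center_iff.1 hg) (swap x z)
  have h1 := congrArg (fun f : Perm (Fin n) => f x) hcomm
  simp only [Perm.mul_apply, swap_apply_left] at h1
  rw [swap_apply_of_ne_of_ne hx (Ne.symm hzg)] at h1
  exact hzx (g.injective h1.symm)

/-- The setwise stabilizer of a set of points. -/
def setStab (Δ : Set (Fin n)) : Subgroup (Perm (Fin n)) where
  carrier := {g | ∀ y, g y ∈ Δ ↔ y ∈ Δ}
  mul_mem' := by
    intro a b ha hb y
    simp only [Perm.mul_apply]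
    rw [ha, hb]
  one_mem' := by intro y; simp
  inv_mem' := by
    intro a ha y
    have h1 := ha (a⁻¹ y)
    have h2 : a (a⁻¹ y) = y := by simp
    rw [h2] at h1
    exact h1.symm

theorem swap_mem_setStab {Δ : Set (Fin n)} {a b : Fin n} (ha : a ∈ Δ) (hb : b ∈ Δ) :
    swap a b ∈ setStab Δ := by
  intro y
  rcases eq_or_ne y a with rfl | hya
  · simp [ha, hb]
  rcases eq_or_ne y b with rfl | hyb
  · simp [ha, hb]
  rw [swap_apply_of_ne_of_ne hya hyb]

theorem not_mem_setStab {Δ : Set (Fin n)} {g : Perm (Fin n)} {x : Fin n} (hx : x ∈ Δ) (hg : g x ∉ Δ) :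
    g ∉ setStab Δ := fun h => hg ((h x).2 hx)

/-- Points of the orbit are different. -/
theorem pow_apply_ne {p : ℕ} (hp : p.Prime) {c : Perm (Fin n)} (hc : orderOf c = p) {x : Fin n}
    (hx : c x ≠ x) {i j : ℕ} (hij : i < j) (hj : j < p) : (c ^ i) x ≠ (c ^ j) x := by
  intro h
  have h1 : (c ^ (j - i)) x = x := by
    have : c ^ j = c ^ i * c ^ (j - i) := by rw [← pow_add]; congr 1; omega
    rw [this, Perm.mul_apply] at h
    exact ((c ^ i).injective h).symm
  have hcop : Nat.Coprime (j - i) (orderOf c) := by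
    rw [hc]
    exact Nat.Coprime.symm ((Nat.Prime.coprime_iff_not_dvd hp).2
      (fun hd => by have := Nat.le_of_dvd (by omega) hd; omega))
  obtain ⟨m, hm⟩ := exists_pow_eq_self_of_coprime hcop
  have h2 : ∀ k : ℕ, ((c ^ (j - i)) ^ k) x = x := by
    intro k
    induction k with
    | zero => simp
    | succ k ih => rw [pow_succ, Perm.mul_apply, h1, ih]
  apply hx
  have := h2 m
  rwa [hm] at this

/-- The witness for `n ≥ 6`. -/
theorem witness (hn : 6 ≤ n) : ∃ (p : ℕ) (c : Perm (Fin n)) (Δ : Set (Fin n)) (m w : Perm (Fin n)),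
    p.Prime ∧ 5 ≤ p ∧ orderOf c = p ∧ ¬ p ^ 2 ∣ n.factorial ∧
    Subgroup.centralizer {c} ≤ setStab Δ ∧ m ∈ setStab Δ ∧ ¬ Commute (m * c * m⁻¹) c ∧
    w ∉ setStab Δ ∧ Perm.sign m = 1 ∧ Perm.sign w = 1 ∧ Perm.sign c = 1 := by
  -- choose the prime
  obtain ⟨p, hp, hlt, hle⟩ := Nat.exists_prime_lt_and_le_two_mul (n / 2) (by omega)
  have hpn : p < n := by
    have h1 : p ≤ n := by omega
    refine lt_of_le_of_ne h1 ?_
    rintro rfl
    -- `p = n`, so `n` is even or `p ≤ 2 * (n / 2)` fails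
    have h2 : 2 * (p / 2) = p := by omega
    have h3 : 2 ∣ p := ⟨p / 2, h2.symm⟩
    have h4 := (Nat.prime_dvd_prime_iff_eq Nat.prime_two hp).1 h3
    omega
  have hp5 : 5 ≤ p := by
    have h1 : 4 ≤ p := by omega
    by_contra hcon
    have h2 : p = 4 := by omega
    subst h2
    exact absurd hp (by norm_num)
  have hp2 : n < 2 * p := by omega
  have hsq : ¬ p ^ 2 ∣ n.factorial := by
    intro hd
    have hlog : Nat.log p n < 2 := by
      apply Nat.log_lt_of_lt_pow (by omega)
      nlinarith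
    have hfac := Nat.factorization_factorial hp hlog
    have h1 : ∑ i ∈ Finset.Ico 1 2, n / p ^ i = 1 := by
      simp only [Nat.Ico_succ_singleton, Finset.sum_singleton, pow_one]
      have : n / p = 1 := by
        apply Nat.div_eq_of_lt_le <;> omega
      exact this
    rw [h1] at hfac
    have h2 := (hp.pow_dvd_iff_le_factorization (Nat.factorial_ne_zero n)).1 hd
    omega
  -- the cycle
  obtain ⟨c, hc⟩ : ∃ c : Perm (Fin n), c.cycleType = {p} := by
    rw [Perm.exists_with_cycleType_iff]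
    constructor
    · simp; omega
    · intro a ha
      rw [Multiset.mem_singleton] at ha
      rw [ha]; exact hp.two_le
  have hord : orderOf c = p := by
    rw [← Perm.lcm_cycleType, hc]; simp
  have hsupp : c.support.card = p := by
    rw [← Perm.sum_cycleType, hc]; simp
  obtain ⟨x, hx⟩ : ∃ x, x ∈ c.support := by
    apply Finset.card_pos.1; omega
  have hx' : c x ≠ x := Perm.mem_support.1 hx
  obtain ⟨z, hz⟩ : ∃ z, z ∉ c.support := by
    by_contra hcon
    push Not at hcon
    have : c.support = Finset.univ := Finset.eq_univ_of_forall hcon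
    rw [this] at hsupp
    simp at hsupp
    omega
  have hpow_mem : ∀ i : ℕ, (c ^ i) x ∈ c.support := by
    intro i
    induction i with
    | zero => simpa using hx
    | succ i ih =>
      rw [pow_succ', Perm.mul_apply]
      exact Perm.apply_mem_support.2 ih
  set Δ : Set (Fin n) := (c.support : Set (Fin n)) with hΔ
  set x0 := x with hx0
  set x1 := (c ^ 1) x with hx1
  set x2 := (c ^ 2) x with hx2
  set x3 := (c ^ 3) x with hx3
  set x4 := (c ^ 4) x with hx4
  have hne : ∀ {i j : ℕ}, i < j → j < p → (c ^ i) x ≠ (c ^ j) x := fun hij hj =>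
    pow_apply_ne hp hord hx' hij hj
  have h01 : x0 ≠ x1 := by
    have := hne (i := 0) (j := 1) (by omega) (by omega)
    rwa [pow_zero, Perm.one_apply] at this
  have h02 : x0 ≠ x2 := by
    have := hne (i := 0) (j := 2) (by omega) (by omega)
    rwa [pow_zero, Perm.one_apply] at this
  have h03 : x0 ≠ x3 := by
    have := hne (i := 0) (j := 3) (by omega) (by omega)
    rwa [pow_zero, Perm.one_apply] at this
  have h04 : x0 ≠ x4 := by
    have := hne (i := 0) (j := 4) (by omega) (by omega)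
    rwa [pow_zero, Perm.one_apply] at this
  have h12 : x1 ≠ x2 := hne (i := 1) (j := 2) (by omega) (by omega)
  have h13 : x1 ≠ x3 := hne (i := 1) (j := 3) (by omega) (by omega)
  have h14 : x1 ≠ x4 := hne (i := 1) (j := 4) (by omega) (by omega)
  have h23 : x2 ≠ x3 := hne (i := 2) (j := 3) (by omega) (by omega)
  have h24 : x2 ≠ x4 := hne (i := 2) (j := 4) (by omega) (by omega)
  have h34 : x3 ≠ x4 := hne (i := 3) (j := 4) (by omega) (by omega)
  have hc0 : c x0 = x1 := by simp [hx1, hx0]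
  have hc1 : c x1 = x2 := by simp [hx1, hx2, pow_two]
  have hc2 : c x2 = x3 := by simp [hx2, hx3, pow_succ']
  have hc3 : c x3 = x4 := by simp [hx3, hx4, pow_succ']
  have hmem0 : x0 ∈ Δ := Finset.mem_coe.2 hx
  have hmem1 : x1 ∈ Δ := Finset.mem_coe.2 (hpow_mem 1)
  have hmem2 : x2 ∈ Δ := Finset.mem_coe.2 (hpow_mem 2)
  have hzΔ : z ∉ Δ := fun h => hz (Finset.mem_coe.1 h)
  have hzx0 : z ≠ x0 := fun e => hzΔ (e ▸ hmem0)
  have hzx1 : z ≠ x1 := fun e => hzΔ (e ▸ hmem1)
  refine ⟨p, c, Δ, swap x0 x1 * swap x1 x2, swap x0 z * swap z x1, hp, hp5, hord, hsq, ?_, ?_, ?_, ?_,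
    ?_, ?_, ?_⟩
  · -- centralizer
    intro g hg y
    have hcomm : g * c = c * g := by
      have := Subgroup.mem_centralizer_singleton_iff.1 hg
      exact this
    simp only [hΔ, Finset.mem_coe, Perm.mem_support]
    constructor
    · intro hy h0
      apply hy
      have h1 := congrArg (fun f : Perm (Fin n) => f y) hcomm
      simp only [Perm.mul_apply] at h1
      rw [← h1, h0]
    · intro hy h0
      apply hy
      have h1 := congrArg (fun f : Perm (Fin n) => f y) hcomm
      simp only [Perm.mul_apply] at h1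
      rw [h0] at h1
      exact g.injective h1
  · exact (setStab Δ).mul_mem (swap_mem_setStab hmem0 hmem1) (swap_mem_setStab hmem1 hmem2)
  · -- not commuting
    intro hcomm
    set m := swap x0 x1 * swap x1 x2 with hm
    have hm0 : m x0 = x1 := by
      simp [hm, swap_apply_of_ne_of_ne h01 h02]
    have hm1 : m x1 = x2 := by
      simp only [hm, Perm.mul_apply, swap_apply_left]
      exact swap_apply_of_ne_of_ne (Ne.symm h02) (Ne.symm h12)
    have hm2 : m x2 = x0 := by
      simp [hm]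
    have hm3 : m x3 = x3 := by
      simp only [hm, Perm.mul_apply]
      rw [swap_apply_of_ne_of_ne (Ne.symm h13) (Ne.symm h23),
        swap_apply_of_ne_of_ne (Ne.symm h03) (Ne.symm h13)]
    have hm4 : m x4 = x4 := by
      simp only [hm, Perm.mul_apply]
      rw [swap_apply_of_ne_of_ne (Ne.symm h14) (Ne.symm h24),
        swap_apply_of_ne_of_ne (Ne.symm h04) (Ne.symm h14)]
    have hminv1 : m⁻¹ x1 = x0 := by rw [Perm.inv_eq_iff_eq]; exact hm0.symm
    have hminv2 : m⁻¹ x2 = x1 := by rw [Perm.inv_eq_iff_eq]; exact hm1.symm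
    have hminv3 : m⁻¹ x3 = x3 := by rw [Perm.inv_eq_iff_eq]; exact hm3.symm
    have hminv0 : m⁻¹ x0 = x2 := by rw [Perm.inv_eq_iff_eq]; exact hm2.symm
    -- evaluate at `x2`
    have h1 := congrArg (fun f : Perm (Fin n) => f x2) hcomm.eq
    simp only [Perm.mul_apply] at h1
    rw [hc2, hminv3, hc3, hm4, hminv2, hc1, hm2, hc0] at h1
    exact h14 h1.symm
  · apply not_mem_setStab hmem0
    simp only [Perm.mul_apply]
    rw [swap_apply_of_ne_of_ne (Ne.symm hzx0) h01, swap_apply_left]
    exact hzΔ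
  · rw [map_mul, Perm.sign_swap h01, Perm.sign_swap h12]; rfl
  · rw [map_mul, Perm.sign_swap (Ne.symm hzx0), Perm.sign_swap hzx1]; rfl
  · -- sign of `c`
    have h1 : (Perm.sign c) ^ p = 1 := by
      rw [← map_pow, ← hord, pow_orderOf_eq_one, map_one]
    have hodd : Odd p := hp.odd_of_ne_two (by omega)
    rcases Int.units_eq_one_or (Perm.sign c) with h | h
    · exact h
    · rw [h, hodd.neg_one_pow] at h1
      exact absurd h1 (by decide)

end Perm

theorem fin_card (n : ℕ) : Nat.card (Perm (Fin n)) = n.factorial := by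
  rw [Nat.card_eq_fintype_card, Fintype.card_perm, Fintype.card_fin]

theorem alt_card_dvd (n : ℕ) : Nat.card (alternatingGroup (Fin n)) ∣ n.factorial := by
  rw [← fin_card]
  exact Subgroup.card_subgroup_dvd_card _

theorem dec4 : ∀ g : Perm (Fin 4), g * (swap 0 1 * swap 1 2) = (swap 0 1 * swap 1 2) * g →
    Perm.sign g = 1 := by decide +kernel

theorem dec5 : ∀ g : Perm (Fin 5),
    g * (swap 0 1 * swap 1 2 * swap 2 3 * swap 3 4) = (swap 0 1 * swap 1 2 * swap 2 3 * swap 3 4) * g →
    Perm.sign g = 1 := by decide +kernel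

theorem dec5' : ∀ g : Perm (Fin 5), g * (swap 0 1 * swap 1 2) = (swap 0 1 * swap 1 2) * g →
    Perm.sign g = 1 → g 3 = 3 := by decide +kernel

/-- The symmetric groups. -/
theorem sym_case (n : ℕ) (hn : 4 ≤ n) (𝓐 : Finset (Subgroup (Perm (Fin n))))
    (h : MinNilCover 𝓐) : False := by
  have hZ := center_perm (n := n) (by omega)
  by_cases h6 : 6 ≤ n
  · obtain ⟨p, c, Δ, m, w, hp, -, hord, hsq, hC, hm, hcomm, hw, -, -, -⟩ := witness h6
    refine no_cover hZ hp hord (by rw [fin_card]; exact hsq) (M := setStab Δ) ?_ hC hm hcomm 𝓐 h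
    intro htop
    exact hw (htop ▸ Subgroup.mem_top w)
  · have hn' : n = 4 ∨ n = 5 := by omega
    haveI : Fact (Nat.Prime 3) := ⟨by norm_num⟩
    haveI : Fact (Nat.Prime 5) := ⟨by norm_num⟩
    rcases hn' with rfl | rfl
    · refine no_cover (p := 3) (c := swap 0 1 * swap 1 2) (M := alternatingGroup (Fin 4))
        (m := swap 0 1 * swap 2 3) hZ (by norm_num) ?_ ?_ ?_ ?_ ?_ ?_ 𝓐 h
      · rw [orderOf_eq_prime_iff]
        decide
      · rw [fin_card]; decide
      · intro htop
        have : (swap 0 1 : Perm (Fin 4)) ∈ alternatingGroup (Fin 4) := htop ▸ Subgroup.mem_top _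
        rw [Equiv.Perm.mem_alternatingGroup] at this
        exact absurd this (by decide)
      · intro g hg
        rw [Equiv.Perm.mem_alternatingGroup]
        exact dec4 g (Subgroup.mem_centralizer_singleton_iff.1 hg)
      · rw [Equiv.Perm.mem_alternatingGroup]; decide
      · show ¬ (_ * _ = _ * _)
        decide
    · refine no_cover (p := 5) (c := swap 0 1 * swap 1 2 * swap 2 3 * swap 3 4)
        (M := alternatingGroup (Fin 5)) (m := swap 0 1 * swap 1 2) hZ (by norm_num) ?_ ?_ ?_ ?_ ?_ ?_ 𝓐 h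
      · rw [orderOf_eq_prime_iff]
        decide
      · rw [fin_card]; decide
      · intro htop
        have : (swap 0 1 : Perm (Fin 5)) ∈ alternatingGroup (Fin 5) := htop ▸ Subgroup.mem_top _
        rw [Equiv.Perm.mem_alternatingGroup] at this
        exact absurd this (by decide)
      · intro g hg
        rw [Equiv.Perm.mem_alternatingGroup]
        exact dec5 g (Subgroup.mem_centralizer_singleton_iff.1 hg)
      · rw [Equiv.Perm.mem_alternatingGroup]; decide
      · show ¬ (_ * _ = _ * _)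
        decide

/-- The alternating groups. -/
theorem alt_case (n : ℕ) (hn : 5 ≤ n) (𝓐 : Finset (Subgroup (alternatingGroup (Fin n))))
    (h : MinNilCover 𝓐) : False := by
  have hZ : Subgroup.center (alternatingGroup (Fin n)) = ⊥ :=
    alternatingGroup.center_eq_bot (by simp; omega)
  by_cases h6 : 6 ≤ n
  · obtain ⟨p, c, Δ, m, w, hp, -, hord, hsq, hC, hm, hcomm, hw, hms, hws, hcs⟩ := witness h6
    have hcA : c ∈ alternatingGroup (Fin n) := Equiv.Perm.mem_alternatingGroup.2 hcs
    have hmA : m ∈ alternatingGroup (Fin n) := Equiv.Perm.mem_alternatingGroup.2 hms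
    have hwA : w ∈ alternatingGroup (Fin n) := Equiv.Perm.mem_alternatingGroup.2 hws
    refine no_cover (c := ⟨c, hcA⟩) (m := ⟨m, hmA⟩)
      (M := (setStab Δ).comap (alternatingGroup (Fin n)).subtype) hZ hp ?_ ?_ ?_ ?_ ?_ ?_ 𝓐 h
    · rw [Subgroup.orderOf_mk]; exact hord
    · intro hd
      exact hsq (hd.trans (alt_card_dvd n))
    · intro htop
      have : (⟨w, hwA⟩ : alternatingGroup (Fin n)) ∈ (setStab Δ).comap (alternatingGroup (Fin n)).subtype :=
        htop ▸ Subgroup.mem_top _
      exact hw this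
    · intro g hg
      apply hC
      rw [Subgroup.mem_centralizer_singleton_iff] at hg ⊢
      exact congrArg Subtype.val hg
    · exact hm
    · intro hcon
      apply hcomm
      have := congrArg Subtype.val hcon.eq
      exact this
  · have hn' : n = 5 := by omega
    subst hn'
    haveI : Fact (Nat.Prime 3) := ⟨by norm_num⟩
    have hcA : (swap 0 1 * swap 1 2 : Perm (Fin 5)) ∈ alternatingGroup (Fin 5) := by
      rw [Equiv.Perm.mem_alternatingGroup]; decide
    have hmA : (swap 0 1 * swap 2 4 : Perm (Fin 5)) ∈ alternatingGroup (Fin 5) := by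
      rw [Equiv.Perm.mem_alternatingGroup]; decide
    have hwA : (swap 3 4 * swap 4 0 : Perm (Fin 5)) ∈ alternatingGroup (Fin 5) := by
      rw [Equiv.Perm.mem_alternatingGroup]; decide
    let M : Subgroup (alternatingGroup (Fin 5)) :=
      { carrier := {g | (g : Perm (Fin 5)) 3 = 3}
        mul_mem' := by
          intro a b ha hb
          simp only [Set.mem_setOf_eq, Subgroup.coe_mul, Perm.mul_apply] at ha hb ⊢
          rw [hb, ha]
        one_mem' := by simp
        inv_mem' := by
          intro a ha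
          simp only [Set.mem_setOf_eq, Subgroup.coe_inv] at ha ⊢
          rw [Perm.inv_eq_iff_eq]; exact ha.symm }
    refine no_cover (p := 3) (c := ⟨_, hcA⟩) (m := ⟨_, hmA⟩) (M := M) hZ (by norm_num) ?_ ?_ ?_ ?_ ?_ ?_ 𝓐 h
    · rw [Subgroup.orderOf_mk, orderOf_eq_prime_iff]
      decide
    · intro hd
      have h1 := hd.trans (alt_card_dvd 5)
      exact absurd h1 (by decide)
    · intro htop
      have : (⟨_, hwA⟩ : alternatingGroup (Fin 5)) ∈ M := htop ▸ Subgroup.mem_top _
      have h2 : ((swap 3 4 * swap 4 0 : Perm (Fin 5))) 3 = 3 := this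
      exact absurd h2 (by decide)
    · intro g hg
      rw [Subgroup.mem_centralizer_singleton_iff] at hg
      exact dec5' (g : Perm (Fin 5)) (congrArg Subtype.val hg) (Equiv.Perm.mem_alternatingGroup.1 g.2)
    · show ((swap 0 1 * swap 2 4 : Perm (Fin 5))) 3 = 3
      decide
    · intro hcon
      have h3 : ((swap 0 1 * swap 2 4 : Perm (Fin 5)) * (swap 0 1 * swap 1 2) *
          (swap 0 1 * swap 2 4)⁻¹ * (swap 0 1 * swap 1 2)) =
          (swap 0 1 * swap 1 2) * ((swap 0 1 * swap 2 4 : Perm (Fin 5)) * (swap 0 1 * swap 1 2) *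
          (swap 0 1 * swap 2 4)⁻¹) := congrArg Subtype.val hcon.eq
      exact absurd h3 (by decide)

/-- A cover of a group is a finite set of proper subgroups whose union is the whole group; it is minimal when no cover has fewer members, and nilpotent when all its members are nilpotent. The alternating groups of degree at least 5 and the symmetric groups of degree at least 4 have no nilpotent minimal cover. -/
theorem result (n : ℕ) :
    (5 ≤ n → ¬ ∃ 𝓐 : Finset (Subgroup ↥(alternatingGroup (Fin n))), ((∀ A ∈ 𝓐, A ≠ ⊤) ∧ (∀ g : ↥(alternatingGroup (Fin n)), ∃ A ∈ 𝓐, g ∈ A)) ∧ (∀ 𝓑 : Finset (Subgroup ↥(alternatingGroup (Fin n))), (∀ A ∈ 𝓑, A ≠ ⊤) ∧ (∀ g : ↥(alternatingGroup (Fin n)), ∃ A ∈ 𝓑, g ∈ A) → 𝓐.card ≤ 𝓑.card) ∧ (∀ A ∈ 𝓐, Group.IsNilpotent ↥A)) ∧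
    (4 ≤ n → ¬ ∃ 𝓐 : Finset (Subgroup (Equiv.Perm (Fin n))), ((∀ A ∈ 𝓐, A ≠ ⊤) ∧ (∀ g : (Equiv.Perm (Fin n)), ∃ A ∈ 𝓐, g ∈ A)) ∧ (∀ 𝓑 : Finset (Subgroup (Equiv.Perm (Fin n))), (∀ A ∈ 𝓑, A ≠ ⊤) ∧ (∀ g : (Equiv.Perm (Fin n)), ∃ A ∈ 𝓑, g ∈ A) → 𝓐.card ≤ 𝓑.card) ∧ (∀ A ∈ 𝓐, Group.IsNilpotent ↥A)) := by
  constructor
  · rintro hn ⟨𝓐, h⟩
    exact alt_case n hn 𝓐 h
  · rintro hn ⟨𝓐, h⟩
    exact sym_case n hn 𝓐 h

end Cfsg.Agent.S3892
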