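import Cfsg.Statements.S3893
import Mathlib
import Cfsg.Agent.Lib.Suzuki.Iso

set_option autoImplicit false
open Cfsg

namespace Cfsg.Agent.S3893

open Cfsg.Agent.Lib.Suzuki.Basic Cfsg.Agent.Lib.Suzuki.Struct Cfsg.Agent.Lib.Suzuki.Zass
  Cfsg.Agent.Lib.Suzuki.Sub Cfsg.Agent.Lib.Suzuki.Gen Cfsg.Agent.Lib.Suzuki.Fix
  Cfsg.Agent.Lib.Suzuki.Order Cfsg.Agent.Lib.Suzuki.Types Cfsg.Agent.Lib.Suzuki.Iso

/-- Abstract form: two elements force a cover by nilpotent subgroups not to be minimal. -/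
theorem abstract_no_cover {Γ : Type*} [Group Γ] (B : Subgroup Γ) (hB : B ≠ ⊤) (δ₁ δ₂ : Γ)
    (h1 : ∀ A : Subgroup Γ, Group.IsNilpotent A → δ₁ ∈ A → A ≤ B)
    (h2 : ∀ A : Subgroup Γ, Group.IsNilpotent A → δ₂ ∈ A → A ≤ B)
    (h3 : ∀ A : Subgroup Γ, Group.IsNilpotent A → δ₁ ∈ A → δ₂ ∉ A) :
    ¬ ∃ 𝓐 : Finset (Subgroup Γ), ((∀ A ∈ 𝓐, A ≠ ⊤) ∧ (∀ g : Γ, ∃ A ∈ 𝓐, g ∈ A)) ∧
      (∀ 𝓑 : Finset (Subgroup Γ), (∀ A ∈ 𝓑, A ≠ ⊤) ∧ (∀ g : Γ, ∃ A ∈ 𝓑, g ∈ A) → 𝓐.card ≤ 𝓑.card) ∧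
      (∀ A ∈ 𝓐, Group.IsNilpotent A) := by
  classical
  rintro ⟨𝓐, ⟨hne, hcov⟩, hmin, hnil⟩
  obtain ⟨A₁, hA₁, hd₁⟩ := hcov δ₁
  obtain ⟨A₂, hA₂, hd₂⟩ := hcov δ₂
  have hne12 : A₁ ≠ A₂ := by
    rintro rfl
    exact h3 A₁ (hnil _ hA₁) hd₁ hd₂
  have hle1 := h1 A₁ (hnil _ hA₁) hd₁
  have hle2 := h2 A₂ (hnil _ hA₂) hd₂
  let 𝓑 : Finset (Subgroup Γ) := insert B ((𝓐.erase A₁).erase A₂)
  have hcard : 𝓑.card < 𝓐.card := by
    have h4 : ((𝓐.erase A₁).erase A₂).card + 1 = (𝓐.erase A₁).card :=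
      Finset.card_erase_add_one (Finset.mem_erase.mpr ⟨hne12.symm, hA₂⟩)
    have h5 : (𝓐.erase A₁).card + 1 = 𝓐.card := Finset.card_erase_add_one hA₁
    have h6 : 𝓑.card ≤ ((𝓐.erase A₁).erase A₂).card + 1 := Finset.card_insert_le _ _
    omega
  have := hmin 𝓑 ⟨?_, ?_⟩
  · omega
  · intro A hA
    rcases Finset.mem_insert.mp hA with rfl | hA
    · exact hB
    · exact hne A (Finset.mem_of_mem_erase (Finset.mem_of_mem_erase hA))
  · intro g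
    obtain ⟨A, hA, hg⟩ := hcov g
    by_cases e1 : A = A₁
    · subst e1
      exact ⟨B, Finset.mem_insert_self _ _, hle1 hg⟩
    by_cases e2 : A = A₂
    · subst e2
      exact ⟨B, Finset.mem_insert_self _ _, hle2 hg⟩
    exact ⟨A, Finset.mem_insert_of_mem (Finset.mem_erase.mpr ⟨e2, Finset.mem_erase.mpr ⟨e1, hA⟩⟩), hg⟩

variable {F : Type*} [Field F] [Fintype F] {m : ℕ}

/-- A nilpotent subgroup containing a conjugate of a nontrivial `D(k)` is contained in the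
corresponding conjugate of `D`. -/
theorem nil_le_conj (h : Hyp F m) {k : Fˣ} (hk : k ≠ 1) (x : G F m) (A : Subgroup (G F m))
    (hA : Group.IsNilpotent A) (hmem : x * Dg h k * x⁻¹ ∈ A) : ∀ y ∈ A, x⁻¹ * y * x ∈ Dsub h := by
  have hd1 : Dg h k ≠ 1 := by
    intro hc
    rw [← Dg_one h] at hc
    exact hk (Dg_inj h hc)
  have hnt : Nontrivial A := by
    refine ⟨⟨⟨_, hmem⟩, 1, fun hc => hd1 ?_⟩⟩
    have h1 : x * Dg h k * x⁻¹ = 1 := congrArg Subtype.val hc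
    have : Dg h k = x⁻¹ * (x * Dg h k * x⁻¹) * x := by group
    rw [this, h1]
    group
  have hc := Group.IsNilpotent.center_ne_bot (G := A)
  obtain ⟨⟨z, hzc⟩, hz1⟩ := (Subgroup.ne_bot_iff_exists_ne_one (H := Subgroup.center A)).mp hc
  have hz1' : (z : G F m) ≠ 1 := by
    intro he
    apply hz1
    apply Subtype.ext
    apply Subtype.ext
    exact he
  have hcomm : ∀ y ∈ A, (z : G F m) * y = y * z := by
    intro y hy
    have := (Subgroup.mem_center_iff.mp hzc) ⟨y, hy⟩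
    exact (congrArg Subtype.val this).symm
  have hzD : x⁻¹ * (z : G F m) * x ∈ Dsub h := by
    apply mem_D_of_comm h hk
    have h1 := hcomm _ hmem
    calc x⁻¹ * (z : G F m) * x * Dg h k = x⁻¹ * ((z : G F m) * (x * Dg h k * x⁻¹)) * x := by group
      _ = x⁻¹ * ((x * Dg h k * x⁻¹) * (z : G F m)) * x := by rw [h1]
      _ = Dg h k * (x⁻¹ * (z : G F m) * x) := by group
  obtain ⟨c, hc'⟩ := hzD
  have hc1 : c ≠ 1 := by
    rintro rfl
    rw [Dg_one h] at hc'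
    apply hz1'
    have : (z : G F m) = x * (x⁻¹ * (z : G F m) * x) * x⁻¹ := by group
    rw [this, hc']
    group
  intro y hy
  apply mem_D_of_comm h hc1
  have h1 := hcomm y hy
  rw [← hc']
  calc x⁻¹ * y * x * (x⁻¹ * (z : G F m) * x) = x⁻¹ * (y * (z : G F m)) * x := by group
    _ = x⁻¹ * ((z : G F m) * y) * x := by rw [h1]
    _ = (x⁻¹ * (z : G F m) * x) * (x⁻¹ * y * x) := by group

theorem main (h : Hyp F m) {Γ : Type*} [Group Γ] (e : G F m ≃* Γ) :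
    ¬ ∃ 𝓐 : Finset (Subgroup Γ), ((∀ A ∈ 𝓐, A ≠ ⊤) ∧ (∀ g : Γ, ∃ A ∈ 𝓐, g ∈ A)) ∧
      (∀ 𝓑 : Finset (Subgroup Γ), (∀ A ∈ 𝓑, A ≠ ⊤) ∧ (∀ g : Γ, ∃ A ∈ 𝓑, g ∈ A) → 𝓐.card ≤ 𝓑.card) ∧
      (∀ A ∈ 𝓐, Group.IsNilpotent A) := by
  obtain ⟨k, hk⟩ := exists_unit_ne_one h
  -- pull back nilpotent subgroups
  have hpull : ∀ A : Subgroup Γ, Group.IsNilpotent A → Group.IsNilpotent (A.map e.symm.toMonoidHom) := by
    intro A hA
    exact nilpotent_of_mulEquiv (e.symm.subgroupMap A)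
  have hmemmap : ∀ (A : Subgroup Γ) (g : G F m), e g ∈ A → g ∈ A.map e.symm.toMonoidHom := by
    intro A g hg
    exact ⟨e g, hg, by simp⟩
  have hmemback : ∀ (A : Subgroup Γ) (y : Γ), y ∈ A → e.symm y ∈ A.map e.symm.toMonoidHom := by
    intro A y hy
    exact ⟨y, hy, rfl⟩
  have hBor : ∀ x : G F m, x ∈ Bor F m → ∀ (y : G F m), x⁻¹ * y * x ∈ Dsub h → x • (oI : Om F m) = oI →
      y ∈ Bor F m := by
    intro x _ y hy hxI
    obtain ⟨c, hc⟩ := hy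
    have : y = x * Dg h c * x⁻¹ := by
      rw [← hc]
      group
    rw [this, MulAction.mem_stabilizer_iff, mul_smul, mul_smul]
    have hinv : x⁻¹ • (oI : Om F m) = oI := by
      rw [inv_smul_eq_iff, hxI]
    rw [hinv, Dg_oI h, hxI]
  apply abstract_no_cover ((Bor F m).map e.toMonoidHom) ?_ (e (Dg h k)) (e (Lg h 1 0 * Dg h k * (Lg h 1 0)⁻¹))
  · -- first element
    intro A hA hmem
    have h1 := nil_le_conj h hk 1 (A.map e.symm.toMonoidHom) (hpull A hA)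
      (by simpa using hmemmap A _ hmem)
    intro y hy
    refine ⟨e.symm y, ?_, by simp⟩
    apply hBor 1 (Subgroup.one_mem _) _ _ (one_smul _ _)
    exact h1 _ (hmemback A y hy)
  · -- second element
    intro A hA hmem
    have hLI : Lg h 1 0 • (oI : Om F m) = oI := Lg_oI h 1 0
    have h1 := nil_le_conj h hk (Lg h 1 0) (A.map e.symm.toMonoidHom) (hpull A hA)
      (hmemmap A _ hmem)
    intro y hy
    refine ⟨e.symm y, ?_, by simp⟩
    apply hBor (Lg h 1 0) (MulAction.mem_stabilizer_iff.mpr hLI) _ _ hLI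
    exact h1 _ (hmemback A y hy)
  · -- not both
    intro A hA hmem hmem2
    have h1 := nil_le_conj h hk (Lg h 1 0) (A.map e.symm.toMonoidHom) (hpull A hA)
      (hmemmap A _ hmem2) (Dg h k) (hmemmap A _ hmem)
    obtain ⟨c, hc⟩ := h1
    -- `D(k)` would fix the point `L(1,0) • o`
    have hfix : Dg h k • (oA 1 0 : Om F m) = oA 1 0 := by
      have e1 : (oA 1 0 : Om F m) = Lg h 1 0 • oA 0 0 := by
        rw [Lg_oA h]
        simp
      have e2 : Dg h k = Lg h 1 0 * Dg h c * (Lg h 1 0)⁻¹ := by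
        rw [← hc]
        group
      rw [e1, e2, mul_smul, mul_smul, inv_smul_smul, Dg_oA h]
      simp
    rw [Dg_oA h] at hfix
    have := (oA_inj hfix).1
    apply hk
    apply Units.ext
    simpa using this
  · -- the Borel subgroup is proper
    intro hc
    have : (Bor F m) = ⊤ := by
      apply Subgroup.map_injective (f := e.toMonoidHom) e.injective
      rw [hc]
      exact (Subgroup.map_top_of_surjective _ e.surjective).symm
    have h1 : Tg h ∈ Bor F m := by rw [this]; exact Subgroup.mem_top _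
    have h2 := MulAction.mem_stabilizer_iff.mp h1
    rw [Tg_oI h] at h2
    exact oA_ne_oI 0 0 h2

/-- The statement. -/
theorem result {F : Type*} [Field F] [Fintype F] (m : ℕ) (hm : 1 ≤ m) (hF : Fintype.card F = 2 ^ (2 * m + 1)) :
    ¬ ∃ 𝓐 : Finset (Subgroup ↥(Cfsg.Lie.Sz F (2 ^ (m + 1)))), ((∀ A ∈ 𝓐, A ≠ ⊤) ∧ (∀ g : ↥(Cfsg.Lie.Sz F (2 ^ (m + 1))), ∃ A ∈ 𝓐, g ∈ A)) ∧ (∀ 𝓑 : Finset (Subgroup ↥(Cfsg.Lie.Sz F (2 ^ (m + 1)))), (∀ A ∈ 𝓑, A ≠ ⊤) ∧ (∀ g : ↥(Cfsg.Lie.Sz F (2 ^ (m + 1))), ∃ A ∈ 𝓑, g ∈ A) → 𝓐.card ≤ 𝓑.card) ∧ (∀ A ∈ 𝓐, Group.IsNilpotent ↥A) := by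
  have h : Hyp F m := ⟨hm, hF⟩
  exact main h (suzEquiv h)

end Cfsg.Agent.S3893
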