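import Cfsg.Statements.S3894
import Cfsg.Agent.Lib.Linalg.RegularClasses
import Cfsg.Agent.Lib.Linalg.RegularCentralizer
import Cfsg.Agent.Lib.Linalg.Bridge
import Cfsg.Agent.Lib.Nilpotent.Elements
import Mathlib

set_option autoImplicit false
open Cfsg

namespace Cfsg.Agent.S3894

open Matrix
open scoped LinearAlgebra.Projectivization MatrixGroups
open Cfsg.Agent.Lib.Linalg.RegularClasses
open Cfsg.Agent.Lib.Linalg.RegularCentralizer

variable {F : Type*} [Field F] {m : ℕ}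

local notation "𝕄" => Matrix (Fin (m + 1)) (Fin (m + 1)) F
local notation "𝔾" => GL (Fin (m + 1)) F

/-- Projective general linear group. -/
abbrev PG (F : Type*) [Field F] (m : ℕ) := GL (Fin (m + 1)) F ⧸ Subgroup.center (GL (Fin (m + 1)) F)

/-- The projection onto `PGL`. -/
noncomputable abbrev pi : GL (Fin (m + 1)) F →* PG F m := QuotientGroup.mk' _

/-- Lines of the natural module. -/
abbrev Pts (F : Type*) [Field F] (m : ℕ) := ℙ F (Fin (m + 1) → F)

theorem pi_eq_one_of_scalar {X : GL (Fin (m + 1)) F} {c : F} (h : (X : 𝕄) = c • 1) :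
    (pi X : PG F m) = 1 := by
  rw [pi, QuotientGroup.mk'_apply, QuotientGroup.eq_one_iff]
  rw [Matrix.GeneralLinearGroup.mem_center_iff_val_mem_range_scalar]
  exact ⟨c, by rw [h, Matrix.scalar_apply, ← Matrix.smul_one_eq_diagonal]⟩

theorem exists_scalar_of_pi_eq_one {X : GL (Fin (m + 1)) F} (h : (pi X : PG F m) = 1) :
    ∃ c : F, (X : 𝕄) = c • 1 := by
  rw [pi, QuotientGroup.mk'_apply, QuotientGroup.eq_one_iff,
    Matrix.GeneralLinearGroup.mem_center_iff_val_mem_range_scalar] at h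
  obtain ⟨c, hc⟩ := h
  exact ⟨c, by rw [← hc, Matrix.scalar_apply, ← Matrix.smul_one_eq_diagonal]⟩

theorem exists_scalar_of_pi_eq {X Y : GL (Fin (m + 1)) F} (h : (pi X : PG F m) = pi Y) :
    ∃ c : F, c ≠ 0 ∧ (X : 𝕄) = c • (Y : 𝕄) := by
  have h1 : (pi (X * Y⁻¹) : PG F m) = 1 := by rw [map_mul, map_inv, h, mul_inv_cancel]
  obtain ⟨c, hc⟩ := exists_scalar_of_pi_eq_one h1
  have h2 : (X : 𝕄) = c • (Y : 𝕄) := by
    have h3 : (X : 𝕄) = ((X * Y⁻¹ : 𝔾) : 𝕄) * (Y : 𝕄) := by
      rw [← Units.val_mul]; simp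
    rw [h3, hc, Matrix.smul_mul, one_mul]
  refine ⟨c, ?_, h2⟩
  rintro rfl
  rw [zero_smul] at h2
  have := X.isUnit
  rw [h2] at this
  exact not_isUnit_zero this

/-- Commuting in `PGL` means commuting up to a scalar. -/
theorem comm_lift {X Y : GL (Fin (m + 1)) F} (h : Commute (pi X : PG F m) (pi Y)) :
    ∃ c : F, c ≠ 0 ∧ (X : 𝕄) * Y = c • ((Y : 𝕄) * X) := by
  have h1 : (pi (X * Y) : PG F m) = pi (Y * X) := by rw [map_mul, map_mul]; exact h.eq
  obtain ⟨c, hc, h2⟩ := exists_scalar_of_pi_eq h1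
  exact ⟨c, hc, by simpa using h2⟩

section Action

/-- `GL` on lines. -/
noncomputable def act : GL (Fin (m + 1)) F →* Equiv.Perm (Pts F m) :=
  (MulAction.toPermHom (LinearMap.GeneralLinearGroup F (Fin (m + 1) → F)) (Pts F m)).comp
    (Matrix.GeneralLinearGroup.toLin (n := Fin (m + 1)) (R := F)).toMonoidHom

theorem mulVec_ne_zero (g : GL (Fin (m + 1)) F) {v : Fin (m + 1) → F} (hv : v ≠ 0) :
    (g : 𝕄) *ᵥ v ≠ 0 := by
  intro h
  apply hv
  have := congrArg (fun z => ((g⁻¹ : 𝔾) : 𝕄) *ᵥ z) h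
  simpa [Matrix.mulVec_mulVec] using this

theorem act_mk (g : GL (Fin (m + 1)) F) (v : Fin (m + 1) → F) (hv : v ≠ 0) :
    act g (Projectivization.mk F v hv) = Projectivization.mk F ((g : 𝕄) *ᵥ v) (mulVec_ne_zero g hv) := by
  rfl

theorem act_center (z : GL (Fin (m + 1)) F) (hz : z ∈ Subgroup.center (GL (Fin (m + 1)) F)) : act z = 1 := by
  rw [Matrix.GeneralLinearGroup.mem_center_iff_val_mem_range_scalar] at hz
  obtain ⟨c, hc⟩ := hz
  ext1 P
  induction P using Projectivization.ind with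
  | h v hv =>
    rw [act_mk, Equiv.Perm.one_apply, Projectivization.mk_eq_mk_iff']
    refine ⟨c, ?_⟩
    rw [← hc, Matrix.scalar_apply, ← Matrix.smul_one_eq_diagonal, Matrix.smul_mulVec, Matrix.one_mulVec]

/-- `PGL` on lines. -/
noncomputable def actP : PG F m →* Equiv.Perm (Pts F m) :=
  QuotientGroup.lift _ act (fun z hz => act_center z hz)

@[simp] theorem actP_pi (g : 𝔾) : actP (pi g : PG F m) = act g := rfl

theorem act_mk_fix_iff (g : 𝔾) (v : Fin (m + 1) → F) (hv : v ≠ 0) :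
    act g (Projectivization.mk F v hv) = Projectivization.mk F v hv ↔ ∃ μ : F, (g : 𝕄) *ᵥ v = μ • v := by
  rw [act_mk, Projectivization.mk_eq_mk_iff']
  constructor
  · rintro ⟨a, ha⟩; exact ⟨a, ha.symm⟩
  · rintro ⟨a, ha⟩; exact ⟨a, ha.symm⟩

end Action

section Unipotent

theorem eigen_unip {N : 𝕄} (hN : IsNilpotent N) {w : Fin (m + 1) → F} (hw : w ≠ 0) {μ : F}
    (h : (1 + N) *ᵥ w = μ • w) : μ = 1 ∧ N *ᵥ w = 0 := by
  have h1 : N *ᵥ w = (μ - 1) • w := by
    rw [Matrix.add_mulVec, Matrix.one_mulVec] at h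
    rw [sub_smul, one_smul, ← h]; abel
  have h2 : ∀ k : ℕ, (N ^ k) *ᵥ w = (μ - 1) ^ k • w := by
    intro k
    induction k with
    | zero => simp
    | succ k ih =>
      rw [pow_succ', ← Matrix.mulVec_mulVec, ih, Matrix.mulVec_smul, h1, smul_smul, pow_succ]
  obtain ⟨k, hk⟩ := hN
  have h3 := h2 k
  rw [hk, Matrix.zero_mulVec] at h3
  have h4 : (μ - 1) ^ k = 0 := by
    by_contra h0
    exact hw ((smul_eq_zero.mp h3.symm).resolve_left h0)
  have h5 : μ - 1 = 0 := by
    by_contra h0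
    exact pow_ne_zero k h0 h4
  have h6 : μ = 1 := sub_eq_zero.mp h5
  exact ⟨h6, by rw [h1, h5, zero_smul]⟩

theorem lambda_unip {N : 𝕄} (hN : IsNilpotent N) {v : Fin (m + 1) → F} (hv : v ≠ 0) (hNv : N *ᵥ v = 0)
    (X : 𝔾) {c : F} (hc : c ≠ 0) (h : (X : 𝕄) * (1 + N) = c • ((1 + N) * (X : 𝕄))) : c = 1 := by
  set w := (X : 𝕄) *ᵥ v with hw
  have hw0 : w ≠ 0 := mulVec_ne_zero X hv
  have h1 : (1 + N) *ᵥ v = v := by rw [Matrix.add_mulVec, Matrix.one_mulVec, hNv, add_zero]
  have h2 := congrArg (fun M : 𝕄 => M *ᵥ v) h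
  simp only [Matrix.smul_mulVec, ← Matrix.mulVec_mulVec, h1] at h2
  have h2' : w = c • ((1 + N) *ᵥ w) := h2
  have h3 : (1 + N) *ᵥ w = c⁻¹ • w := by
    calc (1 + N) *ᵥ w = c⁻¹ • (c • ((1 + N) *ᵥ w)) := by rw [smul_smul, inv_mul_cancel₀ hc, one_smul]
      _ = c⁻¹ • w := by rw [← h2']
  have := (eigen_unip hN hw0 h3).1
  exact inv_eq_one.mp this

variable (F m) in
/-- last basis vector -/
noncomputable def eLast : Fin (m + 1) → F := Pi.single (Fin.last m) 1

theorem eLast_ne : eLast F m ≠ 0 := by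
  intro h
  have := congrFun h (Fin.last m)
  simp [eLast] at this

theorem shift_eLast : shift F m *ᵥ eLast F m = 0 := by
  funext i
  rw [eLast, Matrix.mulVec_single_one, Matrix.col_apply, shift_apply]
  have : ¬ (m + 1 = (i : ℕ)) := by
    have := i.2
    omega
  simp [this]

theorem shift_ker {w : Fin (m + 1) → F} (h : shift F m *ᵥ w = 0) : ∃ a : F, w = a • eLast F m := by
  refine ⟨w (Fin.last m), ?_⟩
  funext i
  induction i using Fin.lastCases with
  | last => simp [eLast]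
  | cast j =>
    have h1 := shift_mulVec_succ F m w j
    rw [h] at h1
    have h2 : (Fin.castSucc j) ≠ Fin.last m := (Fin.castSucc_lt_last j).ne
    simp only [Pi.smul_apply, eLast, Pi.single_eq_of_ne h2, smul_zero]
    exact h1.symm

variable (F m) in
/-- base line -/
noncomputable def P₀ : Pts F m := Projectivization.mk F (eLast F m) eLast_ne

/-- conjugates of the regular unipotent element. -/
noncomputable def Ug (g : 𝔾) : 𝔾 := g * U₀ F m * g⁻¹

/-- corresponding nilpotent -/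
noncomputable def Ng (g : 𝔾) : 𝕄 := (g : 𝕄) * shift F m * ((g⁻¹ : 𝔾) : 𝕄)

theorem Ug_eq (g : 𝔾) : ((Ug g : 𝔾) : 𝕄) = 1 + Ng g := by
  simp only [Ug, Ng, Units.val_mul, coe_U₀, mul_add, add_mul, mul_one]
  congr 1
  rw [← Units.val_mul]; simp

theorem Ng_nil (g : 𝔾) : IsNilpotent (Ng g) := by
  refine ⟨m + 1, ?_⟩
  have h : ∀ k : ℕ, (Ng g) ^ k = (g : 𝕄) * (shift F m) ^ k * ((g⁻¹ : 𝔾) : 𝕄) := by
    intro k
    induction k with
    | zero =>
      simp only [pow_zero, mul_one]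
      rw [← Units.val_mul]; simp
    | succ k ih =>
      rw [pow_succ, ih, Ng, pow_succ]
      have : ((g⁻¹ : 𝔾) : 𝕄) * (g : 𝕄) = 1 := by rw [← Units.val_mul]; simp
      calc (g : 𝕄) * shift F m ^ k * ((g⁻¹ : 𝔾) : 𝕄) * ((g : 𝕄) * shift F m * ((g⁻¹ : 𝔾) : 𝕄))
          = (g : 𝕄) * shift F m ^ k * (((g⁻¹ : 𝔾) : 𝕄) * (g : 𝕄)) * shift F m * ((g⁻¹ : 𝔾) : 𝕄) := by
            simp only [mul_assoc]
        _ = _ := by rw [this]; simp only [mul_one, mul_assoc]
  rw [h, shift_pow_card]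
  simp

theorem Ng_vec (g : 𝔾) : Ng g *ᵥ ((g : 𝕄) *ᵥ eLast F m) = 0 := by
  have : ((g⁻¹ : 𝔾) : 𝕄) * (g : 𝕄) = 1 := by rw [← Units.val_mul]; simp
  rw [Ng, Matrix.mulVec_mulVec, mul_assoc, this, mul_one, ← Matrix.mulVec_mulVec, shift_eLast,
    Matrix.mulVec_zero]

/-- The line fixed by `Ug g`. -/
noncomputable def pt (g : 𝔾) : Pts F m := act g (P₀ F m)

theorem pt_eq (g : 𝔾) : pt g = Projectivization.mk F ((g : 𝕄) *ᵥ eLast F m) (mulVec_ne_zero g eLast_ne) := rfl

theorem Ug_fix (g : 𝔾) : act (Ug g) (pt g) = pt g := by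
  rw [pt_eq, act_mk_fix_iff]
  refine ⟨1, ?_⟩
  rw [Ug_eq, Matrix.add_mulVec, Matrix.one_mulVec, Ng_vec, add_zero, one_smul]

theorem fix_Ug (g : 𝔾) {P : Pts F m} (h : act (Ug g) P = P) : P = pt g := by
  induction P using Projectivization.ind with
  | h w hw =>
    rw [act_mk_fix_iff] at h
    obtain ⟨μ, hμ⟩ := h
    rw [Ug_eq] at hμ
    have h1 := (eigen_unip (Ng_nil g) hw hμ).2
    have h2 : shift F m *ᵥ (((g⁻¹ : 𝔾) : 𝕄) *ᵥ w) = 0 := by
      have := congrArg (fun z => ((g⁻¹ : 𝔾) : 𝕄) *ᵥ z) h1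
      simp only [Ng, Matrix.mulVec_zero, Matrix.mulVec_mulVec] at this
      rw [Matrix.mulVec_mulVec]
      have h3 : ((g⁻¹ : 𝔾) : 𝕄) * ((g : 𝕄) * shift F m * ((g⁻¹ : 𝔾) : 𝕄)) = shift F m * ((g⁻¹ : 𝔾) : 𝕄) := by
        have : ((g⁻¹ : 𝔾) : 𝕄) * (g : 𝕄) = 1 := by rw [← Units.val_mul]; simp
        rw [← mul_assoc, ← mul_assoc, this, one_mul]
      rwa [h3] at this
    obtain ⟨a, ha⟩ := shift_ker h2
    rw [pt_eq, Projectivization.mk_eq_mk_iff']
    refine ⟨a, ?_⟩
    have h4 : w = (g : 𝕄) *ᵥ (((g⁻¹ : 𝔾) : 𝕄) *ᵥ w) := by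
      rw [Matrix.mulVec_mulVec, ← Units.val_mul]; simp
    rw [h4, ha, Matrix.mulVec_smul]

theorem pt_surj (hm : 1 ≤ m) (P : Pts F m) : ∃ g : 𝔾, P = pt g := by
  induction P using Projectivization.ind with
  | h w hw =>
    obtain ⟨s, hs⟩ := Cfsg.Agent.Lib.Linalg.Bridge.exists_SL_mulVec_eq (ι := Fin (m + 1)) (F := F)
      (by simp; omega) (eLast_ne (F := F) (m := m)) hw
    refine ⟨SpecialLinearGroup.toGL s, ?_⟩
    rw [pt_eq, Projectivization.mk_eq_mk_iff']
    exact ⟨1, by rw [one_smul]; exact hs⟩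

section Char

variable (p : ℕ) [hp : Fact p.Prime] [CharP F p]

theorem U₀_pow_eq_one : (U₀ F m) ^ (p ^ (m + 1)) = 1 := by
  apply Units.ext
  haveI : CharP 𝕄 p := Matrix.charP p
  rw [Units.val_pow_eq_pow_val, coe_U₀, add_pow_char_pow_of_commute p (m + 1) (Commute.one_left _), one_pow,
    Units.val_one, add_eq_left]
  exact pow_eq_zero_of_le (by
    have := Nat.lt_pow_self (n := m + 1) hp.out.one_lt
    omega) (shift_pow_card F m)

theorem Ug_pow_eq_one (g : 𝔾) : (Ug g) ^ (p ^ (m + 1)) = 1 := by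
  rw [Ug, conj_pow, U₀_pow_eq_one p]
  simp

/-- An element commuting with the regular unipotent has `p`-power order modulo scalars. -/
theorem centr_pelt (g X : 𝔾) (h : Commute (pi X : PG F m) (pi (Ug g))) :
    ((pi X : PG F m)) ^ (p ^ (m + 1)) = 1 := by
  obtain ⟨c, hc, h1⟩ := comm_lift h
  rw [Ug_eq] at h1
  have hc1 : c = 1 := lambda_unip (Ng_nil g) (mulVec_ne_zero g eLast_ne) (Ng_vec g) X hc h1
  subst hc1
  rw [one_smul] at h1
  -- conjugate down to `U₀`
  set X' : 𝔾 := g⁻¹ * X * g with hX'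
  have hginv : ((g⁻¹ : 𝔾) : 𝕄) * (g : 𝕄) = 1 := by rw [← Units.val_mul]; simp
  have hginv' : (g : 𝕄) * ((g⁻¹ : 𝔾) : 𝕄) = 1 := by rw [← Units.val_mul]; simp
  have h2 : Commute (shift F m) (X' : 𝕄) := by
    have h3 : (X : 𝕄) * Ng g = Ng g * X := by
      have := h1
      rw [mul_add, add_mul, mul_one, one_mul] at this
      exact add_left_cancel this
    show shift F m * (X' : 𝕄) = (X' : 𝕄) * shift F m
    simp only [hX', Units.val_mul]
    have e1 : shift F m = ((g⁻¹ : 𝔾) : 𝕄) * Ng g * (g : 𝕄) := by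
      simp only [Ng]
      calc shift F m = (((g⁻¹ : 𝔾) : 𝕄) * (g : 𝕄)) * shift F m * (((g⁻¹ : 𝔾) : 𝕄) * (g : 𝕄)) := by
            rw [hginv, one_mul, mul_one]
        _ = _ := by simp only [mul_assoc]
    rw [e1]
    calc ((g⁻¹ : 𝔾) : 𝕄) * Ng g * (g : 𝕄) * (((g⁻¹ : 𝔾) : 𝕄) * (X : 𝕄) * (g : 𝕄))
        = ((g⁻¹ : 𝔾) : 𝕄) * Ng g * ((g : 𝕄) * ((g⁻¹ : 𝔾) : 𝕄)) * (X : 𝕄) * (g : 𝕄) := by simp only [mul_assoc]
      _ = ((g⁻¹ : 𝔾) : 𝕄) * (Ng g * (X : 𝕄)) * (g : 𝕄) := by rw [hginv']; simp only [mul_one, mul_assoc]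
      _ = ((g⁻¹ : 𝔾) : 𝕄) * ((X : 𝕄) * Ng g) * (g : 𝕄) := by rw [h3]
      _ = ((g⁻¹ : 𝔾) : 𝕄) * (X : 𝕄) * ((g : 𝕄) * ((g⁻¹ : 𝔾) : 𝕄)) * Ng g * (g : 𝕄) := by
          rw [hginv']; simp only [mul_one, mul_assoc]
      _ = _ := by simp only [mul_assoc]
  obtain ⟨v, hv⟩ := exists_cyclic_vector (shift F m) (shift_pow_card F m) (shift_rank F m)
  obtain ⟨f, hf⟩ := exists_polyOf_of_commute (shift F m) (shift_pow_card F m) hv h2
  rw [polyOf_eq] at hf
  set T := ∑ i : Fin m, f i.succ • (shift F m) ^ (i : ℕ) with hT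
  have hcomm : Commute (shift F m) T := commute_tail (shift F m) f
  haveI : CharP 𝕄 p := Matrix.charP p
  have hpow : ((X' : 𝕄)) ^ (p ^ (m + 1)) = (f 0) ^ (p ^ (m + 1)) • 1 := by
    have hc0 : Commute (f 0 • (1 : 𝕄)) (shift F m * T) :=
      (Commute.one_left _).smul_left _
    rw [hf, add_pow_char_pow_of_commute p (m + 1) hc0, hcomm.mul_pow, smul_pow, one_pow]
    have : shift F m ^ (p ^ (m + 1)) = 0 := pow_eq_zero_of_le (by
      have := Nat.lt_pow_self (n := m + 1) hp.out.one_lt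
      omega) (shift_pow_card F m)
    rw [this, zero_mul, add_zero]
  have h4 : ((X ^ (p ^ (m + 1)) : 𝔾) : 𝕄) = (f 0) ^ (p ^ (m + 1)) • 1 := by
    have h5 : X = g * X' * g⁻¹ := by rw [hX']; group
    rw [h5, conj_pow, Units.val_mul, Units.val_mul, Units.val_pow_eq_pow_val, hpow, Matrix.mul_smul,
      Matrix.smul_mul, mul_one, hginv', ]
  rw [← map_pow]
  exact pi_eq_one_of_scalar h4

end Char

end Unipotent

section Cover

variable [Fintype F]

/-- The hypothesis on `G`. -/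
def HG (G : Subgroup (PG F m)) : Prop :=
  ((SpecialLinearGroup.toGL : SpecialLinearGroup (Fin (m + 1)) F →* 𝔾).range).map
    (QuotientGroup.mk' (Subgroup.center 𝔾)) ≤ G

variable {G : Subgroup (PG F m)}

theorem sl_mem (hG : HG G) (s : SpecialLinearGroup (Fin (m + 1)) F) :
    (pi (SpecialLinearGroup.toGL s) : PG F m) ∈ G :=
  hG ⟨SpecialLinearGroup.toGL s, ⟨s, rfl⟩, rfl⟩

theorem Ug_mem (hG : HG G) (g : 𝔾) : (pi (Ug g) : PG F m) ∈ G := by
  have := sl_mem hG (conjElt g)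
  rwa [toGL_conjElt] at this

/-- conjugates of the regular unipotent element, in `G`. -/
noncomputable def uG (hG : HG G) (g : 𝔾) : ↥G := ⟨pi (Ug g), Ug_mem hG g⟩

section P

variable (p : ℕ) [hp : Fact p.Prime] [CharP F p]

theorem isPGroup_of_mem (hG : HG G) (A : Subgroup ↥G) [hA : Group.IsNilpotent ↥A] {g : 𝔾}
    (hu : uG hG g ∈ A) : IsPGroup p ↥A := by
  rw [IsPGroup.iff_orderOf]
  intro a
  have ho : orderOf a ≠ 0 := (orderOf_pos a).ne'
  obtain ⟨e, r, hr, hor⟩ := Nat.exists_eq_pow_mul_and_not_dvd ho p hp.out.ne_one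
  have hrne : r ≠ 0 := by
    rintro rfl
    exact hr (dvd_zero p)
  have hb : orderOf (a ^ (p ^ e)) = r := by
    rw [orderOf_pow_of_dvd (pow_ne_zero _ hp.out.ne_zero) ⟨r, hor⟩, hor,
      Nat.mul_div_cancel_left _ (pow_pos hp.out.pos _)]
  set y : ↥A := ⟨uG hG g, hu⟩ with hy
  have hy1 : y ^ (p ^ (m + 1)) = 1 := by
    apply Subtype.ext; apply Subtype.ext
    show (pi (Ug g) : PG F m) ^ (p ^ (m + 1)) = 1
    rw [← map_pow, Ug_pow_eq_one p, map_one]
  obtain ⟨j, -, hj⟩ := (Nat.dvd_prime_pow hp.out).mp (orderOf_dvd_of_pow_eq_one hy1)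
  have hcop : (orderOf (a ^ (p ^ e))).Coprime (orderOf y) := by
    rw [hb, hj]
    exact Nat.Coprime.pow_right _ ((Nat.Prime.coprime_iff_not_dvd hp.out).mpr hr).symm
  have hcomm := Cfsg.Agent.Lib.Nilpotent.Elements.commute_of_coprime_orderOf hcop
  obtain ⟨X, hX⟩ := QuotientGroup.mk'_surjective (Subgroup.center 𝔾) (((a ^ (p ^ e) : ↥A) : ↥G) : PG F m)
  have hcomm' : Commute (pi X : PG F m) (pi (Ug g)) := by
    have := congrArg (fun z : ↥A => ((z : ↥G) : PG F m)) hcomm.eq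
    simp only [Subgroup.coe_mul] at this
    show _ * _ = _ * _
    rw [show (pi X : PG F m) = _ from hX]
    exact this
  have h1 := centr_pelt p g X hcomm'
  have h2 : (a ^ (p ^ e)) ^ (p ^ (m + 1)) = 1 := by
    apply Subtype.ext; apply Subtype.ext
    have : (pi X : PG F m) = _ := hX
    rw [this] at h1
    simpa using h1
  have h3 : r ∣ p ^ (m + 1) := by
    rw [← hb]; exact orderOf_dvd_of_pow_eq_one h2
  obtain ⟨i, -, hi⟩ := (Nat.dvd_prime_pow hp.out).mp h3
  have hr1 : r = 1 := by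
    rcases i with _ | i
    · simpa using hi
    · exact absurd (hi ▸ dvd_pow_self p (Nat.succ_ne_zero i)) hr
  exact ⟨e, by rw [hor, hr1, mul_one]⟩

theorem not_dvd_card_pts : ¬ p ∣ Nat.card (Pts F m) := by
  intro h
  have h1 := Projectivization.card' F (Fin (m + 1) → F)
  have h2 : p ∣ Nat.card (Fin (m + 1) → F) := by
    simp only [Nat.card_eq_fintype_card, Fintype.card_fun, Fintype.card_fin]
    have h3 : p ∣ Fintype.card F := by
      have := CharP.cast_eq_zero_iff F p (Fintype.card F)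
      rw [← this]
      exact Nat.cast_card_eq_zero F
    exact h3.trans (dvd_pow_self _ (by omega))
  rw [h1] at h2
  have h4 : p ∣ Nat.card (Pts F m) * (Nat.card F - 1) := Dvd.dvd.mul_right h _
  have h5 := (Nat.dvd_add_right h4).mp h2
  exact hp.out.one_lt.ne' (Nat.dvd_one.mp h5)

end P

theorem fix_of_mem (hG : HG G) (A : Subgroup ↥G) [hA : Group.IsNilpotent ↥A] {g : 𝔾}
    (hu : uG hG g ∈ A) {a : ↥G} (ha : a ∈ A) : actP (a : PG F m) (pt g) = pt g := by
  let p := ringChar F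
  haveI : Fact p.Prime := ⟨CharP.char_is_prime F p⟩
  haveI : CharP F p := ringChar.charP F
  have hP := isPGroup_of_mem p hG A hu
  letI : MulAction ↥A (Pts F m) := MulAction.compHom _ (actP.comp (G.subtype.comp A.subtype))
  obtain ⟨P, hP'⟩ := hP.nonempty_fixed_point_of_prime_not_dvd_card (Pts F m) (not_dvd_card_pts p)
  have h1 : ∀ b : ↥A, actP ((b : ↥G) : PG F m) P = P := fun b => hP' b
  have h2 : act (Ug g) P = P := h1 ⟨uG hG g, hu⟩
  have h3 := fix_Ug g h2
  rw [← h3]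
  exact h1 ⟨a, ha⟩

/-- Stabilizer of a line in `G`. -/
noncomputable def stabG (G : Subgroup (PG F m)) (P : Pts F m) : Subgroup ↥G :=
  (MulAction.stabilizer (Equiv.Perm (Pts F m)) P).comap (actP.comp G.subtype)

theorem mem_stabG {P : Pts F m} {x : ↥G} : x ∈ stabG G P ↔ actP (x : PG F m) P = P := by
  rw [stabG, Subgroup.mem_comap, MulAction.mem_stabilizer_iff]
  rfl

theorem exists_ne_pts (hm : 1 ≤ m) (P : Pts F m) : ∃ Q : Pts F m, Q ≠ P := by
  have h0 : (Pi.single 0 (1 : F) : Fin (m + 1) → F) ≠ 0 := by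
    intro h
    have := congrFun h 0
    simp at this
  have hne : Projectivization.mk F (Pi.single 0 (1 : F) : Fin (m + 1) → F) h0 ≠ P₀ F m := by
    intro h
    rw [P₀, Projectivization.mk_eq_mk_iff'] at h
    obtain ⟨a, ha⟩ := h
    have := congrFun ha 0
    have hl : (0 : Fin (m + 1)) ≠ Fin.last m := by
      intro h
      have := congrArg Fin.val h
      simp at this
      omega
    simp [eLast, Pi.single_eq_of_ne hl] at this
  by_cases h : P = P₀ F m
  · exact ⟨_, by rw [h]; exact hne⟩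
  · exact ⟨P₀ F m, fun h' => h h'.symm⟩

theorem stabG_ne_top (hm : 1 ≤ m) (hG : HG G) (P : Pts F m) : stabG G P ≠ ⊤ := by
  intro h
  obtain ⟨Q, hQ⟩ := exists_ne_pts hm P
  obtain ⟨g, rfl⟩ := pt_surj hm Q
  have h1 : uG hG g ∈ stabG G P := by rw [h]; trivial
  rw [mem_stabG] at h1
  exact hQ (fix_Ug g h1).symm

section Swap

/-- swap of the first two coordinates -/
def sw (hm : 2 ≤ m) : Equiv.Perm (Fin (m + 1)) := Equiv.swap ⟨0, by omega⟩ ⟨1, by omega⟩

theorem sw_val (hm : 2 ≤ m) (x : Fin (m + 1)) :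
    ((sw hm x : Fin (m + 1)) : ℕ) = if (x : ℕ) = 0 then (1 : ℕ) else if (x : ℕ) = 1 then (0 : ℕ) else (x : ℕ) := by
  rw [sw, Equiv.swap_apply_def]
  by_cases h0 : (x : ℕ) = 0
  · have hx : x = ⟨0, by omega⟩ := Fin.ext h0
    rw [if_pos hx, if_pos h0]
  · rw [if_neg h0, if_neg (fun h : x = ⟨0, by omega⟩ => h0 (by rw [h]))]
    by_cases h1 : (x : ℕ) = 1
    · have hx : x = ⟨1, by omega⟩ := Fin.ext h1
      rw [if_pos hx, if_pos h1]
    · rw [if_neg h1, if_neg (fun h : x = ⟨1, by omega⟩ => h1 (by rw [h]))]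

theorem sw_sw (hm : 2 ≤ m) (x : Fin (m + 1)) : sw hm (sw hm x) = x := by
  simp [sw]

variable (F) in
/-- The permutation matrix of the swap. -/
def W (hm : 2 ≤ m) : 𝕄 := (sw hm).toPEquiv.toMatrix

theorem W_mul (hm : 2 ≤ m) (M : 𝕄) : W F hm * M = M.submatrix (sw hm) id := PEquiv.toMatrix_toPEquiv_mul _ _

theorem mul_W (hm : 2 ≤ m) (M : 𝕄) : M * W F hm = M.submatrix id (sw hm) := by
  have := PEquiv.mul_toMatrix_toPEquiv M (sw hm)
  rw [W, this]
  congr 1

theorem W_W (hm : 2 ≤ m) : W F hm * W F hm = 1 := by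
  have h1 : W F hm = (1 : 𝕄).submatrix (sw hm) id := by
    have := W_mul hm (1 : 𝕄)
    rwa [mul_one] at this
  rw [W_mul, h1]
  ext i j
  show (1 : 𝕄) (sw hm (sw hm i)) j = _
  rw [sw_sw]

variable (F) in
/-- the swap in `GL` -/
def wG (hm : 2 ≤ m) : 𝔾 := ⟨W F hm, W F hm, W_W hm, W_W hm⟩

theorem W_eLast (hm : 2 ≤ m) : W F hm *ᵥ eLast F m = eLast F m := by
  rw [W, PEquiv.toMatrix_toPEquiv_mulVec]
  funext i
  have h1 : ∀ x : Fin (m + 1), x = Fin.last m ↔ sw hm x = Fin.last m := by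
    intro x
    have h2 := sw_val hm x
    constructor
    · rintro rfl
      apply Fin.ext
      rw [h2]
      simp only [Fin.val_last]
      rw [if_neg (by omega), if_neg (by omega)]
    · intro h
      apply Fin.ext
      rw [h] at h2
      simp only [Fin.val_last] at h2 ⊢
      split_ifs at h2 <;> omega
  simp only [Function.comp, eLast, Pi.single_apply, h1 i]

theorem pt_wG (hm : 2 ≤ m) : pt (wG F hm) = P₀ F m := by
  rw [pt_eq, P₀, Projectivization.mk_eq_mk_iff']
  exact ⟨1, by rw [one_smul]; exact (W_eLast (F := F) hm).symm⟩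

theorem pt_one : pt (1 : 𝔾) = P₀ F m := by
  rw [pt, map_one]; rfl

theorem Ug_one : Ug (1 : 𝔾) = U₀ F m := by simp [Ug]

theorem Ug_wG_val (hm : 2 ≤ m) : ((Ug (wG F hm) : 𝔾) : 𝕄) = 1 + (shift F m).submatrix (sw hm) (sw hm) := by
  rw [Ug_eq]
  congr 1
  rw [Ng]
  show W F hm * shift F m * W F hm = _
  rw [W_mul, mul_W]
  rfl

theorem trace_prod (hm : 2 ≤ m) :
    Matrix.trace ((U₀ F m : 𝕄) * ((Ug (wG F hm) : 𝔾) : 𝕄)) = ((m + 1 : ℕ) : F) + 1 := by
  rw [Ug_wG_val, coe_U₀]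
  have h1 : Matrix.trace (shift F m) = 0 := by
    rw [Matrix.trace]
    apply Finset.sum_eq_zero
    intro i _
    simp [shift_apply]
  have h2 : Matrix.trace ((shift F m).submatrix (sw hm) (sw hm)) = 0 := by
    rw [Matrix.trace]
    apply Finset.sum_eq_zero
    intro i _
    simp [shift_apply]
  have h3 : Matrix.trace (shift F m * (shift F m).submatrix (sw hm) (sw hm)) = 1 := by
    rw [Matrix.trace]
    simp only [Matrix.diag_apply, Matrix.mul_apply, Matrix.submatrix_apply, shift_apply]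
    have hkey : ∀ i j : Fin (m + 1),
        ((if (j : ℕ) + 1 = i then (1 : F) else 0) * (if ((sw hm i : Fin (m + 1)) : ℕ) + 1 = sw hm j then (1 : F) else 0)) =
          if ((j : ℕ) = 0 ∧ (i : ℕ) = 1) then 1 else 0 := by
      intro i j
      have ha := sw_val hm i
      have hb := sw_val hm j
      by_cases hij : (j : ℕ) + 1 = i
      · by_cases hs : ((sw hm i : Fin (m + 1)) : ℕ) + 1 = sw hm j
        · have h4 : (j : ℕ) = 0 ∧ (i : ℕ) = 1 := by
            split_ifs at ha hb <;> omega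
          rw [if_pos hij, if_pos hs, if_pos h4, one_mul]
        · have h4 : ¬ ((j : ℕ) = 0 ∧ (i : ℕ) = 1) := by
            rintro ⟨h5, h6⟩
            apply hs
            rw [ha, hb, if_pos h5, if_neg (by omega), if_pos h6]
          rw [if_neg hs, if_neg h4, mul_zero]
      · have h4 : ¬ ((j : ℕ) = 0 ∧ (i : ℕ) = 1) := by omega
        rw [if_neg hij, if_neg h4, zero_mul]
    simp only [hkey]
    rw [Finset.sum_eq_single (⟨1, by omega⟩ : Fin (m + 1)), Finset.sum_eq_single (⟨0, by omega⟩ : Fin (m + 1))]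
    · simp
    · intro b _ hb
      rw [if_neg]
      rintro ⟨h, -⟩
      exact hb (Fin.ext h)
    · simp
    · intro b _ hb
      apply Finset.sum_eq_zero
      intro j _
      rw [if_neg]
      rintro ⟨-, h⟩
      exact hb (Fin.ext h)
    · simp
  have e : ((1 : 𝕄) + shift F m) * (1 + (shift F m).submatrix (sw hm) (sw hm)) =
      1 + (shift F m + ((shift F m).submatrix (sw hm) (sw hm) + shift F m * (shift F m).submatrix (sw hm) (sw hm))) := by
    noncomm_ring
  rw [e, Matrix.trace_add, Matrix.trace_add, Matrix.trace_add, h1, h2, h3, Matrix.trace_one]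
  simp

/-- The two reference regular unipotents do not lie in a common nilpotent subgroup. -/
theorem not_both (hm : 2 ≤ m) (hG : HG G) (A : Subgroup ↥G) [hA : Group.IsNilpotent ↥A]
    (h1 : uG hG (1 : 𝔾) ∈ A) (h2 : uG hG (wG F hm) ∈ A) : False := by
  let p := ringChar F
  haveI : Fact p.Prime := ⟨CharP.char_is_prime F p⟩
  haveI : CharP F p := ringChar.charP F
  haveI : CharP 𝕄 p := Matrix.charP p
  have hP := isPGroup_of_mem p hG A h1
  obtain ⟨k, hk⟩ := hP ⟨uG hG (1 : 𝔾) * uG hG (wG F hm), A.mul_mem h1 h2⟩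
  set T : 𝔾 := U₀ F m * Ug (wG F hm) with hT
  have hk' : (pi (T ^ (p ^ k)) : PG F m) = 1 := by
    have := congrArg (fun z : ↥A => ((z : ↥G) : PG F m)) hk
    simp only [Subgroup.coe_pow, Subgroup.coe_mul, Subgroup.coe_one, uG] at this
    rw [map_pow, hT, map_mul, ← Ug_one]
    exact this
  obtain ⟨c, hc⟩ := exists_scalar_of_pi_eq_one hk'
  have hTe : (T : 𝕄) *ᵥ eLast F m = eLast F m := by
    rw [hT, Units.val_mul, ← Matrix.mulVec_mulVec]
    have h3 : ((Ug (wG F hm) : 𝔾) : 𝕄) *ᵥ eLast F m = eLast F m := by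
      rw [Ug_eq]
      have := Ng_vec (wG F hm)
      have h4 : ((wG F hm : 𝔾) : 𝕄) *ᵥ eLast F m = eLast F m := W_eLast (F := F) hm
      rw [h4] at this
      rw [Matrix.add_mulVec, Matrix.one_mulVec, this, add_zero]
    rw [h3, coe_U₀, Matrix.add_mulVec, Matrix.one_mulVec, shift_eLast, add_zero]
  have hTk : ∀ j : ℕ, ((T ^ j : 𝔾) : 𝕄) *ᵥ eLast F m = eLast F m := by
    intro j
    induction j with
    | zero => simp
    | succ j ih =>
      rw [pow_succ, Units.val_mul, ← Matrix.mulVec_mulVec, hTe, ih]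
  have hc1 : c = 1 := by
    have h3 := hTk (p ^ k)
    rw [hc, Matrix.smul_mulVec, Matrix.one_mulVec] at h3
    have h4 := congrFun h3 (Fin.last m)
    simpa [eLast] using h4
  have h5 : ((T : 𝕄) - 1) ^ (p ^ k) = 0 := by
    rw [sub_pow_char_pow_of_commute p k (Commute.one_right _), one_pow]
    have : ((T ^ (p ^ k) : 𝔾) : 𝕄) = (T : 𝕄) ^ (p ^ k) := Units.val_pow_eq_pow_val _ _
    rw [← this, hc, hc1, one_smul, sub_self]
  have h6 : IsNilpotent (Matrix.trace ((T : 𝕄) - 1)) := Matrix.isNilpotent_trace_of_isNilpotent ⟨_, h5⟩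
  have h7 : Matrix.trace ((T : 𝕄) - 1) = 0 := h6.eq_zero
  rw [Matrix.trace_sub, Matrix.trace_one, hT, Units.val_mul, trace_prod] at h7
  simp at h7

end Swap

/-- The case `n ≥ 3`. -/
theorem main_ge3 (hm : 2 ≤ m) (hG : HG G)
    (𝓐 : Finset (Subgroup ↥G)) (hprop : ∀ A ∈ 𝓐, A ≠ ⊤) (hcov : ∀ g : ↥G, ∃ A ∈ 𝓐, g ∈ A)
    (hmin : ∀ 𝓑 : Finset (Subgroup ↥G), (∀ A ∈ 𝓑, A ≠ ⊤) ∧ (∀ g : ↥G, ∃ A ∈ 𝓑, g ∈ A) → 𝓐.card ≤ 𝓑.card)
    (hnil : ∀ A ∈ 𝓐, Group.IsNilpotent ↥A) : False := by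
  classical
  haveI : Fintype (Pts F m) := Fintype.ofFinite _
  have hm1 : 1 ≤ m := by omega
  -- members containing regular unipotents
  set 𝓤 := 𝓐.filter (fun A => ∃ g : 𝔾, uG hG g ∈ A) with h𝓤
  set 𝓑 := (𝓐 \ 𝓤) ∪ (Finset.univ.image (stabG G)) with h𝓑
  have hB := hmin 𝓑 ⟨?_, ?_⟩
  · -- counting
    have hgg : ∀ P : Pts F m, ∃ g : 𝔾, pt g = P ∧ (P = P₀ F m → g = 1) := by
      intro P
      by_cases h : P = P₀ F m
      · exact ⟨1, by rw [h, pt_one], fun _ => rfl⟩
      · obtain ⟨g, hg⟩ := pt_surj hm1 P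
        exact ⟨g, hg.symm, fun h' => absurd h' h⟩
    choose gg hgg1 hgg2 using hgg
    have hmem : ∀ g : 𝔾, ∃ A ∈ 𝓐, uG hG g ∈ A := fun g => hcov _
    choose BB hBB1 hBB2 using hmem
    have hmemU : ∀ g, BB g ∈ 𝓤 := fun g => Finset.mem_filter.mpr ⟨hBB1 g, g, hBB2 g⟩
    have hsame : ∀ g h : 𝔾, BB g = BB h → pt g = pt h := by
      intro g h hgh
      haveI := hnil _ (hBB1 g)
      have h1 : uG hG h ∈ BB g := by rw [hgh]; exact hBB2 h
      have h2 := fix_of_mem hG (BB g) (hBB2 g) h1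
      exact fix_Ug h h2
    let B : Pts F m → Subgroup ↥G := fun P => BB (gg P)
    have hBinj : Function.Injective B := by
      intro P Q hPQ
      have := hsame _ _ hPQ
      rwa [hgg1, hgg1] at this
    have hsub : Finset.univ.image B ⊂ 𝓤 := by
      refine (Finset.ssubset_iff_of_subset ?_).mpr ⟨BB (wG F hm), hmemU _, ?_⟩
      · intro A hA
        obtain ⟨P, -, rfl⟩ := Finset.mem_image.mp hA
        exact hmemU _
      · intro hA
        obtain ⟨P, -, hP⟩ := Finset.mem_image.mp hA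
        have h1 := hsame _ _ hP
        rw [hgg1, pt_wG] at h1
        have h2 : gg P = 1 := hgg2 P h1
        have h3 : uG hG (1 : 𝔾) ∈ BB (wG F hm) := by
          rw [← hP]
          show uG hG 1 ∈ BB (gg P)
          rw [← h2]
          exact hBB2 _
        haveI := hnil _ (hBB1 (wG F hm))
        exact not_both hm hG _ h3 (hBB2 _)
    have hcard : Fintype.card (Pts F m) < 𝓤.card := by
      have := Finset.card_lt_card hsub
      rwa [Finset.card_image_of_injective _ hBinj, Finset.card_univ] at this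
    have hU : 𝓤 ⊆ 𝓐 := Finset.filter_subset _ _
    have h1 : 𝓑.card ≤ (𝓐 \ 𝓤).card + Fintype.card (Pts F m) := by
      refine (Finset.card_union_le _ _).trans ?_
      have := Finset.card_image_le (s := (Finset.univ : Finset (Pts F m))) (f := stabG G)
      rw [Finset.card_univ] at this
      omega
    have h2 := Finset.card_sdiff_add_card_eq_card hU
    omega
  · intro A hA
    rcases Finset.mem_union.mp hA with h | h
    · exact hprop A (Finset.mem_sdiff.mp h).1
    · obtain ⟨P, -, rfl⟩ := Finset.mem_image.mp h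
      exact stabG_ne_top hm1 hG P
  · intro x
    obtain ⟨A, hA, hx⟩ := hcov x
    by_cases h : A ∈ 𝓤
    · obtain ⟨-, g, hg⟩ := Finset.mem_filter.mp h
      haveI := hnil A hA
      refine ⟨stabG G (pt g), Finset.mem_union_right _ (Finset.mem_image_of_mem _ (Finset.mem_univ _)), ?_⟩
      rw [mem_stabG]
      exact fix_of_mem hG A hg hx
    · exact ⟨A, Finset.mem_union_left _ (Finset.mem_sdiff.mpr ⟨hA, h⟩), hx⟩

end Cover

section TwoByTwo

theorem comm_poly {Y C : Matrix (Fin 2) (Fin 2) F} (hY : ∀ s : F, Y ≠ s • 1) (h : C * Y = Y * C) :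
    ∃ a b : F, C = a • 1 + b • Y := by
  have h00 := congrFun (congrFun h 0) 0
  have h01 := congrFun (congrFun h 0) 1
  have h10 := congrFun (congrFun h 1) 0
  have h11 := congrFun (congrFun h 1) 1
  simp only [Matrix.mul_apply, Fin.sum_univ_two] at h00 h01 h10 h11
  by_cases h1 : Y 0 1 = 0
  · by_cases h2 : Y 1 0 = 0
    · have h3 : Y 0 0 ≠ Y 1 1 := by
        intro h3
        apply hY (Y 0 0)
        ext i j
        fin_cases i <;> fin_cases j <;> simp [h1, h2, h3]
      have h4 : Y 0 0 - Y 1 1 ≠ 0 := sub_ne_zero.mpr h3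
      refine ⟨C 0 0 - (C 0 0 - C 1 1) / (Y 0 0 - Y 1 1) * Y 0 0, (C 0 0 - C 1 1) / (Y 0 0 - Y 1 1), ?_⟩
      rw [h1] at h01
      rw [h2] at h10
      have h5 : C 0 1 = 0 := by
        have : C 0 1 * (Y 0 0 - Y 1 1) = 0 := by linear_combination -h01
        exact (mul_eq_zero.mp this).resolve_right h4
      have h6 : C 1 0 = 0 := by
        have : C 1 0 * (Y 0 0 - Y 1 1) = 0 := by linear_combination h10
        exact (mul_eq_zero.mp this).resolve_right h4
      ext i j
      fin_cases i <;> fin_cases j <;> simp [h1, h2, h5, h6]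
      field_simp
      ring
    · refine ⟨C 1 1 - C 1 0 / Y 1 0 * Y 1 1, C 1 0 / Y 1 0, ?_⟩
      ext i j
      fin_cases i <;> fin_cases j <;> simp
      · field_simp
        linear_combination (-1 : F) * h10
      · field_simp
        linear_combination h00
      · field_simp
  · refine ⟨C 0 0 - C 0 1 / Y 0 1 * Y 0 0, C 0 1 / Y 0 1, ?_⟩
    ext i j
    fin_cases i <;> fin_cases j <;> simp
    · field_simp
    · field_simp
      linear_combination (-1 : F) * h00
    · field_simp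
      linear_combination (-1 : F) * h01

theorem sq_of_trace_zero {X : Matrix (Fin 2) (Fin 2) F} (h : Matrix.trace X = 0) : X * X = (-X.det) • 1 := by
  rw [Matrix.trace_fin_two] at h
  rw [Matrix.det_fin_two]
  ext i j
  fin_cases i <;> fin_cases j <;>
    simp [Matrix.mul_apply, Fin.sum_univ_two]
  · linear_combination (X 0 0) * h
  · linear_combination (X 0 1) * h
  · linear_combination (X 1 0) * h
  · linear_combination (X 1 1) * h

theorem det_lin {X : Matrix (Fin 2) (Fin 2) F} (h : Matrix.trace X = 0) (a b : F) :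
    (a • (1 : Matrix (Fin 2) (Fin 2) F) + b • X).det = a ^ 2 + b ^ 2 * X.det := by
  rw [Matrix.trace_fin_two] at h
  rw [Matrix.det_fin_two, Matrix.det_fin_two]
  simp
  linear_combination (a * b) * h

theorem trace_lin (X : Matrix (Fin 2) (Fin 2) F) (a b : F) :
    Matrix.trace (a • (1 : Matrix (Fin 2) (Fin 2) F) + b • X) = 2 * a + b * Matrix.trace X := by
  rw [Matrix.trace_add, Matrix.trace_smul, Matrix.trace_smul, Matrix.trace_one]
  simp
  ring

end TwoByTwo

section Two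

local notation "𝕄₂" => Matrix (Fin (1 + 1)) (Fin (1 + 1)) F
local notation "𝔾₂" => GL (Fin (1 + 1)) F

theorem poly_fix {C Y : 𝔾₂} {a b : F} (hb : b ≠ 0) (h : (C : 𝕄₂) = a • 1 + b • (Y : 𝕄₂)) (P : Pts F 1) :
    act C P = P ↔ act Y P = P := by
  induction P using Projectivization.ind with
  | h v hv =>
    rw [act_mk_fix_iff, act_mk_fix_iff]
    constructor
    · rintro ⟨μ, hμ⟩
      refine ⟨(μ - a) / b, ?_⟩
      rw [h, Matrix.add_mulVec, Matrix.smul_mulVec, Matrix.smul_mulVec, Matrix.one_mulVec] at hμ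
      have h2 : b • ((Y : 𝕄₂) *ᵥ v) = (μ - a) • v := by rw [sub_smul, ← hμ]; abel
      rw [div_eq_inv_mul, mul_smul, ← h2, smul_smul, inv_mul_cancel₀ hb, one_smul]
    · rintro ⟨μ, hμ⟩
      refine ⟨a + b * μ, ?_⟩
      rw [h, Matrix.add_mulVec, Matrix.smul_mulVec, Matrix.smul_mulVec, Matrix.one_mulVec, hμ, add_smul, mul_smul]

theorem key_comm {C Y : 𝔾₂} (hgood : ∀ c : F, c ≠ 0 → (C : 𝕄₂) * Y = c • ((Y : 𝕄₂) * C) → c = 1)
    (hcomm : Commute (pi C : PG F 1) (pi Y)) (hY : (pi Y : PG F 1) ≠ 1) (hC : (pi C : PG F 1) ≠ 1) :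
    ∃ a b : F, b ≠ 0 ∧ (C : 𝕄₂) = a • 1 + b • (Y : 𝕄₂) := by
  obtain ⟨c, hc, h⟩ := comm_lift hcomm
  have h1 := hgood c hc h
  subst h1
  rw [one_smul] at h
  obtain ⟨a, b, hab⟩ := comm_poly (Y := (Y : 𝕄₂)) (C := (C : 𝕄₂))
    (fun s hs => hY (pi_eq_one_of_scalar hs)) h
  refine ⟨a, b, ?_, hab⟩
  rintro rfl
  apply hC
  apply pi_eq_one_of_scalar (c := a)
  rw [hab, zero_smul, add_zero]

theorem good_lambda {C Y : 𝔾₂} (hY : Matrix.trace (Y : 𝕄₂) ≠ 0 ∨ (2 : F) = 0) {c : F} (hc : c ≠ 0)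
    (h : (C : 𝕄₂) * Y = c • ((Y : 𝕄₂) * C)) : c = 1 := by
  rcases hY with ht | h2
  · have h1 : ((C : 𝕄₂) * Y) * ((C⁻¹ : 𝔾₂) : 𝕄₂) = c • (Y : 𝕄₂) := by
      rw [h, Matrix.smul_mul, mul_assoc, ← Units.val_mul]
      simp
    have h3 := congrArg Matrix.trace h1
    rw [Matrix.trace_smul] at h3
    have h4 : Matrix.trace ((C : 𝕄₂) * (Y : 𝕄₂) * ((C⁻¹ : 𝔾₂) : 𝕄₂)) = Matrix.trace (Y : 𝕄₂) := by
      rw [Matrix.trace_mul_comm, ← mul_assoc, ← Units.val_mul]
      simp
    rw [h4, smul_eq_mul] at h3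
    have h5 : (c - 1) * Matrix.trace (Y : 𝕄₂) = 0 := by linear_combination -h3
    exact sub_eq_zero.mp ((mul_eq_zero.mp h5).resolve_right ht)
  · have h1 := congrArg Matrix.det h
    rw [Matrix.det_smul, Matrix.det_mul, Matrix.det_mul] at h1
    have hdC : (C : 𝕄₂).det ≠ 0 := by
      have := (Matrix.isUnit_iff_isUnit_det _).mp C.isUnit
      exact this.ne_zero
    have hdY : (Y : 𝕄₂).det ≠ 0 := by
      have := (Matrix.isUnit_iff_isUnit_det _).mp Y.isUnit
      exact this.ne_zero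
    have h3 : c ^ 2 = 1 := by
      have h4 : (c ^ Fintype.card (Fin (1 + 1)) - 1) * ((C : 𝕄₂).det * (Y : 𝕄₂).det) = 0 := by
        linear_combination -h1
      have h5 := (mul_eq_zero.mp h4).resolve_right (mul_ne_zero hdC hdY)
      simpa [sub_eq_zero] using h5
    have h4 : (c - 1) ^ 2 = 0 := by linear_combination h3 - c * h2 + h2
    exact sub_eq_zero.mp (pow_eq_zero_iff (by norm_num) |>.mp h4)

theorem ug_good (C g : 𝔾₂) (c : F) (hc : c ≠ 0) (h : (C : 𝕄₂) * ((Ug g : 𝔾₂) : 𝕄₂) = c • (((Ug g : 𝔾₂) : 𝕄₂) * C)) : c = 1 := by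
  rw [Ug_eq] at h
  exact lambda_unip (Ng_nil g) (mulVec_ne_zero g eLast_ne) (Ng_vec g) C hc h

theorem pi_eq_of_scalar {X Y : 𝔾₂} {c : F} (h : (X : 𝕄₂) = c • (Y : 𝕄₂)) : (pi X : PG F 1) = pi Y := by
  have h1 : (pi (X * Y⁻¹) : PG F 1) = 1 := by
    apply pi_eq_one_of_scalar (c := c)
    rw [Units.val_mul, h, Matrix.smul_mul, ← Units.val_mul]
    simp
  rw [map_mul, map_inv] at h1
  exact mul_inv_eq_one.mp h1

variable [Fintype F] {G : Subgroup (PG F 1)}

/-- at least two fixed lines -/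
def TwoFix (x : ↥G) : Prop :=
  ∃ P Q : Pts F 1, P ≠ Q ∧ actP (x : PG F 1) P = P ∧ actP (x : PG F 1) Q = Q

theorem uG_ne_one (hG : HG G) (g : 𝔾₂) : uG hG g ≠ 1 := by
  intro h
  have h1 : (pi (Ug g) : PG F 1) = 1 := congrArg Subtype.val h
  obtain ⟨Q, hQ⟩ := exists_ne_pts (m := 1) (F := F) le_rfl (pt g)
  apply hQ
  apply fix_Ug g
  rw [← actP_pi, h1, map_one]
  rfl

theorem pi_ne_one_of_coe {x : ↥G} {X : 𝔾₂} (h : (pi X : PG F 1) = x) (hx : x ≠ 1) : (pi X : PG F 1) ≠ 1 := by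
  rw [h]
  intro h1
  exact hx (Subtype.ext h1)

theorem fix_of_comm_unip (hG : HG G) {c : ↥G} (hc : c ≠ 1) (g : 𝔾₂) (hcomm : Commute c (uG hG g))
    (Q : Pts F 1) : actP (c : PG F 1) Q = Q ↔ Q = pt g := by
  obtain ⟨C, hC⟩ := QuotientGroup.mk'_surjective (Subgroup.center 𝔾₂) (c : PG F 1)
  have hC' : (pi C : PG F 1) = c := hC
  have hc1 := pi_ne_one_of_coe hC' hc
  have hu1 : (pi (Ug g) : PG F 1) ≠ 1 := pi_ne_one_of_coe (x := uG hG g) rfl (uG_ne_one hG g)
  have hcomm' : Commute (pi C : PG F 1) (pi (Ug g)) := by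
    rw [hC']
    exact congrArg Subtype.val hcomm.eq
  obtain ⟨a, b, hb, hab⟩ := key_comm (ug_good C g) hcomm' hu1 hc1
  rw [← hC', actP_pi, poly_fix hb hab]
  constructor
  · exact fix_Ug g
  · rintro rfl
    exact Ug_fix g

theorem fpf_of_comm_good {c y : ↥G} {Y : 𝔾₂} (hY : (pi Y : PG F 1) = y)
    (hgood : Matrix.trace (Y : 𝕄₂) ≠ 0 ∨ (2 : F) = 0) (hc : c ≠ 1) (hy : y ≠ 1) (hcomm : Commute c y)
    (Q : Pts F 1) {C : 𝔾₂} (hC' : (pi C : PG F 1) = c) :
    (actP (c : PG F 1) Q = Q ↔ act Y Q = Q) ∧ ∃ a b : F, (C : 𝕄₂) = a • 1 + b • (Y : 𝕄₂) := by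
  have hc1 := pi_ne_one_of_coe hC' hc
  have hy1 := pi_ne_one_of_coe hY hy
  have hcomm' : Commute (pi C : PG F 1) (pi Y) := by
    rw [hC', hY]
    exact congrArg Subtype.val hcomm.eq
  obtain ⟨a, b, hb, hab⟩ := key_comm (fun c hc h => good_lambda hgood hc h) hcomm' hy1 hc1
  refine ⟨?_, a, b, hab⟩
  rw [← hC', actP_pi, poly_fix hb hab]

/-- An element without fixed lines commutes with a good such element of `SL₂`. -/
theorem exists_good (hq : 4 ≤ Fintype.card F) (hG : HG G) {X : 𝔾₂} (hX : (pi X : PG F 1) ∈ G)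
    (hfpf : ∀ Q : Pts F 1, act X Q ≠ Q) :
    ∃ (Y : 𝔾₂), (pi Y : PG F 1) ∈ G ∧ (Matrix.trace (Y : 𝕄₂) ≠ 0 ∨ (2 : F) = 0) ∧
      (∀ Q : Pts F 1, act Y Q ≠ Q) ∧ (X : 𝕄₂) * Y = (Y : 𝕄₂) * X := by
  by_cases hgood : Matrix.trace (X : 𝕄₂) ≠ 0 ∨ (2 : F) = 0
  · exact ⟨X, hX, hgood, hfpf, rfl⟩
  classical
  push Not at hgood
  obtain ⟨htr, h2⟩ := hgood
  -- `X² = c`, with `c` not a square
  obtain ⟨c, hc⟩ : ∃ c : F, c = -(X : 𝕄₂).det := ⟨_, rfl⟩
  have hsq : (X : 𝕄₂) * (X : 𝕄₂) = c • 1 := by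
    rw [hc]
    exact sq_of_trace_zero htr
  have hnosq : ∀ r : F, r * r ≠ c := by
    intro r hr
    -- `X - r` singular or `X + r = 0`
    have h1 : ((X : 𝕄₂) - r • 1) * ((X : 𝕄₂) + r • 1) = 0 := by
      have : ((X : 𝕄₂) - r • 1) * ((X : 𝕄₂) + r • 1) = (X : 𝕄₂) * X - (r * r) • 1 := by
        simp only [sub_mul, mul_add, Matrix.smul_mul, Matrix.mul_smul, mul_one, one_mul, smul_smul, smul_add]
        abel
      rw [this, hsq, hr, sub_self]
    by_cases hdet : ((X : 𝕄₂) - r • 1).det = 0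
    · obtain ⟨v, hv, hv2⟩ := Matrix.exists_mulVec_eq_zero_iff.mpr hdet
      apply hfpf (Projectivization.mk F v hv)
      rw [act_mk_fix_iff]
      refine ⟨r, ?_⟩
      rw [Matrix.sub_mulVec, Matrix.smul_mulVec, Matrix.one_mulVec, sub_eq_zero] at hv2
      exact hv2
    · have hu : IsUnit ((X : 𝕄₂) - r • 1) := (Matrix.isUnit_iff_isUnit_det _).mpr (isUnit_iff_ne_zero.mpr hdet)
      have h3 : (X : 𝕄₂) + r • 1 = 0 := by
        exact (hu.mul_right_eq_zero).mp h1
      have h4 : (X : 𝕄₂) = (-r) • 1 := by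
        rw [neg_smul]; exact eq_neg_of_add_eq_zero_left h3
      have h5 : (pi X : PG F 1) = 1 := pi_eq_one_of_scalar h4
      obtain ⟨Q⟩ : Nonempty (Pts F 1) := ⟨P₀ F 1⟩
      apply hfpf Q
      rw [← actP_pi, h5, map_one]
      rfl
  -- the parameter `t`
  obtain ⟨t, ht0, ht1⟩ : ∃ t : F, t ≠ 0 ∧ 1 + c * t ^ 2 ≠ 0 := by
    by_cases hc1 : 1 + c = 0
    · have hc2 : c = -1 := by linear_combination hc1
      obtain ⟨t, -, ht⟩ := Finset.exists_mem_notMem_of_card_lt_card (s := ({0, 1, -1} : Finset F)) (t := Finset.univ)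
        (by
          refine lt_of_le_of_lt (Finset.card_le_three) ?_
          rw [Finset.card_univ]
          omega)
      simp only [Finset.mem_insert, Finset.mem_singleton, not_or] at ht
      refine ⟨t, ht.1, ?_⟩
      rw [hc2]
      intro h5
      have h6 : (t - 1) * (t + 1) = 0 := by linear_combination -h5
      rcases mul_eq_zero.mp h6 with h7 | h7
      · exact ht.2.1 (sub_eq_zero.mp h7)
      · exact ht.2.2 (eq_neg_of_add_eq_zero_left h7)
    · exact ⟨1, one_ne_zero, by simpa using hc1⟩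
  have ht2 : 1 - c * t ^ 2 ≠ 0 := by
    intro h5
    have h6 : c * t ^ 2 = 1 := by linear_combination -h5
    apply hnosq (t⁻¹)
    field_simp
    linear_combination -h6
  set a : F := (1 + c * t ^ 2) / (1 - c * t ^ 2) with ha
  set b : F := 2 * t / (1 - c * t ^ 2) with hb
  have ha0 : a ≠ 0 := div_ne_zero ht1 ht2
  have hb0 : b ≠ 0 := div_ne_zero (mul_ne_zero h2 ht0) ht2
  have hdet : a ^ 2 - c * b ^ 2 = 1 := by
    rw [ha, hb]
    field_simp
    ring
  set YM : 𝕄₂ := a • 1 + b • (X : 𝕄₂) with hYM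
  have hYdet : YM.det = 1 := by
    have := det_lin (X := (X : 𝕄₂)) htr a b
    rw [hYM, this]
    rw [← hdet, hc]
    ring
  let s : SpecialLinearGroup (Fin (1 + 1)) F := ⟨YM, hYdet⟩
  have hsval : ((SpecialLinearGroup.toGL s : 𝔾₂) : 𝕄₂) = YM := rfl
  refine ⟨SpecialLinearGroup.toGL s, sl_mem hG s, Or.inl ?_, ?_, ?_⟩
  · rw [hsval, hYM]
    have := trace_lin (X : 𝕄₂) a b
    rw [this, htr, mul_zero, add_zero]
    exact mul_ne_zero h2 ha0
  · intro Q hQ
    exact hfpf Q ((poly_fix (C := SpecialLinearGroup.toGL s) (Y := X) hb0 hsval Q).mp hQ)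
  · rw [hsval, hYM]
    simp only [mul_add, add_mul, Matrix.mul_smul, Matrix.smul_mul, mul_one, one_mul]

variable (F) in
/-- the line of the first basis vector -/
noncomputable def line0 : Pts F 1 :=
  Projectivization.mk F (![1, 0] : Fin (1 + 1) → F) (by
    intro h
    have := congrFun h 0
    simp at this)

variable (F) in
/-- the line of the second basis vector -/
noncomputable def line1 : Pts F 1 :=
  Projectivization.mk F (![0, 1] : Fin (1 + 1) → F) (by
    intro h
    have := congrFun h 1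
    simp at this)

theorem line0_ne : line0 F ≠ line1 F := by
  intro h
  rw [line0, line1, Projectivization.mk_eq_mk_iff'] at h
  obtain ⟨a, ha⟩ := h
  have := congrFun ha 0
  simp at this

theorem diag_fix {D : 𝔾₂} {s t : F} (h : (D : 𝕄₂) = !![s, 0; 0, t]) :
    act D (line0 F) = line0 F ∧ act D (line1 F) = line1 F := by
  constructor
  · rw [line0, act_mk_fix_iff]
    refine ⟨s, ?_⟩
    rw [h]
    funext i
    fin_cases i <;> simp [Matrix.mulVec, dotProduct, Fin.sum_univ_two]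
  · rw [line1, act_mk_fix_iff]
    refine ⟨t, ?_⟩
    rw [h]
    funext i
    fin_cases i <;> simp [Matrix.mulVec, dotProduct, Fin.sum_univ_two]

/-- A good split element. -/
theorem split_of_good_diag {D : 𝔾₂} {s t : F} (h : (D : 𝕄₂) = !![s, 0; 0, t]) (hst : s ≠ t) (htr : s + t ≠ 0)
    (hD : (pi D : PG F 1) ∈ G) : ∃ d : ↥G, d ≠ 1 ∧ ∀ c : ↥G, c ≠ 1 → Commute c d → TwoFix c := by
  have hne : (⟨pi D, hD⟩ : ↥G) ≠ 1 := by
    intro h1
    have h2 : (pi D : PG F 1) = 1 := congrArg Subtype.val h1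
    obtain ⟨c, hc⟩ := exists_scalar_of_pi_eq_one h2
    rw [h] at hc
    have h3 := congrFun (congrFun hc 0) 0
    have h4 := congrFun (congrFun hc 1) 1
    simp at h3 h4
    exact hst (by rw [h3, h4])
  refine ⟨⟨pi D, hD⟩, hne, fun c hc hcomm => ?_⟩
  obtain ⟨C, hC⟩ := QuotientGroup.mk'_surjective (Subgroup.center 𝔾₂) (c : PG F 1)
  have hfix := fun Q => (fpf_of_comm_good (c := c) (y := ⟨pi D, hD⟩) (Y := D) rfl
    (Or.inl (by rw [h, Matrix.trace_fin_two]; simpa using htr)) hc hne hcomm Q hC).1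
  obtain ⟨h0, h1⟩ := diag_fix h
  exact ⟨line0 F, line1 F, line0_ne, (hfix _).mpr h0, (hfix _).mpr h1⟩

/-- Existence of an element whose centralizer only contains elements with two fixed lines. -/
theorem exists_split (hq : 4 ≤ Fintype.card F) (hG : HG G) :
    ∃ d : ↥G, d ≠ 1 ∧ ∀ c : ↥G, c ≠ 1 → Commute c d → TwoFix c := by
  classical
  by_cases h5 : Fintype.card F = 5
  · -- the field with five elements
    have hr2 : ringChar F ≠ 2 := by
      intro h
      have := FiniteField.even_card_iff_char_two.mp h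
      omega
    have h2 : (2 : F) ≠ 0 := Ring.two_ne_zero hr2
    obtain ⟨ν, hν⟩ := FiniteField.exists_nonsquare hr2
    have hνne : ν ≠ 0 := by
      rintro rfl
      exact hν IsSquare.zero
    have hm1 : IsSquare (-1 : F) := FiniteField.isSquare_neg_one_iff.mpr (by omega)
    obtain ⟨δ, hδ⟩ := hm1
    have hδ0 : δ ≠ 0 := by
      rintro rfl
      simp at hδ
    have hδ1 : δ ≠ δ⁻¹ := by
      intro h
      have h3 : δ * δ = 1 := by
        nth_rewrite 2 [h]
        exact mul_inv_cancel₀ hδ0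
      rw [h3] at hδ
      apply h2
      linear_combination -hδ
    let M : 𝔾₂ := ⟨!![ν, 0; 0, 1], !![ν⁻¹, 0; 0, 1], by
      rw [Matrix.mul_fin_two, Matrix.one_fin_two]; simp [hνne], by
      rw [Matrix.mul_fin_two, Matrix.one_fin_two]; simp [hνne]⟩
    by_cases hM : (pi M : PG F 1) ∈ G
    · refine split_of_good_diag (D := M) (s := ν) (t := 1) rfl ?_ ?_ hM
      · rintro rfl
        exact hν IsSquare.one
      · intro h
        apply hν
        have : ν = -1 := by linear_combination h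
        rw [this]
        exact ⟨δ, hδ⟩
    · -- the element of `SL₂`
      let S : SpecialLinearGroup (Fin (1 + 1)) F := ⟨!![δ, 0; 0, δ⁻¹], by
        rw [Matrix.det_fin_two_of]
        simp [hδ0]⟩
      have hSval : ((SpecialLinearGroup.toGL S : 𝔾₂) : 𝕄₂) = !![δ, 0; 0, δ⁻¹] := rfl
      set D : 𝔾₂ := SpecialLinearGroup.toGL S with hD
      have hDG : (pi D : PG F 1) ∈ G := sl_mem hG S
      have hne : (⟨pi D, hDG⟩ : ↥G) ≠ 1 := by
        intro h1
        have h2' : (pi D : PG F 1) = 1 := congrArg Subtype.val h1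
        obtain ⟨c, hc⟩ := exists_scalar_of_pi_eq_one h2'
        rw [hSval] at hc
        have h3 := congrFun (congrFun hc 0) 0
        have h4 := congrFun (congrFun hc 1) 1
        simp at h3 h4
        exact hδ1 (h3.trans h4.symm)
      refine ⟨⟨pi D, hDG⟩, hne, fun c hc hcomm => ?_⟩
      obtain ⟨C, hC⟩ := QuotientGroup.mk'_surjective (Subgroup.center 𝔾₂) (c : PG F 1)
      have hC' : (pi C : PG F 1) = c := hC
      have hcomm' : Commute (pi C : PG F 1) (pi D) := by
        rw [hC']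
        exact congrArg Subtype.val hcomm.eq
      obtain ⟨lam, hlam, heq⟩ := comm_lift hcomm'
      by_cases hl : lam = 1
      · -- commuting lifts
        subst hl
        rw [one_smul] at heq
        have hns : ∀ s : F, (D : 𝕄₂) ≠ s • 1 := by
          intro s hs
          exact hne (Subtype.ext (pi_eq_one_of_scalar hs))
        obtain ⟨a, b, hab⟩ := comm_poly (Y := (D : 𝕄₂)) (C := (C : 𝕄₂)) hns heq
        have hb : b ≠ 0 := by
          rintro rfl
          apply hc
          apply Subtype.ext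
          show (c : PG F 1) = 1
          rw [← hC']
          apply pi_eq_one_of_scalar (c := a)
          rw [hab, zero_smul, add_zero]
        obtain ⟨h0, h1⟩ := diag_fix hSval
        refine ⟨line0 F, line1 F, line0_ne, ?_, ?_⟩
        · rw [← hC', actP_pi, poly_fix hb hab]; exact h0
        · rw [← hC', actP_pi, poly_fix hb hab]; exact h1
      · -- anti-commuting lifts
        have e00 := congrFun (congrFun heq 0) 0
        have e11 := congrFun (congrFun heq 1) 1
        rw [hSval] at e00 e11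
        simp only [Matrix.mul_apply, Fin.sum_univ_two, Matrix.smul_apply, smul_eq_mul] at e00 e11
        simp at e00 e11
        have hl' : 1 - lam ≠ 0 := sub_ne_zero.mpr (Ne.symm hl)
        have c00 : (C : 𝕄₂) 0 0 = 0 := by
          have : ((C : 𝕄₂) 0 0) * (δ * (1 - lam)) = 0 := by linear_combination e00
          rcases mul_eq_zero.mp this with h | h
          · exact h
          · exact absurd h (mul_ne_zero hδ0 hl')
        have c11 : (C : 𝕄₂) 1 1 = 0 := by
          have : ((C : 𝕄₂) 1 1) * (δ⁻¹ * (1 - lam)) = 0 := by linear_combination e11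
          rcases mul_eq_zero.mp this with h | h
          · exact h
          · exact absurd h (mul_ne_zero (inv_ne_zero hδ0) hl')
        have hdet : (C : 𝕄₂).det = -((C : 𝕄₂) 0 1 * (C : 𝕄₂) 1 0) := by
          have := Matrix.det_fin_two (C : Matrix (Fin 2) (Fin 2) F)
          rw [c00, c11] at this
          rw [show (C : 𝕄₂).det = _ from this]
          ring
        have hdC : (C : 𝕄₂).det ≠ 0 := ((Matrix.isUnit_iff_isUnit_det _).mp C.isUnit).ne_zero
        -- the determinant of `C` is a square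
        have hsq : IsSquare (C : 𝕄₂).det := by
          by_contra hns
          have hr : IsSquare (ν * ((C : 𝕄₂).det)⁻¹) := by
            rw [← quadraticChar_one_iff_isSquare (mul_ne_zero hνne (inv_ne_zero hdC)), map_mul,
              quadraticChar_neg_one_iff_not_isSquare.mpr hν]
            have h3 := quadraticChar_neg_one_iff_not_isSquare.mpr hns
            have h4 : quadraticChar F ((C : 𝕄₂).det)⁻¹ = -1 := by
              have h8 : quadraticChar F (C : 𝕄₂).det * quadraticChar F ((C : 𝕄₂).det)⁻¹ = 1 := by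
                rw [← map_mul, mul_inv_cancel₀ hdC, map_one]
              rw [h3] at h8
              linarith
            rw [h4]; norm_num
          obtain ⟨w, hw⟩ := hr
          have hw0 : w ≠ 0 := by
            rintro rfl
            rw [mul_zero] at hw
            exact mul_ne_zero hνne (inv_ne_zero hdC) hw
          -- `w⁻¹ M C⁻¹` is in `SL₂`
          let EM : 𝕄₂ := w⁻¹ • ((M : 𝕄₂) * ((C⁻¹ : 𝔾₂) : 𝕄₂))
          have hEdet : EM.det = 1 := by
            have h6 : (M : 𝕄₂).det = ν := by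
              show (!![ν, 0; 0, 1] : Matrix (Fin 2) (Fin 2) F).det = ν
              rw [Matrix.det_fin_two_of]; ring
            have h7 : ((C⁻¹ : 𝔾₂) : 𝕄₂).det = ((C : 𝕄₂).det)⁻¹ := by
              have h8 : (C : 𝕄₂).det * ((C⁻¹ : 𝔾₂) : 𝕄₂).det = 1 := by
                rw [← Matrix.det_mul, ← Units.val_mul]
                simp
              exact eq_inv_of_mul_eq_one_right h8
            have h9 : EM.det = (w⁻¹) ^ Fintype.card (Fin (1 + 1)) * ((M : 𝕄₂) * ((C⁻¹ : 𝔾₂) : 𝕄₂)).det :=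
              Matrix.det_smul _ _
            rw [h9, Matrix.det_mul, h6, h7, hw]
            simp
            field_simp
          let E : SpecialLinearGroup (Fin (1 + 1)) F := ⟨EM, hEdet⟩
          apply hM
          have h10 : (pi M : PG F 1) = pi (SpecialLinearGroup.toGL E) * pi C := by
            rw [← map_mul]
            apply pi_eq_of_scalar (c := w)
            rw [Units.val_mul]
            show (M : 𝕄₂) = w • (EM * (C : 𝕄₂))
            simp only [EM, Matrix.smul_mul, smul_smul, mul_inv_cancel₀ hw0, one_smul]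
            rw [mul_assoc, ← Units.val_mul]
            simp
          rw [h10, hC']
          exact G.mul_mem (sl_mem hG E) c.2
        obtain ⟨w, hw⟩ := hsq
        set r : F := δ * w with hr
        have hrr : r * r = (C : 𝕄₂) 0 1 * (C : 𝕄₂) 1 0 := by
          have : r * r = (δ * δ) * (w * w) := by rw [hr]; ring
          rw [this, ← hδ, ← hw, hdet]
          ring
        have hr0 : r ≠ 0 := by
          intro h0
          rw [h0, mul_zero] at hrr
          apply hdC
          rw [hdet, ← hrr, neg_zero]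
        have h01 : (C : 𝕄₂) 0 1 ≠ 0 := by
          intro h0
          rw [h0, zero_mul] at hrr
          exact hr0 (by simpa using hrr)
        have hv1 : (![(C : 𝕄₂) 0 1, r] : Fin (1 + 1) → F) ≠ 0 := by
          intro h
          have := congrFun h 0
          exact h01 (by simpa using this)
        have hv2 : (![(C : 𝕄₂) 0 1, -r] : Fin (1 + 1) → F) ≠ 0 := by
          intro h
          have := congrFun h 0
          exact h01 (by simpa using this)
        refine ⟨Projectivization.mk F _ hv1, Projectivization.mk F _ hv2, ?_, ?_, ?_⟩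
        · intro h
          rw [Projectivization.mk_eq_mk_iff'] at h
          obtain ⟨a, ha⟩ := h
          have h3 := congrFun ha 0
          have h4 := congrFun ha 1
          simp at h3 h4
          have h6 : a = 1 := by
            have : (a - 1) * (C : 𝕄₂) 0 1 = 0 := by linear_combination h3
            exact sub_eq_zero.mp ((mul_eq_zero.mp this).resolve_right h01)
          rw [h6] at h4
          apply h2
          have : 2 * r = 0 := by linear_combination -h4
          exact (mul_eq_zero.mp this).resolve_right hr0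
        · rw [← hC', actP_pi, act_mk_fix_iff]
          refine ⟨r, ?_⟩
          funext i
          fin_cases i
          · simp [Matrix.mulVec, dotProduct, Fin.sum_univ_two, c00]
            ring
          · simp [Matrix.mulVec, dotProduct, Fin.sum_univ_two, c11]
            linear_combination -hrr
        · rw [← hC', actP_pi, act_mk_fix_iff]
          refine ⟨-r, ?_⟩
          funext i
          fin_cases i
          · simp [Matrix.mulVec, dotProduct, Fin.sum_univ_two, c00]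
            ring
          · simp [Matrix.mulVec, dotProduct, Fin.sum_univ_two, c11]
            linear_combination -hrr
  · -- otherwise an element with `x⁴ ≠ 1` exists
    have hx : ∃ x : F, x ≠ 0 ∧ x ^ 4 ≠ 1 := by
      by_cases h4 : Fintype.card F = 4
      · obtain ⟨x, -, hx⟩ := Finset.exists_mem_notMem_of_card_lt_card (s := ({0, 1} : Finset F)) (t := Finset.univ)
          (by
            refine lt_of_le_of_lt (Finset.card_le_two) ?_
            rw [Finset.card_univ]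
            omega)
        simp only [Finset.mem_insert, Finset.mem_singleton, not_or] at hx
        refine ⟨x, hx.1, ?_⟩
        have h3 : x ^ 3 = 1 := by
          have := FiniteField.pow_card_sub_one_eq_one x hx.1
          rwa [h4] at this
        intro h6
        apply hx.2
        have : x ^ 4 = x := by rw [pow_succ, h3, one_mul]
        rw [← this, h6]
      · have hc6 : 6 ≤ Fintype.card F := by omega
        obtain ⟨x, hx1, hx2⟩ := Finset.exists_mem_notMem_of_card_lt_card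
          (s := insert (0 : F) (Polynomial.nthRoots 4 (1 : F)).toFinset) (t := Finset.univ)
          (by
            refine lt_of_le_of_lt (Finset.card_insert_le _ _) ?_
            have h6 := Multiset.toFinset_card_le (Polynomial.nthRoots 4 (1 : F))
            have h7 := Polynomial.card_nthRoots 4 (1 : F)
            rw [Finset.card_univ]
            omega)
        simp only [Finset.mem_insert, Multiset.mem_toFinset, not_or] at hx2
        refine ⟨x, hx2.1, ?_⟩
        intro h6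
        exact hx2.2 ((Polynomial.mem_nthRoots (by norm_num)).mpr h6)
    obtain ⟨x, hx0, hx4⟩ := hx
    have hxx : x ≠ x⁻¹ := by
      intro h
      apply hx4
      have h3 : x * x = 1 := by
        nth_rewrite 2 [h]
        exact mul_inv_cancel₀ hx0
      calc x ^ 4 = (x * x) * (x * x) := by ring
        _ = 1 := by rw [h3, one_mul]
    have htr : x + x⁻¹ ≠ 0 := by
      intro h
      apply hx4
      have h3 : x * x = -1 := by
        have : x * (x + x⁻¹) = 0 := by rw [h, mul_zero]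
        rw [mul_add, mul_inv_cancel₀ hx0] at this
        linear_combination this
      calc x ^ 4 = (x * x) * (x * x) := by ring
        _ = 1 := by rw [h3]; ring
    let S : SpecialLinearGroup (Fin (1 + 1)) F := ⟨!![x, 0; 0, x⁻¹], by
      rw [Matrix.det_fin_two_of]
      simp [hx0]⟩
    exact split_of_good_diag (D := SpecialLinearGroup.toGL S) (s := x) (t := x⁻¹) rfl hxx htr (sl_mem hG S)

/-- Central elements of nontrivial nilpotent subgroups. -/
theorem exists_central {H : Type*} [Group H] (A : Subgroup H) [Group.IsNilpotent ↥A] (hA : A ≠ ⊥) :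
    ∃ c : H, c ≠ 1 ∧ c ∈ A ∧ ∀ x ∈ A, Commute c x := by
  haveI : Nontrivial ↥A := (Subgroup.nontrivial_iff_ne_bot A).mpr hA
  have h := Group.IsNilpotent.center_ne_bot (G := ↥A)
  obtain ⟨z, hz, hz1⟩ := (Subgroup.bot_or_exists_ne_one (Subgroup.center ↥A)).resolve_left h
  refine ⟨z, fun h => hz1 (Subtype.ext h), z.2, fun x hx => ?_⟩
  have := Subgroup.mem_center_iff.mp hz ⟨x, hx⟩
  exact (congrArg Subtype.val this).symm

theorem main_two (hq : 4 ≤ Fintype.card F) (hG : HG G)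
    (𝓐 : Finset (Subgroup ↥G)) (hprop : ∀ A ∈ 𝓐, A ≠ ⊤) (hcov : ∀ g : ↥G, ∃ A ∈ 𝓐, g ∈ A)
    (hmin : ∀ 𝓑 : Finset (Subgroup ↥G), (∀ A ∈ 𝓑, A ≠ ⊤) ∧ (∀ g : ↥G, ∃ A ∈ 𝓑, g ∈ A) → 𝓐.card ≤ 𝓑.card)
    (hnil : ∀ A ∈ 𝓐, Group.IsNilpotent ↥A) : False := by
  classical
  have hcc : ∀ A : Subgroup ↥G, ∃ c : ↥G, A ∈ 𝓐 → A ≠ ⊥ → c ≠ 1 ∧ c ∈ A ∧ ∀ x ∈ A, Commute c x := by
    intro A
    by_cases h : A ∈ 𝓐 ∧ A ≠ ⊥
    · haveI := hnil A h.1
      obtain ⟨c, hc⟩ := exists_central A h.2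
      exact ⟨c, fun _ _ => hc⟩
    · exact ⟨1, fun h1 h2 => absurd ⟨h1, h2⟩ h⟩
  choose cc hcc using hcc
  let 𝓐' := 𝓐.filter (fun A => A ≠ ⊥ ∧ ¬ TwoFix (cc A))
  let HH : Subgroup ↥G → Subgroup ↥G := fun A =>
    if h : ∃ P : Pts F 1, actP ((cc A : ↥G) : PG F 1) P = P then stabG G h.choose
    else Subgroup.centralizer {cc A}
  let 𝓑 := 𝓐'.image HH
  -- strictness
  obtain ⟨d, hd1, hd⟩ := exists_split hq hG
  obtain ⟨A₀, hA₀, hdA₀⟩ := hcov d
  have hA₀' : A₀ ∉ 𝓐' := by
    intro h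
    obtain ⟨-, hb, hnt⟩ := Finset.mem_filter.mp h
    exact hnt (hd _ (hcc A₀ hA₀ hb).1 ((hcc A₀ hA₀ hb).2.2 d hdA₀))
  have hsub : 𝓐' ⊂ 𝓐 := (Finset.ssubset_iff_of_subset (Finset.filter_subset _ _)).mpr ⟨A₀, hA₀, hA₀'⟩
  have hlt : 𝓑.card < 𝓐.card := lt_of_le_of_lt Finset.card_image_le (Finset.card_lt_card hsub)
  refine absurd (hmin 𝓑 ⟨?_, ?_⟩) (not_le.mpr hlt)
  · -- proper
    intro B hB
    obtain ⟨A, hA, rfl⟩ := Finset.mem_image.mp hB
    obtain ⟨hA1, hA2, hA3⟩ := Finset.mem_filter.mp hA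
    show HH A ≠ ⊤
    simp only [HH]
    split_ifs with h
    · exact stabG_ne_top le_rfl hG _
    · -- centralizer
      intro htop
      have hc1 := (hcc A hA1 hA2).1
      have hcomm : Commute (cc A) (uG hG 1) := by
        have h3 : uG hG 1 ∈ Subgroup.centralizer {cc A} := by rw [htop]; trivial
        rw [Subgroup.mem_centralizer_singleton_iff] at h3
        exact h3.symm
      apply h
      exact ⟨pt 1, (fix_of_comm_unip hG hc1 1 hcomm _).mpr rfl⟩
  · -- cover
    intro x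
    obtain ⟨X, hX⟩ := QuotientGroup.mk'_surjective (Subgroup.center 𝔾₂) (x : PG F 1)
    have hX' : (pi X : PG F 1) = x := hX
    by_cases hfix : ∃ P : Pts F 1, act X P = P
    · -- fixed line
      obtain ⟨P, hP⟩ := hfix
      obtain ⟨g, rfl⟩ := pt_surj le_rfl P
      obtain ⟨A, hA, huA⟩ := hcov (uG hG g)
      have hb : A ≠ ⊥ := by
        rintro rfl
        exact uG_ne_one hG g ((Subgroup.mem_bot).mp huA)
      obtain ⟨h1, h2, h3⟩ := hcc A hA hb
      have hcomm := h3 _ huA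
      have hfp := fix_of_comm_unip hG h1 g hcomm
      have hnt : ¬ TwoFix (cc A) := by
        rintro ⟨Q, R, hQR, hQ, hR⟩
        exact hQR (((hfp Q).mp hQ).trans ((hfp R).mp hR).symm)
      refine ⟨HH A, Finset.mem_image_of_mem _ (Finset.mem_filter.mpr ⟨hA, hb, hnt⟩), ?_⟩
      have hex : ∃ P : Pts F 1, actP ((cc A : ↥G) : PG F 1) P = P := ⟨pt g, (hfp _).mpr rfl⟩
      simp only [HH, dif_pos hex]
      have h6 : hex.choose = pt g := (hfp _).mp hex.choose_spec
      rw [h6, mem_stabG, ← hX', actP_pi]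
      exact hP
    · -- no fixed line
      push Not at hfix
      obtain ⟨Y, hYG, hgood, hYfpf, hXY⟩ := exists_good hq hG (X := X) (by rw [hX']; exact x.2) hfix
      let y : ↥G := ⟨pi Y, hYG⟩
      obtain ⟨A, hA, hyA⟩ := hcov y
      have hy1 : y ≠ 1 := by
        intro h1
        have h2 : (pi Y : PG F 1) = 1 := congrArg Subtype.val h1
        apply hYfpf (P₀ F 1)
        rw [← actP_pi, h2, map_one]
        rfl
      have hb : A ≠ ⊥ := by
        rintro rfl
        exact hy1 ((Subgroup.mem_bot).mp hyA)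
      obtain ⟨h1, h2, h3⟩ := hcc A hA hb
      have hcomm := h3 _ hyA
      obtain ⟨C, hC⟩ := QuotientGroup.mk'_surjective (Subgroup.center 𝔾₂) ((cc A : ↥G) : PG F 1)
      have hC' : (pi C : PG F 1) = cc A := hC
      have hf := fun Q => fpf_of_comm_good (y := y) (c := cc A) (Y := Y) rfl hgood h1 hy1 hcomm Q hC'
      have hnofix : ¬ ∃ P : Pts F 1, actP ((cc A : ↥G) : PG F 1) P = P := by
        rintro ⟨P, hP⟩
        exact hYfpf P ((hf P).1.mp hP)
      have hnt : ¬ TwoFix (cc A) := by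
        rintro ⟨Q, R, hQR, hQ, hR⟩
        exact hnofix ⟨Q, hQ⟩
      refine ⟨HH A, Finset.mem_image_of_mem _ (Finset.mem_filter.mpr ⟨hA, hb, hnt⟩), ?_⟩
      simp only [HH, dif_neg hnofix]
      rw [Subgroup.mem_centralizer_singleton_iff]
      obtain ⟨-, a, b, hab⟩ := hf (P₀ F 1)
      have hXC : (X : 𝕄₂) * C = C * X := by
        rw [hab]
        simp only [mul_add, add_mul, Matrix.mul_smul, Matrix.smul_mul, mul_one, one_mul, hXY]
      have hXC' : X * C = C * X := Units.ext hXC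
      apply Subtype.ext
      show (x : PG F 1) * cc A = cc A * x
      rw [← hX', ← hC', ← map_mul, ← map_mul, hXC']

end Two

/-- A cover of a group is a finite set of proper subgroups whose union is the whole group; it is minimal when no cover has fewer members, and nilpotent when all its members are nilpotent. Let F be a finite field with q elements and n ≥ 3, or n = 2 and q ≥ 4. Then no subgroup of PGL_n(F) = GL_n(F)/Z(GL_n(F)) containing the image of SL_n(F) has a nilpotent minimal cover. -/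
theorem result {F : Type*} [Field F] [Fintype F] (n : ℕ) (hn : 3 ≤ n ∨ (n = 2 ∧ 4 ≤ Fintype.card F))
    (G : Subgroup (GL (Fin n) F ⧸ Subgroup.center (GL (Fin n) F)))
    (hG : ((Matrix.SpecialLinearGroup.toGL : Matrix.SpecialLinearGroup (Fin n) F →* GL (Fin n) F).range).map
      (QuotientGroup.mk' (Subgroup.center (GL (Fin n) F))) ≤ G) :
    ¬ ∃ 𝓐 : Finset (Subgroup ↥G), ((∀ A ∈ 𝓐, A ≠ ⊤) ∧ (∀ g : ↥G, ∃ A ∈ 𝓐, g ∈ A)) ∧ (∀ 𝓑 : Finset (Subgroup ↥G), (∀ A ∈ 𝓑, A ≠ ⊤) ∧ (∀ g : ↥G, ∃ A ∈ 𝓑, g ∈ A) → 𝓐.card ≤ 𝓑.card) ∧ (∀ A ∈ 𝓐, Group.IsNilpotent ↥A) := by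
  rintro ⟨𝓐, ⟨hprop, hcov⟩, hmin, hnil⟩
  rcases hn with h3 | ⟨rfl, hq⟩
  · obtain ⟨m, rfl⟩ : ∃ m, n = m + 1 := ⟨n - 1, by omega⟩
    exact main_ge3 (m := m) (by omega) hG 𝓐 hprop hcov hmin hnil
  · exact main_two (F := F) hq hG 𝓐 hprop hcov hmin hnil

end Cfsg.Agent.S3894
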