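import Cfsg.Statements.S4085
import Mathlib

set_option autoImplicit false
open Cfsg

namespace Cfsg.Agent.S4085

open Nat (totient)

/-! ### A numeric inequality for the totient -/

theorem odd_aux : ∀ m : ℕ, Odd m → m ≠ 1 → m ≠ 3 → 2 * m ≤ totient m ^ 2 := by
  intro m
  induction m using Nat.recOnPosPrimePosCoprime with
  | zero => intro h; simp at h
  | one => intro _ h; exact absurd rfl h
  | prime_pow p n hp hn =>
    intro hodd _ h3
    have hpodd : Odd p := by
      rcases Nat.odd_pow_iff hn.ne' |>.1 hodd with h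
      exact h
    have hp3 : 3 ≤ p := by
      have h2 := hp.two_le
      rcases hpodd with ⟨k, hk⟩
      omega
    rw [Nat.totient_prime_pow hp hn]
    obtain ⟨k, rfl⟩ : ∃ k, n = k + 1 := ⟨n - 1, by omega⟩
    simp only [Nat.add_sub_cancel]
    obtain ⟨r, hr⟩ : ∃ r, p = r + 1 := ⟨p - 1, by omega⟩
    subst hr
    simp only [Nat.add_sub_cancel]
    have hr2 : 2 ≤ r := by omega
    rcases k with _ | k
    · simp only [zero_add, pow_one, pow_zero, one_mul] at *
      have hr4 : 4 ≤ r := by
        rcases hpodd with ⟨j, hj⟩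
        omega
      nlinarith
    · have h1 : (r + 1) ^ (k + 1 + 1) = (r + 1) ^ (k + 1) * (r + 1) := by ring
      have h2 : ((r + 1) ^ (k + 1) * r) ^ 2 = (r + 1) ^ (k + 1) * ((r + 1) ^ (k + 1) * r ^ 2) := by
        ring
      rw [h1, h2]
      have h3' : (r + 1) ^ 1 ≤ (r + 1) ^ (k + 1) := Nat.pow_le_pow_right (by omega) (by omega)
      have h4 : 2 * (r + 1) ≤ (r + 1) ^ (k + 1) * r ^ 2 := by
        have : (r + 1) * r ^ 2 ≤ (r + 1) ^ (k + 1) * r ^ 2 := by
          apply Nat.mul_le_mul_right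
          simpa using h3'
        nlinarith
      calc 2 * ((r + 1) ^ (k + 1) * (r + 1)) = (r + 1) ^ (k + 1) * (2 * (r + 1)) := by ring
        _ ≤ _ := Nat.mul_le_mul_left _ h4
  | coprime a b ha hb hab iha ihb =>
    intro hodd _ _
    have hoa : Odd a := (Nat.odd_mul.1 hodd).1
    have hob : Odd b := (Nat.odd_mul.1 hodd).2
    rw [Nat.totient_mul hab, mul_pow]
    by_cases ha3 : a = 3
    · subst ha3
      have hb3 : b ≠ 3 := by
        rintro rfl
        simp at hab
      have := ihb hob (by omega) hb3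
      have h3 : totient 3 = 2 := by decide
      rw [h3]
      nlinarith
    · by_cases hb3 : b = 3
      · subst hb3
        have := iha hoa (by omega) ha3
        have h3 : totient 3 = 2 := by decide
        rw [h3]
        nlinarith
      · have h1 := iha hoa (by omega) ha3
        have h2 := ihb hob (by omega) hb3
        have := Nat.mul_le_mul h1 h2
        nlinarith

theorem le_totient_sq (n : ℕ) (hn : 0 < n) : n ≤ totient n ^ 2 + totient n := by
  obtain ⟨k, m, hm, rfl⟩ := Nat.exists_eq_two_pow_mul_odd hn.ne'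
  have hcop : Nat.Coprime (2 ^ k) m := Nat.Coprime.pow_left _ (Nat.coprime_two_left.2 hm)
  rw [Nat.totient_mul hcop]
  rcases k with _ | k
  · simp only [pow_zero, one_mul, Nat.totient_one]
    by_cases h1 : m = 1
    · subst h1; simp
    by_cases h3 : m = 3
    · subst h3; decide
    have := odd_aux m hm h1 h3
    nlinarith
  · rw [Nat.totient_prime_pow Nat.prime_two (by omega : 0 < k + 1)]
    simp only [Nat.add_sub_cancel, show (2 - 1 : ℕ) = 1 from rfl, mul_one]
    by_cases h1 : m = 1
    · subst h1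
      simp only [mul_one, Nat.totient_one]
      rcases k with _ | k
      · norm_num
      · have : (2 : ℕ) ^ (k + 1 + 1) ≤ (2 ^ (k + 1)) ^ 2 := by
          rw [← pow_mul]
          exact Nat.pow_le_pow_right (by omega) (by omega)
        omega
    by_cases h3 : m = 3
    · subst h3
      have h3' : totient 3 = 2 := by decide
      rw [h3']
      have h5 : (0 : ℕ) < 2 ^ k := by positivity
      have e1 : (2 : ℕ) ^ (k + 1) = 2 * 2 ^ k := by ring
      rw [e1]
      nlinarith
    have h := odd_aux m hm h1 h3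
    have h5 : (0 : ℕ) < 2 ^ k := by positivity
    have e1 : (2 : ℕ) ^ (k + 1) = 2 * 2 ^ k := by ring
    rw [e1]
    have h6 : 2 ^ k * (2 * m) ≤ (2 ^ k) * (2 ^ k * totient m ^ 2) := by
      apply Nat.mul_le_mul_left
      have : 1 ≤ 2 ^ k := h5
      nlinarith
    nlinarith

/-! ### Cyclic groups -/

section Basic

variable {G : Type*} [Group G]

/-- comparability in the power graph -/
def Adj (x y : G) : Prop := x ∈ Subgroup.zpowers y ∨ y ∈ Subgroup.zpowers x

theorem Adj.symm {x y : G} (h : Adj x y) : Adj y x := Or.symm h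

theorem Adj.refl (x : G) : Adj x x := Or.inl (Subgroup.mem_zpowers x)

theorem cyc_mem {C : Type*} [Group C] [Finite C] [IsCyclic C] (a b : C)
    (h : orderOf a ∣ orderOf b) : a ∈ Subgroup.zpowers b := by
  classical
  haveI := Fintype.ofFinite C
  have hn : 0 < orderOf b := orderOf_pos b
  have h1 := IsCyclic.card_pow_eq_one_le (α := C) hn
  have hS : (Finset.univ.filter (fun x : C => x ∈ Subgroup.zpowers b)).card = orderOf b := by
    rw [← Nat.card_zpowers, Nat.card_eq_fintype_card, Fintype.card_subtype]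
  have hST : (Finset.univ.filter (fun x : C => x ∈ Subgroup.zpowers b)) ⊆
      (Finset.univ.filter (fun x : C => x ^ orderOf b = 1)) := by
    intro x hx
    simp only [Finset.mem_filter, Finset.mem_univ, true_and] at hx ⊢
    obtain ⟨k, rfl⟩ := hx
    simp only [← zpow_natCast, ← zpow_mul]
    rw [mul_comm, zpow_mul, zpow_natCast, pow_orderOf_eq_one, one_zpow]
  have heq := Finset.eq_of_subset_of_card_le hST (by rw [hS]; exact h1)
  have ha : a ∈ Finset.univ.filter (fun x : C => x ^ orderOf b = 1) := by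
    simp only [Finset.mem_filter, Finset.mem_univ, true_and]
    exact orderOf_dvd_iff_pow_eq_one.1 h
  rw [← heq] at ha
  simpa using ha

variable [Finite G]

theorem mem_of_dvd {g a b : G} (ha : a ∈ Subgroup.zpowers g) (hb : b ∈ Subgroup.zpowers g)
    (h : orderOf a ∣ orderOf b) : a ∈ Subgroup.zpowers b := by
  have h' : orderOf (⟨a, ha⟩ : Subgroup.zpowers g) ∣ orderOf (⟨b, hb⟩ : Subgroup.zpowers g) := by
    simpa [Subgroup.orderOf_mk] using h
  obtain ⟨k, hk⟩ := Subgroup.mem_zpowers_iff.1 (cyc_mem _ _ h')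
  refine ⟨k, ?_⟩
  have := congrArg Subtype.val hk
  simpa using this

theorem adj_iff {g a b : G} (ha : a ∈ Subgroup.zpowers g) (hb : b ∈ Subgroup.zpowers g) :
    Adj a b ↔ orderOf a ∣ orderOf b ∨ orderOf b ∣ orderOf a := by
  constructor
  · rintro (h | h)
    · exact Or.inl (orderOf_dvd_of_mem_zpowers h)
    · exact Or.inr (orderOf_dvd_of_mem_zpowers h)
  · rintro (h | h)
    · exact Or.inl (mem_of_dvd ha hb h)
    · exact Or.inr (mem_of_dvd hb ha h)

/-- element of `⟨g⟩` of order `d`. -/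
theorem exists_order (g : G) {d : ℕ} (hd : d ∣ orderOf g) :
    ∃ y ∈ Subgroup.zpowers g, orderOf y = d := by
  refine ⟨g ^ (orderOf g / d), Subgroup.npow_mem_zpowers g _, ?_⟩
  exact orderOf_pow_orderOf_div (orderOf_pos g).ne' hd

theorem card_gen (g : G) {d : ℕ} (hd : d ∣ orderOf g) :
    Nat.card {y : G // y ∈ Subgroup.zpowers g ∧ orderOf y = d} = totient d := by
  classical
  haveI : Fintype (Subgroup.zpowers g) := Fintype.ofFinite _
  have hd' : d ∣ Fintype.card (Subgroup.zpowers g) := by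
    rw [← Nat.card_eq_fintype_card, Nat.card_zpowers]; exact hd
  rw [← IsCyclic.card_orderOf_eq_totient hd']
  rw [← Fintype.card_subtype, ← Nat.card_eq_fintype_card]
  apply Nat.card_congr
  refine ⟨fun y => ⟨⟨y.1, y.2.1⟩, by simpa [Subgroup.orderOf_mk] using y.2.2⟩,
    fun y => ⟨y.1.1, y.1.2, by simpa [Subgroup.orderOf_mk] using y.2⟩, ?_, ?_⟩
  · intro y; rfl
  · intro y; rfl

end Basic

section Main

variable {G : Type*} [Group G] [Finite G]

/-- a generator of the Sylow `τ`-subgroup of `⟨g⟩`. -/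
noncomputable def syl (g : G) (τ : ℕ) : G :=
  g ^ (orderOf g / τ ^ (orderOf g).factorization τ)

theorem syl_mem (g : G) (τ : ℕ) : syl g τ ∈ Subgroup.zpowers g :=
  Subgroup.npow_mem_zpowers g _

theorem orderOf_syl (g : G) (τ : ℕ) :
    orderOf (syl g τ) = τ ^ (orderOf g).factorization τ :=
  orderOf_pow_orderOf_div (orderOf_pos g).ne' (Nat.ordProj_dvd _ _)

/-- Two primes dividing `m`: the structure needed. -/
structure TwoPrimes (g : G) (p q : ℕ) : Prop where
  hp : p.Prime
  hq : q.Prime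
  hpq : p ≠ q
  hd : p * q ∣ orderOf g

namespace TwoPrimes

variable {g : G} {p q : ℕ} (T : TwoPrimes g p q)
include T

theorem p_dvd : p ∣ orderOf g := dvd_trans (dvd_mul_right _ _) T.hd
theorem q_dvd : q ∣ orderOf g := dvd_trans (dvd_mul_left _ _) T.hd

theorem exists_other (ρ : ℕ) : ∃ σ : ℕ, σ.Prime ∧ σ ∣ orderOf g ∧ σ ≠ ρ := by
  by_cases h : p = ρ
  · exact ⟨q, T.hq, T.q_dvd, fun h' => T.hpq (h.trans h'.symm)⟩
  · exact ⟨p, T.hp, T.p_dvd, h⟩

theorem fact_pos {τ : ℕ} (hτ : τ.Prime) (hd : τ ∣ orderOf g) :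
    (orderOf g).factorization τ ≠ 0 := by
  have := hτ.factorization_pos_of_dvd (orderOf_pos g).ne' hd
  omega

theorem orderOf_syl_ne_one {τ : ℕ} (hτ : τ.Prime) (hd : τ ∣ orderOf g) :
    orderOf (syl g τ) ≠ 1 := by
  rw [orderOf_syl]
  intro h
  rcases pow_eq_one_iff.1 h with h' | h'
  · exact hτ.one_lt.ne' h'
  · exact T.fact_pos hτ hd h'

theorem orderOf_syl_ne {τ : ℕ} (hτ : τ.Prime) (hd : τ ∣ orderOf g) :
    orderOf (syl g τ) ≠ orderOf g := by
  rw [orderOf_syl]
  intro h
  have h1 : p ∣ τ ^ (orderOf g).factorization τ := by rw [h]; exact T.p_dvd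
  have h2 : q ∣ τ ^ (orderOf g).factorization τ := by rw [h]; exact T.q_dvd
  have e1 := (Nat.prime_dvd_prime_iff_eq T.hp hτ).1 (T.hp.dvd_of_dvd_pow h1)
  have e2 := (Nat.prime_dvd_prime_iff_eq T.hq hτ).1 (T.hq.dvd_of_dvd_pow h2)
  exact T.hpq (e1.trans e2.symm)

omit T in
theorem not_adj_syl {ρ σ : ℕ} (hρ : ρ.Prime) (hσ : σ.Prime) (hne : ρ ≠ σ)
    (h1 : (orderOf g).factorization ρ ≠ 0) (h2 : (orderOf g).factorization σ ≠ 0) :
    ¬ Adj (syl g ρ) (syl g σ) := by
  rw [adj_iff (syl_mem g ρ) (syl_mem g σ), orderOf_syl, orderOf_syl]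
  rintro (h | h)
  · have := hρ.dvd_of_dvd_pow (dvd_trans (dvd_pow_self ρ h1) h)
    exact hne ((Nat.prime_dvd_prime_iff_eq hρ hσ).1 this)
  · have := hσ.dvd_of_dvd_pow (dvd_trans (dvd_pow_self σ h2) h)
    exact hne ((Nat.prime_dvd_prime_iff_eq hσ hρ).1 this).symm

/-- A non-dominating element of `⟨g⟩` is non-adjacent to some Sylow generator. -/
theorem exists_not_adj {y : G} (hy : y ∈ Subgroup.zpowers g) (h1 : orderOf y ≠ 1)
    (hm : orderOf y ≠ orderOf g) :
    ∃ τ : ℕ, τ.Prime ∧ τ ∣ orderOf g ∧ ¬ Adj y (syl g τ) := by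
  have hdvd := orderOf_dvd_of_mem_zpowers hy
  obtain ⟨c, hc⟩ := hdvd
  have hc1 : c ≠ 1 := by
    rintro rfl
    exact hm (by simpa using hc.symm)
  set ρ := c.minFac with hρdef
  have hρ : ρ.Prime := Nat.minFac_prime hc1
  have hρc : ρ ∣ c := Nat.minFac_dvd c
  have hρm : ρ ∣ orderOf g := hc ▸ dvd_mul_of_dvd_right hρc _
  by_cases hadj : Adj y (syl g ρ)
  · rw [adj_iff hy (syl_mem g ρ), orderOf_syl] at hadj
    have hd : orderOf y ∣ ρ ^ (orderOf g).factorization ρ := by
      rcases hadj with h | h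
      · exact h
      · exfalso
        have h3 : ρ ^ ((orderOf g).factorization ρ + 1) ∣ orderOf g := by
          rw [pow_succ]
          have : ρ ^ (orderOf g).factorization ρ * ρ ∣ orderOf y * c :=
            Nat.mul_dvd_mul h hρc
          rwa [← hc] at this
        exact Nat.pow_succ_factorization_not_dvd (orderOf_pos g).ne' hρ h3
    obtain ⟨k, -, hk⟩ := (Nat.dvd_prime_pow hρ).1 hd
    have hk0 : k ≠ 0 := by
      rintro rfl
      exact h1 (by simpa using hk)
    obtain ⟨σ, hσ, hσd, hσρ⟩ := T.exists_other ρ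
    refine ⟨σ, hσ, hσd, ?_⟩
    rw [adj_iff hy (syl_mem g σ), orderOf_syl, hk]
    have h0 := T.fact_pos hσ hσd
    rintro (h | h)
    · have := hρ.dvd_of_dvd_pow (dvd_trans (dvd_pow_self ρ hk0) h)
      exact hσρ ((Nat.prime_dvd_prime_iff_eq hρ hσ).1 this).symm
    · have := hσ.dvd_of_dvd_pow (dvd_trans (dvd_pow_self σ h0) h)
      exact hσρ ((Nat.prime_dvd_prime_iff_eq hσ hρ).1 this)
  · exact ⟨ρ, hρ, hρm, hadj⟩

/-- Dominators of `⟨g⟩` -/
theorem dom_of_all {y : G} (hy : y ∈ Subgroup.zpowers g)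
    (hall : ∀ z ∈ Subgroup.zpowers g, Adj y z) : orderOf y = 1 ∨ orderOf y = orderOf g := by
  by_contra hcon
  push Not at hcon
  obtain ⟨τ, -, -, hτ⟩ := T.exists_not_adj hy hcon.1 hcon.2
  exact hτ (hall _ (syl_mem g τ))

omit T in
/-- Conversely. -/
theorem all_of_dom {y : G} (hy : y ∈ Subgroup.zpowers g) (h : orderOf y = 1 ∨ orderOf y = orderOf g) :
    ∀ z ∈ Subgroup.zpowers g, Adj y z := by
  intro z hz
  rw [adj_iff hy hz]
  rcases h with h | h
  · left; rw [h]; exact one_dvd _
  · right; rw [h]; exact orderOf_dvd_of_mem_zpowers hz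

/-- No-join lemma. -/
theorem no_join (X Y : G → Prop)
    (hXY : ∀ y ∈ Subgroup.zpowers g, orderOf y ≠ 1 → orderOf y ≠ orderOf g → X y ∨ Y y)
    (hX : ∀ y, X y → y ∈ Subgroup.zpowers g ∧ orderOf y ≠ 1 ∧ orderOf y ≠ orderOf g)
    (hY : ∀ y, Y y → y ∈ Subgroup.zpowers g ∧ orderOf y ≠ 1 ∧ orderOf y ≠ orderOf g)
    (hcross : ∀ a b, X a → Y b → Adj a b) : (∀ y, ¬ X y) ∨ (∀ y, ¬ Y y) := by
  by_contra hcon
  push Not at hcon
  obtain ⟨⟨a, ha⟩, ⟨b, hb⟩⟩ := hcon
  obtain ⟨ha1, ha2, ha3⟩ := hX a ha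
  obtain ⟨hb1, hb2, hb3⟩ := hY b hb
  obtain ⟨τa, hτa, hτad, hna⟩ := T.exists_not_adj ha1 ha2 ha3
  obtain ⟨τb, hτb, hτbd, hnb⟩ := T.exists_not_adj hb1 hb2 hb3
  have hsa : X (syl g τa) := by
    rcases hXY _ (syl_mem g τa) (T.orderOf_syl_ne_one hτa hτad) (T.orderOf_syl_ne hτa hτad) with h | h
    · exact h
    · exact absurd (hcross a _ ha h) hna
  have hsb : Y (syl g τb) := by
    rcases hXY _ (syl_mem g τb) (T.orderOf_syl_ne_one hτb hτbd) (T.orderOf_syl_ne hτb hτbd) with h | h
    · exact absurd (Adj.symm (hcross _ b h hb)) hnb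
    · exact h
  have hadj := hcross _ _ hsa hsb
  by_cases he : τa = τb
  · subst he
    exact hnb (Adj.symm (hcross _ b hsa hb))
  · exact not_adj_syl hτa hτb he (T.fact_pos hτa hτad) (T.fact_pos hτb hτbd) hadj

/-- The twin lemma: in `⟨g⟩` an element of prime order `ρ` has only twins of order `ρ`. -/
theorem twin_order {ρ : ℕ} (hρ : ρ.Prime) (hρm : ρ = p ∨ ρ = q) {y y' : G}
    (hy : y ∈ Subgroup.zpowers g) (hy' : y' ∈ Subgroup.zpowers g) (ho : orderOf y = ρ)
    (htw : ∀ z : G, Adj y' z ↔ Adj y z) : orderOf y' = ρ := by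
  have hρdvd : ρ ∣ orderOf g := by
    rcases hρm with h | h
    · rw [h]; exact T.p_dvd
    · rw [h]; exact T.q_dvd
  -- the other prime
  obtain ⟨σ, hσ, hσρ, hpd⟩ : ∃ σ : ℕ, σ.Prime ∧ σ ≠ ρ ∧ ρ * σ ∣ orderOf g := by
    rcases hρm with h | h
    · exact ⟨q, T.hq, fun h' => T.hpq (h.symm.trans h'.symm), h ▸ T.hd⟩
    · exact ⟨p, T.hp, fun h' => T.hpq (h'.trans h), h ▸ (mul_comm p q ▸ T.hd)⟩
  have hσdvd : σ ∣ orderOf g := dvd_trans (dvd_mul_left _ _) hpd
  have h0 := (htw y').1 (Adj.refl y')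
  rw [adj_iff hy hy', ho] at h0
  rcases h0 with h0 | h0
  · -- ρ ∣ o(y')
    by_contra hne
    obtain ⟨c, hc⟩ := h0
    have hc1 : c ≠ 1 := by
      rintro rfl
      exact hne (by simpa using hc)
    by_cases hcρ : ∃ τ : ℕ, τ.Prime ∧ τ ≠ ρ ∧ τ ∣ c
    · obtain ⟨τ, hτ, hτρ, hτc⟩ := hcρ
      have hτo : τ ∣ orderOf y' := hc ▸ dvd_mul_of_dvd_right hτc _
      obtain ⟨z, hz, hzo⟩ := exists_order g (dvd_trans hτo (orderOf_dvd_of_mem_zpowers hy'))
      have h1 : Adj y' z := by
        rw [adj_iff hy' hz, hzo]; exact Or.inr hτo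
      have h2 := (htw z).1 h1
      rw [adj_iff hy hz, hzo, ho] at h2
      rcases h2 with h2 | h2
      · exact hτρ ((Nat.prime_dvd_prime_iff_eq hρ hτ).1 h2).symm
      · exact hτρ ((Nat.prime_dvd_prime_iff_eq hτ hρ).1 h2)
    · -- c is a power of ρ, hence o(y') = ρ^j, j ≥ 2
      push Not at hcρ
      have hρc : ρ ∣ c := by
        have := Nat.minFac_dvd c
        by_contra hnd
        have hne' : c.minFac ≠ ρ := by
          intro h; rw [h] at this; exact hnd this
        exact hcρ _ (Nat.minFac_prime hc1) hne' (Nat.minFac_dvd c)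
      obtain ⟨z, hz, hzo⟩ := exists_order g hpd
      have h1 : Adj y z := by
        rw [adj_iff hy hz, hzo, ho]; exact Or.inl (dvd_mul_right _ _)
      have h2 := (htw z).2 h1
      rw [adj_iff hy' hz, hzo] at h2
      have hoy : ρ * ρ ∣ orderOf y' := hc ▸ Nat.mul_dvd_mul_left ρ hρc
      rcases h2 with h2 | h2
      · have h3 : ρ * ρ ∣ ρ * σ := dvd_trans hoy h2
        have h4 : ρ ∣ σ := Nat.dvd_of_mul_dvd_mul_left hρ.pos h3
        exact hσρ ((Nat.prime_dvd_prime_iff_eq hρ hσ).1 h4).symm
      · -- σ ∣ o(y') = ρ c, so σ ∣ c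
        have h3 : σ ∣ orderOf y' := dvd_trans (dvd_mul_left _ _) h2
        rw [hc] at h3
        rcases (Nat.Prime.dvd_mul hσ).1 h3 with h4 | h4
        · exact hσρ ((Nat.prime_dvd_prime_iff_eq hσ hρ).1 h4)
        · exact hcρ σ hσ hσρ h4
  · -- o(y') ∣ ρ
    rcases (Nat.dvd_prime hρ).1 h0 with h | h
    · -- y' = 1
      exfalso
      have hy1 : y' = 1 := orderOf_eq_one_iff.1 h
      obtain ⟨z, hz, hzo⟩ := exists_order g hσdvd
      have h1 : Adj y' z := by
        rw [hy1]; exact Or.inl (one_mem _)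
      have h2 := (htw z).1 h1
      rw [adj_iff hy hz, hzo, ho] at h2
      rcases h2 with h2 | h2
      · exact hσρ ((Nat.prime_dvd_prime_iff_eq hρ hσ).1 h2).symm
      · exact hσρ ((Nat.prime_dvd_prime_iff_eq hσ hρ).1 h2)
    · exact h

end TwoPrimes

end Main

section Transfer

variable {G H : Type*} [Group G] [Finite G] [Group H] [Finite H]

theorem zpowers_eq_of_mem_of_order {u u' : H} (h : u' ∈ Subgroup.zpowers u)
    (ho : orderOf u' = orderOf u) : Subgroup.zpowers u' = Subgroup.zpowers u := by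
  apply Subgroup.eq_of_le_of_card_ge ((Subgroup.zpowers_le).2 h)
  rw [Nat.card_zpowers, Nat.card_zpowers, ho]

theorem adj_congr {u u' : H} (h : Subgroup.zpowers u' = Subgroup.zpowers u) (z : H) :
    Adj u' z ↔ Adj u z := by
  have h1 : u' ∈ Subgroup.zpowers u := h ▸ Subgroup.mem_zpowers u'
  have h2 : u ∈ Subgroup.zpowers u' := h ▸ Subgroup.mem_zpowers u
  unfold Adj
  rw [h]
  constructor
  · rintro (h3 | h3)
    · exact Or.inl ((Subgroup.zpowers_le.2 h3) h2)
    · exact Or.inr h3
  · rintro (h3 | h3)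
    · exact Or.inl ((Subgroup.zpowers_le.2 h3) h1)
    · exact Or.inr h3

/-- The main lemma -/
theorem main (e : G ≃ H) (he : ∀ x y : G, Adj x y ↔ Adj (e x) (e y))
    {p q : ℕ} (g : G) (T : TwoPrimes g p q)
    (htop : ∀ z : G, g ∈ Subgroup.zpowers z → z ∈ Subgroup.zpowers g) :
    ∃ h : H, p * q ∣ orderOf h := by
  classical
  -- neighbours of g lie in ⟨g⟩
  have hng : ∀ y : G, Adj y g → y ∈ Subgroup.zpowers g := by
    rintro y (h | h)
    · exact h
    · exact htop y h
  -- the dominator set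
  let D : Set H := {w | ∀ z ∈ Subgroup.zpowers g, Adj w (e z)}
  have hxD : e g ∈ D := by
    intro z hz
    exact (he g z).1 (Or.inr hz)
  have hDfin : D.Finite := Set.toFinite D
  obtain ⟨x', hx'D, hx'max⟩ := Set.exists_max_image D (fun w => orderOf w) hDfin ⟨_, hxD⟩
  -- dominators are in ⟨g⟩ on the G side
  have hDpre : ∀ w ∈ D, e.symm w ∈ Subgroup.zpowers g := by
    intro w hw
    apply hng
    rw [he, e.apply_symm_apply]
    exact hw g (Subgroup.mem_zpowers g)
  have hDdom : ∀ w ∈ D, orderOf (e.symm w) = 1 ∨ orderOf (e.symm w) = orderOf g := by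
    intro w hw
    apply T.dom_of_all (hDpre w hw)
    intro z hz
    rw [he, e.apply_symm_apply]
    exact hw z hz
  have hDle : ∀ w ∈ D, w ∈ Subgroup.zpowers x' := by
    intro w hw
    have h1 := hx'D _ (hDpre w hw)
    rw [e.apply_symm_apply] at h1
    rcases h1 with h1 | h1
    · have h2 := hx'max w hw
      have h3 : orderOf x' ∣ orderOf w := orderOf_dvd_of_mem_zpowers h1
      have h4 : orderOf x' = orderOf w := le_antisymm (Nat.le_of_dvd (orderOf_pos _) h3) h2
      rw [zpowers_eq_of_mem_of_order h1 h4]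
      exact Subgroup.mem_zpowers w
    · exact h1
  have hdomD : ∀ y ∈ Subgroup.zpowers g, (orderOf y = 1 ∨ orderOf y = orderOf g) → e y ∈ D := by
    intro y hy hd z hz
    exact (he y z).1 (TwoPrimes.all_of_dom hy hd z hz)
  -- the two sides
  let X : G → Prop := fun y => y ∈ Subgroup.zpowers g ∧ orderOf y ≠ 1 ∧ orderOf y ≠ orderOf g ∧
    e y ∈ Subgroup.zpowers x'
  let Y : G → Prop := fun y => y ∈ Subgroup.zpowers g ∧ orderOf y ≠ 1 ∧ orderOf y ≠ orderOf g ∧
    x' ∈ Subgroup.zpowers (e y)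
  have hjoin := T.no_join X Y
    (by
      intro y hy h1 h2
      rcases hx'D y hy with h3 | h3
      · exact Or.inr ⟨hy, h1, h2, h3⟩
      · exact Or.inl ⟨hy, h1, h2, h3⟩)
    (fun y h => ⟨h.1, h.2.1, h.2.2.1⟩)
    (fun y h => ⟨h.1, h.2.1, h.2.2.1⟩)
    (by
      intro a b ha hb
      rw [he]
      left
      exact (Subgroup.zpowers_le.2 hb.2.2.2) ha.2.2.2)
  have hdiv : p * q ∣ orderOf g := T.hd
  rcases hjoin with hX0 | hY0
  · -- numeric contradiction
    exfalso
    set n := orderOf x' with hn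
    have hmpos : 0 < orderOf g := orderOf_pos g
    -- the bound for ρ
    have hbound : ∀ ρ : ℕ, ρ.Prime → (ρ = p ∨ ρ = q) → totient n ≤ ρ - 1 := by
      intro ρ hρ hρm
      have hρdvd : ρ ∣ orderOf g := by
        rcases hρm with h | h
        · rw [h]; exact T.p_dvd
        · rw [h]; exact T.q_dvd
      obtain ⟨y, hy, hyo⟩ := exists_order g hρdvd
      have hy1 : orderOf y ≠ 1 := by rw [hyo]; exact hρ.one_lt.ne'
      have hym : orderOf y ≠ orderOf g := by
        rw [hyo]
        intro hh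
        have h1 : p ∣ ρ := by rw [hh]; exact T.p_dvd
        have h2 : q ∣ ρ := by rw [hh]; exact T.q_dvd
        have e1 := (Nat.prime_dvd_prime_iff_eq T.hp hρ).1 h1
        have e2 := (Nat.prime_dvd_prime_iff_eq T.hq hρ).1 h2
        exact T.hpq (e1.trans e2.symm)
      have hxu : x' ∈ Subgroup.zpowers (e y) := by
        rcases hx'D y hy with h3 | h3
        · exact h3
        · exact absurd ⟨hy, hy1, hym, h3⟩ (hX0 y)
      have hdu : n ∣ orderOf (e y) := orderOf_dvd_of_mem_zpowers hxu
      have h1 : totient n ≤ totient (orderOf (e y)) :=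
        Nat.le_of_dvd (Nat.totient_pos.2 (orderOf_pos _)) (Nat.totient_dvd_of_dvd hdu)
      have h2 : totient (orderOf (e y)) ≤ ρ - 1 := by
        rw [← card_gen (e y) (dvd_refl _), ← Nat.totient_prime hρ, ← card_gen g hρdvd]
        let φ : {u' : H // u' ∈ Subgroup.zpowers (e y) ∧ orderOf u' = orderOf (e y)} →
            {y' : G // y' ∈ Subgroup.zpowers g ∧ orderOf y' = ρ} := fun u' =>
          ⟨e.symm u'.1, by
            have hz := zpowers_eq_of_mem_of_order u'.2.1 u'.2.2
            have htw : ∀ z : G, Adj (e.symm u'.1) z ↔ Adj y z := by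
              intro z
              rw [he, e.apply_symm_apply, he y z]
              exact adj_congr hz (e z)
            have hmem : e.symm u'.1 ∈ Subgroup.zpowers g :=
              hng _ ((htw g).2 (Or.inl hy))
            exact ⟨hmem, T.twin_order hρ hρm hy hmem hyo htw⟩⟩
        apply Nat.card_le_card_of_injective φ
        intro a b hab
        have := congrArg Subtype.val hab
        exact Subtype.ext (e.symm.injective this)
      exact h1.trans h2
    have hp1 := hbound p T.hp (Or.inl rfl)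
    have hq1 := hbound q T.hq (Or.inr rfl)
    -- the count
    have hcount : totient (orderOf g) + 1 ≤ n := by
      rw [← card_gen g (dvd_refl _), ← Finite.card_option, hn, ← Nat.card_zpowers x']
      let φ : Option {y : G // y ∈ Subgroup.zpowers g ∧ orderOf y = orderOf g} →
          Subgroup.zpowers x' := fun o =>
        match o with
        | none => ⟨e 1, hDle _ (hdomD 1 (one_mem _) (Or.inl orderOf_one))⟩
        | some y => ⟨e y.1, hDle _ (hdomD y.1 y.2.1 (Or.inr y.2.2))⟩
      apply Nat.card_le_card_of_injective φ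
      have hm1 : orderOf g ≠ 1 := by
        intro hh
        have : p ∣ 1 := hh ▸ T.p_dvd
        exact T.hp.one_lt.ne' (Nat.dvd_one.1 this)
      rintro (_ | a) (_ | b) hab
      · rfl
      · exfalso
        have h0 : e 1 = e b.1 := congrArg Subtype.val hab
        have h1 : (1 : G) = b.1 := e.injective h0
        have h2 := b.2.2
        rw [← h1, orderOf_one] at h2
        exact hm1 h2.symm
      · exfalso
        have h0 : e a.1 = e 1 := congrArg Subtype.val hab
        have h1 : a.1 = 1 := e.injective h0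
        have h2 := a.2.2
        rw [h1, orderOf_one] at h2
        exact hm1 h2.symm
      · have h0 : e a.1 = e b.1 := congrArg Subtype.val hab
        exact congrArg some (Subtype.ext (e.injective h0))
    have htot : (p - 1) * (q - 1) ≤ totient (orderOf g) := by
      have hcop : Nat.Coprime p q := (Nat.coprime_primes T.hp T.hq).2 T.hpq
      have h1 : totient (p * q) = (p - 1) * (q - 1) := by
        rw [Nat.totient_mul hcop, Nat.totient_prime T.hp, Nat.totient_prime T.hq]
      rw [← h1]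
      exact Nat.le_of_dvd (Nat.totient_pos.2 hmpos) (Nat.totient_dvd_of_dvd T.hd)
    have hE := le_totient_sq n (orderOf_pos x')
    set f := totient n with hf
    have hne : p - 1 ≠ q - 1 := by
      have h1 := T.hp.one_lt
      have h2 := T.hq.one_lt
      have := T.hpq
      omega
    have hmul : f * (f + 1) ≤ (p - 1) * (q - 1) := by
      rcases lt_or_gt_of_ne hne with h | h
      · exact Nat.mul_le_mul hp1 (by omega)
      · calc f * (f + 1) ≤ (q - 1) * (p - 1) := Nat.mul_le_mul hq1 (by omega)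
          _ = _ := Nat.mul_comm _ _
    nlinarith
  · -- all of e(M) lies in ⟨x'⟩
    have hall : ∀ y ∈ Subgroup.zpowers g, e y ∈ Subgroup.zpowers x' := by
      intro y hy
      by_cases hd : orderOf y = 1 ∨ orderOf y = orderOf g
      · exact hDle _ (hdomD y hy hd)
      · push Not at hd
        rcases hx'D y hy with h3 | h3
        · exact absurd ⟨hy, hd.1, hd.2, h3⟩ (hY0 y)
        · exact h3
    refine ⟨x', ?_⟩
    rcases hDdom x' hx'D with hv | hv
    · -- e⁻¹ x' = 1: x' generates H
      have hv1 : e.symm x' = 1 := orderOf_eq_one_iff.1 hv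
      have hgen : ∀ w : H, w ∈ Subgroup.zpowers x' := by
        intro w
        have h1 : Adj (e.symm x') (e.symm w) := by
          rw [hv1]; exact Or.inl (one_mem _)
        rw [he, e.apply_symm_apply, e.apply_symm_apply] at h1
        rcases h1 with h1 | h1
        · have h2 : e g ∈ Subgroup.zpowers x' := hDle _ hxD
          have h3 : e g ∈ Subgroup.zpowers w := (Subgroup.zpowers_le.2 h1) h2
          have h4 : Adj (e g) (e (e.symm w)) := by
            rw [e.apply_symm_apply]; exact Or.inl h3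
          rw [← he] at h4
          have h5 := hall _ (hng _ (Adj.symm h4))
          rwa [e.apply_symm_apply] at h5
        · exact h1
      rw [orderOf_eq_card_of_forall_mem_zpowers hgen, ← Nat.card_congr e]
      exact dvd_trans T.hd (orderOf_dvd_natCard g)
    · -- e⁻¹ x' generates ⟨g⟩
      have hvm := hDpre x' hx'D
      have hz := zpowers_eq_of_mem_of_order hvm hv
      have hback : ∀ w ∈ Subgroup.zpowers x', e.symm w ∈ Subgroup.zpowers g := by
        intro w hw
        have h1 : Adj (e.symm w) (e.symm x') := by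
          rw [he, e.apply_symm_apply, e.apply_symm_apply]
          exact Or.inl hw
        have h2 := (adj_congr hz (e.symm w)).1 (Adj.symm h1)
        exact hng _ (Adj.symm h2)
      have hle1 : Nat.card (Subgroup.zpowers g) ≤ Nat.card (Subgroup.zpowers x') := by
        apply Nat.card_le_card_of_injective
          (fun y : Subgroup.zpowers g => (⟨e y.1, hall y.1 y.2⟩ : Subgroup.zpowers x'))
        intro a b hab
        have h0 : e a.1 = e b.1 := congrArg Subtype.val hab
        exact Subtype.ext (e.injective h0)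
      have hle2 : Nat.card (Subgroup.zpowers x') ≤ Nat.card (Subgroup.zpowers g) := by
        apply Nat.card_le_card_of_injective
          (fun w : Subgroup.zpowers x' => (⟨e.symm w.1, hback w.1 w.2⟩ : Subgroup.zpowers g))
        intro a b hab
        have h0 : e.symm a.1 = e.symm b.1 := congrArg Subtype.val hab
        exact Subtype.ext (e.symm.injective h0)
      rw [Nat.card_zpowers, Nat.card_zpowers] at hle1 hle2
      rw [le_antisymm hle2 hle1]
      exact T.hd

/-- One direction of the main theorem. -/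
theorem one_dir (e : G ≃ H) (he : ∀ x y : G, Adj x y ↔ Adj (e x) (e y))
    {p q : ℕ} (hp : p.Prime) (hq : q.Prime) (hpq : p ≠ q)
    (h : ∃ g : G, orderOf g = p * q) : ∃ h : H, orderOf h = p * q := by
  obtain ⟨g₀, hg₀⟩ := h
  obtain ⟨g, hg, hmax⟩ := Set.exists_max_image {z : G | g₀ ∈ Subgroup.zpowers z}
    (fun z => orderOf z) (Set.toFinite _) ⟨g₀, Subgroup.mem_zpowers g₀⟩
  have hg' : g₀ ∈ Subgroup.zpowers g := hg
  have T : TwoPrimes g p q := ⟨hp, hq, hpq, hg₀ ▸ orderOf_dvd_of_mem_zpowers hg'⟩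
  have htop : ∀ z : G, g ∈ Subgroup.zpowers z → z ∈ Subgroup.zpowers g := by
    intro z hz
    have h1 : g₀ ∈ Subgroup.zpowers z := (Subgroup.zpowers_le.2 hz) hg'
    have h2 := hmax z h1
    have h3 : orderOf g ∣ orderOf z := orderOf_dvd_of_mem_zpowers hz
    have h4 : orderOf g = orderOf z := le_antisymm (Nat.le_of_dvd (orderOf_pos _) h3) h2
    rw [zpowers_eq_of_mem_of_order hz h4]
    exact Subgroup.mem_zpowers z
  obtain ⟨h, hh⟩ := main e he g T htop
  exact ⟨h ^ (orderOf h / (p * q)), orderOf_pow_orderOf_div (orderOf_pos h).ne' hh⟩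

end Transfer

/-- Let G and H be finite groups whose power graphs are isomorphic: there is a bijection e : G → H such that, for all x, y, one of x, y is a power of the other exactly when one of e(x), e(y) is a power of the other. Then G and H have the same prime graph: for distinct primes p, q, G has an element of order pq if and only if H does. -/
theorem result {G H : Type*} [Group G] [Finite G] [Group H] [Finite H] (e : G ≃ H)
    (he : ∀ x y : G, (x ∈ Subgroup.zpowers y ∨ y ∈ Subgroup.zpowers x) ↔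
      (e x ∈ Subgroup.zpowers (e y) ∨ e y ∈ Subgroup.zpowers (e x)))
    {p q : ℕ} (hp : p.Prime) (hq : q.Prime) (hpq : p ≠ q) :
    (∃ g : G, orderOf g = p * q) ↔ (∃ h : H, orderOf h = p * q) := by
  constructor
  · exact one_dir e he hp hq hpq
  · apply one_dir e.symm _ hp hq hpq
    intro x y
    have := he (e.symm x) (e.symm y)
    rw [e.apply_symm_apply, e.apply_symm_apply] at this
    exact this.symm

end Cfsg.Agent.S4085
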