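import Cfsg.Statements.S4022
import Cfsg.Agent.Lib.Coprime.SZ
import Cfsg.Agent.Lib.Solvable.MinimalNormal
import Cfsg.Agent.S4085

set_option autoImplicit false
open Cfsg

namespace Cfsg.Agent.S4022

open Pointwise Cfsg.Agent.Lib.Coprime.SZ Cfsg.Agent.Lib.Solvable.MinimalNormal

universe u

section Helpers

variable {G : Type u} [Group G] [Finite G]

/-- Complement of `H ⊓ N` in `H`. -/
theorem exists_compl (N H : Subgroup G) [hN : N.Normal]
    (hcop : (Nat.card (H ⊓ N : Subgroup G)).Coprime (Nat.card H / Nat.card (H ⊓ N : Subgroup G))) :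
    ∃ H' : Subgroup G, H' ≤ H ∧ Nat.card H' = Nat.card H / Nat.card (H ⊓ N : Subgroup G) ∧
      (H ⊓ N) ⊔ H' = H := by
  let A₀ : Subgroup H := N.subgroupOf H
  haveI : A₀.Normal := inferInstance
  have hc0 : Nat.card A₀ = Nat.card (H ⊓ N : Subgroup G) := by
    rw [card_subgroupOf_eq_card_inf, inf_comm]
  have hidx : A₀.index = Nat.card H / Nat.card (H ⊓ N : Subgroup G) := by
    have h1 := Subgroup.card_mul_index A₀
    rw [hc0] at h1
    have hpos : 0 < Nat.card (H ⊓ N : Subgroup G) := Nat.card_pos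
    exact (Nat.div_eq_of_eq_mul_right hpos h1.symm).symm
  have hcop' : (Nat.card A₀).Coprime A₀.index := by
    rw [hc0, hidx]; exact hcop
  obtain ⟨C, hC⟩ := Subgroup.exists_right_complement'_of_coprime hcop'
  refine ⟨C.map H.subtype, ?_, ?_, ?_⟩
  · rintro x ⟨y, -, rfl⟩
    exact y.2
  · rw [Nat.card_congr (Subgroup.equivMapOfInjective C H.subtype H.subtype_injective).symm.toEquiv,
      ← hidx]
    exact hC.symm.index_eq_card.symm
  · have h1 : A₀ ⊔ C = ⊤ := hC.sup_eq_top
    have h2 := congrArg (Subgroup.map H.subtype) h1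
    rw [Subgroup.map_sup, Subgroup.subgroupOf_map_subtype, ← MonoidHom.range_eq_map,
      Subgroup.range_subtype, inf_comm] at h2
    exact h2

/-- Two complements of an abelian normal subgroup in a common overgroup are conjugate. -/
theorem sz_conj (N H K : Subgroup G) [hN : N.Normal] (hab : IsMulCommutative N)
    (hcop : (Nat.card N).Coprime (Nat.card H)) (hc : Nat.card H = Nat.card K)
    (hT : H ⊔ N = K ⊔ N) : ∃ t ∈ H ⊔ N, MulAut.conj t • H = K := by
  set T := H ⊔ N with hTdef
  have hHT : H ≤ T := le_sup_left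
  have hKT : K ≤ T := hT ▸ le_sup_left
  have hNT : N ≤ T := le_sup_right
  let N₀ : Subgroup T := N.subgroupOf T
  haveI : N₀.Normal := inferInstance
  haveI : IsMulCommutative N := hab
  haveI hs : Group.IsSolvable N₀ := by
    have : Group.IsSolvable N := by
      haveI : CommGroup N := { (inferInstance : Group N) with mul_comm := fun a b => hab.is_comm.comm a b }
      exact isSolvable_of_comm (fun a b => hab.is_comm.comm a b)
    exact Group.isSolvable_of_isSolvable_injective (f := (Subgroup.subgroupOfEquivOfLe hNT).toMonoidHom)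
      (Subgroup.subgroupOfEquivOfLe hNT).injective
  have hcN : Nat.card N₀ = Nat.card N := card_subgroupOf_of_le hNT
  have hHN : H ⊓ N = ⊥ := inf_eq_bot_of_coprime_card hcop.symm
  have hidx : N₀.index = Nat.card H := by
    change N.relIndex (H ⊔ N) = _
    rw [Subgroup.relIndex_sup_right]
    change (N.subgroupOf H).index = _
    have : N.subgroupOf H = ⊥ := by
      rw [← Subgroup.inf_subgroupOf_right, inf_comm, hHN]
      exact Subgroup.bot_subgroupOf H
    rw [this, Subgroup.index_bot]
  obtain ⟨g, hg⟩ := conj_of_solvable_normal N₀ (by rw [hcN, hidx]; exact hcop)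
    (H.subgroupOf T) (K.subgroupOf T)
    (by rw [card_subgroupOf_of_le hHT, hidx]) (by rw [card_subgroupOf_of_le hKT, hidx, hc])
  exact ⟨g, g.2, map_subtype_conj_smul_subgroupOf hHT hKT g hg⟩

/-- The final step. -/
theorem step2 (N H K : Subgroup G) [hN : N.Normal] (hab : IsMulCommutative N)
    (hHK : H ⊓ N = K ⊓ N) (hT : H ⊔ N = K ⊔ N) (hc : Nat.card H = Nat.card K)
    (hcop : (Nat.card N).Coprime (Nat.card H / Nat.card (H ⊓ N : Subgroup G))) :
    ∃ t : G, MulAut.conj t • H = K := by
  set A := H ⊓ N with hAdef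
  have hAN : A ≤ N := inf_le_right
  have hdA : Nat.card A ∣ Nat.card N := Subgroup.card_dvd_of_le hAN
  have hcop2 : (Nat.card A).Coprime (Nat.card H / Nat.card A) :=
    Nat.Coprime.coprime_dvd_left hdA hcop
  obtain ⟨H', hH'le, hH'c, hH'sup⟩ := exists_compl N H hcop2
  obtain ⟨K', hK'le, hK'c, hK'sup⟩ := exists_compl N K
    (by rw [← hHK, ← hc]; exact hcop2)
  rw [← hHK] at hK'c hK'sup
  have hcH' : Nat.card H' = Nat.card K' := by rw [hH'c, hK'c, hc]
  have hsup : H' ⊔ N = K' ⊔ N := by
    apply le_antisymm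
    · apply sup_le _ le_sup_right
      calc H' ≤ H := hH'le
        _ ≤ H ⊔ N := le_sup_left
        _ = K ⊔ N := hT
        _ = (A ⊔ K') ⊔ N := by rw [hK'sup]
        _ ≤ K' ⊔ N := sup_le (sup_le (hAN.trans le_sup_right) le_sup_left) le_sup_right
    · apply sup_le _ le_sup_right
      calc K' ≤ K := hK'le
        _ ≤ K ⊔ N := le_sup_left
        _ = H ⊔ N := hT.symm
        _ = (A ⊔ H') ⊔ N := by rw [hH'sup]
        _ ≤ H' ⊔ N := sup_le (sup_le (hAN.trans le_sup_right) le_sup_left) le_sup_right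
  obtain ⟨t, htT, ht⟩ := sz_conj N H' K' hab (by rw [hH'c]; exact hcop) hcH' hsup
  refine ⟨t, ?_⟩
  -- t normalizes A
  have htA : MulAut.conj t • A = A := by
    have h1 : H' ⊔ N ≤ Subgroup.normalizer (A : Set G) := by
      apply sup_le
      · exact hH'le.trans (le_normalizer_inf_normal H N)
      · intro y hy
        rw [Subgroup.mem_normalizer_iff]
        intro a
        constructor
        · intro ha
          have : y * a * y⁻¹ = a := by
            have h2 : y * a = a * y := by
              have := hab.is_comm.comm ⟨y, hy⟩ ⟨a, hAN ha⟩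
              exact congrArg Subtype.val this
            rw [h2]; group
          rwa [this]
        · intro ha
          have h3 : y * a * y⁻¹ ∈ N := by
            exact hAN ha
          have ha' : a ∈ N := by
            have := hN.conj_mem _ h3 y⁻¹
            simpa [mul_assoc] using this
          have : y * a * y⁻¹ = a := by
            have h2 : y * a = a * y := by
              have := hab.is_comm.comm ⟨y, hy⟩ ⟨a, ha'⟩
              exact congrArg Subtype.val this
            rw [h2]; group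
          rwa [this] at ha
    have h2 : t ∈ Subgroup.normalizer (A : Set G) := h1 htT
    ext x
    rw [mem_conj_smul]
    have h3 := Subgroup.mem_normalizer_iff.1 (inv_mem h2) x
    simp only [inv_inv] at h3
    exact h3.symm
  calc MulAut.conj t • H = MulAut.conj t • (A ⊔ H') := by rw [hH'sup]
    _ = (MulAut.conj t • A) ⊔ (MulAut.conj t • H') := Subgroup.smul_sup _ _ _
    _ = A ⊔ K' := by rw [htA, ht]
    _ = K := hK'sup

theorem step1 (N H K : Subgroup G) [hN : N.Normal]
    (h : ∃ g' : G ⧸ N, MulAut.conj g' • (H.map (QuotientGroup.mk' N)) = K.map (QuotientGroup.mk' N)) :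
    ∃ g : G, (MulAut.conj g • H) ⊔ N = K ⊔ N := by
  obtain ⟨g', hg'⟩ := h
  obtain ⟨g, rfl⟩ := QuotientGroup.mk'_surjective N g'
  refine ⟨g, ?_⟩
  have h1 : (MulAut.conj g • H).map (QuotientGroup.mk' N) = K.map (QuotientGroup.mk' N) := by
    rw [map_conj_smul]; exact hg'
  have h2 := congrArg (Subgroup.comap (QuotientGroup.mk' N)) h1
  rwa [Subgroup.comap_map_eq, Subgroup.comap_map_eq, QuotientGroup.ker_mk'] at h2

theorem cyclic_eq {C : Type*} [Group C] [Finite C] [IsCyclic C] (A B : Subgroup C)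
    (h : Nat.card A = Nat.card B) : A = B := by
  obtain ⟨a, ha⟩ := IsCyclic.exists_ofOrder_eq_natCard (α := A)
  obtain ⟨b, hb⟩ := IsCyclic.exists_ofOrder_eq_natCard (α := B)
  have ha' : orderOf (a : C) = Nat.card A := by rw [Subgroup.orderOf_coe]; exact ha
  have hb' : orderOf (b : C) = Nat.card B := by rw [Subgroup.orderOf_coe]; exact hb
  have e1 : Subgroup.zpowers (a : C) = A := by
    apply Subgroup.eq_of_le_of_card_ge (Subgroup.zpowers_le.2 a.2)
    rw [Nat.card_zpowers, ha']
  have e2 : Subgroup.zpowers (b : C) = B := by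
    apply Subgroup.eq_of_le_of_card_ge (Subgroup.zpowers_le.2 b.2)
    rw [Nat.card_zpowers, hb']
  have hm : (a : C) ∈ Subgroup.zpowers (b : C) := by
    apply Cfsg.Agent.S4085.cyc_mem
    rw [ha', hb', h]
  rw [← e1, ← e2]
  apply Subgroup.eq_of_le_of_card_ge (Subgroup.zpowers_le.2 hm)
  rw [Nat.card_zpowers, Nat.card_zpowers, ha', hb', h]

theorem conj_of_cyclic {p : ℕ} [Fact p.Prime] (hc : ∀ P : Sylow p G, IsCyclic P)
    (X Y : Subgroup G) (hX : IsPGroup p X) (hY : IsPGroup p Y) (hcard : Nat.card X = Nat.card Y) :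
    ∃ g : G, MulAut.conj g • X = Y := by
  obtain ⟨S₁, h1⟩ := hX.exists_le_sylow
  obtain ⟨S₂, h2⟩ := hY.exists_le_sylow
  obtain ⟨g, hg⟩ := MulAction.exists_smul_eq G S₁ S₂
  refine ⟨g, ?_⟩
  have hsm : (S₂ : Subgroup G) = MulAut.conj g • (S₁ : Subgroup G) := by
    rw [← hg]; rfl
  have hle : MulAut.conj g • X ≤ (S₂ : Subgroup G) := by
    rw [hsm]; exact conj_smul_le_conj_smul g h1
  haveI := hc S₂
  have h3 : (MulAut.conj g • X).subgroupOf (S₂ : Subgroup G) = Y.subgroupOf (S₂ : Subgroup G) := by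
    apply cyclic_eq
    rw [card_subgroupOf_of_le hle, card_subgroupOf_of_le h2, card_conj_smul, hcard]
  have h4 := congrArg (Subgroup.map (S₂ : Subgroup G).subtype) h3
  rwa [Subgroup.map_subgroupOf_eq_of_le hle, Subgroup.map_subgroupOf_eq_of_le h2] at h4

theorem cyc_quot (N : Subgroup G) [hN : N.Normal] {p : ℕ} [Fact p.Prime]
    (hc : ∀ P : Sylow p G, IsCyclic P) (P' : Sylow p (G ⧸ N)) : IsCyclic P' := by
  obtain ⟨P, rfl⟩ := Sylow.mapSurjective_surjective (QuotientGroup.mk'_surjective N) p P'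
  haveI := hc P
  rw [Sylow.coe_mapSurjective] 
  exact isCyclic_of_surjective ((QuotientGroup.mk' N).subgroupMap (P : Subgroup G))
    (MonoidHom.subgroupMap_surjective _ _)

/-- Lifting of `p`-subgroups through a quotient by a `q`-subgroup. -/
theorem lift_pgroup (N : Subgroup G) [hN : N.Normal] {q : ℕ} [Fact q.Prime] (hNq : IsPGroup q N)
    {p : ℕ} [Fact p.Prime] (X : Subgroup (G ⧸ N)) (hX : IsPGroup p X) :
    ∃ X₀ : Subgroup G, IsPGroup p X₀ ∧ X₀.map (QuotientGroup.mk' N) = X ∧
      (p = q → Nat.card X₀ = Nat.card X * Nat.card N) ∧ (p ≠ q → Nat.card X₀ = Nat.card X) := by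
  by_cases hpq : p = q
  · subst hpq
    have hNle : N ≤ X.comap (QuotientGroup.mk' N) := by
      intro x hx
      have : (QuotientGroup.mk' N) x = 1 := (QuotientGroup.eq_one_iff x).2 hx
      simp [Subgroup.mem_comap, this, one_mem]
    have hm : (X.comap (QuotientGroup.mk' N)).map (QuotientGroup.mk' N) = X :=
      Subgroup.map_comap_eq_self_of_surjective (QuotientGroup.mk'_surjective N) X
    have hc : Nat.card (X.comap (QuotientGroup.mk' N)) = Nat.card X * Nat.card N := by
      have h1 := card_map_mul_card_inf_ker (QuotientGroup.mk' N) (X.comap (QuotientGroup.mk' N))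
      rw [hm, QuotientGroup.ker_mk', inf_eq_right.2 hNle] at h1
      exact h1.symm
    refine ⟨X.comap (QuotientGroup.mk' N), ?_, hm, fun _ => hc, fun h => absurd rfl h⟩
    obtain ⟨a, ha⟩ := IsPGroup.iff_card.1 hX
    obtain ⟨b, hb⟩ := IsPGroup.iff_card.1 hNq
    apply IsPGroup.of_card (n := a + b)
    rw [hc, ha, hb, pow_add]
  · obtain ⟨S', hS'⟩ := hX.exists_le_sylow
    obtain ⟨S, rfl⟩ := Sylow.mapSurjective_surjective (QuotientGroup.mk'_surjective N) p S'
    rw [Sylow.coe_mapSurjective] at hS'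
    let X₀ : Subgroup G := (S : Subgroup G) ⊓ X.comap (QuotientGroup.mk' N)
    have hX₀p : IsPGroup p X₀ := S.isPGroup'.to_le inf_le_left
    have hm : X₀.map (QuotientGroup.mk' N) = X := by
      apply le_antisymm
      · rintro _ ⟨y, hy, rfl⟩
        exact hy.2
      · intro x hx
        obtain ⟨s, hs, rfl⟩ := hS' hx
        exact ⟨s, ⟨hs, hx⟩, rfl⟩
    refine ⟨X₀, hX₀p, hm, fun h => absurd h hpq, fun _ => ?_⟩
    have hdisj : X₀ ⊓ (QuotientGroup.mk' N).ker = ⊥ := by
      rw [QuotientGroup.ker_mk']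
      apply inf_eq_bot_of_coprime_card
      obtain ⟨a, ha⟩ := IsPGroup.iff_card.1 hX₀p
      obtain ⟨b, hb⟩ := IsPGroup.iff_card.1 hNq
      rw [ha, hb]
      exact Nat.Coprime.pow _ _ ((Nat.coprime_primes (Fact.out) (Fact.out)).2 hpq)
    have := card_map_of_disjoint_ker (QuotientGroup.mk' N) X₀ hdisj
    rw [hm] at this
    exact this.symm

theorem quot_hD (N : Subgroup G) [hN : N.Normal] {q : ℕ} [Fact q.Prime] (hNq : IsPGroup q N)
    (hD : ∀ p : ℕ, p.Prime → ∀ H K : Subgroup G, IsPGroup p H → IsPGroup p K →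
      Nat.card H = Nat.card K → ∃ g : G, MulAut.conj g • H = K) :
    ∀ p : ℕ, p.Prime → ∀ H K : Subgroup (G ⧸ N), IsPGroup p H → IsPGroup p K →
      Nat.card H = Nat.card K → ∃ g : G ⧸ N, MulAut.conj g • H = K := by
  intro p hp X Y hX hY hc
  haveI : Fact p.Prime := ⟨hp⟩
  obtain ⟨X₀, hX₀, hmX, h1X, h2X⟩ := lift_pgroup N hNq X hX
  obtain ⟨Y₀, hY₀, hmY, h1Y, h2Y⟩ := lift_pgroup N hNq Y hY
  have hc0 : Nat.card X₀ = Nat.card Y₀ := by
    by_cases hpq : p = q
    · rw [h1X hpq, h1Y hpq, hc]
    · rw [h2X hpq, h2Y hpq, hc]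
  obtain ⟨g, hg⟩ := hD p hp X₀ Y₀ hX₀ hY₀ hc0
  refine ⟨QuotientGroup.mk' N g, ?_⟩
  rw [← hmX, ← hmY, ← hg, map_conj_smul]

theorem le_normalizer_of_abelian (N A : Subgroup G) [hN : N.Normal] (hab : IsMulCommutative N)
    (hAN : A ≤ N) : N ≤ Subgroup.normalizer (A : Set G) := by
  intro y hy
  rw [Subgroup.mem_normalizer_iff]
  intro a
  constructor
  · intro ha
    have : y * a * y⁻¹ = a := by
      have h2 : y * a = a * y := by
        have := hab.is_comm.comm ⟨y, hy⟩ ⟨a, hAN ha⟩
        exact congrArg Subtype.val this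
      rw [h2]; group
    rwa [this]
  · intro ha
    have h3 : y * a * y⁻¹ ∈ N := hAN ha
    have ha' : a ∈ N := by
      have := hN.conj_mem _ h3 y⁻¹
      simpa [mul_assoc] using this
    have : y * a * y⁻¹ = a := by
      have h2 : y * a = a * y := by
        have := hab.is_comm.comm ⟨y, hy⟩ ⟨a, ha'⟩
        exact congrArg Subtype.val this
      rw [h2]; group
    rwa [this] at ha

/-- in the non-cyclic case all `q`-subgroups lie in `N`. -/
theorem all_in_N (N : Subgroup G) [hN : N.Normal] {q : ℕ} [Fact q.Prime] (hNq : IsPGroup q N)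
    (hexp : ∀ x ∈ N, x ^ q = 1) (hcq : Nat.card N ≠ q) (hNne : N ≠ ⊥)
    (hD : ∀ H K : Subgroup G, IsPGroup q H → IsPGroup q K →
      Nat.card H = Nat.card K → ∃ g : G, MulAut.conj g • H = K)
    (W : Subgroup G) (hW : IsPGroup q W) : W ≤ N := by
  intro x hx
  obtain ⟨b, hb⟩ := (IsPGroup.iff_orderOf.1 hW) ⟨x, hx⟩
  rw [Subgroup.orderOf_mk] at hb
  obtain ⟨a, ha⟩ := IsPGroup.iff_card.1 hNq
  have hq : q.Prime := Fact.out
  have ha2 : 2 ≤ a := by
    by_contra hlt
    have : a = 0 ∨ a = 1 := by omega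
    rcases this with rfl | rfl
    · exact hNne (Subgroup.card_eq_one.1 (by simpa using ha))
    · exact hcq (by simpa using ha)
  have hcx : Nat.card (Subgroup.zpowers x) = q ^ b := by rw [Nat.card_zpowers, hb]
  by_cases hba : b ≤ a
  · have hd : q ^ b ∣ Nat.card N := by rw [ha]; exact pow_dvd_pow q hba
    obtain ⟨K₀, hK₀⟩ := Sylow.exists_subgroup_card_pow_prime (G := N) q hd
    let N₀ : Subgroup G := K₀.map N.subtype
    have hcN₀ : Nat.card N₀ = q ^ b := by
      rw [Subgroup.card_map_of_injective N.subtype_injective, hK₀]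
    have hle : N₀ ≤ N := by
      rintro _ ⟨y, -, rfl⟩
      exact y.2
    obtain ⟨g, hg⟩ := hD N₀ (Subgroup.zpowers x) (IsPGroup.of_card hcN₀) (IsPGroup.of_card hcx)
      (by rw [hcN₀, hcx])
    have h1 : x ∈ MulAut.conj g • N₀ := by
      rw [hg]; exact Subgroup.mem_zpowers x
    have h2 := conj_smul_le_conj_smul g hle h1
    rwa [conj_smul_normal] at h2
  · exfalso
    push Not at hba
    have hd : q ^ (b - a) ∣ orderOf x := by rw [hb]; exact pow_dvd_pow q (by omega)
    set y := x ^ (q ^ (b - a)) with hy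
    have hoy : orderOf y = q ^ a := by
      rw [hy, orderOf_pow_of_dvd (pow_ne_zero _ hq.ne_zero) hd, hb]
      exact Nat.pow_div (by omega) hq.pos |>.trans (by congr 1; omega)
    have hcy : Nat.card (Subgroup.zpowers y) = q ^ a := by rw [Nat.card_zpowers, hoy]
    obtain ⟨g, hg⟩ := hD N (Subgroup.zpowers y) hNq (IsPGroup.of_card hcy) (by rw [ha, hcy])
    rw [conj_smul_normal] at hg
    have hyN : y ∈ N := by rw [hg]; exact Subgroup.mem_zpowers y
    have h1 := orderOf_dvd_of_pow_eq_one (hexp y hyN)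
    rw [hoy] at h1
    have h2 : a ≤ 1 := (Nat.pow_dvd_pow_iff_le_right hq.one_lt).1 (by simpa using h1)
    omega

end Helpers

section Main

theorem main (n : ℕ) : ∀ {G : Type u} [Group G] [Finite G] [Group.IsSolvable G],
    Nat.card G = n →
    (∀ p : ℕ, p.Prime → ∀ H K : Subgroup G, IsPGroup p H → IsPGroup p K →
      Nat.card H = Nat.card K → ∃ g : G, MulAut.conj g • H = K) →
    ∀ r : ℕ, (∀ p : ℕ, p.Prime → p ≠ r → ∀ P : Sylow p G, IsCyclic P) →
    ∀ H K : Subgroup G, Nat.card H = Nat.card K → ∃ g : G, MulAut.conj g • H = K := by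
  induction n using Nat.strong_induction_on with
  | _ n ih =>
  intro G _ _ _ hn hD r hcyc H K hHK
  by_cases hnt : Nontrivial G
  swap
  · rw [not_nontrivial_iff_subsingleton] at hnt
    refine ⟨1, ?_⟩
    ext x
    rw [mem_conj_smul]
    have : x = 1 := Subsingleton.elim _ _
    subst this
    simp [one_mem]
  obtain ⟨N, hNmin⟩ := exists_isMinNormal (G := G)
  haveI hNn : N.Normal := hNmin.normal
  have hNab : IsMulCommutative N := hNmin.isMulCommutative
  obtain ⟨q, hq, hNq, -, hexp⟩ := hNmin.exists_isPGroup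
  haveI : Fact q.Prime := ⟨hq⟩
  have hNne : N ≠ ⊥ := hNmin.ne_bot
  have hlt : Nat.card (G ⧸ N) < n := hn ▸ card_quotient_lt N hNne
  have hDq : ∀ H K : Subgroup G, IsPGroup q H → IsPGroup q K →
      Nat.card H = Nat.card K → ∃ g : G, MulAut.conj g • H = K := hD q hq
  have heqH := card_map_mul_card_inf_ker (QuotientGroup.mk' N) H
  have heqK := card_map_mul_card_inf_ker (QuotientGroup.mk' N) K
  rw [QuotientGroup.ker_mk'] at heqH heqK
  by_cases hcq : Nat.card N = q
  · -- N of prime order
    have huniq : ∀ W : Subgroup G, Nat.card W = q → W = N := by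
      intro W hW
      obtain ⟨g, hg⟩ := hDq N W hNq (IsPGroup.of_card (n := 1) (by simpa using hW))
        (by rw [hcq, hW])
      rw [conj_smul_normal] at hg
      exact hg.symm
    have hcont : ∀ W : Subgroup G, q ∣ Nat.card W → N ≤ W := by
      intro W hW
      obtain ⟨x, hx⟩ := exists_prime_orderOf_dvd_card' (G := W) q hW
      have h1 : Subgroup.zpowers (x : G) = N := by
        apply huniq
        rw [Nat.card_zpowers, Subgroup.orderOf_coe, hx]
      rw [← h1]
      exact Subgroup.zpowers_le.2 x.2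
    have hquotH := quot_hD N hNq hD
    have hquotc : ∀ p : ℕ, p.Prime → p ≠ r → ∀ P : Sylow p (G ⧸ N), IsCyclic P := by
      intro p hp hpr P
      haveI : Fact p.Prime := ⟨hp⟩
      exact cyc_quot N (hcyc p hp hpr) P
    by_cases hqH : q ∣ Nat.card H
    · have h1 := hcont H hqH
      have h2 := hcont K (hHK ▸ hqH)
      rw [inf_eq_right.2 h1] at heqH
      rw [inf_eq_right.2 h2] at heqK
      have hcmap : Nat.card (H.map (QuotientGroup.mk' N)) = Nat.card (K.map (QuotientGroup.mk' N)) := by
        have hpos : 0 < Nat.card N := Nat.card_pos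
        apply Nat.eq_of_mul_eq_mul_right hpos
        rw [heqH, heqK, hHK]
      obtain ⟨g, hg⟩ := step1 N H K (ih _ hlt rfl hquotH r hquotc _ _ hcmap)
      refine ⟨g, ?_⟩
      have h3 : N ≤ MulAut.conj g • H := by
        have := conj_smul_le_conj_smul g h1
        rwa [conj_smul_normal] at this
      rwa [sup_eq_left.2 h3, sup_eq_left.2 h2] at hg
    · have hcop : ∀ W : Subgroup G, ¬ q ∣ Nat.card W → (Nat.card N).Coprime (Nat.card W) := by
        intro W hW
        rw [hcq]
        exact (Nat.Prime.coprime_iff_not_dvd hq).2 hW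
      have hqK : ¬ q ∣ Nat.card K := hHK ▸ hqH
      have hdisH : H ⊓ (QuotientGroup.mk' N).ker = ⊥ := by
        rw [QuotientGroup.ker_mk']; exact inf_eq_bot_of_coprime_card (hcop H hqH).symm
      have hdisK : K ⊓ (QuotientGroup.mk' N).ker = ⊥ := by
        rw [QuotientGroup.ker_mk']; exact inf_eq_bot_of_coprime_card (hcop K hqK).symm
      have hcmap : Nat.card (H.map (QuotientGroup.mk' N)) = Nat.card (K.map (QuotientGroup.mk' N)) := by
        rw [card_map_of_disjoint_ker _ _ hdisH, card_map_of_disjoint_ker _ _ hdisK, hHK]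
      obtain ⟨g, hg⟩ := step1 N H K (ih _ hlt rfl hquotH r hquotc _ _ hcmap)
      obtain ⟨t, -, ht⟩ := sz_conj N (MulAut.conj g • H) K hNab
        (by rw [card_conj_smul]; exact hcop H hqH) (by rw [card_conj_smul, hHK]) hg
      exact ⟨t * g, by rw [conj_mul_smul, ht]⟩
  · -- the non-cyclic case: `N` is the normal Sylow `q`-subgroup
    have hall := all_in_N N hNq hexp hcq hNne hDq
    obtain ⟨S, hS⟩ := hNq.exists_le_sylow
    have hSN : (S : Subgroup G) = N := le_antisymm (hall _ S.isPGroup') hS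
    have hqidx : ¬ q ∣ N.index := by
      rw [← hSN]; exact S.not_dvd_index
    obtain ⟨a, ha⟩ := IsPGroup.iff_card.1 hNq
    -- q = r
    have hqr : q = r := by
      by_contra hne
      haveI := hcyc q hq hne S
      rw [hSN] at this
      obtain ⟨y, hy⟩ := IsCyclic.exists_ofOrder_eq_natCard (α := N)
      have h1 : (y : G) ^ q = 1 := hexp _ y.2
      have h2 : orderOf (y : G) ∣ q := orderOf_dvd_of_pow_eq_one h1
      rw [Subgroup.orderOf_coe, hy] at h2
      rcases (Nat.dvd_prime hq).1 h2 with h3 | h3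
      · exact hNne (Subgroup.card_eq_one.1 h3)
      · exact hcq h3
    subst hqr
    -- the cards of the parts in N
    have hcopmap : ∀ W : Subgroup G, (Nat.card N).Coprime (Nat.card (W.map (QuotientGroup.mk' N))) := by
      intro W
      have h1 : Nat.card (W.map (QuotientGroup.mk' N)) ∣ N.index := by
        rw [Subgroup.index_eq_card]
        exact Subgroup.card_subgroup_dvd_card _
      rw [ha]
      apply Nat.Coprime.pow_left
      rw [Nat.Prime.coprime_iff_not_dvd hq]
      exact fun h => hqidx (dvd_trans h h1)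
    have hA12 : Nat.card (H ⊓ N : Subgroup G) = Nat.card (K ⊓ N : Subgroup G) := by
      apply Nat.dvd_antisymm
      · have h1 : Nat.card (H ⊓ N : Subgroup G) ∣ Nat.card (K.map (QuotientGroup.mk' N)) * Nat.card (K ⊓ N : Subgroup G) := by
          rw [heqK, ← hHK, ← heqH]; exact dvd_mul_left _ _
        refine Nat.Coprime.dvd_of_dvd_mul_left ?_ h1
        exact Nat.Coprime.coprime_dvd_left (Subgroup.card_dvd_of_le inf_le_right) (hcopmap K)
      · have h1 : Nat.card (K ⊓ N : Subgroup G) ∣ Nat.card (H.map (QuotientGroup.mk' N)) * Nat.card (H ⊓ N : Subgroup G) := by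
          rw [heqH, hHK, ← heqK]; exact dvd_mul_left _ _
        refine Nat.Coprime.dvd_of_dvd_mul_left ?_ h1
        exact Nat.Coprime.coprime_dvd_left (Subgroup.card_dvd_of_le inf_le_right) (hcopmap H)
    obtain ⟨g₀, hg₀⟩ := hDq (H ⊓ N) (K ⊓ N) (hNq.to_le inf_le_right) (hNq.to_le inf_le_right) hA12
    set H₁ := MulAut.conj g₀ • H with hH₁
    have hH₁N : H₁ ⊓ N = K ⊓ N := by
      rw [← hg₀, conj_smul_inf, conj_smul_normal g₀ N]
    set A := K ⊓ N with hA
    have hAN : A ≤ N := inf_le_right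
    let X : Subgroup G := Subgroup.normalizer (A : Set G)
    have hNX : N ≤ X := le_normalizer_of_abelian N A hNab hAN
    have hH₁X : H₁ ≤ X := by
      have := le_normalizer_inf_normal H₁ N
      rwa [hH₁N] at this
    have hKX : K ≤ X := le_normalizer_inf_normal K N
    -- work in X / N
    let N₁ : Subgroup X := N.subgroupOf X
    haveI hN₁ : N₁.Normal := inferInstance
    have hN₁ne : N₁ ≠ ⊥ := by
      intro h
      apply hNne
      have h1 := congrArg (Subgroup.map X.subtype) h
      rwa [Subgroup.map_subgroupOf_eq_of_le hNX, Subgroup.map_bot] at h1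
    let H₂ : Subgroup X := H₁.subgroupOf X
    let K₂ : Subgroup X := K.subgroupOf X
    have hinfH : H₂ ⊓ (QuotientGroup.mk' N₁).ker = A.subgroupOf X := by
      rw [QuotientGroup.ker_mk', ← hH₁N]
      ext x
      simp [H₂, N₁, Subgroup.mem_subgroupOf]
    have hinfK : K₂ ⊓ (QuotientGroup.mk' N₁).ker = A.subgroupOf X := by
      rw [QuotientGroup.ker_mk']
      ext x
      simp [K₂, N₁, A, Subgroup.mem_subgroupOf]
    have hAX : A ≤ X := hAN.trans hNX
    have eH := card_map_mul_card_inf_ker (QuotientGroup.mk' N₁) H₂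
    have eK := card_map_mul_card_inf_ker (QuotientGroup.mk' N₁) K₂
    rw [hinfH, card_subgroupOf_of_le hAX, card_subgroupOf_of_le hH₁X, hH₁, card_conj_smul] at eH
    rw [hinfK, card_subgroupOf_of_le hAX, card_subgroupOf_of_le hKX] at eK
    have hcmap : Nat.card (H₂.map (QuotientGroup.mk' N₁)) = Nat.card (K₂.map (QuotientGroup.mk' N₁)) := by
      have hpos : 0 < Nat.card A := Nat.card_pos
      apply Nat.eq_of_mul_eq_mul_right hpos
      rw [eH, eK, hHK]
    -- the induction hypothesis
    have hltX : Nat.card (X ⧸ N₁) < n := by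
      have h1 := card_quotient_lt N₁ hN₁ne
      have h2 : Nat.card X ≤ Nat.card G := Subgroup.card_le_card_group X
      omega
    have hcycX : ∀ p : ℕ, p.Prime → p ≠ q → ∀ P : Sylow p X, IsCyclic P := by
      intro p hp hpq P
      haveI : Fact p.Prime := ⟨hp⟩
      have hP0 : IsPGroup p ((P : Subgroup X).map X.subtype) :=
        P.isPGroup'.map X.subtype
      obtain ⟨S', hS'⟩ := hP0.exists_le_sylow
      haveI := hcyc p hp hpq S'
      let f : (P : Subgroup X) →* (S' : Subgroup G) :=
        (Subgroup.inclusion hS').comp (X.subtype.subgroupMap (P : Subgroup X))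
      refine isCyclic_of_injective f ?_
      intro a b hab
      have h1 := congrArg (fun z : (S' : Subgroup G) => (z : G)) hab
      exact Subtype.ext (Subtype.ext h1)
    have hcycQ : ∀ p : ℕ, p.Prime → p ≠ q → ∀ P : Sylow p (X ⧸ N₁), IsCyclic P := by
      intro p hp hpq P
      haveI : Fact p.Prime := ⟨hp⟩
      exact cyc_quot N₁ (hcycX p hp hpq) P
    have hidxX : ¬ q ∣ Nat.card (X ⧸ N₁) := by
      intro h
      apply hqidx
      have h1 : Nat.card (X ⧸ N₁) = N.relIndex X := by
        rw [← Subgroup.index_eq_card]; rfl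
      rw [h1] at h
      have h2 := Subgroup.relIndex_mul_index hNX
      rw [← h2]
      exact dvd_mul_of_dvd_left h _
    have hDQ : ∀ p : ℕ, p.Prime → ∀ H K : Subgroup (X ⧸ N₁), IsPGroup p H → IsPGroup p K →
        Nat.card H = Nat.card K → ∃ g : X ⧸ N₁, MulAut.conj g • H = K := by
      intro p hp U V hU hV hUV
      haveI : Fact p.Prime := ⟨hp⟩
      by_cases hpq : p = q
      · subst hpq
        have htriv : ∀ W : Subgroup (X ⧸ N₁), IsPGroup p W → W = ⊥ := by
          intro W hW
          obtain ⟨k, hk⟩ := IsPGroup.iff_card.1 hW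
          apply Subgroup.card_eq_one.1
          rw [hk]
          rcases k with _ | k
          · simp
          · exfalso
            apply hidxX
            have h1 : Nat.card W ∣ Nat.card (X ⧸ N₁) := Subgroup.card_subgroup_dvd_card W
            rw [hk] at h1
            exact dvd_trans (dvd_pow_self p (by omega)) h1
        rw [htriv U hU, htriv V hV]
        exact ⟨1, by simp⟩
      · exact conj_of_cyclic (hcycQ p hp hpq) U V hU hV hUV
    obtain ⟨g₁, hg₁⟩ := step1 N₁ H₂ K₂ (ih _ hltX rfl hDQ q hcycQ _ _ hcmap)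
    -- push to G
    have hpush : (MulAut.conj (g₁ : G) • H₁) ⊔ N = K ⊔ N := by
      have h1 := congrArg (Subgroup.map X.subtype) hg₁
      rw [Subgroup.map_sup, Subgroup.map_sup, map_conj_smul, Subgroup.map_subgroupOf_eq_of_le hH₁X,
        Subgroup.map_subgroupOf_eq_of_le hKX, Subgroup.map_subgroupOf_eq_of_le hNX] at h1
      exact h1
    set H₃ := MulAut.conj (g₁ : G) • H₁ with hH₃
    have hconjA : MulAut.conj (g₁ : G) • A = A := by
      ext x
      rw [mem_conj_smul]
      have h3 := Subgroup.mem_normalizer_iff.1 (inv_mem g₁.2) x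
      simp only [inv_inv] at h3
      exact h3.symm
    have hH₃N : H₃ ⊓ N = K ⊓ N := by
      rw [hH₃, ← hA, ← hconjA, ← hH₁N, conj_smul_inf, conj_smul_normal _ N]
    have hcH₃ : Nat.card H₃ = Nat.card K := by
      rw [hH₃, card_conj_smul, hH₁, card_conj_smul, hHK]
    obtain ⟨t, ht⟩ := step2 N H₃ K hNab hH₃N hpush hcH₃ (by
      rw [hH₃N, hcH₃]
      have hpos : 0 < Nat.card (K ⊓ N : Subgroup G) := Nat.card_pos
      have : Nat.card K / Nat.card (K ⊓ N : Subgroup G) = Nat.card (K.map (QuotientGroup.mk' N)) :=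
        Nat.div_eq_of_eq_mul_left hpos heqK.symm
      rw [this]
      exact hcopmap K)
    exact ⟨t * (g₁ : G) * g₀, by rw [conj_mul_smul, conj_mul_smul, ← hH₁, ← hH₃, ht]⟩

/-- Let G be a finite solvable group in which, for every prime p, any two p-subgroups of the same order are conjugate, and suppose the Sylow p-subgroups of G are cyclic for all primes p with at most one exception. Then any two subgroups of G of the same order are conjugate. -/
theorem result {G : Type*} [Group G] [Finite G]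
    [Group.IsSolvable G] (hD : ∀ p : ℕ, p.Prime → ∀ H K : Subgroup G, IsPGroup p H → IsPGroup p K → Nat.card H = Nat.card K →
      ∃ g : G, K = H.map (MulAut.conj g).toMonoidHom)
    (r : ℕ) (hcyc : ∀ p : ℕ, p.Prime → p ≠ r → ∀ P : Sylow p G, IsCyclic P) :
    ∀ H K : Subgroup G, Nat.card H = Nat.card K → ∃ g : G, K = H.map (MulAut.conj g).toMonoidHom := by
  intro H K hHK
  obtain ⟨g, hg⟩ := main _ rfl (fun p hp H K hH hK hc => by
    obtain ⟨g, hg⟩ := hD p hp H K hH hK hc
    exact ⟨g, hg.symm⟩) r hcyc H K hHK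
  exact ⟨g, hg.symm⟩

end Main

end Cfsg.Agent.S4022
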