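import Cfsg.Statements.S3912
import Cfsg.Agent.S4022
import Cfsg.Agent.Lib.PGroup.CyclicMax2

set_option autoImplicit false
open Cfsg

namespace Cfsg.Agent.S3912

open Pointwise Cfsg.Agent.Lib.Coprime.SZ Cfsg.Agent.Lib.Solvable.MinimalNormal
open Cfsg.Agent.Lib.PGroup.CyclicMax Cfsg.Agent.Lib.PGroup.CyclicMax2

universe u

/-- Abelian subgroups of the same order are conjugate. -/
def PB (G : Type u) [Group G] : Prop :=
  ∀ A B : Subgroup G, IsMulCommutative A → IsMulCommutative B → Nat.card A = Nat.card B →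
    ∃ g : G, MulAut.conj g • A = B

section Helpers

variable {G : Type u} [Group G]

theorem PB.transfer {H : Type u} [Group H] (e : G ≃* H) (hB : PB G) : PB H := by
  intro A B hA hB' hc
  have key : ∀ C : Subgroup H, IsMulCommutative C → IsMulCommutative (C.comap e.toMonoidHom) := by
    intro C hC
    refine ⟨⟨fun x y => Subtype.ext ?_⟩⟩
    have hx : e (x : G) ∈ C := x.2
    have hy : e (y : G) ∈ C := y.2
    have := congrArg Subtype.val (hC.is_comm.comm ⟨_, hx⟩ ⟨_, hy⟩)
    apply e.injective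
    show e ((x : G) * (y : G)) = e ((y : G) * (x : G))
    simpa [map_mul] using this
  have hcard : ∀ C : Subgroup H, Nat.card (C.comap e.toMonoidHom) = Nat.card C := by
    intro C
    refine Nat.card_congr (Equiv.subtypeEquiv e.toEquiv ?_)
    intro a
    rfl
  obtain ⟨g, hg⟩ := hB _ _ (key A hA) (key B hB') (by rw [hcard, hcard, hc])
  refine ⟨e g, ?_⟩
  ext x
  rw [mem_conj_smul]
  have h2 : e.symm x ∈ MulAut.conj g • A.comap e.toMonoidHom ↔ e.symm x ∈ B.comap e.toMonoidHom := by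
    rw [hg]
  rw [mem_conj_smul] at h2
  simp only [Subgroup.mem_comap, MulEquiv.coe_toMonoidHom, map_mul, map_inv, MulEquiv.apply_symm_apply] at h2
  exact h2

variable [Finite G]

/-- The complement case. -/
theorem lemmaC (hB : PB G) (N U V : Subgroup G) [hN : N.Normal] (hNU : N ≤ U) (hNV : N ≤ V)
    (hU : ∀ x ∈ U, ∀ y ∈ U, x * y * x⁻¹ * y⁻¹ ∈ N) (hV : ∀ x ∈ V, ∀ y ∈ V, x * y * x⁻¹ * y⁻¹ ∈ N)
    (hc : Nat.card U = Nat.card V) (hcop : (Nat.card N).Coprime (Nat.card U / Nat.card N)) :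
    ∃ g : G, MulAut.conj g • U = V := by
  have aux : ∀ W : Subgroup G, N ≤ W → (∀ x ∈ W, ∀ y ∈ W, x * y * x⁻¹ * y⁻¹ ∈ N) →
      (Nat.card N).Coprime (Nat.card W / Nat.card N) →
      ∃ H : Subgroup G, IsMulCommutative H ∧ Nat.card H = Nat.card W / Nat.card N ∧ N ⊔ H = W := by
    intro W hNW hW hcop'
    have hWN : W ⊓ N = N := inf_eq_right.mpr hNW
    obtain ⟨H, hHW, hHc, hsup⟩ := Cfsg.Agent.S4022.exists_compl N W (by rw [hWN]; exact hcop')
    rw [hWN] at hHc hsup
    refine ⟨H, ?_, hHc, hsup⟩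
    have hinf : N ⊓ H = ⊥ := inf_eq_bot_of_coprime_card (by rw [hHc]; exact hcop')
    refine ⟨⟨fun x y => Subtype.ext ?_⟩⟩
    have h1 : (x : G) * y * (x : G)⁻¹ * (y : G)⁻¹ ∈ N := hW _ (hHW x.2) _ (hHW y.2)
    have h2 : (x : G) * y * (x : G)⁻¹ * (y : G)⁻¹ ∈ H :=
      H.mul_mem (H.mul_mem (H.mul_mem x.2 y.2) (H.inv_mem x.2)) (H.inv_mem y.2)
    have h3 : (x : G) * y * (x : G)⁻¹ * (y : G)⁻¹ ∈ N ⊓ H := ⟨h1, h2⟩
    rw [hinf, Subgroup.mem_bot, mul_inv_eq_one, mul_inv_eq_iff_eq_mul] at h3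
    simpa using h3
  obtain ⟨H, hHab, hHc, hHsup⟩ := aux U hNU hU hcop
  obtain ⟨K, hKab, hKc, hKsup⟩ := aux V hNV hV (by rw [← hc]; exact hcop)
  obtain ⟨g, hg⟩ := hB H K hHab hKab (by rw [hHc, hKc, hc])
  refine ⟨g, ?_⟩
  rw [← hHsup, ← hKsup, ← hg, conj_smul_eq_map, Subgroup.map_sup, ← conj_smul_eq_map,
    ← conj_smul_eq_map, conj_smul_normal]

/-- Conjugacy of `p`-subgroups of maximal order. -/
theorem conj_of_max_pgroup {p : ℕ} [hp : Fact p.Prime] (A B : Subgroup G)
    (hA : IsPGroup p A) (hB : IsPGroup p B) (hc : Nat.card A = Nat.card B)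
    (hmax : ∀ R : Subgroup G, IsPGroup p R → Nat.card R ≤ Nat.card A) :
    ∃ g : G, MulAut.conj g • A = B := by
  obtain ⟨P, hP⟩ := hA.exists_le_sylow
  obtain ⟨Q, hQ⟩ := hB.exists_le_sylow
  have h1 : A = P := Subgroup.eq_of_le_of_card_ge hP (hmax _ P.isPGroup')
  have h2 : B = Q := Subgroup.eq_of_le_of_card_ge hQ (by rw [← hc]; exact hmax _ Q.isPGroup')
  obtain ⟨g, hg⟩ := MulAction.exists_smul_eq G P Q
  refine ⟨g, ?_⟩
  rw [h1, h2, ← hg]
  rfl


/-- Squares, commutators in `N`, `N` of order `q`, elements of order `q` in `N`, some element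
outside `N` with `q`-th power in `N`: every element of order prime to `q` is central. -/
theorem central_of_coprime {W : Type*} [Group W] [Finite W] {q : ℕ} [hq : Fact q.Prime]
    (N : Subgroup W) (hNc : Nat.card N = q) (hcomm : ∀ x y : W, x * y * x⁻¹ * y⁻¹ ∈ N)
    (hqN : ∀ x : W, x ^ q = 1 → x ∈ N) (t : W) (ht : t ∉ N) (htq : t ^ q ∈ N)
    (h : W) (hh : (orderOf h).Coprime q) (x : W) : h * x = x * h := by
  have hexp : ∀ n ∈ N, n ^ q = 1 := by
    intro n hn
    have := pow_card_eq_one' (G := N) (x := ⟨n, hn⟩)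
    rw [hNc] at this
    simpa using congrArg Subtype.val this
  have hz : t ^ q ≠ 1 := fun h1 => ht (hqN t h1)
  have hNz : N = Subgroup.zpowers (t ^ q) := by
    have hle : Subgroup.zpowers (t ^ q) ≤ N := (Subgroup.zpowers_le).mpr htq
    refine (Subgroup.eq_of_le_of_card_ge hle ?_).symm
    rw [hNc, Nat.card_zpowers, orderOf_eq_prime (hexp _ htq) hz]
  have hNcomm : ∀ n ∈ N, n * t = t * n := by
    intro n hn
    rw [hNz] at hn
    obtain ⟨k, rfl⟩ := hn
    simp only
    exact ((Commute.refl t).pow_left q).zpow_left k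
  -- `N` is central
  have hcen : ∀ g : W, ∀ n ∈ N, g * n = n * g := by
    intro g n hn
    have h1 : g * t * g⁻¹ * t⁻¹ ∈ N := hcomm g t
    set n₁ := g * t * g⁻¹ * t⁻¹ with hn₁
    have h2 : g * t * g⁻¹ = n₁ * t := by rw [hn₁]; group
    have h3 : g * t ^ q * g⁻¹ = t ^ q := by
      have hc : Commute n₁ t := hNcomm n₁ h1
      calc g * t ^ q * g⁻¹ = (g * t * g⁻¹) ^ q := by rw [conj_pow]
        _ = (n₁ * t) ^ q := by rw [h2]
        _ = n₁ ^ q * t ^ q := hc.mul_pow q
        _ = t ^ q := by rw [hexp n₁ h1, one_mul]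
    rw [hNz] at hn
    obtain ⟨k, rfl⟩ := hn
    have hcm : Commute g (t ^ q) := by
      show g * t ^ q = t ^ q * g
      calc g * t ^ q = g * t ^ q * g⁻¹ * g := by group
        _ = t ^ q * g := by rw [h3]
    exact (hcm.zpow_right k)
  -- the main computation
  set n := h * x * h⁻¹ * x⁻¹ with hn
  have hnN : n ∈ N := hcomm h x
  have hpow : ∀ k : ℕ, h ^ k * x * (h ^ k)⁻¹ = n ^ k * x := by
    intro k
    induction k with
    | zero => simp
    | succ k ih =>
      have h1 : h * x * h⁻¹ = n * x := by rw [hn]; group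
      have hcn : h * n ^ k = n ^ k * h := by
        exact (Commute.pow_right (hcen h n hnN) k)
      calc h ^ (k + 1) * x * (h ^ (k + 1))⁻¹ = h * (h ^ k * x * (h ^ k)⁻¹) * h⁻¹ := by
            rw [pow_succ']; group
        _ = h * (n ^ k * x) * h⁻¹ := by rw [ih]
        _ = n ^ k * (h * x * h⁻¹) := by
            calc h * (n ^ k * x) * h⁻¹ = (h * n ^ k) * x * h⁻¹ := by group
              _ = (n ^ k * h) * x * h⁻¹ := by rw [hcn]
              _ = n ^ k * (h * x * h⁻¹) := by group
        _ = n ^ (k + 1) * x := by rw [h1, pow_succ]; group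
  have h1 := hpow (orderOf h)
  rw [pow_orderOf_eq_one, one_mul, inv_one, mul_one, eq_comm, mul_eq_right] at h1
  have hn1 : n = 1 := by
    have h2 := hexp n hnN
    have := (orderOf_dvd_of_pow_eq_one h1)
    have h3 := orderOf_dvd_of_pow_eq_one h2
    have h4 := Nat.dvd_gcd this h3
    rw [hh, Nat.dvd_one, orderOf_eq_one_iff] at h4
    exact h4
  have h5 : h * x * h⁻¹ * x⁻¹ = 1 := hn1
  rwa [mul_inv_eq_one, mul_inv_eq_iff_eq_mul] at h5

/-- Structure of `W`. -/
theorem exists_T_H {W : Type*} [Group W] [Finite W] {q : ℕ} [hq : Fact q.Prime]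
    (N : Subgroup W) (hNc : Nat.card N = q) (hcomm : ∀ x y : W, x * y * x⁻¹ * y⁻¹ ∈ N)
    (hqN : ∀ x : W, x ^ q = 1 → x ∈ N) (t : W) (ht : t ∉ N) (htq : t ^ q ∈ N) :
    ∃ T H : Subgroup W, IsPGroup q T ∧ (Nat.card H).Coprime q ∧ Nat.card T * Nat.card H = Nat.card W ∧
      T ⊔ H = ⊤ ∧ ∀ h ∈ H, ∀ x : W, h * x = x * h := by
  have hNn : N.Normal := by
    constructor
    intro n hn g
    have h1 := hcomm g n
    have h2 : g * n * g⁻¹ = g * n * g⁻¹ * n⁻¹ * n := by group
    rw [h2]
    exact N.mul_mem h1 hn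
  let P : Sylow q W := default
  have hNq : IsPGroup q N := IsPGroup.of_card (n := 1) (by rw [hNc, pow_one])
  have hNP : N ≤ (P : Subgroup W) := by
    have h1 := P.is_maximal' (P.isPGroup'.to_sup_of_normal_right hNq) le_sup_left
    exact sup_eq_left.mp h1
  have hPn : (P : Subgroup W).Normal := by
    constructor
    intro n hn g
    have h1 := hNP (hcomm g n)
    have h2 : g * n * g⁻¹ = g * n * g⁻¹ * n⁻¹ * n := by group
    rw [h2]
    exact (P : Subgroup W).mul_mem h1 hn
  obtain ⟨H, hH⟩ := Subgroup.exists_right_complement'_of_coprime P.card_coprime_index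
  have hHc : Nat.card H = (P : Subgroup W).index := hH.symm.index_eq_card.symm
  have hcop : (Nat.card H).Coprime q := by
    rw [hHc]
    exact ((Nat.Prime.coprime_iff_not_dvd hq.out).2 P.not_dvd_index).symm
  refine ⟨P, H, P.isPGroup', hcop, ?_, hH.sup_eq_top, ?_⟩
  · rw [hHc]; exact Subgroup.card_mul_index _
  · intro h hh x
    refine central_of_coprime N hNc hcomm hqN t ht htq h ?_ x
    exact Nat.Coprime.coprime_dvd_left (Subgroup.orderOf_dvd_natCard H hh) hcop


/-- Structure of a subgroup `U ≥ N`, in `G`. -/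
theorem struct_U {q : ℕ} [hq : Fact q.Prime] (N U : Subgroup G) (hNc : Nat.card N = q) (hNU : N ≤ U)
    (hU : ∀ x ∈ U, ∀ y ∈ U, x * y * x⁻¹ * y⁻¹ ∈ N) (hqN : ∀ x : G, x ^ q = 1 → x ∈ N)
    (t : G) (htU : t ∈ U) (ht : t ∉ N) (htq : t ^ q ∈ N) :
    ∃ T H : Subgroup G, IsPGroup q T ∧ (Nat.card H).Coprime q ∧ Nat.card T * Nat.card H = Nat.card U ∧
      T ⊔ H = U ∧ (∀ h ∈ H, ∀ x ∈ U, h * x = x * h) := by
  have hmem : ∀ x : U, x ∈ N.subgroupOf U ↔ (x : G) ∈ N := fun x => Subgroup.mem_subgroupOf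
  obtain ⟨T, H, hT, hH, hc, hsup, hcen⟩ := exists_T_H (W := U) (N.subgroupOf U)
    (by rw [card_subgroupOf_of_le hNU, hNc])
    (fun x y => by rw [hmem]; exact hU _ x.2 _ y.2)
    (fun x hx => by
      rw [hmem]
      exact hqN _ (by simpa using congrArg Subtype.val hx))
    ⟨t, htU⟩ (by rw [hmem]; exact ht) (by rw [hmem]; exact htq)
  have hcT : Nat.card (T.map U.subtype) = Nat.card T :=
    Subgroup.card_map_of_injective U.subtype_injective
  have hcH : Nat.card (H.map U.subtype) = Nat.card H :=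
    Subgroup.card_map_of_injective U.subtype_injective
  refine ⟨T.map U.subtype, H.map U.subtype, ?_, ?_, ?_, ?_, ?_⟩
  · exact hT.map U.subtype
  · rw [hcH]; exact hH
  · rw [hcT, hcH, hc]
  · rw [← Subgroup.map_sup, hsup, ← MonoidHom.range_eq_map, Subgroup.range_subtype]
  · rintro _ ⟨h, hh, rfl⟩ x hx
    exact congrArg Subtype.val (hcen h hh ⟨x, hx⟩)

/-- `T ⊔ H` with `T, H` commuting abelian is abelian. -/
theorem comm_sup (T H : Subgroup G) (hT : IsMulCommutative T) (hH : IsMulCommutative H)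
    (hc : ∀ h ∈ H, ∀ t ∈ T, h * t = t * h) : IsMulCommutative (T ⊔ H : Subgroup G) := by
  have hcomm : ∀ x ∈ (T : Set G) ∪ H, ∀ y ∈ (T : Set G) ∪ H, x * y = y * x := by
    rintro x (hx | hx) y (hy | hy)
    · exact congrArg Subtype.val (hT.is_comm.comm ⟨x, hx⟩ ⟨y, hy⟩)
    · exact (hc y hy x hx).symm
    · exact hc x hx y hy
    · exact congrArg Subtype.val (hH.is_comm.comm ⟨x, hx⟩ ⟨y, hy⟩)
  have hcl : (T ⊔ H : Subgroup G) = Subgroup.closure ((T : Set G) ∪ H) := by
    rw [Subgroup.closure_union, Subgroup.closure_eq, Subgroup.closure_eq]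
  rw [hcl]
  letI := Subgroup.closureCommGroupOfComm hcomm
  exact ⟨⟨fun x y => mul_comm x y⟩⟩

/-- Conjugates of abelian subgroups are abelian. -/
theorem conj_comm (g : G) (H : Subgroup G) (hH : IsMulCommutative H) :
    IsMulCommutative (MulAut.conj g • H : Subgroup G) := by
  refine ⟨⟨fun x y => Subtype.ext ?_⟩⟩
  have hx := mem_conj_smul.mp x.2
  have hy := mem_conj_smul.mp y.2
  have := congrArg Subtype.val (hH.is_comm.comm ⟨_, hx⟩ ⟨_, hy⟩)
  simp only [Subgroup.coe_mul] at this ⊢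
  have h2 : g⁻¹ * ((x : G) * y) * g = g⁻¹ * ((y : G) * x) * g := by
    calc g⁻¹ * ((x : G) * y) * g = g⁻¹ * x * g * (g⁻¹ * y * g) := by group
      _ = g⁻¹ * y * g * (g⁻¹ * x * g) := this
      _ = _ := by group
  simpa using h2

/-- The nonabelian-Sylow case: conjugacy from the structure. -/
theorem conj_of_structure (hB : PB G) {p : ℕ} [hp : Fact p.Prime] (T₁ H₁ T₂ H₂ : Subgroup G)
    (h₁ : IsPGroup p T₁) (h₂ : IsPGroup p T₂) (hTc : Nat.card T₁ = Nat.card T₂)
    (hHc : Nat.card H₁ = Nat.card H₂) (hH₁ : IsMulCommutative H₁) (hH₂ : IsMulCommutative H₂)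
    (hcen₁ : ∀ h ∈ H₁, ∀ t ∈ T₁, h * t = t * h) (hcen₂ : ∀ h ∈ H₂, ∀ t ∈ T₂, h * t = t * h)
    (hmax : ∀ R : Subgroup G, IsPGroup p R → Nat.card R ≤ Nat.card T₁) :
    ∃ g : G, MulAut.conj g • (T₁ ⊔ H₁) = T₂ ⊔ H₂ := by
  obtain ⟨g₀, hg₀⟩ := conj_of_max_pgroup T₁ T₂ h₁ h₂ hTc hmax
  obtain ⟨c, hc⟩ := hB (MulAut.conj g₀ • H₁) H₂ (conj_comm _ _ hH₁) hH₂
    (by rw [card_conj_smul, hHc])
  set T₃ := MulAut.conj c • T₂ with hT₃
  let C : Subgroup G := Subgroup.centralizer (H₂ : Set G)
  have hT₂C : T₂ ≤ C := by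
    intro t ht
    rw [Subgroup.mem_centralizer_iff]
    intro h hh
    exact hcen₂ h hh t ht
  have hT₃C : T₃ ≤ C := by
    intro t ht
    rw [Subgroup.mem_centralizer_iff]
    intro h hh
    rw [hT₃, ← hg₀, ← conj_mul_smul, mem_conj_smul] at ht
    have hh' : h ∈ H₂ := hh
    rw [← hc, ← conj_mul_smul, mem_conj_smul] at hh'
    have := hcen₁ _ hh' _ ht
    have h2 : (c * g₀)⁻¹ * (h * t) * (c * g₀) = (c * g₀)⁻¹ * (t * h) * (c * g₀) := by
      calc (c * g₀)⁻¹ * (h * t) * (c * g₀)
          = ((c * g₀)⁻¹ * h * (c * g₀)) * ((c * g₀)⁻¹ * t * (c * g₀)) := by group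
        _ = ((c * g₀)⁻¹ * t * (c * g₀)) * ((c * g₀)⁻¹ * h * (c * g₀)) := this
        _ = _ := by group
    simpa using h2
  have hT₃c : Nat.card T₃ = Nat.card T₂ := card_conj_smul _ _
  have hT₂C' : IsPGroup p (T₂.subgroupOf C) :=
    IsPGroup.of_equiv h₂ (Subgroup.subgroupOfEquivOfLe hT₂C).symm
  have h₃ : IsPGroup p T₃ := by
    intro x
    obtain ⟨k, hk⟩ := h₂ ⟨c⁻¹ * (x : G) * c, mem_conj_smul.mp x.2⟩
    refine ⟨k, Subtype.ext ?_⟩
    have h3 := congrArg Subtype.val hk
    simp only [Subgroup.coe_pow, Subgroup.coe_mk, Subgroup.coe_one] at h3 ⊢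
    have h4 : (c⁻¹ * (x : G) * c) = c⁻¹ * x * c⁻¹⁻¹ := by group
    rw [h4, conj_pow] at h3
    have h5 : c⁻¹ * (x : G) ^ p ^ k * c = 1 := by simpa using h3
    have h6 : c * (c⁻¹ * (x : G) ^ p ^ k * c) * c⁻¹ = 1 := by rw [h5]; group
    simpa [mul_assoc] using h6
  have hT₃C' : IsPGroup p (T₃.subgroupOf C) :=
    IsPGroup.of_equiv h₃ (Subgroup.subgroupOfEquivOfLe hT₃C).symm
  obtain ⟨d, hd⟩ := conj_of_max_pgroup (T₃.subgroupOf C) (T₂.subgroupOf C) hT₃C' hT₂C'
    (by rw [card_subgroupOf_of_le hT₃C, card_subgroupOf_of_le hT₂C, hT₃c])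
    (by
      intro R hR
      rw [card_subgroupOf_of_le hT₃C, hT₃c, ← hTc]
      have := hmax (R.map C.subtype) (hR.map C.subtype)
      rwa [Subgroup.card_map_of_injective C.subtype_injective] at this)
  have hd' := map_subtype_conj_smul_subgroupOf hT₃C hT₂C d hd
  have hdH : MulAut.conj (d : G) • H₂ = H₂ := by
    ext x
    rw [mem_conj_smul]
    have hx : ∀ y ∈ H₂, (d : G) * y = y * d := by
      intro y hy
      exact (Subgroup.mem_centralizer_iff.mp d.2 y hy).symm ▸ rfl
    constructor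
    · intro h
      have := hx _ h
      have h2 : x = (d : G)⁻¹ * x * d := by
        calc x = (d : G) * ((d : G)⁻¹ * x * d) * (d : G)⁻¹ := by group
          _ = ((d : G)⁻¹ * x * d) * d * (d : G)⁻¹ := by rw [this]
          _ = (d : G)⁻¹ * x * d := by group
      rw [h2]
      exact h
    · intro h
      have := hx _ h
      have h2 : (d : G)⁻¹ * x * d = x := by rw [mul_assoc, ← this]; group
      rwa [h2]
  refine ⟨(d : G) * c * g₀, ?_⟩
  rw [conj_mul_smul, conj_mul_smul, Subgroup.smul_sup, hg₀, Subgroup.smul_sup, Subgroup.smul_sup, hc, hdH]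
  congr 1


theorem zpowers_comm (x : G) : IsMulCommutative (Subgroup.zpowers x) := by
  refine ⟨⟨?_⟩⟩
  rintro ⟨_, i, rfl⟩ ⟨_, j, rfl⟩
  apply Subtype.ext
  exact zpow_mul_comm x i j

theorem le_comm' {A N : Subgroup G} (h : A ≤ N) (hN : IsMulCommutative N) : IsMulCommutative A :=
  ⟨⟨fun a b => Subtype.ext (show (a : G) * b = b * a from
    congrArg Subtype.val (hN.is_comm.comm ⟨a, h a.2⟩ ⟨b, h b.2⟩))⟩⟩

/-- If `N` is elementary of order at least `q²`, all `q`-elements are in `N`. -/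
theorem all_in_N' (hB : PB G) (N : Subgroup G) [hN : N.Normal] {q : ℕ} [Fact q.Prime]
    (hNq : IsPGroup q N) (hNab : IsMulCommutative N)
    (hexp : ∀ x ∈ N, x ^ q = 1) (hcq : Nat.card N ≠ q) (hNne : N ≠ ⊥)
    (x : G) (b : ℕ) (hb : orderOf x = q ^ b) : x ∈ N := by
  obtain ⟨a, ha⟩ := IsPGroup.iff_card.1 hNq
  have hq : q.Prime := Fact.out
  have ha2 : 2 ≤ a := by
    by_contra hlt
    have : a = 0 ∨ a = 1 := by omega
    rcases this with rfl | rfl
    · exact hNne (Subgroup.card_eq_one.1 (by simpa using ha))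
    · exact hcq (by simpa using ha)
  have hcx : Nat.card (Subgroup.zpowers x) = q ^ b := by rw [Nat.card_zpowers, hb]
  by_cases hba : b ≤ a
  · have hd : q ^ b ∣ Nat.card N := by rw [ha]; exact pow_dvd_pow q hba
    obtain ⟨K₀, hK₀⟩ := Sylow.exists_subgroup_card_pow_prime (G := N) q hd
    let N₀ : Subgroup G := K₀.map N.subtype
    have hcN₀ : Nat.card N₀ = q ^ b := by
      rw [Subgroup.card_map_of_injective N.subtype_injective, hK₀]
    have hle : N₀ ≤ N := by
      rintro _ ⟨y, -, rfl⟩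
      exact y.2
    obtain ⟨g, hg⟩ := hB N₀ (Subgroup.zpowers x) (le_comm' hle hNab) (zpowers_comm x)
      (by rw [hcN₀, hcx])
    have h1 : x ∈ MulAut.conj g • N₀ := by
      rw [hg]; exact Subgroup.mem_zpowers x
    have h2 := conj_smul_le_conj_smul g hle h1
    rwa [conj_smul_normal] at h2
  · exfalso
    push Not at hba
    have hd : q ^ (b - a) ∣ orderOf x := by rw [hb]; exact pow_dvd_pow q (by omega)
    set y := x ^ (q ^ (b - a)) with hy
    have hoy : orderOf y = q ^ a := by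
      rw [hy, orderOf_pow_of_dvd (pow_ne_zero _ hq.ne_zero) hd, hb]
      exact Nat.pow_div (by omega) hq.pos |>.trans (by congr 1; omega)
    have hcy : Nat.card (Subgroup.zpowers y) = q ^ a := by rw [Nat.card_zpowers, hoy]
    obtain ⟨g, hg⟩ := hB N (Subgroup.zpowers y) hNab (zpowers_comm y) (by rw [ha, hcy])
    rw [conj_smul_normal] at hg
    have hyN : y ∈ N := by rw [hg]; exact Subgroup.mem_zpowers y
    have h1 := orderOf_dvd_of_pow_eq_one (hexp y hyN)
    rw [hoy] at h1
    have h2 : a ≤ 1 := (Nat.pow_dvd_pow_iff_le_right hq.one_lt).1 (by simpa using h1)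
    omega

/-- The exclusion statement. -/
def EProp (G : Type u) [Group G] : Prop :=
  UniqueP 2 G → ∀ S : Sylow 2 G, ¬ IsCyclic S → Nat.card S = 8

/-- Noncommutative `2`-subgroup inside a group in which noncyclic Sylows have order `8`. -/
theorem card_eight_of_noncomm (hE : EProp G) (hU : UniqueP 2 G) (T : Subgroup G)
    (hT : IsPGroup 2 T) (hnc : ¬ IsMulCommutative T) :
    Nat.card T = 8 ∧ ∀ R : Subgroup G, IsPGroup 2 R → Nat.card R ≤ 8 := by
  haveI : Fact (Nat.Prime 2) := ⟨Nat.prime_two⟩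
  have hTcyc : ¬ IsCyclic T := by
    intro h
    letI := IsCyclic.commGroup (α := T)
    exact hnc ⟨⟨mul_comm⟩⟩
  obtain ⟨S, hTS⟩ := hT.exists_le_sylow
  have hScyc : ¬ IsCyclic S := by
    intro h
    haveI : IsCyclic (S : Subgroup G) := h
    exact hTcyc (isCyclic_of_injective (Subgroup.inclusion hTS) (Subgroup.inclusion_injective hTS))
  have hS8 : Nat.card S = 8 := hE hU S hScyc
  have hmax : ∀ R : Subgroup G, IsPGroup 2 R → Nat.card R ≤ 8 := by
    intro R hR
    obtain ⟨S', hS'⟩ := hR.exists_le_sylow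
    have h1 : Nat.card R ≤ Nat.card S' := Subgroup.card_le_of_le hS'
    rw [Nat.card_congr (Sylow.equiv S' S).toEquiv, hS8] at h1
    exact h1
  refine ⟨?_, hmax⟩
  have hdvd : Nat.card T ∣ 2 ^ 3 := by
    have h1 := Subgroup.card_dvd_of_le hTS
    have h2 : Nat.card S = 2 ^ 3 := hS8
    rwa [h2] at h1
  obtain ⟨k, hk, hk2⟩ := (Nat.dvd_prime_pow Nat.prime_two).1 hdvd
  interval_cases k
  · exfalso
    rw [pow_zero] at hk2
    haveI := (Nat.card_eq_one_iff_unique.1 hk2).1
    exact hnc ⟨⟨fun a b => Subsingleton.elim _ _⟩⟩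
  · exfalso
    rw [pow_one] at hk2
    haveI : IsCyclic T := isCyclic_of_prime_card hk2
    exact hTcyc inferInstance
  · exfalso
    exact hnc (IsPGroup.isMulCommutative_of_card_eq_prime_sq (p := 2) hk2)
  · simpa using hk2

/-- Key lemma: pass to the quotient by a minimal normal subgroup. -/
theorem key [Group.IsSolvable G] (hB : PB G) (N : Subgroup G) [N.Normal] (hmin : IsMinNormal N)
    (hE : Odd (Nat.card N) ∨ EProp G) : PB (G ⧸ N) := by
  obtain ⟨q, hq, hNq, hNab, hNexp⟩ := hmin.exists_isPGroup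
  haveI : Fact q.Prime := ⟨hq⟩
  intro A B hA hB' hc
  let π := QuotientGroup.mk' N
  have hsurj : Function.Surjective π := QuotientGroup.mk'_surjective N
  have hker : π.ker = N := QuotientGroup.ker_mk' N
  have hkmem : ∀ x : G, π x = 1 ↔ x ∈ N := fun x => by rw [← MonoidHom.mem_ker, hker]
  have aux : ∀ C : Subgroup (G ⧸ N), IsMulCommutative C →
      N ≤ C.comap π ∧ (∀ x ∈ C.comap π, ∀ y ∈ C.comap π, x * y * x⁻¹ * y⁻¹ ∈ N) ∧
      (C.comap π).map π = C ∧ Nat.card (C.comap π) = Nat.card C * Nat.card N := by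
    intro C hC
    have h1 : N ≤ C.comap π := by
      intro x hx
      rw [Subgroup.mem_comap, (hkmem x).2 hx]
      exact C.one_mem
    have h3 : (C.comap π).map π = C := Subgroup.map_comap_eq_self_of_surjective hsurj C
    refine ⟨h1, ?_, h3, ?_⟩
    · intro x hx y hy
      rw [← hker, MonoidHom.mem_ker]
      have h4 := congrArg Subtype.val (hC.is_comm.comm ⟨π x, hx⟩ ⟨π y, hy⟩)
      have h5 : π x * π y = π y * π x := h4
      simp only [map_mul, map_inv]
      rw [h5]
      group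
    · have h4 := card_map_mul_card_inf_ker π (C.comap π)
      rw [h3, hker, inf_eq_right.mpr h1] at h4
      exact h4.symm
  obtain ⟨hNU, hU, hmU, hcU⟩ := aux A hA
  obtain ⟨hNV, hV, hmV, hcV⟩ := aux B hB'
  set U := A.comap π with hUdef
  set V := B.comap π with hVdef
  have hcUV : Nat.card U = Nat.card V := by rw [hcU, hcV, hc]
  have hdiv : Nat.card U / Nat.card N = Nat.card A := by
    rw [hcU]; exact Nat.mul_div_cancel _ Nat.card_pos
  suffices hmain : ∃ g : G, MulAut.conj g • U = V by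
    obtain ⟨g, hg⟩ := hmain
    refine ⟨π g, ?_⟩
    rw [← hmU, ← hmV, ← map_conj_smul, hg]
  have hcauchy : ∀ C : Subgroup (G ⧸ N), q ∣ Nat.card C →
      ∃ t ∈ C.comap π, t ∉ N ∧ t ^ q ∈ N := by
    intro C hd
    obtain ⟨a, ha⟩ := exists_prime_orderOf_dvd_card' (G := C) q hd
    obtain ⟨t, ht⟩ := hsurj (a : G ⧸ N)
    refine ⟨t, ?_, ?_, ?_⟩
    · rw [Subgroup.mem_comap, ht]; exact a.2
    · intro htN
      have h1 : π t = 1 := (hkmem t).2 htN
      rw [ht] at h1
      have h2 : a = 1 := Subtype.ext h1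
      rw [h2, orderOf_one] at ha
      exact hq.one_lt.ne ha
    · rw [← hker, MonoidHom.mem_ker, map_pow, ht]
      have := pow_orderOf_eq_one a
      rw [ha] at this
      exact_mod_cast congrArg Subtype.val this
  by_cases hcq : Nat.card N = q
  · -- `N` has order `q`
    have hqN : ∀ x : G, x ^ q = 1 → x ∈ N := by
      intro x hx
      by_cases hx1 : x = 1
      · rw [hx1]; exact N.one_mem
      · have hox : orderOf x = q := orderOf_eq_prime hx hx1
        obtain ⟨g, hg⟩ := hB N (Subgroup.zpowers x) hNab (zpowers_comm x)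
          (by rw [hcq, Nat.card_zpowers, hox])
        rw [conj_smul_normal] at hg
        rw [hg]; exact Subgroup.mem_zpowers x
    by_cases hd : q ∣ Nat.card A
    · obtain ⟨t₁, ht₁U, ht₁, ht₁q⟩ := hcauchy A hd
      obtain ⟨t₂, ht₂U, ht₂, ht₂q⟩ := hcauchy B (by rw [← hc]; exact hd)
      obtain ⟨T₁, H₁, hT₁, hH₁, hc₁, hs₁, hcen₁⟩ := struct_U N U hcq hNU hU hqN t₁ ht₁U ht₁ ht₁q
      obtain ⟨T₂, H₂, hT₂, hH₂, hc₂, hs₂, hcen₂⟩ := struct_U N V hcq hNV hV hqN t₂ ht₂U ht₂ ht₂q
      have hT₁U : T₁ ≤ U := hs₁ ▸ le_sup_left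
      have hT₂V : T₂ ≤ V := hs₂ ▸ le_sup_left
      have hH₁U : H₁ ≤ U := hs₁ ▸ le_sup_right
      have hH₂V : H₂ ≤ V := hs₂ ▸ le_sup_right
      -- the cardinalities agree
      have hTH : Nat.card T₁ = Nat.card T₂ := by
        obtain ⟨a, ha⟩ := IsPGroup.iff_card.1 hT₁
        obtain ⟨b, hb⟩ := IsPGroup.iff_card.1 hT₂
        have h12 : Nat.card T₁ * Nat.card H₁ = Nat.card T₂ * Nat.card H₂ := by rw [hc₁, hc₂, hcUV]
        apply Nat.dvd_antisymm
        · have : Nat.card T₁ ∣ Nat.card T₂ * Nat.card H₂ := ⟨_, h12.symm⟩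
          rw [ha] at this
          rw [ha]
          exact (Nat.Coprime.pow_left a hH₂.symm).dvd_of_dvd_mul_right this
        · have : Nat.card T₂ ∣ Nat.card T₁ * Nat.card H₁ := ⟨_, h12⟩
          rw [hb] at this
          rw [hb]
          exact (Nat.Coprime.pow_left b hH₁.symm).dvd_of_dvd_mul_right this
      have hHH : Nat.card H₁ = Nat.card H₂ := by
        have h12 : Nat.card T₁ * Nat.card H₁ = Nat.card T₂ * Nat.card H₂ := by rw [hc₁, hc₂, hcUV]
        rw [hTH] at h12
        exact Nat.eq_of_mul_eq_mul_left Nat.card_pos h12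
      have hH₁ab : IsMulCommutative H₁ :=
        ⟨⟨fun a b => Subtype.ext (hcen₁ a a.2 b (hH₁U b.2))⟩⟩
      have hH₂ab : IsMulCommutative H₂ :=
        ⟨⟨fun a b => Subtype.ext (hcen₂ a a.2 b (hH₂V b.2))⟩⟩
      have hcenT₁ : ∀ h ∈ H₁, ∀ t ∈ T₁, h * t = t * h := fun h hh t ht => hcen₁ h hh t (hT₁U ht)
      have hcenT₂ : ∀ h ∈ H₂, ∀ t ∈ T₂, h * t = t * h := fun h hh t ht => hcen₂ h hh t (hT₂V ht)
      by_cases hab : IsMulCommutative T₁ ∧ IsMulCommutative T₂
      · -- both abelian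
        have hUab : IsMulCommutative U := by
          rw [← hs₁]; exact comm_sup T₁ H₁ hab.1 hH₁ab hcenT₁
        have hVab : IsMulCommutative V := by
          rw [← hs₂]; exact comm_sup T₂ H₂ hab.2 hH₂ab hcenT₂
        exact hB U V hUab hVab hcUV
      · -- one of them nonabelian
        have hUP : UniqueP q G := by
          refine uniqueP_of_subgroups (fun H K hH hK => ?_)
          have key2 : ∀ H : Subgroup G, Nat.card H = q → H = N := by
            intro H hH
            refine Subgroup.eq_of_le_of_card_ge (fun x hx => hqN x ?_) (by rw [hH, hcq])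
            have := pow_card_eq_one' (G := H) (x := ⟨x, hx⟩)
            rw [hH] at this
            simpa using congrArg Subtype.val this
          rw [key2 H hH, key2 K hK]
        have hnc : ¬ IsMulCommutative T₁ ∨ ¬ IsMulCommutative T₂ := by
          by_contra hcon
          push Not at hcon
          exact hab hcon
        have hq2 : q = 2 := by
          have hqT : ∀ T : Subgroup G, IsPGroup q T → ¬ IsMulCommutative T → q = 2 := by
            intro T hT hnc
            rcases cyclic_or_quaternion hT (hUP.subgroup T) with h | h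
            · exfalso
              letI := IsCyclic.commGroup (α := T)
              exact hnc ⟨⟨mul_comm⟩⟩
            · exact h.1
          rcases hnc with h | h
          · exact hqT _ hT₁ h
          · exact hqT _ hT₂ h
        subst hq2
        have hEP : EProp G := by
          rcases hE with h | h
          · exfalso
            rw [hcq] at h
            exact absurd h (by decide)
          · exact h
        have h8 : Nat.card T₁ = 8 ∧ ∀ R : Subgroup G, IsPGroup 2 R → Nat.card R ≤ 8 := by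
          rcases hnc with h | h
          · exact card_eight_of_noncomm hEP hUP T₁ hT₁ h
          · have := card_eight_of_noncomm hEP hUP T₂ hT₂ h
            rwa [← hTH] at this
        obtain ⟨g, hg⟩ := conj_of_structure hB T₁ H₁ T₂ H₂ hT₁ hT₂ hTH hHH hH₁ab hH₂ab hcenT₁ hcenT₂
          (by rw [h8.1]; exact h8.2)
        refine ⟨g, ?_⟩
        rw [← hs₁, ← hs₂]
        exact hg
    · refine lemmaC hB N U V hNU hNV hU hV hcUV ?_
      rw [hdiv, hcq]
      exact (Nat.Prime.coprime_iff_not_dvd hq).2 hd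
  · -- `N` of order at least `q²`
    refine lemmaC hB N U V hNU hNV hU hV hcUV ?_
    rw [hdiv]
    obtain ⟨a, ha⟩ := IsPGroup.iff_card.1 hNq
    rw [ha]
    refine Nat.Coprime.pow_left a ((Nat.Prime.coprime_iff_not_dvd hq).2 ?_)
    intro hd
    obtain ⟨t, -, ht, htq⟩ := hcauchy A hd
    apply ht
    have h1 : t ^ (q ^ 2) = 1 := by
      rw [pow_two, pow_mul]
      exact hNexp _ htq
    obtain ⟨k, -, hk⟩ := (Nat.dvd_prime_pow hq).1 (orderOf_dvd_of_pow_eq_one h1)
    exact all_in_N' hB N hNq hNab hNexp hcq hmin.ne_bot t k hk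


/-- The central involution. -/
theorem exists_central_invol (hU : UniqueP 2 G) (S : Sylow 2 G) (hS : ¬ IsCyclic S) :
    ∃ z : G, orderOf z = 2 ∧ (∀ g : G, g * z * g⁻¹ = z) ∧ (∀ x : G, x ^ 2 = 1 → x ≠ 1 → x = z) := by
  haveI : Fact (Nat.Prime 2) := ⟨Nat.prime_two⟩
  have hd : 2 ∣ Nat.card S := by
    obtain ⟨k, hk⟩ := IsPGroup.iff_card.1 S.isPGroup'
    rcases k with _ | k
    · exfalso
      rw [pow_zero] at hk
      haveI := (Nat.card_eq_one_iff_unique.1 hk).1
      exact hS inferInstance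
    · rw [hk, pow_succ]; exact Dvd.intro_left _ rfl
  obtain ⟨z₀, hz₀⟩ := exists_prime_orderOf_dvd_card' (G := S) 2 hd
  have hoz : orderOf (z₀ : G) = 2 := by rw [Subgroup.orderOf_coe]; exact hz₀
  have hz2 : (z₀ : G) ^ 2 = 1 := by
    have := pow_orderOf_eq_one (z₀ : G)
    rwa [hoz] at this
  have hz1 : (z₀ : G) ≠ 1 := by
    intro h
    rw [h, orderOf_one] at hoz
    exact absurd hoz (by decide)
  have huniq : ∀ x : G, x ^ 2 = 1 → x ≠ 1 → x = z₀ := by
    intro x hx hx1
    obtain ⟨k, hk⟩ := hU x z₀ hx hz2 hx1 hz1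
    simp only at hk
    rw [← hk, ← zpow_mod_orderOf, hoz]
    rw [← hk, ← zpow_mod_orderOf, hoz] at hx1
    have h2 : k % ((2 : ℕ) : ℤ) = 0 ∨ k % ((2 : ℕ) : ℤ) = 1 := by omega
    rcases h2 with h2 | h2
    · rw [h2, zpow_zero] at hx1
      exact absurd rfl hx1
    · rw [h2, zpow_one]
  refine ⟨z₀, hoz, ?_, huniq⟩
  intro g
  apply huniq
  · rw [conj_pow, hz2, mul_one, mul_inv_cancel]
  · intro h
    have : (z₀ : G) = 1 := by
      have h2 := congrArg (fun y => g⁻¹ * y * g) h
      simpa [mul_assoc] using h2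
    exact hz1 this

/-- Step: a normal `2`-subgroup containing every element of order `4` forces order `8`. -/
theorem card_eight_of_M (hB : PB G) (hU : UniqueP 2 G) (S : Sylow 2 G) (hS : ¬ IsCyclic S)
    (M : Subgroup G) [hMn : M.Normal] (hM : IsPGroup 2 M) (hfour : ∀ b : G, orderOf b = 4 → b ∈ M) :
    Nat.card S = 8 := by
  haveI : Fact (Nat.Prime 2) := ⟨Nat.prime_two⟩
  rcases cyclic_or_quaternion S.isPGroup' (hU.subgroup S) with h | h
  · exact absurd h hS
  obtain ⟨-, u, b, n, hSC, hn, hcS, hbu, hbub, hb2⟩ := h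
  have hou : orderOf u = 2 ^ n := hSC.hu
  obtain ⟨m, rfl⟩ : ∃ m, n = m + 2 := ⟨n - 2, by omega⟩
  have hz1 : u ^ (2 ^ (m + 2 - 1)) ≠ 1 := by
    apply pow_ne_one_of_lt_orderOf (by positivity)
    rw [hou]
    exact Nat.pow_lt_pow_right (by norm_num) (by omega)
  have hz2 : (u ^ (2 ^ (m + 2 - 1))) ^ 2 = 1 := by
    rw [← pow_mul, ← pow_succ, show m + 2 - 1 + 1 = m + 2 by omega, ← hou]
    exact pow_orderOf_eq_one u
  have hord4 : ∀ x : S, x ^ 2 = u ^ (2 ^ (m + 2 - 1)) → orderOf (x : G) = 4 := by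
    intro x hx
    rw [Subgroup.orderOf_coe]
    have h1 : orderOf x = 2 ^ (1 + 1) := by
      apply orderOf_eq_prime_pow
      · rw [pow_one, hx]; exact hz1
      · rw [show (2 : ℕ) ^ (1 + 1) = 2 * 2 by norm_num, pow_mul, hx, hz2]
    rw [h1]; norm_num
  have hbM : (b : G) ∈ M := hfour _ (hord4 b hb2)
  have hbuM : ((b * u : S) : G) ∈ M := by
    apply hfour _ (hord4 _ _)
    have hcb : b ^ 2 * u = u * b ^ 2 := by
      rw [hb2, ← pow_succ, ← pow_succ']
    calc (b * u) ^ 2 = (b * u * b⁻¹) * (b ^ 2 * u) := by rw [pow_two, pow_two]; group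
      _ = u⁻¹ * (u * b ^ 2) := by rw [hbub, hcb]
      _ = b ^ 2 := by group
      _ = _ := hb2
  have huM : (u : G) ∈ M := by
    have h1 : (u : G) = (b : G)⁻¹ * ((b * u : S) : G) := by
      simp
    rw [h1]
    exact M.mul_mem (M.inv_mem hbM) hbuM
  -- `S ≤ M`
  have hSM : (S : Subgroup G) ≤ M := by
    let K : Subgroup S := M.subgroupOf (S : Subgroup G)
    have hzK : Subgroup.zpowers u ≤ K := (Subgroup.zpowers_le).2 (Subgroup.mem_subgroupOf.2 huM)
    have hbK : b ∈ K := Subgroup.mem_subgroupOf.2 hbM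
    have hcz : Nat.card (Subgroup.zpowers u) = 2 ^ (m + 2) := by rw [Nat.card_zpowers, hou]
    have hd1 : Nat.card K ∣ 2 ^ (m + 2 + 1) := by
      rw [← hcS]; exact Subgroup.card_subgroup_dvd_card K
    obtain ⟨k, hk, hk2⟩ := (Nat.dvd_prime_pow Nat.prime_two).1 hd1
    have hd2 : 2 ^ (m + 2) ∣ Nat.card K := by
      rw [← hcz]; exact Subgroup.card_dvd_of_le hzK
    rw [hk2] at hd2
    have hle := (Nat.pow_dvd_pow_iff_le_right (by norm_num : 1 < 2)).1 hd2
    have hkne : k ≠ m + 2 := by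
      intro he
      have : Subgroup.zpowers u = K :=
        Subgroup.eq_of_le_of_card_ge hzK (by rw [hk2, hcz, he])
      rw [← this] at hbK
      exact hbu hbK
    have hke : k = m + 2 + 1 := by omega
    have htop : K = ⊤ := Subgroup.eq_top_of_card_eq K (by rw [hk2, hke, hcS])
    intro x hx
    have hxK : (⟨x, hx⟩ : S) ∈ K := by rw [htop]; trivial
    exact Subgroup.mem_subgroupOf.1 hxK
  have hMS : M = S := S.is_maximal' hM hSM
  have hSn : (S : Subgroup G).Normal := hMS ▸ hMn
  by_contra hne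
  have hm : 1 ≤ m := by
    by_contra hm0
    have : m = 0 := by omega
    subst this
    exact hne (by rw [hcS]; norm_num)
  obtain ⟨l, rfl⟩ : ∃ l, m = l + 1 := ⟨m - 1, by omega⟩
  -- the char subgroup of order 4
  set c : S := u ^ (2 ^ (l + 1)) with hc
  set w : S := u ^ (2 ^ l) with hw
  have hwc : w ^ 2 = c := by
    rw [hw, hc, ← pow_mul, ← pow_succ]
  have hoc : orderOf c = 4 := by
    rw [hc, orderOf_pow_of_dvd (by positivity) (by rw [hou]; exact pow_dvd_pow 2 (by omega)), hou]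
    rw [show l + 1 + 2 = (l + 1) + 2 by rfl, pow_add]
    rw [Nat.mul_div_cancel_left _ (by positivity)]
    norm_num
  have hoc' : orderOf (c : G) = 4 := by rw [Subgroup.orderOf_coe, hoc]
  have hob : orderOf (b : G) = 4 := hord4 b hb2
  have he : ∀ j : ℤ, u ^ (((2 : ℤ) ^ (l + 1)) * j) = c ^ j := by
    intro j
    rw [zpow_mul, hc]
    congr 1
    rw [← zpow_natCast]
    push_cast
    rfl
  have hidx : (Subgroup.zpowers u).index = 2 := by
    have h1 := Subgroup.card_mul_index (Subgroup.zpowers u)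
    rw [Nat.card_zpowers, hou, hcS, pow_succ] at h1
    exact Nat.eq_of_mul_eq_mul_left (by positivity) h1
  have hconj : ∀ g : G, g * (c : G) * g⁻¹ ∈ Subgroup.zpowers (c : G) := by
    intro g
    have hw' : g * (w : G) * g⁻¹ ∈ (S : Subgroup G) := hSn.conj_mem _ w.2 g
    let ws : S := ⟨_, hw'⟩
    have hws : ((ws ^ 2 : S) : G) = g * (c : G) * g⁻¹ := by
      show (g * (w : G) * g⁻¹) ^ 2 = _
      rw [conj_pow]
      have : (w : G) ^ 2 = (c : G) := by rw [← hwc]; simp
      rw [this]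
    have hmem := Subgroup.sq_mem_of_index_two hidx ws
    obtain ⟨k, hk⟩ := hmem
    simp only at hk
    have h4 : (ws ^ 2) ^ 4 = 1 := by
      apply Subtype.ext
      rw [Subgroup.coe_pow, hws, conj_pow]
      have : (c : G) ^ 4 = 1 := by rw [← hoc']; exact pow_orderOf_eq_one _
      rw [this]; simp
    rw [← hk] at h4
    have h5 : u ^ (k * 4) = 1 := by
      rw [zpow_mul]; exact_mod_cast h4
    have h6 := orderOf_dvd_iff_zpow_eq_one.2 h5
    rw [hou] at h6
    have h7 : ((2 : ℤ) ^ (l + 1)) ∣ k := by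
      have h8 : ((2 : ℤ) ^ (l + 1)) * 4 ∣ k * 4 := by
        have : ((2 : ℤ) ^ (l + 1)) * 4 = (((2 ^ (l + 1 + 2) : ℕ)) : ℤ) := by
          push_cast; ring
        rw [this]; exact h6
      exact Int.dvd_of_mul_dvd_mul_right (by norm_num) h8
    obtain ⟨j, rfl⟩ := h7
    refine ⟨j, ?_⟩
    simp only
    rw [← hws, ← hk, he j]
    simp
  have hCn : (Subgroup.zpowers (c : G)).Normal := by
    constructor
    rintro _ ⟨k, rfl⟩ g
    simp only
    rw [← conj_zpow]
    exact Subgroup.zpow_mem _ (hconj g) k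
  obtain ⟨g, hg⟩ := hB (Subgroup.zpowers (c : G)) (Subgroup.zpowers (b : G)) (zpowers_comm _)
    (zpowers_comm _) (by rw [Nat.card_zpowers, Nat.card_zpowers, hoc', hob])
  rw [conj_smul_normal] at hg
  have hbc : (b : G) ∈ Subgroup.zpowers (c : G) := by rw [hg]; exact Subgroup.mem_zpowers _
  obtain ⟨k, hk⟩ := hbc
  apply hbu
  refine ⟨2 ^ (l + 1) * k, Subtype.ext ?_⟩
  simp only at hk ⊢
  rw [he k, ← hk]
  simp


/-- Either a nontrivial normal subgroup of odd order or a normal `2`-subgroup with an element of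
order `4`. -/
theorem exists_M [Group.IsSolvable G] (hU : UniqueP 2 G) (S : Sylow 2 G) (hS : ¬ IsCyclic S)
    (hodd : ∀ R : Subgroup G, R.Normal → R ≠ ⊥ → ¬ Odd (Nat.card R)) :
    ∃ M : Subgroup G, M.Normal ∧ IsPGroup 2 M ∧ ∃ a ∈ M, orderOf a = 4 := by
  classical
  haveI : Fact (Nat.Prime 2) := ⟨Nat.prime_two⟩
  obtain ⟨z, hoz, hzc, huniq⟩ := exists_central_invol hU S hS
  have hz2 : z ^ 2 = 1 := by rw [← hoz]; exact pow_orderOf_eq_one z
  have hz1 : z ≠ 1 := by
    intro h
    rw [h, orderOf_one] at hoz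
    exact absurd hoz (by decide)
  let Z : Subgroup G := Subgroup.zpowers z
  have hcen : ∀ e ∈ Z, ∀ g : G, g * e = e * g := by
    rintro _ ⟨k, rfl⟩ g
    have h1 : Commute g z := by
      show g * z = z * g
      calc g * z = g * z * g⁻¹ * g := by group
        _ = z * g := by rw [hzc g]
    exact (h1.zpow_right k)
  haveI hZn : Z.Normal := by
    constructor
    intro e he g
    have h1 := hcen e he g
    rw [h1]
    simpa using he
  have hZ2 : ∀ e ∈ Z, e ^ 2 = 1 := by
    rintro _ ⟨k, rfl⟩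
    simp only
    have h1 : (z ^ k) ^ 2 = (z ^ 2) ^ k := by
      rw [← zpow_natCast, ← zpow_mul, mul_comm, zpow_mul, zpow_natCast]
    rw [h1, hz2, one_zpow]
  have hcZ : Nat.card Z = 2 := by
    show Nat.card (Subgroup.zpowers z) = 2
    rw [Nat.card_zpowers, hoz]
  -- an element outside `Z`
  have hout : ∃ x : G, x ∉ Z := by
    by_contra hcon
    push Not at hcon
    apply hS
    have hle : (S : Subgroup G) ≤ Z := fun x _ => hcon x
    exact isCyclic_of_injective (Subgroup.inclusion hle) (Subgroup.inclusion_injective hle)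
  obtain ⟨x₀, hx₀⟩ := hout
  let π := QuotientGroup.mk' Z
  have hsurj : Function.Surjective π := QuotientGroup.mk'_surjective Z
  have hker : π.ker = Z := QuotientGroup.ker_mk' Z
  have hkmem : ∀ x : G, π x = 1 ↔ x ∈ Z := fun x => by rw [← MonoidHom.mem_ker, hker]
  haveI : Nontrivial (G ⧸ Z) := ⟨⟨π x₀, 1, fun h => hx₀ ((hkmem x₀).1 h)⟩⟩
  obtain ⟨Mb, hMb⟩ := exists_isMinNormal (G := G ⧸ Z)
  obtain ⟨r, hr, hMr, hMab, hMexp⟩ := hMb.exists_isPGroup
  haveI : Fact r.Prime := ⟨hr⟩
  haveI hMbn := hMb.normal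
  let M : Subgroup G := Mb.comap π
  have hMn : M.Normal := inferInstance
  have hZM : Z ≤ M := by
    intro x hx
    show π x ∈ Mb
    rw [(hkmem x).2 hx]
    exact Mb.one_mem
  have hcM : Nat.card M = Nat.card Mb * 2 := by
    have h1 := card_map_mul_card_inf_ker π M
    have h2 : M.map π = Mb := Subgroup.map_comap_eq_self_of_surjective hsurj Mb
    rw [h2, hker, inf_eq_right.mpr hZM, hcZ] at h1
    exact h1.symm
  have hout2 : ∃ x ∈ M, x ∉ Z := by
    have hne := hMb.ne_bot
    obtain ⟨y, hy1⟩ := (Subgroup.ne_bot_iff_exists_ne_one).1 hne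
    obtain ⟨x, hx⟩ := hsurj (y : G ⧸ Z)
    refine ⟨x, ?_, fun h => hy1 (Subtype.ext ?_)⟩
    · show π x ∈ Mb
      rw [hx]; exact y.2
    · rw [← hx]; exact (hkmem x).2 h
  obtain ⟨x, hxM, hxZ⟩ := hout2
  by_cases hr2 : r = 2
  · subst hr2
    have hMp : IsPGroup 2 M := by
      obtain ⟨a, ha⟩ := IsPGroup.iff_card.1 hMr
      exact IsPGroup.of_card (n := a + 1) (by rw [hcM, ha, pow_succ])
    refine ⟨M, hMn, hMp, ?_⟩
    obtain ⟨k, hk⟩ := hMp ⟨x, hxM⟩
    have hxk : x ^ 2 ^ k = 1 := by simpa using congrArg Subtype.val hk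
    obtain ⟨j, -, hj⟩ := (Nat.dvd_prime_pow Nat.prime_two).1 (orderOf_dvd_of_pow_eq_one hxk)
    have hj2 : 2 ≤ j := by
      by_contra hlt
      have : j = 0 ∨ j = 1 := by omega
      rcases this with rfl | rfl
      · rw [pow_zero, orderOf_eq_one_iff] at hj
        exact hxZ (hj ▸ Z.one_mem)
      · rw [pow_one] at hj
        have h1 : x ^ 2 = 1 := by rw [← hj]; exact pow_orderOf_eq_one x
        have h2 : x ≠ 1 := fun h => by
          rw [h, orderOf_one] at hj
          exact absurd hj (by decide)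
        have := huniq x h1 h2
        exact hxZ (this ▸ Subgroup.mem_zpowers z)
    refine ⟨x ^ 2 ^ (j - 2), M.pow_mem hxM _, ?_⟩
    rw [orderOf_pow_of_dvd (by positivity) (by rw [hj]; exact pow_dvd_pow 2 (by omega)), hj]
    rw [show j = (j - 2) + 2 by omega, pow_add]
    rw [Nat.add_sub_cancel, Nat.mul_div_cancel_left _ (by positivity)]
    norm_num
  · exfalso
    have hrodd : Odd r := hr.odd_of_ne_two hr2
    -- `M` is abelian
    have hMcomm : ∀ a ∈ M, ∀ b ∈ M, a * b = b * a := by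
      intro a ha b hb
      have hmem : ∀ y ∈ M, y ^ r ∈ Z := by
        intro y hy
        rw [← hkmem, map_pow]
        exact hMexp _ hy
      set e := a * b * a⁻¹ * b⁻¹ with he
      have heZ : e ∈ Z := by
        rw [← hkmem]
        have h4 := congrArg Subtype.val (hMab.is_comm.comm ⟨π a, ha⟩ ⟨π b, hb⟩)
        have h5 : π a * π b = π b * π a := h4
        simp only [he, map_mul, map_inv]
        rw [h5]
        group
      have h1 : a * b * a⁻¹ = e * b := by rw [he]; group
      have h2 : (a * b * a⁻¹) ^ r = b ^ r := by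
        rw [conj_pow]
        have := hcen _ (hmem b hb) a
        rw [this]
        group
      have hce : Commute e b := hcen e heZ b |>.symm
      rw [h1, hce.mul_pow, mul_eq_right] at h2
      have h3 := orderOf_dvd_of_pow_eq_one h2
      have h4 := orderOf_dvd_of_pow_eq_one (hZ2 e heZ)
      have h5 : Nat.Coprime r 2 := (Nat.coprime_two_right).2 hrodd
      have h6 := Nat.dvd_gcd h3 h4
      rw [h5, Nat.dvd_one, orderOf_eq_one_iff] at h6
      have h7 : a * b * a⁻¹ * b⁻¹ = 1 := h6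
      rwa [mul_inv_eq_one, mul_inv_eq_iff_eq_mul] at h7
    let R : Subgroup G :=
      { carrier := {y | y ∈ M ∧ y ^ r = 1}
        one_mem' := ⟨M.one_mem, one_pow r⟩
        mul_mem' := by
          rintro a b ⟨ha, ha1⟩ ⟨hb, hb1⟩
          refine ⟨M.mul_mem ha hb, ?_⟩
          rw [(show Commute a b from hMcomm a ha b hb).mul_pow, ha1, hb1, one_mul]
        inv_mem' := by
          rintro a ⟨ha, ha1⟩
          exact ⟨M.inv_mem ha, by rw [inv_pow, ha1, inv_one]⟩ }
    have hRn : R.Normal := by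
      constructor
      rintro a ⟨ha, ha1⟩ g
      exact ⟨hMn.conj_mem a ha g, by rw [conj_pow, ha1, mul_one, mul_inv_cancel]⟩
    have hrd : r ∣ Nat.card M := by
      haveI : Nontrivial Mb := (Subgroup.nontrivial_iff_ne_bot Mb).mpr hMb.ne_bot
      obtain ⟨a, ha⟩ := IsPGroup.iff_card.1 hMr
      have ha0 : a ≠ 0 := by
        rintro rfl
        have := Finite.one_lt_card (α := Mb)
        rw [ha] at this
        simp at this
      rw [hcM, ha]
      exact Dvd.dvd.mul_right (dvd_pow_self r ha0) 2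
    obtain ⟨y, hy⟩ := exists_prime_orderOf_dvd_card' (G := M) r hrd
    have hyR : (y : G) ∈ R := by
      refine ⟨y.2, ?_⟩
      have : y ^ r = 1 := by rw [← hy]; exact pow_orderOf_eq_one y
      exact_mod_cast congrArg Subtype.val this
    have hRb : R ≠ ⊥ := by
      intro h
      rw [h, Subgroup.mem_bot] at hyR
      have hy1 : y = 1 := Subtype.ext hyR
      rw [hy1, orderOf_one] at hy
      exact hr.one_lt.ne hy
    have hRp : IsPGroup r R := by
      intro a
      refine ⟨1, Subtype.ext ?_⟩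
      simpa using a.2.2
    obtain ⟨k, hk⟩ := IsPGroup.iff_card.1 hRp
    exact hodd R hRn hRb (by rw [hk]; exact hrodd.pow)

end Helpers

section Main

/-- Exclusion: in a solvable group with property `PB` and a unique involution, noncyclic Sylow
`2`-subgroups have order `8`. -/
theorem eprop_all (n : ℕ) : ∀ {G : Type u} [Group G] [Finite G] [Group.IsSolvable G],
    Nat.card G = n → PB G → EProp G := by
  induction n using Nat.strong_induction_on with
  | _ n ih =>
    intro G _ _ _ hn hB hU S hS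
    haveI : Fact (Nat.Prime 2) := ⟨Nat.prime_two⟩
    by_cases hodd : ∀ R : Subgroup G, R.Normal → R ≠ ⊥ → ¬ Odd (Nat.card R)
    · obtain ⟨M, hMn, hMp, a, haM, hoa⟩ := exists_M hU S hS hodd
      refine card_eight_of_M hB hU S hS M hMp ?_
      intro b hob
      obtain ⟨g, hg⟩ := hB (Subgroup.zpowers a) (Subgroup.zpowers b) (zpowers_comm a)
        (zpowers_comm b) (by rw [Nat.card_zpowers, Nat.card_zpowers, hoa, hob])
      have hle : Subgroup.zpowers a ≤ M := (Subgroup.zpowers_le).2 haM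
      have h1 := conj_smul_le_conj_smul g hle
      haveI := hMn
      rw [hg, conj_smul_normal] at h1
      exact h1 (Subgroup.mem_zpowers b)
    · push Not at hodd
      obtain ⟨R, hRn, hRb, hRo⟩ := hodd
      obtain ⟨N, hNmin, hNR⟩ := exists_isMinNormal_le R hRn hRb
      haveI := hNmin.normal
      have hNo : Odd (Nat.card N) := Odd.of_dvd_nat hRo (Subgroup.card_dvd_of_le hNR)
      have hBq : PB (G ⧸ N) := key hB N hNmin (Or.inl hNo)
      let π := QuotientGroup.mk' N
      have hsurj : Function.Surjective π := QuotientGroup.mk'_surjective N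
      have hker : π.ker = N := QuotientGroup.ker_mk' N
      have hkmem : ∀ x : G, π x = 1 ↔ x ∈ N := fun x => by rw [← MonoidHom.mem_ker, hker]
      obtain ⟨z, hoz, hzc, huniq⟩ := exists_central_invol hU S hS
      have hzN : z ∉ N := by
        intro h
        have h1 : orderOf z ∣ Nat.card N := Subgroup.orderOf_dvd_natCard N h
        rw [hoz] at h1
        exact (Nat.not_even_iff_odd.2 hNo) (even_iff_two_dvd.2 h1)
      have hzb : π z ≠ 1 := fun h => hzN ((hkmem z).1 h)
      have hozb : orderOf (π z) = 2 := by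
        apply orderOf_eq_prime _ hzb
        rw [← map_pow, ← hoz, pow_orderOf_eq_one, map_one]
      have hZbn : (Subgroup.zpowers (π z)).Normal := by
        constructor
        rintro _ ⟨k, rfl⟩ g
        obtain ⟨g, rfl⟩ := hsurj g
        simp only
        rw [← conj_zpow, ← map_inv, ← map_mul, ← map_mul, hzc g]
        exact ⟨k, rfl⟩
      have hUq : UniqueP 2 (G ⧸ N) := by
        intro y w hy hw hy1 hw1
        have key2 : ∀ y : G ⧸ N, y ^ 2 = 1 → y ≠ 1 →
            Subgroup.zpowers (π z) = Subgroup.zpowers y := by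
          intro y hy hy1
          have hoy : orderOf y = 2 := orderOf_eq_prime hy hy1
          obtain ⟨g, hg⟩ := hBq (Subgroup.zpowers (π z)) (Subgroup.zpowers y) (zpowers_comm _)
            (zpowers_comm _) (by rw [Nat.card_zpowers, Nat.card_zpowers, hozb, hoy])
          rwa [conj_smul_normal] at hg
        have h1 := key2 y hy hy1
        have h2 := key2 w hw hw1
        rw [← h2, h1]
        exact Subgroup.mem_zpowers y
      have hSN : (S : Subgroup G) ⊓ π.ker = ⊥ := by
        rw [hker]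
        apply inf_eq_bot_of_coprime_card
        obtain ⟨k, hk⟩ := IsPGroup.iff_card.1 S.isPGroup'
        rw [hk]
        exact Nat.Coprime.pow_left k ((Nat.coprime_two_left).2 hNo)
      have hcS : Nat.card ((S : Subgroup G).map π) = Nat.card S := card_map_of_disjoint_ker π _ hSN
      let Sb : Sylow 2 (G ⧸ N) := S.mapSurjective hsurj
      have hSbc : (Sb : Subgroup (G ⧸ N)) = (S : Subgroup G).map π := Sylow.coe_mapSurjective hsurj S
      have hSbnc : ¬ IsCyclic Sb := by
        intro hc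
        apply hS
        haveI : IsCyclic ((S : Subgroup G).map π) := by
          rw [← hSbc]; exact hc
        have hinj : Function.Injective (π.subgroupMap (S : Subgroup G)) := by
          intro a b hab
          have h1 : π a = π b := congrArg Subtype.val hab
          have h2 : (a : G)⁻¹ * b ∈ (S : Subgroup G) ⊓ π.ker := by
            refine Subgroup.mem_inf.2 ⟨S.toSubgroup.mul_mem (S.toSubgroup.inv_mem a.2) b.2, ?_⟩
            rw [MonoidHom.mem_ker, map_mul, map_inv, h1, inv_mul_cancel]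
          rw [hSN, Subgroup.mem_bot, inv_mul_eq_one] at h2
          exact Subtype.ext h2
        exact isCyclic_of_injective _ hinj
      have hlt : Nat.card (G ⧸ N) < n := by
        rw [← hn]; exact card_quotient_lt N hNmin.ne_bot
      have h8 := ih _ hlt rfl hBq hUq Sb hSbnc
      rw [← hcS, ← hSbc]
      exact h8

/-- The quotient theorem. -/
theorem quot_all (n : ℕ) : ∀ {G : Type u} [Group G] [Finite G] [Group.IsSolvable G],
    Nat.card G = n → PB G → ∀ (M : Subgroup G) [M.Normal], PB (G ⧸ M) := by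
  induction n using Nat.strong_induction_on with
  | _ n ih =>
    intro G _ _ _ hn hB M _
    by_cases hM : M = ⊥
    · subst hM
      exact PB.transfer (QuotientGroup.quotientBot (G := G)).symm hB
    · obtain ⟨N, hNmin, hNM⟩ := exists_isMinNormal_le M inferInstance hM
      haveI := hNmin.normal
      have hBq : PB (G ⧸ N) := key hB N hNmin (Or.inr (eprop_all _ rfl hB))
      have hlt : Nat.card (G ⧸ N) < n := by
        rw [← hn]; exact card_quotient_lt N hNmin.ne_bot
      have h1 := ih _ hlt rfl hBq (M.map (QuotientGroup.mk' N))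
      exact PB.transfer (QuotientGroup.quotientQuotientEquivQuotient N M hNM) h1

end Main

/-- Let G be a finite solvable group in which any two abelian subgroups of the same order are conjugate. Then every quotient of G has the same property: any two abelian subgroups of the quotient of the same order are conjugate. -/
theorem result {G : Type*} [Group G] [Finite G] (hB : ∀ A B : Subgroup G, IsMulCommutative ↥A → IsMulCommutative ↥B → Nat.card ↥A = Nat.card ↥B → ∃ g : G, B = A.map (MulAut.conj g).toMonoidHom) (hsol : Group.IsSolvable G) (M : Subgroup G) [M.Normal] :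
    ∀ A B : Subgroup (G ⧸ M), IsMulCommutative ↥A → IsMulCommutative ↥B → Nat.card ↥A = Nat.card ↥B →
      ∃ g : G ⧸ M, B = A.map (MulAut.conj g).toMonoidHom := by
  intro A B hA hB' hc
  have h : PB G := fun A B hA hB' hc => by
    obtain ⟨g, hg⟩ := hB A B hA hB' hc
    exact ⟨g, hg.symm⟩
  obtain ⟨g, hg⟩ := quot_all _ rfl h M A B hA hB' hc
  exact ⟨g, hg.symm⟩

end Cfsg.Agent.S3912
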