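import Cfsg.Statements.S3913
import Cfsg.Agent.S3912
import Cfsg.Agent.Lib.PGroup.Timmesfeld

set_option autoImplicit false
open Cfsg

namespace Cfsg.Agent.S3913

open Pointwise Cfsg.Agent.Lib.Coprime.SZ Cfsg.Agent.Lib.Solvable.MinimalNormal
open Cfsg.Agent.Lib.PGroup.CyclicMax Cfsg.Agent.Lib.PGroup.CyclicMax2
open Cfsg.Agent.S3912 Cfsg.Agent.S4022

universe u

section Tools

/-- Two independent commuting elements of order `p` cannot both act fixed-point-freely on an
abelian group without `p`-torsion. -/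
theorem norm_trivial {V A : Type*} [Group V] [Group A] (hV : ∀ a b : V, a * b = b * a)
    (φ : A →* MulAut V) {p : ℕ}
    (hp : p.Prime) (hcop : ∀ n : V, n ^ p = 1 → n = 1) (x y : A) (hxy : Commute x y)
    (hx : x ^ p = 1) (hy : y ^ p = 1) (hy1 : y ≠ 1) (hxy1 : ∀ j : ℕ, x * y ^ j ≠ 1)
    (fpf : ∀ r : A, r ≠ 1 → ∀ v : V, φ r v = v → v = 1) (n : V) : n = 1 := by
  classical
  letI : CommGroup V := { (inferInstance : Group V) with mul_comm := hV }
  haveI : Fact p.Prime := ⟨hp⟩
  have hnorm : ∀ r : A, r ≠ 1 → r ^ p = 1 → ∀ m : V, ∏ i ∈ Finset.range p, φ (r ^ i) m = 1 := by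
    intro r hr hrp m
    apply fpf r hr
    rw [map_prod]
    have h1 : ∀ i, φ r (φ (r ^ i) m) = φ (r ^ (i + 1)) m := by
      intro i
      rw [pow_succ', map_mul]; rfl
    simp_rw [h1]
    have h2 := Finset.prod_range_succ (fun i => φ (r ^ i) m) p
    have h3 := Finset.prod_range_succ' (fun i => φ (r ^ i) m) p
    rw [h2] at h3
    simp only [pow_zero, hrp, map_one] at h3
    exact (mul_right_cancel h3).symm
  have hoy : orderOf y = p := orderOf_eq_prime hy hy1
  have hyi : ∀ i ∈ Finset.range p, i ≠ 0 → y ^ i ≠ 1 := by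
    intro i hi hi0
    apply pow_ne_one_of_lt_orderOf hi0
    rw [hoy]
    exact Finset.mem_range.1 hi
  apply hcop
  have hxyp : ∀ j : ℕ, (x * y ^ j) ^ p = 1 := by
    intro j
    rw [(hxy.pow_right j).mul_pow, hx, one_mul, ← pow_mul, mul_comm, pow_mul, hy, one_pow]
  have hprod : ∏ j ∈ Finset.range p, ∏ i ∈ Finset.range p, φ ((x * y ^ j) ^ i) n = 1 :=
    Finset.prod_eq_one (fun j _ => hnorm (x * y ^ j) (hxy1 j) (hxyp j) n)
  rw [Finset.prod_comm, Finset.prod_eq_single 0] at hprod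
  · simpa using hprod
  · intro i hi hi0
    have h4 : ∀ j, φ ((x * y ^ j) ^ i) n = φ ((y ^ i) ^ j) (φ (x ^ i) n) := by
      intro j
      rw [(hxy.pow_right j).mul_pow, ← pow_mul, mul_comm j i, pow_mul,
        (show Commute (x ^ i) ((y ^ i) ^ j) from ((hxy.pow_pow i i).pow_right j)).eq, map_mul]
      rfl
    simp_rw [h4]
    exact hnorm (y ^ i) (hyi i hi hi0) (by rw [← pow_mul, mul_comm, pow_mul, hy, one_pow]) _
  · intro h
    exact absurd (Finset.mem_range.2 hp.pos) h

variable {G : Type u} [Group G]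

/-- Stabilizer of `v` in `R`. -/
def st (R : Subgroup G) (v : G) : Subgroup G := R ⊓ Subgroup.centralizer {v}

theorem mem_st {R : Subgroup G} {v h : G} : h ∈ st R v ↔ h ∈ R ∧ h * v * h⁻¹ = v := by
  rw [st, Subgroup.mem_inf, Subgroup.mem_centralizer_singleton_iff, mul_inv_eq_iff_eq_mul]

theorem st_aux [Finite G] (N R : Subgroup G) (hab : ∀ a ∈ N, ∀ b ∈ N, a * b = b * a)
    (hRN : ∀ r ∈ R, ∀ n ∈ N, r * n * r⁻¹ ∈ N)
    (hcomm : ∀ h ∈ R, ∀ y ∈ R, ∀ n ∈ N, h * (y * n * y⁻¹) * h⁻¹ = y * (h * n * h⁻¹) * y⁻¹)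
    (hcard : ∀ u ∈ N, ∀ w ∈ N, u ≠ 1 → w ≠ 1 → Nat.card (st R u) = Nat.card (st R w))
    {u w y : G} (hu : u ∈ N) (hw : w ∈ N) (hw1 : w ≠ 1) (huw : u * w ≠ 1)
    (hy : y ∈ st R u) (hyw : y ∉ st R w) : st R w = st R (u * w) := by
  obtain ⟨hyR, hyu⟩ := mem_st.1 hy
  have hfix : ∀ s ∈ N, ∀ h ∈ st R s, h * (y * s * y⁻¹ * s⁻¹) * h⁻¹ = y * s * y⁻¹ * s⁻¹ := by
    intro s hs h hh
    obtain ⟨hhR, hhs⟩ := mem_st.1 hh
    have h1 := hcomm h hhR y hyR s hs
    rw [hhs] at h1
    calc h * (y * s * y⁻¹ * s⁻¹) * h⁻¹ = (h * (y * s * y⁻¹) * h⁻¹) * (h * s * h⁻¹)⁻¹ := by group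
      _ = _ := by rw [h1, hhs]
  set z := y * w * y⁻¹ * w⁻¹ with hz
  have hzN : z ∈ N := N.mul_mem (hRN y hyR w hw) (N.inv_mem hw)
  have hz1 : z ≠ 1 := by
    intro h
    apply hyw
    refine mem_st.2 ⟨hyR, ?_⟩
    rw [hz, mul_inv_eq_one] at h
    exact h
  have hzs : y * (u * w) * y⁻¹ * (u * w)⁻¹ = z := by
    have h1 : y * (u * w) * y⁻¹ = u * (y * w * y⁻¹) := by
      calc y * (u * w) * y⁻¹ = (y * u * y⁻¹) * (y * w * y⁻¹) := by group
        _ = _ := by rw [hyu]
    rw [h1, hz]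
    have h2 := hab u hu _ (hRN y hyR w hw)
    calc u * (y * w * y⁻¹) * (u * w)⁻¹ = (y * w * y⁻¹) * u * (w⁻¹ * u⁻¹) := by
          rw [h2, mul_inv_rev]
      _ = (y * w * y⁻¹) * (u * w⁻¹) * u⁻¹ := by group
      _ = (y * w * y⁻¹) * (w⁻¹ * u) * u⁻¹ := by
          rw [show u * w⁻¹ = w⁻¹ * u from hab u hu _ (N.inv_mem hw)]
      _ = _ := by group
  have hl1 : st R w ≤ st R z := fun h hh =>
    mem_st.2 ⟨(mem_st.1 hh).1, hfix w hw h hh⟩
  have hl2 : st R (u * w) ≤ st R z := fun h hh =>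
    mem_st.2 ⟨(mem_st.1 hh).1, by rw [← hzs]; exact hfix _ (N.mul_mem hu hw) h hh⟩
  have e1 : st R w = st R z := Subgroup.eq_of_le_of_card_ge hl1 (hcard z hzN w hw hz1 hw1).le
  have e2 : st R (u * w) = st R z :=
    Subgroup.eq_of_le_of_card_ge hl2 (hcard z hzN _ (N.mul_mem hu hw) hz1 huw).le
  rw [e1, e2]

/-- Partition lemma: equal stabilizer orders force equal stabilizers. -/
theorem st_eq [Finite G] (N R : Subgroup G) (hab : ∀ a ∈ N, ∀ b ∈ N, a * b = b * a)
    (hRN : ∀ r ∈ R, ∀ n ∈ N, r * n * r⁻¹ ∈ N)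
    (hcomm : ∀ h ∈ R, ∀ y ∈ R, ∀ n ∈ N, h * (y * n * y⁻¹) * h⁻¹ = y * (h * n * h⁻¹) * y⁻¹)
    (hcard : ∀ u ∈ N, ∀ w ∈ N, u ≠ 1 → w ≠ 1 → Nat.card (st R u) = Nat.card (st R w))
    {u w : G} (hu : u ∈ N) (hw : w ∈ N) (hu1 : u ≠ 1) (hw1 : w ≠ 1) : st R u = st R w := by
  by_contra hne
  have h1 : ¬ st R u ≤ st R w := fun h =>
    hne (Subgroup.eq_of_le_of_card_ge h (hcard w hw u hu hw1 hu1).le)
  have h2 : ¬ st R w ≤ st R u := fun h =>
    hne (Subgroup.eq_of_le_of_card_ge h (hcard u hu w hw hu1 hw1).le).symm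
  obtain ⟨y, hy, hyw⟩ := SetLike.not_le_iff_exists.1 h1
  obtain ⟨y', hy', hyu⟩ := SetLike.not_le_iff_exists.1 h2
  have huw : u * w ≠ 1 := by
    intro h
    have hw' : w = u⁻¹ := (eq_inv_of_mul_eq_one_right h)
    apply hyw
    obtain ⟨hyR, hyc⟩ := mem_st.1 hy
    refine mem_st.2 ⟨hyR, ?_⟩
    rw [hw']
    calc y * u⁻¹ * y⁻¹ = (y * u * y⁻¹)⁻¹ := by group
      _ = u⁻¹ := by rw [hyc]
  have e1 := st_aux N R hab hRN hcomm hcard hu hw hw1 huw hy hyw
  have e2 := st_aux N R hab hRN hcomm hcard hw hu hu1 (by rwa [hab w hw u hu]) hy' hyu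
  rw [hab w hw u hu] at e2
  exact hne (e2.trans e1.symm)

/-- In a group with property `PB`, a normal subgroup containing `x` contains all elements of the
same order. -/
theorem mem_of_conj [Finite G] (hB : PB G) (A : Subgroup G) [hA : A.Normal] {x y : G} (hx : x ∈ A)
    (hxy : orderOf x = orderOf y) : y ∈ A := by
  obtain ⟨g, hg⟩ := hB (Subgroup.zpowers x) (Subgroup.zpowers y) (zpowers_comm x) (zpowers_comm y)
    (by rw [Nat.card_zpowers, Nat.card_zpowers, hxy])
  have hle : Subgroup.zpowers x ≤ A := (Subgroup.zpowers_le).2 hx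
  have h1 := conj_smul_le_conj_smul g hle
  rw [hg, conj_smul_normal] at h1
  exact h1 (Subgroup.mem_zpowers y)

/-- `PB`: conjugate an element to another of the same order, up to powers. -/
theorem exists_conj_zpowers [Finite G] (hB : PB G) {x y : G} (hxy : orderOf x = orderOf y) :
    ∃ g : G, ∃ k : ℤ, y = g * x ^ k * g⁻¹ := by
  obtain ⟨g, hg⟩ := hB (Subgroup.zpowers x) (Subgroup.zpowers y) (zpowers_comm x) (zpowers_comm y)
    (by rw [Nat.card_zpowers, Nat.card_zpowers, hxy])
  have h1 : y ∈ MulAut.conj g • Subgroup.zpowers x := by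
    rw [hg]; exact Subgroup.mem_zpowers y
  rw [mem_conj_smul] at h1
  obtain ⟨k, hk⟩ := h1
  refine ⟨g, k, ?_⟩
  simp only at hk
  rw [hk]
  group

end Tools

section LemmaC

/-- Structure of the noncyclic Sylow subgroups. -/
theorem sylow_structure (n : ℕ) : ∀ {G : Type u} [Group G] [Finite G] [Group.IsSolvable G],
    Nat.card G = n → PB G → ∀ {p : ℕ} [Fact p.Prime] (R : Sylow p G),
    ¬ IsCyclic (R : Subgroup G) →
    (p = 2 ∧ UniqueP 2 (R : Subgroup G)) ∨
      ((R : Subgroup G).Normal ∧ IsMulCommutative (R : Subgroup G) ∧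
        ∀ x ∈ (R : Subgroup G), x ^ p = 1) := by
  induction n using Nat.strong_induction_on with
  | _ n ih =>
  intro G _ _ _ hn hB p _ R hR
  have hp : p.Prime := Fact.out
  haveI : Nontrivial G := by
    by_contra h
    rw [not_nontrivial_iff_subsingleton] at h
    apply hR
    infer_instance
  obtain ⟨N, hmin⟩ := exists_isMinNormal (G := G)
  obtain ⟨q, hq, hNq, hNab, hNexp⟩ := hmin.exists_isPGroup
  haveI : Fact q.Prime := ⟨hq⟩
  haveI hNn := hmin.normal
  have hNne := hmin.ne_bot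
  by_cases hpq : q = p
  · subst hpq
    by_cases hcq : Nat.card N = q
    · left
      have hqN : ∀ x : G, x ^ q = 1 → x ∈ N := by
        intro x hx
        by_cases hx1 : x = 1
        · rw [hx1]; exact N.one_mem
        · have hox : orderOf x = q := orderOf_eq_prime hx hx1
          obtain ⟨g, hg⟩ := hB N (Subgroup.zpowers x) hNab (zpowers_comm x)
            (by rw [hcq, Nat.card_zpowers, hox])
          rw [conj_smul_normal] at hg
          rw [hg]; exact Subgroup.mem_zpowers x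
      have hUP : UniqueP q G := by
        refine uniqueP_of_subgroups (fun H K hH hK => ?_)
        have key2 : ∀ H : Subgroup G, Nat.card H = q → H = N := by
          intro H hH
          refine Subgroup.eq_of_le_of_card_ge (fun x hx => hqN x ?_) (by rw [hH, hcq])
          have := pow_card_eq_one' (G := H) (x := ⟨x, hx⟩)
          rw [hH] at this
          simpa using congrArg Subtype.val this
        rw [key2 H hH, key2 K hK]
      rcases cyclic_or_quaternion R.isPGroup' (hUP.subgroup R) with h | h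
      · exact absurd h hR
      · obtain ⟨h2, -⟩ := h
        subst h2
        exact ⟨rfl, hUP.subgroup R⟩
    · right
      have hRN : (R : Subgroup G) ≤ N := by
        intro x hx
        obtain ⟨k, hk⟩ := R.isPGroup' ⟨x, hx⟩
        have h1 : x ^ q ^ k = 1 := by simpa using congrArg Subtype.val hk
        obtain ⟨j, -, hj⟩ := (Nat.dvd_prime_pow hq).1 (orderOf_dvd_of_pow_eq_one h1)
        exact all_in_N' hB N hNq hNab hNexp hcq hNne x j hj
      have hNR : N ≤ (R : Subgroup G) := by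
        have h1 : IsPGroup q ((R : Subgroup G) ⊔ N : Subgroup G) :=
          R.isPGroup'.to_sup_of_normal_right hNq
        have h2 := R.is_maximal' h1 le_sup_left
        exact le_sup_right.trans h2.le
      have hRe : (R : Subgroup G) = N := le_antisymm hRN hNR
      rw [hRe]
      exact ⟨hNn, hNab, hNexp⟩
  · have hcopNR : Nat.Coprime (Nat.card (R : Subgroup G)) (Nat.card N) := by
      obtain ⟨a, ha⟩ := IsPGroup.iff_card.1 R.isPGroup'
      obtain ⟨b, hb⟩ := IsPGroup.iff_card.1 hNq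
      rw [ha, hb]
      exact Nat.Coprime.pow _ _ ((Nat.coprime_primes hp hq).2 (Ne.symm hpq))
    let π := QuotientGroup.mk' N
    have hsurj : Function.Surjective π := QuotientGroup.mk'_surjective N
    have hker : π.ker = N := QuotientGroup.ker_mk' N
    have hkmem : ∀ x : G, π x = 1 ↔ x ∈ N := fun x => by rw [← MonoidHom.mem_ker, hker]
    have hdisj : (R : Subgroup G) ⊓ N = ⊥ := inf_eq_bot_of_coprime_card hcopNR
    have hinj : ∀ x ∈ (R : Subgroup G), ∀ y ∈ (R : Subgroup G), π x = π y → x = y := by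
      intro x hx y hy hxy
      have h2 : x⁻¹ * y ∈ (R : Subgroup G) ⊓ N := by
        refine Subgroup.mem_inf.2 ⟨R.toSubgroup.mul_mem (R.toSubgroup.inv_mem hx) hy, ?_⟩
        rw [← hkmem, map_mul, map_inv, hxy, inv_mul_cancel]
      rw [hdisj, Subgroup.mem_bot, inv_mul_eq_one] at h2
      exact h2
    let Rb : Sylow p (G ⧸ N) := R.mapSurjective hsurj
    have hRbc : (Rb : Subgroup (G ⧸ N)) = (R : Subgroup G).map π := Sylow.coe_mapSurjective hsurj R
    have hRbnc : ¬ IsCyclic (Rb : Subgroup (G ⧸ N)) := by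
      intro hc
      apply hR
      haveI : IsCyclic ((R : Subgroup G).map π) := by
        rw [← hRbc]; exact hc
      have hinj' : Function.Injective (π.subgroupMap (R : Subgroup G)) := by
        intro a b hab
        exact Subtype.ext (hinj a a.2 b b.2 (congrArg Subtype.val hab))
      exact isCyclic_of_injective _ hinj'
    have hlt : Nat.card (G ⧸ N) < n := by
      rw [← hn]; exact card_quotient_lt N hNne
    haveI : Group.IsSolvable (G ⧸ N) := inferInstance
    rcases ih _ hlt rfl (quot_all _ rfl hB N) Rb hRbnc with ⟨h2, hU⟩ | ⟨hn', hc', he'⟩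
    · left
      refine ⟨h2, ?_⟩
      subst h2
      intro y z hy hz hy1 hz1
      have hmem : ∀ a : (R : Subgroup G), π (a : G) ∈ (Rb : Subgroup (G ⧸ N)) := by
        intro a
        rw [hRbc]
        exact ⟨a, a.2, rfl⟩
      have hone : ∀ a : (R : Subgroup G), a ≠ 1 →
          (⟨π a, hmem a⟩ : (Rb : Subgroup (G ⧸ N))) ≠ 1 := by
        intro a ha h
        apply ha
        apply Subtype.ext
        apply hinj a a.2 1 (R : Subgroup G).one_mem
        rw [map_one]
        exact congrArg Subtype.val h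
      have hsq : ∀ a : (R : Subgroup G), a ^ 2 = 1 →
          (⟨π a, hmem a⟩ : (Rb : Subgroup (G ⧸ N))) ^ 2 = 1 := by
        intro a ha
        apply Subtype.ext
        have h1 : (a : G) ^ 2 = 1 := by simpa using congrArg Subtype.val ha
        show (π a) ^ 2 = 1
        rw [← map_pow, h1, map_one]
      obtain ⟨k, hk⟩ := hU _ _ (hsq y hy) (hsq z hz) (hone y hy1) (hone z hz1)
      refine ⟨k, Subtype.ext ?_⟩
      have h1 : (π z) ^ k = π y := congrArg Subtype.val hk
      apply hinj _ ((R : Subgroup G).zpow_mem z.2 k) _ y.2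
      simpa using h1
    · right
      have hmemb : ∀ a ∈ (R : Subgroup G), π a ∈ (Rb : Subgroup (G ⧸ N)) := by
        intro a ha
        rw [hRbc]
        exact ⟨a, ha, rfl⟩
      have hRab : ∀ a ∈ (R : Subgroup G), ∀ b ∈ (R : Subgroup G), a * b = b * a := by
        intro a ha b hb
        apply hinj _ ((R : Subgroup G).mul_mem ha hb) _ ((R : Subgroup G).mul_mem hb ha)
        rw [map_mul, map_mul]
        exact congrArg Subtype.val (hc'.is_comm.comm ⟨π a, hmemb a ha⟩ ⟨π b, hmemb b hb⟩)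
      have hRexp : ∀ x ∈ (R : Subgroup G), x ^ p = 1 := by
        intro x hx
        apply hinj _ ((R : Subgroup G).pow_mem hx p) _ (R : Subgroup G).one_mem
        rw [map_pow, map_one]
        exact he' _ (hmemb x hx)
      have hNcomm : ∀ a ∈ N, ∀ b ∈ N, a * b = b * a := by
        intro a ha b hb
        exact congrArg Subtype.val (hNab.is_comm.comm ⟨a, ha⟩ ⟨b, hb⟩)
      have hcopel : ∀ x ∈ N, x ^ p = 1 → x = 1 := by
        intro x hx hxp
        have h1 := orderOf_dvd_of_pow_eq_one hxp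
        have h2 := orderOf_dvd_of_pow_eq_one (hNexp x hx)
        have h3 := Nat.dvd_gcd h1 h2
        rw [(Nat.coprime_primes hp hq).2 (Ne.symm hpq), Nat.dvd_one, orderOf_eq_one_iff] at h3
        exact h3
      -- two independent elements
      have hnt : (R : Subgroup G) ≠ ⊥ := by
        intro h
        apply hR
        rw [h]
        infer_instance
      obtain ⟨y₀, hy₀⟩ := (Subgroup.ne_bot_iff_exists_ne_one).1 hnt
      have hout : ∃ x₀ ∈ (R : Subgroup G), x₀ ∉ Subgroup.zpowers (y₀ : G) := by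
        by_contra hcon
        push Not at hcon
        apply hR
        have hle : (R : Subgroup G) ≤ Subgroup.zpowers (y₀ : G) := hcon
        exact isCyclic_of_injective (Subgroup.inclusion hle) (Subgroup.inclusion_injective hle)
      obtain ⟨x₀, hx₀R, hx₀⟩ := hout
      -- a fixed point
      have hfix : ∃ r ∈ (R : Subgroup G), r ≠ 1 ∧ ∃ v ∈ N, v ≠ 1 ∧ r * v * r⁻¹ = v := by
        by_contra hcon
        push Not at hcon
        let φ : (R : Subgroup G) →* MulAut N := (MulAut.conjNormal).comp (R : Subgroup G).subtype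
        have hφ : ∀ (r : (R : Subgroup G)) (v : N), ((φ r v : N) : G) = r * v * (r : G)⁻¹ :=
          fun r v => MulAut.conjNormal_apply _ _
        have hall : ∀ v : N, v = 1 := by
          intro v
          refine norm_trivial (fun a b => Subtype.ext (hNcomm a a.2 b b.2)) φ hp
            (fun n hn => Subtype.ext (hcopel n n.2 (by simpa using congrArg Subtype.val hn)))
            ⟨x₀, hx₀R⟩ y₀ (Subtype.ext (hRab x₀ hx₀R y₀ y₀.2))
            (Subtype.ext (hRexp x₀ hx₀R)) (Subtype.ext (hRexp y₀ y₀.2))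
            hy₀ ?_ ?_ v
          · intro j h
            apply hx₀
            have h1 : x₀ * (y₀ : G) ^ j = 1 := by simpa using congrArg Subtype.val h
            have h2 : x₀ = ((y₀ : G) ^ j)⁻¹ := eq_inv_of_mul_eq_one_left h1
            rw [h2]
            exact Subgroup.inv_mem _ (Subgroup.npow_mem_zpowers _ j)
          · intro r hr w hw
            by_contra hw1
            have hrG : (r : G) ≠ 1 := fun h => hr (Subtype.ext h)
            have hwG : (w : G) ≠ 1 := fun h => hw1 (Subtype.ext h)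
            apply hcon r r.2 hrG w w.2 hwG
            have := hφ r w
            rw [hw] at this
            exact this.symm
        apply hNne
        rw [eq_bot_iff]
        intro x hx
        have := hall ⟨x, hx⟩
        rw [Subgroup.mem_bot]
        exact congrArg Subtype.val this
      obtain ⟨r, hrR, hr1, v, hvN, hv1, hrv⟩ := hfix
      -- `T`
      set T : Subgroup G := (R : Subgroup G) ⊔ N with hT
      have hTn : T.Normal := by
        have hTc : T = (Rb : Subgroup (G ⧸ N)).comap π := by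
          apply le_antisymm
          · rw [hT]
            refine sup_le (fun x hx => hmemb x hx) (fun x hx => ?_)
            rw [Subgroup.mem_comap, (hkmem x).2 hx]
            exact Subgroup.one_mem _
          · intro x hx
            have h1 : π x ∈ (Rb : Subgroup (G ⧸ N)) := hx
            rw [hRbc] at h1
            obtain ⟨r', hr', hr'x⟩ := h1
            have h2 : r'⁻¹ * x ∈ N := by
              rw [← hkmem, map_mul, map_inv, hr'x, inv_mul_cancel]
            have h3 : x = r' * (r'⁻¹ * x) := by group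
            rw [h3]
            exact T.mul_mem (Subgroup.mem_sup_left hr') (Subgroup.mem_sup_right h2)
        rw [hTc]
        infer_instance
      have hcardT : ∀ u ∈ N, Nat.card (T ⊓ Subgroup.centralizer {u} : Subgroup G) =
          Nat.card (st (R : Subgroup G) u) * Nat.card N := by
        intro u hu
        have h1 := card_map_mul_card_inf_ker π (T ⊓ Subgroup.centralizer {u} : Subgroup G)
        have hNle : N ≤ (T ⊓ Subgroup.centralizer {u} : Subgroup G) := by
          intro x hx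
          refine Subgroup.mem_inf.2 ⟨Subgroup.mem_sup_right hx, ?_⟩
          rw [Subgroup.mem_centralizer_singleton_iff]
          exact hNcomm x hx u hu
        rw [hker, inf_eq_right.mpr hNle] at h1
        rw [← h1]
        congr 1
        have hm : (T ⊓ Subgroup.centralizer {u} : Subgroup G).map π
            = (st (R : Subgroup G) u).map π := by
          apply le_antisymm
          · rintro _ ⟨t, ht, rfl⟩
            obtain ⟨htT, htc⟩ := Subgroup.mem_inf.1 ht
            obtain ⟨r', hr', n', hn', rfl⟩ := Subgroup.mem_sup_of_normal_right.1 htT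
            refine ⟨r', ?_, ?_⟩
            · refine mem_st.2 ⟨hr', ?_⟩
              rw [Subgroup.mem_centralizer_singleton_iff] at htc
              have h2 : n' * u = u * n' := hNcomm n' hn' u hu
              have h3 : r' * u = u * r' := by
                have h4 : r' * n' * u = u * r' * n' := by rw [htc]; group
                rw [mul_assoc, h2, ← mul_assoc] at h4
                exact mul_right_cancel h4
              rw [h3]; group
            · rw [map_mul, (hkmem n').2 hn', mul_one]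
          · apply Subgroup.map_mono
            intro x hx
            obtain ⟨hxR, hxc⟩ := mem_st.1 hx
            refine Subgroup.mem_inf.2 ⟨Subgroup.mem_sup_left hxR, ?_⟩
            rw [Subgroup.mem_centralizer_singleton_iff]
            rw [mul_inv_eq_iff_eq_mul] at hxc
            exact hxc
        rw [hm]
        refine card_map_of_disjoint_ker π _ ?_
        rw [hker, eq_bot_iff]
        intro x hx
        obtain ⟨hx1, hx2⟩ := Subgroup.mem_inf.1 hx
        rw [← hdisj]
        exact Subgroup.mem_inf.2 ⟨(mem_st.1 hx1).1, hx2⟩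
      have hlecard : ∀ u ∈ N, ∀ w ∈ N, u ≠ 1 → w ≠ 1 →
          Nat.card (T ⊓ Subgroup.centralizer {u} : Subgroup G) ≤
            Nat.card (T ⊓ Subgroup.centralizer {w} : Subgroup G) := by
        intro u hu w hw hu1 hw1
        have hou : orderOf u = q := orderOf_eq_prime (hNexp u hu) hu1
        have how : orderOf w = q := orderOf_eq_prime (hNexp w hw) hw1
        obtain ⟨g, k, hgk⟩ := exists_conj_zpowers hB (hou.trans how.symm)
        rw [← card_conj_smul g (T ⊓ Subgroup.centralizer {u} : Subgroup G)]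
        apply Subgroup.card_le_of_le
        intro t ht
        rw [mem_conj_smul] at ht
        obtain ⟨ht1, ht2⟩ := Subgroup.mem_inf.1 ht
        refine Subgroup.mem_inf.2 ⟨?_, ?_⟩
        · have := hTn.conj_mem _ ht1 g
          simpa [mul_assoc] using this
        · rw [Subgroup.mem_centralizer_singleton_iff] at ht2 ⊢
          have h4 : Commute (g⁻¹ * t * g) (u ^ k) := (show Commute (g⁻¹ * t * g) u from ht2).zpow_right k
          have h5 : g⁻¹ * t * g * u ^ k = u ^ k * (g⁻¹ * t * g) := h4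
          rw [hgk]
          calc t * (g * u ^ k * g⁻¹) = g * (g⁻¹ * t * g * u ^ k) * g⁻¹ := by group
            _ = g * (u ^ k * (g⁻¹ * t * g)) * g⁻¹ := by rw [h5]
            _ = _ := by group
      have hcard : ∀ u ∈ N, ∀ w ∈ N, u ≠ 1 → w ≠ 1 →
          Nat.card (st (R : Subgroup G) u) = Nat.card (st (R : Subgroup G) w) := by
        intro u hu w hw hu1 hw1
        have h1 := le_antisymm (hlecard u hu w hw hu1 hw1) (hlecard w hw u hu hw1 hu1)
        rw [hcardT u hu, hcardT w hw] at h1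
        exact Nat.eq_of_mul_eq_mul_right Nat.card_pos h1
      have hst : ∀ w ∈ N, w ≠ 1 → st (R : Subgroup G) v = st (R : Subgroup G) w := by
        intro w hw hw1
        refine st_eq N (R : Subgroup G) hNcomm
          (fun r' _ n' hn' => hNn.conj_mem n' hn' r') ?_ hcard hvN hw hv1 hw1
        intro h hh y hy n' _
        have h1 : h * y = y * h := hRab h hh y hy
        calc h * (y * n' * y⁻¹) * h⁻¹ = (h * y) * n' * (h * y)⁻¹ := by group
          _ = (y * h) * n' * (y * h)⁻¹ := by rw [h1]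
          _ = _ := by group
      -- `r` centralizes `N`
      have hrC : r ∈ Subgroup.centralizer (N : Set G) := by
        rw [Subgroup.mem_centralizer_iff]
        intro w hw
        by_cases hw1 : w = 1
        · rw [hw1]; group
        · have h1 : r ∈ st (R : Subgroup G) w := by
            rw [← hst w hw hw1]
            exact mem_st.2 ⟨hrR, hrv⟩
          have h2 := (mem_st.1 h1).2
          rw [mul_inv_eq_iff_eq_mul] at h2
          exact h2.symm
      have hor : orderOf r = p := orderOf_eq_prime (hRexp r hrR) hr1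
      have hRC : ∀ x ∈ (R : Subgroup G), x ∈ Subgroup.centralizer (N : Set G) := by
        intro x hx
        by_cases hx1 : x = 1
        · rw [hx1]; exact Subgroup.one_mem _
        · exact mem_of_conj hB _ hrC (hor.trans (orderOf_eq_prime (hRexp x hx) hx1).symm)
      refine ⟨?_, ⟨⟨fun a b => Subtype.ext (hRab a a.2 b b.2)⟩⟩, hRexp⟩
      constructor
      intro x hx g
      have h1 : g * x * g⁻¹ ∈ T := hTn.conj_mem x (Subgroup.mem_sup_left hx) g
      obtain ⟨r', hr', n', hn', hrn⟩ := Subgroup.mem_sup_of_normal_right.1 h1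
      have hcm : Commute r' n' := by
        have := (Subgroup.mem_centralizer_iff.1 (hRC r' hr')) n' hn'
        exact this.symm
      have h2 : n' ^ p = 1 := by
        have h3 : (r' * n') ^ p = 1 := by
          rw [hrn, conj_pow, hRexp x hx, mul_one, mul_inv_cancel]
        rw [hcm.mul_pow, hRexp r' hr', one_mul] at h3
        exact h3
      have h3 := hcopel n' hn' h2
      rw [← hrn, h3, mul_one]
      exact hr'

end LemmaC

section Tools2

variable {G : Type u} [Group G]

theorem inj_of_disjoint {G' : Type*} [Group G'] (f : G →* G') (S : Subgroup G)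
    (h : S ⊓ f.ker = ⊥) : ∀ x ∈ S, ∀ y ∈ S, f x = f y → x = y := by
  intro x hx y hy hxy
  have h2 : x⁻¹ * y ∈ S ⊓ f.ker := by
    refine Subgroup.mem_inf.2 ⟨S.mul_mem (S.inv_mem hx) hy, ?_⟩
    rw [MonoidHom.mem_ker, map_mul, map_inv, hxy, inv_mul_cancel]
  rw [h, Subgroup.mem_bot, inv_mul_eq_one] at h2
  exact h2

theorem uniqueP_map {G' : Type*} [Group G'] (f : G →* G') (S : Subgroup G)
    (h : S ⊓ f.ker = ⊥) {p : ℕ} (hU : UniqueP p S) : UniqueP p (S.map f) := by
  have hi := inj_of_disjoint f S h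
  rintro ⟨_, y, hy, rfl⟩ ⟨_, z, hz, rfl⟩ hyp hzp hy1 hz1
  have hlift : ∀ a ∈ S, (f a) ^ p = 1 → a ^ p = 1 := by
    intro a ha hap
    apply hi _ (S.pow_mem ha p) _ S.one_mem
    rw [map_pow, map_one, hap]
  have hyp' : (⟨y, hy⟩ : S) ^ p = 1 := Subtype.ext (hlift y hy (by
    simpa using congrArg Subtype.val hyp))
  have hzp' : (⟨z, hz⟩ : S) ^ p = 1 := Subtype.ext (hlift z hz (by
    simpa using congrArg Subtype.val hzp))
  have hne : ∀ a (ha : a ∈ S), (⟨f a, ⟨a, ha, rfl⟩⟩ : S.map f) ≠ 1 → (⟨a, ha⟩ : S) ≠ 1 := by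
    intro a ha h1 h2
    apply h1
    apply Subtype.ext
    have : a = 1 := congrArg Subtype.val h2
    simp [this]
  obtain ⟨k, hk⟩ := hU _ _ hyp' hzp' (hne y hy hy1) (hne z hz hz1)
  refine ⟨k, Subtype.ext ?_⟩
  have h1 : z ^ k = y := congrArg Subtype.val hk
  simp [← h1]

theorem not_cyclic_map {G' : Type*} [Group G'] (f : G →* G') (S : Subgroup G)
    (h : S ⊓ f.ker = ⊥) (hS : ¬ IsCyclic S) : ¬ IsCyclic (S.map f) := by
  intro hc
  apply hS
  have hi := inj_of_disjoint f S h
  have hinj : Function.Injective (f.subgroupMap S) := by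
    intro a b hab
    exact Subtype.ext (hi a a.2 b b.2 (congrArg Subtype.val hab))
  exact isCyclic_of_injective _ hinj

/-- Data for the quaternion group of order `8`. -/
theorem q8_pkg [Finite G] (S : Subgroup G) (hp : IsPGroup 2 S) (hU : UniqueP 2 S)
    (hnc : ¬ IsCyclic S) (h8 : Nat.card S = 8) :
    ∃ a b : G, a ∈ S ∧ b ∈ S ∧ orderOf a = 4 ∧ orderOf b = 4 ∧ orderOf (a * b) = 4 ∧
      b * a * b⁻¹ = a⁻¹ ∧ a ^ 2 = b ^ 2 ∧ (∀ K : Subgroup G, a ∈ K → b ∈ K → S ≤ K) := by
  haveI : Fact (Nat.Prime 2) := ⟨Nat.prime_two⟩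
  rcases cyclic_or_quaternion hp hU with h | h
  · exact absurd h hnc
  obtain ⟨-, u, b, n, hSC, hn, hcS, hbu, hbub, hb2⟩ := h
  have hn2 : n = 2 := by
    rw [h8] at hcS
    have h1 : 2 ^ (n + 1) = 2 ^ 3 := by rw [← hcS]; norm_num
    have := Nat.pow_right_injective (le_refl 2) h1
    omega
  subst hn2
  have hou : orderOf u = 4 := by rw [hSC.hu]; norm_num
  have hb2' : b ^ 2 = u ^ 2 := by simpa using hb2
  have hu2 : u ^ 2 ≠ 1 := by
    apply pow_ne_one_of_lt_orderOf (by norm_num)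
    rw [hou]; norm_num
  have hu4 : (u ^ 2) ^ 2 = 1 := by
    rw [← pow_mul, show 2 * 2 = 4 by norm_num, ← hou]
    exact pow_orderOf_eq_one u
  have hord4 : ∀ x : S, x ^ 2 = u ^ 2 → orderOf x = 4 := by
    intro x hx
    have h1 : orderOf x = 2 ^ (1 + 1) := by
      apply orderOf_eq_prime_pow
      · rw [pow_one, hx]; exact hu2
      · rw [show (2 : ℕ) ^ (1 + 1) = 2 * 2 by norm_num, pow_mul, hx, hu4]
    rw [h1]; norm_num
  have hub : (u * b) ^ 2 = u ^ 2 := by
    calc (u * b) ^ 2 = u * (b * u * b⁻¹) * b ^ 2 := by rw [pow_two, pow_two]; group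
      _ = _ := by rw [hbub, hb2']; group
  have hcoe : ∀ x : S, orderOf x = 4 → orderOf (x : G) = 4 := fun x hx => by
    rw [Subgroup.orderOf_coe, hx]
  refine ⟨u, b, u.2, b.2, hcoe u hou, hcoe b (hord4 b hb2'), ?_, ?_, ?_, ?_⟩
  · have := hcoe (u * b) (hord4 _ hub)
    simpa using this
  · have := congrArg Subtype.val hbub
    simpa using this
  · have := congrArg Subtype.val hb2'.symm
    simpa using this
  · intro K hu hb
    let K' : Subgroup S := K.subgroupOf S
    have hzK : Subgroup.zpowers u ≤ K' := (Subgroup.zpowers_le).2 (Subgroup.mem_subgroupOf.2 hu)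
    have hbK : b ∈ K' := Subgroup.mem_subgroupOf.2 hb
    have hcz : Nat.card (Subgroup.zpowers u) = 2 ^ 2 := by
      rw [Nat.card_zpowers, hou]; norm_num
    have hd1 : Nat.card K' ∣ 2 ^ 3 := by
      have := Subgroup.card_subgroup_dvd_card K'
      rw [h8] at this
      exact this
    obtain ⟨k, hk, hk2⟩ := (Nat.dvd_prime_pow Nat.prime_two).1 hd1
    have hd2 : 2 ^ 2 ∣ Nat.card K' := by
      rw [← hcz]; exact Subgroup.card_dvd_of_le hzK
    rw [hk2] at hd2
    have hle := (Nat.pow_dvd_pow_iff_le_right (by norm_num : 1 < 2)).1 hd2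
    have hkne : k ≠ 2 := by
      intro he
      have : Subgroup.zpowers u = K' :=
        Subgroup.eq_of_le_of_card_ge hzK (by rw [hk2, hcz, he])
      rw [← this] at hbK
      exact hbu hbK
    have hke : k = 3 := by omega
    have htop : K' = ⊤ := Subgroup.eq_top_of_card_eq K' (by rw [hk2, hke, h8]; norm_num)
    intro x hx
    have hxK : (⟨x, hx⟩ : S) ∈ K' := by rw [htop]; trivial
    exact Subgroup.mem_subgroupOf.1 hxK

theorem odd_exp {a c g : G} {k : ℤ} (oa : orderOf a = 4) (oc : orderOf c = 4)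
    (hc : c = g * a ^ k * g⁻¹) : Odd k := by
  by_contra hk
  rw [Int.not_odd_iff_even] at hk
  obtain ⟨l, rfl⟩ := hk
  have h1 : c ^ 2 = 1 := by
    rw [hc, conj_pow]
    have h2 : (a ^ (l + l)) ^ 2 = 1 := by
      rw [← zpow_natCast, ← zpow_mul, show (l + l) * ((2 : ℕ) : ℤ) = ((4 : ℕ) : ℤ) * l by push_cast; ring,
        zpow_mul, zpow_natCast, ← oa, pow_orderOf_eq_one, one_zpow]
    rw [h2]
    group
  have h3 := orderOf_dvd_of_pow_eq_one h1
  rw [oc] at h3
  exact absurd h3 (by decide)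

/-- In a `PB`-group, the generators of a quaternion group die in an abelian image. -/
theorem q8_abelian_image [Finite G] (hB : PB G) {a b : G} (oa : orderOf a = 4) (ob : orderOf b = 4)
    (oab : orderOf (a * b) = 4) {Z : Type*} [Group Z] (φ : G →* Z)
    (hφ : ∀ x y : G, φ x * φ y = φ y * φ x) : φ a = 1 ∧ φ b = 1 := by
  have hconj : ∀ g x : G, φ (g * x * g⁻¹) = φ x := by
    intro g x
    rw [map_mul, map_mul, map_inv, hφ g x]
    group
  obtain ⟨g, k, hk⟩ := exists_conj_zpowers hB (oa.trans ob.symm)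
  obtain ⟨g', k', hk'⟩ := exists_conj_zpowers hB (oa.trans oab.symm)
  have hodd := odd_exp oa ob hk
  have hodd' := odd_exp oa oab hk'
  have h1 : φ b = (φ a) ^ k := by rw [hk, hconj, map_zpow]
  have h2 : φ a * φ b = (φ a) ^ k' := by rw [← map_mul, hk', hconj, map_zpow]
  have h4 : (φ a) ^ 4 = 1 := by
    rw [← map_pow, ← oa, pow_orderOf_eq_one, map_one]
  have h5 : (φ a) ^ (1 + k - k') = 1 := by
    rw [sub_eq_add_neg, zpow_add, zpow_add, zpow_neg, zpow_one, ← h1, h2]
    group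
  have hm : Odd (1 + k - k') := by
    obtain ⟨i, rfl⟩ := hodd
    obtain ⟨j, rfl⟩ := hodd'
    exact ⟨i - j, by ring⟩
  have h6 : φ a = 1 := by
    obtain ⟨e, -, he⟩ := (Nat.dvd_prime_pow Nat.prime_two).1
      (orderOf_dvd_of_pow_eq_one (show (φ a) ^ 2 ^ 2 = 1 by simpa using h4))
    rcases e with _ | e
    · rw [pow_zero, orderOf_eq_one_iff] at he
      exact he
    · exfalso
      have h7 := orderOf_dvd_iff_zpow_eq_one.2 h5
      rw [he] at h7
      have h8 : (2 : ℤ) ∣ 1 + k - k' := by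
        refine dvd_trans ?_ h7
        push_cast
        rw [pow_succ]
        exact Dvd.intro_left _ rfl
      obtain ⟨l, hl⟩ := hm
      omega
  refine ⟨h6, ?_⟩
  rw [h1, h6, one_zpow]

theorem mulAut_comm_of_cyclic {V : Type*} [Group V] [IsCyclic V] (x y : MulAut V) :
    x * y = y * x := by
  apply (IsCyclic.mulAutMulEquiv (G := V)).injective
  rw [map_mul, map_mul, mul_comm]

end Tools2

section Eight

/-- Noncyclic Sylow `2`-subgroups with a unique involution have order `8`. -/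
theorem card_eight (n : ℕ) : ∀ {G : Type u} [Group G] [Finite G] [Group.IsSolvable G],
    Nat.card G = n → PB G → ∀ S : Sylow 2 G, ¬ IsCyclic (S : Subgroup G) →
    UniqueP 2 (S : Subgroup G) → Nat.card (S : Subgroup G) = 8 := by
  induction n using Nat.strong_induction_on with
  | _ n ih =>
  intro G _ _ _ hn hB S hS hUS
  haveI : Fact (Nat.Prime 2) := ⟨Nat.prime_two⟩
  haveI : Nontrivial G := by
    by_contra h
    rw [not_nontrivial_iff_subsingleton] at h
    apply hS
    infer_instance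
  obtain ⟨N, hmin⟩ := exists_isMinNormal (G := G)
  obtain ⟨q, hq, hNq, hNab, hNexp⟩ := hmin.exists_isPGroup
  haveI : Fact q.Prime := ⟨hq⟩
  haveI hNn := hmin.normal
  have hNne := hmin.ne_bot
  by_cases hq2 : q = 2
  · subst hq2
    have hNS : N ≤ (S : Subgroup G) := by
      have h1 : IsPGroup 2 ((S : Subgroup G) ⊔ N : Subgroup G) :=
        S.isPGroup'.to_sup_of_normal_right hNq
      have h2 := S.is_maximal' h1 le_sup_left
      exact le_sup_right.trans h2.le
    obtain ⟨z, hz⟩ := (Subgroup.ne_bot_iff_exists_ne_one).1 hNne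
    have hz1 : (z : G) ≠ 1 := fun h => hz (Subtype.ext h)
    have hz2 : (z : G) ^ 2 = 1 := hNexp z z.2
    have hoz : orderOf (z : G) = 2 := orderOf_eq_prime hz2 hz1
    have huq : ∀ x : G, x ^ 2 = 1 → x ≠ 1 → x = z := by
      intro x hx hx1
      have hxN : x ∈ N := mem_of_conj hB N z.2 (hoz.trans (orderOf_eq_prime hx hx1).symm)
      obtain ⟨k, hk⟩ := hUS ⟨x, hNS hxN⟩ ⟨z, hNS z.2⟩ (Subtype.ext hx) (Subtype.ext hz2)
        (fun h => hx1 (congrArg Subtype.val h)) (fun h => hz1 (congrArg Subtype.val h))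
      have hk' : (z : G) ^ k = x := by simpa using congrArg Subtype.val hk
      rw [← hk'] at hx1 ⊢
      rw [← zpow_mod_orderOf, hoz] at hx1 ⊢
      have h2 : k % ((2 : ℕ) : ℤ) = 0 ∨ k % ((2 : ℕ) : ℤ) = 1 := by omega
      rcases h2 with h2 | h2
      · rw [h2, zpow_zero] at hx1
        exact absurd rfl hx1
      · rw [h2, zpow_one]
    have hUG : UniqueP 2 G := by
      intro y w hy hw hy1 hw1
      rw [huq y hy hy1, huq w hw hw1]
      exact Subgroup.mem_zpowers _
    exact eprop_all _ rfl hB hUG S hS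
  · have hcop : Nat.Coprime (Nat.card (S : Subgroup G)) (Nat.card N) := by
      obtain ⟨a, ha⟩ := IsPGroup.iff_card.1 S.isPGroup'
      obtain ⟨b, hb⟩ := IsPGroup.iff_card.1 hNq
      rw [ha, hb]
      exact Nat.Coprime.pow _ _ ((Nat.coprime_primes Nat.prime_two hq).2 (Ne.symm hq2))
    let π := QuotientGroup.mk' N
    have hsurj : Function.Surjective π := QuotientGroup.mk'_surjective N
    have hker : π.ker = N := QuotientGroup.ker_mk' N
    have hdisj : (S : Subgroup G) ⊓ π.ker = ⊥ := by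
      rw [hker]; exact inf_eq_bot_of_coprime_card hcop
    let Sb : Sylow 2 (G ⧸ N) := S.mapSurjective hsurj
    have hSbc : (Sb : Subgroup (G ⧸ N)) = (S : Subgroup G).map π := Sylow.coe_mapSurjective hsurj S
    have hnc : ¬ IsCyclic (Sb : Subgroup (G ⧸ N)) := by
      rw [hSbc]; exact not_cyclic_map π _ hdisj hS
    have hUb : UniqueP 2 (Sb : Subgroup (G ⧸ N)) := by
      rw [hSbc]; exact uniqueP_map π _ hdisj hUS
    have hlt : Nat.card (G ⧸ N) < n := by
      rw [← hn]; exact card_quotient_lt N hNne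
    have h8 := ih _ hlt rfl (quot_all _ rfl hB N) Sb hnc hUb
    rw [hSbc, card_map_of_disjoint_ker π _ hdisj] at h8
    exact h8

end Eight

section ThmQ

/-- If all odd Sylows are cyclic, then a noncyclic Sylow `2`-subgroup with a unique involution is
normal. -/
theorem sylow2_normal (n : ℕ) : ∀ {G : Type u} [Group G] [Finite G] [Group.IsSolvable G],
    Nat.card G = n → PB G → (∀ q : ℕ, q.Prime → q ≠ 2 → ∀ P : Sylow q G, IsCyclic (P : Subgroup G)) →
    ∀ S : Sylow 2 G, ¬ IsCyclic (S : Subgroup G) →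
    UniqueP 2 (S : Subgroup G) → (S : Subgroup G).Normal := by
  induction n using Nat.strong_induction_on with
  | _ n ih =>
  intro G _ _ _ hn hB hodd S hS hUS
  haveI : Fact (Nat.Prime 2) := ⟨Nat.prime_two⟩
  haveI : Nontrivial G := by
    by_contra h
    rw [not_nontrivial_iff_subsingleton] at h
    apply hS
    infer_instance
  have h8 := card_eight _ rfl hB S hS hUS
  obtain ⟨a, b, haS, hbS, oa, ob, oab, hbab, hab2, hgen⟩ := q8_pkg _ S.isPGroup' hUS hS h8
  obtain ⟨N, hmin⟩ := exists_isMinNormal (G := G)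
  obtain ⟨q, hq, hNq, hNab, hNexp⟩ := hmin.exists_isPGroup
  haveI : Fact q.Prime := ⟨hq⟩
  haveI hNn := hmin.normal
  have hNne := hmin.ne_bot
  let π := QuotientGroup.mk' N
  have hsurj : Function.Surjective π := QuotientGroup.mk'_surjective N
  have hker : π.ker = N := QuotientGroup.ker_mk' N
  have hkmem : ∀ x : G, π x = 1 ↔ x ∈ N := fun x => by rw [← MonoidHom.mem_ker, hker]
  let Sb : Sylow 2 (G ⧸ N) := S.mapSurjective hsurj
  have hSbc : (Sb : Subgroup (G ⧸ N)) = (S : Subgroup G).map π := Sylow.coe_mapSurjective hsurj S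
  have hlt : Nat.card (G ⧸ N) < n := by
    rw [← hn]; exact card_quotient_lt N hNne
  have hBq : PB (G ⧸ N) := quot_all _ rfl hB N
  -- the comap
  have hcomap : ((Sb : Subgroup (G ⧸ N))).comap π = (S : Subgroup G) ⊔ N := by
    apply le_antisymm
    · intro x hx
      have h1 : π x ∈ (Sb : Subgroup (G ⧸ N)) := hx
      rw [hSbc] at h1
      obtain ⟨r', hr', hr'x⟩ := h1
      have h2 : r'⁻¹ * x ∈ N := by
        rw [← hkmem, map_mul, map_inv, hr'x, inv_mul_cancel]
      have h3 : x = r' * (r'⁻¹ * x) := by group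
      rw [h3]
      exact Subgroup.mul_mem _ (Subgroup.mem_sup_left hr') (Subgroup.mem_sup_right h2)
    · refine sup_le (fun x hx => ?_) (fun x hx => ?_)
      · rw [Subgroup.mem_comap, hSbc]
        exact ⟨x, hx, rfl⟩
      · rw [Subgroup.mem_comap, (hkmem x).2 hx]
        exact Subgroup.one_mem _
  by_cases hq2 : q = 2
  · subst hq2
    have hNS : N ≤ (S : Subgroup G) := by
      have h1 : IsPGroup 2 ((S : Subgroup G) ⊔ N : Subgroup G) :=
        S.isPGroup'.to_sup_of_normal_right hNq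
      have h2 := S.is_maximal' h1 le_sup_left
      exact le_sup_right.trans h2.le
    obtain ⟨z, hz⟩ := (Subgroup.ne_bot_iff_exists_ne_one).1 hNne
    have hz1 : (z : G) ≠ 1 := fun h => hz (Subtype.ext h)
    have hz2 : (z : G) ^ 2 = 1 := hNexp z z.2
    have hoz : orderOf (z : G) = 2 := orderOf_eq_prime hz2 hz1
    -- elements of `S` squaring to `1` lie in `N`
    have hinv : ∀ x ∈ (S : Subgroup G), x ^ 2 = 1 → x ∈ N := by
      intro x hx hx2
      by_cases hx1 : x = 1
      · rw [hx1]; exact N.one_mem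
      · obtain ⟨k, hk⟩ := hUS ⟨x, hx⟩ ⟨z, hNS z.2⟩ (Subtype.ext hx2) (Subtype.ext hz2)
          (fun h => hx1 (congrArg Subtype.val h)) (fun h => hz1 (congrArg Subtype.val h))
        have hk' : (z : G) ^ k = x := by simpa using congrArg Subtype.val hk
        rw [← hk']
        exact N.zpow_mem z.2 k
    have ha4 : a ^ 4 = 1 := by rw [← oa]; exact pow_orderOf_eq_one a
    have hb4 : b ^ 4 = 1 := by rw [← ob]; exact pow_orderOf_eq_one b
    have ha2N : a ^ 2 ∈ N := hinv _ (Subgroup.pow_mem _ haS 2) (by rw [← pow_mul]; exact ha4)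
    have hb2N : b ^ 2 ∈ N := hinv _ (Subgroup.pow_mem _ hbS 2) (by rw [← pow_mul]; exact hb4)
    have haN : a ∉ N := by
      intro h
      have h1 := orderOf_dvd_of_pow_eq_one (hNexp a h)
      rw [oa] at h1
      exact absurd h1 (by decide)
    have hbN : b ∉ N := by
      intro h
      have h1 := orderOf_dvd_of_pow_eq_one (hNexp b h)
      rw [ob] at h1
      exact absurd h1 (by decide)
    have hdiff : π a ≠ π b := by
      intro h
      have h1 : a⁻¹ * b ∈ N := by
        rw [← hkmem, map_mul, map_inv, h, inv_mul_cancel]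
      have h2 := hNexp _ h1
      have h3 : (a⁻¹ * b) ^ 2 = b ^ 2 := by
        have h4 : b * a⁻¹ * b⁻¹ = a := by
          have : b * a⁻¹ * b⁻¹ = (b * a * b⁻¹)⁻¹ := by group
          rw [this, hbab, inv_inv]
        calc (a⁻¹ * b) ^ 2 = a⁻¹ * (b * a⁻¹ * b⁻¹) * b ^ 2 := by rw [pow_two, pow_two]; group
          _ = b ^ 2 := by rw [h4]; group
      rw [h3] at h2
      have h5 := orderOf_dvd_of_pow_eq_one h2
      rw [ob] at h5
      exact absurd h5 (by decide)
    have hnotU : ¬ UniqueP 2 (Sb : Subgroup (G ⧸ N)) := by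
      intro hU
      have hmem : ∀ y ∈ (S : Subgroup G), π y ∈ (Sb : Subgroup (G ⧸ N)) := by
        intro y hy
        rw [hSbc]
        exact ⟨y, hy, rfl⟩
      have hsq : ∀ y (hy : y ∈ (S : Subgroup G)), y ^ 2 ∈ N → y ∉ N →
          ((⟨π y, hmem y hy⟩ : (Sb : Subgroup (G ⧸ N))) ^ 2 = 1 ∧
            (⟨π y, hmem y hy⟩ : (Sb : Subgroup (G ⧸ N))) ≠ 1) := by
        intro y hy hy2 hyN
        refine ⟨Subtype.ext ?_, fun h => hyN ((hkmem y).1 (congrArg Subtype.val h))⟩
        show (π y) ^ 2 = 1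
        rw [← map_pow]
        exact (hkmem _).2 hy2
      obtain ⟨h1a, h2a⟩ := hsq a haS ha2N haN
      obtain ⟨h1b, h2b⟩ := hsq b hbS hb2N hbN
      obtain ⟨k, hk⟩ := hU _ _ h1a h1b h2a h2b
      have hk' : (π b) ^ k = π a := by simpa using congrArg Subtype.val hk
      have hb2 : (π b) ^ 2 = 1 := by
        rw [← map_pow]; exact (hkmem _).2 hb2N
      have ho : orderOf (π b) = 2 := orderOf_eq_prime hb2 (fun h => hbN ((hkmem b).1 h))
      rw [← zpow_mod_orderOf, ho] at hk'
      have h2 : k % ((2 : ℕ) : ℤ) = 0 ∨ k % ((2 : ℕ) : ℤ) = 1 := by omega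
      rcases h2 with h2 | h2
      · rw [h2, zpow_zero] at hk'
        exact haN ((hkmem a).1 hk'.symm)
      · rw [h2, zpow_one] at hk'
        exact hdiff hk'.symm
    have hnc : ¬ IsCyclic (Sb : Subgroup (G ⧸ N)) := by
      intro hc
      exact hnotU uniqueP_of_isCyclic
    rcases sylow_structure _ rfl hBq Sb hnc with ⟨-, h⟩ | ⟨h, -⟩
    · exact absurd h hnotU
    · have h1 : (((Sb : Subgroup (G ⧸ N))).comap π).Normal := inferInstance
      rw [hcomap, sup_eq_left.2 hNS] at h1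
      exact h1
  · -- `N` has odd order, hence order `q`
    have hcop : Nat.Coprime (Nat.card (S : Subgroup G)) (Nat.card N) := by
      obtain ⟨a, ha⟩ := IsPGroup.iff_card.1 S.isPGroup'
      obtain ⟨b, hb⟩ := IsPGroup.iff_card.1 hNq
      rw [ha, hb]
      exact Nat.Coprime.pow _ _ ((Nat.coprime_primes Nat.prime_two hq).2 (Ne.symm hq2))
    have hdisj : (S : Subgroup G) ⊓ π.ker = ⊥ := by
      rw [hker]; exact inf_eq_bot_of_coprime_card hcop
    have hnc : ¬ IsCyclic (Sb : Subgroup (G ⧸ N)) := by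
      rw [hSbc]; exact not_cyclic_map π _ hdisj hS
    have hUb : UniqueP 2 (Sb : Subgroup (G ⧸ N)) := by
      rw [hSbc]; exact uniqueP_map π _ hdisj hUS
    have hoddq : ∀ r : ℕ, r.Prime → r ≠ 2 → ∀ P : Sylow r (G ⧸ N), IsCyclic (P : Subgroup (G ⧸ N)) := by
      intro r hr hr2 P
      haveI : Fact r.Prime := ⟨hr⟩
      exact cyc_quot N (hodd r hr hr2) P
    have hSbn := ih _ hlt rfl hBq hoddq Sb hnc hUb
    have hTn : ((S : Subgroup G) ⊔ N).Normal := by
      rw [← hcomap]
      infer_instance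
    -- `N` is cyclic
    have hNcyc : IsCyclic N := by
      obtain ⟨P, hP⟩ := hNq.exists_le_sylow
      haveI := hodd q hq hq2 P
      exact isCyclic_of_injective (Subgroup.inclusion hP) (Subgroup.inclusion_injective hP)
    let φ : G →* MulAut N := MulAut.conjNormal
    have hφ := q8_abelian_image hB oa ob oab φ (fun x y => mulAut_comm_of_cyclic _ _)
    have hker' : ∀ g : G, φ g = 1 → g ∈ Subgroup.centralizer (N : Set G) := by
      intro g hg
      rw [Subgroup.mem_centralizer_iff]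
      intro h hh
      have h1 : ((φ g ⟨h, hh⟩ : N) : G) = g * h * g⁻¹ := MulAut.conjNormal_apply _ _
      rw [hg] at h1
      have h2 : h = g * h * g⁻¹ := h1
      rw [eq_mul_inv_iff_mul_eq] at h2
      exact h2
    have hSC : (S : Subgroup G) ≤ Subgroup.centralizer (N : Set G) :=
      hgen _ (hker' a hφ.1) (hker' b hφ.2)
    have hx8 : ∀ x ∈ (S : Subgroup G), x ^ 8 = 1 := by
      intro x hx
      have := pow_card_eq_one' (G := (S : Subgroup G)) (x := ⟨x, hx⟩)
      rw [h8] at this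
      simpa using congrArg Subtype.val this
    constructor
    intro x hx g
    have h1 : g * x * g⁻¹ ∈ (S : Subgroup G) ⊔ N := hTn.conj_mem x (Subgroup.mem_sup_left hx) g
    obtain ⟨r', hr', n', hn', hrn⟩ := Subgroup.mem_sup_of_normal_right.1 h1
    have hcm : Commute r' n' := by
      have := (Subgroup.mem_centralizer_iff.1 (hSC hr')) n' hn'
      exact this.symm
    have h2 : n' ^ 8 = 1 := by
      have h3 : (r' * n') ^ 8 = 1 := by
        rw [hrn, conj_pow, hx8 x hx, mul_one, mul_inv_cancel]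
      rw [hcm.mul_pow, hx8 r' hr', one_mul] at h3
      exact h3
    have h3 : n' = 1 := by
      have h4 := orderOf_dvd_of_pow_eq_one h2
      have h5 := orderOf_dvd_of_pow_eq_one (hNexp n' hn')
      have h6 : Nat.Coprime 8 q := by
        rw [show 8 = 2 ^ 3 by norm_num]
        exact Nat.Coprime.pow_left 3 ((Nat.coprime_primes Nat.prime_two hq).2 (Ne.symm hq2))
      have h7 := Nat.dvd_gcd h4 h5
      rw [h6, Nat.dvd_one, orderOf_eq_one_iff] at h7
      exact h7
    rw [← hrn, h3, mul_one]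
    exact hr'

end ThmQ

section Quat

/-- The quaternion module lemma. -/
theorem quat_core {V : Type*} [Group V] [Finite V] (hV : ∀ a b : V, a * b = b * a) {p : ℕ}
    (hp : p.Prime) (hp2 : p ≠ 2) (hexp : ∀ v : V, v ^ p = 1) (α β : V →* V)
    (hαα : ∀ v, α (α v) = v⁻¹) (hββ : ∀ v, β (β v) = v⁻¹)
    (hαβ : ∀ v, β (α v) = (α (β v))⁻¹)
    (sp : V → Subgroup V) (hspv : ∀ v, v ∈ sp v)
    (hspα : ∀ v, ∀ x ∈ sp v, α x ∈ sp v) (hspβ : ∀ v, ∀ x ∈ sp v, β x ∈ sp v)
    (hspm : ∀ v, ∀ x ∈ sp v, sp x ≤ sp v)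
    (hspc : ∀ u w, u ≠ 1 → w ≠ 1 → Nat.card (sp u) = Nat.card (sp w))
    (D : Subgroup V) (hDα : ∀ x ∈ D, α x ∈ D) (hDβ : ∀ x ∈ D, β x ∈ D)
    (hspD : ∀ v ∈ D, sp v ≤ D) : D = ⊥ ∨ D = ⊤ := by
  classical
  letI : CommGroup V := { (inferInstance : Group V) with mul_comm := hV }
  haveI : Fact p.Prime := ⟨hp⟩
  obtain ⟨r, s, hrs⟩ := ZMod.sq_add_sq p (-1)
  obtain ⟨x, rfl⟩ := ZMod.natCast_zmod_surjective r
  obtain ⟨y, rfl⟩ := ZMod.natCast_zmod_surjective s
  have hdvd : p ∣ x * x + y * y + 1 := by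
    rw [← ZMod.natCast_eq_zero_iff]
    push_cast
    rw [← pow_two, ← pow_two, hrs]
    ring
  have hv1 : ∀ v : V, v ^ (x * x) * v ^ (y * y) * v = 1 := by
    intro v
    obtain ⟨k, hk⟩ := hdvd
    rw [← pow_add, ← pow_succ, hk, pow_mul, hexp, one_pow]
  let e : V → V := fun v => α v ^ x * β v ^ y
  let f : V → V := fun v => α (β v)
  have he_mul : ∀ u v, e (u * v) = e u * e v := by
    intro u v
    simp only [e, map_mul, mul_pow]
    exact mul_mul_mul_comm _ _ _ _
  have hf_mul : ∀ u v, f (u * v) = f u * f v := by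
    intro u v
    simp only [f, map_mul]
  have he_inv : ∀ v, e v⁻¹ = (e v)⁻¹ := by
    intro v
    simp only [e, map_inv, mul_inv, inv_pow]
  have hf_inv : ∀ v, f v⁻¹ = (f v)⁻¹ := by
    intro v
    simp only [f, map_inv]
  have hee : ∀ v, e (e v) = v := by
    intro v
    simp only [e, map_mul, map_pow, hαα, hββ, hαβ]
    set w := α (β v)
    have h1 : ((v⁻¹ ^ x) * w ^ y) ^ x * ((w⁻¹ ^ x) * (v⁻¹ ^ y)) ^ y =
        (v ^ (x * x))⁻¹ * w ^ (y * x) * ((w ^ (x * y))⁻¹ * (v ^ (y * y))⁻¹) := by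
      simp only [mul_pow, inv_pow, ← pow_mul]
    rw [h1, mul_comm y x]
    have h2 : ∀ A B C : V, A⁻¹ * B * (B⁻¹ * C⁻¹) = A⁻¹ * C⁻¹ := by
      intro A B C; group
    rw [h2]
    have h3 := hv1 v
    have h4 : v = (v ^ (x * x) * v ^ (y * y))⁻¹ := eq_inv_of_mul_eq_one_right h3
    rw [mul_inv] at h4
    exact h4.symm
  have hff : ∀ v, f (f v) = v⁻¹ := by
    intro v
    simp only [f, hαβ, map_inv, hαα, hββ, inv_inv]
  have hfe : ∀ v, f (e v) = (e (f v))⁻¹ := by
    intro v
    simp only [e, f, map_mul, map_pow, hαβ, hββ, hαα, map_inv, inv_inv, mul_inv, inv_pow]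
  have hodd : ∀ (H : Subgroup V) (z : V), z ^ 2 ∈ H → z ∈ H := by
    intro H z hz
    obtain ⟨k, hk⟩ := hp.odd_of_ne_two hp2
    have h1 : z = (z ^ 2) ^ (k + 1) := by
      rw [← pow_mul, show 2 * (k + 1) = (2 * k + 1) + 1 by ring, ← hk, pow_succ, hexp, one_mul]
    rw [h1]
    exact H.pow_mem hz _
  have hsq1 : ∀ z : V, z ≠ 1 → z ^ 2 ≠ 1 := by
    intro z hz hz2
    apply hz
    have h1 := orderOf_dvd_of_pow_eq_one hz2
    have h2 := orderOf_dvd_of_pow_eq_one (hexp z)
    have h3 := Nat.dvd_gcd h1 h2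
    rw [(Nat.coprime_primes Nat.prime_two hp).2 (Ne.symm hp2), Nat.dvd_one, orderOf_eq_one_iff] at h3
    exact h3
  -- invariance of `e`, `f`
  have heH : ∀ H : Subgroup V, (∀ x ∈ H, α x ∈ H) → (∀ x ∈ H, β x ∈ H) → ∀ z ∈ H, e z ∈ H := by
    intro H h1 h2 z hz
    exact H.mul_mem (H.pow_mem (h1 z hz) _) (H.pow_mem (h2 z hz) _)
  have hfH : ∀ H : Subgroup V, (∀ x ∈ H, α x ∈ H) → (∀ x ∈ H, β x ∈ H) → ∀ z ∈ H, f z ∈ H := by
    intro H h1 h2 z hz
    exact h1 _ (h2 z hz)
  by_contra hcon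
  push Not at hcon
  obtain ⟨hD1, hD2⟩ := hcon
  obtain ⟨d, hd⟩ := (Subgroup.ne_bot_iff_exists_ne_one).1 hD1
  have hd1 : (d : V) ≠ 1 := fun h => hd (Subtype.ext h)
  -- an `e`-fixed vector in `D`
  have hu : ∃ u ∈ D, u ≠ 1 ∧ e u = u := by
    have hAd : (d : V) * e d ∈ D := D.mul_mem d.2 (heH D hDα hDβ _ d.2)
    have hBd : (d : V) * (e d)⁻¹ ∈ D := D.mul_mem d.2 (D.inv_mem (heH D hDα hDβ _ d.2))
    by_cases hA : (d : V) * e d = 1
    · have hB : (d : V) * (e d)⁻¹ ≠ 1 := by
        intro hB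
        apply hsq1 _ hd1
        have : (d : V) ^ 2 = ((d : V) * e d) * ((d : V) * (e d)⁻¹) := by
          rw [pow_two, mul_mul_mul_comm, mul_inv_cancel, mul_one]
        rw [this, hA, hB, one_mul]
      refine ⟨f ((d : V) * (e d)⁻¹), hfH D hDα hDβ _ hBd, ?_, ?_⟩
      · intro h
        apply hB
        have h1 := hff ((d : V) * (e d)⁻¹)
        rw [h, show f 1 = 1 by simp [f], eq_comm, inv_eq_one] at h1
        exact h1
      · have h1 : e ((d : V) * (e d)⁻¹) = ((d : V) * (e d)⁻¹)⁻¹ := by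
          rw [he_mul, he_inv, hee, mul_inv, inv_inv, mul_comm]
        have h2 := hfe ((d : V) * (e d)⁻¹)
        rw [h1, hf_inv] at h2
        rw [inv_inj] at h2
        exact h2.symm
    · refine ⟨(d : V) * e d, hAd, hA, ?_⟩
      rw [he_mul, hee, mul_comm]
  obtain ⟨u, huD, hu1, heu⟩ := hu
  -- an anti-fixed vector outside `D`
  have hu' : ∃ u' : V, u' ∉ D ∧ e u' = u'⁻¹ := by
    by_contra hcon
    push Not at hcon
    have hall : ∀ v : V, e v = v⁻¹ → v ∈ D := by
      intro v hv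
      by_contra hvD
      exact hcon v hvD hv
    apply hD2
    rw [eq_top_iff]
    intro z _
    apply hodd
    have hB : z * (e z)⁻¹ ∈ D := by
      apply hall
      rw [he_mul, he_inv, hee, mul_inv, inv_inv, mul_comm]
    have hA : z * e z ∈ D := by
      have h1 : e (z * e z) = z * e z := by rw [he_mul, hee, mul_comm]
      have h2 : f (z * e z) ∈ D := by
        apply hall
        have h3 := hfe (z * e z)
        rw [h1] at h3
        rw [eq_inv_iff_mul_eq_one, mul_comm, ← eq_inv_iff_mul_eq_one] at h3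
        exact h3
      have h4 := hfH D hDα hDβ _ h2
      rw [hff] at h4
      simpa using D.inv_mem h4
    have : z ^ 2 = (z * e z) * (z * (e z)⁻¹) := by
      rw [pow_two, mul_mul_mul_comm, mul_inv_cancel, mul_one]
    rw [this]
    exact D.mul_mem hA hB
  obtain ⟨u', hu'D, heu'⟩ := hu'
  set w := u * u' with hw
  have hw1 : w ≠ 1 := by
    intro h
    apply hu'D
    have : u' = u⁻¹ := eq_inv_of_mul_eq_one_right h
    rw [this]
    exact D.inv_mem huD
  have hew : e w = u * u'⁻¹ := by rw [hw, he_mul, heu, heu']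
  have hewsp : e w ∈ sp w := heH (sp w) (hspα w) (hspβ w) w (hspv w)
  have hu2 : u ∈ sp w := by
    apply hodd
    have : u ^ 2 = w * e w := by
      rw [hew, hw, pow_two]
      simp [mul_comm, mul_left_comm]
    rw [this]
    exact (sp w).mul_mem (hspv w) hewsp
  have hu'2 : u' ∈ sp w := by
    apply hodd
    have : u' ^ 2 = w * (e w)⁻¹ := by
      rw [hew, hw, pow_two]
      simp [mul_comm, mul_left_comm]
    rw [this]
    exact (sp w).mul_mem (hspv w) ((sp w).inv_mem hewsp)
  have hle : sp u ≤ sp w := hspm w u hu2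
  have hlt : Nat.card (sp u) < Nat.card (sp w) := by
    apply Nat.lt_of_le_of_ne (Subgroup.card_le_of_le hle)
    intro h
    have heq : sp u = sp w := Subgroup.eq_of_le_of_card_ge hle h.ge
    apply hu'D
    apply hspD u huD
    rw [heq]
    exact hu'2
  exact absurd (hspc u w hu1 hw1) hlt.ne

end Quat

section Dichotomy

variable {G : Type u} [Group G]

/-- Span of the `S`-orbit of `v`. -/
def spG (S : Subgroup G) (v : G) : Subgroup G := Subgroup.closure {x | ∃ s ∈ S, x = s * v * s⁻¹}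

theorem spG_inv (S : Subgroup G) (v : G) : ∀ s ∈ S, ∀ x ∈ spG S v, s * x * s⁻¹ ∈ spG S v := by
  intro s hs x hx
  induction hx using Subgroup.closure_induction with
  | mem y hy =>
    obtain ⟨s', hs', rfl⟩ := hy
    exact Subgroup.subset_closure ⟨s * s', S.mul_mem hs hs', by group⟩
  | one =>
    rw [mul_one, mul_inv_cancel]
    exact Subgroup.one_mem _
  | mul a b _ _ ha hb =>
    have : s * (a * b) * s⁻¹ = (s * a * s⁻¹) * (s * b * s⁻¹) := by group
    rw [this]
    exact Subgroup.mul_mem _ ha hb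
  | inv a _ ha =>
    have : s * a⁻¹ * s⁻¹ = (s * a * s⁻¹)⁻¹ := by group
    rw [this]
    exact Subgroup.inv_mem _ ha

theorem spG_self (S : Subgroup G) (v : G) : v ∈ spG S v :=
  Subgroup.subset_closure ⟨1, S.one_mem, by group⟩

theorem spG_le (S D : Subgroup G) {v : G} (hD : ∀ s ∈ S, ∀ x ∈ D, s * x * s⁻¹ ∈ D) (hv : v ∈ D) :
    spG S v ≤ D := by
  rw [spG, Subgroup.closure_le]
  rintro _ ⟨s, hs, rfl⟩
  exact hD s hs v hv

variable [Finite G]

theorem spG_card_le (R W S : Subgroup G) [hWn : W.Normal] (hRW : R ≤ W) (hWab : IsMulCommutative W)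
    (hQn : (S ⊔ W).Normal) {g u w : G} {k : ℤ} (hu : u ∈ R) (hw : w = g * u ^ k * g⁻¹) :
    Nat.card (spG S w) ≤ Nat.card (spG S u) := by
  rw [← card_conj_smul g (spG S u)]
  apply Subgroup.card_le_of_le
  rw [spG, Subgroup.closure_le]
  rintro _ ⟨s, hs, rfl⟩
  rw [SetLike.mem_coe, mem_conj_smul]
  have h1 : g⁻¹ * s * g ∈ S ⊔ W := by
    have := hQn.conj_mem s (Subgroup.mem_sup_left hs) g⁻¹
    simpa using this
  obtain ⟨s', hs', w', hw', hsw⟩ := Subgroup.mem_sup_of_normal_right.1 h1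
  have huk : u ^ k ∈ W := W.zpow_mem (hRW hu) k
  have h2 : w' * u ^ k = u ^ k * w' :=
    congrArg Subtype.val (hWab.is_comm.comm ⟨w', hw'⟩ ⟨_, huk⟩)
  have h3 : g⁻¹ * (s * w * s⁻¹) * g = (g⁻¹ * s * g) * u ^ k * (g⁻¹ * s * g)⁻¹ := by
    rw [hw]; group
  rw [h3, ← hsw]
  have h4 : s' * w' * u ^ k * (s' * w')⁻¹ = (s' * u * s'⁻¹) ^ k := by
    rw [conj_zpow]
    calc s' * w' * u ^ k * (s' * w')⁻¹ = s' * (w' * u ^ k) * w'⁻¹ * s'⁻¹ := by group
      _ = s' * (u ^ k * w') * w'⁻¹ * s'⁻¹ := by rw [h2]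
      _ = _ := by group
  rw [h4]
  apply Subgroup.zpow_mem
  exact Subgroup.subset_closure ⟨s', hs', rfl⟩

theorem st_card_le (Q : Subgroup G) [hQ : Q.Normal] {g u w : G} {k : ℤ}
    (hw : w = g * u ^ k * g⁻¹) : Nat.card (st Q u) ≤ Nat.card (st Q w) := by
  rw [← card_conj_smul g (st Q u)]
  apply Subgroup.card_le_of_le
  intro t ht
  rw [mem_conj_smul] at ht
  obtain ⟨ht1, ht2⟩ := mem_st.1 ht
  refine mem_st.2 ⟨?_, ?_⟩
  · have := hQ.conj_mem _ ht1 g
    simpa [mul_assoc] using this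
  · have h0 : g⁻¹ * t * g * u = u * (g⁻¹ * t * g) := by
      rw [mul_inv_eq_iff_eq_mul] at ht2
      exact ht2
    have h4 : Commute (g⁻¹ * t * g) (u ^ k) := (show Commute (g⁻¹ * t * g) u from h0).zpow_right k
    have h5 : g⁻¹ * t * g * u ^ k = u ^ k * (g⁻¹ * t * g) := h4
    rw [mul_inv_eq_iff_eq_mul, hw]
    calc t * (g * u ^ k * g⁻¹) = g * (g⁻¹ * t * g * u ^ k) * g⁻¹ := by group
      _ = g * (u ^ k * (g⁻¹ * t * g)) * g⁻¹ := by rw [h5]
      _ = _ := by group

/-- The dichotomy for the action of the quaternion Sylow subgroup on a normal elementary abelian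
subgroup. -/
theorem dichotomy (hB : PB G) {p : ℕ} (hp : p.Prime) (hp2 : p ≠ 2)
    (R W S : Subgroup G) [hRn : R.Normal] [hWn : W.Normal] (hRW : R ≤ W)
    (hWab : IsMulCommutative W) (hRexp : ∀ x ∈ R, x ^ p = 1) (hRne : R ≠ ⊥)
    (hQn : (S ⊔ W).Normal) {a b : G} (haS : a ∈ S) (hbS : b ∈ S) (oa : orderOf a = 4)
    (ob : orderOf b = 4) (oab : orderOf (a * b) = 4) (hbab : b * a * b⁻¹ = a⁻¹)
    (hab2 : a ^ 2 = b ^ 2) (hgen : ∀ K : Subgroup G, a ∈ K → b ∈ K → S ≤ K)
    (hcent : ∀ g : G, g * a ^ 2 * g⁻¹ * (a ^ 2)⁻¹ ∈ W) :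
    (S ≤ Subgroup.centralizer (R : Set G)) ∨
      (∀ D : Subgroup G, D ≤ R → (∀ s ∈ S, ∀ x ∈ D, s * x * s⁻¹ ∈ D) → D = ⊥ ∨ D = R) := by
  classical
  haveI : Fact p.Prime := ⟨hp⟩
  have hRcomm : ∀ x ∈ R, ∀ y ∈ R, x * y = y * x := fun x hx y hy =>
    congrArg Subtype.val (hWab.is_comm.comm ⟨x, hRW hx⟩ ⟨y, hRW hy⟩)
  have hWR : ∀ w ∈ W, ∀ n ∈ R, w * n * w⁻¹ = n := by
    intro w hw n hn
    have : w * n = n * w := congrArg Subtype.val (hWab.is_comm.comm ⟨w, hw⟩ ⟨n, hRW hn⟩)
    rw [this]; group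
  set t := a ^ 2 with ht
  have ha4 : a ^ 4 = 1 := by rw [← oa]; exact pow_orderOf_eq_one a
  have ht2 : t ^ 2 = 1 := by rw [ht, ← pow_mul]; exact ha4
  have hsq : ∀ n ∈ R, n ^ 2 = 1 → n = 1 := by
    intro n hn hn2
    have h1 := orderOf_dvd_of_pow_eq_one hn2
    have h2 := orderOf_dvd_of_pow_eq_one (hRexp n hn)
    have h3 := Nat.dvd_gcd h1 h2
    rw [(Nat.coprime_primes Nat.prime_two hp).2 (Ne.symm hp2), Nat.dvd_one, orderOf_eq_one_iff] at h3
    exact h3
  have hconjt : ∀ (c : G), c ^ 2 = t → ∀ n : G, c * (c * n * c⁻¹) * c⁻¹ = t * n * t⁻¹ := by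
    intro c hc n
    rw [← hc, pow_two]
    group
  have hab2' : (a * b) ^ 2 = t := by
    rw [hab2]
    calc (a * b) ^ 2 = a * (b * a * b⁻¹) * b ^ 2 := by rw [pow_two, pow_two]; group
      _ = _ := by rw [hbab]; group
  by_cases htriv : ∀ n ∈ R, t * n * t⁻¹ = n
  · left
    let φ : G →* MulAut R := MulAut.conjNormal
    have hφ : ∀ (g : G) (n : R), ((φ g n : R) : G) = g * n * g⁻¹ :=
      fun g n => MulAut.conjNormal_apply _ _
    have hφone : ∀ g : G, (∀ n ∈ R, g * n * g⁻¹ = n) → φ g = 1 := by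
      intro g hg
      ext n
      rw [hφ]
      exact hg n n.2
    have hφt : φ t = 1 := hφone t htriv
    have hφa2 : φ a * φ a = 1 := by
      rw [← map_mul, ← pow_two, ← ht, hφt]
    have hφb2 : φ b * φ b = 1 := by
      rw [← map_mul, ← pow_two, ← hab2, hφt]
    have hφab : φ a * φ b = φ b * φ a := by
      have h1 : φ b * φ a * (φ b)⁻¹ = (φ a)⁻¹ := by
        rw [← map_inv, ← map_mul, ← map_mul, hbab, map_inv]
      have h2 : (φ a)⁻¹ = φ a := inv_eq_of_mul_eq_one_left hφa2
      rw [h2] at h1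
      rw [mul_inv_eq_iff_eq_mul] at h1
      exact h1.symm
    have hφS1 : ∀ s ∈ S, φ s * φ a = φ a * φ s ∧ φ s * φ b = φ b * φ s := by
      intro s hs
      let K : Subgroup G := (Subgroup.centralizer ({φ a, φ b} : Set (MulAut R))).comap φ
      have h1 : S ≤ K := by
        apply hgen
        · rw [Subgroup.mem_comap, Subgroup.mem_centralizer_iff]
          rintro h (rfl | h1)
          · rfl
          · rw [Set.mem_singleton_iff] at h1
            subst h1
            exact hφab.symm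
        · rw [Subgroup.mem_comap, Subgroup.mem_centralizer_iff]
          rintro h (rfl | h1)
          · exact hφab
          · rw [Set.mem_singleton_iff] at h1
            subst h1
            rfl
      have h2 := Subgroup.mem_centralizer_iff.1 (Subgroup.mem_comap.1 (h1 hs))
      exact ⟨(h2 _ (by simp)).symm, (h2 _ (by simp)).symm⟩
    have hφS : ∀ s ∈ S, ∀ s' ∈ S, φ s * φ s' = φ s' * φ s := by
      intro s hs s' hs'
      let K : Subgroup G := (Subgroup.centralizer ({φ s} : Set (MulAut R))).comap φ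
      have h1 : S ≤ K := by
        apply hgen
        · rw [Subgroup.mem_comap, Subgroup.mem_centralizer_iff]
          rintro h h1
          rw [Set.mem_singleton_iff] at h1
          subst h1
          exact (hφS1 s hs).1
        · rw [Subgroup.mem_comap, Subgroup.mem_centralizer_iff]
          rintro h h1
          rw [Set.mem_singleton_iff] at h1
          subst h1
          exact (hφS1 s hs).2
      have h2 := Subgroup.mem_centralizer_iff.1 (Subgroup.mem_comap.1 (h1 hs'))
      exact h2 _ (by simp)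
    have hφQ : ∀ q ∈ S ⊔ W, ∃ s ∈ S, φ q = φ s := by
      intro q hq
      obtain ⟨s, hs, w, hw, rfl⟩ := Subgroup.mem_sup_of_normal_right.1 hq
      refine ⟨s, hs, ?_⟩
      rw [map_mul, hφone w (fun n hn => hWR w hw n hn), mul_one]
    haveI : (S ⊔ W).Normal := hQn
    have hcomm : ∀ h ∈ S ⊔ W, ∀ y ∈ S ⊔ W, ∀ n ∈ R,
        h * (y * n * y⁻¹) * h⁻¹ = y * (h * n * h⁻¹) * y⁻¹ := by
      intro h hh y hy n hn
      obtain ⟨s, hs, hs1⟩ := hφQ h hh
      obtain ⟨s', hs', hs2⟩ := hφQ y hy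
      have h1 : φ h * φ y = φ y * φ h := by rw [hs1, hs2]; exact hφS s hs s' hs'
      have h2 := congrArg (fun f : MulAut R => ((f ⟨n, hn⟩ : R) : G)) h1
      simp only [MulAut.mul_apply] at h2
      rw [hφ, hφ, hφ, hφ] at h2
      exact h2
    have hcard : ∀ u ∈ R, ∀ w ∈ R, u ≠ 1 → w ≠ 1 →
        Nat.card (st (S ⊔ W) u) = Nat.card (st (S ⊔ W) w) := by
      have hle : ∀ u ∈ R, ∀ w ∈ R, u ≠ 1 → w ≠ 1 →
          Nat.card (st (S ⊔ W) u) ≤ Nat.card (st (S ⊔ W) w) := by
        intro u hu w hw hu1 hw1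
        obtain ⟨g, k, hgk⟩ := exists_conj_zpowers hB
          ((orderOf_eq_prime (hRexp u hu) hu1).trans (orderOf_eq_prime (hRexp w hw) hw1).symm)
        exact st_card_le _ hgk
      intro u hu w hw hu1 hw1
      exact le_antisymm (hle u hu w hw hu1 hw1) (hle w hw u hu hw1 hu1)
    have hst : ∀ u ∈ R, ∀ w ∈ R, u ≠ 1 → w ≠ 1 → st (S ⊔ W) u = st (S ⊔ W) w :=
      fun u hu w hw hu1 hw1 => st_eq R (S ⊔ W) hRcomm
        (fun r _ n hn => hRn.conj_mem n hn r) hcomm hcard hu hw hu1 hw1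
    -- a fixed point for one of `a`, `b`, `a * b`
    have hinvert : ∀ c : G, c ^ 2 = t → (∀ v ∈ R, c * v * c⁻¹ = v → v = 1) →
        ∀ n ∈ R, c * n * c⁻¹ = n⁻¹ := by
      intro c hc hf n hn
      have hcn : c * n * c⁻¹ ∈ R := hRn.conj_mem n hn c
      have h1 : n * (c * n * c⁻¹) = 1 := by
        apply hf _ (R.mul_mem hn hcn)
        have h2 : c * (n * (c * n * c⁻¹)) * c⁻¹ = (c * n * c⁻¹) * (c * (c * n * c⁻¹) * c⁻¹) := by
          group
        rw [h2, hconjt c hc n, htriv n hn]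
        exact hRcomm _ hcn _ hn
      exact eq_inv_of_mul_eq_one_right h1
    have hex : ∃ c ∈ S, orderOf c = 4 ∧ ∃ v ∈ R, v ≠ 1 ∧ c * v * c⁻¹ = v := by
      by_contra hcon
      push Not at hcon
      have hnf : ∀ c ∈ S, orderOf c = 4 → ∀ v ∈ R, c * v * c⁻¹ = v → v = 1 := by
        intro c hc ho v hv hcv
        by_contra hv1
        exact hcon c hc ho v hv hv1 hcv
      have h1 := hinvert a rfl (hnf a haS oa)
      have h2 := hinvert b hab2.symm (hnf b hbS ob)
      have h3 := hinvert (a * b) hab2' (hnf _ (S.mul_mem haS hbS) oab)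
      apply hRne
      rw [eq_bot_iff]
      intro n hn
      rw [Subgroup.mem_bot]
      apply hsq n hn
      have h4 : (a * b) * n * (a * b)⁻¹ = n := by
        calc (a * b) * n * (a * b)⁻¹ = a * (b * n * b⁻¹) * a⁻¹ := by group
          _ = a * n⁻¹ * a⁻¹ := by rw [h2 n hn]
          _ = (a * n * a⁻¹)⁻¹ := by group
          _ = n := by rw [h1 n hn, inv_inv]
      rw [h3 n hn] at h4
      rw [pow_two]
      nth_rewrite 1 [← h4]
      group
    obtain ⟨c, hcS, hoc, v, hvR, hv1, hcv⟩ := hex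
    have hcC : c ∈ Subgroup.centralizer (R : Set G) := by
      rw [Subgroup.mem_centralizer_iff]
      intro w hw
      by_cases hw1 : w = 1
      · rw [hw1]; group
      · have h1 : c ∈ st (S ⊔ W) w := by
          rw [← hst v hvR w hw hv1 hw1]
          exact mem_st.2 ⟨Subgroup.mem_sup_left hcS, hcv⟩
        have h2 := (mem_st.1 h1).2
        rw [mul_inv_eq_iff_eq_mul] at h2
        exact h2.symm
    apply hgen
    · exact mem_of_conj hB _ hcC (hoc.trans oa.symm)
    · exact mem_of_conj hB _ hcC (hoc.trans ob.symm)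
  · right
    push Not at htriv
    obtain ⟨v₀, hv₀, hv₀t⟩ := htriv
    -- `C_R(t)` is normal
    let X : Subgroup G := R ⊓ Subgroup.centralizer {t}
    have hXmem : ∀ v, v ∈ X ↔ v ∈ R ∧ t * v * t⁻¹ = v := by
      intro v
      rw [Subgroup.mem_inf, Subgroup.mem_centralizer_singleton_iff, mul_inv_eq_iff_eq_mul]
      exact and_congr_right (fun _ => eq_comm)
    haveI hXn : X.Normal := by
      constructor
      intro v hv g
      obtain ⟨hvR, hvt⟩ := (hXmem v).1 hv
      refine (hXmem _).2 ⟨hRn.conj_mem v hvR g, ?_⟩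
      have hw : g⁻¹ * t * g * t⁻¹ ∈ W := by
        have := hcent g⁻¹
        simpa using this
      calc t * (g * v * g⁻¹) * t⁻¹ = g * ((g⁻¹ * t * g * t⁻¹) * (t * v * t⁻¹) * (g⁻¹ * t * g * t⁻¹)⁻¹) * g⁻¹ := by
            group
        _ = g * v * g⁻¹ := by rw [hvt, hWR _ hw v hvR]
    have hv₀1 : v₀ ≠ 1 := by
      rintro rfl
      apply hv₀t
      group
    have hXbot : X = ⊥ := by
      by_contra hne
      obtain ⟨x, hx⟩ := (Subgroup.ne_bot_iff_exists_ne_one).1 hne
      have hx1 : (x : G) ≠ 1 := fun h => hx (Subtype.ext h)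
      obtain ⟨hxR, _⟩ := (hXmem x).1 x.2
      have h1 := mem_of_conj hB X x.2 ((orderOf_eq_prime (hRexp x hxR) hx1).trans
        (orderOf_eq_prime (hRexp v₀ hv₀) hv₀1).symm)
      exact hv₀t ((hXmem v₀).1 h1).2
    have htinv : ∀ n ∈ R, t * n * t⁻¹ = n⁻¹ := by
      intro n hn
      have htn : t * n * t⁻¹ ∈ R := hRn.conj_mem n hn t
      have h1 : n * (t * n * t⁻¹) ∈ X := by
        refine (hXmem _).2 ⟨R.mul_mem hn htn, ?_⟩
        have h2 : t * (n * (t * n * t⁻¹)) * t⁻¹ = (t * n * t⁻¹) * (t ^ 2 * n * (t ^ 2)⁻¹) := by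
          rw [pow_two]; group
        rw [h2, ht2, one_mul, inv_one, mul_one]
        exact hRcomm _ htn _ hn
      rw [hXbot, Subgroup.mem_bot] at h1
      exact eq_inv_of_mul_eq_one_right h1
    intro D hDR hDS
    let φ : G →* MulAut R := MulAut.conjNormal
    have hφ : ∀ (g : G) (n : R), ((φ g n : R) : G) = g * n * g⁻¹ :=
      fun g n => MulAut.conjNormal_apply _ _
    let α : R →* R := (φ a).toMonoidHom
    let β : R →* R := (φ b).toMonoidHom
    have hα : ∀ n : R, ((α n : R) : G) = a * n * a⁻¹ := fun n => hφ a n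
    have hβ : ∀ n : R, ((β n : R) : G) = b * n * b⁻¹ := fun n => hφ b n
    have hαα : ∀ v, α (α v) = v⁻¹ := by
      intro v
      apply Subtype.ext
      rw [hα, hα, hconjt a rfl, Subgroup.coe_inv]
      exact htinv v v.2
    have hββ : ∀ v, β (β v) = v⁻¹ := by
      intro v
      apply Subtype.ext
      rw [hβ, hβ, hconjt b hab2.symm, Subgroup.coe_inv]
      exact htinv v v.2
    have hαβ : ∀ v, β (α v) = (α (β v))⁻¹ := by
      intro v
      apply Subtype.ext
      rw [hβ, hα, Subgroup.coe_inv, hα, hβ]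
      set z := b * (v : G) * b⁻¹ with hz
      have hzR : z ∈ R := hRn.conj_mem v v.2 b
      have h1 : b * (a * v * a⁻¹) * b⁻¹ = (b * a * b⁻¹) * z * (b * a * b⁻¹)⁻¹ := by
        rw [hz]; group
      rw [h1, hbab]
      have h2 : a * z * a⁻¹ = a⁻¹ * (t * z * t⁻¹) * a := by
        rw [ht, pow_two]; group
      rw [h2, htinv z hzR]
      group
    have hspR : ∀ v : R, spG S (v : G) ≤ R :=
      fun v => spG_le S R (fun s _ x hx => hRn.conj_mem x hx s) v.2
    let sp : R → Subgroup R := fun v => (spG S (v : G)).subgroupOf R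
    have hspcle : ∀ u w : R, u ≠ 1 → w ≠ 1 → Nat.card (sp w) ≤ Nat.card (sp u) := by
      intro u w hu hw
      have hu1 : (u : G) ≠ 1 := fun h => hu (Subtype.ext h)
      have hw1 : (w : G) ≠ 1 := fun h => hw (Subtype.ext h)
      obtain ⟨g, k, hgk⟩ := exists_conj_zpowers hB
        ((orderOf_eq_prime (hRexp u u.2) hu1).trans (orderOf_eq_prime (hRexp w w.2) hw1).symm)
      show Nat.card ((spG S (w : G)).subgroupOf R) ≤ Nat.card ((spG S (u : G)).subgroupOf R)
      rw [card_subgroupOf_of_le (hspR u), card_subgroupOf_of_le (hspR w)]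
      exact spG_card_le R W S hRW hWab hQn u.2 hgk
    have hmain := quat_core (V := R) (fun x y => Subtype.ext (hRcomm x x.2 y y.2)) hp hp2
      (fun v => Subtype.ext (by simpa using hRexp v v.2)) α β hαα hββ hαβ sp
      (fun v => Subgroup.mem_subgroupOf.2 (spG_self S v))
      (fun v x hx => Subgroup.mem_subgroupOf.2 (by
        rw [hα]; exact spG_inv S v a haS x (Subgroup.mem_subgroupOf.1 hx)))
      (fun v x hx => Subgroup.mem_subgroupOf.2 (by
        rw [hβ]; exact spG_inv S v b hbS x (Subgroup.mem_subgroupOf.1 hx)))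
      (fun v x hx y hy => Subgroup.mem_subgroupOf.2
        (spG_le S (spG S (v : G)) (spG_inv S v) (Subgroup.mem_subgroupOf.1 hx)
          (Subgroup.mem_subgroupOf.1 hy)))
      (fun u w hu hw => le_antisymm (hspcle w u hw hu) (hspcle u w hu hw))
      (D.subgroupOf R)
      (fun x hx => Subgroup.mem_subgroupOf.2 (by
        rw [hα]; exact hDS a haS x (Subgroup.mem_subgroupOf.1 hx)))
      (fun x hx => Subgroup.mem_subgroupOf.2 (by
        rw [hβ]; exact hDS b hbS x (Subgroup.mem_subgroupOf.1 hx)))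
      (fun v hv y hy => Subgroup.mem_subgroupOf.2
        (spG_le S D hDS (Subgroup.mem_subgroupOf.1 hv) (Subgroup.mem_subgroupOf.1 hy)))
    rcases hmain with h | h
    · left
      rw [eq_bot_iff]
      intro x hx
      have h1 : (⟨x, hDR hx⟩ : R) ∈ D.subgroupOf R := Subgroup.mem_subgroupOf.2 hx
      rw [h, Subgroup.mem_bot] at h1
      rw [Subgroup.mem_bot]
      exact congrArg Subtype.val h1
    · right
      apply le_antisymm hDR
      intro x hx
      have h1 : (⟨x, hx⟩ : R) ∈ D.subgroupOf R := by rw [h]; trivial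
      exact Subgroup.mem_subgroupOf.1 h1

end Dichotomy

section WStruct

variable {G : Type u} [Group G]

/-- `R` is a normal elementary abelian noncyclic Sylow `p`-subgroup. -/
def IsBad (R : Subgroup G) (p : ℕ) : Prop :=
  p.Prime ∧ (∃ P : Sylow p G, (P : Subgroup G) = R) ∧ R.Normal ∧ IsMulCommutative R ∧
    (∀ x ∈ R, x ^ p = 1) ∧ ¬ IsCyclic R

/-- The product of all bad subgroups. -/
def WW (G : Type u) [Group G] : Subgroup G := ⨆ R : {R : Subgroup G // ∃ p, IsBad R p}, R.1

theorem le_WW {R : Subgroup G} {p : ℕ} (h : IsBad R p) : R ≤ WW G :=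
  le_iSup (fun R : {R : Subgroup G // ∃ p, IsBad R p} => R.1) ⟨R, p, h⟩

theorem WW_normal : (WW G).Normal := by
  haveI : ∀ R : {R : Subgroup G // ∃ p, IsBad R p}, (R.1).Normal := by
    rintro ⟨R, p, h⟩
    exact h.2.2.1
  exact Subgroup.iSup_normal _

instance WW_normal_inst : (WW G).Normal := WW_normal

variable [Finite G]

theorem bad_comm {R R' : Subgroup G} {p p' : ℕ} (h : IsBad R p) (h' : IsBad R' p') :
    ∀ x ∈ R, ∀ y ∈ R', x * y = y * x := by
  obtain ⟨hp, ⟨P, hP⟩, hRn, hRab, hRe, -⟩ := h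
  obtain ⟨hp', ⟨P', hP'⟩, hRn', hRab', hRe', -⟩ := h'
  intro x hx y hy
  by_cases hpp : p = p'
  · subst hpp
    haveI : Fact p.Prime := ⟨hp⟩
    haveI : (P : Subgroup G).Normal := by rw [hP]; exact hRn
    letI := Sylow.unique_of_normal P inferInstance
    have hPP : P = P' := Subsingleton.elim _ _
    have hRR : R = R' := by rw [← hP, ← hP', hPP]
    subst hRR
    exact congrArg Subtype.val (hRab.is_comm.comm ⟨x, hx⟩ ⟨y, hy⟩)
  · haveI : Fact p.Prime := ⟨hp⟩
    haveI : Fact p'.Prime := ⟨hp'⟩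
    have hcop : Nat.Coprime (Nat.card R) (Nat.card R') := by
      obtain ⟨a, ha⟩ := IsPGroup.iff_card.1 P.isPGroup'
      obtain ⟨b, hb⟩ := IsPGroup.iff_card.1 P'.isPGroup'
      rw [hP] at ha
      rw [hP'] at hb
      rw [ha, hb]
      exact Nat.Coprime.pow _ _ ((Nat.coprime_primes hp hp').2 hpp)
    exact Subgroup.commute_of_normal_of_disjoint R R' hRn hRn'
      (Subgroup.disjoint_of_coprime_natCard hcop) x y hx hy

theorem WW_comm_aux {R : Subgroup G} {p : ℕ} (h : IsBad R p) :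
    ∀ x ∈ R, ∀ y ∈ WW G, x * y = y * x := by
  intro x hx y hy
  refine Subgroup.iSup_induction (fun R : {R : Subgroup G // ∃ p, IsBad R p} => R.1)
    (C := fun y => x * y = y * x) hy ?_ ?_ ?_
  · rintro ⟨R', p', h'⟩ y hy
    exact bad_comm h h' x hx y hy
  · group
  · intro a b ha hb
    rw [← mul_assoc, ha, mul_assoc, hb, mul_assoc]

theorem WW_comm : IsMulCommutative (WW G) := by
  refine ⟨⟨fun a b => Subtype.ext ?_⟩⟩
  obtain ⟨a, ha⟩ := a
  obtain ⟨b, hb⟩ := b
  show a * b = b * a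
  refine Subgroup.iSup_induction (fun R : {R : Subgroup G // ∃ p, IsBad R p} => R.1)
    (C := fun a => a * b = b * a) ha ?_ ?_ ?_
  · rintro ⟨R', p', h'⟩ y hy
    exact WW_comm_aux h' y hy b hb
  · group
  · intro x y hx hy
    rw [mul_assoc, hy, ← mul_assoc, hx, mul_assoc]

theorem WW_order {p : ℕ} (hp : p.Prime) (hno : ¬ ∃ R : Subgroup G, IsBad R p) :
    ∀ y ∈ WW G, Nat.Coprime (orderOf y) p := by
  intro y hy
  have key : y ∈ WW G ∧ Nat.Coprime (orderOf y) p := by
    refine Subgroup.iSup_induction (fun R : {R : Subgroup G // ∃ p, IsBad R p} => R.1)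
      (C := fun y => y ∈ WW G ∧ Nat.Coprime (orderOf y) p) hy ?_ ?_ ?_
    · rintro ⟨R', q, h'⟩ y hy
      refine ⟨le_WW h' hy, ?_⟩
      have hqp : q ≠ p := by
        rintro rfl
        exact hno ⟨R', h'⟩
      have h1 := orderOf_dvd_of_pow_eq_one (h'.2.2.2.2.1 y hy)
      exact Nat.Coprime.coprime_dvd_left h1 ((Nat.coprime_primes h'.1 hp).2 hqp)
    · exact ⟨Subgroup.one_mem _, by simp⟩
    · intro a b ha hb
      refine ⟨Subgroup.mul_mem _ ha.1 hb.1, ?_⟩
      have hc : Commute a b := congrArg Subtype.val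
        ((WW_comm (G := G)).is_comm.comm ⟨a, ha.1⟩ ⟨b, hb.1⟩)
      exact Nat.Coprime.coprime_dvd_left hc.orderOf_mul_dvd_mul_orderOf (Nat.Coprime.mul_left ha.2 hb.2)
  exact key.2

theorem exists_bad_of_mem {p k : ℕ} (hp : p.Prime) {x : G} (hx : x ∈ WW G)
    (ho : orderOf x = p ^ (k + 1)) : ∃ R : Subgroup G, IsBad R p := by
  by_contra hno
  have h1 := WW_order hp hno x hx
  rw [ho] at h1
  have h2 : p ∣ Nat.gcd (p ^ (k + 1)) p := Nat.dvd_gcd (dvd_pow_self p (by omega)) dvd_rfl
  rw [h1] at h2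
  exact hp.one_lt.ne' (Nat.dvd_one.1 h2)

theorem mem_bad_of_order {R : Subgroup G} {p j : ℕ} (h : IsBad R p) {x : G}
    (ho : orderOf x = p ^ j) : x ∈ R := by
  obtain ⟨hp, ⟨P, hP⟩, hRn, -, -, -⟩ := h
  haveI : Fact p.Prime := ⟨hp⟩
  have hz : IsPGroup p (Subgroup.zpowers x) :=
    IsPGroup.of_card (n := j) (by rw [Nat.card_zpowers, ho])
  have h1 : IsPGroup p ((P : Subgroup G) ⊔ Subgroup.zpowers x : Subgroup G) := by
    haveI : (P : Subgroup G).Normal := by rw [hP]; exact hRn
    exact P.isPGroup'.to_sup_of_normal_left hz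
  have h2 := P.is_maximal' h1 le_sup_left
  have h3 : x ∈ (P : Subgroup G) := by
    rw [← h2]
    exact Subgroup.mem_sup_right (Subgroup.mem_zpowers x)
  rwa [hP] at h3

theorem WW_coprime : Nat.Coprime (Nat.card (WW G)) (WW G).index := by
  by_contra hcon
  obtain ⟨r, hr, hr1, hr2⟩ := Nat.Prime.not_coprime_iff_dvd.1 hcon
  haveI : Fact r.Prime := ⟨hr⟩
  obtain ⟨y, hy⟩ := exists_prime_orderOf_dvd_card' (G := WW G) r hr1
  have hy' : orderOf (y : G) = r ^ (0 + 1) := by
    rw [Subgroup.orderOf_coe, hy, zero_add, pow_one]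
  obtain ⟨R, hR⟩ := exists_bad_of_mem hr y.2 hy'
  have hle := le_WW hR
  have h1 := Subgroup.index_dvd_of_le hle
  obtain ⟨-, ⟨P, hP⟩, -, -, -, -⟩ := hR
  have h2 := P.not_dvd_index
  rw [hP] at h2
  exact h2 (dvd_trans hr2 h1)

variable [Group.IsSolvable G]

theorem good_of_not_dvd (hB : PB G) {p : ℕ} [hp : Fact p.Prime] (hnd : ¬ p ∣ Nat.card (WW G))
    (P : Sylow p G) : IsCyclic (P : Subgroup G) ∨ (p = 2 ∧ UniqueP 2 (P : Subgroup G)) := by
  by_cases hc : IsCyclic (P : Subgroup G)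
  · exact Or.inl hc
  · rcases sylow_structure _ rfl hB P hc with h | ⟨h1, h2, h3⟩
    · exact Or.inr h
    · exfalso
      have hbad : IsBad (P : Subgroup G) p := ⟨hp.out, ⟨P, rfl⟩, h1, h2, h3, hc⟩
      have hle := le_WW hbad
      obtain ⟨k, hk⟩ := IsPGroup.iff_card.1 P.isPGroup'
      rcases k with _ | k
      · rw [pow_zero] at hk
        apply hc
        haveI := (Nat.card_eq_one_iff_unique.1 hk).1
        infer_instance
      · apply hnd
        refine dvd_trans ?_ (Subgroup.card_dvd_of_le hle)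
        rw [hk]
        exact dvd_pow_self p (by omega)

/-- Sylow subgroups of `G/W`. -/
theorem quot_odd_cyclic (hB : PB G) (q : ℕ) (hq : q.Prime) (hq2 : q ≠ 2)
    (P' : Sylow q (G ⧸ WW G)) : IsCyclic (P' : Subgroup (G ⧸ WW G)) := by
  haveI : Fact q.Prime := ⟨hq⟩
  by_cases hd : q ∣ Nat.card (WW G)
  · have hnd : ¬ q ∣ Nat.card (G ⧸ WW G) := by
      rw [← Subgroup.index_eq_card]
      intro h
      have h1 := Nat.dvd_gcd hd h
      rw [WW_coprime, Nat.dvd_one] at h1
      exact hq.one_lt.ne' h1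
    obtain ⟨k, hk⟩ := IsPGroup.iff_card.1 P'.isPGroup'
    rcases k with _ | k
    · rw [pow_zero] at hk
      haveI := (Nat.card_eq_one_iff_unique.1 hk).1
      infer_instance
    · exfalso
      apply hnd
      refine dvd_trans ?_ (Subgroup.card_subgroup_dvd_card (P' : Subgroup (G ⧸ WW G)))
      rw [hk]
      exact dvd_pow_self q (by omega)
  · refine cyc_quot (WW G) (fun P => ?_) P'
    rcases good_of_not_dvd hB hd P with h | ⟨h, -⟩
    · exact h
    · exact absurd h hq2

/-- The Sylow `2`-subgroup is normal modulo `W`, and its involution is central modulo `W`. -/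
theorem quot_normal (hB : PB G) (S : Sylow 2 G) (hS : ¬ IsCyclic (S : Subgroup G))
    (hU : UniqueP 2 (S : Subgroup G)) (h2 : ¬ 2 ∣ Nat.card (WW G)) :
    ((S : Subgroup G) ⊔ WW G).Normal ∧
      ∀ t ∈ (S : Subgroup G), t ^ 2 = 1 → ∀ g : G, g * t * g⁻¹ * t⁻¹ ∈ WW G := by
  haveI : Fact (Nat.Prime 2) := ⟨Nat.prime_two⟩
  let π := QuotientGroup.mk' (WW G)
  have hsurj : Function.Surjective π := QuotientGroup.mk'_surjective _
  have hker : π.ker = WW G := QuotientGroup.ker_mk' _
  have hkmem : ∀ x : G, π x = 1 ↔ x ∈ WW G := fun x => by rw [← MonoidHom.mem_ker, hker]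
  have hcop : Nat.Coprime (Nat.card (S : Subgroup G)) (Nat.card (WW G)) := by
    obtain ⟨a, ha⟩ := IsPGroup.iff_card.1 S.isPGroup'
    rw [ha]
    exact Nat.Coprime.pow_left a ((Nat.Prime.coprime_iff_not_dvd Nat.prime_two).2 h2)
  have hdisj : (S : Subgroup G) ⊓ π.ker = ⊥ := by
    rw [hker]; exact inf_eq_bot_of_coprime_card hcop
  let Sb : Sylow 2 (G ⧸ WW G) := S.mapSurjective hsurj
  have hSbc : (Sb : Subgroup (G ⧸ WW G)) = (S : Subgroup G).map π := Sylow.coe_mapSurjective hsurj S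
  have hnc : ¬ IsCyclic (Sb : Subgroup (G ⧸ WW G)) := by
    rw [hSbc]; exact not_cyclic_map π _ hdisj hS
  have hUb : UniqueP 2 (Sb : Subgroup (G ⧸ WW G)) := by
    rw [hSbc]; exact uniqueP_map π _ hdisj hU
  have hSbn := sylow2_normal _ rfl (quot_all _ rfl hB (WW G)) (quot_odd_cyclic hB) Sb hnc hUb
  constructor
  · have h1 : (((Sb : Subgroup (G ⧸ WW G))).comap π).Normal := inferInstance
    rw [hSbc, Subgroup.comap_map_eq, hker] at h1
    exact h1
  · intro t ht ht2 g
    by_cases ht1 : t = 1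
    · rw [ht1]; simp
    have hmem : ∀ y ∈ (S : Subgroup G), π y ∈ (Sb : Subgroup (G ⧸ WW G)) := by
      intro y hy
      rw [hSbc]
      exact ⟨y, hy, rfl⟩
    have htb1 : π t ≠ 1 := by
      intro h
      apply ht1
      have h1 : t ∈ (S : Subgroup G) ⊓ π.ker := Subgroup.mem_inf.2 ⟨ht, h⟩
      rw [hdisj, Subgroup.mem_bot] at h1
      exact h1
    have htb2 : (π t) ^ 2 = 1 := by rw [← map_pow, ht2, map_one]
    set c := π g * π t * (π g)⁻¹ with hc
    have hcS : c ∈ (Sb : Subgroup (G ⧸ WW G)) := hSbn.conj_mem _ (hmem t ht) _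
    have hc1 : c ≠ 1 := by
      intro h
      apply htb1
      have h1 : π t = (π g)⁻¹ * c * π g := by rw [hc]; group
      rw [h1, h]
      group
    have hc2 : c ^ 2 = 1 := by
      rw [hc, conj_pow, htb2, mul_one, mul_inv_cancel]
    obtain ⟨k, hk⟩ := hUb ⟨c, hcS⟩ ⟨π t, hmem t ht⟩ (Subtype.ext hc2) (Subtype.ext htb2)
      (fun h => hc1 (congrArg Subtype.val h)) (fun h => htb1 (congrArg Subtype.val h))
    have hk' : (π t) ^ k = c := by simpa using congrArg Subtype.val hk
    have ho : orderOf (π t) = 2 := orderOf_eq_prime htb2 htb1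
    rw [← zpow_mod_orderOf, ho] at hk'
    have h3 : k % ((2 : ℕ) : ℤ) = 0 ∨ k % ((2 : ℕ) : ℤ) = 1 := by omega
    have hct : c = π t := by
      rcases h3 with h3 | h3
      · rw [h3, zpow_zero] at hk'
        exact absurd hk'.symm hc1
      · rw [h3, zpow_one] at hk'
        exact hk'.symm
    rw [← hkmem, map_mul, map_mul, map_mul, map_inv, map_inv]
    rw [← hc, hct, mul_inv_cancel]

end WStruct

section Primary

variable {G : Type u} [Group G] [Finite G]

/-- An element lies in a subgroup as soon as its powers of prime-power order do. -/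
theorem mem_of_primary (A : Subgroup G) (v : G)
    (h : ∀ (p k i : ℕ), p.Prime → orderOf (v ^ i) = p ^ k → v ^ i ∈ A) : v ∈ A := by
  classical
  let B : Subgroup G := A ⊓ Subgroup.zpowers v
  have hn : orderOf v ≠ 0 := (orderOf_pos v).ne'
  have hdvd : orderOf v ∣ Nat.card B := by
    rw [← Nat.factorization_prime_le_iff_dvd hn (Nat.card_pos).ne']
    intro p hp
    set e := (orderOf v).factorization p with he
    have hd : p ^ e ∣ orderOf v := Nat.ordProj_dvd _ _
    have ho : orderOf (v ^ (orderOf v / p ^ e)) = p ^ e := by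
      rw [orderOf_pow_of_dvd (Nat.div_ne_zero_iff.2 ⟨(pow_pos hp.pos e).ne', Nat.le_of_dvd (orderOf_pos v) hd⟩)
        (Nat.div_dvd_of_dvd hd)]
      exact Nat.div_div_self hd hn
    have hmem := h p e _ hp ho
    have hle : Subgroup.zpowers (v ^ (orderOf v / p ^ e)) ≤ B := by
      rw [Subgroup.zpowers_le]
      exact Subgroup.mem_inf.2 ⟨hmem, Subgroup.npow_mem_zpowers v _⟩
    have h1 := Subgroup.card_dvd_of_le hle
    rw [Nat.card_zpowers, ho] at h1
    exact (hp.pow_dvd_iff_le_factorization (Nat.card_pos).ne').1 h1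
  have hcz : Nat.card (Subgroup.zpowers v) = orderOf v := Nat.card_zpowers v
  have hle : B ≤ Subgroup.zpowers v := inf_le_right
  have heq : B = Subgroup.zpowers v :=
    Subgroup.eq_of_le_of_card_ge hle (by rw [hcz]; exact Nat.le_of_dvd Nat.card_pos hdvd)
  have hv : v ∈ B := by rw [heq]; exact Subgroup.mem_zpowers v
  exact (Subgroup.mem_inf.1 hv).1

/-- Decomposition in a sup of commuting subgroups. -/
theorem mem_sup_of_comm (T H : Subgroup G) (hc : ∀ h ∈ H, ∀ t ∈ T, h * t = t * h) {x : G}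
    (hx : x ∈ T ⊔ H) : ∃ t ∈ T, ∃ h ∈ H, t * h = x := by
  rw [← Subgroup.closure_eq T, ← Subgroup.closure_eq H, ← Subgroup.closure_union] at hx
  induction hx using Subgroup.closure_induction with
  | mem y hy =>
    rcases hy with hy | hy
    · exact ⟨y, hy, 1, H.one_mem, mul_one y⟩
    · exact ⟨1, T.one_mem, y, hy, one_mul y⟩
  | one => exact ⟨1, T.one_mem, 1, H.one_mem, one_mul 1⟩
  | mul a b _ _ ha hb =>
    obtain ⟨t₁, ht₁, h₁, hh₁, rfl⟩ := ha
    obtain ⟨t₂, ht₂, h₂, hh₂, rfl⟩ := hb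
    refine ⟨t₁ * t₂, T.mul_mem ht₁ ht₂, h₁ * h₂, H.mul_mem hh₁ hh₂, ?_⟩
    calc t₁ * t₂ * (h₁ * h₂) = t₁ * (t₂ * h₁) * h₂ := by group
      _ = t₁ * (h₁ * t₂) * h₂ := by rw [hc h₁ hh₁ t₂ ht₂]
      _ = _ := by group
  | inv a _ ha =>
    obtain ⟨t₁, ht₁, h₁, hh₁, rfl⟩ := ha
    refine ⟨t₁⁻¹, T.inv_mem ht₁, h₁⁻¹, H.inv_mem hh₁, ?_⟩
    have h1 : h₁⁻¹ * t₁⁻¹ = t₁⁻¹ * h₁⁻¹ := by
      have h2 := hc h₁ hh₁ t₁ ht₁
      calc h₁⁻¹ * t₁⁻¹ = (t₁ * h₁)⁻¹ := by group
        _ = (h₁ * t₁)⁻¹ := by rw [h2]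
        _ = _ := by group
    rw [mul_inv_rev, h1]

end Primary

section Final

theorem lift_pgroup' {Y : Type*} [Group Y] [Finite Y] (N : Subgroup Y) [hN : N.Normal] {p : ℕ}
    [hp : Fact p.Prime] (hnd : ¬ p ∣ Nat.card N) (X : Subgroup (Y ⧸ N)) (hX : IsPGroup p X) :
    ∃ X₀ : Subgroup Y, IsPGroup p X₀ ∧ X₀.map (QuotientGroup.mk' N) = X ∧
      Nat.card X₀ = Nat.card X := by
  obtain ⟨S', hS'⟩ := hX.exists_le_sylow
  obtain ⟨S, rfl⟩ := Sylow.mapSurjective_surjective (QuotientGroup.mk'_surjective N) p S'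
  rw [Sylow.coe_mapSurjective] at hS'
  let X₀ : Subgroup Y := (S : Subgroup Y) ⊓ X.comap (QuotientGroup.mk' N)
  have hX₀p : IsPGroup p X₀ := S.isPGroup'.to_le inf_le_left
  have hm : X₀.map (QuotientGroup.mk' N) = X := by
    apply le_antisymm
    · rintro _ ⟨y, hy, rfl⟩
      exact hy.2
    · intro x hx
      obtain ⟨s, hs, rfl⟩ := hS' hx
      exact ⟨s, ⟨hs, hx⟩, rfl⟩
  refine ⟨X₀, hX₀p, hm, ?_⟩
  have hdisj : X₀ ⊓ (QuotientGroup.mk' N).ker = ⊥ := by
    rw [QuotientGroup.ker_mk']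
    apply inf_eq_bot_of_coprime_card
    obtain ⟨a, ha⟩ := IsPGroup.iff_card.1 hX₀p
    rw [ha]
    exact Nat.Coprime.pow_left a ((Nat.Prime.coprime_iff_not_dvd hp.out).2 hnd)
  have := card_map_of_disjoint_ker (QuotientGroup.mk' N) X₀ hdisj
  rw [hm] at this
  exact this.symm

variable {G : Type u} [Group G] [Finite G]

theorem abelian_of_card_dvd_eight (A : Subgroup G) (hd : Nat.card A ∣ 8) (hne : Nat.card A ≠ 8) :
    IsMulCommutative A := by
  have hd' : Nat.card A ∣ 2 ^ 3 := by simpa using hd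
  obtain ⟨k, hk, hk2⟩ := (Nat.dvd_prime_pow Nat.prime_two).1 hd'
  interval_cases k
  · rw [pow_zero] at hk2
    haveI := (Nat.card_eq_one_iff_unique.1 hk2).1
    exact ⟨⟨fun a b => Subsingleton.elim _ _⟩⟩
  · rw [pow_one] at hk2
    haveI : Fact (Nat.Prime 2) := ⟨Nat.prime_two⟩
    haveI : IsCyclic A := isCyclic_of_prime_card hk2
    letI := IsCyclic.commGroup (α := A)
    exact ⟨⟨mul_comm⟩⟩
  · haveI : Fact (Nat.Prime 2) := ⟨Nat.prime_two⟩
    exact IsPGroup.isMulCommutative_of_card_eq_prime_sq (p := 2) hk2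
  · exact absurd (by simpa using hk2) hne

variable [Group.IsSolvable G]

theorem conj_in_normalizer (hB : PB G) (S : Sylow 2 G) (hS : ¬ IsCyclic (S : Subgroup G))
    (hU : UniqueP 2 (S : Subgroup G)) (h2 : ¬ 2 ∣ Nat.card (WW G)) (D : Subgroup G)
    (hDW : D ≤ WW G) (hSD : ∀ s ∈ (S : Subgroup G), ∀ x ∈ D, s * x * s⁻¹ ∈ D)
    (A₁ A₂ : Subgroup G) (hA₁ : A₁ ≤ S) (hA₂ : A₂ ≤ S) (hab₁ : IsMulCommutative A₁)
    (hab₂ : IsMulCommutative A₂) (hc : Nat.card A₁ = Nat.card A₂) :
    ∃ g : G, MulAut.conj g • D = D ∧ MulAut.conj g • A₁ = A₂ := by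
  haveI : Fact (Nat.Prime 2) := ⟨Nat.prime_two⟩
  have h8 := card_eight _ rfl hB S hS hU
  obtain ⟨a, b, haS, hbS, oa, ob, oab, hbab, hab2, hgen⟩ := q8_pkg _ S.isPGroup' hU hS h8
  obtain ⟨hQn, hcent⟩ := quot_normal hB S hS hU h2
  have hWab := WW_comm (G := G)
  have ha4 : (a ^ 2) ^ 2 = 1 := by
    have h4 : a ^ 4 = 1 := by rw [← oa]; exact pow_orderOf_eq_one a
    rw [← pow_mul]; exact h4
  have hcentr := hcent (a ^ 2) (Subgroup.pow_mem _ haS 2) ha4
  set m := Nat.card (WW G) with hm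
  have hcop8 : Nat.Coprime 8 m := by
    rw [show 8 = 2 ^ 3 by norm_num]
    exact Nat.Coprime.pow_left 3 ((Nat.Prime.coprime_iff_not_dvd Nat.prime_two).2 h2)
  have hWm : ∀ y ∈ WW G, y ^ m = 1 := by
    intro y hy
    have h1 := pow_card_eq_one' (G := WW G) (x := ⟨y, hy⟩)
    have h3 := congrArg Subtype.val h1
    rw [Subgroup.coe_pow, Subgroup.coe_one] at h3
    exact h3
  have hS8 : ∀ y ∈ (S : Subgroup G), y ^ 8 = 1 := by
    intro y hy
    have := pow_card_eq_one' (G := (S : Subgroup G)) (x := ⟨y, hy⟩)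
    rw [h8] at this
    simpa using congrArg Subtype.val this
  have hbothone : ∀ y : G, y ^ 8 = 1 → y ^ m = 1 → y = 1 := by
    intro y h1 h3
    have h4 := Nat.dvd_gcd (orderOf_dvd_of_pow_eq_one h1) (orderOf_dvd_of_pow_eq_one h3)
    rw [hcop8, Nat.dvd_one, orderOf_eq_one_iff] at h4
    exact h4
  let DI : Subgroup G := D ⊓ Subgroup.centralizer (S : Set G)
  have hDIW : DI ≤ WW G := inf_le_left.trans hDW
  have hDIab : IsMulCommutative DI := le_comm' hDIW hWab
  have hcomm : ∀ A : Subgroup G, A ≤ S → ∀ d ∈ DI, ∀ t ∈ A, d * t = t * d := by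
    intro A hA d hd t ht
    exact (Subgroup.mem_centralizer_iff.1 (Subgroup.mem_inf.1 hd).2 t (hA ht)).symm
  have hcard : ∀ A : Subgroup G, A ≤ S → Nat.card (A ⊔ DI : Subgroup G) = Nat.card A * Nat.card DI := by
    intro A hA
    have hn : A ≤ Subgroup.normalizer (DI : Set G) := by
      rw [Subgroup.le_normalizer_iff]
      intro x hx y hy
      have : x * y = y * x := (hcomm A hA y hy x hx).symm
      rw [this]
      simpa using hy
    have h1 := Cfsg.Agent.Lib.PGroup.Timmesfeld.card_sup_mul_card_inf_of_le_normalizer A DI hn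
    have hcopA : Nat.Coprime (Nat.card A) (Nat.card DI) := by
      have h3 : Nat.card A ∣ 8 := by
        rw [← h8]; exact Subgroup.card_dvd_of_le hA
      exact Nat.Coprime.coprime_dvd_left h3 (Nat.Coprime.coprime_dvd_right
        (Subgroup.card_dvd_of_le hDIW) hcop8)
    have hbot : A ⊓ DI = ⊥ := inf_eq_bot_of_coprime_card hcopA
    rw [hbot, Subgroup.card_bot, mul_one] at h1
    exact h1
  obtain ⟨g, hg⟩ := hB (A₁ ⊔ DI) (A₂ ⊔ DI) (comm_sup A₁ DI hab₁ hDIab (hcomm A₁ hA₁))
    (comm_sup A₂ DI hab₂ hDIab (hcomm A₂ hA₂)) (by rw [hcard A₁ hA₁, hcard A₂ hA₂, hc])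
  have hmemX : ∀ x ∈ A₁ ⊔ DI, g * x * g⁻¹ ∈ A₂ ⊔ DI := by
    intro x hx
    rw [← hg, mem_conj_smul]
    simpa [mul_assoc] using hx
  have hDIg : ∀ d ∈ DI, g * d * g⁻¹ ∈ DI := by
    intro d hd
    obtain ⟨c, hc', d', hd', hcd⟩ := mem_sup_of_comm A₂ DI (hcomm A₂ hA₂)
      (hmemX d (Subgroup.mem_sup_right hd))
    have hcm : Commute c d' := (hcomm A₂ hA₂ d' hd' c hc').symm
    have h1 : c ^ m = 1 := by
      have h3 : (c * d') ^ m = 1 := by
        rw [hcd, conj_pow, hWm d (hDIW hd), mul_one, mul_inv_cancel]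
      rw [hcm.mul_pow, hWm d' (hDIW hd'), mul_one] at h3
      exact h3
    have h3 : c = 1 := hbothone c (hS8 c (hA₂ hc')) h1
    rw [← hcd, h3, one_mul]
    exact hd'
  have hAg : ∀ x ∈ A₁, g * x * g⁻¹ ∈ A₂ := by
    intro x hx
    obtain ⟨c, hc', d', hd', hcd⟩ := mem_sup_of_comm A₂ DI (hcomm A₂ hA₂)
      (hmemX x (Subgroup.mem_sup_left hx))
    have hcm : Commute c d' := (hcomm A₂ hA₂ d' hd' c hc').symm
    have h1 : d' ^ 8 = 1 := by
      have h3 : (c * d') ^ 8 = 1 := by
        rw [hcd, conj_pow, hS8 x (hA₁ hx), mul_one, mul_inv_cancel]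
      rw [hcm.mul_pow, hS8 c (hA₂ hc'), one_mul] at h3
      exact h3
    have h3 : d' = 1 := hbothone d' h1 (hWm d' (hDIW hd'))
    rw [← hcd, h3, mul_one]
    exact hc'
  have hconjA : MulAut.conj g • A₁ = A₂ := by
    refine Subgroup.eq_of_le_of_card_ge ?_ (by rw [card_conj_smul, hc])
    intro y hy
    rw [mem_conj_smul] at hy
    have := hAg _ hy
    simpa [mul_assoc] using this
  refine ⟨g, ?_, hconjA⟩
  have hDle : ∀ v ∈ D, g * v * g⁻¹ ∈ D := by
    intro v hv
    have hmem : v ∈ MulAut.conj g⁻¹ • D := by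
      apply mem_of_primary
      intro p k i hp ho
      rw [mem_conj_smul, inv_inv]
      set y := v ^ i with hy
      have hyD : y ∈ D := D.pow_mem hv i
      by_cases hy1 : y = 1
      · rw [hy1, mul_one, mul_inv_cancel]
        exact D.one_mem
      rcases k with _ | k
      · rw [pow_zero, orderOf_eq_one_iff] at ho
        exact absurd ho hy1
      obtain ⟨R, hR⟩ := exists_bad_of_mem hp (hDW hyD) ho
      have hyR := mem_bad_of_order hR ho
      have hp2 : p ≠ 2 := by
        rintro rfl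
        apply h2
        have h3 := Subgroup.orderOf_dvd_natCard (WW G) (hDW hyD)
        rw [ho] at h3
        exact dvd_trans (dvd_pow_self 2 (by omega)) h3
      have hle := le_WW hR
      obtain ⟨-, -, hRn, -, hRe, -⟩ := hR
      haveI := hRn
      have hRne : R ≠ ⊥ := by
        intro h
        rw [h, Subgroup.mem_bot] at hyR
        exact hy1 hyR
      rcases dichotomy hB hp hp2 R (WW G) (S : Subgroup G) hle hWab hRe hRne hQn haS hbS oa ob oab
        hbab hab2 hgen hcentr with hl | hr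
      · have hyDI : y ∈ DI := by
          refine Subgroup.mem_inf.2 ⟨hyD, ?_⟩
          rw [Subgroup.mem_centralizer_iff]
          intro h hh
          exact (Subgroup.mem_centralizer_iff.1 (hl hh) y hyR).symm
        exact (Subgroup.mem_inf.1 (hDIg y hyDI)).1
      · rcases hr (D ⊓ R) inf_le_right (fun s hs x hx =>
          Subgroup.mem_inf.2 ⟨hSD s hs x (Subgroup.mem_inf.1 hx).1,
            hRn.conj_mem x (Subgroup.mem_inf.1 hx).2 s⟩) with h | h
        · have h3 : y ∈ D ⊓ R := Subgroup.mem_inf.2 ⟨hyD, hyR⟩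
          rw [h, Subgroup.mem_bot] at h3
          exact absurd h3 hy1
        · have hRD : R ≤ D := by
            rw [← h]; exact inf_le_left
          exact hRD (hRn.conj_mem y hyR g)
    rw [mem_conj_smul, inv_inv] at hmem
    exact hmem
  refine Subgroup.eq_of_le_of_card_ge ?_ (by rw [card_conj_smul])
  intro y hy
  rw [mem_conj_smul] at hy
  have := hDle _ hy
  simpa [mul_assoc] using this

/-- Conjugacy of `2`-subgroups in the normalizer of `D`. -/
theorem conj_two_in_M (hB : PB G) (S : Sylow 2 G) (hS : ¬ IsCyclic (S : Subgroup G))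
    (hU : UniqueP 2 (S : Subgroup G)) (h2 : ¬ 2 ∣ Nat.card (WW G)) (D : Subgroup G)
    (hDW : D ≤ WW G) (M : Subgroup G) (hM : M = Subgroup.normalizer (D : Set G))
    (hSM : (S : Subgroup G) ≤ M)
    (U₀ V₀ : Subgroup M) (hU₀ : IsPGroup 2 U₀) (hV₀ : IsPGroup 2 V₀)
    (hc : Nat.card U₀ = Nat.card V₀) :
    ∃ m : M, MulAut.conj m • U₀ = V₀ := by
  haveI : Fact (Nat.Prime 2) := ⟨Nat.prime_two⟩
  have h8 := card_eight _ rfl hB S hS hU
  let SM : Sylow 2 M := S.subtype hSM
  have hSMc : (SM : Subgroup M) = (S : Subgroup G).subgroupOf M := Sylow.coe_subtype S hSM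
  have hconjS : ∀ W₀ : Subgroup M, IsPGroup 2 W₀ → ∃ x : M, MulAut.conj x • W₀ ≤ (SM : Subgroup M) := by
    intro W₀ hW₀
    obtain ⟨T, hT⟩ := hW₀.exists_le_sylow
    obtain ⟨x, hx⟩ := MulAction.exists_smul_eq M T SM
    refine ⟨x, ?_⟩
    have hsm : (SM : Subgroup M) = MulAut.conj x • (T : Subgroup M) := by
      rw [← hx]; rfl
    rw [hsm]
    exact conj_smul_le_conj_smul x hT
  obtain ⟨x, hx⟩ := hconjS U₀ hU₀
  obtain ⟨y, hy⟩ := hconjS V₀ hV₀
  have hle : ∀ W₀ : Subgroup M, W₀ ≤ (SM : Subgroup M) → W₀.map M.subtype ≤ (S : Subgroup G) := by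
    rintro W₀ hW₀ _ ⟨w, hw, rfl⟩
    have h1 := hW₀ hw
    rw [hSMc] at h1
    exact Subgroup.mem_subgroupOf.1 h1
  set A₁ := (MulAut.conj x • U₀).map M.subtype with hA₁
  set A₂ := (MulAut.conj y • V₀).map M.subtype with hA₂
  have hA₁S : A₁ ≤ (S : Subgroup G) := hle _ hx
  have hA₂S : A₂ ≤ (S : Subgroup G) := hle _ hy
  have hcA₁ : Nat.card A₁ = Nat.card U₀ := by
    rw [hA₁, Subgroup.card_map_of_injective M.subtype_injective, card_conj_smul]
  have hcA₂ : Nat.card A₂ = Nat.card V₀ := by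
    rw [hA₂, Subgroup.card_map_of_injective M.subtype_injective, card_conj_smul]
  have hcA : Nat.card A₁ = Nat.card A₂ := by rw [hcA₁, hcA₂, hc]
  have hinj : ∀ X Y : Subgroup M, X.map M.subtype = Y.map M.subtype → X = Y :=
    fun X Y h => Subgroup.map_injective M.subtype_injective h
  suffices hmain : ∃ m : M, MulAut.conj m • (MulAut.conj x • U₀) = MulAut.conj y • V₀ by
    obtain ⟨m, hm⟩ := hmain
    refine ⟨y⁻¹ * m * x, ?_⟩
    rw [conj_mul_smul, conj_mul_smul, hm, ← conj_mul_smul]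
    simp
  by_cases h88 : Nat.card A₁ = 8
  · have e1 : A₁ = (S : Subgroup G) := Subgroup.eq_of_le_of_card_ge hA₁S (by rw [h8, h88])
    have e2 : A₂ = (S : Subgroup G) := Subgroup.eq_of_le_of_card_ge hA₂S (by rw [h8, ← hcA, h88])
    refine ⟨1, ?_⟩
    rw [map_one, one_smul]
    exact hinj _ _ (e1.trans e2.symm)
  · have hd₁ : Nat.card A₁ ∣ 8 := by
      rw [← h8]; exact Subgroup.card_dvd_of_le hA₁S
    have hd₂ : Nat.card A₂ ∣ 8 := by
      rw [← hcA]; exact hd₁
    have hab₁ := abelian_of_card_dvd_eight A₁ hd₁ h88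
    have hab₂ := abelian_of_card_dvd_eight A₂ hd₂ (by rw [← hcA]; exact h88)
    have hSD : ∀ s ∈ (S : Subgroup G), ∀ x ∈ D, s * x * s⁻¹ ∈ D := by
      intro s hs z hz
      have h3 := hSM hs
      rw [hM] at h3
      exact (Subgroup.mem_normalizer_iff.1 h3 z).1 hz
    obtain ⟨g, hgD, hgA⟩ := conj_in_normalizer hB S hS hU h2 D hDW hSD A₁ A₂ hA₁S hA₂S hab₁ hab₂ hcA
    have hgM : g ∈ M := by
      rw [hM, Subgroup.mem_normalizer_iff]
      intro z
      constructor
      · intro hz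
        rw [← hgD, mem_conj_smul]
        simpa [mul_assoc] using hz
      · intro hz
        rw [← hgD, mem_conj_smul] at hz
        simpa [mul_assoc] using hz
    refine ⟨⟨g, hgM⟩, hinj _ _ ?_⟩
    rw [map_conj_smul]
    exact hgA

/-- The main theorem. -/
theorem all_conj (hB : PB G) (H K : Subgroup G) (hHK : Nat.card H = Nat.card K) :
    ∃ g : G, MulAut.conj g • H = K := by
  haveI hWn : (WW G).Normal := WW_normal
  have hWab := WW_comm (G := G)
  set N := WW G with hN
  have hNcop : Nat.Coprime (Nat.card N) N.index := WW_coprime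
  have hcopmap : ∀ W : Subgroup G, (Nat.card N).Coprime (Nat.card (W.map (QuotientGroup.mk' N))) := by
    intro W
    have h1 : Nat.card (W.map (QuotientGroup.mk' N)) ∣ N.index := by
      rw [Subgroup.index_eq_card]
      exact Subgroup.card_subgroup_dvd_card _
    exact Nat.Coprime.coprime_dvd_right h1 hNcop
  have heqH := card_map_mul_card_inf_ker (QuotientGroup.mk' N) H
  have heqK := card_map_mul_card_inf_ker (QuotientGroup.mk' N) K
  rw [QuotientGroup.ker_mk'] at heqH heqK
  have hA12 : Nat.card (H ⊓ N : Subgroup G) = Nat.card (K ⊓ N : Subgroup G) := by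
    apply Nat.dvd_antisymm
    · have h1 : Nat.card (H ⊓ N : Subgroup G) ∣ Nat.card (K.map (QuotientGroup.mk' N)) * Nat.card (K ⊓ N : Subgroup G) := by
        rw [heqK, ← hHK, ← heqH]; exact dvd_mul_left _ _
      refine Nat.Coprime.dvd_of_dvd_mul_left ?_ h1
      exact Nat.Coprime.coprime_dvd_left (Subgroup.card_dvd_of_le inf_le_right) (hcopmap K)
    · have h1 : Nat.card (K ⊓ N : Subgroup G) ∣ Nat.card (H.map (QuotientGroup.mk' N)) * Nat.card (H ⊓ N : Subgroup G) := by
        rw [heqH, hHK, ← heqK]; exact dvd_mul_left _ _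
      refine Nat.Coprime.dvd_of_dvd_mul_left ?_ h1
      exact Nat.Coprime.coprime_dvd_left (Subgroup.card_dvd_of_le inf_le_right) (hcopmap H)
  obtain ⟨g₀, hg₀⟩ := hB (H ⊓ N) (K ⊓ N) (le_comm' inf_le_right hWab) (le_comm' inf_le_right hWab) hA12
  set H₁ := MulAut.conj g₀ • H with hH₁
  have hH₁N : H₁ ⊓ N = K ⊓ N := by
    rw [← hg₀, conj_smul_inf, conj_smul_normal g₀ N]
  set A := K ⊓ N with hA
  have hAN : A ≤ N := inf_le_right
  let X : Subgroup G := Subgroup.normalizer (A : Set G)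
  have hNX : N ≤ X := le_normalizer_of_abelian N A hWab hAN
  have hH₁X : H₁ ≤ X := by
    have := le_normalizer_inf_normal H₁ N
    rwa [hH₁N] at this
  have hKX : K ≤ X := le_normalizer_inf_normal K N
  -- work in X / N
  let N₁ : Subgroup X := N.subgroupOf X
  haveI hN₁ : N₁.Normal := inferInstance
  let H₂ : Subgroup X := H₁.subgroupOf X
  let K₂ : Subgroup X := K.subgroupOf X
  have hinfH : H₂ ⊓ (QuotientGroup.mk' N₁).ker = A.subgroupOf X := by
    rw [QuotientGroup.ker_mk', ← hH₁N]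
    ext x
    simp [H₂, N₁, Subgroup.mem_subgroupOf]
  have hinfK : K₂ ⊓ (QuotientGroup.mk' N₁).ker = A.subgroupOf X := by
    rw [QuotientGroup.ker_mk']
    ext x
    simp [K₂, N₁, A, Subgroup.mem_subgroupOf]
  have hAX : A ≤ X := hAN.trans hNX
  have eH := card_map_mul_card_inf_ker (QuotientGroup.mk' N₁) H₂
  have eK := card_map_mul_card_inf_ker (QuotientGroup.mk' N₁) K₂
  rw [hinfH, card_subgroupOf_of_le hAX, card_subgroupOf_of_le hH₁X, hH₁, card_conj_smul] at eH
  rw [hinfK, card_subgroupOf_of_le hAX, card_subgroupOf_of_le hKX] at eK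
  have hcmap : Nat.card (H₂.map (QuotientGroup.mk' N₁)) = Nat.card (K₂.map (QuotientGroup.mk' N₁)) := by
    have hpos : 0 < Nat.card A := Nat.card_pos
    apply Nat.eq_of_mul_eq_mul_right hpos
    rw [eH, eK, hHK]
  have hcN₁ : Nat.card N₁ = Nat.card N := card_subgroupOf_of_le hNX
  have hdvdidx : Nat.card (X ⧸ N₁) ∣ N.index := by
    have h1 : Nat.card (X ⧸ N₁) = N.relIndex X := by
      rw [← Subgroup.index_eq_card]; rfl
    rw [h1]
    have h2 := Subgroup.relIndex_mul_index hNX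
    rw [← h2]
    exact dvd_mul_right _ _
  have htriv : ∀ p : ℕ, p.Prime → p ∣ Nat.card N → ∀ P : Sylow p (X ⧸ N₁), IsCyclic (P : Subgroup (X ⧸ N₁)) := by
    intro p hp hd P
    haveI : Fact p.Prime := ⟨hp⟩
    have hnd : ¬ p ∣ Nat.card (X ⧸ N₁) := by
      intro h
      have h1 := Nat.dvd_gcd hd (dvd_trans h hdvdidx)
      rw [hNcop, Nat.dvd_one] at h1
      exact hp.one_lt.ne' h1
    obtain ⟨k, hk⟩ := IsPGroup.iff_card.1 P.isPGroup'
    rcases k with _ | k
    · rw [pow_zero] at hk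
      haveI := (Nat.card_eq_one_iff_unique.1 hk).1
      infer_instance
    · exfalso
      apply hnd
      refine dvd_trans ?_ (Subgroup.card_subgroup_dvd_card (P : Subgroup (X ⧸ N₁)))
      rw [hk]
      exact dvd_pow_self p (by omega)
  have hcycQ : ∀ p : ℕ, p.Prime → p ≠ 2 → ∀ P : Sylow p (X ⧸ N₁), IsCyclic P := by
    intro p hp hp2 P
    haveI : Fact p.Prime := ⟨hp⟩
    by_cases hd : p ∣ Nat.card N
    · exact htriv p hp hd P
    · refine cyc_quot N₁ (fun P₀ => ?_) P
      have hP0 : IsPGroup p ((P₀ : Subgroup X).map X.subtype) := P₀.isPGroup'.map X.subtype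
      obtain ⟨S', hS'⟩ := hP0.exists_le_sylow
      haveI : IsCyclic (S' : Subgroup G) := by
        rcases good_of_not_dvd hB hd S' with h | ⟨h, -⟩
        · exact h
        · exact absurd h hp2
      let f : (P₀ : Subgroup X) →* (S' : Subgroup G) :=
        (Subgroup.inclusion hS').comp (X.subtype.subgroupMap (P₀ : Subgroup X))
      refine isCyclic_of_injective f ?_
      intro a b hab
      have h1 := congrArg (fun z : (S' : Subgroup G) => (z : G)) hab
      exact Subtype.ext (Subtype.ext h1)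
  have hDQ : ∀ p : ℕ, p.Prime → ∀ U V : Subgroup (X ⧸ N₁), IsPGroup p U → IsPGroup p V →
      Nat.card U = Nat.card V → ∃ g : X ⧸ N₁, MulAut.conj g • U = V := by
    intro p hp U V hU hV hUV
    haveI : Fact p.Prime := ⟨hp⟩
    by_cases hp2 : p = 2
    · subst hp2
      by_cases hall : ∀ P : Sylow 2 (X ⧸ N₁), IsCyclic (P : Subgroup (X ⧸ N₁))
      · exact conj_of_cyclic hall U V hU hV hUV
      push Not at hall
      obtain ⟨T', hT'⟩ := hall
      have hnd : ¬ 2 ∣ Nat.card N := fun hd => hT' (htriv 2 hp hd T')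
      obtain ⟨T₀, rfl⟩ := Sylow.mapSurjective_surjective (QuotientGroup.mk'_surjective N₁) 2 T'
      rw [Sylow.coe_mapSurjective] at hT'
      have hT₀nc : ¬ IsCyclic (T₀ : Subgroup X) := by
        intro hc
        apply hT'
        exact isCyclic_of_surjective ((QuotientGroup.mk' N₁).subgroupMap (T₀ : Subgroup X))
          (MonoidHom.subgroupMap_surjective _ _)
      have hP0 : IsPGroup 2 ((T₀ : Subgroup X).map X.subtype) := T₀.isPGroup'.map X.subtype
      obtain ⟨S, hS₁⟩ := hP0.exists_le_sylow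
      have hincl : ∀ a : (T₀ : Subgroup X), ((a : X) : G) ∈ (S : Subgroup G) :=
        fun a => hS₁ ⟨a, a.2, rfl⟩
      have hSnc : ¬ IsCyclic (S : Subgroup G) := by
        intro hc
        apply hT₀nc
        let f : (T₀ : Subgroup X) →* (S : Subgroup G) :=
          (Subgroup.inclusion hS₁).comp (X.subtype.subgroupMap (T₀ : Subgroup X))
        refine isCyclic_of_injective f ?_
        intro a b hab
        have h1 := congrArg (fun z : (S : Subgroup G) => (z : G)) hab
        exact Subtype.ext (Subtype.ext h1)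
      have hSU : UniqueP 2 (S : Subgroup G) := by
        rcases good_of_not_dvd hB hnd S with h | ⟨-, h⟩
        · exact absurd h hSnc
        · exact h
      have h8 := card_eight _ rfl hB S hSnc hSU
      -- `T₀` has the unique involution property
      have hT₀U : UniqueP 2 (T₀ : Subgroup X) := by
        intro y z hy hz hy1 hz1
        obtain ⟨k, hk⟩ := hSU ⟨_, hincl y⟩ ⟨_, hincl z⟩
          (Subtype.ext (by simpa using congrArg (fun w : (T₀ : Subgroup X) => ((w : X) : G)) hy))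
          (Subtype.ext (by simpa using congrArg (fun w : (T₀ : Subgroup X) => ((w : X) : G)) hz))
          (fun h => hy1 (Subtype.ext (Subtype.ext (by simpa using congrArg Subtype.val h))))
          (fun h => hz1 (Subtype.ext (Subtype.ext (by simpa using congrArg Subtype.val h))))
        refine ⟨k, Subtype.ext (Subtype.ext ?_)⟩
        simpa using congrArg Subtype.val hk
      have hT₀nab : ¬ IsMulCommutative (T₀ : Subgroup X) := by
        intro hc
        exact hT₀nc (isCyclic_of_comm_uniqueP (fun x y => hc.is_comm.comm x y) T₀.isPGroup' hT₀U)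
      have hcT₁ : Nat.card ((T₀ : Subgroup X).map X.subtype) = Nat.card (T₀ : Subgroup X) :=
        Subgroup.card_map_of_injective X.subtype_injective
      have hd8 : Nat.card ((T₀ : Subgroup X).map X.subtype) ∣ 8 := by
        rw [← h8]; exact Subgroup.card_dvd_of_le hS₁
      have h88 : Nat.card ((T₀ : Subgroup X).map X.subtype) = 8 := by
        by_contra hne
        have hab := abelian_of_card_dvd_eight _ hd8 hne
        apply hT₀nab
        refine ⟨⟨fun a b => Subtype.ext (Subtype.ext ?_)⟩⟩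
        have h9 := hab.is_comm.comm (⟨((a : X) : G), ⟨a, a.2, rfl⟩⟩ : (T₀ : Subgroup X).map X.subtype)
          ⟨((b : X) : G), ⟨b, b.2, rfl⟩⟩
        have h10 := congrArg Subtype.val h9
        simpa using h10
      have hTS : (T₀ : Subgroup X).map X.subtype = (S : Subgroup G) :=
        Subgroup.eq_of_le_of_card_ge hS₁ (by rw [h88, h8])
      have hSX : (S : Subgroup G) ≤ X := by
        rw [← hTS]
        rintro _ ⟨a, -, rfl⟩
        exact a.2
      have hnd₁ : ¬ 2 ∣ Nat.card N₁ := by rw [hcN₁]; exact hnd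
      obtain ⟨U₀, hU₀, hmU, hcU⟩ := lift_pgroup' N₁ hnd₁ U hU
      obtain ⟨V₀, hV₀, hmV, hcV⟩ := lift_pgroup' N₁ hnd₁ V hV
      obtain ⟨m, hm⟩ := conj_two_in_M hB S hSnc hSU hnd A hAN X rfl hSX U₀ V₀ hU₀ hV₀
        (by rw [hcU, hcV, hUV])
      refine ⟨QuotientGroup.mk' N₁ m, ?_⟩
      rw [← hmU, ← hmV, ← hm, map_conj_smul]
    · exact conj_of_cyclic (hcycQ p hp hp2) U V hU hV hUV
  obtain ⟨g₁, hg₁⟩ := step1 N₁ H₂ K₂ (main _ rfl hDQ 2 hcycQ _ _ hcmap)
  -- push to G
  have hpush : (MulAut.conj (g₁ : G) • H₁) ⊔ N = K ⊔ N := by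
    have h1 := congrArg (Subgroup.map X.subtype) hg₁
    rw [Subgroup.map_sup, Subgroup.map_sup, map_conj_smul, Subgroup.map_subgroupOf_eq_of_le hH₁X,
      Subgroup.map_subgroupOf_eq_of_le hKX, Subgroup.map_subgroupOf_eq_of_le hNX] at h1
    exact h1
  set H₃ := MulAut.conj (g₁ : G) • H₁ with hH₃
  have hconjA : MulAut.conj (g₁ : G) • A = A := by
    ext x
    rw [mem_conj_smul]
    have h3 := Subgroup.mem_normalizer_iff.1 (inv_mem g₁.2) x
    simp only [inv_inv] at h3
    exact h3.symm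
  have hH₃N : H₃ ⊓ N = K ⊓ N := by
    rw [hH₃, ← hA, ← hconjA, ← hH₁N, conj_smul_inf, conj_smul_normal _ N]
  have hcH₃ : Nat.card H₃ = Nat.card K := by
    rw [hH₃, card_conj_smul, hH₁, card_conj_smul, hHK]
  obtain ⟨t, ht⟩ := step2 N H₃ K hWab hH₃N hpush hcH₃ (by
    rw [hH₃N, hcH₃]
    have hpos : 0 < Nat.card (K ⊓ N : Subgroup G) := Nat.card_pos
    have : Nat.card K / Nat.card (K ⊓ N : Subgroup G) = Nat.card (K.map (QuotientGroup.mk' N)) :=
      Nat.div_eq_of_eq_mul_left hpos heqK.symm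
    rw [this]
    exact hcopmap K)
  exact ⟨t * (g₁ : G) * g₀, by rw [conj_mul_smul, conj_mul_smul, ← hH₁, ← hH₃, ht]⟩

end Final

/-- If G is a finite solvable group in which any two abelian subgroups of the same order are conjugate, then any two subgroups of G of the same order are conjugate. -/
theorem result {G : Type*} [Group G] [Finite G] (hB : ∀ A B : Subgroup G, IsMulCommutative ↥A → IsMulCommutative ↥B → Nat.card ↥A = Nat.card ↥B → ∃ g : G, B = A.map (MulAut.conj g).toMonoidHom) (hsol : Group.IsSolvable G) (A B : Subgroup G)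
    (h : Nat.card ↥A = Nat.card ↥B) : ∃ g : G, B = A.map (MulAut.conj g).toMonoidHom := by
  have hP : PB G := fun A B hA hB' hc => by
    obtain ⟨g, hg⟩ := hB A B hA hB' hc
    exact ⟨g, hg.symm⟩
  obtain ⟨g, hg⟩ := all_conj hP A B h
  exact ⟨g, hg.symm⟩


end Cfsg.Agent.S3913
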