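import Cfsg.Statements.S4419
import Cfsg.Agent.Lib.Transfer.Frobenius
import Cfsg.Agent.Lib.Transfer.Basic
import Cfsg.Agent.Lib.Coprime.OmegaOne
import Cfsg.Agent.Lib.Coprime.FrattiniAct
import Cfsg.Agent.Lib.PGroup.Basic
import Cfsg.Agent.Lib.Basic.PCore
import Cfsg.Agent.Lib.Solvable.PSeries

set_option autoImplicit false
open Cfsg

namespace Cfsg.Agent.S4419

open Cfsg.Agent.Lib.Transfer.Frobenius Cfsg.Agent.Lib.Coprime.OmegaOne

theorem metacyclic_of_injective {A B : Type*} [Group A] [Group B] (f : A →* B)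
    (hf : Function.Injective f) (h : Cfsg.IsMetacyclic B) : Cfsg.IsMetacyclic A := by
  obtain ⟨N, hN, h1, h2⟩ := h
  refine ⟨N.comap f, inferInstance, ?_, ?_⟩
  · exact isCyclic_of_injective (f.subgroupComap N) (fun a b h => Subtype.ext (hf (congrArg Subtype.val h)))
  · let φ : A ⧸ N.comap f →* B ⧸ N := QuotientGroup.map (N.comap f) N f le_rfl
    refine isCyclic_of_injective φ ?_
    rw [injective_iff_map_eq_one]
    intro x hx
    obtain ⟨y, rfl⟩ := QuotientGroup.mk_surjective x
    rw [QuotientGroup.eq_one_iff]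
    have : φ (y : A ⧸ N.comap f) = (f y : B ⧸ N) := rfl
    rw [this, QuotientGroup.eq_one_iff] at hx
    exact hx

theorem card_dvd_of_cyclic {C : Type*} [Group C] [Finite C] [IsCyclic C] {p : ℕ}
    (h : ∀ x : C, x ^ p = 1) : Nat.card C ∣ p := by
  obtain ⟨g, hg⟩ := IsCyclic.exists_generator (α := C)
  rw [← orderOf_eq_card_of_forall_mem_zpowers hg]
  exact orderOf_dvd_of_pow_eq_one (h g)

theorem index_frattini_dvd {R : Type*} [Group R] [Finite R] {p : ℕ} [Fact p.Prime]
    (hR : IsPGroup p R) (h : Cfsg.IsMetacyclic R) : (frattini R).index ∣ p ^ 2 := by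
  obtain ⟨N, hN, h1, h2⟩ := h
  let V := R ⧸ frattini R
  let π : R →* V := QuotientGroup.mk' (frattini R)
  have hπ : Function.Surjective π := QuotientGroup.mk'_surjective _
  have hV : ∀ v : V, v ^ p = 1 := by
    intro v
    obtain ⟨y, rfl⟩ := hπ v
    rw [← map_pow]
    exact (QuotientGroup.eq_one_iff _).mpr
      (Cfsg.Agent.Lib.PGroup.Basic.pow_mem_frattini hR y)
  let N' : Subgroup V := N.map π
  have hN' : N'.Normal := hN.map π hπ
  have c1 : IsCyclic N' := isCyclic_of_surjective (π.subgroupMap N) (π.subgroupMap_surjective N)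
  have c2 : IsCyclic (V ⧸ N') := by
    let φ : R ⧸ N →* V ⧸ N' := QuotientGroup.map N N' π (Subgroup.le_comap_map π N)
    refine isCyclic_of_surjective φ ?_
    intro v
    obtain ⟨y, rfl⟩ := QuotientGroup.mk_surjective v
    obtain ⟨z, rfl⟩ := hπ y
    exact ⟨(z : R ⧸ N), rfl⟩
  have d1 : Nat.card N' ∣ p := card_dvd_of_cyclic (fun x => Subtype.ext (hV x))
  have d2 : Nat.card (V ⧸ N') ∣ p := card_dvd_of_cyclic (fun x => by
    obtain ⟨y, rfl⟩ := QuotientGroup.mk_surjective x
    rw [← QuotientGroup.mk_pow, hV y]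
    rfl)
  have e : Nat.card N' * Nat.card (V ⧸ N') = Nat.card V := N'.card_mul_index
  have e2 : (frattini R).index = Nat.card V := rfl
  rw [e2, ← e, pow_two]
  exact Nat.mul_dvd_mul d1 d2

/-- Action on a quotient: a `q`-automorphism fixing each coset. -/
theorem quot_fix {R : Type*} [Group R] [Finite R] (Φ : Subgroup R) [Φ.Normal] (ψ : MulAut R)
    (hΦ : ∀ x ∈ Φ, ψ x ∈ Φ) {q a : ℕ} [Fact q.Prime] (hψ : ψ ^ (q ^ a) = 1)
    (hF : ∀ F : Subgroup (R ⧸ Φ), Nat.card (R ⧸ Φ) ≡ Nat.card F [MOD q] → F = ⊤) :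
    ∀ x, x⁻¹ * ψ x ∈ Φ := by
  classical
  let V := R ⧸ Φ
  let fh : V →* V := QuotientGroup.map Φ Φ ψ.toMonoidHom (fun x hx => hΦ x hx)
  let f : Function.End V := fun v => fh v
  have hfpow : ∀ n : ℕ, ∀ x : R, (f ^ n) (x : V) = (((ψ ^ n) x : R) : V) := by
    intro n
    induction n with
    | zero => intro x; rfl
    | succ n ih =>
      intro x
      rw [pow_succ']
      show fh ((f ^ n) (x : V)) = _
      rw [ih, pow_succ', MulAut.mul_apply]
      rfl
  have hf1 : f ^ q ^ a = 1 := by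
    funext v
    obtain ⟨y, rfl⟩ := QuotientGroup.mk_surjective v
    rw [hfpow, hψ]
    rfl
  let _ : Fintype V := Fintype.ofFinite _
  have hmod := Equiv.Perm.card_fixedPoints_modEq hf1
  let F : Subgroup V := MonoidHom.eqLocus fh (MonoidHom.id V)
  have hcard : Nat.card (Function.fixedPoints f) = Nat.card F :=
    Nat.card_congr ⟨fun x => ⟨x.1, x.2⟩, fun x => ⟨x.1, x.2⟩, fun _ => rfl, fun _ => rfl⟩
  rw [← Nat.card_eq_fintype_card, ← Nat.card_eq_fintype_card, hcard] at hmod
  have htop := hF F hmod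
  intro x
  have hx : (x : V) ∈ F := by rw [htop]; trivial
  have hx' : ((ψ x : R) : V) = (x : V) := hx
  exact QuotientGroup.eq.mp hx'.symm

/-- Arithmetic. -/
theorem eq_top_of_modEq {V : Type*} [Group V] [Finite V] {p q : ℕ} [hp : Fact p.Prime]
    [hq : Fact q.Prime] (hqp : q ≠ p) (hq2 : ¬ q ∣ p ^ 2 - 1) (hV : Nat.card V ∣ p ^ 2)
    (F : Subgroup V) (hF : Nat.card V ≡ Nat.card F [MOD q]) : F = ⊤ := by
  have hFV : Nat.card F ∣ Nat.card V := F.card_subgroup_dvd_card
  obtain ⟨d, hd, hd2⟩ := (Nat.dvd_prime_pow hp.out).mp hV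
  obtain ⟨i, hi, hi2⟩ := (Nat.dvd_prime_pow hp.out).mp (hFV.trans hV)
  have hle : i ≤ d := by
    rw [hd2, hi2] at hFV
    exact (Nat.pow_dvd_pow_iff_le_right hp.out.one_lt).mp hFV
  have hp1 : 1 ≤ p := hp.out.one_lt.le
  have hs : p ^ 2 - 1 = (p + 1) * (p - 1) := by
    have := Nat.sq_sub_sq p 1
    simpa using this
  have hcop : Nat.Coprime q p := (Nat.coprime_primes hq.out hp.out).mpr hqp
  have hieq : i = d := by
    rw [hd2, hi2] at hF
    by_contra hne
    have hlt : i < d := lt_of_le_of_ne hle hne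
    apply hq2
    have hmod1 : p ^ i * p ^ (d - i) ≡ p ^ i * 1 [MOD q] := by
      rw [mul_one, ← pow_add, Nat.add_sub_cancel' hle]
      exact hF
    have hmod2 : p ^ (d - i) ≡ 1 [MOD q] :=
      Nat.ModEq.cancel_left_of_coprime (by
        rw [Nat.gcd_comm]
        exact (Nat.Coprime.pow_left i hcop.symm)) hmod1
    have hdvd : q ∣ p ^ (d - i) - 1 := (Nat.modEq_iff_dvd' (Nat.one_le_pow _ _ hp.out.pos)).mp hmod2.symm
    have hcases : d - i = 1 ∨ d - i = 2 := by omega
    rcases hcases with h | h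
    · rw [h, pow_one] at hdvd
      rw [hs]
      exact hdvd.mul_left _
    · rw [h] at hdvd
      exact hdvd
  apply Subgroup.eq_top_of_card_eq
  rw [hi2, hd2, hieq]

/-- Centralizing by `q`-elements with `q ∤ p² - 1`. -/
theorem centralizes_of_large {G : Type*} [Group G] [Finite G] {p q c : ℕ} [hp : Fact p.Prime]
    [hq : Fact q.Prime] (hqp : q ≠ p) (hq2 : ¬ q ∣ p ^ 2 - 1) {Q : Subgroup G} (hQ : IsPGroup p Q)
    (hm : Cfsg.IsMetacyclic Q) {x : G} (hx : x ∈ Subgroup.normalizer (Q : Set G))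
    (hxo : x ^ q ^ c = 1) : x ∈ Subgroup.centralizer (Q : Set G) := by
  have hcop : Nat.Coprime q p := (Nat.coprime_primes hq.out hp.out).mpr hqp
  have hA : Subgroup.zpowers x ≤ Subgroup.normalizer (Q : Set G) :=
    (Subgroup.zpowers_le).mpr hx
  have hc : (Nat.card (Subgroup.zpowers x)).Coprime p := by
    rw [Nat.card_zpowers]
    have : orderOf x ∣ q ^ c := orderOf_dvd_of_pow_eq_one hxo
    exact Nat.Coprime.coprime_dvd_left this (Nat.Coprime.pow_left c hcop)
  have h := Cfsg.Agent.Lib.Coprime.FrattiniAct.le_centralizer_of_frattini hQ hA hc ?_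
  · exact h (Subgroup.mem_zpowers x)
  · intro t ht a ha
    obtain ⟨k, rfl⟩ := ha
    have hna : x ^ k ∈ Subgroup.normalizer (Q : Set G) := hA ⟨k, rfl⟩
    have hψ : (conjAut Q (x ^ k) hna) ^ q ^ c = 1 := by
      apply orderOf_dvd_iff_pow_eq_one.mp
      refine (orderOf_conjAut_dvd Q _ hna).trans (orderOf_dvd_of_pow_eq_one ?_)
      rw [← zpow_natCast, zpow_comm, zpow_natCast, hxo, one_zpow]
    have hfix := quot_fix (frattini ↥Q) (conjAut Q (x ^ k) hna)
      (fun y hy => (Subgroup.characteristic_iff_map_le.mp inferInstance) (conjAut Q (x ^ k) hna)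
        ⟨y, hy, rfl⟩) hψ
      (fun F hF => eq_top_of_modEq hqp hq2 (index_frattini_dvd hQ hm) F hF) ⟨t, ht⟩
    refine ⟨_, hfix, ?_⟩
    simp [conjAut_apply_coe]

/-- Let p be a prime and G a finite group whose Sylow p-subgroups are metacyclic (a cyclic normal subgroup with cyclic quotient). Then G has a normal p-complement if and only if the order of G/O_{p′,p}(G) is coprime to p² − 1. -/
theorem result {G : Type*} [Group G] [Finite G] (p : ℕ) [Fact p.Prime] (S : Sylow p G) (hS : Cfsg.IsMetacyclic ↥(S : Subgroup G)) : Cfsg.HasNormalPComplement p G ↔ Nat.Coprime (Nat.card (G ⧸ Cfsg.pPrimePCore p G)) (p ^ 2 - 1) := by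
  classical
  have hp : p.Prime := Fact.out
  constructor
  · intro h
    obtain ⟨N, hN, h1, h2⟩ := Cfsg.Agent.Lib.Transfer.Basic.hasNormalPComplement_iff.mp h
    have hNO : N ≤ Cfsg.pPrimeCore p G := Cfsg.Agent.Lib.Basic.PCore.le_pPrimeCore hN h1
    have hO : IsPGroup p (G ⧸ Cfsg.pPrimeCore p G) := by
      intro v
      obtain ⟨y, rfl⟩ := QuotientGroup.mk_surjective v
      obtain ⟨k, hk⟩ := h2 (y : G ⧸ N)
      refine ⟨k, ?_⟩
      rw [← QuotientGroup.mk_pow] at hk ⊢
      rw [QuotientGroup.eq_one_iff] at hk ⊢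
      exact hNO hk
    have hK : Cfsg.pPrimePCore p G = ⊤ := by
      rw [eq_top_iff]
      intro x _
      show _ ∈ Cfsg.pCore p (G ⧸ Cfsg.pPrimeCore p G)
      refine Cfsg.Agent.Lib.Basic.PCore.le_pCore (inferInstance : (⊤ : Subgroup _).Normal)
        (hO.to_subgroup _) (Subgroup.mem_top _)
    rw [hK]
    have : Nat.card (G ⧸ (⊤ : Subgroup G)) = 1 := Subgroup.index_top
    rw [this]
    exact Nat.coprime_one_left _
  · intro hco
    refine hasNormalPComplement_of_hyp (frobeniusHyp_of_sylow S ?_)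
    intro Q hQS g hg hc
    have hQ : IsPGroup p Q := S.isPGroup'.to_le hQS
    have hm : Cfsg.IsMetacyclic Q :=
      metacyclic_of_injective (Subgroup.inclusion hQS) (Subgroup.inclusion_injective hQS) hS
    haveI hKn : (Cfsg.pPrimePCore p G).Normal := by
      unfold Cfsg.pPrimePCore
      haveI := Cfsg.Agent.Lib.Basic.PCore.pCore_normal p (G ⧸ Cfsg.pPrimeCore p G)
      infer_instance
    -- the key claim
    have key : ∀ (q c : ℕ) (x : G), q.Prime → q ≠ p → x ∈ Subgroup.normalizer (Q : Set G) →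
        x ^ q ^ c = 1 → x ∈ Subgroup.centralizer (Q : Set G) := by
      intro q c x hq hqp hxn hxo
      haveI : Fact q.Prime := ⟨hq⟩
      by_cases hq2 : q ∣ p ^ 2 - 1
      · -- `x` lies in `K`
        have hxq : orderOf x ∣ q ^ c := orderOf_dvd_of_pow_eq_one hxo
        have hqK : Nat.Coprime q (Nat.card (G ⧸ Cfsg.pPrimePCore p G)) :=
          (Nat.Coprime.coprime_dvd_left hq2 hco.symm)
        have hxK : x ∈ Cfsg.pPrimePCore p G := by
          rw [← QuotientGroup.eq_one_iff]
          have h1 : orderOf (x : G ⧸ Cfsg.pPrimePCore p G) ∣ q ^ c :=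
            orderOf_dvd_of_pow_eq_one (by rw [← QuotientGroup.mk_pow, hxo]; rfl)
          have h2 : orderOf (x : G ⧸ Cfsg.pPrimePCore p G) ∣ Nat.card (G ⧸ Cfsg.pPrimePCore p G) :=
            orderOf_dvd_natCard _
          have h3 := Nat.Coprime.eq_one_of_dvd ((Nat.Coprime.pow_left c hqK).coprime_dvd_left h1) h2
          exact orderOf_eq_one_iff.mp h3
        have hxO : x ∈ Cfsg.pPrimeCore p G := by
          rw [← QuotientGroup.eq_one_iff]
          have hmem : (x : G ⧸ Cfsg.pPrimeCore p G) ∈ Cfsg.pCore p (G ⧸ Cfsg.pPrimeCore p G) := hxK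
          obtain ⟨k, hk⟩ := (IsPGroup.iff_orderOf.mp
            (Cfsg.Agent.Lib.Basic.PCore.pCore_isPGroup (G := G ⧸ Cfsg.pPrimeCore p G) p))
            ⟨_, hmem⟩
          rw [Subgroup.orderOf_mk] at hk
          have h1 : orderOf (x : G ⧸ Cfsg.pPrimeCore p G) ∣ q ^ c :=
            orderOf_dvd_of_pow_eq_one (by rw [← QuotientGroup.mk_pow, hxo]; rfl)
          have hcop : Nat.Coprime (p ^ k) (q ^ c) :=
            Nat.Coprime.pow _ _ ((Nat.coprime_primes hp hq).mpr hqp.symm)
          rw [hk] at h1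
          have h3 := Nat.Coprime.eq_one_of_dvd hcop h1
          rw [← hk] at h3
          exact orderOf_eq_one_iff.mp h3
        rw [Subgroup.mem_centralizer_iff]
        intro t ht
        have h1 : x * t * x⁻¹ ∈ Q := (Subgroup.mem_normalizer_iff.mp hxn t).mp ht
        have h2 : t⁻¹ * (x * t * x⁻¹) ∈ Q := Q.mul_mem (Q.inv_mem ht) h1
        have h3 : t⁻¹ * (x * t * x⁻¹) ∈ Cfsg.pPrimeCore p G := by
          have h4 : t⁻¹ * x * t ∈ Cfsg.pPrimeCore p G := by
            have := (Cfsg.Agent.Lib.Basic.PCore.pPrimeCore_normal p G).conj_mem x hxO t⁻¹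
            simpa using this
          have h5 : t⁻¹ * (x * t * x⁻¹) = (t⁻¹ * x * t) * x⁻¹ := by group
          rw [h5]
          exact Subgroup.mul_mem _ h4 (Subgroup.inv_mem _ hxO)
        have h6 : t⁻¹ * (x * t * x⁻¹) = 1 := by
          obtain ⟨k, hk⟩ := (IsPGroup.iff_orderOf.mp hQ) ⟨_, h2⟩
          rw [Subgroup.orderOf_mk] at hk
          have h7 : orderOf (⟨_, h3⟩ : Cfsg.pPrimeCore p G) ∣ Nat.card (Cfsg.pPrimeCore p G) :=
            orderOf_dvd_natCard _
          rw [Subgroup.orderOf_mk, hk] at h7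
          have h8 := Cfsg.Agent.Lib.Solvable.PSeries.pPrimeCore_coprime (G := G) p
          have h9 := Nat.Coprime.eq_one_of_dvd (Nat.Coprime.pow_left k h8.symm) h7
          rw [← hk] at h9
          exact orderOf_eq_one_iff.mp h9
        have h10 : x * t * x⁻¹ = t := by
          rw [inv_mul_eq_one] at h6
          exact h6.symm
        calc t * x = (x * t * x⁻¹) * x := by rw [h10]
          _ = x * t := by group
      · exact centralizes_of_large hqp hq2 hQ hm hxn hxo
    -- reduction to prime power order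
    by_contra hgc
    have hm1 : orderOf (conjAut Q g hg) ≠ 1 := by
      intro h1
      rw [orderOf_eq_one_iff] at h1
      apply hgc
      rw [Subgroup.mem_centralizer_iff]
      intro q hq
      have h2 := congrArg (fun φ : MulAut Q => ((φ ⟨q, hq⟩ : Q) : G)) h1
      simp only [conjAut_apply_coe, MulAut.one_apply] at h2
      calc q * g = (g * q * g⁻¹) * g := by rw [h2]
        _ = g * q := by group
    obtain ⟨q, hq, hqm⟩ := Nat.exists_prime_and_dvd hm1
    have hqo : q ∣ orderOf g := hqm.trans (orderOf_conjAut_dvd Q g hg)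
    have ho : orderOf g ≠ 0 := (orderOf_pos g).ne'
    obtain ⟨c, b, hb, hcb⟩ := Nat.exists_eq_pow_mul_and_not_dvd ho q hq.ne_one
    have hqp : q ≠ p := by
      rintro rfl
      have := Nat.Coprime.eq_one_of_dvd hc.symm hqo
      exact hq.ne_one this
    have hgb : g ^ b ∈ Subgroup.normalizer (Q : Set G) := Subgroup.pow_mem _ hg b
    have hxo : (g ^ b) ^ q ^ c = 1 := by
      rw [← pow_mul, mul_comm, ← hcb, pow_orderOf_eq_one]
    have hcen := key q c (g ^ b) hq hqp hgb hxo
    have hpow : (conjAut Q g hg) ^ b = 1 := by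
      ext t
      have h1 : ∀ n : ℕ, ∀ t : Q, (((conjAut Q g hg) ^ n) t : G) = g ^ n * t * (g ^ n)⁻¹ := by
        intro n
        induction n with
        | zero => intro t; simp
        | succ n ih =>
          intro t
          rw [pow_succ, MulAut.mul_apply, ih, conjAut_apply_coe]
          group
      rw [h1, MulAut.one_apply]
      have := (Subgroup.mem_centralizer_iff.mp hcen) t t.2
      rw [← this]
      group
    have hdvd := orderOf_dvd_of_pow_eq_one hpow
    exact hb (hqm.trans hdvd)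

end Cfsg.Agent.S4419
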