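import Cfsg.Statements.S3971
import Cfsg.Agent.Lib.Transfer.PrimePowerHyp
import Cfsg.Agent.Lib.Transfer.Basic
import Cfsg.Agent.Lib.Basic.SylowUtil
import Cfsg.Agent.S4419

set_option autoImplicit false
open Cfsg

namespace Cfsg.Agent.S3971

open Cfsg.Agent.Lib.Transfer.PrimePowerHyp

/-- Let `G` be a finite group of order `2 ^ a * n` with `n` odd and not divisible by `3`, and suppose `G` has an element of order `2 ^ (a - 1)` (so a Sylow `2`-subgroup has a cyclic subgroup of index at most `2`). Then `G` has a normal subgroup of order `n`. -/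
theorem result {G : Type*} [Group G] [Finite G] (a n : ℕ) (hG : Nat.card G = 2 ^ a * n) (hn : Odd n) (h3 : ¬ 3 ∣ n) (hx : ∃ x : G, orderOf x = 2 ^ (a - 1)) : ∃ N : Subgroup G, N.Normal ∧ Nat.card N = n := by
  classical
  haveI : Fact (Nat.Prime 2) := ⟨Nat.prime_two⟩
  obtain ⟨x, hx⟩ := hx
  obtain ⟨T, hxT⟩ := Cfsg.Agent.Lib.Basic.SylowUtil.exists_sylow_of_orderOf (p := 2) hx
  have hn2 : Nat.Coprime (2 ^ a) n := Nat.Coprime.pow_left a (Nat.coprime_two_left.mpr hn)
  obtain ⟨k, hk⟩ := IsPGroup.iff_card.mp T.isPGroup'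
  have hind := (T : Subgroup G).card_mul_index
  have hiodd : ¬ 2 ∣ (T : Subgroup G).index := T.not_dvd_index
  have hka : k = a := by
    rw [hk, hG] at hind
    apply le_antisymm
    · have h1 : 2 ^ k ∣ 2 ^ a * n := ⟨_, hind.symm⟩
      have h2 : Nat.Coprime (2 ^ k) n := Nat.Coprime.pow_left k (Nat.coprime_two_left.mpr hn)
      exact (Nat.pow_dvd_pow_iff_le_right (by norm_num : 1 < 2)).mp
        (h2.dvd_of_dvd_mul_right h1)
    · have h1 : 2 ^ a ∣ 2 ^ k * (T : Subgroup G).index := ⟨n, hind⟩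
      have h2 : Nat.Coprime (2 ^ a) (T : Subgroup G).index :=
        Nat.Coprime.pow_left a ((Nat.Prime.coprime_iff_not_dvd Nat.prime_two).mpr hiodd)
      exact (Nat.pow_dvd_pow_iff_le_right (by norm_num : 1 < 2)).mp
        (h2.dvd_of_dvd_mul_right h1)
  subst hka
  -- trivial case
  rcases Nat.eq_zero_or_pos k with rfl | hkpos
  · exact ⟨⊤, inferInstance, by rw [Subgroup.card_top, hG]; simp⟩
  -- `T` is metacyclic
  have hxT' : Subgroup.zpowers x ≤ (T : Subgroup G) := by
    rw [Subgroup.zpowers_le]; exact hxT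
  have hK2 : ((Subgroup.zpowers x).subgroupOf (T : Subgroup G)).index = 2 := by
    have h1 := ((Subgroup.zpowers x).subgroupOf (T : Subgroup G)).card_mul_index
    have h2 : Nat.card ((Subgroup.zpowers x).subgroupOf (T : Subgroup G)) = 2 ^ (k - 1) := by
      rw [Nat.card_congr (Subgroup.subgroupOfEquivOfLe hxT').toEquiv, Nat.card_zpowers, hx]
    rw [h2, hk] at h1
    have h3 : 2 ^ k = 2 ^ (k - 1) * 2 := by
      rw [← pow_succ]
      congr 1
      omega
    rw [h3] at h1
    exact Nat.eq_of_mul_eq_mul_left (by positivity) h1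
  have hmeta : Cfsg.IsMetacyclic (T : Subgroup G) := by
    refine ⟨(Subgroup.zpowers x).subgroupOf (T : Subgroup G), Subgroup.normal_of_index_eq_two hK2,
      ?_, ?_⟩
    · exact isCyclic_of_injective (Subgroup.subgroupOfEquivOfLe hxT').toMonoidHom
        (Subgroup.subgroupOfEquivOfLe hxT').injective
    · haveI := Subgroup.normal_of_index_eq_two hK2
      exact isCyclic_of_prime_card (p := 2) hK2
  have hcomp : Cfsg.HasNormalPComplement 2 G := by
    refine hasNormalPComplement_of_prime_power T ?_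
    intro Q hQ q c y hq hq2 hyN hyo
    by_cases hqG : q ∣ Nat.card G
    · haveI : Fact q.Prime := ⟨hq⟩
      have hqn : q ∣ n := by
        rw [hG] at hqG
        rcases (Nat.Prime.dvd_mul hq).mp hqG with h | h
        · exact absurd ((Nat.prime_dvd_prime_iff_eq hq Nat.prime_two).mp (hq.dvd_of_dvd_pow h)) hq2
        · exact h
      have hq3 : ¬ q ∣ 2 ^ 2 - 1 := by
        intro h
        have h33 : q ∣ 3 := by simpa using h
        have := (Nat.prime_dvd_prime_iff_eq hq Nat.prime_three).mp h33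
        exact h3 (this ▸ hqn)
      exact Cfsg.Agent.S4419.centralizes_of_large hq2 hq3 (T.isPGroup'.to_le hQ)
        (Cfsg.Agent.S4419.metacyclic_of_injective (Subgroup.inclusion hQ)
          (Subgroup.inclusion_injective hQ) hmeta) hyN hyo
    · have h1 : orderOf y ∣ q ^ c := orderOf_dvd_of_pow_eq_one hyo
      have h2 : orderOf y ∣ Nat.card G := orderOf_dvd_natCard y
      have hcop : Nat.Coprime (q ^ c) (Nat.card G) :=
        Nat.Coprime.pow_left c ((Nat.Prime.coprime_iff_not_dvd hq).mpr hqG)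
      have h3 := Nat.Coprime.eq_one_of_dvd (hcop.coprime_dvd_left h1) h2
      rw [orderOf_eq_one_iff.mp h3]
      exact Subgroup.one_mem _
  obtain ⟨N, hN, hNT⟩ := Cfsg.Agent.Lib.Transfer.Basic.exists_complement_of_hasNormalPComplement
    hcomp T
  refine ⟨N, hN, ?_⟩
  have h1 := hNT.card_mul_card
  rw [hk, hG, mul_comm] at h1
  exact Nat.eq_of_mul_eq_mul_left (by positivity) h1

end Cfsg.Agent.S3971
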