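import Cfsg.Statements.S3982
import Mathlib
import Cfsg.Agent.S0699
import Cfsg.Agent.S4088
import Cfsg.Agent.Lib.Perm.SylowConj

set_option autoImplicit false
open Cfsg

namespace Cfsg.Agent.S3982

open Subgroup Cfsg.Agent.Lib.Perm.SylowConj

variable {G : Type*} [Group G] [Finite G]

lemma invert_of_fpf {Q : Subgroup G} {t : G} (ht2 : t * t = 1) (htN : t ∈ normalizer (Q : Set G))
    (hfix : ∀ y ∈ Q, t * y * t⁻¹ = y → y = 1) : ∀ y ∈ Q, t * y * t⁻¹ = y⁻¹ := by
  have hti : t⁻¹ = t := by rw [inv_eq_iff_mul_eq_one]; exact ht2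
  have hconj : ∀ a ∈ Q, t * a * t⁻¹ ∈ Q := fun a ha => (mem_normalizer_iff.mp htN a).mp ha
  let f : Q → Q := fun a => ⟨(a : G)⁻¹ * (t * a * t⁻¹), Q.mul_mem (Q.inv_mem a.2) (hconj a a.2)⟩
  have hinj : Function.Injective f := by
    intro a b hab
    have h1 : (a : G)⁻¹ * (t * a * t⁻¹) = (b : G)⁻¹ * (t * b * t⁻¹) := congrArg Subtype.val hab
    have h2 : t * ((b : G) * (a : G)⁻¹) * t⁻¹ = (b : G) * (a : G)⁻¹ := by
      have e1 : t * ((b : G) * (a : G)⁻¹) * t⁻¹ = (t * b * t⁻¹) * (t * a * t⁻¹)⁻¹ := by group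
      rw [e1]
      rw [mul_inv_eq_iff_eq_mul]
      have h3 : t * (b : G) * t⁻¹ = (b : G) * ((a : G)⁻¹ * (t * a * t⁻¹)) := by
        rw [h1]; group
      rw [h3]
      group
    have h3 := hfix _ (Q.mul_mem b.2 (Q.inv_mem a.2)) h2
    have h4 : (b : G) = a := mul_inv_eq_one.mp h3
    exact (Subtype.ext h4).symm
  have hsurj : Function.Surjective f := Finite.injective_iff_surjective.mp hinj
  intro y hy
  obtain ⟨a, ha⟩ := hsurj ⟨y, hy⟩
  have ha' : (a : G)⁻¹ * (t * a * t⁻¹) = y := congrArg Subtype.val ha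
  rw [← ha']
  have e : t * ((a : G)⁻¹ * (t * a * t⁻¹)) * t⁻¹ = (t * a * t⁻¹)⁻¹ * ((t * t) * a * (t⁻¹ * t⁻¹)) := by group
  rw [e, ht2]
  have : t⁻¹ * t⁻¹ = 1 := by rw [hti]; exact ht2
  rw [this]
  group

lemma frattini_step {p : ℕ} [Fact p.Prime] (C : Subgroup G) (R : Sylow p C) {t : G}
    (ht : t ∈ normalizer (C : Set G)) :
    ∃ c ∈ C, c * t ∈ normalizer (((R : Subgroup C).map C.subtype : Subgroup G) : Set G) := by
  let σ : MulAut C := C.normalizerMonoidHom ⟨t, ht⟩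
  have hσ : ∀ x : C, ((σ x : C) : G) = t * x * t⁻¹ := fun x => rfl
  obtain ⟨c, hc⟩ := MulAction.exists_smul_eq C (σ • R) R
  refine ⟨c, c.2, ?_⟩
  apply Cfsg.Agent.S0699.mem_normalizer_of_forall
  rintro _ ⟨x, hx, rfl⟩
  have h1 : σ x ∈ ((σ • R : Sylow p C) : Subgroup C) := by
    rw [Sylow.pointwise_smul_def]
    exact Subgroup.smul_mem_pointwise_smul x σ _ hx
  have h2 : c * (σ x) * c⁻¹ ∈ ((c • (σ • R) : Sylow p C) : Subgroup C) := by
    rw [mem_smul_iff]
    simpa [mul_assoc] using h1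
  rw [hc] at h2
  refine ⟨_, h2, ?_⟩
  show (c : G) * ((σ x : C) : G) * (c : G)⁻¹ = _
  rw [hσ]
  show _ = (c : G) * t * x * ((c : G) * t)⁻¹
  group

lemma p_coprime_of_comm {p : ℕ} [Fact p.Prime]
    (hC : ∀ g : G, g ≠ 1 → (∃ k : ℕ, orderOf g = p ^ k) →
      Odd (Nat.card ↥(Subgroup.centralizer ({g} : Set G)))) {t y : G}
    (ht : t * t = 1) (ht1 : t ≠ 1) (hy : ∃ k : ℕ, orderOf y = p ^ k) (hy1 : y ≠ 1) : t * y ≠ y * t := by
  intro h
  have h1 := hC y hy1 hy
  have hm : t ∈ Subgroup.centralizer ({y} : Set G) := Subgroup.mem_centralizer_singleton_iff.mpr h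
  have h2 : orderOf t = 2 := by
    apply orderOf_eq_prime _ ht1
    rw [pow_two]; exact ht
  have h3 : 2 ∣ Nat.card ↥(Subgroup.centralizer ({y} : Set G)) := by
    rw [← h2]; exact Subgroup.orderOf_dvd_natCard _ hm
  exact (Nat.not_even_iff_odd.mpr h1) (even_iff_two_dvd.mpr h3)

theorem step {p : ℕ} [Fact p.Prime] (hp2 : p ≠ 2)
    (hC : ∀ g : G, g ≠ 1 → (∃ k : ℕ, orderOf g = p ^ k) →
      Odd (Nat.card ↥(Subgroup.centralizer ({g} : Set G))))
    (Q : Subgroup G) (hQ : IsPGroup p ↥Q) (hQ1 : Q ≠ ⊥)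
    (hev : Even (Nat.card ↥(Subgroup.normalizer (Q : Set G))))
    (S : Subgroup G) (hS : IsPGroup p ↥S) (hlt : Q < S) :
    ∃ Q' : Subgroup G, IsPGroup p ↥Q' ∧ Q < Q' ∧ Even (Nat.card ↥(Subgroup.normalizer (Q' : Set G))) := by
  classical
  have hpp : p.Prime := Fact.out
  set N := Subgroup.normalizer (Q : Set G) with hN
  -- order of p-elements
  have hpel' : ∀ (X : Subgroup G), IsPGroup p X → ∀ y ∈ X, ∃ k : ℕ, orderOf y = p ^ k := by
    intro X hX y hy
    obtain ⟨k, hk⟩ := hX ⟨y, hy⟩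
    have : orderOf (⟨y, hy⟩ : X) ∣ p ^ k := orderOf_dvd_of_pow_eq_one hk
    obtain ⟨j, -, hj⟩ := (Nat.dvd_prime_pow hpp).mp this
    exact ⟨j, by rw [← Subgroup.orderOf_mk y hy]; exact hj⟩
  have hpel := hpel' Q hQ
  have hpow2 : ∀ y : G, (∃ k : ℕ, orderOf y = p ^ k) → y ^ 2 = 1 → y = 1 := by
    rintro y ⟨k, hk⟩ h2
    have h3 : orderOf y ∣ 2 := orderOf_dvd_of_pow_eq_one h2
    have hcop : Nat.Coprime (orderOf y) 2 := by
      rw [hk]
      apply Nat.Coprime.pow_left
      exact (Nat.coprime_primes hpp Nat.prime_two).mpr hp2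
    exact orderOf_eq_one_iff.mp (Nat.Coprime.eq_one_of_dvd hcop h3)
  -- an involution in N
  obtain ⟨t0, ht0⟩ := exists_prime_orderOf_dvd_card' (G := N) 2 (even_iff_two_dvd.mp hev)
  set t : G := (t0 : G) with htdef
  have htN : t ∈ N := t0.2
  have hto : orderOf t = 2 := by rw [htdef, Subgroup.orderOf_coe]; exact ht0
  have ht2 : t * t = 1 := by rw [← pow_two, ← hto]; exact pow_orderOf_eq_one t
  have ht1 : t ≠ 1 := by
    intro h; rw [h, orderOf_one] at hto; omega
  -- every involution in N inverts Q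
  have hinv : ∀ s ∈ N, s * s = 1 → s ≠ 1 → ∀ y ∈ Q, s * y * s⁻¹ = y⁻¹ := by
    intro s hs hs2 hs1
    apply invert_of_fpf hs2 hs
    intro y hy hfix
    by_contra hy1
    apply p_coprime_of_comm hC hs2 hs1 (hpel y hy) hy1
    calc s * y = s * y * s⁻¹ * s := by group
      _ = y * s := by rw [hfix]
  -- C
  set C := Subgroup.centralizer (Q : Set G) with hCdef
  obtain ⟨y0, hy0Q, hy01⟩ := (Subgroup.bot_or_exists_ne_one Q).resolve_left hQ1
  have hCodd : Odd (Nat.card C) := by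
    have hle : C ≤ Subgroup.centralizer ({y0} : Set G) := by
      apply Subgroup.centralizer_le
      simpa using hy0Q
    exact Odd.of_dvd_nat (hC y0 hy01 (hpel y0 hy0Q)) (Subgroup.card_dvd_of_le hle)
  have memC : ∀ x : G, x ∈ C ↔ ∀ q ∈ Q, x * q * x⁻¹ = q := by
    intro x
    rw [hCdef, Subgroup.mem_centralizer_iff]
    constructor
    · intro h q hq
      have := h q hq
      calc x * q * x⁻¹ = (q * x) * x⁻¹ := by rw [this]
        _ = q := by group
    · intro h q hq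
      have := h q hq
      calc q * x = (x * q * x⁻¹) * x := by rw [this]
        _ = x * q := by group
  have hCN : C ≤ N := by
    intro x hx
    apply Cfsg.Agent.S0699.mem_normalizer_of_forall
    intro q hq
    rw [(memC x).mp hx q hq]
    exact hq
  -- inversion is not trivial
  have hinv_ne : ∀ x : G, (∀ q ∈ Q, x * q * x⁻¹ = q⁻¹) → x ∉ C := by
    intro x hx hxC
    have h1 := (memC x).mp hxC y0 hy0Q
    rw [hx y0 hy0Q] at h1
    have h2 : y0 ^ 2 = 1 := by
      rw [pow_two]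
      calc y0 * y0 = y0 * y0⁻¹ := by rw [h1]
        _ = 1 := by group
    exact hy01 (hpow2 y0 (hpel y0 hy0Q) h2)
  -- Fact D
  have hD : ∀ y ∈ N, (∃ k : ℕ, orderOf y = p ^ k) → y ∈ C := by
    rintro y hyN ⟨k, hk⟩
    set s := y * t * y⁻¹ with hs
    have hsN : s ∈ N := N.mul_mem (N.mul_mem hyN htN) (N.inv_mem hyN)
    have hs2 : s * s = 1 := by
      calc s * s = y * (t * t) * y⁻¹ := by rw [hs]; group
        _ = 1 := by rw [ht2]; group
    have hs1 : s ≠ 1 := by
      intro h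
      apply ht1
      have : t = y⁻¹ * s * y := by rw [hs]; group
      rw [this, h]; group
    have hts : t * s ∈ C := by
      rw [memC]; intro q hq
      have h1 := hinv s hsN hs2 hs1 q hq
      have h2 := hinv t htN ht2 ht1 q⁻¹ (Q.inv_mem hq)
      calc t * s * q * (t * s)⁻¹ = t * (s * q * s⁻¹) * t⁻¹ := by group
        _ = q := by rw [h1, h2]; group
    have hodd : Odd (orderOf (t * s)) := Odd.of_dvd_nat hCodd (Subgroup.orderOf_dvd_natCard _ hts)
    obtain ⟨w, hw, hw'⟩ := Cfsg.Agent.S0699.conj_of_odd t s (by rw [pow_two]; exact ht2)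
      (by rw [pow_two]; exact hs2) hodd
    have hwC : w ∈ C := (Subgroup.zpowers_le.mpr hts) hw
    set u := w * y with hu
    have hut : u * t = t * u := by
      have e : t = w * (y * t * y⁻¹) * w⁻¹ := by rw [← hs, ← hw']; group
      calc u * t = (w * (y * t * y⁻¹) * w⁻¹) * (w * y) := by rw [hu]; group
        _ = t * u := by rw [← e]
    have hup : Nat.Coprime p (orderOf u) := by
      rw [hpp.coprime_iff_not_dvd]
      intro hdvd
      set z := u ^ (orderOf u / p) with hz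
      have hzo : orderOf z = p := orderOf_pow_orderOf_div (orderOf_pos u).ne' hdvd
      have hz1 : z ≠ 1 := by
        intro h; rw [h, orderOf_one] at hzo; exact hpp.one_lt.ne hzo
      apply p_coprime_of_comm hC ht2 ht1 ⟨1, by rw [hzo, pow_one]⟩ hz1
      have : Commute u t := hut
      exact ((this.pow_left _).eq).symm
    let φ := Q.normalizerMonoidHom
    have huN : u ∈ N := N.mul_mem (hCN hwC) hyN
    have hφ : φ ⟨y, hyN⟩ = φ ⟨u, huN⟩ := by
      ext q
      show y * (q : G) * y⁻¹ = u * (q : G) * u⁻¹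
      have hyq : y * (q : G) * y⁻¹ ∈ Q := (mem_normalizer_iff.mp hyN q).mp q.2
      calc y * (q : G) * y⁻¹ = w * (y * (q : G) * y⁻¹) * w⁻¹ := ((memC w).mp hwC _ hyq).symm
        _ = u * (q : G) * u⁻¹ := by rw [hu]; group
    have h1 : (φ ⟨y, hyN⟩) ^ (p ^ k) = 1 := by
      rw [← map_pow]
      have : (⟨y, hyN⟩ : N) ^ (p ^ k) = 1 := by
        ext; show y ^ (p ^ k) = 1; rw [← hk]; exact pow_orderOf_eq_one y
      rw [this, map_one]
    have h2 : (φ ⟨y, hyN⟩) ^ (orderOf u) = 1 := by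
      rw [hφ, ← map_pow]
      have : (⟨u, huN⟩ : N) ^ (orderOf u) = 1 := by
        ext; show u ^ (orderOf u) = 1; exact pow_orderOf_eq_one u
      rw [this, map_one]
    have h3 : φ ⟨y, hyN⟩ = 1 := by
      have hc : Nat.Coprime (p ^ k) (orderOf u) := Nat.Coprime.pow_left k hup
      have d1 := orderOf_dvd_of_pow_eq_one h1
      have d2 := orderOf_dvd_of_pow_eq_one h2
      exact orderOf_eq_one_iff.mp (Nat.Coprime.eq_one_of_dvd (hc.coprime_dvd_left d1 ) d2)
    rw [memC]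
    intro q hq
    have := congrArg (fun f : MulAut Q => ((f ⟨q, hq⟩ : Q) : G)) h3
    exact this
  -- R
  have hSN_C : S ⊓ N ≤ C := by
    intro x hx
    exact hD x hx.2 (hpel' S hS x hx.1)
  have hSC : IsPGroup p ↥((S ⊓ N).subgroupOf C) := (hS.to_le inf_le_left).comap_subtype
  obtain ⟨R, hR⟩ := hSC.exists_le_sylow
  have hRp : IsPGroup p ↥((R : Subgroup C).map C.subtype) := R.isPGroup'.map C.subtype
  have hSNR : S ⊓ N ≤ (R : Subgroup C).map C.subtype := by
    intro x hx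
    exact ⟨⟨x, hSN_C hx⟩, hR (mem_subgroupOf.mpr hx), rfl⟩
  have hlt' : Q < (R : Subgroup C).map C.subtype :=
    lt_of_lt_of_le (Cfsg.Agent.S4088.lt_inf_normalizer hS hlt) hSNR
  refine ⟨_, hRp, hlt', ?_⟩
  -- t normalizes C
  have htC : t ∈ normalizer (C : Set G) := by
    apply Cfsg.Agent.S0699.mem_normalizer_of_forall
    intro h hh
    rw [memC]
    intro q hq
    have h1 : t⁻¹ * q * t ∈ Q := by
      have := (mem_normalizer_iff.mp (N.inv_mem htN) q).mp hq
      simpa using this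
    calc t * h * t⁻¹ * q * (t * h * t⁻¹)⁻¹ = t * (h * (t⁻¹ * q * t) * h⁻¹) * t⁻¹ := by group
      _ = q := by rw [(memC h).mp hh _ h1]; group
  obtain ⟨c, hc, hv⟩ := frattini_step C R htC
  set v := c * t with hvdef
  have hv_inv : ∀ q ∈ Q, v * q * v⁻¹ = q⁻¹ := by
    intro q hq
    have h1 := hinv t htN ht2 ht1 q hq
    calc v * q * v⁻¹ = c * (t * q * t⁻¹) * c⁻¹ := by rw [hvdef]; group
      _ = q⁻¹ := by rw [h1]; exact (memC c).mp hc _ (Q.inv_mem hq)
  rw [even_iff_two_dvd]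
  by_contra hnot
  have hoddc : Odd (Nat.card ↥(normalizer (((R : Subgroup C).map C.subtype : Subgroup G) : Set G))) :=
    Nat.odd_iff.mpr (by omega)
  obtain ⟨i, hi⟩ := Odd.of_dvd_nat hoddc (Subgroup.orderOf_dvd_natCard _ hv)
  have hvv : v ^ 2 ∈ C := by
    rw [memC]; intro q hq
    calc v ^ 2 * q * (v ^ 2)⁻¹ = v * (v * q * v⁻¹) * v⁻¹ := by
          rw [pow_two, mul_inv_rev]; group
      _ = q := by rw [hv_inv q hq, hv_inv q⁻¹ (Q.inv_mem hq)]; group
  have hvo : (v ^ 2) ^ i * v = 1 := by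
    have := pow_orderOf_eq_one v
    rw [hi, pow_succ, pow_mul] at this
    exact this
  have hvC : v ∈ C := by
    have : v = ((v ^ 2) ^ i)⁻¹ := eq_inv_of_mul_eq_one_right hvo
    rw [this]
    exact C.inv_mem (C.pow_mem hvv i)
  exact hinv_ne v hv_inv hvC

/-- Let p be an odd prime and G a finite group of even order divisible by p in which the centralizer of every non-identity p-element has odd order. If some nontrivial p-subgroup of G has a normalizer of even order, then the normalizer of every Sylow p-subgroup of G has even order. -/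
theorem result {G : Type*} [Group G] [Finite G] (p : ℕ) [Fact p.Prime] (hp2 : p ≠ 2) (hpG : p ∣ Nat.card G) (h2G : 2 ∣ Nat.card G) (hC : ∀ g : G, g ≠ 1 → (∃ k : ℕ, orderOf g = p ^ k) → Odd (Nat.card ↥(Subgroup.centralizer ({g} : Set G)))) (Q : Subgroup G) (hQ : IsPGroup p ↥Q) (hQ1 : Q ≠ ⊥) (hev : Even (Nat.card ↥(Subgroup.normalizer (Q : Set G)))) (P : Sylow p G) : Even (Nat.card ↥(Subgroup.normalizer ((P : Subgroup G) : Set G))) := by
  classical
  have hmem : Q ∈ {X : Subgroup G | IsPGroup p ↥X ∧ X ≠ ⊥ ∧ Even (Nat.card ↥(Subgroup.normalizer (X : Set G)))} :=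
    ⟨hQ, hQ1, hev⟩
  obtain ⟨X, ⟨hXp, hX1, hXev⟩, hmax⟩ := Set.exists_max_image
    {X : Subgroup G | IsPGroup p ↥X ∧ X ≠ ⊥ ∧ Even (Nat.card ↥(Subgroup.normalizer (X : Set G)))}
    (fun X => Nat.card ↥X) (Set.toFinite _) ⟨Q, hmem⟩
  obtain ⟨T, hT⟩ := hXp.exists_le_sylow
  have hXT : X = T := by
    by_contra hne
    have hlt : X < T := lt_of_le_of_ne hT hne
    obtain ⟨Q', hQ'p, hQ'lt, hQ'ev⟩ := step hp2 hC X hXp hX1 hXev T T.isPGroup' hlt
    have h1 := hmax Q' ⟨hQ'p, ne_bot_of_gt hQ'lt, hQ'ev⟩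
    exact hQ'lt.ne (Subgroup.eq_of_le_of_card_ge hQ'lt.le h1)
  have hidx : (normalizer ((P : Subgroup G) : Set G)).index = (normalizer ((T : Subgroup G) : Set G)).index := by
    have e1 := Sylow.card_eq_index_normalizer P
    have e2 := Sylow.card_eq_index_normalizer T
    exact e1.symm.trans e2
  have hc : Nat.card ↥(normalizer ((P : Subgroup G) : Set G)) = Nat.card ↥(normalizer ((T : Subgroup G) : Set G)) := by
    have h1 := Subgroup.card_mul_index (normalizer ((P : Subgroup G) : Set G))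
    have h2 := Subgroup.card_mul_index (normalizer ((T : Subgroup G) : Set G))
    rw [hidx] at h1
    have hpos : 0 < (normalizer ((T : Subgroup G) : Set G)).index := Nat.pos_of_ne_zero Subgroup.index_ne_zero_of_finite
    exact Nat.eq_of_mul_eq_mul_right hpos (h1.trans h2.symm)
  rw [hc, ← hXT]
  exact hXev

end Cfsg.Agent.S3982
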