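import Cfsg.Statements.S3987
import Mathlib
import Cfsg.Agent.S3986
import Cfsg.Agent.S4088

set_option autoImplicit false
open Cfsg

namespace Cfsg.Agent.S3987

open Subgroup

variable {G : Type*} [Group G] [Finite G]

lemma index_inf_eq {A B : Subgroup G} (h : ∀ g : G, ∃ a ∈ A, ∃ b ∈ B, a * b = g) :
    (A ⊓ B).index = A.index * B.index := by
  classical
  have h1 : Nat.card (A × B) = Nat.card G * Nat.card (A ⊓ B : Subgroup G) := by
    apply Cfsg.Agent.S4088.card_eq_mul_of_fibers (fun z : A × B => (z.1 : G) * (z.2 : G))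
    intro g
    obtain ⟨a0, ha0, b0, hb0, rfl⟩ := h g
    symm
    apply Nat.card_congr
    refine Equiv.ofBijective (fun c => ⟨(⟨a0 * c.1, A.mul_mem ha0 c.2.1⟩,
      ⟨(c.1 : G)⁻¹ * b0, B.mul_mem (B.inv_mem c.2.2) hb0⟩), ?_⟩) ⟨?_, ?_⟩
    · show a0 * c.1 * ((c.1 : G)⁻¹ * b0) = a0 * b0
      group
    · intro c d hcd
      have := congrArg (fun z => ((z.1.1 : A) : G)) hcd
      simp only [mul_right_inj] at this
      exact Subtype.ext this
    · rintro ⟨⟨⟨a, ha⟩, ⟨b, hb⟩⟩, hz⟩
      have hz' : a * b = a0 * b0 := hz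
      refine ⟨⟨a0⁻¹ * a, A.mul_mem (A.inv_mem ha0) ha, ?_⟩, ?_⟩
      · have : a0⁻¹ * a = b0 * b⁻¹ := by
          rw [inv_mul_eq_iff_eq_mul, ← mul_assoc, eq_mul_inv_iff_mul_eq, hz']
        rw [this]
        exact B.mul_mem hb0 (B.inv_mem hb)
      · apply Subtype.ext
        apply Prod.ext
        · apply Subtype.ext
          show a0 * (a0⁻¹ * a) = a
          group
        · apply Subtype.ext
          show (a0⁻¹ * a)⁻¹ * b0 = b
          have : b0 = a0⁻¹ * a * b := by rw [mul_assoc, hz']; group
          rw [this]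
          group
  rw [Nat.card_prod] at h1
  have e1 := Subgroup.index_mul_card A
  have e2 := Subgroup.index_mul_card B
  have e3 := Subgroup.index_mul_card (A ⊓ B)
  have hGpos : 0 < Nat.card G := Nat.card_pos
  have hInf : 0 < Nat.card (A ⊓ B : Subgroup G) := Nat.card_pos
  have hApos : 0 < Nat.card A := Nat.card_pos
  have hBpos : 0 < Nat.card B := Nat.card_pos
  have : (A ⊓ B).index * (Nat.card A * Nat.card B) = A.index * B.index * (Nat.card A * Nat.card B) := by
    calc (A ⊓ B).index * (Nat.card A * Nat.card B)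
        = (A ⊓ B).index * (Nat.card G * Nat.card (A ⊓ B : Subgroup G)) := by rw [h1]
      _ = ((A ⊓ B).index * Nat.card (A ⊓ B : Subgroup G)) * Nat.card G := by ring
      _ = Nat.card G * Nat.card G := by rw [e3]
      _ = (A.index * Nat.card A) * (B.index * Nat.card B) := by rw [e1, e2]
      _ = _ := by ring
  exact Nat.eq_of_mul_eq_mul_right (Nat.mul_pos hApos hBpos) this

lemma exists_pow_eq {x y : G} (hxy : Commute x y) (hc : (orderOf x).Coprime (orderOf y)) :
    ∃ s : ℕ, (x * y) ^ s = x := by
  obtain ⟨s, hs1, hs2⟩ := Nat.chineseRemainder hc 1 0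
  refine ⟨s, ?_⟩
  rw [hxy.mul_pow]
  have h1 : x ^ s = x ^ 1 := pow_eq_pow_iff_modEq.mpr hs1
  have h2 : y ^ s = y ^ 0 := pow_eq_pow_iff_modEq.mpr hs2
  rw [h1, h2]
  simp

lemma centralizer_mul_eq {x y : G} (hxy : Commute x y) (hc : (orderOf x).Coprime (orderOf y)) :
    centralizer ({x * y} : Set G) = centralizer ({x} : Set G) ⊓ centralizer ({y} : Set G) := by
  apply le_antisymm
  · intro g hg
    rw [mem_centralizer_singleton_iff] at hg
    obtain ⟨s, hs⟩ := exists_pow_eq hxy hc
    obtain ⟨t, ht⟩ := exists_pow_eq hxy.symm hc.symm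
    rw [hxy.symm.eq] at ht
    have hcomm : Commute g (x * y) := hg
    refine Subgroup.mem_inf.mpr ⟨?_, ?_⟩
    · rw [mem_centralizer_singleton_iff]
      have := hcomm.pow_right s
      rw [hs] at this
      exact this.eq
    · rw [mem_centralizer_singleton_iff]
      have := hcomm.pow_right t
      rw [ht] at this
      exact this.eq
  · intro g hg
    obtain ⟨h1, h2⟩ := Subgroup.mem_inf.mp hg
    rw [mem_centralizer_singleton_iff] at h1 h2
    rw [mem_centralizer_singleton_iff]
    rw [← mul_assoc, h1, mul_assoc, h2, mul_assoc]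

/-- Let p be a prime and G a finite group. Then some Sylow p-subgroup of G is a direct factor of G (normal with a normal complement) if and only if for every element x of p-power order and every element y whose order is a power of a prime other than p, the conjugacy class of x y has as many elements as the product of the sizes of the classes of x and of y. -/
theorem result {G : Type*} [Group G] [Finite G] (p : ℕ) [Fact p.Prime] : (∃ (P : Sylow p G) (K : Subgroup G), (P : Subgroup G).Normal ∧ K.Normal ∧ (P : Subgroup G) ⊓ K = ⊥ ∧ (P : Subgroup G) ⊔ K = ⊤) ↔ ∀ x y : G, (∃ a : ℕ, orderOf x = p ^ a) → (∃ q b : ℕ, q.Prime ∧ q ≠ p ∧ orderOf y = q ^ b) → (Subgroup.centralizer ({x * y} : Set G)).index = (Subgroup.centralizer ({x} : Set G)).index * (Subgroup.centralizer ({y} : Set G)).index := by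
  constructor
  · rintro ⟨P, K, hPn, hKn, hinf, hsup⟩ x y hx hy
    have hxP := Cfsg.Agent.S3986.mem_sylow_of_normal P hPn hx
    have hyK := Cfsg.Agent.S3986.mem_comp_of_direct (p := p) (P : Subgroup G) K P.isPGroup' hPn hKn hinf hsup hy
    have hcomm : Commute x y :=
      Subgroup.commute_of_normal_of_disjoint _ _ hPn hKn (disjoint_iff.mpr hinf) x y hxP hyK
    have hc : (orderOf x).Coprime (orderOf y) := by
      obtain ⟨a, ha⟩ := hx
      obtain ⟨q, b, hq, hqp, hb⟩ := hy
      rw [ha, hb]
      exact Nat.Coprime.pow a b ((Nat.coprime_primes Fact.out hq).mpr hqp.symm)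
    rw [centralizer_mul_eq hcomm hc]
    apply index_inf_eq
    intro g
    have hsup' : K ⊔ (P : Subgroup G) = ⊤ := by rw [sup_comm]; exact hsup
    have hg : g ∈ K ⊔ (P : Subgroup G) := by rw [hsup']; exact Subgroup.mem_top g
    obtain ⟨k, hk, w, hw, rfl⟩ := Subgroup.mem_sup_of_normal_right.mp hg
    refine ⟨k, ?_, w, ?_, rfl⟩
    · rw [Subgroup.mem_centralizer_singleton_iff]
      exact (Subgroup.commute_of_normal_of_disjoint _ _ hPn hKn (disjoint_iff.mpr hinf) x k hxP hk).symm.eq
    · rw [Subgroup.mem_centralizer_singleton_iff]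
      exact (Subgroup.commute_of_normal_of_disjoint _ _ hPn hKn (disjoint_iff.mpr hinf) w y hw hyK).eq
  · intro h
    apply (Cfsg.Agent.S3986.direct_iff p).mpr
    intro x y hx hy
    have hidx := h x y hx hy
    have hle : Subgroup.centralizer ({x} : Set G) ⊓ Subgroup.centralizer ({y} : Set G) ≤
        Subgroup.centralizer ({x * y} : Set G) := by
      intro g hg
      obtain ⟨h1, h2⟩ := Subgroup.mem_inf.mp hg
      rw [Subgroup.mem_centralizer_singleton_iff] at h1 h2
      rw [Subgroup.mem_centralizer_singleton_iff]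
      rw [← mul_assoc, h1, mul_assoc, h2, mul_assoc]
    have h1 := Subgroup.index_inf_le (H := Subgroup.centralizer ({x} : Set G)) (K := Subgroup.centralizer ({y} : Set G))
    rw [← hidx] at h1
    have e1 := Subgroup.index_mul_card (Subgroup.centralizer ({x} : Set G) ⊓ Subgroup.centralizer ({y} : Set G))
    have e2 := Subgroup.index_mul_card (Subgroup.centralizer ({x * y} : Set G))
    have hcard : Nat.card (Subgroup.centralizer ({x * y} : Set G)) ≤
        Nat.card (Subgroup.centralizer ({x} : Set G) ⊓ Subgroup.centralizer ({y} : Set G) : Subgroup G) := by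
      by_contra hlt
      push Not at hlt
      have hpos : 0 < (Subgroup.centralizer ({x * y} : Set G)).index := by
        apply Nat.pos_of_ne_zero
        exact Subgroup.index_ne_zero_of_finite
      have := Nat.mul_lt_mul_of_le_of_lt h1 hlt hpos
      rw [e1, e2] at this
      exact lt_irrefl _ this
    have heq := Subgroup.eq_of_le_of_card_ge hle hcard
    have hmem : x * y ∈ Subgroup.centralizer ({x * y} : Set G) := by
      rw [Subgroup.mem_centralizer_singleton_iff]
    rw [← heq] at hmem
    have := (Subgroup.mem_inf.mp hmem).1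
    rw [Subgroup.mem_centralizer_singleton_iff] at this
    have h3 : x * (x * y) = x * (y * x) := by
      rw [← this]
      simp [mul_assoc]
    exact (mul_left_cancel h3)

end Cfsg.Agent.S3987
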