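import Cfsg.Statements.S3996
import Cfsg.Agent.S0205
import Cfsg.Agent.Lib.SameOrder.Three

set_option autoImplicit false
open Cfsg

namespace Cfsg.Agent.S3996

/-- A finite group in which the numbers of elements of each order that occurs (the numbers #{g : o(g) = m}, m ranging over the element orders) take exactly three different values is solvable. -/
theorem result {G : Type*} [Group G] [Finite G] (h : (((fun m : ℕ => Nat.card {g : G // orderOf g = m}) '' Set.range (orderOf : G → ℕ))).ncard = 3) : Group.IsSolvable G := by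
  by_cases hodd : Odd (Nat.card G)
  · exact Cfsg.Agent.S0205.result hodd
  have h2 : 2 ∣ Nat.card G := by
    rcases Nat.even_or_odd (Nat.card G) with h' | h'
    · exact h'.two_dvd
    · exact absurd h' hodd
  by_cases hc : Cfsg.Agent.S3995.c G 2 = 1 ∧ ¬ 4 ∣ Nat.card G
  · exact Cfsg.Agent.Lib.SameOrder.solvable_of_unique_inv
      (fun K _ _ hK => Cfsg.Agent.S0205.result hK) hc.1 h2 hc.2
  · exact Cfsg.Agent.Lib.SameOrder.solvable_of_no_two_odd (fun p q hp hq hp3 hq3 hpq hpd hqd =>
      Cfsg.Agent.Lib.SameOrder.no_two_odd_primes h h2 hc hp hq hp3 hq3 hpq hpd hqd)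

end Cfsg.Agent.S3996
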