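import Cfsg.Statements.S4006
import Cfsg.Agent.S3913
import Cfsg.Agent.S2566
import Cfsg.Agent.Lib.Char.Burnside2

set_option autoImplicit false
open Cfsg

namespace Cfsg.Agent.S4006

open scoped commutatorElement
open Pointwise Cfsg.Agent.Lib.Coprime.SZ Cfsg.Agent.Lib.Solvable.MinimalNormal
open Cfsg.Agent.Lib.PGroup.CyclicMax Cfsg.Agent.Lib.PGroup.CyclicMax2

universe u

section Neumann

variable {Q : Type*} [Group Q]

/-- Commutator. -/
def com (a b : Q) : Q := a * b * a⁻¹ * b⁻¹

theorem com_eq_one_iff (a b : Q) : com a b = 1 ↔ a * b = b * a := by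
  unfold com
  constructor
  · intro h
    have : a * b * a⁻¹ * b⁻¹ * (b * a) = b * a := by rw [h, one_mul]
    calc a * b = a * b * a⁻¹ * b⁻¹ * (b * a) := by group
      _ = b * a := this
  · intro h
    rw [h]; group

theorem map_com' {R : Type*} [Group R] (f : Q →* R) (a b : Q) :
    f (com a b) = com (f a) (f b) := by
  simp only [com, map_mul, map_inv]

theorem hall_witt (x y z : Q) :
    com (com x y) (y * z * y⁻¹) * com (com y z) (z * x * z⁻¹) * com (com z x) (x * y * x⁻¹) = 1 := by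
  simp only [com]
  group

section ClassThree

variable (hc : ∀ a b c d : Q, com (com (com a b) c) d = 1)
include hc

theorem c3_central (a b c d : Q) : com (com a b) c * d = d * com (com a b) c :=
  (com_eq_one_iff _ _).1 (hc a b c d)

theorem c3_hom (a b d e : Q) :
    com (com a b) (d * e) = com (com a b) d * com (com a b) e := by
  set u := com a b with hu
  have h := c3_central hc a b e d⁻¹
  rw [← hu] at h
  calc com u (d * e) = u * d * u⁻¹ * (com u e * d⁻¹) := by simp only [com]; group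
    _ = u * d * u⁻¹ * (d⁻¹ * com u e) := by rw [h]
    _ = com u d * com u e := by simp only [com]; group

theorem c3_one (a b : Q) : com (com a b) 1 = 1 := by
  simp [com]

theorem c3_inv (a b d : Q) : com (com a b) d⁻¹ = (com (com a b) d)⁻¹ := by
  have h := c3_hom hc a b d d⁻¹
  rw [mul_inv_cancel, c3_one hc] at h
  exact eq_inv_of_mul_eq_one_right h.symm

theorem c3_com (a b c d : Q) : com (com a b) (com c d) = 1 := by
  set u := com a b with hu
  have h1 : com u (com c d) = com u c * com u d * (com u c)⁻¹ * (com u d)⁻¹ := by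
    have : com c d = c * d * c⁻¹ * d⁻¹ := rfl
    rw [this, hu, c3_hom hc, c3_hom hc, c3_hom hc, c3_inv hc, c3_inv hc]
  have h2 : com u c * com u d = com u d * com u c := c3_central hc a b c _
  rw [h1, h2]
  group

theorem c3_conj (a b y z : Q) : com (com a b) (y * z * y⁻¹) = com (com a b) z := by
  have h : y * z * y⁻¹ = com y z * z := by simp only [com]; group
  rw [h, c3_hom hc, c3_com hc, one_mul]

theorem c3_jacobi (x y z : Q) :
    com (com x y) z * com (com y z) x * com (com z x) y = 1 := by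
  have h := hall_witt x y z
  rwa [c3_conj hc, c3_conj hc, c3_conj hc] at h

end ClassThree

section Split

variable (σ : Q →* Q) (h1 : ∀ a, a * σ a * σ (σ a) = 1)

include h1

theorem split_two (x : Q) : σ (σ x) = (x * σ x)⁻¹ :=
  eq_inv_of_mul_eq_one_right (h1 x)

theorem split_three (x : Q) : σ (σ (σ x)) = x := by
  have h2 := congrArg σ (h1 x)
  rw [map_one, map_mul, map_mul] at h2
  have h3 : σ x * σ (σ x) = x⁻¹ := by
    have := h1 x
    rw [mul_assoc] at this
    exact eq_inv_of_mul_eq_one_right this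
  rw [h3] at h2
  have := inv_mul_eq_one.1 h2
  exact this.symm

theorem split_D (x y : Q) : x * y * σ x * σ y = y * σ y * (x * σ x) := by
  have h2 := h1 (x * y)
  simp only [map_mul] at h2
  rw [split_two σ h1 x, split_two σ h1 y] at h2
  have h3 : x * y * (σ x * σ y) * ((x * σ x)⁻¹ * (y * σ y)⁻¹) = 1 := h2
  have h4 : x * y * (σ x * σ y) = ((x * σ x)⁻¹ * (y * σ y)⁻¹)⁻¹ := eq_inv_of_mul_eq_one_left h3
  rw [mul_inv_rev, inv_inv, inv_inv] at h4
  rw [← h4]
  group

theorem split_comm (x : Q) : x * σ x = σ x * x := by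
  have h2 := split_D σ h1 x x
  have h3 : x * (x * σ x) * σ x = x * (σ x * x) * σ x := by
    calc x * (x * σ x) * σ x = x * x * σ x * σ x := by group
      _ = x * σ x * (x * σ x) := h2
      _ = _ := by group
  exact mul_left_cancel (mul_right_cancel h3)

theorem split_F (y x : Q) : com y⁻¹ x = com (σ y) (σ (σ x))⁻¹ := by
  rw [split_two σ h1 x, inv_inv]
  have h2 := split_D σ h1 x y
  set u := x * σ x with hu
  have h3 : y * (y⁻¹ * x * y * x⁻¹) * u * σ y = y * (σ y * u) := by
    calc y * (y⁻¹ * x * y * x⁻¹) * u * σ y = x * y * σ x * σ y := by rw [hu]; group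
      _ = y * σ y * u := h2
      _ = _ := by group
  have h4 : (y⁻¹ * x * y * x⁻¹) * u * σ y = σ y * u := by
    apply mul_left_cancel (a := y)
    calc y * ((y⁻¹ * x * y * x⁻¹) * u * σ y) = y * (y⁻¹ * x * y * x⁻¹) * u * σ y := by group
      _ = _ := h3
  have h5 : y⁻¹ * x * y * x⁻¹ = σ y * u * (σ y)⁻¹ * u⁻¹ := by
    rw [← h4]; group
  simp only [com, inv_inv]
  exact h5

theorem split_F' (p q : Q) : com p q = com (σ p)⁻¹ (σ (σ q))⁻¹ := by
  have := split_F σ h1 p⁻¹ q
  rw [inv_inv, map_inv] at this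
  exact this

theorem split_G (p q : Q) : com p q = com (σ (σ p)) (σ q) := by
  have h2 := split_F' σ h1 p q
  have h3 := split_F' σ h1 (σ p)⁻¹ (σ (σ q))⁻¹
  rw [h2, h3]
  simp only [map_inv, inv_inv, split_three σ h1]

theorem split_I1a (p q : Q) : com (σ p) q = com p (σ q) := by
  rw [split_G σ h1 (σ p) q, split_three σ h1]

omit h1 in
theorem map_com (a b : Q) : σ (com a b) = com (σ a) (σ b) := by
  simp only [com, map_mul, map_inv]

theorem split_I1b (p q : Q) : com p (σ q) = σ (σ (com p q)) := by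
  rw [map_com, map_com, split_I1a σ h1 (σ p) (σ (σ q)), split_three σ h1, split_I1a σ h1 p q]

theorem split_I1c (p q : Q) : com (σ (σ p)) q = σ (com p q) := by
  rw [split_I1a σ h1 (σ p) q, map_com]

/-- The key step: class at most three and no 3-torsion gives class at most two. -/
theorem split_class_step (h4 : ∀ a : Q, a ^ 4 = 1)
    (hc : ∀ a b c d : Q, com (com (com a b) c) d = 1) (x y z : Q) : com (com x y) z = 1 := by
  have hABC := c3_jacobi hc x y z
  have hJ := c3_jacobi hc x y (σ z)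
  rw [split_I1b σ h1 (com x y) z, split_I1b σ h1 y z, split_I1c σ h1 (com y z) x,
    split_I1a σ h1 z x, split_I1b σ h1 z x, split_I1c σ h1 (com z x) y] at hJ
  have hJ2 := congrArg (fun w => σ (σ w)) hJ
  simp only [map_mul, map_one, split_three σ h1] at hJ2
  set A := com (com x y) z with hA
  set B := com (com y z) x with hB
  set C := com (com z x) y with hC
  have h5 : σ A = A := by
    have h6 : σ A * (B * C) = A * (B * C) := by
      rw [← mul_assoc, ← mul_assoc, hABC]
      exact hJ2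
    exact mul_right_cancel h6
  have h7 := h1 A
  rw [h5, h5] at h7
  have h8 : A ^ 3 = 1 := by rw [pow_succ, pow_succ, pow_one]; exact h7
  have h9 := h4 A
  calc A = A ^ 4 * (A ^ 3)⁻¹ := by group
    _ = 1 := by rw [h8, h9]; simp

end Split

theorem lcs_mem (n : ℕ) : ∀ (a : Q), a ∈ Subgroup.lowerCentralSeries (⊤ : Subgroup Q) n →
    ∀ b, com a b ∈ Subgroup.lowerCentralSeries (⊤ : Subgroup Q) (n + 1) := by
  intro a ha b
  exact Subgroup.commutator_mem_commutator ha (Subgroup.mem_top b)

/-- Class at most two for a finite group of exponent dividing four with a splitting endomorphism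
of order three. -/
theorem class_le_two [Finite Q] (σ : Q →* Q) (h1 : ∀ a, a * σ a * σ (σ a) = 1)
    (h4 : ∀ a : Q, a ^ 4 = 1) :
    Subgroup.lowerCentralSeries (⊤ : Subgroup Q) 2 = ⊥ := by
  set C : ℕ → Subgroup Q := Subgroup.lowerCentralSeries (⊤ : Subgroup Q) with hC
  haveI hnC : ∀ n, (C n).Normal := fun n => inferInstance
  have hσle : C 3 ≤ (C 3).comap σ := by
    rw [← Subgroup.map_le_iff_le_comap, hC, Subgroup.map_lowerCentralSeries]
    exact Subgroup.lowerCentralSeries_mono 3 le_top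
  let R := Q ⧸ C 3
  let p : Q →* R := QuotientGroup.mk' (C 3)
  have hp : Function.Surjective p := QuotientGroup.mk'_surjective _
  let σ' : R →* R := QuotientGroup.map (C 3) (C 3) σ hσle
  have hσ' : ∀ a, σ' (p a) = p (σ a) := fun a => rfl
  have hpker : ∀ a, p a = 1 ↔ a ∈ C 3 := fun a => QuotientGroup.eq_one_iff a
  have hpcom : ∀ a b, p (com a b) = com (p a) (p b) := fun a b => map_com' p a b
  have h1' : ∀ a : R, a * σ' a * σ' (σ' a) = 1 := by
    intro a
    obtain ⟨a, rfl⟩ := hp a
    rw [hσ', hσ', ← map_mul, ← map_mul, h1, map_one]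
  have h4' : ∀ a : R, a ^ 4 = 1 := by
    intro a
    obtain ⟨a, rfl⟩ := hp a
    rw [← map_pow, h4, map_one]
  have hc' : ∀ a b c d : R, com (com (com a b) c) d = 1 := by
    intro a b c d
    obtain ⟨a, rfl⟩ := hp a
    obtain ⟨b, rfl⟩ := hp b
    obtain ⟨c, rfl⟩ := hp c
    obtain ⟨d, rfl⟩ := hp d
    rw [← hpcom, ← hpcom, ← hpcom, hpker]
    exact lcs_mem 2 _ (lcs_mem 1 _ (lcs_mem 0 a (Subgroup.mem_top a) b) c) d
  have hstep := split_class_step σ' h1' h4' hc'
  have h23 : C 2 ≤ C 3 := by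
    have hK : C 1 ≤ (Subgroup.center R).comap p := by
      refine (Subgroup.commutator_le.2 ?_)
      intro a _ b _
      rw [Subgroup.mem_comap, Subgroup.mem_center_iff]
      intro g
      have : p ⁅a, b⁆ = com (p a) (p b) := hpcom a b
      rw [this]
      exact ((com_eq_one_iff _ _).1 (hstep (p a) (p b) g)).symm
    refine (Subgroup.commutator_le.2 ?_)
    intro a ha b _
    rw [← hpker]
    have h2 := hK ha
    rw [Subgroup.mem_comap, Subgroup.mem_center_iff] at h2
    have : p ⁅a, b⁆ = com (p a) (p b) := hpcom a b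
    rw [this, com_eq_one_iff]
    exact (h2 (p b)).symm
  have hsucc : ∀ n, 2 ≤ n → C 2 ≤ C n := by
    intro n hn
    induction n, hn using Nat.le_induction with
    | base => exact le_rfl
    | succ n hn ih =>
      have hmono : ∀ m, C m ≤ C (m + 1) → C (m + 1) ≤ C (m + 2) := fun m hm =>
        Subgroup.commutator_mono hm le_rfl
      have hall : ∀ m, C (m + 2) ≤ C (m + 3) := by
        intro m
        induction m with
        | zero => exact h23
        | succ m ihm => exact hmono _ ihm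
      obtain ⟨m, rfl⟩ : ∃ m, n = m + 2 := ⟨n - 2, by omega⟩
      exact ih.trans (hall m)
  haveI : Group.IsNilpotent Q := (IsPGroup.isNilpotent (p := 2) (fun a => ⟨2, h4 a⟩))
  obtain ⟨n, hn⟩ := Subgroup.nilpotent_iff_lowerCentralSeries.1 (inferInstance : Group.IsNilpotent Q)
  rw [eq_bot_iff, ← hn]
  rcases le_total 2 n with h | h
  · exact hsucc n h
  · exact Subgroup.lowerCentralSeries_antitone _ h

theorem comm_calc0 {K : Type*} [CommGroup K] (a b c d : K)
    (hb : (b * a) ^ 2 = 1) (hc : (c * a) ^ 2 = 1) (hd : (d * a) ^ 2 = 1) (h : b * c * d = 1)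
    (h4 : a ^ 4 = 1) : a ^ 2 = 1 := by
  have h6 : a ^ 6 = 1 := by
    calc a ^ 6 = (b * c * d) ^ 2 * a ^ 6 := by rw [h]; simp
      _ = (b * a) ^ 2 * (c * a) ^ 2 * (d * a) ^ 2 := by
        simp only [mul_pow]
        rw [show (6 : ℕ) = 2 + 2 + 2 from rfl, pow_add, pow_add,
          mul_mul_mul_comm (b ^ 2) (a ^ 2) (c ^ 2) (a ^ 2),
          mul_mul_mul_comm (b ^ 2 * c ^ 2) (a ^ 2 * a ^ 2) (d ^ 2) (a ^ 2)]
      _ = 1 := by rw [hb, hc, hd]; simp
  calc a ^ 2 = a ^ 6 * (a ^ 4)⁻¹ := by group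
    _ = 1 := by rw [h6, h4]; simp

theorem comm_calc0' {K : Type*} [CommGroup K] (a b c d : K)
    (hb : (b * a) ^ 2 = 1) (hc : (c * a) ^ 2 = 1) (hd : (d * a) ^ 2 = 1) (h : b * c * d = 1)
    (h4 : a ^ 4 = 1) : (b * a) * (d * a) * (c * a) = a := by
  have h2 := comm_calc0 a b c d hb hc hd h h4
  calc (b * a) * (d * a) * (c * a) = (b * c * d) * (a ^ 2 * a) := by
        rw [pow_two]; ac_rfl
    _ = a := by rw [h, h2]; simp

theorem comm_calc {K : Type*} [Group K] (hK : ∀ a b : K, a * b = b * a) (a b c d : K)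
    (hb : (b * a) ^ 2 = 1) (hc : (c * a) ^ 2 = 1) (hd : (d * a) ^ 2 = 1) (h : b * c * d = 1)
    (h4 : a ^ 4 = 1) : a ^ 2 = 1 :=
  @comm_calc0 K { (inferInstance : Group K) with mul_comm := hK } a b c d hb hc hd h h4

theorem comm_calc' {K : Type*} [Group K] (hK : ∀ a b : K, a * b = b * a) (a b c d : K)
    (hb : (b * a) ^ 2 = 1) (hc : (c * a) ^ 2 = 1) (hd : (d * a) ^ 2 = 1) (h : b * c * d = 1)
    (h4 : a ^ 4 = 1) : (b * a) * (d * a) * (c * a) = a :=
  @comm_calc0' K { (inferInstance : Group K) with mul_comm := hK } a b c d hb hc hd h h4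

/-- The symmetric-group step: a `τ` inverting `σ` and the relations coming from involutions
force the group to be elementary abelian. -/
theorem s3_abstract (σ τ : Q →* Q) (h1 : ∀ a, a * σ a * σ (σ a) = 1)
    (hτσ : ∀ f, τ (σ f) = σ (σ (τ f))) (h4 : ∀ a : Q, a ^ 4 = 1)
    (hν1 : ∀ f, (τ f * f) ^ 2 = 1) (hν2 : ∀ f, (σ (σ (τ f)) * f) ^ 2 = 1)
    (hν3 : ∀ f, (σ (τ f) * f) ^ 2 = 1)
    (hcl : ∀ x y z : Q, com (com x y) z = 1) :
    (∀ a b : Q, a * b = b * a) ∧ ∀ a : Q, a ^ 2 = 1 := by
  have hcentral : ∀ a b : Q, com a b ∈ Subgroup.center Q := by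
    intro a b
    rw [Subgroup.mem_center_iff]
    intro g
    exact ((com_eq_one_iff _ _).1 (hcl a b g)).symm
  let p : Q →* Q ⧸ Subgroup.center Q := QuotientGroup.mk' _
  have hp : Function.Surjective p := QuotientGroup.mk'_surjective _
  have hpker : ∀ a, p a = 1 ↔ a ∈ Subgroup.center Q := fun a => QuotientGroup.eq_one_iff a
  have hK : ∀ a b : Q ⧸ Subgroup.center Q, a * b = b * a := by
    intro a b
    obtain ⟨a, rfl⟩ := hp a
    obtain ⟨b, rfl⟩ := hp b
    rw [← com_eq_one_iff, ← map_com', hpker]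
    exact hcentral a b
  have hsq : ∀ f : Q, f ^ 2 ∈ Subgroup.center Q := by
    intro f
    rw [← hpker, map_pow]
    refine comm_calc hK (p f) (p (τ f)) (p (σ (τ f))) (p (σ (σ (τ f)))) ?_ ?_ ?_ ?_ ?_
    · rw [← map_mul, ← map_pow, hν1, map_one]
    · rw [← map_mul, ← map_pow, hν3, map_one]
    · rw [← map_mul, ← map_pow, hν2, map_one]
    · rw [← map_mul, ← map_mul, h1, map_one]
    · rw [← map_pow, h4, map_one]
  -- commutators have order dividing two
  have hcomsq : ∀ a b : Q, com a b * com a b = 1 := by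
    intro a b
    have hc1 := Subgroup.mem_center_iff.1 (hcentral a b)
    have hc2 := Subgroup.mem_center_iff.1 (hsq a)
    have h5 : a * b = com a b * (b * a) := by simp only [com]; group
    have h6 : a ^ 2 * b = com a b * com a b * (b * a ^ 2) := by
      calc a ^ 2 * b = a * (a * b) := by rw [pow_two, mul_assoc]
        _ = a * (com a b * (b * a)) := by rw [← h5]
        _ = (a * com a b) * (b * a) := by group
        _ = (com a b * a) * (b * a) := by rw [hc1 a]
        _ = com a b * ((a * b) * a) := by group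
        _ = com a b * ((com a b * (b * a)) * a) := by rw [← h5]
        _ = com a b * com a b * (b * a ^ 2) := by rw [pow_two]; group
    have h7 := hc2 b
    rw [← h7] at h6
    exact (mul_eq_right.1 h6.symm)
  let ν : Q → Q := fun f => τ f * f
  -- the values of ν commute
  have hνν : ∀ f g, ν f * ν g = ν g * ν f := by
    intro f g
    have hfg : ν (f * g) = com (τ g) f * (ν f * ν g) := by
      have hc1 := Subgroup.mem_center_iff.1 (hcentral (τ g) f)
      have h8 : τ g * f = com (τ g) f * (f * τ g) := by simp only [com]; group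
      calc ν (f * g) = τ f * (τ g * f) * g := by simp only [ν, map_mul]; group
        _ = τ f * (com (τ g) f * (f * τ g)) * g := by rw [← h8]
        _ = (τ f * com (τ g) f) * (f * τ g * g) := by group
        _ = (com (τ g) f * τ f) * (f * τ g * g) := by rw [hc1 (τ f)]
        _ = com (τ g) f * (ν f * ν g) := by simp only [ν]; group
    have h9 : (ν (f * g)) * (ν (f * g)) = 1 := by
      have := hν1 (f * g)
      rwa [pow_two] at this
    have hc1 := Subgroup.mem_center_iff.1 (hcentral (τ g) f)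
    have h10 : (ν f * ν g) * (ν f * ν g) = 1 := by
      rw [hfg] at h9
      have h11 : com (τ g) f * (ν f * ν g) * (com (τ g) f * (ν f * ν g))
          = (com (τ g) f * com (τ g) f) * ((ν f * ν g) * (ν f * ν g)) := by
        calc com (τ g) f * (ν f * ν g) * (com (τ g) f * (ν f * ν g))
            = com (τ g) f * ((ν f * ν g) * com (τ g) f) * (ν f * ν g) := by group
          _ = com (τ g) f * (com (τ g) f * (ν f * ν g)) * (ν f * ν g) := by rw [hc1 (ν f * ν g)]
          _ = _ := by group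
      rw [h11, hcomsq, one_mul] at h9
      exact h9
    have hνf : ν f * ν f = 1 := by
      have := hν1 f
      rwa [pow_two] at this
    have hνg : ν g * ν g = 1 := by
      have := hν1 g
      rwa [pow_two] at this
    have h12 : ν f * ν g = (ν f * ν g)⁻¹ := eq_inv_of_mul_eq_one_left h10
    rw [h12, mul_inv_rev, inv_eq_of_mul_eq_one_left hνg, inv_eq_of_mul_eq_one_left hνf]
  -- propagate under σ
  have hR : ∀ a b, a * b = b * a → σ a * b = b * σ a := by
    intro a b hab
    rw [← com_eq_one_iff] at hab ⊢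
    rw [split_I1a σ h1, split_I1b σ h1, hab, map_one, map_one]
  have hR' : ∀ a b, a * b = b * a → a * σ b = σ b * a := by
    intro a b hab
    rw [← com_eq_one_iff] at hab ⊢
    rw [split_I1b σ h1, hab, map_one, map_one]
  let E : Q → Q := fun f => ν f * σ (ν (σ (σ f))) * σ (σ (ν (σ f)))
  have hE : ∀ f g, E f * E g = E g * E f := by
    intro f g
    have hu : ∀ u v, Commute (ν u) (ν v) := hνν
    have h01 : ∀ u v, Commute (ν u) (σ (ν v)) := fun u v => hR' _ _ (hu u v)
    have h02 : ∀ u v, Commute (ν u) (σ (σ (ν v))) := fun u v => hR' _ _ (h01 u v)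
    have h10 : ∀ u v, Commute (σ (ν u)) (ν v) := fun u v => hR _ _ (hu u v)
    have h11 : ∀ u v, Commute (σ (ν u)) (σ (ν v)) := fun u v => hR _ _ (h01 u v)
    have h12 : ∀ u v, Commute (σ (ν u)) (σ (σ (ν v))) := fun u v => hR _ _ (h02 u v)
    have h20 : ∀ u v, Commute (σ (σ (ν u))) (ν v) := fun u v => hR _ _ (h10 u v)
    have h21 : ∀ u v, Commute (σ (σ (ν u))) (σ (ν v)) := fun u v => hR _ _ (h11 u v)
    have h22 : ∀ u v, Commute (σ (σ (ν u))) (σ (σ (ν v))) := fun u v => hR _ _ (h12 u v)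
    have : Commute (E f) (E g) := by
      refine Commute.mul_left (Commute.mul_left ?_ ?_) ?_ <;>
      refine Commute.mul_right (Commute.mul_right ?_ ?_) ?_
      · exact hu _ _
      · exact h01 _ _
      · exact h02 _ _
      · exact h10 _ _
      · exact h11 _ _
      · exact h12 _ _
      · exact h20 _ _
      · exact h21 _ _
      · exact h22 _ _
    exact this
  have hEval : ∀ f, (E f)⁻¹ * f ∈ Subgroup.center Q := by
    intro f
    rw [← hpker, map_mul, map_inv, inv_mul_eq_one]
    have hE1 : E f = (τ f * f) * (σ (σ (τ f)) * f) * (σ (τ f) * f) := by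
      have e2 : σ (τ (σ (σ f)) * σ (σ f)) = σ (σ (τ f)) * f := by
        rw [map_mul, split_three σ h1, hτσ, hτσ, split_three σ h1]
      have e3 : σ (σ (τ (σ f) * σ f)) = σ (τ f) * f := by
        rw [map_mul, map_mul, split_three σ h1, hτσ, split_three σ h1]
      simp only [E, ν]
      rw [e2, e3]
    rw [hE1, map_mul, map_mul, map_mul, map_mul, map_mul]
    exact (comm_calc' hK (p f) (p (τ f)) (p (σ (τ f))) (p (σ (σ (τ f))))
      (by rw [← map_mul, ← map_pow, hν1, map_one])
      (by rw [← map_mul, ← map_pow, hν3, map_one])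
      (by rw [← map_mul, ← map_pow, hν2, map_one])
      (by rw [← map_mul, ← map_mul, h1, map_one])
      (by rw [← map_pow, h4, map_one]))
  have hab : ∀ a b : Q, a * b = b * a := by
    intro a b
    have ha := Subgroup.mem_center_iff.1 (hEval a)
    have hb := Subgroup.mem_center_iff.1 (hEval b)
    have ha' : a = E a * ((E a)⁻¹ * a) := by group
    have hb' : b = E b * ((E b)⁻¹ * b) := by group
    set za := (E a)⁻¹ * a
    set zb := (E b)⁻¹ * b
    rw [ha', hb']
    calc E a * za * (E b * zb) = E a * (za * E b) * zb := by group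
      _ = E a * (E b * za) * zb := by rw [ha (E b)]
      _ = E a * E b * (za * zb) := by group
      _ = E b * E a * (zb * za) := by rw [hE a b, hb za]
      _ = E b * (E a * zb) * za := by group
      _ = E b * (zb * E a) * za := by rw [hb (E a)]
      _ = _ := by group
  refine ⟨hab, fun a => ?_⟩
  exact comm_calc hab a (τ a) (σ (τ a)) (σ (σ (τ a))) (hν1 a) (hν3 a) (hν2 a) (h1 _) (h4 a)

end Neumann

section Main

variable {G : Type u} [Group G]

/-- The hypothesis on element orders, unpacked. -/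
def OrdH (G : Type u) [Group G] : Prop :=
  ∀ g : G, orderOf g = 1 ∨ orderOf g = 2 ∨ orderOf g = 3 ∨ orderOf g = 4

theorem ord_no6 (hord : OrdH G) {t y : G} (ht : orderOf t = 2) (hy : orderOf y = 3)
    (hc : Commute t y) : False := by
  have h := hc.orderOf_mul_eq_mul_orderOf_of_coprime (by rw [ht, hy]; norm_num)
  rw [ht, hy] at h
  rcases hord (t * y) with h' | h' | h' | h' <;> omega

theorem comm3 (hord : OrdH G) {y x : G} (hy : orderOf y = 3) (hc : Commute x y) (hx : x ^ 4 = 1) :
    x = 1 := by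
  haveI : Fact (Nat.Prime 2) := ⟨by norm_num⟩
  by_contra hne
  by_cases h2 : x ^ 2 = 1
  · exact ord_no6 hord (orderOf_eq_prime h2 hne) hy hc
  · have h3 : (x ^ 2) ^ 2 = 1 := by rw [← pow_mul]; exact hx
    exact ord_no6 hord (orderOf_eq_prime h3 h2) hy (hc.pow_left 2)

theorem pow4 (hord : OrdH G) (g : G) : g ^ 4 = 1 ∨ orderOf g = 3 := by
  rcases hord g with h | h | h | h
  · left; rw [orderOf_eq_one_iff.1 h, one_pow]
  · left
    have := pow_orderOf_eq_one g
    rw [h] at this
    rw [show (4 : ℕ) = 2 * 2 from rfl, pow_mul, this, one_pow]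
  · right; exact h
  · left
    have := pow_orderOf_eq_one g
    rwa [h] at this

theorem conj_order_two {t : G} (ht : orderOf t = 2) (g : G) : orderOf (g * t * g⁻¹) = 2 := by
  haveI : Fact (Nat.Prime 2) := ⟨by norm_num⟩
  refine orderOf_eq_prime ?_ ?_
  · rw [conj_pow, ← ht, pow_orderOf_eq_one]
    group
  · intro h
    have : t = 1 := by
      have h2 : t = g⁻¹ * (g * t * g⁻¹) * g := by group
      rw [h2, h]; group
    rw [this, orderOf_one] at ht
    omega

/-- The third clause: a minimal normal subgroup of order a power of three. -/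
theorem case_three [Finite G] (hord : OrdH G) {t g₄ : G} (ht : orderOf t = 2)
    (hg₄ : orderOf g₄ = 4) (N : Subgroup G) [hN : N.Normal] (hNc : IsMulCommutative N)
    (hN3 : ∀ x ∈ N, x ^ 3 = 1) (hNb : N ≠ ⊥) :
    ∃ (P : Subgroup G) (_ : P.Normal), Cfsg.IsElementaryAbelian 3 P ∧
      ((IsCyclic (G ⧸ P) ∧ P.index = 4) ∨ Nonempty (G ⧸ P ≃* QuaternionGroup 2)) := by
  classical
  haveI : Fact (Nat.Prime 3) := ⟨by norm_num⟩
  haveI : Fact (Nat.Prime 2) := ⟨by norm_num⟩
  obtain ⟨n₀, hn₀⟩ := (Subgroup.ne_bot_iff_exists_ne_one).1 hNb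
  have hn₀G : (n₀ : G) ≠ 1 := fun h => hn₀ (Subtype.ext h)
  have hn₀ord : orderOf (n₀ : G) = 3 := orderOf_eq_prime (hN3 _ n₀.2) hn₀G
  set P : Subgroup G := Subgroup.centralizer (N : Set G) with hPdef
  haveI hPn : P.Normal := inferInstance
  have hP4 : ∀ u ∈ P, u ^ 4 = 1 → u = 1 := by
    intro u hu h
    refine comm3 hord hn₀ord ?_ h
    exact ((Subgroup.mem_centralizer_iff.1 hu) n₀ n₀.2).symm
  have hP3 : ∀ u ∈ P, u ^ 3 = 1 := by
    intro u hu
    rcases pow4 hord u with h | h
    · rw [hP4 u hu h, one_pow]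
    · rw [← h]; exact pow_orderOf_eq_one u
  have hNP : N ≤ P := by
    intro a ha
    rw [hPdef, Subgroup.mem_centralizer_iff]
    intro b hb
    have := hNc.is_comm.comm ⟨b, hb⟩ ⟨a, ha⟩
    exact congrArg Subtype.val this
  have hcenP : ∀ g : G, (∀ u ∈ P, g * u = u * g) → g ∈ P := by
    intro g hg
    rw [hPdef, Subgroup.mem_centralizer_iff]
    intro b hb
    exact (hg b (hNP hb)).symm
  -- every involution inverts `P`
  have hinv : ∀ s : G, orderOf s = 2 → ∀ u ∈ P, s * u * s⁻¹ = u⁻¹ := by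
    intro s hs u hu
    let φ : P →* P := (MulAut.conjNormal s).toMonoidHom
    have hφ : ∀ v : P, (φ v : G) = s * v * s⁻¹ := fun v => MulAut.conjNormal_apply s v
    have hs2 : s * s = 1 := by
      have := pow_orderOf_eq_one s
      rwa [hs, pow_two] at this
    have hsinv : s⁻¹ = s := inv_eq_of_mul_eq_one_left hs2
    have hfix : MonoidHom.FixedPointFree φ := by
      intro v hv
      by_contra hv1
      have hvG : (v : G) ≠ 1 := fun h => hv1 (Subtype.ext h)
      have hv3 : orderOf (v : G) = 3 := orderOf_eq_prime (hP3 _ v.2) hvG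
      have h1 := hφ v
      rw [hv] at h1
      refine ord_no6 hord hs hv3 ?_
      have h2 : (v : G) * s = s * v := by
        calc (v : G) * s = s * v * s⁻¹ * s := by rw [← h1]
          _ = s * v := by group
      exact h2.symm
    have hinvol : Function.Involutive φ := by
      intro v
      apply Subtype.ext
      rw [hφ, hφ, hsinv]
      calc s * (s * (v : G) * s) * s = (s * s) * v * (s * s) := by group
        _ = v := by rw [hs2]; group
    have h3 := congrFun (hfix.coe_eq_inv_of_involutive hinvol) ⟨u, hu⟩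
    have h4 := congrArg Subtype.val h3
    rw [hφ] at h4
    exact h4
  have hPcomm : ∀ a ∈ P, ∀ b ∈ P, a * b = b * a := by
    intro a ha b hb
    have h1 := hinv t ht _ (P.mul_mem ha hb)
    have h2 : t * (a * b) * t⁻¹ = (t * a * t⁻¹) * (t * b * t⁻¹) := by group
    rw [h2, hinv t ht a ha, hinv t ht b hb, mul_inv_rev] at h1
    have h3 : (a⁻¹ * b⁻¹)⁻¹ = (b⁻¹ * a⁻¹)⁻¹ := by rw [h1]
    simpa using h3.symm
  have hinv2 : ∀ s s' : G, orderOf s = 2 → orderOf s' = 2 → s' * s ∈ P := by
    intro s s' hs hs'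
    apply hcenP
    intro u hu
    have h1 : s * u = u⁻¹ * s := by
      have := hinv s hs u hu
      calc s * u = s * u * s⁻¹ * s := by group
        _ = u⁻¹ * s := by rw [this]
    have h2 : s' * u⁻¹ = u * s' := by
      have := hinv s' hs' u⁻¹ (P.inv_mem hu)
      rw [inv_inv] at this
      calc s' * u⁻¹ = s' * u⁻¹ * s'⁻¹ * s' := by group
        _ = u * s' := by rw [this]
    calc s' * s * u = s' * (s * u) := by group
      _ = s' * (u⁻¹ * s) := by rw [h1]
      _ = (s' * u⁻¹) * s := by group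
      _ = (u * s') * s := by rw [h2]
      _ = u * (s' * s) := by group
  have ht2 : t * t = 1 := by
    have := pow_orderOf_eq_one t
    rwa [ht, pow_two] at this
  have htinv : t⁻¹ = t := inv_eq_of_mul_eq_one_left ht2
  -- the factorization
  have hPS : ∀ g : G, ∃ q ∈ P, ∃ s : G, s * t = t * s ∧ g = q * s := by
    intro g
    have ht' := conj_order_two ht g
    set t' := g * t * g⁻¹ with ht'def
    set p := t' * t with hp
    have hpP : p ∈ P := hinv2 t t' ht ht'
    have hpt : t' = p * t := by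
      rw [hp, mul_assoc, ht2, mul_one]
    have hp3 := hP3 p hpP
    set q := p * p with hq
    have hqP : q ∈ P := P.mul_mem hpP hpP
    have hq1 : t * q⁻¹ = q * t := by
      have h1 := hinv t ht q⁻¹ (P.inv_mem hqP)
      rw [inv_inv] at h1
      calc t * q⁻¹ = t * q⁻¹ * t⁻¹ * t := by group
        _ = q * t := by rw [h1]
    have hq2 : q * t * q⁻¹ = t' := by
      calc q * t * q⁻¹ = q * (t * q⁻¹) := by group
        _ = q * (q * t) := by rw [hq1]
        _ = p * p * p * p * t := by rw [hq]; group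
        _ = t' := by
          rw [show p * p * p = p ^ 3 by simp only [pow_succ, pow_zero, one_mul], hp3, one_mul,
            ← hpt]
    refine ⟨q, hqP, q⁻¹ * g, ?_, by group⟩
    have h2 : g * t = t' * g := by rw [ht'def]; group
    calc q⁻¹ * g * t = q⁻¹ * (g * t) := by group
      _ = q⁻¹ * (t' * g) := by rw [h2]
      _ = q⁻¹ * ((q * t * q⁻¹) * g) := by rw [hq2]
      _ = t * (q⁻¹ * g) := by group
  have hS4 : ∀ s : G, s * t = t * s → s ^ 4 = 1 := by
    intro s hs
    rcases pow4 hord s with h | h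
    · exact h
    · exact (ord_no6 hord ht h (show Commute t s from hs.symm)).elim
  set S : Subgroup G := Subgroup.centralizer ({t} : Set G) with hSdef
  have hSmem : ∀ s : G, s ∈ S ↔ s * t = t * s := fun s => Subgroup.mem_centralizer_singleton_iff
  have hPSinf : ∀ s ∈ S, s ∈ P → s = 1 := by
    intro s hs hsP
    exact hP4 s hsP (hS4 s ((hSmem s).1 hs))
  have htS : t ∈ S := (hSmem t).2 rfl
  -- the quotient is `S`
  let f : S →* G ⧸ P := (QuotientGroup.mk' P).comp S.subtype
  have hfinj : Function.Injective f := by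
    rw [injective_iff_map_eq_one]
    intro s hs
    have : (s : G) ∈ P := (QuotientGroup.eq_one_iff (s : G)).1 hs
    exact Subtype.ext (hPSinf s s.2 this)
  have hfsurj : Function.Surjective f := by
    intro a
    obtain ⟨g, rfl⟩ := QuotientGroup.mk'_surjective P a
    obtain ⟨q, hq, s, hs, rfl⟩ := hPS g
    refine ⟨⟨s, (hSmem s).2 hs⟩, ?_⟩
    change ((s : G) : G ⧸ P) = ((q * s : G) : G ⧸ P)
    rw [QuotientGroup.eq]
    have : s⁻¹ * (q * s) = s⁻¹ * q * s := by group
    rw [this]
    have := hPn.conj_mem q hq s⁻¹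
    simpa using this
  let e : S ≃* G ⧸ P := MulEquiv.ofBijective f ⟨hfinj, hfsurj⟩
  have hS2 : IsPGroup 2 S := fun s =>
    ⟨2, Subtype.ext (hS4 s ((hSmem s).1 s.2))⟩
  have hSu : UniqueP 2 S := by
    have hone : ∀ s : S, s ^ 2 = 1 → s ≠ 1 → (s : G) = t := by
      intro s hs hs1
      have hsG : (s : G) ≠ 1 := fun h => hs1 (Subtype.ext h)
      have hs2 : (s : G) ^ 2 = 1 := congrArg Subtype.val hs
      have hord2 : orderOf (s : G) = 2 := orderOf_eq_prime hs2 hsG
      have h1 := hinv2 t s ht hord2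
      have h2 : (s : G) * t = 1 := hPSinf _ (S.mul_mem s.2 htS) h1
      have h3 := eq_inv_of_mul_eq_one_left h2
      rwa [htinv] at h3
    intro y z hy hz hy1 hz1
    have h1 := hone y hy hy1
    have h2 := hone z hz hz1
    have : y = z := Subtype.ext (h1.trans h2.symm)
    rw [this]
    exact Subgroup.mem_zpowers z
  -- an element of order four
  obtain ⟨q₄, hq₄, s₄, hs₄, hg₄e⟩ := hPS g₄
  have hs₄2 : s₄ ^ 2 ≠ 1 := by
    intro h
    have hmem : g₄ ^ 2 ∈ P := by
      have h1 : ((g₄ ^ 2 : G) : G ⧸ P) = 1 := by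
        have h2 : ((g₄ : G) : G ⧸ P) = ((s₄ : G) : G ⧸ P) := by
          rw [QuotientGroup.eq, hg₄e]
          have : (q₄ * s₄)⁻¹ * s₄ = s₄⁻¹ * q₄⁻¹ * s₄ := by group
          rw [this]
          have := hPn.conj_mem q₄⁻¹ (P.inv_mem hq₄) s₄⁻¹
          simpa using this
        rw [QuotientGroup.mk_pow, h2, ← QuotientGroup.mk_pow, h]
        rfl
      exact (QuotientGroup.eq_one_iff _).1 h1
    have h3 := hP3 _ hmem
    have h4 : g₄ ^ 4 = 1 := by rw [← hg₄]; exact pow_orderOf_eq_one g₄
    have h5 : g₄ ^ 2 = 1 := by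
      calc g₄ ^ 2 = (g₄ ^ 2) ^ 3 * (g₄ ^ 4)⁻¹ := by group
        _ = 1 := by rw [h3, h4]; simp
    have h6 := orderOf_dvd_of_pow_eq_one h5
    rw [hg₄] at h6
    omega
  let s₄' : S := ⟨s₄, (hSmem s₄).2 hs₄⟩
  have hs₄ord : orderOf s₄' = 4 := by
    have : orderOf s₄' = 2 ^ (1 + 1) := by
      refine orderOf_eq_prime_pow ?_ ?_
      · intro h
        apply hs₄2
        have := congrArg Subtype.val h
        simpa [s₄'] using this
      · exact Subtype.ext (hS4 s₄ hs₄)
    simpa using this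
  have hSexp : ∀ s : S, s ^ 4 = 1 := fun s => Subtype.ext (hS4 s ((hSmem s).1 s.2))
  refine ⟨P, hPn, ⟨⟨⟨fun a b => Subtype.ext (hPcomm a a.2 b b.2)⟩⟩, hP3⟩, ?_⟩
  rcases cyclic_or_quaternion hS2 hSu with hc | ⟨-, u, b, n, hSC, hn, hcard, hb, hbu, hb2⟩
  · left
    refine ⟨isCyclic_of_surjective e e.surjective, ?_⟩
    have hcardS : Nat.card S = 4 := by
      rw [← IsCyclic.exponent_eq_card]
      apply Nat.dvd_antisymm
      · exact Monoid.exponent_dvd_of_forall_pow_eq_one hSexp
      · rw [← hs₄ord]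
        exact Monoid.order_dvd_exponent s₄'
    rw [Subgroup.index_eq_card, ← Nat.card_congr e.toEquiv, hcardS]
  · right
    have hu4 := hSexp u
    have h1 := orderOf_dvd_of_pow_eq_one hu4
    rw [hSC.hu] at h1
    have hn2 : n = 2 := by
      have h2 : 2 ^ n ∣ 2 ^ 2 := h1
      have h3 := (Nat.pow_dvd_pow_iff_le_right (by norm_num : 1 < 2)).1 h2
      omega
    subst hn2
    obtain ⟨e'⟩ := quaternion_of_data (by norm_num : 1 ≤ 2) hSC.hu hcard hb hbu hb2
    exact ⟨e.symm.trans e'⟩

/-- Two commuting elements of order three lie in one cyclic group if an abelian normal subgroup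
of exponent two is present. -/
theorem no9 [Finite G] (hord : OrdH G) (N : Subgroup G) [hN : N.Normal] (hNc : IsMulCommutative N)
    (hN2 : ∀ x ∈ N, x ^ 2 = 1) (hNb : N ≠ ⊥) {x u : G} (hx : orderOf x = 3) (hu : orderOf u = 3)
    (hc : Commute x u) : x ∈ Subgroup.zpowers u := by
  classical
  haveI : Fact (Nat.Prime 3) := ⟨by norm_num⟩
  by_contra hout
  let k : Set G := {x, u}
  have hk : ∀ a ∈ k, ∀ b ∈ k, a * b = b * a := by
    intro a ha b hb
    rcases ha with rfl | ha <;> rcases hb with rfl | hb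
    · rfl
    · rw [Set.mem_singleton_iff.1 hb]; exact hc
    · rw [Set.mem_singleton_iff.1 ha]; exact hc.symm
    · rw [Set.mem_singleton_iff.1 ha, Set.mem_singleton_iff.1 hb]
  set A : Subgroup G := Subgroup.closure k with hA
  letI : CommGroup A := Subgroup.closureCommGroupOfComm hk
  have hAcomm : ∀ a b : A, (a : G) * b = b * a := by
    intro a b
    exact congrArg Subtype.val (mul_comm a b)
  have hxu : x ^ 3 = 1 := by rw [← hx]; exact pow_orderOf_eq_one x
  have huu : u ^ 3 = 1 := by rw [← hu]; exact pow_orderOf_eq_one u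
  have hA3 : ∀ r : A, (r : G) ^ 3 = 1 := by
    rintro ⟨r, hr⟩
    induction hr using Subgroup.closure_induction with
    | mem a ha =>
      rcases ha with rfl | ha
      · exact hxu
      · have hau : a = u := ha
        subst hau
        exact huu
    | one => simp
    | mul a b ha hb iha ihb =>
      have hab : Commute a b := hAcomm ⟨a, ha⟩ ⟨b, hb⟩
      have : (a * b) ^ 3 = a ^ 3 * b ^ 3 := hab.mul_pow 3
      exact this.trans (by rw [iha, ihb, one_mul])
    | inv a ha iha =>
      have h : a ^ 3 = 1 := iha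
      exact (inv_pow a 3).trans (by rw [h, inv_one])
  have hxA : x ∈ A := Subgroup.subset_closure (Set.mem_insert _ _)
  have huA : u ∈ A := Subgroup.subset_closure (Set.mem_insert_of_mem _ rfl)
  let φ : A →* MulAut N := (MulAut.conjNormal).comp A.subtype
  have hφ : ∀ (r : A) (v : N), ((φ r v : N) : G) = r * v * (r : G)⁻¹ :=
    fun r v => MulAut.conjNormal_apply _ _
  have hall : ∀ v : N, v = 1 := by
    intro v
    refine Cfsg.Agent.S3913.norm_trivial (V := N) (A := A) (fun a b => Subtype.ext ?_) φ (p := 3) (by norm_num) ?_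
      ⟨x, hxA⟩ ⟨u, huA⟩ (mul_comm _ _) (Subtype.ext hxu) (Subtype.ext huu) ?_ ?_ ?_ v
    · exact congrArg Subtype.val (hNc.is_comm.comm a b)
    · intro n hn
      apply Subtype.ext
      have h1 : (n : G) ^ 3 = 1 := congrArg Subtype.val hn
      have h2 := hN2 n n.2
      calc (n : G) = (n : G) ^ 3 * ((n : G) ^ 2)⁻¹ := by group
        _ = 1 := by rw [h1, h2]; simp
    · intro h
      have h1 : u = 1 := congrArg Subtype.val h
      rw [h1, orderOf_one] at hu
      omega
    · intro j h
      apply hout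
      have h1 : x * u ^ j = 1 := congrArg Subtype.val h
      have h2 : x = (u ^ j)⁻¹ := eq_inv_of_mul_eq_one_left h1
      rw [h2]
      exact Subgroup.inv_mem _ (Subgroup.npow_mem_zpowers _ j)
    · intro r hr w hw
      by_contra hw1
      have hrG : (r : G) ≠ 1 := fun h => hr (Subtype.ext h)
      have hwG : (w : G) ≠ 1 := fun h => hw1 (Subtype.ext h)
      have hro : orderOf (r : G) = 3 := orderOf_eq_prime (hA3 r) hrG
      have h1 := hφ r w
      rw [hw] at h1
      have h2 : (w : G) * r = r * w := by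
        calc (w : G) * r = r * w * (r : G)⁻¹ * r := by rw [← h1]
          _ = r * w := by group
      have h3 : (w : G) ^ 4 = 1 := by
        have := hN2 w w.2
        rw [show (4 : ℕ) = 2 * 2 from rfl, pow_mul, this, one_pow]
      exact hwG (comm3 hord hro h2 h3)
  apply hNb
  rw [eq_bot_iff]
  intro a ha
  have := hall ⟨a, ha⟩
  rw [Subgroup.mem_bot]
  exact congrArg Subtype.val this

theorem not9 [Finite G] (hord : OrdH G) (N : Subgroup G) [hN : N.Normal] (hNc : IsMulCommutative N)
    (hN2 : ∀ x ∈ N, x ^ 2 = 1) (hNb : N ≠ ⊥) : ¬ 9 ∣ Nat.card G := by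
  classical
  haveI : Fact (Nat.Prime 3) := ⟨by norm_num⟩
  intro h
  obtain ⟨K, hK⟩ := Sylow.exists_subgroup_card_pow_prime (G := G) 3 (n := 2) (by simpa using h)
  haveI hKc := IsPGroup.isMulCommutative_of_card_eq_prime_sq (p := 3) hK
  have hKord : ∀ r : K, r ≠ 1 → orderOf (r : G) = 3 := by
    intro r hr
    have hrG : (r : G) ≠ 1 := fun h => hr (Subtype.ext h)
    have h1 : orderOf r ∣ 3 ^ 2 := by
      rw [← hK]; exact orderOf_dvd_natCard r
    have h2 : orderOf (r : G) = orderOf r := Subgroup.orderOf_coe r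
    rcases hord (r : G) with h3 | h3 | h3 | h3
    · exact absurd (orderOf_eq_one_iff.1 h3) hrG
    · rw [h2] at h3; rw [h3] at h1; norm_num at h1
    · exact h3
    · rw [h2] at h3; rw [h3] at h1; norm_num at h1
  haveI : Nontrivial K := by
    rw [← Finite.one_lt_card_iff_nontrivial, hK]
    norm_num
  obtain ⟨y, hy⟩ := exists_ne (1 : K)
  have hyo := hKord y hy
  have hle : K ≤ Subgroup.zpowers (y : G) := by
    intro a ha
    by_cases ha1 : (⟨a, ha⟩ : K) = 1
    · have : a = 1 := congrArg Subtype.val ha1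
      rw [this]; exact one_mem _
    · refine no9 hord N hNc hN2 hNb (hKord _ ha1) hyo ?_
      exact congrArg Subtype.val (hKc.is_comm.comm (⟨a, ha⟩ : K) y)
  have h3 := Subgroup.card_le_card_group (Subgroup.zpowers (y : G))
  have h4 : Nat.card K ≤ Nat.card (Subgroup.zpowers (y : G)) :=
    Subgroup.card_le_of_le hle
  rw [hK, Nat.card_zpowers, hyo] at h4
  norm_num at h4

/-- The first two clauses, when a minimal normal subgroup is a 2-group. -/
theorem case_two [Finite G] [Group.IsSolvable G] (hord : OrdH G) {g₄ x₀ : G}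
    (hx₀ : orderOf x₀ = 3) (hg₄ : orderOf g₄ = 4) (N : Subgroup G) [hN : N.Normal]
    (hNc : IsMulCommutative N) (hN2 : ∀ x ∈ N, x ^ 2 = 1) (hNb : N ≠ ⊥) :
    ∃ (F : Subgroup G) (_ : F.Normal),
      (IsPGroup 2 ↥F ∧ Monoid.exponent ↥F = 4 ∧ Group.nilpotencyClass ↥F ≤ 2 ∧ F.index = 3) ∨
      (Cfsg.IsElementaryAbelian 2 F ∧ Nonempty (G ⧸ F ≃* Equiv.Perm (Fin 3))) := by
  classical
  haveI : Fact (Nat.Prime 3) := ⟨by norm_num⟩
  haveI : Fact (Nat.Prime 2) := ⟨by norm_num⟩
  have hnot9 := not9 hord N hNc hN2 hNb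
  obtain ⟨F, ⟨hFn, hF2⟩, hFmax⟩ := Set.exists_max_image {K : Subgroup G | K.Normal ∧ IsPGroup 2 K}
    (fun K => Nat.card K) (Set.toFinite _) ⟨⊥, inferInstance, IsPGroup.of_bot⟩
  haveI := hFn
  let π : G →* G ⧸ F := QuotientGroup.mk' F
  have hπs : Function.Surjective π := QuotientGroup.mk'_surjective F
  have hπk : ∀ g, π g = 1 ↔ g ∈ F := fun g => QuotientGroup.eq_one_iff g
  have hF4 : ∀ f ∈ F, f ^ 4 = 1 := by
    intro f hf
    rcases pow4 hord f with h | h
    · exact h
    · exfalso
      obtain ⟨k, hk⟩ := hF2 ⟨f, hf⟩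
      have h1 : f ^ 2 ^ k = 1 := congrArg Subtype.val hk
      have h2 := orderOf_dvd_of_pow_eq_one h1
      rw [h] at h2
      have := Nat.Prime.dvd_of_dvd_pow (by norm_num : Nat.Prime 3) h2
      omega
  have hπx₀ : π x₀ ≠ 1 := by
    intro h
    have h1 := hF4 x₀ ((hπk _).1 h)
    have h2 := orderOf_dvd_of_pow_eq_one h1
    rw [hx₀] at h2
    omega
  haveI : Nontrivial (G ⧸ F) := ⟨⟨π x₀, 1, hπx₀⟩⟩
  obtain ⟨M, hM⟩ := exists_isMinNormal (G := G ⧸ F)
  obtain ⟨p, hp, hMp, hMc, hMx⟩ := hM.exists_isPGroup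
  haveI := hM.normal
  haveI : Fact p.Prime := ⟨hp⟩
  obtain ⟨m₀', hm₀'⟩ := (Subgroup.ne_bot_iff_exists_ne_one).1 hM.ne_bot
  obtain ⟨m₀, hm₀M⟩ : ∃ m₀, m₀ ∈ M ∧ m₀ = (m₀' : G ⧸ F) := ⟨_, m₀'.2, rfl⟩
  have hm1 : m₀ ≠ 1 := by
    rw [hm₀M.2]
    exact fun h => hm₀' (Subtype.ext h)
  replace hm₀M := hm₀M.1
  obtain ⟨x, hxm⟩ := hπs m₀
  have hm₀ord : orderOf m₀ = p := orderOf_eq_prime (hMx _ hm₀M) hm1
  have hpdvd : p ∣ orderOf x := by
    rw [← hm₀ord, ← hxm]
    exact orderOf_map_dvd π x
  have hp2 : p ≠ 2 := by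
    rintro rfl
    let K : Subgroup G := M.comap π
    have hKp : IsPGroup 2 K := by
      rintro ⟨k, hk⟩
      have h1 : (π k) ^ 2 = 1 := hMx _ hk
      have h2 : k ^ 2 ∈ F := (hπk _).1 (by rw [map_pow]; exact h1)
      refine ⟨3, Subtype.ext ?_⟩
      have h3 := hF4 _ h2
      have h4 : k ^ 2 ^ 3 = (k ^ 2) ^ 4 := by rw [← pow_mul]; norm_num
      exact h4.trans h3
    have hFK : F ≤ K := by
      intro f hf
      change π f ∈ M
      rw [(hπk f).2 hf]
      exact M.one_mem
    have hcard := hFmax K ⟨inferInstance, hKp⟩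
    have hKF : F = K := Subgroup.eq_of_le_of_card_ge hFK hcard
    have hxK : x ∈ K := by
      change π x ∈ M
      rw [hxm]
      exact hm₀M
    rw [← hKF] at hxK
    exact hm1 (by rw [← hxm]; exact (hπk x).2 hxK)
  have hp3 : p = 3 ∧ orderOf x = 3 := by
    rcases hord x with h | h | h | h
    · rw [h] at hpdvd
      have := Nat.le_of_dvd (by norm_num) hpdvd
      have := hp.two_le
      omega
    · rw [h] at hpdvd
      exact absurd ((Nat.prime_dvd_prime_iff_eq hp Nat.prime_two).1 hpdvd) hp2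
    · rw [h] at hpdvd
      exact ⟨(Nat.prime_dvd_prime_iff_eq hp Nat.prime_three).1 hpdvd, h⟩
    · rw [h, show (4 : ℕ) = 2 ^ 2 from rfl] at hpdvd
      have := Nat.Prime.dvd_of_dvd_pow hp hpdvd
      exact absurd ((Nat.prime_dvd_prime_iff_eq hp Nat.prime_two).1 this) hp2
  obtain ⟨rfl, hxo⟩ := hp3
  have hm3 : m₀ ^ 3 = 1 := hMx _ hm₀M
  have hx3 : x ^ 3 = 1 := by rw [← hxo]; exact pow_orderOf_eq_one x
  -- the order of `M`
  obtain ⟨n, hn⟩ := IsPGroup.exists_card_eq hMp
  have hMdvd : Nat.card M ∣ Nat.card G := by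
    refine (Subgroup.card_subgroup_dvd_card M).trans ?_
    rw [← Subgroup.index_eq_card]
    exact Subgroup.index_dvd_card F
  have hn1 : n = 1 := by
    have h1 : n ≠ 0 := by
      rintro rfl
      apply hM.ne_bot
      exact Subgroup.eq_bot_of_card_eq M (by simpa using hn)
    have h2 : n < 2 := by
      by_contra hc
      apply hnot9
      rw [hn] at hMdvd
      exact (pow_dvd_pow 3 (not_lt.1 hc)).trans hMdvd
    omega
  subst hn1
  have hMcard : Nat.card M = 3 := by simpa using hn
  have hMz : M = Subgroup.zpowers m₀ := by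
    refine (Subgroup.eq_of_le_of_card_ge ?_ ?_).symm
    · exact (Subgroup.zpowers_le).2 hm₀M
    · rw [hMcard, Nat.card_zpowers, hm₀ord]
  have hdich : ∀ g : G, π g * m₀ * (π g)⁻¹ = m₀ ∨ π g * m₀ * (π g)⁻¹ = m₀⁻¹ := by
    intro g
    have hw : π g * m₀ * (π g)⁻¹ ∈ M := hM.normal.conj_mem _ hm₀M _
    rw [hMz, Subgroup.mem_zpowers_iff] at hw
    obtain ⟨k, hk⟩ := hw
    have h3 : k % 3 = 0 ∨ k % 3 = 1 ∨ k % 3 = 2 := by omega
    have hk' : m₀ ^ (k % 3) = m₀ ^ k := by
      have := zpow_mod_orderOf m₀ k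
      rwa [hm₀ord] at this
    rcases h3 with h | h | h
    · exfalso
      rw [h, zpow_zero] at hk'
      rw [← hk'] at hk
      exact hm1 (conj_eq_one_iff.1 hk.symm)
    · left
      rw [h, zpow_one] at hk'
      rw [← hk, ← hk']
    · right
      rw [h] at hk'
      rw [← hk, ← hk']
      have h2 : m₀ ^ (2 : ℤ) = m₀ ^ 2 := by norm_cast
      rw [h2]
      apply eq_inv_of_mul_eq_one_left
      rw [← pow_succ]
      exact hm3
  -- the action on `F`
  let σ : F →* F := (MulAut.conjNormal x).toMonoidHom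
  have hσ : ∀ f : F, (σ f : G) = x * f * x⁻¹ := fun f => MulAut.conjNormal_apply x f
  have hfpf : MonoidHom.FixedPointFree σ := by
    intro f hf
    have h1 := hσ f
    rw [hf] at h1
    apply Subtype.ext
    have h2 : (f : G) * x = x * f := by
      calc (f : G) * x = x * f * x⁻¹ * x := by rw [← h1]
        _ = x * f := by group
    exact comm3 hord hxo h2 (hF4 f f.2)
  have hx3' : x * x * x = 1 := by
    rw [← hx3]; simp only [pow_succ, pow_zero, one_mul]
  have hxinv : x⁻¹ = x * x := by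
    apply inv_eq_of_mul_eq_one_left
    rw [hx3']
  have hσ3 : σ^[3] = _root_.id := by
    funext f
    apply Subtype.ext
    have : (σ (σ (σ f)) : G) = (x * x * x) * f * (x * x * x)⁻¹ := by
      rw [hσ, hσ, hσ]; group
    change (σ (σ (σ f)) : G) = f
    rw [this, hx3']
    group
  have h1 : ∀ a : F, a * σ a * σ (σ a) = 1 := by
    intro a
    have := hfpf.prod_pow_eq_one hσ3 a
    simp only [List.range_succ, List.range_zero, List.nil_append, List.map_cons, List.map_nil,
      List.prod_cons, List.prod_nil, List.map_append, List.prod_append, mul_one, one_mul,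
      Function.iterate_zero, id_eq, Function.iterate_succ, Function.comp_apply] at this
    first | exact this | (rw [mul_assoc]; exact this)
  have hsurj : ∀ f : F, ∃ c : F, (c : G) * x * (c : G)⁻¹ * x⁻¹ = f := by
    intro f
    obtain ⟨c, hc⟩ := hfpf.commutatorMap_surjective f
    refine ⟨c, ?_⟩
    rw [← hc, MonoidHom.commutatorMap_apply]
    have h2 : ((c / σ c : F) : G) = (c : G) * (x * c * x⁻¹)⁻¹ := by
      rw [div_eq_mul_inv, Subgroup.coe_mul, Subgroup.coe_inv, hσ]
    rw [h2]
    group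
  have hcen : ∀ u : G, u * x = x * u → u ∈ Subgroup.zpowers x := by
    intro u hu
    rcases pow4 hord u with h | h
    · rw [comm3 hord hxo hu h]
      exact one_mem _
    · exact no9 hord N hNc hN2 hNb h hxo hu
  have hplus : ∀ g : G, π g * m₀ * (π g)⁻¹ = m₀ → π g ∈ M := by
    intro g hg
    have hf : g * x * g⁻¹ * x⁻¹ ∈ F := by
      rw [← hπk]
      simp only [map_mul, map_inv, hxm, hg]
      group
    obtain ⟨c, hc⟩ := hsurj ⟨_, hf⟩
    have h2 : (c : G) * x * (c : G)⁻¹ = g * x * g⁻¹ := mul_right_cancel hc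
    have h3 : ((c : G)⁻¹ * g) * x = x * ((c : G)⁻¹ * g) := by
      calc ((c : G)⁻¹ * g) * x = (c : G)⁻¹ * (g * x * g⁻¹) * g := by group
        _ = (c : G)⁻¹ * ((c : G) * x * (c : G)⁻¹) * g := by rw [h2]
        _ = x * ((c : G)⁻¹ * g) := by group
    obtain ⟨k, hk⟩ := Subgroup.mem_zpowers_iff.1 (hcen _ h3)
    have h5 : π g = m₀ ^ k := by
      have h6 := congrArg π hk
      rw [map_zpow, map_mul, map_inv, hxm, (hπk _).2 c.2, inv_one, one_mul] at h6
      exact h6.symm
    rw [h5]
    exact M.zpow_mem hm₀M k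
  have hm2 : m₀ ≠ m₀⁻¹ := by
    intro h
    have h2 : m₀ ^ 2 = 1 := by
      rw [pow_two]
      nth_rewrite 1 [h]
      exact inv_mul_cancel m₀
    have h3 := orderOf_dvd_of_pow_eq_one h2
    rw [hm₀ord] at h3
    omega
  have hMcomm : ∀ a ∈ M, ∀ b ∈ M, a * b = b * a := fun a ha b hb =>
    congrArg Subtype.val (hMc.is_comm.comm ⟨a, ha⟩ ⟨b, hb⟩)
  have hF4' : ∀ a : F, a ^ 4 = 1 := fun a => Subtype.ext (hF4 a a.2)
  have hcls := class_le_two σ h1 hF4'
  by_cases hy : ∃ g₀ : G, π g₀ * m₀ * (π g₀)⁻¹ = m₀⁻¹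
  · -- the symmetric group case
    obtain ⟨g₀, hg₀⟩ := hy
    have hf : g₀ * x⁻¹ * g₀⁻¹ * x⁻¹ ∈ F := by
      rw [← hπk]
      simp only [map_mul, map_inv, hxm]
      have h2 : π g₀ * m₀⁻¹ * (π g₀)⁻¹ = (π g₀ * m₀ * (π g₀)⁻¹)⁻¹ := by group
      rw [h2, hg₀]
      group
    obtain ⟨c, hc⟩ := hsurj ⟨_, hf⟩
    have h2 : (c : G) * x * (c : G)⁻¹ = g₀ * x⁻¹ * g₀⁻¹ := mul_right_cancel hc
    obtain ⟨y, hydef⟩ : ∃ y, y = (c : G)⁻¹ * g₀ := ⟨_, rfl⟩
    have hyx' : y * x⁻¹ * y⁻¹ = x := by
      calc y * x⁻¹ * y⁻¹ = (c : G)⁻¹ * (g₀ * x⁻¹ * g₀⁻¹) * c := by rw [hydef]; group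
        _ = (c : G)⁻¹ * ((c : G) * x * (c : G)⁻¹) * c := by rw [h2]
        _ = x := by group
    have hyx : y * x * y⁻¹ = x⁻¹ := by
      have := congrArg (·⁻¹) hyx'
      simp only [mul_inv_rev, inv_inv] at this
      rw [← this]
      group
    have hxne : x ≠ x⁻¹ := by
      intro h
      have h2 : x ^ 2 = 1 := by
        rw [pow_two]
        nth_rewrite 1 [h]
        exact inv_mul_cancel x
      have h3 := orderOf_dvd_of_pow_eq_one h2
      rw [hxo] at h3
      omega
    have hyyz : y * y ∈ Subgroup.zpowers x := by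
      apply hcen
      calc y * y * x = y * (y * x * y⁻¹) * y := by group
        _ = y * x⁻¹ * y := by rw [hyx]
        _ = (y * x⁻¹ * y⁻¹) * (y * y) := by group
        _ = x * (y * y) := by rw [hyx']
    have hzcube : ∀ z ∈ Subgroup.zpowers x, z ^ 3 = 1 := by
      intro z hz
      obtain ⟨k, rfl⟩ := Subgroup.mem_zpowers_iff.1 hz
      rw [← zpow_natCast, ← zpow_mul, mul_comm, zpow_mul, zpow_natCast, hx3, one_zpow]
    have hy2 : y * y = 1 := by
      rcases hord y with h | h | h | h
      · exfalso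
        rw [orderOf_eq_one_iff] at h
        rw [h] at hyx
        apply hxne
        simpa using hyx
      · have := pow_orderOf_eq_one y
        rwa [h, pow_two] at this
      · exfalso
        have hy3 : y ^ 3 = 1 := by rw [← h]; exact pow_orderOf_eq_one y
        have hy' : y ∈ Subgroup.zpowers x := by
          have h3 : y = (y * y) * (y * y) * (y ^ 3)⁻¹ := by
            rw [show y ^ 3 = y * y * y by simp only [pow_succ, pow_zero, one_mul]]
            group
          rw [h3, hy3, inv_one, mul_one]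
          exact mul_mem hyyz hyyz
        obtain ⟨k, rfl⟩ := Subgroup.mem_zpowers_iff.1 hy'
        apply hxne
        rw [← hyx]
        have : x ^ k * x * (x ^ k)⁻¹ = x := by
          rw [(Commute.zpow_left (Commute.refl x) k).eq]
          group
        exact this.symm
      · exfalso
        have h6 := hzcube _ hyyz
        have h7 : y ^ 6 = 1 := by
          rw [← h6]
          simp only [pow_succ, pow_zero, one_mul]
          group
        have h8 := orderOf_dvd_of_pow_eq_one h7
        rw [h] at h8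
        omega
    have hyinv : y⁻¹ = y := inv_eq_of_mul_eq_one_left hy2
    -- images in the quotient
    have hπy : π y * m₀ * (π y)⁻¹ = m₀⁻¹ := by
      have := congrArg π hyx
      simpa only [map_mul, map_inv, hxm] using this
    have hyM : π y ∉ M := by
      intro h
      apply hm2
      have h3 := hMcomm _ h _ hm₀M
      rw [h3] at hπy
      simpa using hπy
    have hM2 : M.index = 2 := by
      rw [Subgroup.index_eq_two_iff]
      refine ⟨π y, fun b => ?_⟩
      obtain ⟨g, rfl⟩ := hπs b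
      rcases hdich g with h | h
      · right
        have hbM := hplus g h
        refine ⟨hbM, fun hb => hyM ?_⟩
        have : π y = (π g)⁻¹ * (π g * π y) := by group
        rw [this]
        exact mul_mem (inv_mem hbM) hb
      · left
        constructor
        · rw [← map_mul]
          apply hplus
          have h3 : π g * π y * m₀ * (π g * π y)⁻¹
              = π g * (π y * m₀ * (π y)⁻¹) * (π g)⁻¹ := by group
          rw [map_mul, h3, hπy]
          have h4 : π g * m₀⁻¹ * (π g)⁻¹ = (π g * m₀ * (π g)⁻¹)⁻¹ := by group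
          rw [h4, h, inv_inv]
        · intro hb
          apply hm2
          have h3 := hMcomm _ hb _ hm₀M
          rw [h3] at h
          simpa using h
    have hcard6 : Nat.card (G ⧸ F) = 6 := by
      rw [← Subgroup.card_mul_index M, hMcard, hM2]
    have hπy2 : π y * π y = 1 := by rw [← map_mul, hy2, map_one]
    have hπy1 : π y ≠ 1 := by
      intro h
      apply hyM
      rw [h]
      exact M.one_mem
    obtain ⟨e₁⟩ := Cfsg.Agent.S2566.nonempty_equiv_dihedral_three hcard6 hm3 hm1 hπy2 hπy1 hπy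
    obtain ⟨e₂⟩ := Cfsg.Agent.S2566.perm_three_equiv
    -- the elementary abelian part
    let τ : F →* F := (MulAut.conjNormal y).toMonoidHom
    have hτ : ∀ f : F, (τ f : G) = y * f * y⁻¹ := fun f => MulAut.conjNormal_apply y f
    have hτσ : ∀ f, τ (σ f) = σ (σ (τ f)) := by
      intro f
      apply Subtype.ext
      rw [hτ, hσ, hσ, hσ, hτ]
      have hyxi : y * x⁻¹ * y⁻¹ = x := hyx'
      calc y * (x * (f : G) * x⁻¹) * y⁻¹
          = (y * x * y⁻¹) * (y * f * y⁻¹) * (y * x⁻¹ * y⁻¹) := by group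
        _ = x⁻¹ * (y * f * y⁻¹) * x := by rw [hyx, hyxi]
        _ = (x * x) * (y * f * y⁻¹) * x := by rw [hxinv]
        _ = (x * x) * (y * f * y⁻¹) * (x * x)⁻¹ := by
          have : (x * x)⁻¹ = x := by rw [← hxinv, inv_inv]
          rw [this]
        _ = x * (x * (y * f * y⁻¹) * x⁻¹) * x⁻¹ := by group
    have hgen : ∀ u : G, u * u = 1 → π u ≠ 1 → ∀ f : F, ((u * f * u⁻¹) * f) ^ 2 = 1 := by
      intro u hu hu1 f
      have huinv : u⁻¹ = u := inv_eq_of_mul_eq_one_left hu
      have h3 : (u * f) * (u * f) = (u * f * u⁻¹) * f := by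
        rw [huinv]; group
      have h4 : (u * f) ^ 4 = 1 := by
        rcases pow4 hord (u * (f : G)) with h | h
        · exact h
        · exfalso
          have h5 : (u * (f : G)) ^ 3 = 1 := by rw [← h]; exact pow_orderOf_eq_one _
          have h6 := congrArg π h5
          rw [map_pow, map_mul, (hπk _).2 f.2, mul_one, map_one] at h6
          apply hu1
          have h7 : π u * π u = 1 := by rw [← map_mul, hu, map_one]
          calc π u = π u ^ 3 * (π u * π u)⁻¹ := by
                rw [show π u ^ 3 = π u * π u * π u by simp only [pow_succ, pow_zero, one_mul]]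
                group
            _ = 1 := by rw [h6, h7]; simp
      rw [← h3, ← pow_two, ← pow_mul]
      exact h4
    have hν1 : ∀ f, (τ f * f) ^ 2 = 1 := by
      intro f
      apply Subtype.ext
      have := hgen y hy2 hπy1 f
      rw [Subgroup.coe_pow, Subgroup.coe_mul, hτ]
      simpa using this
    have hν3 : ∀ f, (σ (τ f) * f) ^ 2 = 1 := by
      intro f
      apply Subtype.ext
      have hu : (x * y) * (x * y) = 1 := by
        calc (x * y) * (x * y) = x * (y * x * y⁻¹) * (y * y) := by group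
          _ = 1 := by rw [hyx, hy2]; group
      have hu1 : π (x * y) ≠ 1 := by
        intro h
        apply hyM
        rw [map_mul, hxm] at h
        rw [eq_inv_of_mul_eq_one_right h]
        exact inv_mem hm₀M
      have := hgen _ hu hu1 f
      rw [Subgroup.coe_pow, Subgroup.coe_mul, hσ, hτ]
      have h3 : x * y * (f : G) * (x * y)⁻¹ = x * (y * f * y⁻¹) * x⁻¹ := by group
      rwa [h3] at this
    have hν2 : ∀ f, (σ (σ (τ f)) * f) ^ 2 = 1 := by
      intro f
      apply Subtype.ext
      have hu : (x * x * y) * (x * x * y) = 1 := by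
        calc (x * x * y) * (x * x * y)
            = x * x * (y * x * y⁻¹) * (y * x * y⁻¹) * (y * y) := by group
          _ = 1 := by rw [hyx, hy2]; group
      have hu1 : π (x * x * y) ≠ 1 := by
        intro h
        apply hyM
        rw [map_mul, map_mul, hxm] at h
        rw [eq_inv_of_mul_eq_one_right h]
        exact inv_mem (mul_mem hm₀M hm₀M)
      have := hgen _ hu hu1 f
      rw [Subgroup.coe_pow, Subgroup.coe_mul, hσ, hσ, hτ]
      have h3 : x * x * y * (f : G) * (x * x * y)⁻¹ = x * (x * (y * f * y⁻¹) * x⁻¹) * x⁻¹ := by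
        group
      rwa [h3] at this
    have hcl : ∀ a b c : F, com (com a b) c = 1 := by
      intro a b c
      have h3 := lcs_mem 1 _ (lcs_mem 0 a (Subgroup.mem_top a) b) c
      rw [hcls, Subgroup.mem_bot] at h3
      exact h3
    obtain ⟨hab, hsq⟩ := s3_abstract σ τ h1 hτσ hF4' hν1 hν2 hν3 hcl
    refine ⟨F, hFn, Or.inr ⟨⟨⟨⟨hab⟩⟩, fun a ha => congrArg Subtype.val (hsq ⟨a, ha⟩)⟩,
      ⟨e₁.trans e₂.symm⟩⟩⟩
  · -- the index three case
    push Not at hy
    have hall : ∀ g, π g ∈ M := by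
      intro g
      rcases hdich g with h | h
      · exact hplus g h
      · exact (hy g h).elim
    have hMtop : M = ⊤ := by
      rw [eq_top_iff]
      intro a _
      obtain ⟨g, rfl⟩ := hπs a
      exact hall g
    have hind : F.index = 3 := by
      rw [Subgroup.index_eq_card, ← hMcard, hMtop, Subgroup.card_top]
    have hg₄F : g₄ ∈ F := by
      rw [← hπk]
      have h3 : (π g₄) ^ 3 = 1 := hMx _ (hall g₄)
      have h4 : (π g₄) ^ 4 = 1 := by
        rw [← map_pow, ← hg₄, pow_orderOf_eq_one, map_one]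
      calc π g₄ = π g₄ ^ 4 * (π g₄ ^ 3)⁻¹ := by group
        _ = 1 := by rw [h3, h4]; simp
    refine ⟨F, hFn, Or.inl ⟨hF2, ?_, ?_, hind⟩⟩
    · apply Nat.dvd_antisymm
      · exact Monoid.exponent_dvd_of_forall_pow_eq_one hF4'
      · have := Monoid.order_dvd_exponent (⟨g₄, hg₄F⟩ : F)
        rwa [Subgroup.orderOf_mk, hg₄] at this
    · haveI : Group.IsNilpotent F := hF2.isNilpotent
      exact Subgroup.lowerCentralSeries_eq_bot_iff_nilpotencyClass_le.1 hcls

end Main

theorem result {G : Type*} [Group G] [Finite G] (h : Set.range (orderOf : G → ℕ) = {k : ℕ | 1 ≤ k ∧ k ≤ 4}) :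
    ∃ (N : Subgroup G) (_ : N.Normal),
      (IsPGroup 2 ↥N ∧ Monoid.exponent ↥N = 4 ∧ Group.nilpotencyClass ↥N ≤ 2 ∧ N.index = 3) ∨
      (Cfsg.IsElementaryAbelian 2 N ∧ Nonempty (G ⧸ N ≃* Equiv.Perm (Fin 3))) ∨
      (Cfsg.IsElementaryAbelian 3 N ∧ ((IsCyclic (G ⧸ N) ∧ N.index = 4) ∨ Nonempty (G ⧸ N ≃* QuaternionGroup 2))) := by
  classical
  have hord : OrdH G := by
    intro g
    have : orderOf g ∈ {k : ℕ | 1 ≤ k ∧ k ≤ 4} := h ▸ Set.mem_range_self g
    obtain ⟨h1, h2⟩ := this
    omega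
  have hrange : ∀ k, 1 ≤ k → k ≤ 4 → ∃ g : G, orderOf g = k := by
    intro k h1 h2
    have : k ∈ Set.range (orderOf : G → ℕ) := by rw [h]; exact ⟨h1, h2⟩
    exact this
  obtain ⟨t, ht⟩ := hrange 2 (by norm_num) (by norm_num)
  obtain ⟨x₀, hx₀⟩ := hrange 3 (by norm_num) (by norm_num)
  obtain ⟨g₄, hg₄⟩ := hrange 4 (by norm_num) (by norm_num)
  -- the order of `G`
  have hprime : ∀ p : ℕ, p.Prime → p ∣ Nat.card G → p = 2 ∨ p = 3 := by
    intro p hp hd
    haveI : Fact p.Prime := ⟨hp⟩
    obtain ⟨g, hg⟩ := exists_prime_orderOf_dvd_card' p hd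
    rcases hord g with h1 | h1 | h1 | h1
    · rw [h1] at hg; exact absurd hg.symm hp.ne_one
    · left; rw [← hg, h1]
    · right; rw [← hg, h1]
    · rw [hg] at h1; rw [h1] at hp; norm_num at hp
  have hcard0 : Nat.card G ≠ 0 := Nat.card_pos.ne'
  obtain ⟨a, m, hm, hma⟩ := Nat.exists_eq_pow_mul_and_not_dvd hcard0 2 (by norm_num)
  have hm0 : m ≠ 0 := by
    rintro rfl
    simp at hm
  obtain ⟨b, r, hr, hmb⟩ := Nat.exists_eq_pow_mul_and_not_dvd hm0 3 (by norm_num)
  have hr1 : r = 1 := by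
    by_contra hne
    have hpr := Nat.minFac_prime hne
    have hd : r.minFac ∣ Nat.card G := by
      rw [hma, hmb]
      exact Dvd.dvd.mul_left (Dvd.dvd.mul_left (Nat.minFac_dvd r) _) _
    rcases hprime _ hpr hd with h1 | h1
    · apply hm
      rw [hmb]
      exact Dvd.dvd.mul_left (h1 ▸ Nat.minFac_dvd r) _
    · apply hr
      exact h1 ▸ Nat.minFac_dvd r
  subst hr1
  have hcard : Nat.card G = 2 ^ a * 3 ^ b := by
    rw [hma, hmb, mul_one]
  haveI hsol : Group.IsSolvable G :=
    Cfsg.Agent.Lib.Char.Burnside2.isSolvable_of_card_eq Nat.prime_two Nat.prime_three _ G a b rfl hcard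
  haveI : Nontrivial G := by
    refine ⟨⟨t, 1, ?_⟩⟩
    rintro rfl
    rw [orderOf_one] at ht
    omega
  obtain ⟨N, hN⟩ := exists_isMinNormal (G := G)
  obtain ⟨p, hp, hNp, hNc, hNx⟩ := hN.exists_isPGroup
  haveI := hN.normal
  haveI : Fact p.Prime := ⟨hp⟩
  obtain ⟨n₀, hn₀⟩ := (Subgroup.ne_bot_iff_exists_ne_one).1 hN.ne_bot
  have hn₀G : (n₀ : G) ≠ 1 := fun h => hn₀ (Subtype.ext h)
  have hn₀o : orderOf (n₀ : G) = p := orderOf_eq_prime (hNx _ n₀.2) hn₀G
  have hpd : p ∣ Nat.card G := hn₀o ▸ orderOf_dvd_natCard (n₀ : G)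
  rcases hprime p hp hpd with rfl | rfl
  · obtain ⟨F, hF, hF'⟩ := case_two hord hx₀ hg₄ N hNc hNx hN.ne_bot
    refine ⟨F, hF, ?_⟩
    rcases hF' with h1 | h1
    · exact Or.inl h1
    · exact Or.inr (Or.inl h1)
  · obtain ⟨P, hP, hP'⟩ := case_three hord ht hg₄ N hNc hNx hN.ne_bot
    exact ⟨P, hP, Or.inr (Or.inr hP')⟩

end Cfsg.Agent.S4006
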