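import Cfsg.Statements.S4009
import Mathlib
import Cfsg.Agent.Lib.PGroup.RankTwoThree.ClassKit
import Cfsg.Agent.Lib.PGroup.HallPetrescu
import Cfsg.Agent.S3872

set_option autoImplicit false
open Cfsg

namespace Cfsg.Agent.S4009

open Subgroup
open scoped commutatorElement

section
variable {G : Type*} [Group G]

/-- The lower central series. -/
abbrev LC (G : Type*) [Group G] (c : ℕ) : Subgroup G := (⊤ : Subgroup G).lowerCentralSeries c

instance LC_normal (c : ℕ) : (LC G c).Normal := Cfsg.Agent.Lib.PGroup.RankTwoThree.lcs_normal ⊤ c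

theorem LC_anti {a b : ℕ} (h : a ≤ b) : LC G b ≤ LC G a := Subgroup.lowerCentralSeries_antitone _ h

theorem LC_comm (a b : ℕ) {x y : G} (hx : x ∈ LC G a) (hy : y ∈ LC G b) : ⁅x, y⁆ ∈ LC G (a + b + 1) :=
  Cfsg.Agent.Lib.PGroup.HallPetrescu.commutator_lcs_le ⊤ a b (commutator_mem_commutator hx hy)

theorem comm_closure_le {Y : Subgroup G} [hY : Y.Normal] {E S : Set G} (h : ∀ e ∈ E, ∀ s ∈ S, ⁅e, s⁆ ∈ Y) :
    ⁅closure E, closure S⁆ ≤ Y := by
  rw [Subgroup.commutator_le]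
  intro a ha b hb
  have h1 : ∀ e ∈ closure E, ∀ s ∈ S, ⁅e, s⁆ ∈ Y := by
    intro e he s hs
    induction he using Subgroup.closure_induction with
    | mem x hx => exact h x hx s hs
    | one => simp [commutatorElement_def, one_mem]
    | mul x y _ _ hx hy =>
      have h2 : ⁅x * y, s⁆ = x * ⁅y, s⁆ * x⁻¹ * ⁅x, s⁆ := by
        simp only [commutatorElement_def]; group
      rw [h2]
      exact mul_mem (hY.conj_mem _ hy x) hx
    | inv x _ hx =>
      have h2 : ⁅x⁻¹, s⁆ = x⁻¹ * ⁅x, s⁆⁻¹ * x⁻¹⁻¹ := by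
        simp only [commutatorElement_def]; group
      rw [h2]
      exact hY.conj_mem _ (inv_mem hx) _
  induction hb using Subgroup.closure_induction with
  | mem s hs => exact h1 a ha s hs
  | one => simp [commutatorElement_def, one_mem]
  | mul x y _ _ hx hy =>
    have h2 : ⁅a, x * y⁆ = ⁅a, x⁆ * (x * ⁅a, y⁆ * x⁻¹) := by
      simp only [commutatorElement_def]; group
    rw [h2]
    exact mul_mem hx (hY.conj_mem _ hy x)
  | inv x _ hx =>
    have h2 : ⁅a, x⁻¹⁆ = x⁻¹ * ⁅a, x⁆⁻¹ * x⁻¹⁻¹ := by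
      simp only [commutatorElement_def]; group
    rw [h2]
    exact hY.conj_mem _ (inv_mem hx) _

/-- The cyclic case. -/
theorem comm_cyc {b : ℕ} {g : G} (hg : g ∈ LC G b) {N : Subgroup G} (hN : N ≤ zpowers g ⊔ LC G (b + 1)) :
    ⁅N, N⁆ ≤ LC G (2 * b + 2) := by
  have hX : zpowers g ⊔ LC G (b + 1) = closure (({g} : Set G) ∪ (LC G (b + 1) : Set G)) := by
    rw [Subgroup.closure_union, zpowers_eq_closure, closure_eq]
  refine (commutator_mono hN hN).trans ?_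
  rw [hX]
  apply comm_closure_le
  rintro e (rfl | he) s (rfl | hs)
  · simp [commutatorElement_def, one_mem]
  · have h1 := LC_comm b (b + 1) hg hs
    rwa [show b + (b + 1) + 1 = 2 * b + 2 by ring] at h1
  · have h1 := LC_comm (b + 1) b he hg
    rwa [show b + 1 + b + 1 = 2 * b + 2 by ring] at h1
  · exact LC_anti (show 2 * b + 2 ≤ b + 1 + (b + 1) + 1 by omega) (LC_comm (b + 1) (b + 1) he hs)

/-- The two-generator case. -/
theorem comm_two {b : ℕ} {g₁ g₂ : G} (h₁ : g₁ ∈ LC G b) (h₂ : g₂ ∈ LC G b) {N : Subgroup G}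
    (hN : N ≤ closure {g₁, g₂} ⊔ LC G (b + 1)) :
    ∃ c ∈ LC G (2 * b + 1), ⁅N, N⁆ ≤ zpowers c ⊔ LC G (2 * b + 1 + 1) := by
  have hc : ⁅g₁, g₂⁆ ∈ LC G (2 * b + 1) := by
    have h3 := LC_comm b b h₁ h₂
    rwa [show b + b + 1 = 2 * b + 1 by ring] at h3
  refine ⟨⁅g₁, g₂⁆, hc, ?_⟩
  haveI hY : (zpowers ⁅g₁, g₂⁆ ⊔ LC G (2 * b + 1 + 1)).Normal := by
    refine ⟨fun y hy g => ?_⟩
    have hle : zpowers ⁅g₁, g₂⁆ ⊔ LC G (2 * b + 1 + 1) ≤
        (zpowers ⁅g₁, g₂⁆ ⊔ LC G (2 * b + 1 + 1)).comap (MulAut.conj g).toMonoidHom := by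
      refine sup_le (zpowers_le.mpr ?_) ?_
      · show g * ⁅g₁, g₂⁆ * g⁻¹ ∈ zpowers ⁅g₁, g₂⁆ ⊔ LC G (2 * b + 1 + 1)
        have h4 : g * ⁅g₁, g₂⁆ * g⁻¹ = ⁅⁅g₁, g₂⁆, g⁆⁻¹ * ⁅g₁, g₂⁆ := by
          rw [commutatorElement_inv, commutatorElement_def g]
          group
        rw [h4]
        have h5 : ⁅⁅g₁, g₂⁆, g⁆ ∈ LC G (2 * b + 1 + 1) := commutator_mem_commutator hc (mem_top g)
        exact mul_mem (mem_sup_right (inv_mem h5)) (mem_sup_left (mem_zpowers _))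
      · intro m hm
        show g * m * g⁻¹ ∈ zpowers ⁅g₁, g₂⁆ ⊔ LC G (2 * b + 1 + 1)
        exact mem_sup_right ((LC_normal _).conj_mem m hm g)
    exact hle hy
  have hX : closure {g₁, g₂} ⊔ LC G (b + 1) = closure (({g₁, g₂} : Set G) ∪ (LC G (b + 1) : Set G)) := by
    rw [Subgroup.closure_union, closure_eq]
  refine (commutator_mono hN hN).trans ?_
  rw [hX]
  apply comm_closure_le
  have hT : ∀ {u t : G}, u ∈ LC G b → t ∈ LC G (b + 1) → ⁅u, t⁆ ∈ zpowers ⁅g₁, g₂⁆ ⊔ LC G (2 * b + 1 + 1) := by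
    intro u t hu ht
    have h1 := LC_comm b (b + 1) hu ht
    rw [show b + (b + 1) + 1 = 2 * b + 1 + 1 by ring] at h1
    exact mem_sup_right h1
  have hT' : ∀ {u t : G}, u ∈ LC G b → t ∈ LC G (b + 1) → ⁅t, u⁆ ∈ zpowers ⁅g₁, g₂⁆ ⊔ LC G (2 * b + 1 + 1) := by
    intro u t hu ht
    have h1 := LC_comm (b + 1) b ht hu
    rw [show b + 1 + b + 1 = 2 * b + 1 + 1 by ring] at h1
    exact mem_sup_right h1
  have hE : ∀ e ∈ ({g₁, g₂} : Set G) ∪ (LC G (b + 1) : Set G), (e = g₁ ∨ e = g₂) ∨ e ∈ LC G (b + 1) := by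
    rintro e ((h | h) | h)
    · exact Or.inl (Or.inl h)
    · exact Or.inl (Or.inr h)
    · exact Or.inr h
  intro e he s hs
  rcases hE e he with (he' | he') | he' <;> rcases hE s hs with (hs' | hs') | hs'
  · rw [he', hs']
    simp [commutatorElement_def, one_mem]
  · rw [he', hs']
    exact mem_sup_left (mem_zpowers _)
  · rw [he']
    exact hT h₁ hs'
  · have h7 : ⁅g₂, g₁⁆ = ⁅g₁, g₂⁆⁻¹ := (commutatorElement_inv g₁ g₂).symm
    rw [he', hs', h7]
    exact mem_sup_left (inv_mem (mem_zpowers _))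
  · rw [he', hs']
    simp [commutatorElement_def, one_mem]
  · rw [he']
    exact hT h₂ hs'
  · rw [hs']
    exact hT' h₁ he'
  · rw [hs']
    exact hT' h₂ he'
  · exact hT (LC_anti (Nat.le_succ b) he') hs'

variable [Finite G] {p : ℕ} [hp : Fact p.Prime]

theorem exists_level (hG : IsPGroup p G) {N : Subgroup G} (hN : N ≠ ⊥) {m₀ : ℕ} (h₀ : N ≤ LC G m₀) :
    ∃ b, m₀ ≤ b ∧ N ≤ LC G b ∧ ¬ N ≤ LC G (b + 1) := by
  classical
  have hnil : Group.IsNilpotent G := hG.isNilpotent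
  obtain ⟨m, hm⟩ := Subgroup.nilpotent_iff_lowerCentralSeries.mp hnil
  have hex : ∃ m, ¬ N ≤ LC G m := ⟨m, by
    show ¬ N ≤ (⊤ : Subgroup G).lowerCentralSeries m
    rw [hm, le_bot_iff]
    exact hN⟩
  have hs := Nat.find_spec hex
  have hmin := fun k => Nat.find_min hex (m := k)
  set m₁ := Nat.find hex
  have h1 : m₀ < m₁ := by
    by_contra hle
    exact hs (h₀.trans (LC_anti (not_lt.mp hle)))
  refine ⟨m₁ - 1, by omega, ?_, ?_⟩
  · by_contra hc
    exact hmin (m₁ - 1) (by omega) hc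
  · rw [show m₁ - 1 + 1 = m₁ by omega]
    exact hs

theorem LC_ne_bot_of_le {a b : ℕ} (h : a ≤ b) (hb : LC G b ≠ ⊥) : LC G a ≠ ⊥ := by
  intro h0
  apply hb
  rw [eq_bot_iff, ← h0]
  exact LC_anti h

theorem card_step (hG : IsPGroup p G) {b : ℕ} (h : LC G b ≠ ⊥) :
    Nat.card (LC G (b + 1)) * p ≤ Nat.card (LC G b) :=
  Cfsg.Agent.S3872.card_mul_le_of_lt hG (Cfsg.Agent.Lib.PGroup.RankTwoThree.lcs_succ_lt hG ⊤ h)

theorem card_descent (hG : IsPGroup p G) {b : ℕ} (m : ℕ) (h : LC G (b + m) ≠ ⊥) :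
    Nat.card (LC G (b + m)) * p ^ m ≤ Nat.card (LC G b) := by
  induction m with
  | zero => simp
  | succ m ih =>
    have h1 : LC G (b + m) ≠ ⊥ := LC_ne_bot_of_le (by omega) h
    have h2 := ih h1
    have h4 := card_step hG h1
    calc Nat.card (LC G (b + (m + 1))) * p ^ (m + 1)
        = (Nat.card (LC G (b + m + 1)) * p) * p ^ m := by
          show Nat.card (LC G (b + m + 1)) * p ^ (m + 1) = _
          rw [pow_succ]
          ring
      _ ≤ Nat.card (LC G (b + m)) * p ^ m := Nat.mul_le_mul_right _ h4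
      _ ≤ _ := h2

/-- Transport of the index bound. -/
theorem step_index (hG : IsPGroup p G) {b b' d c n : ℕ} (hc1 : 1 ≤ c)
    (hc : Nat.card (LC G (b + 1)) * p ^ c ≤ Nat.card (LC G b))
    (hb' : b + 1 ≤ b') (hne : LC G b' ≠ ⊥) (hi : p ^ (b + d) * Nat.card (LC G b) ≤ p ^ n) :
    p ^ (b' + (d + c - 1)) * Nat.card (LC G b') ≤ p ^ n := by
  obtain ⟨m, rfl⟩ : ∃ m, b' = b + 1 + m := ⟨b' - (b + 1), by omega⟩
  have h1 := card_descent hG (b := b + 1) m hne
  have h2 : p ^ (b + 1 + m + (d + c - 1)) = p ^ (b + d) * (p ^ m * p ^ c) := by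
    rw [← pow_add, ← pow_add]
    congr 1
    omega
  rw [h2]
  calc p ^ (b + d) * (p ^ m * p ^ c) * Nat.card (LC G (b + 1 + m))
      = p ^ (b + d) * ((Nat.card (LC G (b + 1 + m)) * p ^ m) * p ^ c) := by ring
    _ ≤ p ^ (b + d) * (Nat.card (LC G (b + 1)) * p ^ c) :=
        Nat.mul_le_mul_left _ (Nat.mul_le_mul_right _ h1)
    _ ≤ p ^ (b + d) * Nat.card (LC G b) := Nat.mul_le_mul_left _ hc
    _ ≤ p ^ n := hi

theorem card_two (hG : IsPGroup p G) {N L T : Subgroup G} (hT : T ≤ L) (hN : N ≤ L)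
    (hnc : ¬ ∃ g ∈ L, N ≤ zpowers g ⊔ T) : Nat.card T * p ^ 2 ≤ Nat.card L := by
  have h1 : ¬ N ≤ T := by
    intro h
    exact hnc ⟨1, one_mem _, h.trans le_sup_right⟩
  obtain ⟨g₁, hg₁, hg₁T⟩ := SetLike.not_le_iff_exists.mp h1
  have h2 : ¬ N ≤ zpowers g₁ ⊔ T := fun h => hnc ⟨g₁, hN hg₁, h⟩
  have hT₁ : zpowers g₁ ⊔ T ≤ L := sup_le (zpowers_le.mpr (hN hg₁)) hT
  have h3 : T < zpowers g₁ ⊔ T := lt_of_le_of_ne le_sup_right (fun h => hg₁T (by
    rw [h]
    exact mem_sup_left (mem_zpowers g₁)))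
  have h4 : zpowers g₁ ⊔ T < L := lt_of_le_of_ne hT₁ (fun h => h2 (by rw [h]; exact hN))
  have h5 := Cfsg.Agent.S3872.card_mul_le_of_lt hG h3
  have h6 := Cfsg.Agent.S3872.card_mul_le_of_lt hG h4
  calc Nat.card T * p ^ 2 = (Nat.card T * p) * p := by ring
    _ ≤ Nat.card ↥(zpowers g₁ ⊔ T) * p := Nat.mul_le_mul_right _ h5
    _ ≤ _ := h6

theorem card_three (hG : IsPGroup p G) {N L T : Subgroup G} (hT : T ≤ L) (hN : N ≤ L)
    (hnc : ¬ ∃ g₁ ∈ L, ∃ g₂ ∈ L, N ≤ closure {g₁, g₂} ⊔ T) : Nat.card T * p ^ 3 ≤ Nat.card L := by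
  have h1 : ¬ N ≤ T := by
    intro h
    exact hnc ⟨1, one_mem _, 1, one_mem _, h.trans le_sup_right⟩
  obtain ⟨g₁, hg₁, hg₁T⟩ := SetLike.not_le_iff_exists.mp h1
  have h2 : ¬ N ≤ zpowers g₁ ⊔ T := by
    intro h
    refine hnc ⟨g₁, hN hg₁, g₁, hN hg₁, h.trans ?_⟩
    refine sup_le_sup_right ?_ T
    rw [zpowers_eq_closure]
    exact closure_mono (by simp)
  obtain ⟨g₂, hg₂, hg₂T⟩ := SetLike.not_le_iff_exists.mp h2
  have h3' : ¬ N ≤ closure {g₁, g₂} ⊔ T := fun h => hnc ⟨g₁, hN hg₁, g₂, hN hg₂, h⟩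
  have hT₂ : closure {g₁, g₂} ⊔ T ≤ L := by
    refine sup_le ?_ hT
    rw [closure_le]
    rintro a (rfl | rfl)
    · exact hN hg₁
    · exact hN hg₂
  have h3 : T < zpowers g₁ ⊔ T := lt_of_le_of_ne le_sup_right (fun h => hg₁T (by
    rw [h]
    exact mem_sup_left (mem_zpowers g₁)))
  have hle : zpowers g₁ ⊔ T ≤ closure {g₁, g₂} ⊔ T := by
    refine sup_le_sup_right ?_ T
    rw [zpowers_eq_closure]
    exact closure_mono (by simp)
  have h4 : zpowers g₁ ⊔ T < closure {g₁, g₂} ⊔ T := lt_of_le_of_ne hle (fun h => hg₂T (by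
    rw [h]
    exact mem_sup_left (subset_closure (by simp))))
  have h4' : closure {g₁, g₂} ⊔ T < L := lt_of_le_of_ne hT₂ (fun h => h3' (by rw [h]; exact hN))
  have h5 := Cfsg.Agent.S3872.card_mul_le_of_lt hG h3
  have h6 := Cfsg.Agent.S3872.card_mul_le_of_lt hG h4
  have h7 := Cfsg.Agent.S3872.card_mul_le_of_lt hG h4'
  calc Nat.card T * p ^ 3 = ((Nat.card T * p) * p) * p := by ring
    _ ≤ (Nat.card ↥(zpowers g₁ ⊔ T) * p) * p := Nat.mul_le_mul_right _ (Nat.mul_le_mul_right _ h5)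
    _ ≤ Nat.card ↥(closure {g₁, g₂} ⊔ T) * p := Nat.mul_le_mul_right _ h6
    _ ≤ _ := h7

/-- Cyclic modulo the next term. -/
def Cyc (N : Subgroup G) (b : ℕ) : Prop := ∃ g ∈ LC G b, N ≤ zpowers g ⊔ LC G (b + 1)

theorem main_ind {n : ℕ} (hG : IsPGroup p G) (hcard : Nat.card G = p ^ n) :
    ∀ j, derivedSeries G j ≠ ⊥ → ∃ b d e : ℕ, derivedSeries G j ≤ LC G b ∧ ¬ derivedSeries G j ≤ LC G (b + 1) ∧
      b + 1 = 2 ^ j + e ∧ p ^ (b + d) * Nat.card (LC G b) ≤ p ^ n ∧ 2 * j ≤ d + e + 2 ∧ (e = 0 → 2 * j ≤ d + e + 1) ∧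
      (e = 0 → ¬ Cyc (derivedSeries G j) b → 2 * j ≤ d + e) := by
  intro j
  induction j with
  | zero =>
    intro h0
    refine ⟨0, 0, 0, ?_, ?_, by simp, ?_, by omega, by omega, by omega⟩
    · exact le_of_eq rfl
    · intro hle
      have hnb : LC G 0 ≠ ⊥ := h0
      have hlt := Cfsg.Agent.Lib.PGroup.RankTwoThree.lcs_succ_lt hG ⊤ hnb
      exact absurd hle (not_le_of_gt hlt)
    · show p ^ (0 + 0) * Nat.card (⊤ : Subgroup G) ≤ p ^ n
      rw [Subgroup.card_top, hcard]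
      simp
  | succ j ih =>
    intro h1
    have h0 : derivedSeries G j ≠ ⊥ := by
      intro h
      apply h1
      rw [derivedSeries_succ, h]
      exact commutator_bot_left _
    obtain ⟨b, d, e, hb, hb1, hbe, hi, hA, hB, hC⟩ := ih h0
    have hpow : 2 ^ (j + 1) = 2 * 2 ^ j := pow_succ' 2 j
    have hLb : LC G b ≠ ⊥ := by
      intro h
      apply h0
      rw [eq_bot_iff, ← h]
      exact hb
    have hle : derivedSeries G (j + 1) ≤ LC G (2 * b + 1) := by
      rw [derivedSeries_succ, Subgroup.commutator_le]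
      intro a ha c hc
      have h2 := LC_comm b b (hb ha) (hb hc)
      rwa [show b + b + 1 = 2 * b + 1 by ring] at h2
    have hT : LC G (b + 1) ≤ LC G b := LC_anti (Nat.le_succ b)
    by_cases hcyc : Cyc (derivedSeries G j) b
    · obtain ⟨g, hg, hgN⟩ := hcyc
      have h2 : derivedSeries G (j + 1) ≤ LC G (2 * b + 2) := comm_cyc hg hgN
      obtain ⟨b', hb'1, hb'2, hb'3⟩ := exists_level hG h1 h2
      have hne : LC G b' ≠ ⊥ := by
        intro h
        apply h1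
        rw [eq_bot_iff, ← h]
        exact hb'2
      have hc : Nat.card (LC G (b + 1)) * p ^ 1 ≤ Nat.card (LC G b) := by
        rw [pow_one]
        exact card_step hG hLb
      have hi' := step_index hG (le_refl 1) hc (by omega) hne hi
      refine ⟨b', d, b' + 1 - 2 ^ (j + 1), hb'2, hb'3, by omega, ?_, ?_, ?_, ?_⟩
      · simpa using hi'
      · omega
      · intro h
        omega
      · intro h _
        omega
    · have hC' : e = 0 → 2 * j ≤ d + e := fun h => hC h hcyc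
      obtain ⟨b', hb'1, hb'2, hb'3⟩ := exists_level hG h1 hle
      have hne : LC G b' ≠ ⊥ := by
        intro h
        apply h1
        rw [eq_bot_iff, ← h]
        exact hb'2
      by_cases htwo : ∃ g₁ ∈ LC G b, ∃ g₂ ∈ LC G b, derivedSeries G j ≤ closure {g₁, g₂} ⊔ LC G (b + 1)
      · obtain ⟨g₁, hg₁, g₂, hg₂, hgg⟩ := htwo
        obtain ⟨c, hc1, hc2⟩ := comm_two hg₁ hg₂ hgg
        have hc : Nat.card (LC G (b + 1)) * p ^ 2 ≤ Nat.card (LC G b) :=
          card_two hG hT hb hcyc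
        have hi' := step_index hG (by norm_num) hc (by omega) hne hi
        refine ⟨b', d + 1, b' + 1 - 2 ^ (j + 1), hb'2, hb'3, by omega, ?_, ?_, ?_, ?_⟩
        · simpa using hi'
        · omega
        · intro h
          omega
        · intro h hnc
          exfalso
          have hb'eq : b' = 2 * b + 1 := by omega
          rw [hb'eq] at hnc
          exact hnc ⟨c, hc1, hc2⟩
      · have hc : Nat.card (LC G (b + 1)) * p ^ 3 ≤ Nat.card (LC G b) :=
          card_three hG hT hb htwo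
        have hi' := step_index hG (by norm_num) hc (by omega) hne hi
        refine ⟨b', d + 2, b' + 1 - 2 ^ (j + 1), hb'2, hb'3, by omega, ?_, ?_, ?_, ?_⟩
        · simpa using hi'
        · omega
        · intro h
          omega
        · intro h _
          omega

end


/-- Let P be a finite p-group of order p^n whose derived length is exactly k + 1 (the k-th derived subgroup is nontrivial and the (k+1)-st is trivial). Then n ≥ 2^k + 2k − 2. -/
theorem result {P : Type*} [Group P] [Finite P] (p : ℕ) [Fact p.Prime] (n k : ℕ) (hcard : Nat.card P = p ^ n) (hk : derivedSeries P k ≠ ⊥) (hk' : derivedSeries P (k + 1) = ⊥) : 2 ^ k + 2 * k ≤ n + 2 := by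
  have hG : IsPGroup p P := IsPGroup.of_card hcard
  obtain ⟨b, d, e, hb, -, hbe, hi, hA, -, -⟩ := main_ind hG hcard k hk
  have hp1 : p.Prime := Fact.out
  have hLb : LC P b ≠ ⊥ := by
    intro h
    apply hk
    rw [eq_bot_iff, ← h]
    exact hb
  have h1 : p ≤ Nat.card (LC P b) := by
    have h2 := Cfsg.Agent.S3872.card_mul_le_of_lt hG (bot_lt_iff_ne_bot.mpr hLb)
    simpa using h2
  have h2 : p ^ (b + d + 1) ≤ p ^ n := by
    calc p ^ (b + d + 1) = p ^ (b + d) * p := pow_succ _ _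
      _ ≤ p ^ (b + d) * Nat.card (LC P b) := Nat.mul_le_mul_left _ h1
      _ ≤ p ^ n := hi
  have h3 := (Nat.pow_le_pow_iff_right hp1.one_lt).mp h2
  omega

end Cfsg.Agent.S4009
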