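import Cfsg.Statements.S4018
import Cfsg.Agent.Lib.Char.CompleteCor
import Cfsg.Agent.Lib.Char.ClassMul
import Cfsg.Agent.Lib.Char.Ortho
import Cfsg.Agent.Lib.Basic.SylowUtil

set_option autoImplicit false
open Cfsg

namespace Cfsg.Agent.S4018

open Finset Cfsg.Agent.Lib.Char.Basic Cfsg.Agent.Lib.Char.Ortho Cfsg.Agent.Lib.Char.CompleteCor
open scoped ComplexConjugate

/-- All the elementary facts about the configuration used below. -/
structure Cfg {G : Type*} [Group G] (P N C : Subgroup G) (t u : G) (p : ℕ) : Prop where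
  card_P : Nat.card P = p
  odd_p : Odd p
  three_le : 3 ≤ p
  card_C : Nat.card C = 2 * p
  card_N : Nat.card N = 4 * p
  t_ne : t ≠ 1
  t_sq : t * t = 1
  t_C : t ∈ C
  P_C : P ≤ C
  C_N : C ≤ N
  P_pow : ∀ r ∈ P, r ^ p = 1
  C_dec : ∀ c ∈ C, c ∈ P ∨ t * c ∈ P
  t_comm : ∀ r ∈ P, t * r = r * t
  P_comm : ∀ r ∈ P, ∀ s ∈ P, r * s = s * r
  N_dec : ∀ w ∈ N, w ∈ C ∨ u * w ∈ C
  u_N : u ∈ N
  u_C : u ∉ C
  u_sq : u * u = 1
  u_inv : ∀ r ∈ P, u * r * u⁻¹ = r⁻¹
  N_t : ∀ x : G, x * t = t * x ↔ x ∈ N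
  TI : ∀ x c : G, c ∈ C → c ≠ 1 → x * c * x⁻¹ ∈ C → x ∈ N
  invol : ∀ i : G, i ≠ 1 → i * i = 1 → ∃ x, i = x * t * x⁻¹
  three : ∀ r : G, orderOf r = 3 → ∃ x y : G, y ∈ P ∧ r = x * y * x⁻¹
  even : ∀ g : G, g ≠ 1 → (∃ i j : G, i * i = 1 ∧ j * j = 1 ∧ g = i * j) → 2 ∣ orderOf g ∨ 3 ∣ orderOf g

section Structure

variable {G : Type*} [Group G] {P N C : Subgroup G} {t u : G} {p : ℕ}

namespace Cfg

variable (h : Cfg P N C t u p)
include h

theorem P_sq_one {r : G} (hr : r ∈ P) (h2 : r * r = 1) : r = 1 := by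
  obtain ⟨m, hm⟩ := h.odd_p
  have := h.P_pow r hr
  rw [hm, pow_succ, pow_mul, sq, h2, one_pow, one_mul] at this
  exact this

theorem t_notMem_P : t ∉ P := fun ht => h.t_ne (h.P_sq_one ht h.t_sq)

theorem t_inv : t⁻¹ = t := inv_eq_of_mul_eq_one_left h.t_sq

theorem u_inv_eq : u⁻¹ = u := inv_eq_of_mul_eq_one_left h.u_sq

theorem C_form {c : G} (hc : c ∈ C) : ∃ r ∈ P, c = r ∨ c = t * r := by
  rcases h.C_dec c hc with h1 | h1
  · exact ⟨c, h1, Or.inl rfl⟩
  · refine ⟨t * c, h1, Or.inr ?_⟩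
    rw [← mul_assoc, h.t_sq, one_mul]

theorem C_comm {c d : G} (hc : c ∈ C) (hd : d ∈ C) : c * d = d * c := by
  obtain ⟨r, hr, hc'⟩ := h.C_form hc
  obtain ⟨s, hs, hd'⟩ := h.C_form hd
  rcases hc' with h1 | h1 <;> rcases hd' with h2 | h2 <;> rw [h1, h2]
  · exact h.P_comm r hr s hs
  · rw [← mul_assoc, ← h.t_comm r hr, mul_assoc, h.P_comm r hr s hs, mul_assoc]
  · rw [mul_assoc, h.P_comm r hr s hs, ← mul_assoc, h.t_comm s hs, mul_assoc]
  · calc t * r * (t * s) = t * (r * t) * s := by group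
      _ = t * (t * r) * s := by rw [h.t_comm r hr]
      _ = t * (t * (r * s)) := by group
      _ = t * (t * (s * r)) := by rw [h.P_comm r hr s hs]
      _ = t * (t * s) * r := by group
      _ = t * (s * t) * r := by rw [h.t_comm s hs]
      _ = t * s * (t * r) := by group

theorem C_invol {c : G} (hc : c ∈ C) (h1 : c ≠ 1) (h2 : c * c = 1) : c = t := by
  obtain ⟨r, hr, rfl | rfl⟩ := h.C_form hc
  · exact absurd (h.P_sq_one hr h2) h1
  · have : r * r = 1 := by
      have h3 : t * r * (t * r) = t * t * (r * r) := by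
        calc t * r * (t * r) = t * (r * t) * r := by group
          _ = t * (t * r) * r := by rw [h.t_comm r hr]
          _ = t * t * (r * r) := by group
      rw [h3, h.t_sq, one_mul] at h2
      exact h2
    rw [h.P_sq_one hr this, mul_one]

theorem N_conj_t {x : G} (hx : x ∈ N) : x * t * x⁻¹ = t := by
  rw [(h.N_t x).2 hx]
  group

/-- An element of `N` outside `C` inverts `P`. -/
theorem N_conj_P {x r : G} (hx : x ∈ N) (hxC : x ∉ C) (hr : r ∈ P) : x * r * x⁻¹ = r⁻¹ := by
  have hc : u * x ∈ C := (h.N_dec x hx).resolve_left hxC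
  have hxe : x = u * (u * x) := by rw [← mul_assoc, h.u_sq, one_mul]
  have h3 : (u * x) * r = r * (u * x) := h.C_comm hc (h.P_C hr)
  rw [← h.u_inv r hr]
  calc x * r * x⁻¹ = u * ((u * x) * r) * (u * x)⁻¹ * u⁻¹ * (u * u) := by
        conv_lhs => rw [hxe]
        rw [h.u_sq]
        group
    _ = u * r * u⁻¹ := by
        rw [h3, h.u_sq]
        group

/-- Every element of `N` outside `C` is an involution. -/
theorem N_sq {x : G} (hx : x ∈ N) (hxC : x ∉ C) : x * x = 1 := by
  have hc : u * x ∈ C := (h.N_dec x hx).resolve_left hxC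
  have hxe : x = u * (u * x) := by rw [← mul_assoc, h.u_sq, one_mul]
  obtain ⟨r, hr, h3 | h3⟩ := h.C_form hc
  · have hxr : x = u * r := by rw [hxe, h3]
    have := h.u_inv r hr
    rw [h.u_inv_eq] at this
    rw [hxr]
    calc u * r * (u * r) = (u * r * u) * r := by group
      _ = 1 := by rw [this]; group
  · have hxr : x = u * (t * r) := by rw [hxe, h3]
    have h4 := h.u_inv r hr
    rw [h.u_inv_eq] at h4
    have h5 := h.N_conj_t h.u_N
    rw [h.u_inv_eq] at h5
    rw [hxr]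
    calc u * (t * r) * (u * (t * r)) = (u * t * u) * (u * r * u) * (t * r) := by
          calc u * (t * r) * (u * (t * r)) = u * t * (u * u) * r * u * (t * r) := by
                rw [h.u_sq]; group
            _ = _ := by group
      _ = t * r⁻¹ * (t * r) := by rw [h5, h4]
      _ = t * (r⁻¹ * t) * r := by group
      _ = t * (t * r⁻¹) * r := by
          rw [h.t_comm r⁻¹ (P.inv_mem hr)]
      _ = t * t := by group
      _ = 1 := h.t_sq

theorem conj_C {x c : G} (hx : x ∈ N) (hc : c ∈ C) : x * c * x⁻¹ ∈ C := by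
  by_cases hxC : x ∈ C
  · rw [h.C_comm hxC hc]
    simpa using hc
  · obtain ⟨r, hr, rfl | rfl⟩ := h.C_form hc
    · rw [h.N_conj_P hx hxC hr]
      exact h.P_C (P.inv_mem hr)
    · have : x * (t * r) * x⁻¹ = (x * t * x⁻¹) * (x * r * x⁻¹) := by group
      rw [this, h.N_conj_t hx, h.N_conj_P hx hxC hr]
      exact C.mul_mem h.t_C (h.P_C (P.inv_mem hr))

/-- If `c ∈ C` is neither `1` nor `t`, its centralizer is `C`. -/
theorem mem_C_of_comm {c x : G} (hc : c ∈ C) (h1 : c ≠ 1) (ht : c ≠ t) (hx : x * c = c * x) :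
    x ∈ C := by
  have hxN : x ∈ N := h.TI x c hc h1 (by rw [hx]; simpa using hc)
  by_contra hxC
  obtain ⟨r, hr, rfl | rfl⟩ := h.C_form hc
  · have h3 := h.N_conj_P hxN hxC hr
    rw [hx, mul_inv_cancel_right] at h3
    apply h1
    apply h.P_sq_one hr
    nth_rewrite 1 [h3]
    simp
  · have h3 := h.N_conj_P hxN hxC hr
    have h4 := h.N_conj_t hxN
    have h5 : x * (t * r) * x⁻¹ = (x * t * x⁻¹) * (x * r * x⁻¹) := by group
    rw [hx, mul_inv_cancel_right, h4, h3] at h5
    have h6 : r = r⁻¹ := mul_left_cancel h5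
    have h7 : r * r = 1 := by
      nth_rewrite 1 [h6]
      simp
    rw [h.P_sq_one hr h7, mul_one] at ht
    exact ht rfl

theorem centralizer_t : Subgroup.centralizer ({t} : Set G) = N := by
  ext x
  rw [Subgroup.mem_centralizer_singleton_iff]
  exact h.N_t x

theorem centralizer_c {c : G} (hc : c ∈ C) (h1 : c ≠ 1) (ht : c ≠ t) :
    Subgroup.centralizer ({c} : Set G) = C := by
  ext x
  rw [Subgroup.mem_centralizer_singleton_iff]
  exact ⟨h.mem_C_of_comm hc h1 ht, fun hx => h.C_comm hx hc⟩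

/-- An element of even order lies in a conjugate of `C`. -/
theorem om_of_even [Finite G] {g : G} (h2 : 2 ∣ orderOf g) :
    ∃ x c, c ∈ C ∧ c ≠ 1 ∧ g = x * c * x⁻¹ := by
  obtain ⟨m, hm⟩ := h2
  have hord : orderOf g ≠ 0 := (orderOf_pos g).ne'
  have hm0 : m ≠ 0 := by
    rintro rfl
    exact hord (by simpa using hm)
  have hi1 : g ^ m ≠ 1 := by
    intro hc
    have := orderOf_dvd_of_pow_eq_one hc
    rw [hm] at this
    have := Nat.le_of_dvd (Nat.pos_of_ne_zero hm0) this
    omega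
  have hi2 : g ^ m * g ^ m = 1 := by
    rw [← pow_add, ← two_mul, ← hm, pow_orderOf_eq_one]
  obtain ⟨x, hx⟩ := h.invol _ hi1 hi2
  have hcomm : (x⁻¹ * g * x) * t = t * (x⁻¹ * g * x) := by
    have h3 : g * g ^ m = g ^ m * g := (Commute.pow_right (Commute.refl g) m).eq
    rw [hx] at h3
    calc x⁻¹ * g * x * t = x⁻¹ * (g * (x * t * x⁻¹)) * x := by group
      _ = x⁻¹ * ((x * t * x⁻¹) * g) * x := by rw [h3]
      _ = t * (x⁻¹ * g * x) := by group
  have hN := (h.N_t _).1 hcomm
  have hg1 : x⁻¹ * g * x ≠ 1 := by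
    intro hc
    have : g = 1 := by
      have h4 : g = x * (x⁻¹ * g * x) * x⁻¹ := by group
      rw [h4, hc]; group
    apply hi1
    rw [this, one_pow]
  by_cases hC : x⁻¹ * g * x ∈ C
  · exact ⟨x, _, hC, hg1, by group⟩
  · have h5 := h.N_sq hN hC
    obtain ⟨y, hy⟩ := h.invol _ hg1 h5
    refine ⟨x * y, t, h.t_C, h.t_ne, ?_⟩
    have h4 : g = x * (x⁻¹ * g * x) * x⁻¹ := by group
    rw [h4, hy]
    group

/-- An element of order divisible by 3 lies in a conjugate of `C`. -/
theorem om_of_three [Finite G] {g : G} (h3 : 3 ∣ orderOf g) :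
    ∃ x c, c ∈ C ∧ c ≠ 1 ∧ g = x * c * x⁻¹ := by
  have hord3 : orderOf (g ^ (orderOf g / 3)) = 3 := orderOf_pow_orderOf_div (orderOf_pos g).ne' h3
  obtain ⟨x, y, hy, hxy⟩ := h.three _ hord3
  have hy1 : y ≠ 1 := by
    rintro rfl
    have : g ^ (orderOf g / 3) = 1 := by rw [hxy]; group
    rw [this, orderOf_one] at hord3
    omega
  have hyt : y ≠ t := fun hc => h.t_notMem_P (hc ▸ hy)
  have hcomm : (x⁻¹ * g * x) * y = y * (x⁻¹ * g * x) := by
    have h4 : g * g ^ (orderOf g / 3) = g ^ (orderOf g / 3) * g :=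
      (Commute.pow_right (Commute.refl g) _).eq
    rw [hxy] at h4
    calc x⁻¹ * g * x * y = x⁻¹ * (g * (x * y * x⁻¹)) * x := by group
      _ = x⁻¹ * ((x * y * x⁻¹) * g) * x := by rw [h4]
      _ = y * (x⁻¹ * g * x) := by group
  have hC := h.mem_C_of_comm (h.P_C hy) hy1 hyt hcomm
  have hg1 : x⁻¹ * g * x ≠ 1 := by
    intro hc
    have : g = 1 := by
      have h4 : g = x * (x⁻¹ * g * x) * x⁻¹ := by group
      rw [h4, hc]; group
    rw [this] at h3
    simp at h3
  exact ⟨x, _, hC, hg1, by group⟩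

end Cfg

end Structure

section Sums

open scoped Classical

variable {G : Type*} [Group G] [Fintype G] {P N C : Subgroup G} {t u : G} {p : ℕ}

/-- Non-identity elements of `C`. -/
noncomputable def Cs (C : Subgroup G) : Finset G := univ.filter (fun g => g ∈ C ∧ g ≠ 1)
/-- Non-identity elements of conjugates of `C`. -/
noncomputable def Om (C : Subgroup G) : Finset G :=
  univ.filter (fun g => ∃ x c, c ∈ C ∧ c ≠ 1 ∧ g = x * c * x⁻¹)
/-- Involutions. -/
noncomputable def Iv (G : Type*) [Group G] [Fintype G] : Finset G :=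
  univ.filter (fun g => g ≠ 1 ∧ g * g = 1)
/-- Elements of `N` outside `C`. -/
noncomputable def Us (N C : Subgroup G) : Finset G := univ.filter (fun g => g ∈ N ∧ g ∉ C)
/-- A subgroup as a finset. -/
noncomputable def Sf (H : Subgroup G) : Finset G := univ.filter (fun g => g ∈ H)

theorem mem_Sf {H : Subgroup G} {g : G} : g ∈ Sf H ↔ g ∈ H := by simp [Sf]
theorem mem_Cs {g : G} : g ∈ Cs C ↔ g ∈ C ∧ g ≠ 1 := by simp [Cs]
theorem mem_Us {g : G} : g ∈ Us N C ↔ g ∈ N ∧ g ∉ C := by simp [Us]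
theorem mem_Iv {g : G} : g ∈ Iv G ↔ g ≠ 1 ∧ g * g = 1 := by simp [Iv]
theorem mem_Om {g : G} : g ∈ Om C ↔ ∃ x c, c ∈ C ∧ c ≠ 1 ∧ g = x * c * x⁻¹ := by simp [Om]

theorem card_Sf (H : Subgroup G) : (Sf H).card = Nat.card H := by
  rw [Nat.card_eq_fintype_card, Sf]
  exact (Fintype.card_subtype _).symm

theorem sum_fiber_const {α β M : Type*} [AddCommMonoid M] (s : Finset α) (t' : Finset β)
    (φ : α → β) (hφ : ∀ a ∈ s, φ a ∈ t') (m : ℕ)
    (hm : ∀ b ∈ t', (s.filter (fun a => φ a = b)).card = m) (F : β → M) :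
    ∑ a ∈ s, F (φ a) = m • ∑ b ∈ t', F b := by
  rw [← Finset.sum_fiberwise_of_maps_to hφ, Finset.smul_sum]
  refine Finset.sum_congr rfl fun b hb => ?_
  rw [← hm b hb, ← Finset.sum_const]
  refine Finset.sum_congr rfl fun a ha => ?_
  rw [(Finset.mem_filter.1 ha).2]

namespace Cfg

variable (h : Cfg P N C t u p)
include h

theorem sum_Om_aux {M : Type*} [AddCommMonoid M] (F : G → M) :
    ∑ a ∈ (univ : Finset G) ×ˢ Cs C, F (a.1 * a.2 * a.1⁻¹) = (Nat.card N) • ∑ g ∈ Om C, F g := by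
  refine sum_fiber_const _ _ (fun a : G × G => a.1 * a.2 * a.1⁻¹) ?_ _ ?_ F
  · rintro ⟨x, c⟩ ha
    have ha' := (Finset.mem_product.1 ha).2
    exact mem_Om.2 ⟨x, c, (mem_Cs.1 ha').1, (mem_Cs.1 ha').2, rfl⟩
  · intro g hg
    obtain ⟨x₀, c₀, hc₀, hc₀1, rfl⟩ := mem_Om.1 hg
    rw [← card_Sf N]
    symm
    refine Finset.card_bij (fun k _ => (x₀ * k, k⁻¹ * c₀ * k)) ?_ ?_ ?_
    · intro k hk
      have hk' := mem_Sf.1 hk
      refine Finset.mem_filter.2 ⟨Finset.mem_product.2 ⟨mem_univ _, mem_Cs.2 ⟨?_, ?_⟩⟩, ?_⟩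
      · simpa using h.conj_C (N.inv_mem hk') hc₀
      · intro hc
        apply hc₀1
        have : c₀ = k * (k⁻¹ * c₀ * k) * k⁻¹ := by group
        have hc' : k⁻¹ * c₀ * k = 1 := hc
        rw [this, hc']; group
      · group
    · intro k _ k' _ hkk
      have := (Prod.mk.inj hkk).1
      exact mul_left_cancel this
    · rintro ⟨x, c⟩ ha
      obtain ⟨ha1, ha2⟩ := Finset.mem_filter.1 ha
      have hc := mem_Cs.1 (Finset.mem_product.1 ha1).2
      simp only at ha2
      have hk : (x₀⁻¹ * x) * c * (x₀⁻¹ * x)⁻¹ = c₀ := by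
        calc (x₀⁻¹ * x) * c * (x₀⁻¹ * x)⁻¹ = x₀⁻¹ * (x * c * x⁻¹) * x₀ := by group
          _ = c₀ := by rw [ha2]; group
      have hkN : x₀⁻¹ * x ∈ N := h.TI _ c hc.1 hc.2 (by rw [hk]; exact hc₀)
      refine ⟨x₀⁻¹ * x, mem_Sf.2 hkN, ?_⟩
      ext
      · simp
      · simp only
        rw [← hk]
        group

/-- Sums of class functions over the union of the conjugates of `C`. -/
theorem sum_Om {M : Type*} [AddCommMonoid M] (F : G → M) (hF : ∀ x g, F (x * g * x⁻¹) = F g) :
    (Nat.card G) • ∑ c ∈ Cs C, F c = (Nat.card N) • ∑ g ∈ Om C, F g := by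
  rw [← h.sum_Om_aux F, Finset.sum_product]
  simp only [hF]
  rw [Finset.sum_const, Finset.card_univ, Nat.card_eq_fintype_card]

/-- Pairs of distinct involutions and their products. -/
theorem sum_offDiag {M : Type*} [AddCommMonoid M] (F : G → M) :
    ∑ a ∈ (Iv G).offDiag, F (a.1 * a.2) = (Us N C).card • ∑ g ∈ Om C, F g := by
  refine sum_fiber_const _ _ (fun a : G × G => a.1 * a.2) ?_ _ ?_ F
  · rintro ⟨i, j⟩ ha
    obtain ⟨hi, hj, hij⟩ := Finset.mem_offDiag.1 ha
    obtain ⟨hi1, hi2⟩ := mem_Iv.1 hi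
    obtain ⟨hj1, hj2⟩ := mem_Iv.1 hj
    simp only at hij hi1 hi2 hj1 hj2 ⊢
    have hg : i * j ≠ 1 := by
      intro hc
      apply hij
      have := mul_eq_one_iff_eq_inv.1 hc
      rwa [inv_eq_of_mul_eq_one_left hj2] at this
    rcases h.even _ hg ⟨i, j, hi2, hj2, rfl⟩ with h2 | h3
    · exact mem_Om.2 (h.om_of_even h2)
    · exact mem_Om.2 (h.om_of_three h3)
  · intro g hg
    obtain ⟨x, c, hc, hc1, rfl⟩ := mem_Om.1 hg
    symm
    refine Finset.card_bij (fun w _ => (x * w * x⁻¹, x * (w * c) * x⁻¹)) ?_ ?_ ?_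
    · intro w hw
      obtain ⟨hwN, hwC⟩ := mem_Us.1 hw
      have hwc : w * c ∉ C := fun hc' => hwC (by simpa using C.mul_mem hc' (C.inv_mem hc))
      have hwcN : w * c ∈ N := N.mul_mem hwN (h.C_N hc)
      have h1 := h.N_sq hwN hwC
      have h2 := h.N_sq hwcN hwc
      have hw1 : w ≠ 1 := fun hc' => hwC (hc' ▸ C.one_mem)
      have hwc1 : w * c ≠ 1 := fun hc' => hwc (hc' ▸ C.one_mem)
      have conj1 : ∀ y : G, y ≠ 1 → x * y * x⁻¹ ≠ 1 := by
        intro y hy hc'
        apply hy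
        have : y = x⁻¹ * (x * y * x⁻¹) * x := by group
        rw [this, hc']; group
      have conj2 : ∀ y : G, y * y = 1 → (x * y * x⁻¹) * (x * y * x⁻¹) = 1 := by
        intro y hy
        have : (x * y * x⁻¹) * (x * y * x⁻¹) = x * (y * y) * x⁻¹ := by group
        rw [this, hy]; group
      refine Finset.mem_filter.2 ⟨Finset.mem_offDiag.2 ⟨mem_Iv.2 ⟨conj1 _ hw1, conj2 _ h1⟩,
        mem_Iv.2 ⟨conj1 _ hwc1, conj2 _ h2⟩, ?_⟩, ?_⟩
      · simp only
        intro hc'
        apply hc1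
        have h3 : w = w * c := by
          have : x⁻¹ * (x * w * x⁻¹) * x = x⁻¹ * (x * (w * c) * x⁻¹) * x := by rw [hc']
          simpa [mul_assoc] using this
        simpa using h3
      · simp only
        calc x * w * x⁻¹ * (x * (w * c) * x⁻¹) = x * (w * w) * c * x⁻¹ := by group
          _ = x * c * x⁻¹ := by rw [h1]; group
    · intro w _ w' _ hww
      have h3 := (Prod.mk.inj hww).1
      have : x⁻¹ * (x * w * x⁻¹) * x = x⁻¹ * (x * w' * x⁻¹) * x := by rw [h3]
      simpa [mul_assoc] using this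
    · rintro ⟨i, j⟩ ha
      obtain ⟨ha1, ha2⟩ := Finset.mem_filter.1 ha
      obtain ⟨hi, hj, hij⟩ := Finset.mem_offDiag.1 ha1
      obtain ⟨hi1, hi2⟩ := mem_Iv.1 hi
      obtain ⟨hj1, hj2⟩ := mem_Iv.1 hj
      simp only at hij hi1 hi2 hj1 hj2 ha2
      have conj1 : ∀ y : G, y ≠ 1 → x⁻¹ * y * x ≠ 1 := by
        intro y hy hc'
        apply hy
        have : y = x * (x⁻¹ * y * x) * x⁻¹ := by group
        rw [this, hc']; group
      have conj2 : ∀ y : G, y * y = 1 → (x⁻¹ * y * x) * (x⁻¹ * y * x) = 1 := by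
        intro y hy
        have : (x⁻¹ * y * x) * (x⁻¹ * y * x) = x⁻¹ * (y * y) * x := by group
        rw [this, hy]; group
      set w := x⁻¹ * i * x with hw
      set v := x⁻¹ * j * x with hv
      have hw2 : w * w = 1 := conj2 i hi2
      have hv2 : v * v = 1 := conj2 j hj2
      have hw1 : w ≠ 1 := conj1 i hi1
      have hv1 : v ≠ 1 := conj1 j hj1
      have hwv : w * v = c := by
        calc w * v = x⁻¹ * (i * j) * x := by rw [hw, hv]; group
          _ = c := by rw [ha2]; group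
      have hvwc : v = w * c := by
        rw [← hwv, ← mul_assoc, hw2, one_mul]
      have hwinv : w⁻¹ = w := inv_eq_of_mul_eq_one_left hw2
      have hwc : w * c * w⁻¹ = c⁻¹ := by
        rw [hwinv]
        have h5 : (w * c) * (w * c) = 1 := by rw [← hvwc]; exact hv2
        apply eq_inv_of_mul_eq_one_left
        calc w * c * w * c = w * c * (w * c) := by group
          _ = 1 := h5
      have hwN : w ∈ N := h.TI w c hc hc1 (by rw [hwc]; exact C.inv_mem hc)
      have hwC : w ∉ C := by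
        intro hwC
        have h6 := h.C_invol hwC hw1 hw2
        have hvC : v ∈ C := by rw [hvwc]; exact C.mul_mem hwC hc
        have h7 := h.C_invol hvC hv1 hv2
        apply hij
        have h8 : w = v := h6.trans h7.symm
        have h9 : i = x * w * x⁻¹ := by rw [hw]; group
        have h10 : j = x * v * x⁻¹ := by rw [hv]; group
        rw [h9, h10, h8]
      refine ⟨w, mem_Us.2 ⟨hwN, hwC⟩, ?_⟩
      ext
      · simp only [hw]; group
      · simp only
        rw [← hvwc, hv]; group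

/-- Sums over the involutions, all conjugate to `t`. -/
theorem sum_Iv {M : Type*} [AddCommMonoid M] (F : G → M) :
    ∑ z : G, F (z * t * z⁻¹) = (Nat.card N) • ∑ i ∈ Iv G, F i := by
  refine sum_fiber_const _ _ (fun z : G => z * t * z⁻¹) ?_ _ ?_ F
  · intro z _
    refine mem_Iv.2 ⟨?_, ?_⟩
    · intro hc
      apply h.t_ne
      have : t = z⁻¹ * (z * t * z⁻¹) * z := by group
      rw [this, hc]; group
    · have : (z * t * z⁻¹) * (z * t * z⁻¹) = z * (t * t) * z⁻¹ := by group
      rw [this, h.t_sq]; group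
  · intro i hi
    obtain ⟨hi1, hi2⟩ := mem_Iv.1 hi
    obtain ⟨x, rfl⟩ := h.invol i hi1 hi2
    rw [← card_Sf N]
    symm
    refine Finset.card_bij (fun k _ => x * k) ?_ ?_ ?_
    · intro k hk
      have hk' := mem_Sf.1 hk
      refine Finset.mem_filter.2 ⟨mem_univ _, ?_⟩
      have := h.N_conj_t hk'
      calc x * k * t * (x * k)⁻¹ = x * (k * t * k⁻¹) * x⁻¹ := by group
        _ = x * t * x⁻¹ := by rw [this]
    · intro k _ k' _ hkk
      exact mul_left_cancel hkk
    · intro z hz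
      have hz' : z * t * z⁻¹ = x * t * x⁻¹ := (Finset.mem_filter.1 hz).2
      refine ⟨x⁻¹ * z, mem_Sf.2 ((h.N_t _).1 ?_), by group⟩
      calc x⁻¹ * z * t = x⁻¹ * (z * t * z⁻¹) * z := by group
        _ = x⁻¹ * (x * t * x⁻¹) * z := by rw [hz']
        _ = t * (x⁻¹ * z) := by group

theorem card_Us : (Us N C).card = 2 * p := by
  have h1 : Us N C = Sf N \ Sf C := by
    ext g; simp [mem_Us, mem_Sf]
  have h2 : Sf C ⊆ Sf N := fun g hg => mem_Sf.2 (h.C_N (mem_Sf.1 hg))
  have h3 := Finset.card_sdiff_add_card_eq_card h2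
  rw [← h1, card_Sf, card_Sf, h.card_C, h.card_N] at h3
  omega

theorem Cs_eq : Cs C = (Sf C).erase 1 := by
  ext g; simp [mem_Cs, mem_Sf, and_comm]

theorem card_Cs : (Cs C).card = 2 * p - 1 := by
  rw [h.Cs_eq, Finset.card_erase_of_mem (mem_Sf.2 C.one_mem), card_Sf, h.card_C]

theorem sum_Cs {M : Type*} [AddCommMonoid M] (F : G → M) :
    ∑ c ∈ Cs C, F c + F 1 = ∑ c ∈ Sf C, F c := by
  rw [h.Cs_eq, Finset.sum_erase_add _ _ (mem_Sf.2 C.one_mem)]

theorem card_G : Nat.card G = 4 * p * (Iv G).card := by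
  have := h.sum_Iv (M := ℕ) (fun _ => 1)
  simp only [Finset.sum_const, smul_eq_mul, mul_one, Finset.card_univ] at this
  rw [Nat.card_eq_fintype_card, this, h.card_N]

theorem p_pos : 0 < p := by have := h.three_le; omega

theorem t_mem_Iv : t ∈ Iv G := mem_Iv.2 ⟨h.t_ne, h.t_sq⟩

theorem n_pos : 0 < (Iv G).card := Finset.card_pos.2 ⟨t, h.t_mem_Iv⟩

theorem card_Om : (Om C).card = (Iv G).card * (2 * p - 1) := by
  have h1 := h.sum_Om (M := ℕ) (fun _ => 1) (fun _ _ => rfl)
  simp only [Finset.sum_const, smul_eq_mul, mul_one] at h1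
  rw [h.card_Cs, h.card_G, h.card_N, mul_assoc] at h1
  exact (Nat.eq_of_mul_eq_mul_left (by have := h.p_pos; omega) h1).symm

theorem n_eq : (Iv G).card = 1 + 2 * p * (2 * p - 1) := by
  have h1 := h.sum_offDiag (M := ℕ) (fun _ => 1)
  simp only [Finset.sum_const, smul_eq_mul, mul_one, Finset.offDiag_card] at h1
  rw [h.card_Us, h.card_Om] at h1
  have hn := h.n_pos
  obtain ⟨m, hm⟩ : ∃ m, (Iv G).card = m + 1 := ⟨(Iv G).card - 1, by omega⟩
  rw [hm] at h1 ⊢
  have h2 : (m + 1) * (m + 1) - (m + 1) = (m + 1) * m := by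
    rw [Nat.mul_succ (m + 1) m]; omega
  rw [h2] at h1
  have h3 : m = 2 * p * (2 * p - 1) := by
    apply Nat.eq_of_mul_eq_mul_left (show 0 < m + 1 by omega)
    rw [h1]; ring
  omega

section Char

variable [Fintype (IrrCharacter G)]

theorem key_sum (χ : IrrCharacter G) :
    ((χ : G → ℂ) 1) * ∑ i ∈ Iv G, (χ : G → ℂ) (i * t) =
      ((Iv G).card : ℂ) * ((χ : G → ℂ) t) ^ 2 := by
  have h1 := Cfsg.Agent.Lib.Char.ClassMul.irr_one_mul_sum χ t t
  have h2 := h.sum_Iv (M := ℂ) (fun i => (χ : G → ℂ) (i * t))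
  rw [h2, h.card_G, h.card_N] at h1
  have hp0 : ((4 * p : ℕ) : ℂ) ≠ 0 := by
    have := h.p_pos
    exact_mod_cast (by omega : 4 * p ≠ 0)
  rw [nsmul_eq_mul] at h1
  push_cast at h1 hp0
  apply mul_left_cancel₀ hp0
  rw [sq]
  linear_combination h1

theorem sum_row (χ : IrrCharacter G) {j : G} (hj : j ∈ Iv G) :
    ∑ i ∈ Iv G, (χ : G → ℂ) (i * j) = ∑ i ∈ Iv G, (χ : G → ℂ) (i * t) := by
  obtain ⟨hj1, hj2⟩ := mem_Iv.1 hj
  obtain ⟨x, rfl⟩ := h.invol j hj1 hj2
  have hcf := isIrr_classFunction χ.2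
  refine Finset.sum_nbij' (fun i => x⁻¹ * i * x) (fun i => x * i * x⁻¹) ?_ ?_ ?_ ?_ ?_
  · intro i hi
    obtain ⟨hi1, hi2⟩ := mem_Iv.1 hi
    refine mem_Iv.2 ⟨?_, ?_⟩
    · intro hc
      apply hi1
      have : i = x * (x⁻¹ * i * x) * x⁻¹ := by group
      rw [this, hc]; group
    · have : (x⁻¹ * i * x) * (x⁻¹ * i * x) = x⁻¹ * (i * i) * x := by group
      rw [this, hi2]; group
  · intro i hi
    obtain ⟨hi1, hi2⟩ := mem_Iv.1 hi
    refine mem_Iv.2 ⟨?_, ?_⟩
    · intro hc
      apply hi1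
      have : i = x⁻¹ * (x * i * x⁻¹) * x := by group
      rw [this, hc]; group
    · have : (x * i * x⁻¹) * (x * i * x⁻¹) = x * (i * i) * x⁻¹ := by group
      rw [this, hi2]; group
  · intro i _; group
  · intro i _; group
  · intro i _
    have h3 := hcf (x⁻¹ * i * x * t) x
    rw [← h3]
    congr 1
    group

theorem sum_all (χ : IrrCharacter G) :
    ((Iv G).card : ℂ) * ∑ i ∈ Iv G, (χ : G → ℂ) (i * t) =
      ((Iv G).card : ℂ) * (χ : G → ℂ) 1 + (2 * p : ℕ) • ∑ g ∈ Om C, (χ : G → ℂ) g := by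
  have h1 : ∑ a ∈ Iv G ×ˢ Iv G, (χ : G → ℂ) (a.1 * a.2) =
      ((Iv G).card : ℂ) * ∑ i ∈ Iv G, (χ : G → ℂ) (i * t) := by
    rw [Finset.sum_product_right]
    simp only
    rw [Finset.sum_congr rfl (fun j hj => h.sum_row χ hj), Finset.sum_const, nsmul_eq_mul]
  rw [← h1, ← Finset.diag_union_offDiag, Finset.sum_union (Finset.disjoint_diag_offDiag _),
    Finset.sum_diag, h.sum_offDiag, h.card_Us]
  congr 1
  rw [Finset.sum_congr rfl (fun i hi => by rw [(mem_Iv.1 hi).2]), Finset.sum_const, nsmul_eq_mul]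

theorem sum_Om_char (χ : IrrCharacter G) :
    ∑ g ∈ Om C, (χ : G → ℂ) g = ((Iv G).card : ℂ) * ∑ c ∈ Cs C, (χ : G → ℂ) c := by
  have hcf := isIrr_classFunction χ.2
  have h1 := h.sum_Om (M := ℂ) (χ : G → ℂ) (fun x g => hcf g x)
  rw [h.card_G, h.card_N, nsmul_eq_mul, nsmul_eq_mul] at h1
  have hp0 : ((4 * p : ℕ) : ℂ) ≠ 0 := by
    have := h.p_pos
    exact_mod_cast (by omega : 4 * p ≠ 0)
  apply mul_left_cancel₀ hp0
  rw [← h1]
  push_cast
  ring

/-- The basic identity for an irreducible character. -/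
theorem identity (χ : IrrCharacter G) (d : ℕ)
    (hd : ∑ c ∈ Sf C, (χ : G → ℂ) c = (2 * p : ℕ) * d) :
    ((χ : G → ℂ) 1) * ((χ : G → ℂ) 1 + (2 * p : ℕ) * ((2 * p : ℕ) * d - (χ : G → ℂ) 1)) =
      ((Iv G).card : ℂ) * ((χ : G → ℂ) t) ^ 2 := by
  rw [← h.key_sum χ]
  congr 1
  have hn : ((Iv G).card : ℂ) ≠ 0 := by exact_mod_cast h.n_pos.ne'
  apply mul_left_cancel₀ hn
  rw [h.sum_all χ, h.sum_Om_char χ, nsmul_eq_mul]
  have := h.sum_Cs (χ : G → ℂ)
  rw [hd] at this
  rw [← this]
  ring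

end Char

end Cfg

theorem exists_nat_avg_aux (L : Subgroup G) {χ : G → ℂ} (hχ : IsCharacter G χ) :
    ∃ m : ℕ, ∑ g ∈ Sf L, χ g = (Nat.card L : ℂ) * m := by
  haveI : Fintype L := Fintype.ofFinite L
  obtain ⟨m, hm⟩ := exists_nat_classInner_of_isCharacter (isCharacter_restrict hχ L)
    (isCharacter_one (G := L))
  refine ⟨m, ?_⟩
  unfold classInner at hm
  simp only [Pi.one_apply, map_one, mul_one] at hm
  have h1 : ∑ g ∈ Sf L, χ g = ∑ l : L, χ l := by
    exact Finset.sum_subtype (Sf L) (fun g => mem_Sf) χ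
  rw [h1, ← hm, ← mul_assoc, mul_inv_cancel₀, one_mul]
  exact_mod_cast (Nat.card_pos (α := L)).ne'

theorem sum_split (L Q : Subgroup G) (v : G) (hvL : v ∈ L) (hQL : Q ≤ L) (hv : v ∉ Q)
    (hdec : ∀ l ∈ L, l ∈ Q ∨ v * l ∈ Q) (hv2 : v * v = 1) {M : Type*} [AddCommMonoid M]
    (F : G → M) : ∑ g ∈ Sf L, F g = ∑ r ∈ Sf Q, F r + ∑ r ∈ Sf Q, F (v * r) := by
  have h1 : Sf L = Sf Q ∪ (Sf Q).image (fun r => v * r) := by
    ext g
    simp only [mem_Sf, Finset.mem_union, Finset.mem_image]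
    constructor
    · intro hg
      rcases hdec g hg with h2 | h2
      · exact Or.inl h2
      · exact Or.inr ⟨v * g, h2, by rw [← mul_assoc, hv2, one_mul]⟩
    · rintro (h2 | ⟨r, hr, rfl⟩)
      · exact hQL h2
      · exact L.mul_mem hvL (hQL hr)
  have h2 : Disjoint (Sf Q) ((Sf Q).image (fun r => v * r)) := by
    rw [Finset.disjoint_left]
    intro g hg hg'
    obtain ⟨r, hr, rfl⟩ := Finset.mem_image.1 hg'
    apply hv
    have := Q.mul_mem (mem_Sf.1 hg) (Q.inv_mem (mem_Sf.1 hr))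
    simpa using this
  rw [h1, Finset.sum_union h2, Finset.sum_image (fun a _ b _ hab => mul_left_cancel hab)]

theorem card_split (L Q : Subgroup G) (v : G) (hvL : v ∈ L) (hQL : Q ≤ L) (hv : v ∉ Q)
    (hdec : ∀ l ∈ L, l ∈ Q ∨ v * l ∈ Q) (hv2 : v * v = 1) :
    Nat.card L = 2 * Nat.card Q := by
  have := sum_split L Q v hvL hQL hv hdec hv2 (M := ℕ) (fun _ => 1)
  simp only [Finset.sum_const, smul_eq_mul, mul_one, card_Sf] at this
  omega

omit [Fintype G] in
theorem card_centralizer_conj (x g : G) :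
    Nat.card (Subgroup.centralizer ({x * g * x⁻¹} : Set G)) =
      Nat.card (Subgroup.centralizer ({g} : Set G)) := by
  refine Nat.card_congr (Equiv.subtypeEquiv (MulAut.conj x).symm.toEquiv ?_)
  intro y
  simp only [Subgroup.mem_centralizer_singleton_iff, MulEquiv.toEquiv_eq_coe, EquivLike.coe_coe,
    MulAut.conj_symm_apply]
  constructor
  · intro hy
    calc x⁻¹ * y * x * g = x⁻¹ * (y * (x * g * x⁻¹)) * x := by group
      _ = x⁻¹ * ((x * g * x⁻¹) * y) * x := by rw [hy]
      _ = g * (x⁻¹ * y * x) := by group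
  · intro hy
    calc y * (x * g * x⁻¹) = x * ((x⁻¹ * y * x) * g) * x⁻¹ := by group
      _ = x * (g * (x⁻¹ * y * x)) * x⁻¹ := by rw [hy]
      _ = x * g * x⁻¹ * y := by group

namespace Cfg

variable (h : Cfg P N C t u p)
include h

theorem exists_H : ∃ H : Subgroup G, ∀ g, g ∈ H ↔ g ∈ P ∨ u * g ∈ P := by
  have hu := h.u_inv_eq
  have hconj : ∀ r ∈ P, u * r * u = r⁻¹ := fun r hr => by
    have := h.u_inv r hr
    rwa [hu] at this
  refine ⟨{ carrier := {g | g ∈ P ∨ u * g ∈ P}
            mul_mem' := ?_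
            one_mem' := Or.inl P.one_mem
            inv_mem' := ?_ }, fun g => Iff.rfl⟩
  · rintro a b (ha | ha) (hb | hb)
    · exact Or.inl (P.mul_mem ha hb)
    · refine Or.inr ?_
      have : u * (a * b) = (u * a * u) * (u * b) := by
        calc u * (a * b) = u * a * (u * u) * b := by rw [h.u_sq]; group
          _ = _ := by group
      rw [this, hconj a ha]
      exact P.mul_mem (P.inv_mem ha) hb
    · refine Or.inr ?_
      rw [← mul_assoc]
      exact P.mul_mem ha hb
    · refine Or.inl ?_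
      have : a * b = (u * (u * a) * u) * (u * b) := by
        calc a * b = (u * u) * a * (u * u) * b := by rw [h.u_sq]; group
          _ = _ := by group
      rw [this, hconj _ ha]
      exact P.mul_mem (P.inv_mem ha) hb
  · rintro a (ha | ha)
    · exact Or.inl (P.inv_mem ha)
    · refine Or.inr ?_
      have h1 : u * a⁻¹ = u * (u * a)⁻¹ * u := by
        rw [mul_inv_rev, hu]; simp [mul_assoc, h.u_sq]
      rw [h1, hconj _ (P.inv_mem ha)]
      simpa using ha

theorem exists_param (χ : IrrCharacter G) :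
    ∃ a b : ℤ, (χ : G → ℂ) t = a ∧ ∑ r ∈ Sf P, (χ : G → ℂ) (t * r) = (p : ℂ) * b ∧ Even (a - b) ∧
      ∃ d : ℕ, ∑ c ∈ Sf C, (χ : G → ℂ) c = (2 * p : ℕ) * d := by
  have hcf := isIrr_classFunction χ.2
  have hχ := isCharacter_of_isIrrCharacter χ.2
  obtain ⟨e, he⟩ := exists_nat_avg_aux P hχ
  obtain ⟨d₁, hd₁⟩ := exists_nat_avg_aux C hχ
  obtain ⟨H, hH⟩ := h.exists_H
  obtain ⟨d₂, hd₂⟩ := exists_nat_avg_aux H hχ
  have huH : u ∈ H := (hH u).2 (Or.inr (by rw [h.u_sq]; exact P.one_mem))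
  have hPH : P ≤ H := fun r hr => (hH r).2 (Or.inl hr)
  have huP : u ∉ P := fun hc => h.u_C (h.P_C hc)
  have hdecH : ∀ l ∈ H, l ∈ P ∨ u * l ∈ P := fun l hl => (hH l).1 hl
  have hcardH := card_split H P u huH hPH huP hdecH h.u_sq
  have hsH := sum_split H P u huH hPH huP hdecH h.u_sq (χ : G → ℂ)
  have hsC := sum_split C P t h.t_C h.P_C h.t_notMem_P h.C_dec h.t_sq (χ : G → ℂ)
  rw [h.card_P] at he hcardH
  rw [h.card_C] at hd₁
  rw [hcardH] at hd₂
  have hur : ∀ r ∈ Sf P, (χ : G → ℂ) (u * r) = (χ : G → ℂ) t := by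
    intro r hr
    have hr' := mem_Sf.1 hr
    have h1 : u * r ∈ N := N.mul_mem h.u_N (h.C_N (h.P_C hr'))
    have h2 : u * r ∉ C := fun hc => h.u_C (by simpa using C.mul_mem hc (C.inv_mem (h.P_C hr')))
    have h3 := h.N_sq h1 h2
    have h4 : u * r ≠ 1 := fun hc => h2 (hc ▸ C.one_mem)
    obtain ⟨x, hx⟩ := h.invol _ h4 h3
    rw [hx]
    exact hcf t x
  rw [Finset.sum_congr rfl hur, Finset.sum_const, card_Sf, h.card_P, nsmul_eq_mul, he, hd₂] at hsH
  rw [he, hd₁] at hsC
  have hp0 : (p : ℂ) ≠ 0 := by exact_mod_cast h.p_pos.ne'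
  refine ⟨2 * d₂ - e, 2 * d₁ - e, ?_, ?_, ?_, d₁, hd₁⟩
  · apply mul_left_cancel₀ hp0
    push_cast at hsH ⊢
    linear_combination -hsH
  · push_cast at hsC ⊢
    linear_combination -hsC
  · refine ⟨(d₂ : ℤ) - d₁, ?_⟩
    ring

theorem tr_ne {r : G} (hr : r ∈ P) : t * r ≠ 1 := by
  intro hc
  apply h.t_notMem_P
  have : t = r⁻¹ := eq_inv_of_mul_eq_one_left hc
  rw [this]
  exact P.inv_mem hr

theorem isConj_tr {r s : G} (hr : r ∈ P) (hs : s ∈ P) (hc : IsConj (t * r) (t * s)) :
    s = r ∨ s = r⁻¹ := by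
  obtain ⟨x, hx⟩ := isConj_iff.1 hc
  have hrC := C.mul_mem h.t_C (h.P_C hr)
  have hsC := C.mul_mem h.t_C (h.P_C hs)
  have hxN : x ∈ N := h.TI x _ hrC (h.tr_ne hr) (by rw [hx]; exact hsC)
  by_cases hxC : x ∈ C
  · left
    rw [h.C_comm hxC hrC, mul_inv_cancel_right] at hx
    exact (mul_left_cancel hx).symm
  · right
    have h5 : x * (t * r) * x⁻¹ = (x * t * x⁻¹) * (x * r * x⁻¹) := by group
    rw [h5, h.N_conj_t hxN, h.N_conj_P hxN hxC hr] at hx
    exact (mul_left_cancel hx).symm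

theorem isConj_tr_inv {r : G} (hr : r ∈ P) : IsConj (t * r) (t * r⁻¹) := by
  refine isConj_iff.2 ⟨u, ?_⟩
  have h5 : u * (t * r) * u⁻¹ = (u * t * u⁻¹) * (u * r * u⁻¹) := by group
  rw [h5, h.N_conj_t h.u_N, h.u_inv r hr]

section Char

variable [Fintype (IrrCharacter G)]

theorem sum_col {r : G} (hr : r ∈ P) :
    ∑ s ∈ Sf P, ∑ χ : IrrCharacter G, (χ : G → ℂ) (t * r) * conj ((χ : G → ℂ) (t * s)) =
      ((4 * p : ℕ) : ℂ) := by
  by_cases hr1 : r = 1
  · subst hr1
    rw [Finset.sum_eq_single 1]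
    · rw [column_orth_conj (IsConj.refl _), mul_one, h.centralizer_t, h.card_N]
    · intro s hs hs1
      apply column_orth_not_conj
      intro hc
      rcases h.isConj_tr P.one_mem (mem_Sf.1 hs) hc with h1 | h1
      · exact hs1 h1
      · exact hs1 (by simpa using h1)
    · intro hc
      exact absurd (mem_Sf.2 P.one_mem) hc
  · have hne : r ≠ r⁻¹ := by
      intro hc
      apply hr1
      apply h.P_sq_one hr
      nth_rewrite 1 [hc]
      simp
    have hsub : ({r, r⁻¹} : Finset G) ⊆ Sf P := by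
      intro s hs
      rcases Finset.mem_insert.1 hs with rfl | hs
      · exact mem_Sf.2 hr
      · rw [Finset.mem_singleton.1 hs]
        exact mem_Sf.2 (P.inv_mem hr)
    rw [← Finset.sum_subset hsub]
    · rw [Finset.sum_pair hne, column_orth_conj (IsConj.refl _),
        column_orth_conj (h.isConj_tr_inv hr)]
      have h1 : t * r ≠ t := fun hc => hr1 (by simpa using hc)
      rw [h.centralizer_c (C.mul_mem h.t_C (h.P_C hr)) (h.tr_ne hr) h1, h.card_C]
      push_cast
      ring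
    · intro s hs hs'
      apply column_orth_not_conj
      intro hc
      rcases h.isConj_tr hr (mem_Sf.1 hs) hc with h1 | h1
      · exact hs' (by simp [h1])
      · exact hs' (by simp [h1])

/-- Final contradiction. -/
theorem false_of_cfg : False := by
  classical
  -- the integers attached to each irreducible character
  choose a b ha hb hab hd using h.exists_param
  have hp0 : (p : ℂ) ≠ 0 := by exact_mod_cast h.p_pos.ne'
  have hcard : Nat.card (IrrCharacter G) = Fintype.card (IrrCharacter G) :=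
    Nat.card_eq_fintype_card
  -- sum of squares of `a`
  have hsa : ∑ χ : IrrCharacter G, (a χ) ^ 2 = ((4 * p : ℕ) : ℤ) := by
    have h1 := column_orth_conj (IsConj.refl t)
    rw [h.centralizer_t, h.card_N] at h1
    have h2 : ∀ χ : IrrCharacter G, (χ : G → ℂ) t * conj ((χ : G → ℂ) t) = ((a χ ^ 2 : ℤ) : ℂ) := by
      intro χ
      rw [ha χ, map_intCast]
      push_cast
      ring
    rw [Finset.sum_congr rfl (fun χ _ => h2 χ)] at h1
    exact_mod_cast h1
  -- sum of squares of `b`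
  have hsb : ∑ χ : IrrCharacter G, (b χ) ^ 2 = 4 := by
    have h1 : ∑ r ∈ Sf P, ∑ s ∈ Sf P, ∑ χ : IrrCharacter G,
        (χ : G → ℂ) (t * r) * conj ((χ : G → ℂ) (t * s)) = (p : ℂ) * ((4 * p : ℕ) : ℂ) := by
      rw [Finset.sum_congr rfl (fun r hr => h.sum_col (mem_Sf.1 hr)), Finset.sum_const, card_Sf,
        h.card_P, nsmul_eq_mul]
    have h2 : ∑ r ∈ Sf P, ∑ s ∈ Sf P, ∑ χ : IrrCharacter G,
        (χ : G → ℂ) (t * r) * conj ((χ : G → ℂ) (t * s)) =
        ∑ χ : IrrCharacter G, ((p : ℂ) * (b χ)) * ((p : ℂ) * (b χ)) := by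
      have h3 : ∀ χ : IrrCharacter G, ((p : ℂ) * (b χ)) * ((p : ℂ) * (b χ)) =
          ∑ r ∈ Sf P, ∑ s ∈ Sf P, (χ : G → ℂ) (t * r) * conj ((χ : G → ℂ) (t * s)) := by
        intro χ
        have h4 := hb χ
        have h5 : ∑ s ∈ Sf P, conj ((χ : G → ℂ) (t * s)) = (p : ℂ) * (b χ) := by
          rw [← map_sum, h4, map_mul, Complex.conj_natCast, map_intCast]
        rw [← Finset.sum_mul_sum, h4, h5]
      rw [Finset.sum_congr rfl (fun χ _ => h3 χ)]
      symm
      rw [Finset.sum_comm]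
      refine Finset.sum_congr rfl fun r _ => ?_
      rw [Finset.sum_comm]
    rw [h2] at h1
    have h3 : ∑ χ : IrrCharacter G, ((p : ℂ) * (b χ)) * ((p : ℂ) * (b χ)) =
        ((p : ℂ) * p) * ((∑ χ : IrrCharacter G, (b χ) ^ 2 : ℤ) : ℂ) := by
      push_cast
      rw [Finset.mul_sum]
      refine Finset.sum_congr rfl fun χ _ => ?_
      ring
    rw [h3] at h1
    have h4 : ((∑ χ : IrrCharacter G, (b χ) ^ 2 : ℤ) : ℂ) = 4 := by
      apply mul_left_cancel₀ (mul_ne_zero hp0 hp0)
      rw [h1]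
      push_cast
      ring
    exact_mod_cast h4
  -- `a χ ≠ 0`
  have hn := h.n_eq
  have hG := h.card_G
  have hp3 := h.three_le
  have ha0 : ∀ χ : IrrCharacter G, a χ ≠ 0 := by
    intro χ h0
    obtain ⟨D, hD⟩ := exists_degree_of_isCharacter (isCharacter_of_isIrrCharacter χ.2)
    have hD0 : (D : ℂ) ≠ 0 := hD ▸ irr_apply_one_ne_zero χ.2
    have hD0' : D ≠ 0 := by
      rintro rfl
      simp at hD0
    obtain ⟨d, hd'⟩ := hd χ
    have hid := h.identity χ d hd'
    rw [ha χ, h0, hD] at hid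
    simp only [Int.cast_zero, ne_eq, OfNat.ofNat_ne_zero, not_false_eq_true, zero_pow,
      mul_zero, mul_eq_zero, hD0, false_or] at hid
    obtain ⟨q, hq⟩ : ∃ q, 2 * p = q + 1 := ⟨2 * p - 1, by omega⟩
    rw [hq] at hid
    have hnat : D + (q + 1) * ((q + 1) * d) = (q + 1) * D := by
      have : ((D + (q + 1) * ((q + 1) * d) : ℕ) : ℂ) = (((q + 1) * D : ℕ) : ℂ) := by
        push_cast at hid ⊢
        linear_combination hid
      exact_mod_cast this
    have hdvd : (q + 1) * (q + 1) ∣ q * D := by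
      refine ⟨d, ?_⟩
      have : (q + 1) * D = q * D + D := by ring
      nlinarith
    have hcop : Nat.Coprime ((q + 1) * (q + 1)) q := by
      have h1 : Nat.Coprime (q + 1) q := by simp
      exact Nat.Coprime.mul_left h1 h1
    have hdvd2 : (q + 1) * (q + 1) ∣ D := hcop.dvd_of_dvd_mul_left hdvd
    have hle : (q + 1) * (q + 1) ≤ D := Nat.le_of_dvd (Nat.pos_of_ne_zero hD0') hdvd2
    -- degrees
    have hsq : D ^ 2 ≤ Nat.card G := by
      have h1 := sum_sq_degrees (G := G)
      choose deg hdeg using fun χ : IrrCharacter G =>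
        exists_degree_of_isCharacter (isCharacter_of_isIrrCharacter χ.2)
      have h2 : ∑ χ : IrrCharacter G, (deg χ) ^ 2 = Nat.card G := by
        have : ((∑ χ : IrrCharacter G, (deg χ) ^ 2 : ℕ) : ℂ) = (Nat.card G : ℂ) := by
          rw [← h1]
          push_cast
          exact Finset.sum_congr rfl fun χ _ => by rw [hdeg χ]
        exact_mod_cast this
      have h3 : deg χ = D := by
        have := hdeg χ
        rw [hD] at this
        exact_mod_cast this.symm
      rw [← h2, ← h3]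
      exact Finset.single_le_sum (f := fun χ : IrrCharacter G => (deg χ) ^ 2)
        (fun _ _ => Nat.zero_le _) (Finset.mem_univ χ)
    rw [hG, hn] at hsq
    have hq5 : 5 ≤ q := by omega
    have h4 : 2 * p - 1 = q := by omega
    rw [h4, hq] at hsq
    have h5 : 4 * p = 2 * (q + 1) := by omega
    rw [h5] at hsq
    have h6 : ((q + 1) * (q + 1)) ^ 2 ≤ D ^ 2 := Nat.pow_le_pow_left hle 2
    have h7 := h6.trans hsq
    nlinarith [Nat.zero_le q, mul_self_nonneg (q : ℤ), Nat.mul_le_mul hq5 hq5,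
      Nat.mul_le_mul (Nat.mul_le_mul hq5 hq5) hq5]
  -- number of characters is small
  have hk : 4 * Fintype.card (IrrCharacter G) ≤ 4 * p + 12 := by
    have h1 : ∑ χ : IrrCharacter G, (4 : ℤ) ≤ ∑ χ : IrrCharacter G, ((a χ) ^ 2 + 3 * (b χ) ^ 2) := by
      refine Finset.sum_le_sum fun χ _ => ?_
      have h0 := ha0 χ
      have hpa : 0 < (a χ) ^ 2 := by positivity
      rcases Int.even_or_odd (a χ) with ⟨c, hc⟩ | hodd
      · have hc0 : c ≠ 0 := by
          rintro rfl
          simp at hc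
          exact h0 hc
        have : 0 < c ^ 2 := by positivity
        have h5 : (a χ) ^ 2 = 4 * c ^ 2 := by rw [hc]; ring
        have : 0 ≤ (b χ) ^ 2 := by positivity
        omega
      · have hbodd : Odd (b χ) := by
          have := hab χ
          rw [Int.even_sub'] at this
          exact this.1 hodd
        have hb0 : b χ ≠ 0 := by
          rintro h0'
          rw [h0'] at hbodd
          simp at hbodd
        have : 0 < (b χ) ^ 2 := by positivity
        omega
    rw [Finset.sum_add_distrib, ← Finset.mul_sum, hsa, hsb] at h1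
    simp only [Finset.sum_const, Finset.card_univ, nsmul_eq_mul, Nat.cast_id] at h1
    push_cast at h1
    have : ((4 * Fintype.card (IrrCharacter G) : ℕ) : ℤ) ≤ ((4 * p + 12 : ℕ) : ℤ) := by
      push_cast
      linarith
    exact_mod_cast this
  -- counting classes
  set Ce : G → ℕ := fun g => Nat.card (Subgroup.centralizer ({g} : Set G)) with hCe
  have hconjCe : ∀ x g, Ce (x * g * x⁻¹) = Ce g := fun x g => card_centralizer_conj x g
  have hCs : ∑ c ∈ Cs C, Ce c = 4 * p * p := by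
    have htmem : t ∈ Cs C := mem_Cs.2 ⟨h.t_C, h.t_ne⟩
    rw [← Finset.add_sum_erase (Cs C) Ce htmem]
    have h1 : Ce t = 4 * p := by
      simp only [hCe]
      rw [h.centralizer_t, h.card_N]
    have h2 : ∀ c ∈ (Cs C).erase t, Ce c = 2 * p := by
      intro c hc
      obtain ⟨hct, hc'⟩ := Finset.mem_erase.1 hc
      obtain ⟨hcC, hc1⟩ := mem_Cs.1 hc'
      simp only [hCe]
      rw [h.centralizer_c hcC hc1 hct, h.card_C]
    rw [h1, Finset.sum_congr rfl h2, Finset.sum_const, Finset.card_erase_of_mem htmem, h.card_Cs,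
      smul_eq_mul]
    obtain ⟨w, rfl⟩ : ∃ w, p = w + 1 := ⟨p - 1, by omega⟩
    have : 2 * (w + 1) - 1 - 1 = 2 * w := by omega
    rw [this]
    ring
  have hOm : ∑ g ∈ Om C, Ce g = (Iv G).card * (4 * p * p) := by
    have h1 := h.sum_Om (M := ℕ) Ce hconjCe
    rw [hCs, hG, h.card_N, smul_eq_mul, smul_eq_mul] at h1
    have h2 : 0 < 4 * p := by omega
    apply Nat.eq_of_mul_eq_mul_left h2
    rw [← h1]
    ring
  have htotal : ∑ g : G, Ce g = Fintype.card (IrrCharacter G) * Nat.card G := by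
    have h1 : ((∑ g : G, Ce g : ℕ) : ℂ) =
        ((Fintype.card (IrrCharacter G) * Nat.card G : ℕ) : ℂ) := by
      push_cast
      have h2 : ∀ g : G, (Ce g : ℂ) =
          ∑ χ : IrrCharacter G, (χ : G → ℂ) g * conj ((χ : G → ℂ) g) :=
        fun g => (column_orth_conj (IsConj.refl g)).symm
      rw [Finset.sum_congr rfl (fun g _ => h2 g), Finset.sum_comm]
      have h3 : ∀ χ : IrrCharacter G,
          ∑ g : G, (χ : G → ℂ) g * conj ((χ : G → ℂ) g) = (Nat.card G : ℂ) := by
        intro χ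
        have h4 := classInner_irr_self χ.2
        unfold classInner at h4
        have h5 : (Nat.card G : ℂ) ≠ 0 := by exact_mod_cast (Nat.card_pos (α := G)).ne'
        field_simp at h4
        exact h4
      rw [Finset.sum_congr rfl (fun χ _ => h3 χ), Finset.sum_const, Finset.card_univ, nsmul_eq_mul]
    exact_mod_cast h1
  have hCe1 : Ce 1 = Nat.card G := by
    simp only [hCe]
    have : Subgroup.centralizer ({1} : Set G) = ⊤ := by
      ext x
      simp [Subgroup.mem_centralizer_singleton_iff]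
    rw [this]
    exact Nat.card_congr Subgroup.topEquiv.toEquiv
  have h1Om : (1 : G) ∉ Om C := by
    intro hc
    obtain ⟨x, c, -, hc1, hxc⟩ := mem_Om.1 hc
    apply hc1
    have : c = x⁻¹ * (x * c * x⁻¹) * x := by group
    rw [this, ← hxc]; group
  set Y : Finset G := univ \ insert 1 (Om C) with hY
  have hYsub : insert 1 (Om C) ⊆ (univ : Finset G) := Finset.subset_univ _
  have hsplit : ∑ g ∈ Y, Ce g + (Ce 1 + ∑ g ∈ Om C, Ce g) = ∑ g : G, Ce g := by
    rw [← Finset.sum_insert h1Om, hY]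
    exact Finset.sum_sdiff hYsub
  have hcardY : Y.card + ((Om C).card + 1) = Nat.card G := by
    have h1 := Finset.card_sdiff_add_card_eq_card hYsub
    rw [Finset.card_insert_of_notMem h1Om, Finset.card_univ, ← hY,
      ← Nat.card_eq_fintype_card] at h1
    exact h1
  have hY5 : Y.card • 5 ≤ ∑ g ∈ Y, Ce g := by
    refine Finset.card_nsmul_le_sum _ _ _ fun y hy => ?_
    have hy' := (Finset.mem_sdiff.1 hy).2
    rw [Finset.mem_insert, not_or] at hy'
    obtain ⟨hy1, hyOm⟩ := hy'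
    have h2 : ¬ 2 ∣ orderOf y := fun hc => hyOm (mem_Om.2 (h.om_of_even hc))
    have h3 : ¬ 3 ∣ orderOf y := fun hc => hyOm (mem_Om.2 (h.om_of_three hc))
    have h1' : orderOf y ≠ 1 := fun hc => hy1 (orderOf_eq_one_iff.1 hc)
    have hpos : 0 < orderOf y := orderOf_pos y
    have hge : 5 ≤ orderOf y := by
      by_contra hlt
      have : orderOf y = 2 ∨ orderOf y = 3 ∨ orderOf y = 4 := by omega
      rcases this with h4 | h4 | h4
      · exact h2 (by rw [h4])
      · exact h3 (by rw [h4])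
      · exact h2 (by rw [h4]; norm_num)
    have hmem : y ∈ Subgroup.centralizer ({y} : Set G) :=
      Subgroup.mem_centralizer_singleton_iff.2 rfl
    have hdvd := Subgroup.orderOf_dvd_natCard _ hmem
    exact hge.trans (Nat.le_of_dvd Nat.card_pos hdvd)
  -- arithmetic
  have hO := h.card_Om
  have hnpos := h.n_pos
  set n := (Iv G).card with hndef
  have hX : 3 ≤ p * n := by nlinarith
  obtain ⟨X, hXdef⟩ : ∃ X, X = p * n := ⟨_, rfl⟩
  have hg : Nat.card G = 4 * X := by rw [hG, hXdef]; ring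
  have hO2 : (Om C).card + n = 2 * X := by
    rw [hO, hXdef]
    obtain ⟨w, rfl⟩ : ∃ w, p = w + 1 := ⟨p - 1, by omega⟩
    have : 2 * (w + 1) - 1 = 2 * w + 1 := by omega
    rw [this]
    ring
  have hOm' : ∑ g ∈ Om C, Ce g = 4 * (p * X) := by
    rw [hOm, hXdef]; ring
  have hk' : Fintype.card (IrrCharacter G) ≤ p + 3 := by omega
  have hkX := Nat.mul_le_mul_right X hk'
  rw [hOm', hCe1, hg] at hsplit
  rw [htotal, hg] at hsplit
  rw [hg] at hcardY
  rw [smul_eq_mul] at hY5
  have h8 : Fintype.card (IrrCharacter G) * (4 * X) = 4 * (Fintype.card (IrrCharacter G) * X) := by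
    ring
  have h9 : (p + 3) * X = p * X + 3 * X := by ring
  rw [h8] at hsplit
  rw [h9] at hkX
  rw [← hXdef] at hX
  omega

end Char

end Cfg

end Sums

section Fusion

open Subgroup
open scoped Pointwise

variable {G : Type*} [Group G] [Finite G]

theorem eq_of_card_four (Q : Subgroup G) (hQ : Nat.card Q = 4) {a b c y : G} (ha : a ∈ Q)
    (hb : b ∈ Q) (hc : c ∈ Q) (hy : y ∈ Q) (ha1 : a ≠ 1) (hb1 : b ≠ 1) (hc1 : c ≠ 1)
    (hab : a ≠ b) (hac : a ≠ c) (hbc : b ≠ c) : y = 1 ∨ y = a ∨ y = b ∨ y = c := by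
  classical
  by_contra hcon
  push Not at hcon
  obtain ⟨h1, h2, h3, h4⟩ := hcon
  have hfin : (Q : Set G).Finite := Set.toFinite _
  have hsub : (({y, 1, a, b, c} : Finset G) : Set G) ⊆ (Q : Set G) := by
    intro z hz
    simp only [Finset.coe_insert, Finset.coe_singleton, Set.mem_insert_iff,
      Set.mem_singleton_iff] at hz
    rcases hz with rfl | rfl | rfl | rfl | rfl
    · exact hy
    · exact Q.one_mem
    · exact ha
    · exact hb
    · exact hc
  have hcard : ({y, 1, a, b, c} : Finset G).card = 5 := by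
    rw [Finset.card_insert_of_notMem (by simp [h1, h2, h3, h4]),
      Finset.card_insert_of_notMem (by simp [ha1.symm, hb1.symm, hc1.symm]),
      Finset.card_insert_of_notMem (by simp [hab, hac]), Finset.card_pair hbc]
  have h5 := Set.ncard_le_ncard hsub hfin
  rw [Set.ncard_coe_finset, hcard] at h5
  have h6 : (Q : Set G).ncard = 4 := by
    rw [← hQ]
    exact (Nat.card_coe_set_eq _).symm
  omega

theorem exists_not_centralizer (hS : IsSimpleGroup G) (Q : Sylow 2 G) (hQ : Nat.card Q = 4)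
    (hQtop : (Q : Subgroup G) ≠ ⊤) :
    ∃ x ∈ normalizer ((Q : Subgroup G) : Set G), x ∉ centralizer ((Q : Subgroup G) : Set G) := by
  by_contra hcon
  push Not at hcon
  have hP : normalizer ((Q : Subgroup G) : Set G) ≤ centralizer ((Q : Subgroup G) : Set G) := hcon
  have hcomp := MonoidHom.ker_transferSylow_isComplement' Q hP
  have hcard := hcomp.card_mul_card
  rcases hS.eq_bot_or_eq_top_of_normal _ (MonoidHom.normal_ker (MonoidHom.transferSylow Q hP))
    with h1 | h1
  · rw [h1] at hcard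
    simp only [Subgroup.card_bot, one_mul] at hcard
    exact hQtop (Subgroup.eq_top_of_card_eq _ hcard)
  · rw [h1] at hcard
    rw [Subgroup.card_top, hQ] at hcard
    have : 0 < Nat.card G := Nat.card_pos
    nlinarith

theorem two_el_mem (Q : Sylow 2 G) {y : G} (hy : y ∈ normalizer ((Q : Subgroup G) : Set G))
    (h4 : y ^ 4 = 1) : y ∈ (Q : Subgroup G) := by
  have hP : IsPGroup 2 (zpowers y) := by
    rintro ⟨z, hz⟩
    obtain ⟨n, rfl⟩ := mem_zpowers_iff.1 hz
    refine ⟨2, ?_⟩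
    ext
    simp only [SubmonoidClass.mk_pow, Subgroup.coe_one]
    have h5 : (y ^ n) ^ (2 ^ 2 : ℕ) = (y ^ 4) ^ n := by
      rw [show (2 ^ 2 : ℕ) = 4 by norm_num, ← zpow_natCast, ← zpow_natCast y 4, zpow_comm]
    rw [h5, h4, one_zpow]
  have h1 := hP.inf_normalizer_sylow Q
  have h3 : y ∈ zpowers y ⊓ (Q : Subgroup G) := by
    rw [← h1]
    exact ⟨mem_zpowers y, hy⟩
  exact h3.2

theorem exists_odd_pow (Q : Sylow 2 G) (hQ : Nat.card Q = 4) {x : G}
    (hx : x ∈ normalizer ((Q : Subgroup G) : Set G)) :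
    ∃ d, Odd d ∧ (x ^ d) ^ 4 = 1 := by
  set M := normalizer ((Q : Subgroup G) : Set G) with hM
  have hQM : (Q : Subgroup G) ≤ M := le_normalizer
  have h1 : Nat.card Q ∣ Nat.card M := Subgroup.card_dvd_of_le hQM
  rw [hQ] at h1
  obtain ⟨d, hd⟩ := h1
  have hodd : Odd d := by
    rw [← Nat.not_even_iff_odd]
    rintro ⟨e, rfl⟩
    have h2 : 2 ^ 3 ∣ Nat.card G := by
      have h3 : Nat.card M ∣ Nat.card G := Subgroup.card_subgroup_dvd_card M
      refine dvd_trans ⟨e, ?_⟩ h3
      rw [hd]; ring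
    have h4 := Q.pow_dvd_card_of_pow_dvd_card h2
    rw [hQ] at h4
    norm_num at h4
  refine ⟨d, hodd, ?_⟩
  have h5 : (⟨x, hx⟩ : M) ^ Nat.card M = 1 := pow_card_eq_one'
  have h6 : x ^ Nat.card M = 1 := by
    simpa only [SubmonoidClass.coe_pow, OneMemClass.coe_one] using congrArg Subtype.val h5
  rw [hd] at h6
  rw [← pow_mul, mul_comm]
  exact h6

theorem mem_centralizer_of_sq (Q : Sylow 2 G) (hQ : Nat.card Q = 4)
    (hQab : ∀ a ∈ (Q : Subgroup G), ∀ b ∈ (Q : Subgroup G), a * b = b * a) {x : G}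
    (hx : x ∈ normalizer ((Q : Subgroup G) : Set G))
    (h2 : x * x ∈ centralizer ((Q : Subgroup G) : Set G)) :
    x ∈ centralizer ((Q : Subgroup G) : Set G) := by
  obtain ⟨d, ⟨e, rfl⟩, hd⟩ := exists_odd_pow Q hQ hx
  have h3 : x ^ (2 * e + 1) ∈ (Q : Subgroup G) :=
    two_el_mem Q (Subgroup.pow_mem _ hx _) hd
  have h4 : x ^ (2 * e + 1) ∈ centralizer ((Q : Subgroup G) : Set G) := by
    rw [mem_centralizer_iff]
    intro y hy
    exact hQab y hy _ h3
  have h5 : x = ((x * x) ^ e)⁻¹ * x ^ (2 * e + 1) := by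
    rw [pow_succ, pow_mul, sq]
    group
  rw [h5]
  exact Subgroup.mul_mem _ (Subgroup.inv_mem _ (Subgroup.pow_mem _ h2 _)) h4

/-- All non-identity elements of a Sylow 2-subgroup of order 4 are conjugate (Burnside transfer). -/
theorem fusion_four (hS : IsSimpleGroup G) (Q : Sylow 2 G) (hQ : Nat.card Q = 4)
    (hQtop : (Q : Subgroup G) ≠ ⊤)
    (hQab : ∀ a ∈ (Q : Subgroup G), ∀ b ∈ (Q : Subgroup G), a * b = b * a)
    {t : G} (htQ : t ∈ (Q : Subgroup G)) (ht1 : t ≠ 1) (ht2 : t * t = 1) :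
    ∀ y ∈ (Q : Subgroup G), y ≠ 1 → ∃ x, y = x * t * x⁻¹ := by
  have hmemN : ∀ {x z : G}, x ∈ normalizer ((Q : Subgroup G) : Set G) → z ∈ (Q : Subgroup G) →
      x * z * x⁻¹ ∈ (Q : Subgroup G) := by
    intro x z hx hz
    exact (mem_normalizer_iff.1 hx z).1 hz
  have hconj1 : ∀ {x z : G}, z ≠ 1 → x * z * x⁻¹ ≠ 1 := by
    intro x z hz hc
    apply hz
    have : z = x⁻¹ * (x * z * x⁻¹) * x := by group
    rw [this, hc]; group
  -- Lemma A
  have lemA : ∀ y ∈ normalizer ((Q : Subgroup G) : Set G),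
      y ∉ centralizer ((Q : Subgroup G) : Set G) → y * t * y⁻¹ ≠ t := by
    intro y hy hyC h0
    apply hyC
    apply mem_centralizer_of_sq Q hQ hQab hy
    rw [mem_centralizer_iff]
    intro v hv
    have key : (y * y) * v * (y * y)⁻¹ = v := by
      by_cases hv1 : v = 1
      · rw [hv1]; group
      by_cases hvt : v = t
      · rw [hvt]
        calc y * y * t * (y * y)⁻¹ = y * (y * t * y⁻¹) * y⁻¹ := by group
          _ = t := by rw [h0, h0]
      have hw : y * v * y⁻¹ ∈ (Q : Subgroup G) := hmemN hy hv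
      have hvt1 : v * t ≠ 1 := by
        intro hc
        apply hvt
        have := mul_eq_one_iff_eq_inv.1 hc
        rwa [inv_eq_of_mul_eq_one_left ht2] at this
      rcases eq_of_card_four (Q : Subgroup G) hQ htQ hv (Subgroup.mul_mem _ hv htQ) hw ht1 hv1 hvt1
        (Ne.symm hvt) (by
          intro hc
          apply hv1
          have := congrArg (· * t⁻¹) hc
          simpa using this.symm) (by
          intro hc
          apply ht1
          have := congrArg (v⁻¹ * ·) hc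
          simpa using this.symm) with h1 | h1 | h1 | h1
      · exact absurd h1 (hconj1 hv1)
      · exfalso
        apply hvt
        have h3 : y * v * y⁻¹ = y * t * y⁻¹ := by rw [h1, h0]
        exact mul_left_cancel (mul_right_cancel h3)
      · calc y * y * v * (y * y)⁻¹ = y * (y * v * y⁻¹) * y⁻¹ := by group
          _ = v := by rw [h1, h1]
      · calc y * y * v * (y * y)⁻¹ = y * (y * v * y⁻¹) * y⁻¹ := by group
          _ = y * (v * t) * y⁻¹ := by rw [h1]
          _ = y * v * y⁻¹ * (y * t * y⁻¹) := by group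
          _ = v := by rw [h1, h0, mul_assoc, ht2, mul_one]
    calc v * (y * y) = (y * y) * v * (y * y)⁻¹ * (y * y) := by rw [key]
      _ = (y * y) * v := by group
  obtain ⟨x, hxN, hxC⟩ := exists_not_centralizer hS Q hQ hQtop
  have hxxC : x * x ∉ centralizer ((Q : Subgroup G) : Set G) := fun hc =>
    hxC (mem_centralizer_of_sq Q hQ hQab hxN hc)
  have hxxN : x * x ∈ normalizer ((Q : Subgroup G) : Set G) := Subgroup.mul_mem _ hxN hxN
  have h1 := lemA x hxN hxC
  have h2 := lemA _ hxxN hxxC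
  intro y hy hy1
  have h3 : x * t * x⁻¹ ≠ x * x * t * (x * x)⁻¹ := by
    intro hc
    apply h1
    have h4 : x * t * x⁻¹ = x * (x * t * x⁻¹) * x⁻¹ := by
      calc x * t * x⁻¹ = x * x * t * (x * x)⁻¹ := hc
        _ = _ := by group
    exact (mul_left_cancel (mul_right_cancel h4)).symm
  rcases eq_of_card_four (Q : Subgroup G) hQ htQ (hmemN hxN htQ) (hmemN hxxN htQ) hy ht1
      (hconj1 ht1) (hconj1 ht1) (Ne.symm h1) (Ne.symm h2) h3 with h4 | h4 | h4 | h4
  · exact absurd h4 hy1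
  · exact ⟨1, by rw [h4]; group⟩
  · exact ⟨x, h4⟩
  · exact ⟨x * x, h4⟩

theorem dec_of_card_two (A B : Subgroup G) (hAB : A ≤ B) (hc : Nat.card B = 2 * Nat.card A) :
    (A.subgroupOf B).index = 2 := by
  have h1 := Subgroup.card_mul_index (A.subgroupOf B)
  have h2 : Nat.card (A.subgroupOf B) = Nat.card A :=
    Nat.card_congr (Subgroup.subgroupOfEquivOfLe hAB).toEquiv
  rw [h2, hc] at h1
  have hA : 0 < Nat.card A := Nat.card_pos
  nlinarith [Nat.mul_left_cancel hA (by linarith : Nat.card A * (A.subgroupOf B).index = Nat.card A * 2)]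

theorem mem_or_mul_mem (A B : Subgroup G) (hAB : A ≤ B) (hc : Nat.card B = 2 * Nat.card A)
    {v w : G} (hv : v ∈ B) (hvA : v ∉ A) (hw : w ∈ B) : w ∈ A ∨ v * w ∈ A := by
  by_cases hwA : w ∈ A
  · exact Or.inl hwA
  · right
    have h1 := Subgroup.mul_mem_iff_of_index_two (dec_of_card_two A B hAB hc)
      (a := (⟨v, hv⟩ : B)) (b := ⟨w, hw⟩)
    have h2 : ((⟨v, hv⟩ : B) * ⟨w, hw⟩ : B) ∈ A.subgroupOf B := by
      rw [h1]
      simp only [Subgroup.mem_subgroupOf]
      exact ⟨fun h => absurd h hvA, fun h => absurd h hwA⟩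
    exact Subgroup.mem_subgroupOf.1 h2

theorem sq_mem (A B : Subgroup G) (hAB : A ≤ B) (hc : Nat.card B = 2 * Nat.card A)
    {w : G} (hw : w ∈ B) : w * w ∈ A := by
  have h1 := Subgroup.mul_mem_iff_of_index_two (dec_of_card_two A B hAB hc)
      (a := (⟨w, hw⟩ : B)) (b := ⟨w, hw⟩)
  have h2 : ((⟨w, hw⟩ : B) * ⟨w, hw⟩ : B) ∈ A.subgroupOf B := by
    rw [h1]
  exact Subgroup.mem_subgroupOf.1 h2

/-- From the hypotheses of the theorem to the configuration `Cfg`. -/
theorem exists_cfg (P₁ : Sylow 3 G) (hab : IsMulCommutative P₁)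
    (hN : Nat.card (normalizer ((P₁ : Subgroup G) : Set G)) = 4 * Nat.card (P₁ : Subgroup G))
    (hC : Nat.card (centralizer ((P₁ : Subgroup G) : Set G)) = 2 * Nat.card (P₁ : Subgroup G))
    (hTI : Cfsg.IsTISubset (centralizer ((P₁ : Subgroup G) : Set G) : Set G))
    (heven : ∀ H : Subgroup G, H ≠ ⊤ → 2 ∣ Nat.card H → Nat.card H ∣ 4 * Nat.card (P₁ : Subgroup G))
    (hS : IsSimpleGroup G) :
    ∃ t u : G, Cfg (P₁ : Subgroup G) (normalizer ((P₁ : Subgroup G) : Set G))
      (centralizer ((P₁ : Subgroup G) : Set G)) t u (Nat.card (P₁ : Subgroup G)) := by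
  classical
  set P : Subgroup G := (P₁ : Subgroup G) with hPdef
  set N := normalizer (P : Set G) with hNdef
  set C := centralizer (P : Set G) with hCdef
  set p := Nat.card P with hpdef
  have hcommP : ∀ r ∈ P, ∀ s ∈ P, r * s = s * r := by
    intro r hr s hs
    have := hab.is_comm.comm (⟨r, hr⟩ : P₁) ⟨s, hs⟩
    exact congrArg Subtype.val this
  have hPC : P ≤ C := fun r hr => mem_centralizer_iff.2 (fun s hs => hcommP s hs r hr)
  have hCN : C ≤ N := by
    intro x hx
    rw [hNdef, mem_normalizer_iff]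
    intro h
    constructor
    · intro hh
      have h1 : h * x = x * h := mem_centralizer_iff.1 hx h hh
      rw [← h1]; simpa using hh
    · intro hh
      have h1 : (x * h * x⁻¹) * x = x * (x * h * x⁻¹) := mem_centralizer_iff.1 hx _ hh
      have h2 : h = x * h * x⁻¹ := by
        have h3 : x * h = x * (x * h * x⁻¹) := by
          calc x * h = (x * h * x⁻¹) * x := by group
            _ = _ := h1
        exact mul_left_cancel h3
      rw [h2]; exact hh
  have hp0 : 0 < p := Nat.card_pos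
  have hNC : ¬ N ≤ C := by
    intro hle
    have : N = C := le_antisymm hle hCN
    rw [this] at hN
    omega
  obtain ⟨a, ha⟩ := IsPGroup.iff_card.1 P₁.isPGroup'
  have ha' : p = 3 ^ a := ha
  have hp1 : p ≠ 1 := by
    intro h1
    apply hNC
    intro x _
    have hb : P = ⊥ := Subgroup.eq_bot_of_card_eq _ h1
    rw [hCdef, mem_centralizer_iff]
    intro s hs
    have hs' : s ∈ P := hs
    rw [hb, Subgroup.mem_bot] at hs'
    rw [hs']; simp
  have ha0 : a ≠ 0 := by
    rintro rfl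
    exact hp1 (by simpa using ha')
  have hodd : Odd p := by
    rw [ha']
    exact Odd.pow (by decide)
  have hp3 : 3 ≤ p := by
    have : 3 ^ 1 ≤ 3 ^ a := Nat.pow_le_pow_right (by norm_num) (Nat.pos_of_ne_zero ha0)
    omega
  have hpow : ∀ r ∈ P, r ^ p = 1 := by
    intro r hr
    have h5 : (⟨r, hr⟩ : P) ^ Nat.card P = 1 := pow_card_eq_one'
    simpa only [SubmonoidClass.coe_pow, OneMemClass.coe_one] using congrArg Subtype.val h5
  have hsq1 : ∀ r ∈ P, r * r = 1 → r = 1 := by
    intro r hr h2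
    obtain ⟨m, hm⟩ := hodd
    have := hpow r hr
    rw [hm, pow_succ, pow_mul, sq, h2, one_pow, one_mul] at this
    exact this
  -- the involution `t`
  haveI : Fact (Nat.Prime 2) := ⟨Nat.prime_two⟩
  have h2C : 2 ∣ Nat.card C := ⟨p, hC⟩
  obtain ⟨x₀, hx₀⟩ := exists_prime_orderOf_dvd_card' (G := C) 2 h2C
  obtain ⟨t, htC⟩ := x₀
  have hordt : orderOf t = 2 := by
    rw [← hx₀]
    exact (Subgroup.orderOf_mk t htC).symm
  have ht2 : t * t = 1 := by
    rw [← sq, ← hordt]
    exact pow_orderOf_eq_one t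
  have ht1 : t ≠ 1 := by
    rintro rfl
    simp at hordt
  have htP : t ∉ P := fun h => ht1 (hsq1 t h ht2)
  have htinv : t⁻¹ = t := inv_eq_of_mul_eq_one_left ht2
  have hCdec : ∀ c ∈ C, c ∈ P ∨ t * c ∈ P := fun c hc => mem_or_mul_mem P C hPC hC htC htP hc
  have htcomm : ∀ r ∈ P, t * r = r * t := fun r hr => (mem_centralizer_iff.1 htC r hr).symm
  have hCform : ∀ c ∈ C, ∃ r ∈ P, c = r ∨ c = t * r := by
    intro c hc
    rcases hCdec c hc with h1 | h1
    · exact ⟨c, h1, Or.inl rfl⟩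
    · refine ⟨t * c, h1, Or.inr ?_⟩
      rw [← mul_assoc, ht2, one_mul]
  have hCinvol : ∀ c ∈ C, c ≠ 1 → c * c = 1 → c = t := by
    intro c hc h1 h2
    obtain ⟨r, hr, h3 | h3⟩ := hCform c hc
    · rw [h3] at h1 h2
      exact absurd (hsq1 r hr h2) h1
    · have : r * r = 1 := by
        have h4 : t * r * (t * r) = t * t * (r * r) := by
          calc t * r * (t * r) = t * (r * t) * r := by group
            _ = t * (t * r) * r := by rw [htcomm r hr]
            _ = t * t * (r * r) := by group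
        rw [h3, h4, ht2, one_mul] at h2
        exact h2
      rw [h3, hsq1 r hr this, mul_one]
  have htpow : t ^ p = t := by
    obtain ⟨m, hm⟩ := hodd
    rw [hm, pow_succ, pow_mul, sq, ht2, one_pow, one_mul]
  have hCpow : ∀ y ∈ C, y ^ p = 1 → y ∈ P := by
    intro y hy hyp
    rcases hCdec y hy with h1 | h1
    · exact h1
    · exfalso
      have h2 : y = t * (t * y) := by rw [← mul_assoc, ht2, one_mul]
      have h3 : Commute t (t * y) := htcomm _ h1
      have h4 : y ^ p = t := by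
        rw [h2, h3.mul_pow, htpow, hpow _ h1, mul_one]
      rw [hyp] at h4
      exact ht1 h4.symm
  have hNconjC : ∀ x ∈ N, ∀ c ∈ C, x * c * x⁻¹ ∈ C := by
    intro x hx c hc
    rw [hCdef, mem_centralizer_iff]
    intro s hs
    have hs' : x⁻¹ * s * x ∈ P := by
      have := (mem_normalizer_iff.1 (N.inv_mem hx) s).1 hs
      simpa using this
    have h1 : (x⁻¹ * s * x) * c = c * (x⁻¹ * s * x) := mem_centralizer_iff.1 hc _ hs'
    calc s * (x * c * x⁻¹) = x * ((x⁻¹ * s * x) * c) * x⁻¹ := by group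
      _ = x * (c * (x⁻¹ * s * x)) * x⁻¹ := by rw [h1]
      _ = x * c * x⁻¹ * s := by group
  have hconj1 : ∀ {x z : G}, z ≠ 1 → x * z * x⁻¹ ≠ 1 := by
    intro x z hz hc
    apply hz
    have : z = x⁻¹ * (x * z * x⁻¹) * x := by group
    rw [this, hc]; group
  have hNt1 : ∀ x ∈ N, x * t * x⁻¹ = t := by
    intro x hx
    refine hCinvol _ (hNconjC x hx t htC) (hconj1 ht1) ?_
    have : (x * t * x⁻¹) * (x * t * x⁻¹) = x * (t * t) * x⁻¹ := by group
    rw [this, ht2]; group
  have hnonab : ¬ ∀ a b : G, a * b = b * a := by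
    intro hc
    apply hNC
    intro x _
    rw [hCdef, mem_centralizer_iff]
    intro s _
    exact hc s x
  -- the centralizer of `t`
  have hCt : centralizer ({t} : Set G) = N := by
    have hle : N ≤ centralizer ({t} : Set G) := by
      intro x hx
      rw [mem_centralizer_singleton_iff]
      have := hNt1 x hx
      calc x * t = (x * t * x⁻¹) * x := by group
        _ = t * x := by rw [this]
    have htop : centralizer ({t} : Set G) ≠ ⊤ := by
      intro hc
      apply hnonab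
      have hcen : t ∈ center G := by
        rw [Subgroup.mem_center_iff]
        intro g
        have : g ∈ centralizer ({t} : Set G) := by rw [hc]; trivial
        exact mem_centralizer_singleton_iff.1 this
      rcases hS.eq_bot_or_eq_top_of_normal (center G) inferInstance with h1 | h1
      · rw [h1, Subgroup.mem_bot] at hcen
        exact absurd hcen ht1
      · intro a b
        have : a ∈ center G := by rw [h1]; trivial
        exact (Subgroup.mem_center_iff.1 this b).symm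
    have h2 : 2 ∣ Nat.card (centralizer ({t} : Set G)) := by
      rw [← hordt]
      exact Subgroup.orderOf_dvd_natCard _ (mem_centralizer_singleton_iff.2 rfl)
    have h3 := heven _ htop h2
    have h4 := Nat.le_of_dvd (by omega) h3
    rw [← hN] at h4
    exact (Subgroup.eq_of_le_of_card_ge hle h4).symm
  have hNt : ∀ x : G, x * t = t * x ↔ x ∈ N := by
    intro x
    rw [← hCt, mem_centralizer_singleton_iff]
  -- the TI property
  have hTI' : ∀ x c : G, c ∈ C → c ≠ 1 → x * c * x⁻¹ ∈ C → x ∈ N := by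
    intro x c hc hc1 hxc
    have hx : x ∈ normalizer (C : Set G) := by
      by_contra h
      exact hc1 (hTI x h c hc hxc)
    have step : ∀ y ∈ normalizer (C : Set G), ∀ r ∈ P, y * r * y⁻¹ ∈ P := by
      intro y hy r hr
      refine hCpow _ ((mem_normalizer_iff.1 hy r).1 (hPC hr)) ?_
      rw [conj_pow, hpow r hr]
      group
    rw [hNdef, mem_normalizer_iff]
    intro h
    refine ⟨step x hx h, fun hh => ?_⟩
    have := step x⁻¹ (Subgroup.inv_mem _ hx) _ hh
    simpa [mul_assoc] using this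
  -- the Sylow 2-subgroup
  have hzp : IsPGroup 2 (zpowers t) := by
    apply IsPGroup.of_card (n := 1)
    rw [Nat.card_zpowers, hordt, pow_one]
  obtain ⟨Q, hQ⟩ := hzp.exists_le_sylow
  have htQ : t ∈ (Q : Subgroup G) := hQ (mem_zpowers t)
  obtain ⟨m, hm⟩ := IsPGroup.iff_card.1 Q.isPGroup'
  have hQtop : (Q : Subgroup G) ≠ ⊤ := by
    intro hc
    have h1 : Nat.card G = 2 ^ m := by
      rw [← hm, hc]; exact Subgroup.card_top.symm
    have h2 : p ∣ Nat.card G := Subgroup.card_subgroup_dvd_card P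
    rw [h1, ha'] at h2
    have h3 : 3 ∣ 2 ^ m := (dvd_pow_self 3 ha0).trans h2
    have := Nat.Prime.dvd_of_dvd_pow Nat.prime_three h3
    omega
  have hQ2 : 2 ∣ Nat.card (Q : Subgroup G) := by
    have := Subgroup.orderOf_dvd_natCard _ htQ
    rwa [hordt] at this
  have hQdvd := heven _ hQtop hQ2
  have hcop : Nat.Coprime (Nat.card (Q : Subgroup G)) p := by
    rw [hm, ha']
    exact Nat.Coprime.pow _ _ (by norm_num)
  have hQ4 : Nat.card (Q : Subgroup G) ∣ 4 := hcop.dvd_of_dvd_mul_right hQdvd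
  have hGQ : 2 ^ 2 ∣ Nat.card G := by
    have h1 : Nat.card N ∣ Nat.card G := Subgroup.card_subgroup_dvd_card N
    rw [hN] at h1
    exact dvd_trans ⟨p, rfl⟩ h1
  have hQ4' := Q.pow_dvd_card_of_pow_dvd_card hGQ
  have hQcard : Nat.card (Q : Subgroup G) = 4 := Nat.dvd_antisymm hQ4 hQ4'
  have hQab : ∀ a ∈ (Q : Subgroup G), ∀ b ∈ (Q : Subgroup G), a * b = b * a := by
    intro a ha b hb
    have h1 : Nat.card (Q : Subgroup G) = 2 ^ 2 := hQcard
    have h2 := (IsPGroup.isMulCommutative_of_card_eq_prime_sq h1).is_comm.comm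
      (⟨a, ha⟩ : (Q : Subgroup G)) ⟨b, hb⟩
    exact congrArg Subtype.val h2
  have hfus := fusion_four hS Q hQcard hQtop hQab htQ ht1 ht2
  have hQN : (Q : Subgroup G) ≤ N := by
    intro y hy
    exact (hNt y).1 (hQab y hy t htQ)
  -- all involutions are conjugate to `t`
  have hinvol : ∀ i : G, i ≠ 1 → i * i = 1 → ∃ x, i = x * t * x⁻¹ := by
    intro i hi1 hi2
    have hordi : orderOf i = 2 := by
      apply orderOf_eq_prime _ hi1
      rw [sq, hi2]
    have hzi : IsPGroup 2 (zpowers i) := by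
      apply IsPGroup.of_card (n := 1)
      rw [Nat.card_zpowers, hordi, pow_one]
    obtain ⟨Q', hQ'⟩ := hzi.exists_le_sylow
    obtain ⟨g, hg⟩ := Cfsg.Agent.Lib.Basic.SylowUtil.exists_conj_smul_eq Q Q'
    have hiQ' : i ∈ MulAut.conj g • (Q : Subgroup G) := by
      rw [hg]; exact hQ' (mem_zpowers i)
    obtain ⟨y, hy, hyi⟩ := Subgroup.mem_smul_pointwise_iff_exists _ _ _ |>.1 hiQ'
    have hyi' : i = g * y * g⁻¹ := by
      rw [← hyi]; rfl
    have hy1 : y ≠ 1 := by
      rintro rfl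
      apply hi1
      rw [hyi']; group
    obtain ⟨x, hx⟩ := hfus y hy hy1
    exact ⟨g * x, by rw [hyi', hx]; group⟩
  -- elements of order 3
  have hthree : ∀ r : G, orderOf r = 3 → ∃ x y : G, y ∈ P ∧ r = x * y * x⁻¹ := by
    intro r hr
    have hzr : IsPGroup 3 (zpowers r) := by
      apply IsPGroup.of_card (n := 1)
      rw [Nat.card_zpowers, hr, pow_one]
    haveI : Fact (Nat.Prime 3) := ⟨Nat.prime_three⟩
    obtain ⟨Q', hQ'⟩ := hzr.exists_le_sylow
    obtain ⟨g, hg⟩ := Cfsg.Agent.Lib.Basic.SylowUtil.exists_conj_smul_eq P₁ Q'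
    have hiQ' : r ∈ MulAut.conj g • (P₁ : Subgroup G) := by
      rw [hg]; exact hQ' (mem_zpowers r)
    obtain ⟨y, hy, hyi⟩ := Subgroup.mem_smul_pointwise_iff_exists _ _ _ |>.1 hiQ'
    exact ⟨g, y, hy, by rw [← hyi]; rfl⟩
  -- the element `u`
  have hlt : zpowers t < (Q : Subgroup G) := by
    refine lt_of_le_of_ne hQ ?_
    intro hc
    rw [← hc, Nat.card_zpowers, hordt] at hQcard
    omega
  obtain ⟨u, huQ, huz⟩ := SetLike.exists_of_lt hlt
  have hu1 : u ≠ 1 := by
    rintro rfl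
    exact huz (Subgroup.one_mem _)
  have hut : u ≠ t := by
    rintro rfl
    exact huz (mem_zpowers u)
  obtain ⟨x₁, hx₁⟩ := hfus u huQ hu1
  have husq : u * u = 1 := by
    have : (x₁ * t * x₁⁻¹) * (x₁ * t * x₁⁻¹) = x₁ * (t * t) * x₁⁻¹ := by group
    rw [hx₁, this, ht2]; group
  have huN : u ∈ N := hQN huQ
  have huC : u ∉ C := fun hc => hut (hCinvol u hc hu1 husq)
  have huinv : u⁻¹ = u := inv_eq_of_mul_eq_one_left husq
  -- `N = C ∪ uC`
  have hNdec : ∀ w ∈ N, w ∈ C ∨ u * w ∈ C := by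
    intro w hw
    refine mem_or_mul_mem C N hCN ?_ huN huC hw
    rw [hN, hC]; ring
  have hNcard2 : Nat.card N = 2 * Nat.card C := by
    rw [hN, hC]; ring
  have hNpow : ∀ y ∈ N, y ^ p = 1 → y ∈ P := by
    intro y hy hyp
    refine hCpow y ?_ hyp
    obtain ⟨k, hk⟩ := hodd
    have h1 := sq_mem C N hCN hNcard2 hy
    have h2 : y = (y * y) ^ (k + 1) := by
      have h3 : (y * y) ^ (k + 1) = y ^ p * y := by
        rw [hk, ← sq, ← pow_mul, ← pow_succ]
        congr 1
      rw [h3, hyp, one_mul]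
    rw [h2]
    exact Subgroup.pow_mem _ h1 _
  have hfix : ∀ r ∈ P, u * r = r * u → r = 1 := by
    intro r hr hur
    by_contra hr1
    have hy : x₁⁻¹ * r * x₁ ∈ N := by
      apply (hNt _).1
      have h5 : r * (x₁ * t * x₁⁻¹) = (x₁ * t * x₁⁻¹) * r := by
        rw [← hx₁]; exact hur.symm
      calc x₁⁻¹ * r * x₁ * t = x₁⁻¹ * (r * (x₁ * t * x₁⁻¹)) * x₁ := by group
        _ = x₁⁻¹ * ((x₁ * t * x₁⁻¹) * r) * x₁ := by rw [h5]
        _ = t * (x₁⁻¹ * r * x₁) := by group
    have hyP : x₁⁻¹ * r * x₁ ∈ P := by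
      apply hNpow _ hy
      have h6 := conj_pow (a := x₁⁻¹) (b := r) (i := p)
      simp only [inv_inv] at h6
      rw [h6, hpow r hr]
      group
    have hxN : x₁ ∈ N := by
      apply hTI' x₁ (x₁⁻¹ * r * x₁) (hPC hyP)
      · intro hc
        apply hr1
        have : r = x₁ * (x₁⁻¹ * r * x₁) * x₁⁻¹ := by group
        rw [this, hc]; group
      · have : x₁ * (x₁⁻¹ * r * x₁) * x₁⁻¹ = r := by group
        rw [this]; exact hPC hr
    apply hut
    rw [hx₁, hNt1 x₁ hxN]
  have hinv : ∀ r ∈ P, u * r * u⁻¹ = r⁻¹ := by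
    intro r hr
    have h1 : u * r * u⁻¹ ∈ P := (mem_normalizer_iff.1 huN r).1 hr
    have h2 : u * (r * (u * r * u⁻¹)) = (r * (u * r * u⁻¹)) * u := by
      rw [huinv] at h1 ⊢
      have h3 := hcommP r hr _ h1
      calc u * (r * (u * r * u)) = (u * r * u) * ((u * u) * r) * u := by
            rw [husq]; group
        _ = (u * r * u) * r * u := by rw [husq]; group
        _ = r * (u * r * u) * u := by rw [← h3]
    have h3 := hfix _ (P.mul_mem hr h1) h2
    exact (eq_inv_of_mul_eq_one_right h3)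
  -- the condition on products of involutions
  have heven' : ∀ g : G, g ≠ 1 → (∃ i j : G, i * i = 1 ∧ j * j = 1 ∧ g = i * j) →
      2 ∣ orderOf g ∨ 3 ∣ orderOf g := by
    rintro g hg1 ⟨i, j, hi, hj, hgij⟩
    by_cases hi1 : i = 1
    · left
      have : g = j := by rw [hgij, hi1, one_mul]
      have h2 : orderOf g = 2 := by
        apply orderOf_eq_prime _ hg1
        rw [sq, this, hj]
      rw [h2]
    have hiinv : i⁻¹ = i := inv_eq_of_mul_eq_one_left hi
    have hjinv : j⁻¹ = j := inv_eq_of_mul_eq_one_left hj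
    have hgconj : i * g * i⁻¹ = g⁻¹ := by
      rw [hiinv, hgij, mul_inv_rev, hiinv, hjinv]
      calc i * (i * j) * i = (i * i) * j * i := by group
        _ = j * i := by rw [hi, one_mul]
    have hconjz : ∀ h ∈ zpowers g, i * h * i⁻¹ ∈ zpowers g := by
      intro h hh
      obtain ⟨n, rfl⟩ := mem_zpowers_iff.1 hh
      rw [← conj_zpow, hgconj]
      exact Subgroup.zpow_mem _ (Subgroup.inv_mem _ (mem_zpowers g)) _
    have hiL : i ∈ normalizer ((zpowers g : Subgroup G) : Set G) := by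
      rw [mem_normalizer_iff]
      intro h
      refine ⟨hconjz h, fun hh => ?_⟩
      have := hconjz _ hh
      rw [hiinv] at this
      have h7 : i * (i * h * i) * i = h := by
        calc i * (i * h * i) * i = (i * i) * h * (i * i) := by group
          _ = h := by rw [hi]; group
      rw [h7] at this
      exact this
    have hLtop : normalizer ((zpowers g : Subgroup G) : Set G) ≠ ⊤ := by
      intro hc
      have hnorm : (zpowers g).Normal := normalizer_eq_top_iff.1 hc
      rcases hS.eq_bot_or_eq_top_of_normal _ hnorm with h1 | h1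
      · exact hg1 (Subgroup.zpowers_eq_bot.1 h1)
      · apply hnonab
        intro a b
        have ha : a ∈ zpowers g := by rw [h1]; trivial
        have hb : b ∈ zpowers g := by rw [h1]; trivial
        obtain ⟨n, rfl⟩ := mem_zpowers_iff.1 ha
        obtain ⟨k, rfl⟩ := mem_zpowers_iff.1 hb
        rw [← zpow_add, ← zpow_add, add_comm]
    have hordi : orderOf i = 2 := by
      apply orderOf_eq_prime _ hi1
      rw [sq, hi]
    have hL2 : 2 ∣ Nat.card (normalizer ((zpowers g : Subgroup G) : Set G)) := by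
      rw [← hordi]
      exact Subgroup.orderOf_dvd_natCard _ hiL
    have hLdvd := heven _ hLtop hL2
    have hgL : g ∈ normalizer ((zpowers g : Subgroup G) : Set G) :=
      Subgroup.le_normalizer (mem_zpowers g)
    have hord : orderOf g ∣ 4 * p :=
      (Subgroup.orderOf_dvd_natCard _ hgL).trans hLdvd
    have hord1 : orderOf g ≠ 1 := fun hc => hg1 (orderOf_eq_one_iff.1 hc)
    have hq := Nat.minFac_prime hord1
    have hqd := Nat.minFac_dvd (orderOf g)
    have hq2 := hqd.trans hord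
    rw [ha', show 4 = 2 ^ 2 by norm_num] at hq2
    rcases (Nat.Prime.dvd_mul hq).1 hq2 with h3 | h3
    · left
      have := (Nat.prime_dvd_prime_iff_eq hq Nat.prime_two).1 (hq.dvd_of_dvd_pow h3)
      rw [this] at hqd
      exact hqd
    · right
      have := (Nat.prime_dvd_prime_iff_eq hq Nat.prime_three).1 (hq.dvd_of_dvd_pow h3)
      rw [this] at hqd
      exact hqd
  refine ⟨t, u, ?_⟩
  exact
    { card_P := rfl
      odd_p := hodd
      three_le := hp3
      card_C := hC
      card_N := hN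
      t_ne := ht1
      t_sq := ht2
      t_C := htC
      P_C := hPC
      C_N := hCN
      P_pow := hpow
      C_dec := hCdec
      t_comm := htcomm
      P_comm := hcommP
      N_dec := hNdec
      u_N := huN
      u_C := huC
      u_sq := husq
      u_inv := hinv
      N_t := hNt
      TI := hTI'
      invol := hinvol
      three := hthree
      even := heven' }

end Fusion

/-- Let G be a finite group with an abelian Sylow 3-subgroup P such that the normalizer of P has order 4·#P, the centralizer C of P has order 2·#P, C meets each of its conjugates by elements outside its normalizer trivially, and every proper subgroup of G of even order has order dividing 4·#P. Then G is not simple. -/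
theorem result {G : Type*} [Group G] [Finite G]
    (P : Sylow 3 G) (hab : IsMulCommutative P)
    (hN : Nat.card (Subgroup.normalizer ((P : Subgroup G) : Set G)) = 4 * Nat.card P)
    (hC : Nat.card (Subgroup.centralizer (P : Set G)) = 2 * Nat.card P)
    (hTI : Cfsg.IsTISubset (Subgroup.centralizer (P : Set G) : Set G))
    (heven : ∀ H : Subgroup G, H ≠ ⊤ → 2 ∣ Nat.card H → Nat.card H ∣ 4 * Nat.card P) :
    ¬ IsSimpleGroup G := by
  intro hS
  classical
  haveI : Fintype G := Fintype.ofFinite G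
  haveI : Fintype (IrrCharacter G) := Fintype.ofFinite _
  obtain ⟨t, u, hcfg⟩ := exists_cfg P hab hN hC hTI heven hS
  exact hcfg.false_of_cfg

end Cfsg.Agent.S4018
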