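import Cfsg.Statements.S4020
import Mathlib
import Cfsg.Agent.S4023
import Cfsg.Agent.S4024
import Cfsg.Agent.S0205
import Cfsg.Agent.S0215
import Cfsg.Agent.Lib.Baer.TwoOrbit2
import Cfsg.Agent.Lib.Solvable.PSeries

set_option autoImplicit false
open Cfsg

namespace Cfsg.Agent.S4020

open Subgroup
open scoped Pointwise

section cube

variable {R : Type*} [Group R] [Finite R] {p : ℕ} [hp : Fact p.Prime]

/-- A nonabelian group of order `p³` has centre of order `p` and all commutators central. -/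
theorem center_of_card_cube (hc : Nat.card R = p ^ 3) (hn : ¬ ∀ a b : R, a * b = b * a) :
    Nat.card (Subgroup.center R) = p ∧ ∀ a b : R, a * b * a⁻¹ * b⁻¹ ∈ Subgroup.center R := by
  have hpg : IsPGroup p R := IsPGroup.of_card hc
  haveI : Nontrivial R := by
    rw [← Finite.one_lt_card_iff_nontrivial, hc]
    exact Nat.one_lt_pow (by norm_num) hp.out.one_lt
  haveI : Nontrivial (Subgroup.center R) := hpg.center_nontrivial
  have hdvd : Nat.card (Subgroup.center R) ∣ p ^ 3 := hc ▸ Subgroup.card_subgroup_dvd_card _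
  obtain ⟨i, hi, hci⟩ := (Nat.dvd_prime_pow hp.out).1 hdvd
  have hqcard : Nat.card (R ⧸ Subgroup.center R) * Nat.card (Subgroup.center R) = p ^ 3 := by
    rw [← hc, ← Subgroup.index_eq_card, Subgroup.index_mul_card]
  have hi0 : i ≠ 0 := by
    rintro rfl
    have : Nat.card (Subgroup.center R) = 1 := by simpa using hci
    have h1 := Finite.one_lt_card (α := Subgroup.center R)
    omega
  have hpos : 0 < p := hp.out.pos
  have hi1 : i = 1 := by
    by_contra hne
    apply hn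
    have hi' : i = 2 ∨ i = 3 := by omega
    have hq : Nat.card (R ⧸ Subgroup.center R) = p ^ (3 - i) := by
      rw [hci] at hqcard
      have : p ^ 3 = p ^ (3 - i) * p ^ i := by rw [← pow_add]; congr 1; omega
      rw [this] at hqcard
      exact Nat.eq_of_mul_eq_mul_right (pow_pos hpos i) hqcard
    haveI : IsCyclic (R ⧸ Subgroup.center R) := by
      rcases hi' with rfl | rfl
      · haveI : Fact (Nat.card (R ⧸ Subgroup.center R)).Prime := ⟨by rw [hq]; simpa using hp.out⟩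
        exact isCyclic_of_prime_card rfl
      · have : Nat.card (R ⧸ Subgroup.center R) = 1 := by simpa using hq
        haveI := (Nat.card_eq_one_iff_unique.1 this).1
        infer_instance
    exact commutative_of_cyclic_center_quotient (QuotientGroup.mk' (Subgroup.center R))
      (by rw [QuotientGroup.ker_mk'])
  subst hi1
  refine ⟨by simpa using hci, fun a b => ?_⟩
  have hq : Nat.card (R ⧸ Subgroup.center R) = p ^ 2 := by
    rw [hci] at hqcard
    have : p ^ 3 = p ^ 2 * p ^ 1 := by rw [← pow_add]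
    rw [this] at hqcard
    exact Nat.eq_of_mul_eq_mul_right (pow_pos hpos 1) hqcard
  letI := IsPGroup.commGroupOfCardEqPrimeSq hq
  have hcomm : (QuotientGroup.mk (a * b * a⁻¹ * b⁻¹) : R ⧸ Subgroup.center R) = 1 := by
    simp only [QuotientGroup.mk_mul, QuotientGroup.mk_inv]
    have h2 : (QuotientGroup.mk a : R ⧸ Subgroup.center R) * (QuotientGroup.mk b) =
        (QuotientGroup.mk b) * (QuotientGroup.mk a) := mul_comm _ _
    rw [h2]
    group
  exact (QuotientGroup.eq_one_iff _).1 hcomm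

end cube

variable {G : Type*} [Group G] [Finite G] {p : ℕ} [hp : Fact p.Prime]

/-- If a Sylow `p`-subgroup is nonabelian of order `p³` and exponent `p` and all subgroups of
order `p` are conjugate, some element of `G` squares to an element inverting an element of
order `p`. -/
theorem exists_inverting
    (hC : ∀ H K : Subgroup G, IsPGroup p H → IsPGroup p K → Nat.card H = Nat.card K →
      ∃ g : G, K = H.map (MulAut.conj g).toMonoidHom) (P : Sylow p G)
    (hnc : ¬ IsMulCommutative P) (hcard : Nat.card P = p ^ 3) (hexp : Monoid.exponent P = p) :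
    ∃ y b : G, orderOf y = p ∧ (b * b) * y * (b * b)⁻¹ = y⁻¹ := by
  classical
  set Q : Subgroup G := (P : Subgroup G) with hQ
  have hpgQ : IsPGroup p Q := P.isPGroup'
  have hn : ¬ ∀ a b : Q, a * b = b * a := fun h => hnc ⟨⟨h⟩⟩
  obtain ⟨hZ, hcom⟩ := center_of_card_cube (R := Q) hcard hn
  push Not at hn
  obtain ⟨a₀, y₀, hay⟩ := hn
  have hpow : ∀ x : Q, x ^ p = 1 := fun x => by
    have := Monoid.pow_exponent_eq_one x
    rwa [hexp] at this
  have hord : ∀ x : Q, x ≠ 1 → orderOf (x : G) = p := fun x hx => by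
    apply orderOf_eq_prime
    · have := congrArg (Subtype.val) (hpow x)
      simpa using this
    · simpa using hx
  -- the commutator
  set z₀ : Q := a₀ * y₀ * a₀⁻¹ * y₀⁻¹ with hz₀
  have hz₀c : z₀ ∈ Subgroup.center Q := hcom a₀ y₀
  have hz₀1 : z₀ ≠ 1 := by
    intro h
    apply hay
    have : a₀ * y₀ * a₀⁻¹ = y₀ := by
      rw [hz₀] at h
      exact mul_inv_eq_one.1 h
    calc a₀ * y₀ = a₀ * y₀ * a₀⁻¹ * a₀ := by group
      _ = y₀ * a₀ := by rw [this]
  have hy₀1 : y₀ ≠ 1 := by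
    rintro rfl
    simp at hay
  set y : G := (y₀ : G) with hy
  set z : G := (z₀ : G) with hz
  set a : G := (a₀ : G) with ha
  have hyQ : y ∈ Q := y₀.2
  have hzQ : z ∈ Q := z₀.2
  have haQ : a ∈ Q := a₀.2
  have hoy : orderOf y = p := hord y₀ hy₀1
  have hoz : orderOf z = p := hord z₀ hz₀1
  have hzcomm : ∀ x ∈ Q, x * z = z * x := fun x hx => by
    have := (Subgroup.mem_center_iff.1 hz₀c) ⟨x, hx⟩
    exact congrArg Subtype.val this
  have hayz : a * y * a⁻¹ = z * y := by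
    rw [hz, hz₀]
    simp only [hy, ha, Subgroup.coe_mul, Subgroup.coe_inv]
    group
  have hazz : a * z * a⁻¹ = z := by
    rw [hzcomm a haQ]
    group
  have hyzc : y * z = z * y := hzcomm y hyQ
  -- conjugating ⟨z⟩ onto ⟨y⟩
  have hpz : IsPGroup p (zpowers z) := hpgQ.to_le (zpowers_le.2 hzQ)
  have hpy : IsPGroup p (zpowers y) := hpgQ.to_le (zpowers_le.2 hyQ)
  obtain ⟨g, hg⟩ := hC (zpowers z) (zpowers y) hpz hpy
    (by rw [Nat.card_zpowers, Nat.card_zpowers, hoz, hoy])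
  have hygz : ∃ m : ℤ, g * z ^ m * g⁻¹ = y := by
    have : y ∈ (zpowers z).map (MulAut.conj g).toMonoidHom := hg ▸ mem_zpowers y
    obtain ⟨w, hw, hwy⟩ := Subgroup.mem_map.1 this
    obtain ⟨m, rfl⟩ := mem_zpowers_iff.1 hw
    exact ⟨m, by simpa [MulAut.conj_apply] using hwy⟩
  obtain ⟨m, hm⟩ := hygz
  -- the Sylow subgroup P' = gPg⁻¹ centralizes y
  set P' : Sylow p G := g • P with hP'
  have hP'mem : ∀ x, x ∈ (P' : Subgroup G) ↔ g⁻¹ * x * g ∈ Q := by
    intro x
    rw [hP', Sylow.coe_subgroup_smul, Subgroup.mem_smul_pointwise_iff_exists]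
    constructor
    · rintro ⟨w, hw, rfl⟩
      simpa [MulAut.conj_apply, mul_assoc] using hw
    · intro h
      exact ⟨_, h, by simp [MulAut.conj_apply, mul_assoc]⟩
  have hyP' : ∀ x ∈ (P' : Subgroup G), x * y = y * x := by
    intro x hx
    have h1 := (hP'mem x).1 hx
    have h2 : Commute (g⁻¹ * x * g) (z ^ m) := by
      apply Commute.zpow_right
      exact hzcomm _ h1
    have h3 : (g⁻¹ * x * g) * z ^ m = z ^ m * (g⁻¹ * x * g) := h2
    rw [← hm]
    calc x * (g * z ^ m * g⁻¹) = g * ((g⁻¹ * x * g) * z ^ m) * g⁻¹ := by group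
      _ = g * (z ^ m * (g⁻¹ * x * g)) * g⁻¹ := by rw [h3]
      _ = g * z ^ m * g⁻¹ * x := by group
  -- work in the centralizer of y
  set C : Subgroup G := Subgroup.centralizer ({y} : Set G) with hCdef
  have hmemC : ∀ x, x ∈ C ↔ x * y = y * x := by
    intro x
    rw [hCdef, Subgroup.mem_centralizer_singleton_iff]
  have hp1 : IsPGroup p ((P' : Subgroup G).subgroupOf C) :=
    P'.isPGroup'.comap_of_injective C.subtype C.subtype_injective
  have hp2 : IsPGroup p (Q.subgroupOf C) :=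
    hpgQ.comap_of_injective C.subtype C.subtype_injective
  obtain ⟨S₂, hS₂⟩ := hp1.exists_le_sylow
  obtain ⟨S₁, hS₁⟩ := hp2.exists_le_sylow
  obtain ⟨c, hc⟩ := MulAction.exists_smul_eq C S₂ S₁
  -- the image of S₂ is P'
  have hS₂P' : (S₂ : Subgroup C).map C.subtype = (P' : Subgroup G) := by
    apply P'.is_maximal' (S₂.isPGroup'.map C.subtype)
    intro x hx
    have hxC : x ∈ C := (hmemC x).2 (hyP' x hx)
    exact ⟨⟨x, hxC⟩, hS₂ (by simpa [Subgroup.mem_subgroupOf] using hx), rfl⟩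
  set c' : G := (c : G) with hc'
  have hc'C : c' * y = y * c' := (hmemC _).1 c.2
  -- elements of Q ∩ C lie in c' P' c'⁻¹
  have hQC : ∀ x ∈ Q, x ∈ C → c'⁻¹ * x * c' ∈ (P' : Subgroup G) := by
    intro x hxQ hxC
    have h1 : (⟨x, hxC⟩ : C) ∈ S₁ := hS₁ (by simpa [Subgroup.mem_subgroupOf] using hxQ)
    rw [← hc] at h1
    have h2 : c⁻¹ * ⟨x, hxC⟩ * c ∈ (S₂ : Subgroup C) := by
      have h1' : (⟨x, hxC⟩ : C) ∈ MulAut.conj c • (S₂ : Subgroup C) := h1
      obtain ⟨w, hw, hwx⟩ := Subgroup.mem_smul_pointwise_iff_exists _ _ _ |>.1 h1'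
      have : w = c⁻¹ * ⟨x, hxC⟩ * c := by
        rw [← hwx]
        simp [MulAut.conj_apply, mul_assoc]
      rwa [← this]
    rw [← hS₂P']
    exact ⟨_, h2, rfl⟩
  have hzC : z ∈ C := (hmemC z).2 hyzc.symm
  have hyC : y ∈ C := (hmemC y).2 rfl
  -- transport everything to Q via h = c' g
  set h : G := c' * g with hh
  have hyc : c'⁻¹ * y * c' = y := by
    calc c'⁻¹ * y * c' = c'⁻¹ * (y * c') := by group
      _ = c'⁻¹ * (c' * y) := by rw [hc'C]
      _ = y := by group
  have hmemQ : ∀ x ∈ Q, x ∈ C → h⁻¹ * x * h ∈ Q := by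
    intro x hxQ hxC
    have := (hP'mem _).1 (hQC x hxQ hxC)
    have he : h⁻¹ * x * h = g⁻¹ * (c'⁻¹ * x * c') * g := by rw [hh]; group
    rwa [he]
  have hy'Q : h⁻¹ * y * h ∈ Q := hmemQ y hyQ hyC
  have hz'Q : h⁻¹ * z * h ∈ Q := hmemQ z hzQ hzC
  -- y' is central in Q
  have hy'c : ∀ x ∈ Q, x * (h⁻¹ * y * h) = (h⁻¹ * y * h) * x := by
    intro x hx
    have h1 : g * x * g⁻¹ ∈ (P' : Subgroup G) := by
      rw [hP'mem]
      simpa [mul_assoc] using hx
    have h2 := hyP' _ h1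
    have h3 : (c' * (g * x * g⁻¹) * c'⁻¹) * y = y * (c' * (g * x * g⁻¹) * c'⁻¹) := by
      have h4 : c' * (g * x * g⁻¹) * c'⁻¹ * y = c' * ((g * x * g⁻¹) * (c'⁻¹ * y * c')) * c'⁻¹ := by group
      rw [h4, hyc, h2]
      have h5 : c' * (y * (g * x * g⁻¹)) * c'⁻¹ = (c' * y) * (g * x * g⁻¹) * c'⁻¹ := by group
      rw [h5, hc'C]
      group
    have h6 : h * x * h⁻¹ = c' * (g * x * g⁻¹) * c'⁻¹ := by rw [hh]; group
    rw [← h6] at h3
    calc x * (h⁻¹ * y * h) = h⁻¹ * ((h * x * h⁻¹) * y) * h := by group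
      _ = h⁻¹ * (y * (h * x * h⁻¹)) * h := by rw [h3]
      _ = (h⁻¹ * y * h) * x := by group
  set y'₀ : Q := ⟨h⁻¹ * y * h, hy'Q⟩ with hy'₀
  set z'₀ : Q := ⟨h⁻¹ * z * h, hz'Q⟩ with hz'₀
  have hy'₀c : y'₀ ∈ Subgroup.center Q := by
    rw [Subgroup.mem_center_iff]
    intro x
    exact Subtype.ext (hy'c x x.2)
  have hy'₀1 : y'₀ ≠ 1 := by
    intro h0
    have h1 : h⁻¹ * y * h = 1 := congrArg Subtype.val h0
    have h2 : y = 1 := by
      have : y = h * (h⁻¹ * y * h) * h⁻¹ := by group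
      rw [this, h1]
      group
    exact hy₀1 (Subtype.ext h2)
  -- the centre of Q is generated by y'₀
  have hZgen : ∀ w ∈ Subgroup.center Q, ∃ k : ℕ, w = y'₀ ^ k := by
    intro w hw
    haveI : Fact (Nat.card (Subgroup.center Q)).Prime := ⟨by rw [hZ]; exact hp.out⟩
    have hy1 : (⟨y'₀, hy'₀c⟩ : Subgroup.center Q) ≠ 1 := by
      intro h0
      exact hy'₀1 (congrArg Subtype.val h0)
    have hgen := mem_zpowers_of_prime_card (g := (⟨y'₀, hy'₀c⟩ : Subgroup.center Q))
      (g' := (⟨w, hw⟩ : Subgroup.center Q)) (h := rfl) hy1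
    have hfin : IsOfFinOrder (⟨y'₀, hy'₀c⟩ : Subgroup.center Q) := isOfFinOrder_of_finite _
    have hp' := (hfin.mem_powers_iff_mem_zpowers).2 hgen
    obtain ⟨k, hk⟩ := hp'
    refine ⟨k, ?_⟩
    have := congrArg Subtype.val hk
    simpa using this.symm
  -- y is not central in Q
  have hynotcomm : a * y ≠ y * a := by
    intro h0
    exact hay (Subtype.ext h0)
  have hz'₀nc : z'₀ ∉ Subgroup.center Q := by
    intro hc0
    obtain ⟨k, hk⟩ := hZgen _ hc0
    have h1 : h⁻¹ * z * h = (h⁻¹ * y * h) ^ k := by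
      have := congrArg Subtype.val hk
      simpa using this
    have h2 : z = y ^ k := by
      have h3 : (h⁻¹ * y * h) ^ k = h⁻¹ * y ^ k * h := by
        have := conj_pow (a := h⁻¹) (b := y) (i := k)
        simpa using this
      rw [h3] at h1
      have := mul_left_cancel (mul_right_cancel h1)
      exact this
    -- so y ∈ ⟨z⟩ and y is central
    have hk0 : Nat.Coprime k p := by
      rw [Nat.coprime_comm, hp.out.coprime_iff_not_dvd]
      intro hd
      have : y ^ k = 1 := by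
        rw [← hoy] at hd
        exact orderOf_dvd_iff_pow_eq_one.1 hd
      rw [this] at h2
      rw [h2, orderOf_one] at hoz
      exact hp.out.ne_one hoz.symm
    have hyz : y ∈ zpowers z := by
      rw [h2]
      obtain ⟨m', -, hm'⟩ := Nat.exists_mul_mod_eq_one_of_coprime hk0 hp.out.one_lt
      refine ⟨(m' : ℤ), ?_⟩
      have h5 : (y ^ k) ^ m' = y := by
        rw [← pow_mul, ← pow_mod_orderOf, hoy, hm', pow_one]
      simpa using h5
    obtain ⟨t, ht⟩ := mem_zpowers_iff.1 hyz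
    apply hynotcomm
    rw [← ht]
    exact (show Commute a (z ^ t) from Commute.zpow_right (hzcomm a haQ) t)
  rw [Subgroup.mem_center_iff] at hz'₀nc
  push Not at hz'₀nc
  obtain ⟨a'₀, ha'⟩ := hz'₀nc
  -- the commutator in the centre
  set d : Q := a'₀ * z'₀ * a'₀⁻¹ * z'₀⁻¹ with hd
  obtain ⟨k, hk⟩ := hZgen d (hcom _ _)
  have hd1 : d ≠ 1 := by
    intro h0
    apply ha'
    have h1 : a'₀ * z'₀ * a'₀⁻¹ = z'₀ := mul_inv_eq_one.1 h0
    calc a'₀ * z'₀ = a'₀ * z'₀ * a'₀⁻¹ * a'₀ := by group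
      _ = z'₀ * a'₀ := by rw [h1]
  have hk0 : Nat.Coprime p k := by
    rw [hp.out.coprime_iff_not_dvd]
    intro hdv
    apply hd1
    rw [hk]
    obtain ⟨t, rfl⟩ := hdv
    rw [pow_mul, hpow, one_pow]
  set a₁ : G := h * (a'₀ : G) * h⁻¹ with ha₁
  have ha₁y : a₁ * y = y * a₁ := by
    have h1 := hy'c (a'₀ : G) a'₀.2
    calc a₁ * y = h * ((a'₀ : G) * (h⁻¹ * y * h)) * h⁻¹ := by rw [ha₁]; group
      _ = h * ((h⁻¹ * y * h) * (a'₀ : G)) * h⁻¹ := by rw [h1]
      _ = y * a₁ := by rw [ha₁]; group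
  have ha₁z : a₁ * z * a₁⁻¹ = y ^ k * z := by
    have h1 : (a'₀ : G) * (h⁻¹ * z * h) * (a'₀ : G)⁻¹ * (h⁻¹ * z * h)⁻¹ = (h⁻¹ * y * h) ^ k := by
      have := congrArg Subtype.val hk
      simpa [hd, hz'₀, hy'₀] using this
    have h3 : (h⁻¹ * y * h) ^ k = h⁻¹ * y ^ k * h := by
      have := conj_pow (a := h⁻¹) (b := y) (i := k)
      simpa using this
    rw [h3] at h1
    have h4 : (a'₀ : G) * (h⁻¹ * z * h) * (a'₀ : G)⁻¹ = h⁻¹ * y ^ k * h * (h⁻¹ * z * h) :=
      mul_inv_eq_iff_eq_mul.1 h1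
    calc a₁ * z * a₁⁻¹ = h * ((a'₀ : G) * (h⁻¹ * z * h) * (a'₀ : G)⁻¹) * h⁻¹ := by rw [ha₁]; group
      _ = h * (h⁻¹ * y ^ k * h * (h⁻¹ * z * h)) * h⁻¹ := by rw [h4]
      _ = y ^ k * z := by group
  -- normalise
  obtain ⟨r, hr⟩ : ∃ r : ℕ, (r * k) % p = p - 1 := by
    have hp1 : 1 < p := hp.out.one_lt
    obtain ⟨m', -, hm'⟩ := Nat.exists_mul_mod_eq_one_of_coprime hk0.symm hp1
    refine ⟨m' * (p - 1), ?_⟩
    have : m' * (p - 1) * k = (k * m') * (p - 1) := by ring
    rw [this, Nat.mul_mod, hm', one_mul, Nat.mod_mod]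
    exact Nat.mod_eq_of_lt (by omega)
  have hpowz : ∀ n : ℕ, a₁ ^ n * z * (a₁ ^ n)⁻¹ = y ^ (n * k) * z := by
    intro n
    induction n with
    | zero => simp
    | succ n ih =>
      have hcy : Commute a₁ (y ^ (n * k)) := Commute.pow_right ha₁y _
      calc a₁ ^ (n + 1) * z * (a₁ ^ (n + 1))⁻¹
          = a₁ * (a₁ ^ n * z * (a₁ ^ n)⁻¹) * a₁⁻¹ := by rw [pow_succ']; group
        _ = a₁ * (y ^ (n * k) * z) * a₁⁻¹ := by rw [ih]
        _ = y ^ (n * k) * (a₁ * z * a₁⁻¹) := by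
              have := hcy.eq
              calc a₁ * (y ^ (n * k) * z) * a₁⁻¹ = (a₁ * y ^ (n * k)) * z * a₁⁻¹ := by group
                _ = (y ^ (n * k) * a₁) * z * a₁⁻¹ := by rw [this]
                _ = _ := by group
        _ = y ^ (n * k) * (y ^ k * z) := by rw [ha₁z]
        _ = y ^ ((n + 1) * k) * z := by rw [add_mul, one_mul, pow_add]; group
  set a₂ : G := a₁ ^ r with ha₂
  have ha₂y : a₂ * y = y * a₂ := (Commute.pow_left ha₁y r).eq
  have hyinv : y ^ (r * k) = y⁻¹ := by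
    have h1 : y ^ (r * k) = y ^ ((r * k) % p) := by
      rw [← hoy, pow_mod_orderOf]
    rw [h1, hr]
    have h2 : y ^ (p - 1) * y = 1 := by
      rw [← pow_succ, Nat.sub_add_cancel hp.out.one_le, ← hoy, pow_orderOf_eq_one]
    exact eq_inv_of_mul_eq_one_left h2
  have ha₂z : a₂ * z * a₂⁻¹ = y⁻¹ * z := by
    rw [ha₂, hpowz, hyinv]
  refine ⟨y, a * a₂ * a, hoy, ?_⟩
  have hby : (a * a₂ * a) * y * (a * a₂ * a)⁻¹ = z := by
    have h1 : a₂ * y * a₂⁻¹ = y := by rw [ha₂y]; group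
    calc (a * a₂ * a) * y * (a * a₂ * a)⁻¹
        = a * (a₂ * (a * y * a⁻¹) * a₂⁻¹) * a⁻¹ := by group
      _ = a * (a₂ * (z * y) * a₂⁻¹) * a⁻¹ := by rw [hayz]
      _ = a * ((a₂ * z * a₂⁻¹) * (a₂ * y * a₂⁻¹)) * a⁻¹ := by group
      _ = a * ((y⁻¹ * z) * y) * a⁻¹ := by rw [ha₂z, h1]
      _ = a * z * a⁻¹ := by
          have : y⁻¹ * z * y = z := by
            calc y⁻¹ * z * y = y⁻¹ * (z * y) := by group
              _ = y⁻¹ * (y * z) := by rw [hyzc]
              _ = z := by group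
          rw [this]
      _ = z := hazz
  have hbz : (a * a₂ * a) * z * (a * a₂ * a)⁻¹ = y⁻¹ := by
    calc (a * a₂ * a) * z * (a * a₂ * a)⁻¹
        = a * (a₂ * (a * z * a⁻¹) * a₂⁻¹) * a⁻¹ := by group
      _ = a * (a₂ * z * a₂⁻¹) * a⁻¹ := by rw [hazz]
      _ = a * (y⁻¹ * z) * a⁻¹ := by rw [ha₂z]
      _ = (a * y * a⁻¹)⁻¹ * (a * z * a⁻¹) := by group
      _ = (z * y)⁻¹ * z := by rw [hayz, hazz]
      _ = y⁻¹ := by group
  calc ((a * a₂ * a) * (a * a₂ * a)) * y * ((a * a₂ * a) * (a * a₂ * a))⁻¹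
      = (a * a₂ * a) * ((a * a₂ * a) * y * (a * a₂ * a)⁻¹) * (a * a₂ * a)⁻¹ := by group
    _ = (a * a₂ * a) * z * (a * a₂ * a)⁻¹ := by rw [hby]
    _ = y⁻¹ := hbz

theorem q8_facts : ∀ x : QuaternionGroup 2, x ^ 4 = 1 ∧ (x ^ 2 = 1 → x = 1 ∨ x = QuaternionGroup.a 2) := by
  decide

/-- The extraspecial case does not occur. -/
theorem not_extraspecial
    (hD : ∀ p : ℕ, p.Prime → ∀ H K : Subgroup G, IsPGroup p H → IsPGroup p K → Nat.card H = Nat.card K →
      ∃ g : G, K = H.map (MulAut.conj g).toMonoidHom) (P : Sylow p G) (hp2 : p ≠ 2)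
    (hnc : ¬ IsMulCommutative P) (hcard : Nat.card P = p ^ 3) (hexp : Monoid.exponent P = p) : False := by
  classical
  obtain ⟨y, b, hoy, hby⟩ := exists_inverting (hD p hp.out) P hnc hcard hexp
  have hy2 : y ≠ y⁻¹ := by
    intro h
    have h1 : y * y = 1 := by
      nth_rewrite 2 [h]
      group
    have h2 : y ^ 2 = 1 := by rw [pow_two, h1]
    have h3 := orderOf_dvd_of_pow_eq_one h2
    rw [hoy] at h3
    exact hp2 ((Nat.prime_dvd_prime_iff_eq hp.out Nat.prime_two).1 h3)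
  -- the 2-part of b
  obtain ⟨m, n, hn, hmn⟩ := Nat.exists_eq_two_pow_mul_odd (orderOf_pos b).ne'
  set τ : G := b ^ n with hτ
  have hτ2 : IsPGroup 2 (zpowers τ) := by
    have h1 : τ ^ (2 ^ m) = 1 := by
      rw [hτ, ← pow_mul, mul_comm, ← hmn, pow_orderOf_eq_one]
    have h2 : orderOf τ ∣ 2 ^ m := orderOf_dvd_of_pow_eq_one h1
    obtain ⟨i, -, hi⟩ := (Nat.dvd_prime_pow Nat.prime_two).1 h2
    exact IsPGroup.of_card (n := i) (by rw [Nat.card_zpowers, hi])
  -- τ² inverts y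
  have hcn : ∀ t : ℕ, (b * b) ^ (2 * t + 1) * y * ((b * b) ^ (2 * t + 1))⁻¹ = y⁻¹ := by
    intro t
    have hby' : (b * b) * y⁻¹ * (b * b)⁻¹ = y := by
      have : (b * b) * y⁻¹ * (b * b)⁻¹ = ((b * b) * y * (b * b)⁻¹)⁻¹ := conj_inv.symm
      rw [this, hby, inv_inv]
    induction t with
    | zero => simpa using hby
    | succ t ih =>
      have : 2 * (t + 1) + 1 = 2 + (2 * t + 1) := by ring
      rw [this, pow_add]
      calc (b * b) ^ 2 * (b * b) ^ (2 * t + 1) * y * ((b * b) ^ 2 * (b * b) ^ (2 * t + 1))⁻¹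
          = (b * b) ^ 2 * ((b * b) ^ (2 * t + 1) * y * ((b * b) ^ (2 * t + 1))⁻¹) * ((b * b) ^ 2)⁻¹ := by group
        _ = (b * b) * ((b * b) * y⁻¹ * (b * b)⁻¹) * (b * b)⁻¹ := by rw [ih, pow_two, mul_inv_rev]; simp only [mul_assoc]
        _ = y⁻¹ := by rw [hby', hby]
  set e : G := τ * τ with he
  have hey : e * y * e⁻¹ = y⁻¹ := by
    obtain ⟨t, rfl⟩ := hn
    have h1 : e = (b * b) ^ (2 * t + 1) := by
      rw [he, hτ, (Commute.refl b).mul_pow]
    rw [h1]
    exact hcn t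
  have he1 : e ≠ 1 := by
    intro h0
    rw [h0] at hey
    apply hy2
    simpa using hey
  -- a Sylow 2-subgroup containing τ
  haveI : Fact (Nat.Prime 2) := ⟨Nat.prime_two⟩
  obtain ⟨T, hT⟩ := hτ2.exists_le_sylow
  have hτT : τ ∈ (T : Subgroup G) := hT (mem_zpowers τ)
  have hNex : ∃ N : Subgroup G, N.Normal ∧ Odd (Nat.card N) ∧ y ∈ N := by
    rcases Cfsg.Agent.S4023.result (p := 2) (hD 2 Nat.prime_two) T with hcyc | hel | ⟨-, ⟨φ⟩⟩ | ⟨h, -⟩
    · obtain ⟨N, hNn, hNc, hNq⟩ := Cfsg.Agent.Lib.Baer.TwoOrbit.normal_complement_of_cyclic T hcyc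
      refine ⟨N, hNn, ?_, ?_⟩
      · exact Nat.coprime_two_right.1 hNc
      · have h1 := (IsPGroup.iff_orderOf.1 hNq) (QuotientGroup.mk y)
        obtain ⟨i, hi⟩ := h1
        have h2 : orderOf (QuotientGroup.mk y : G ⧸ N) ∣ orderOf y :=
          orderOf_map_dvd (QuotientGroup.mk' N) y
        rw [hi, hoy] at h2
        have hi0 : i = 0 := by
          by_contra hne
          have : 2 ∣ p := (dvd_pow_self 2 hne).trans h2
          exact hp2 ((Nat.prime_dvd_prime_iff_eq Nat.prime_two hp.out).1 this).symm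
        subst hi0
        have : orderOf (QuotientGroup.mk y : G ⧸ N) = 1 := by simpa using hi
        have h3 : (QuotientGroup.mk y : G ⧸ N) = 1 := orderOf_eq_one_iff.1 this
        exact (QuotientGroup.eq_one_iff y).1 h3
    · exfalso
      have := hel.2 τ hτT
      apply he1
      rw [he, ← pow_two]
      exact this
    · -- quaternion
      have hfact : ∀ (x : G) (hx : x ∈ (T : Subgroup G)), x ^ 4 = 1 ∧ (x ^ 2 = 1 → x = 1 ∨ φ ⟨x, hx⟩ = QuaternionGroup.a 2) := by
        intro x hx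
        have h1 := q8_facts (φ ⟨x, hx⟩)
        constructor
        · have h2 : φ (⟨x, hx⟩ ^ 4) = 1 := by rw [map_pow, h1.1]
          have h3 : (⟨x, hx⟩ : (T : Subgroup G)) ^ 4 = 1 := by simpa using h2
          simpa using congrArg Subtype.val h3
        · intro h4
          have h5 : (⟨x, hx⟩ : (T : Subgroup G)) ^ 2 = 1 := Subtype.ext (by simpa using h4)
          have h6 : φ ⟨x, hx⟩ ^ 2 = 1 := by rw [← map_pow, h5, map_one]
          rcases h1.2 h6 with h7 | h7
          · left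
            have h8 : (⟨x, hx⟩ : (T : Subgroup G)) = 1 := by simpa using h7
            simpa using congrArg Subtype.val h8
          · exact Or.inr h7
      have heT : e ∈ (T : Subgroup G) := (T : Subgroup G).mul_mem hτT hτT
      have he2 : e ^ 2 = 1 := by
        have := (hfact τ hτT).1
        rw [he, pow_two]
        calc τ * τ * (τ * τ) = τ ^ 4 := by simp only [pow_succ, pow_zero, one_mul, mul_assoc]
          _ = 1 := this
      have heo : orderOf e = 2 := orderOf_eq_prime he2 he1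
      have hiso : ∀ g : G, g * e * g⁻¹ ∈ (T : Subgroup G) → g * e * g⁻¹ = e := by
        intro g hg
        have h1 : (g * e * g⁻¹) ^ 2 = 1 := by
          have := conj_pow (a := g) (b := e) (i := 2)
          rw [this, he2]
          group
        have hne : g * e * g⁻¹ ≠ 1 := by
          intro h0
          apply he1
          have : e = g⁻¹ * (g * e * g⁻¹) * g := by group
          rw [this, h0]
          group
        have hφ1 := ((hfact _ hg).2 h1).resolve_left hne
        have hφ2 := ((hfact e heT).2 he2).resolve_left he1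
        have : (⟨g * e * g⁻¹, hg⟩ : (T : Subgroup G)) = ⟨e, heT⟩ := φ.injective (hφ1.trans hφ2.symm)
        exact congrArg Subtype.val this
      obtain ⟨N, hNn, hNo, hNc⟩ := Cfsg.Agent.S0215.result T e heo heT hiso
      refine ⟨N, hNn, hNo, ?_⟩
      have h1 : y⁻¹ * y⁻¹ ∈ N := by
        have := hNc y
        rwa [hey] at this
      -- y has odd order p
      obtain ⟨t, ht⟩ := hp.out.odd_of_ne_two hp2
      have h2 : y ^ (2 * t + 1) = 1 := by rw [← ht, ← hoy, pow_orderOf_eq_one]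
      have h3 : (y⁻¹ * y⁻¹) ^ t = y := by
        have h4 : y⁻¹ * y⁻¹ = (y ^ 2)⁻¹ := by rw [pow_two]; group
        rw [h4, inv_pow, ← pow_mul]
        rw [pow_succ] at h2
        exact (eq_inv_of_mul_eq_one_right h2).symm
      rw [← h3]
      exact N.pow_mem h1 t
    · exact absurd rfl h
  obtain ⟨N, hNn, hNo, hyN⟩ := hNex
  haveI := hNn
  have hsol : Group.IsSolvable N := Cfsg.Agent.S0205.result hNo
  have hps : Cfsg.IsPSolvable p N := Cfsg.Agent.Lib.Solvable.PSeries.isPSolvable_of_solvable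
  have hdiv : p ∣ Nat.card N := by
    have := orderOf_dvd_natCard (⟨y, hyN⟩ : N)
    rwa [Subgroup.orderOf_mk, hoy] at this
  exact hnc (Cfsg.Agent.S4024.result hp2 (hD p hp.out) P N hps hdiv).1

/-- Let G be a finite group in which, for every prime p, any two p-subgroups of the same order are conjugate. Then every Sylow subgroup of G is cyclic, elementary abelian, or a quaternion group of order 8. -/
theorem result {G : Type*} [Group G] [Finite G]
    (hD : ∀ p : ℕ, p.Prime → ∀ H K : Subgroup G, IsPGroup p H → IsPGroup p K → Nat.card H = Nat.card K →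
      ∃ g : G, K = H.map (MulAut.conj g).toMonoidHom) {p : ℕ} [Fact p.Prime] (P : Sylow p G) :
    IsCyclic P ∨ Cfsg.IsElementaryAbelian p (P : Subgroup G) ∨ Nonempty ((P : Subgroup G) ≃* QuaternionGroup 2) := by
  rcases Cfsg.Agent.S4023.result (hD p Fact.out) P with h | h | ⟨-, h⟩ | ⟨h2, hnc, hcard, hexp⟩
  · exact Or.inl h
  · exact Or.inr (Or.inl h)
  · exact Or.inr (Or.inr h)
  · exact (not_extraspecial hD P h2 hnc hcard hexp).elim

end Cfsg.Agent.S4020
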