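import Cfsg.Statements.S4043
import Mathlib
import Cfsg.Agent.Lib.Coprime.InvSylow
import Cfsg.Agent.Lib.LocalY.Kieler
-- import your own Cfsg.Agent.* helpers here

set_option autoImplicit false
open Cfsg

namespace Cfsg.Agent.S4043

variable {G : Type*} [Group G] [Finite G] {p : ℕ} [Fact p.Prime]

/-- Data extracted from a normal `p`-complement of a complement of `N`. -/
theorem exists_parts (N : Subgroup G) [N.Normal] (A : Subgroup G) (hA : A.IsComplement' N)
    (hAp : Cfsg.HasNormalPComplement p A) :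
    ∃ K P : Subgroup G, K ≤ A ∧ P ≤ A ∧ A ≤ Subgroup.normalizer (K : Set G) ∧
      (Nat.card K).Coprime p ∧ IsPGroup p P ∧ (∀ a ∈ A, ∃ k ∈ K, ∃ t ∈ P, a = k * t) ∧
      Nat.card K * Nat.card P = Nat.card A := by
  obtain ⟨P, K, hKn, hKP⟩ := hAp
  have hcK : Nat.card (K.map A.subtype) = Nat.card K :=
    (Nat.card_congr (Subgroup.equivMapOfInjective K A.subtype Subtype.coe_injective).toEquiv).symm
  have hcP : Nat.card ((P : Subgroup A).map A.subtype) = Nat.card (P : Subgroup A) :=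
    (Nat.card_congr (Subgroup.equivMapOfInjective (P : Subgroup A) A.subtype
      Subtype.coe_injective).toEquiv).symm
  refine ⟨K.map A.subtype, (P : Subgroup A).map A.subtype, ?_, ?_, ?_, ?_, ?_, ?_, ?_⟩
  · rintro _ ⟨x, _, rfl⟩; exact x.2
  · rintro _ ⟨x, _, rfl⟩; exact x.2
  · intro a ha
    rw [Subgroup.mem_normalizer_iff]
    intro x
    constructor
    · rintro ⟨y, hy, rfl⟩
      exact ⟨⟨a, ha⟩ * y * ⟨a, ha⟩⁻¹, hKn.conj_mem y hy _, rfl⟩
    · rintro ⟨y, hy, hyx⟩
      refine ⟨⟨a, ha⟩⁻¹ * y * ⟨a, ha⟩, ?_, ?_⟩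
      · have := hKn.conj_mem y hy (⟨a, ha⟩⁻¹)
        simpa using this
      · have h1 : x = a⁻¹ * (a * x * a⁻¹) * a := by group
        simp only [Subgroup.subtype_apply] at hyx
        rw [h1, ← hyx]
        simp
  · rw [hcK]
    have h4 : Nat.card K = (P : Subgroup A).index := hKP.index_eq_card.symm
    rw [h4]
    have := P.not_dvd_index
    exact ((Nat.Prime.coprime_iff_not_dvd Fact.out).mpr this).symm
  · exact P.isPGroup'.map A.subtype
  · intro a ha
    obtain ⟨⟨k, t⟩, hkt⟩ := hKP.2 (⟨a, ha⟩ : A)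
    refine ⟨k.1, ⟨k.1, k.2, rfl⟩, t.1, ⟨t.1, t.2, rfl⟩, ?_⟩
    exact (congrArg Subtype.val hkt).symm
  · rw [hcK, hcP]
    exact hKP.card_mul_card

/-- Let G be a finite group that is the semidirect product of a normal p-subgroup N by a subgroup A, and also of N by a subgroup A₁, where p is a prime and A and A₁ both have normal p-complements. If C_N(A) = C_N(A₁) = 1, then A₁ is conjugate to A by an element of N. -/
theorem result {G : Type*} [Group G] [Finite G] {p : ℕ}
    [Fact p.Prime] (N : Subgroup G) [N.Normal] (hN : IsPGroup p N) (A A₁ : Subgroup G)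
    (hA : A.IsComplement' N) (hA₁ : A₁.IsComplement' N)
    (hAp : Cfsg.HasNormalPComplement p A) (hA₁p : Cfsg.HasNormalPComplement p A₁)
    (hC : ∀ n : G, n ∈ N → (∀ a : G, a ∈ A → a * n * a⁻¹ = n) → n = 1)
    (hC₁ : ∀ n : G, n ∈ N → (∀ a : G, a ∈ A₁ → a * n * a⁻¹ = n) → n = 1) :
    ∃ n : G, n ∈ N ∧ A₁ = A.map (MulAut.conj n).toMonoidHom := by
  classical
  obtain ⟨K, P, hKA, hPA, hAK, hKc, hPp, hfac, hcA⟩ := exists_parts N A hA hAp
  obtain ⟨K₁, P₁, hK₁A, hP₁A, hAK₁, hK₁c, hP₁p, hfac₁, hcA₁⟩ := exists_parts N A₁ hA₁ hA₁p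
  -- cardinalities
  have hcAN : Nat.card A * Nat.card N = Nat.card G := hA.card_mul_card
  have hcAN₁ : Nat.card A₁ * Nat.card N = Nat.card G := hA₁.card_mul_card
  have hNpos : 0 < Nat.card N := Nat.card_pos
  have hAeq : Nat.card A = Nat.card A₁ := by
    apply Nat.eq_of_mul_eq_mul_right hNpos
    rw [hcAN, hcAN₁]
  have hKeq : Nat.card K₁ = Nat.card K := by
    obtain ⟨i, hi⟩ := IsPGroup.iff_card.mp hPp
    obtain ⟨j, hj⟩ := IsPGroup.iff_card.mp hP₁p
    have h0 : Nat.card K * p ^ i = Nat.card K₁ * p ^ j := by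
      rw [← hi, ← hj, hcA, hcA₁, hAeq]
    apply Nat.dvd_antisymm
    · have : Nat.card K₁ ∣ Nat.card K * p ^ i := h0 ▸ Dvd.intro _ rfl
      exact (Nat.Coprime.pow_right i hK₁c).dvd_of_dvd_mul_right this
    · have : Nat.card K ∣ Nat.card K₁ * p ^ j := h0 ▸ Dvd.intro _ rfl
      exact (Nat.Coprime.pow_right j hKc).dvd_of_dvd_mul_right this
  have hAN1 : ∀ x, x ∈ A₁ → x ∈ N → x = 1 := by
    intro x h1 h2
    exact Subgroup.disjoint_def.mp hA₁.disjoint h1 h2
  -- `K₁ ≤ N ⊔ K`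
  set D : Subgroup G := N ⊔ K with hD
  have hDn : D.Normal := by
    have hAD : A ≤ Subgroup.normalizer (D : Set G) := by
      intro a ha
      apply Lib.Coprime.InvSylow.mem_normalizer_of_map_conj_eq
      rw [hD, Subgroup.map_sup]
      congr 1
      · exact Lib.Coprime.InvSylow.map_conj_eq_of_mem_normalizer
          (by rw [Subgroup.normalizer_eq_top_iff.mpr inferInstance]; trivial)
      · exact Lib.Coprime.InvSylow.map_conj_eq_of_mem_normalizer (hAK ha)
    have hND : N ≤ Subgroup.normalizer (D : Set G) :=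
      le_trans le_sup_left Subgroup.le_normalizer
    have htop : Subgroup.normalizer (D : Set G) = ⊤ := by
      rw [eq_top_iff]
      intro g _
      obtain ⟨⟨a, n⟩, han⟩ := hA.2 g
      have : (a : G) * n = g := han
      rw [← this]
      exact Subgroup.mul_mem _ (hAD a.2) (hND n.2)
    exact Subgroup.normalizer_eq_top_iff.mp htop
  have hK₁D : K₁ ≤ D := by
    intro x hx
    obtain ⟨⟨a, n⟩, han⟩ := hA.2 x
    have hxan : (a : G) * n = x := han
    obtain ⟨k, hk, t, ht, hakt⟩ := hfac a a.2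
    set f := QuotientGroup.mk' D with hf
    have hfn : f n = 1 := (QuotientGroup.eq_one_iff _).mpr ((le_sup_left : N ≤ D) n.2)
    have hfk : f k = 1 := (QuotientGroup.eq_one_iff _).mpr ((le_sup_right : K ≤ D) hk)
    have hfx : f x = f t := by
      rw [← hxan, map_mul, hfn, mul_one, hakt, map_mul, hfk, one_mul]
    have h1 : orderOf (f x) ∣ orderOf x := orderOf_map_dvd _ _
    have h2 : orderOf x ∣ Nat.card K₁ := by
      have := orderOf_dvd_natCard (⟨x, hx⟩ : K₁)
      rwa [Subgroup.orderOf_mk] at this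
    have h3 : orderOf (f x) ∣ Nat.card P := by
      rw [hfx]
      refine (orderOf_map_dvd _ _).trans ?_
      have := orderOf_dvd_natCard (⟨t, ht⟩ : P)
      rwa [Subgroup.orderOf_mk] at this
    obtain ⟨j, hj⟩ := IsPGroup.iff_card.mp hPp
    rw [hj] at h3
    have h4 : (Nat.card K₁).Coprime (p ^ j) := Nat.Coprime.pow_right j hK₁c
    have h5 : orderOf (f x) = 1 := Nat.eq_one_of_dvd_coprimes h4 (h1.trans h2) h3
    rw [orderOf_eq_one_iff] at h5
    exact (QuotientGroup.eq_one_iff x).mp h5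
  -- conjugacy of the complements
  have hsolvN : Group.IsSolvable N := by
    haveI : Group.IsNilpotent N := hN.isNilpotent
    infer_instance
  have hKNcop : (Nat.card K).Coprime (Nat.card N) := by
    obtain ⟨j, hj⟩ := IsPGroup.iff_card.mp hN
    rw [hj]
    exact Nat.Coprime.pow_right j hKc
  have hKN : K ≤ Subgroup.normalizer (N : Set G) := by
    rw [Subgroup.normalizer_eq_top_iff.mpr inferInstance]
    exact le_top
  obtain ⟨n, hnN, hn⟩ := Lib.Coprime.Coset.exists_conj_eq_of_card_eq hKN hKNcop (Or.inr hsolvN)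
    hK₁D hKeq
  refine ⟨n, hnN, ?_⟩
  -- `N` meets the normaliser of `K₁` trivially
  set T : Subgroup G := Subgroup.normalizer (K₁ : Set G) with hT
  have hCK : ∀ c ∈ N ⊓ T, ∀ k ∈ K₁, c * k = k * c := by
    intro c hc k hk
    obtain ⟨hcN, hcT⟩ := Subgroup.mem_inf.mp hc
    have h1 : c * k * c⁻¹ ∈ K₁ := (Subgroup.mem_normalizer_iff.mp hcT k).mp hk
    have h2 : c * k * c⁻¹ * k⁻¹ ∈ K₁ := K₁.mul_mem h1 (K₁.inv_mem hk)
    have h3 : c * k * c⁻¹ * k⁻¹ ∈ N := by
      have h4 : k * c⁻¹ * k⁻¹ ∈ N := Subgroup.Normal.conj_mem inferInstance _ (N.inv_mem hcN) _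
      have h5 : c * k * c⁻¹ * k⁻¹ = c * (k * c⁻¹ * k⁻¹) := by group
      rw [h5]
      exact N.mul_mem hcN h4
    have h6 := hAN1 _ (hK₁A h2) h3
    have h7 : c * k * c⁻¹ = k := by
      calc c * k * c⁻¹ = c * k * c⁻¹ * k⁻¹ * k := by group
        _ = k := by rw [h6, one_mul]
    calc c * k = c * k * c⁻¹ * c := by group
      _ = k * c := by rw [h7]
  have hNT : ∀ x ∈ N ⊓ T, x = 1 := by
    intro x₀ hx₀
    by_contra hne
    have hPT : ∀ t ∈ P₁, ∀ x ∈ N ⊓ T, t * x * t⁻¹ ∈ N ⊓ T := by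
      intro t ht x hx
      obtain ⟨h1, h2⟩ := Subgroup.mem_inf.mp hx
      refine Subgroup.mem_inf.mpr ⟨Subgroup.Normal.conj_mem inferInstance _ h1 _, ?_⟩
      have htT : t ∈ T := hAK₁ (hP₁A ht)
      exact T.mul_mem (T.mul_mem htT h2) (T.inv_mem htT)
    have hXp : IsPGroup p ↥(N ⊓ T) := hN.to_le inf_le_left
    obtain ⟨x, hx, hx1, hxc⟩ := Lib.LocalY.Kieler.exists_fixed_conj hP₁p hPT hXp hx₀ hne
    apply hx1
    apply hC₁ x (Subgroup.mem_inf.mp hx).1
    intro a ha
    obtain ⟨k, hk, t, ht, rfl⟩ := hfac₁ a ha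
    have h1 := hCK x hx k hk
    have h2 := hxc t ht
    calc k * t * x * (k * t)⁻¹ = k * (t * x) * t⁻¹ * k⁻¹ := by group
      _ = k * (x * t) * t⁻¹ * k⁻¹ := by rw [h2]
      _ = (k * x) * k⁻¹ := by group
      _ = (x * k) * k⁻¹ := by rw [← h1]
      _ = x := by group
  -- both complements lie in `T`
  have hAtT : A.map (MulAut.conj n).toMonoidHom ≤ T := by
    rintro _ ⟨a, ha, rfl⟩
    apply Lib.Coprime.InvSylow.mem_normalizer_of_map_conj_eq
    change K₁.map (MulAut.conj (n * a * n⁻¹)).toMonoidHom = K₁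
    have h1 : n * a * n⁻¹ * n = n * a := by group
    rw [← hn, ← Lib.Coprime.InvSylow.map_conj_mul, h1, Lib.Coprime.InvSylow.map_conj_mul,
      Lib.Coprime.InvSylow.map_conj_eq_of_mem_normalizer (hAK ha)]
  have hle : A.map (MulAut.conj n).toMonoidHom ≤ A₁ := by
    intro y hy
    obtain ⟨⟨a₁, n'⟩, han⟩ := hA₁.2 y
    have hy' : (a₁ : G) * n' = y := han
    have hn'T : (n' : G) ∈ N ⊓ T := by
      refine Subgroup.mem_inf.mpr ⟨n'.2, ?_⟩
      have : (n' : G) = (a₁ : G)⁻¹ * y := by rw [← hy']; group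
      rw [this]
      exact T.mul_mem (T.inv_mem (hAK₁ a₁.2)) (hAtT hy)
    rw [← hy', hNT _ hn'T, mul_one]
    exact a₁.2
  have hcard : Nat.card (A.map (MulAut.conj n).toMonoidHom) = Nat.card A :=
    (Nat.card_congr (Subgroup.equivMapOfInjective A (MulAut.conj n).toMonoidHom
      (MulAut.conj n).injective).toEquiv).symm
  exact (Subgroup.eq_of_le_of_card_ge hle (by rw [hcard, hAeq])).symm

end Cfsg.Agent.S4043
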