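import Cfsg.Statements.S4064
import Mathlib
import Cfsg.Agent.Lib.TICent.Final
import Cfsg.Agent.Lib.TICent.Compl

set_option autoImplicit false
open Cfsg

namespace Cfsg.Agent.S4064

/-- Let G be a finite group in which the centralizer of every element meets each of its conjugates by elements outside its normalizer trivially. Then G is nilpotent; or G is a Frobenius group with a complement that is cyclic or isomorphic to the direct product of a cyclic group of odd order and the quaternion group of order 8; or G is isomorphic to PSL₂(2ⁿ) for some n ≥ 2. -/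
theorem result {G : Type*} [Group G] [Finite G] (hTI : ∀ x : G, Cfsg.IsTISubset (Subgroup.centralizer ({x} : Set G) : Set G)) :
    Group.IsNilpotent G ∨
    (∃ H : Subgroup G, Cfsg.IsFrobeniusComplement H ∧
      (IsCyclic H ∨ ∃ m : ℕ, Odd m ∧ Nonempty (H ≃* Multiplicative (ZMod m) × QuaternionGroup 2))) ∨
    (∃ n : ℕ, 2 ≤ n ∧ Nonempty (G ≃* Matrix.ProjectiveSpecialLinearGroup (Fin 2) (GaloisField 2 n))) := by
  open Cfsg.Agent.Lib.TICent in
  have h : HTI G := hTI
  by_cases hF : fittingSubgroup G = ⊥
  · by_cases hev : Even (Nat.card G)
    · exact Or.inr (Or.inr (psl_of_no_fitting h hF hev))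
    · left
      by_cases ht : (⊤ : Subgroup G) = ⊥
      · haveI : Subsingleton G := by
          rw [← Subgroup.subsingleton_iff]
          exact subsingleton_of_bot_eq_top ht.symm
        infer_instance
      · exfalso
        have hodd : Odd (Nat.card (⊤ : Subgroup G)) := by
          rw [Subgroup.card_top]
          exact Nat.not_even_iff_odd.mp hev
        exact fitting_ne_bot_of_odd hodd ht hF
  · by_cases hT : fittingSubgroup G = ⊤
    · left
      have h1 := Cfsg.Agent.Lib.Nilpotent.Fitting.isNilpotent_fittingSubgroup (G := G)
      rw [hT] at h1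
      haveI := h1
      exact Group.nilpotent_of_mulEquiv Subgroup.topEquiv
    · right
      left
      haveI hFn : (fittingSubgroup G).Normal := Cfsg.Agent.Lib.Nilpotent.Fitting.fittingSubgroup_normal
      obtain ⟨H, hc, hH, hfpf⟩ := exists_complement_fitting h hF hT
      refine ⟨H, Cfsg.Agent.Lib.Frobenius.Basic.isFrobeniusComplement_of_complement hc hF hH hfpf,
        complement_struct h hF hH ?_ hfpf⟩
      rw [Subgroup.normalizer_eq_top]
      exact le_top

end Cfsg.Agent.S4064
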