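import Cfsg.Statements.S4066
import Mathlib
import Cfsg.Agent.S4088
import Cfsg.Agent.Lib.Perm.SylowConj
import Cfsg.Agent.Lib.Basic.Subnormal

set_option autoImplicit false
open Cfsg

namespace Cfsg.Agent.S4066

universe u

open Subgroup Cfsg.Agent.Lib.Perm.SylowConj

/-- Central case: commuting conjugates of `x` put it in every Sylow subgroup. -/
lemma mem_sylow_of_conj_comm {G : Type u} [Group G] [Finite G] {p : ℕ} [Fact p.Prime]
    (hcomm : ∀ y g : G, y * (g * y * g⁻¹) = (g * y * g⁻¹) * y) (Q : Sylow p G) {x : G} {k : ℕ}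
    (hk : orderOf x = p ^ k) : x ∈ (Q : Subgroup G) := by
  set S : Set G := {w | ∃ g : G, w = g * x * g⁻¹} with hS
  have hSc : ∀ a ∈ S, ∀ b ∈ S, a * b = b * a := by
    rintro a ⟨g, rfl⟩ b ⟨h, rfl⟩
    have h1 := hcomm (g * x * g⁻¹) (h * g⁻¹)
    have e : (h * g⁻¹) * (g * x * g⁻¹) * (h * g⁻¹)⁻¹ = h * x * h⁻¹ := by group
    rw [e] at h1
    exact h1
  set V : Subgroup G := closure S with hV
  have hVc : ∀ a ∈ V, ∀ b ∈ S, a * b = b * a := by
    intro a ha b hb
    have hle : V ≤ centralizer S := by
      rw [hV, closure_le]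
      intro c hc
      rw [SetLike.mem_coe, mem_centralizer_iff]
      intro d hd
      exact hSc d hd c hc
    exact ((mem_centralizer_iff.mp (hle ha)) b hb).symm
  have hVV : ∀ a ∈ V, ∀ b ∈ V, a * b = b * a := by
    intro a ha b hb
    have hle : V ≤ centralizer (V : Set G) := by
      conv_lhs => rw [hV]
      rw [closure_le]
      intro c hc
      rw [SetLike.mem_coe, mem_centralizer_iff]
      intro d hd
      exact hVc d hd c hc
    exact ((mem_centralizer_iff.mp (hle ha)) b hb).symm
  have hVp : IsPGroup p V := by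
    rintro ⟨w, hw⟩
    suffices h : ∃ l : ℕ, w ^ (p ^ l) = 1 by
      obtain ⟨l, hl⟩ := h
      exact ⟨l, Subtype.ext (by simpa using hl)⟩
    induction hw using closure_induction with
    | mem a ha =>
      obtain ⟨g, rfl⟩ := ha
      refine ⟨k, ?_⟩
      rw [conj_pow, ← hk, pow_orderOf_eq_one]
      simp
    | one => exact ⟨0, by simp⟩
    | mul a b ha hb iha ihb =>
      obtain ⟨l, hl⟩ := iha
      obtain ⟨m, hm⟩ := ihb
      refine ⟨l + m, ?_⟩
      have hc : Commute a b := hVV a ha b hb
      rw [hc.mul_pow, pow_add, pow_mul, hl, mul_comm (p ^ l), pow_mul, hm]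
      simp
    | inv a ha iha =>
      obtain ⟨l, hl⟩ := iha
      exact ⟨l, by rw [inv_pow, hl, inv_one]⟩
  have hVn : V.Normal := by
    constructor
    intro n hn g
    have hle : V ≤ V.comap (MulAut.conj g).toMonoidHom := by
      conv_lhs => rw [hV]
      rw [closure_le]
      rintro c ⟨h, rfl⟩
      show (MulAut.conj g) (h * x * h⁻¹) ∈ V
      apply Subgroup.subset_closure
      exact ⟨g * h, by simp [MulAut.conj_apply, mul_assoc]⟩
    exact hle hn
  haveI := hVn
  have hle : V ≤ (Q : Subgroup G) := hVp.le_sylow_of_normal Q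
  exact hle (Subgroup.subset_closure ⟨1, by simp⟩)

lemma ti_subgroup {G : Type u} [Group G] (hTI : ∀ x : G, Cfsg.IsTISubset (centralizer ({x} : Set G) : Set G))
    (H : Subgroup G) (y : H) : Cfsg.IsTISubset (centralizer ({y} : Set H) : Set H) := by
  intro g hg a ha hga
  have ha' : (a : H) ∈ centralizer ({y} : Set H) := ha
  have hga' : g * a * g⁻¹ ∈ centralizer ({y} : Set H) := hga
  rw [mem_centralizer_singleton_iff] at ha' hga'
  have h1 : (g : G) ∉ normalizer (centralizer ({(y : G)} : Set G) : Set G) := by
    intro hn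
    apply hg
    rw [mem_normalizer_iff]
    intro n
    have h2 := mem_normalizer_iff.mp hn (n : G)
    simp only [SetLike.mem_coe, mem_centralizer_singleton_iff] at h2 ⊢
    constructor
    · intro h3
      have h4 := h2.mp (congrArg Subtype.val h3)
      exact Subtype.ext h4
    · intro h3
      have h4 := h2.mpr (congrArg Subtype.val h3)
      exact Subtype.ext h4
  have h5 := hTI (y : G) (g : G) h1 (a : G) (by
    rw [SetLike.mem_coe, mem_centralizer_singleton_iff]
    exact congrArg Subtype.val ha') (by
    rw [SetLike.mem_coe, mem_centralizer_singleton_iff]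
    exact congrArg Subtype.val hga')
  exact Subtype.ext h5

theorem main {p : ℕ} [Fact p.Prime] : ∀ (n : ℕ) (G : Type u) [Group G] [Finite G], Nat.card G = n →
    (∀ x : G, Cfsg.IsTISubset (centralizer ({x} : Set G) : Set G)) →
    ∀ P Q : Sylow p G, P ≠ Q → (P : Subgroup G) ⊓ (Q : Subgroup G) = ⊥ := by
  intro n
  induction n using Nat.strong_induction_on with
  | _ n IH =>
    intro G _ _ hn hTI P Q hPQ
    by_contra hne
    obtain ⟨x, hx, hx1⟩ := (Subgroup.bot_or_exists_ne_one _).resolve_left hne
    obtain ⟨hxP, hxQ⟩ := mem_inf.mp hx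
    -- a central element of `P`
    haveI : Nontrivial (P : Subgroup G) := ⟨⟨⟨x, hxP⟩, 1, fun e => hx1 (congrArg Subtype.val e)⟩⟩
    haveI := P.isPGroup'.center_nontrivial
    obtain ⟨z0, hz0c, hz01⟩ := Subgroup.exists_ne_one_of_nontrivial (center (P : Subgroup G))
    set z : G := (z0 : G) with hz
    have hzP : z ∈ (P : Subgroup G) := z0.2
    have hz1 : z ≠ 1 := fun e => hz01 (Subtype.ext e)
    have hzc : ∀ a ∈ (P : Subgroup G), a * z = z * a := by
      intro a ha
      exact congrArg Subtype.val ((mem_center_iff.mp hz0c) ⟨a, ha⟩)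
    set C : Subgroup G := centralizer ({z} : Set G) with hC
    have hPC : (P : Subgroup G) ≤ C := fun a ha => mem_centralizer_singleton_iff.mpr (hzc a ha)
    set NC := normalizer (C : Set G) with hNC
    have hCN : C ≤ NC := le_normalizer
    have hTC : ∀ R : Subgroup G, IsPGroup p R → R ≤ NC → R ≤ C := by
      intro R hR hRN
      obtain ⟨t, ht, htR⟩ := conj_into NC P (hPC.trans hCN) R hR hRN
      intro a ha
      have h1 : t * a * t⁻¹ ∈ C := hPC (htR a ha)
      exact (mem_normalizer_iff.mp ht a).mpr h1
    have hQC : (Q : Subgroup G) ≤ C := by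
      by_contra hQnot
      set T : Subgroup G := (Q : Subgroup G) ⊓ NC with hT
      have hTCle : T ≤ C := hTC T Q.isPGroup'.to_inf_left inf_le_right
      have hTQ : T < (Q : Subgroup G) := by
        refine lt_of_le_of_ne inf_le_left (fun e => hQnot ?_)
        rw [← e]
        exact hTCle
      have hlt := Cfsg.Agent.S4088.lt_inf_normalizer Q.isPGroup' hTQ
      obtain ⟨g, hg1, hg2⟩ := SetLike.exists_of_lt hlt
      obtain ⟨hgQ, hgN⟩ := mem_inf.mp hg1
      have hgNC : g ∉ NC := fun h => hg2 (mem_inf.mpr ⟨hgQ, h⟩)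
      have hxT : x ∈ T := mem_inf.mpr ⟨hxQ, hCN (hPC hxP)⟩
      have h1 : g * x * g⁻¹ ∈ T := (mem_normalizer_iff.mp hgN x).mp hxT
      exact hx1 (hTI z g hgNC x (hTCle hxT) (hTCle h1))
    by_cases hCtop : C = ⊤
    · have hzcen : ∀ g : G, g * z = z * g := by
        intro g
        have : g ∈ C := by rw [hCtop]; exact mem_top g
        exact mem_centralizer_singleton_iff.mp this
      have hcomm : ∀ y g : G, y * (g * y * g⁻¹) = (g * y * g⁻¹) * y := by
        intro y g
        have hg : g ∈ normalizer (centralizer ({y} : Set G) : Set G) := by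
          by_contra hn
          apply hz1
          apply hTI y g hn z
          · rw [SetLike.mem_coe, mem_centralizer_singleton_iff]
            exact (hzcen y).symm
          · rw [SetLike.mem_coe, mem_centralizer_singleton_iff]
            have e : g * z * g⁻¹ = z := by rw [hzcen g]; group
            rw [e]
            exact (hzcen y).symm
        have h1 : y ∈ centralizer ({y} : Set G) := by
          rw [mem_centralizer_singleton_iff]
        have h2 := (mem_normalizer_iff.mp hg y).mp h1
        rw [mem_centralizer_singleton_iff] at h2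
        exact h2.symm
      have hle : (P : Subgroup G) ≤ Q := by
        intro a ha
        obtain ⟨k, hk⟩ := IsPGroup.iff_orderOf.mp P.isPGroup' ⟨a, ha⟩
        exact mem_sylow_of_conj_comm hcomm Q (k := k) (by rw [← hk, Subgroup.orderOf_mk])
      exact hPQ (Sylow.ext (P.is_maximal' Q.isPGroup' hle).symm)
    · have hlt : Nat.card C < n := by
        rw [← hn]
        exact Cfsg.Agent.Lib.Basic.Subnormal.card_lt_of_ne_top hCtop
      let P' : Sylow p C := P.subtype hPC
      let Q' : Sylow p C := Q.subtype hQC
      have hP'c : (P' : Subgroup C) = (P : Subgroup G).subgroupOf C := Sylow.coe_subtype (P := P) hPC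
      have hQ'c : (Q' : Subgroup C) = (Q : Subgroup G).subgroupOf C := Sylow.coe_subtype (P := Q) hQC
      have hne' : P' ≠ Q' := by
        intro e
        have h1 : (P : Subgroup G).subgroupOf C = (Q : Subgroup G).subgroupOf C := by
          rw [← hP'c, ← hQ'c, e]
        have hle : (P : Subgroup G) ≤ Q := by
          intro a ha
          have h2 : (⟨a, hPC ha⟩ : C) ∈ (P : Subgroup G).subgroupOf C := mem_subgroupOf.mpr ha
          rw [h1] at h2
          exact mem_subgroupOf.mp h2
        exact hPQ (Sylow.ext (P.is_maximal' Q.isPGroup' hle).symm)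
      have h3 := IH _ hlt C rfl (fun y => ti_subgroup hTI C y) P' Q' hne'
      have h4 : (⟨x, hPC hxP⟩ : C) ∈ (P' : Subgroup C) ⊓ (Q' : Subgroup C) := by
        rw [hP'c, hQ'c]
        exact mem_inf.mpr ⟨mem_subgroupOf.mpr hxP, mem_subgroupOf.mpr hxQ⟩
      rw [h3, mem_bot] at h4
      exact hx1 (congrArg Subtype.val h4)

/-- Let G be a finite group in which the centralizer of every element meets each of its conjugates by elements outside its normalizer trivially. Then any two distinct Sylow p-subgroups of G, for any prime p, intersect trivially. -/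
theorem result {G : Type*} [Group G] [Finite G] (hTI : ∀ x : G, Cfsg.IsTISubset (Subgroup.centralizer ({x} : Set G) : Set G))
    {p : ℕ} [Fact p.Prime] (P Q : Sylow p G) (hPQ : P ≠ Q) : (P : Subgroup G) ⊓ (Q : Subgroup G) = ⊥ := by
  exact main _ G rfl hTI P Q hPQ

end Cfsg.Agent.S4066
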