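import Cfsg.Statements.S4078
import Mathlib
import Cfsg.Agent.S0489
import Cfsg.Agent.S0035
import Cfsg.Agent.Lib.Coprime.TIHallMain

set_option autoImplicit false
open Cfsg
open scoped Pointwise

universe u

namespace Cfsg.Agent.S4078

open Cfsg.Agent.Lib.Coprime.TIHall (isSolvable_sup)

section Lemmas

variable {G : Type u} [Group G]

theorem solv_map_iff {G' : Type*} [Group G'] (f : G →* G') (hf : Function.Injective f) (K : Subgroup G) :
    Group.IsSolvable (K.map f) ↔ Group.IsSolvable K := by
  let e := K.equivMapOfInjective f hf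
  constructor
  · intro h
    exact Group.isSolvable_of_isSolvable_injective (f := e.toMonoidHom) e.injective
  · intro h
    exact Group.isSolvable_of_surjective (f := e.toMonoidHom) e.surjective

theorem solv_of_le {K L : Subgroup G} (h : K ≤ L) (hL : Group.IsSolvable L) : Group.IsSolvable K :=
  Group.isSolvable_of_isSolvable_injective (f := Subgroup.inclusion h) (Subgroup.inclusion_injective h)

theorem map_closure_pair {G' : Type*} [Group G'] (f : G →* G') (x y : G) :
    (Subgroup.closure ({x, y} : Set G)).map f = Subgroup.closure ({f x, f y} : Set G') := by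
  rw [MonoidHom.map_closure, Set.image_pair]

theorem solv_closure_self (x : G) : Group.IsSolvable (Subgroup.closure ({x, x} : Set G)) := by
  rw [Set.pair_eq_singleton, ← Subgroup.zpowers_eq_closure]
  refine Group.isSolvable_of_comm ?_
  rintro ⟨a, ha⟩ ⟨b, hb⟩
  obtain ⟨i, rfl⟩ := Subgroup.mem_zpowers_iff.mp ha
  obtain ⟨j, rfl⟩ := Subgroup.mem_zpowers_iff.mp hb
  exact Subtype.ext (zpow_mul_comm x i j)

end Lemmas

/-- The induction step. -/
theorem aux (n : ℕ) : ∀ (G : Type u) [Group G] [Finite G], Nat.card G = n →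
    (∀ x : G, ∃ H : Subgroup G, (H : Set G) = {y : G | Group.IsSolvable ↥(Subgroup.closure ({x, y} : Set G))}) →
    Group.IsSolvable G := by
  induction n using Nat.strong_induction_on with
  | _ n ih =>
  intro G _ _ hn hyp
  by_contra hns
  -- proper subgroups are solvable
  have hsub : ∀ L : Subgroup G, L ≠ ⊤ → Group.IsSolvable L := by
    intro L hL
    have hlt : Nat.card L < n := by
      rw [← hn]
      have h1 := L.card_mul_index
      have h2 : L.index ≠ 1 := fun h => hL (Subgroup.index_eq_one.mp h)
      have h3 : L.index ≠ 0 := Subgroup.index_ne_zero_of_finite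
      have h4 : 0 < Nat.card L := Nat.card_pos
      rw [← h1]
      have : 2 ≤ L.index := by omega
      nlinarith
    refine ih _ hlt (↥L) rfl ?_
    intro x
    obtain ⟨H, hH⟩ := hyp x
    refine ⟨H.subgroupOf L, ?_⟩
    ext y
    have h1 : y ∈ H.subgroupOf L ↔ (y : G) ∈ H := Subgroup.mem_subgroupOf
    have h2 : ((y : G) ∈ H) ↔ Group.IsSolvable ↥(Subgroup.closure ({(x : G), (y : G)} : Set G)) := by
      rw [← SetLike.mem_coe, hH]
      rfl
    have h3 := map_closure_pair L.subtype x y
    have h4 := solv_map_iff L.subtype L.subtype_injective (Subgroup.closure ({x, y} : Set L))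
    rw [h3] at h4
    show y ∈ ((H.subgroupOf L : Subgroup L) : Set L) ↔ _
    rw [SetLike.mem_coe, h1, h2]
    exact h4
  choose S hS using hyp
  have hS' : ∀ x y, y ∈ S x ↔ Group.IsSolvable ↥(Subgroup.closure ({x, y} : Set G)) := by
    intro x y
    rw [← SetLike.mem_coe, hS]
    rfl
  have hsym : ∀ x y, y ∈ S x ↔ x ∈ S y := by
    intro x y
    rw [hS', hS', Set.pair_comm]
  have hself : ∀ x, x ∈ S x := fun x => (hS' x x).2 (solv_closure_self x)
  -- conjugation
  have hconj : ∀ (g x y : G), y ∈ S x → g * y * g⁻¹ ∈ S (g * x * g⁻¹) := by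
    intro g x y h
    rw [hS'] at h ⊢
    have h3 := map_closure_pair (MulAut.conj g).toMonoidHom x y
    have h4 := solv_map_iff (MulAut.conj g).toMonoidHom (MulAut.conj g).injective
      (Subgroup.closure ({x, y} : Set G))
    rw [h3] at h4
    exact h4.2 h
  -- elements in a proper subgroup
  have hle : ∀ (L : Subgroup G) (x : G), L ≠ ⊤ → x ∈ L → L ≤ S x := by
    intro L x hL hx y hy
    rw [hS']
    refine solv_of_le ?_ (hsub L hL)
    rw [Subgroup.closure_le]
    rintro z (rfl | rfl)
    · exact hx
    · exact hy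
  -- the central-like subgroup
  let Z : Subgroup G := ⨅ x, S x
  have hZ : ∀ z, z ∈ Z ↔ ∀ x, z ∈ S x := fun z => Subgroup.mem_iInf
  have hZtop : ∀ z, z ∈ Z ↔ S z = ⊤ := by
    intro z
    rw [hZ, eq_top_iff]
    constructor
    · intro h x _
      exact (hsym z x).2 (h x)
    · intro h x
      exact (hsym x z).2 (h (Subgroup.mem_top x))
  have hZn : Z.Normal := by
    constructor
    intro z hz g
    rw [hZ] at hz ⊢
    intro x
    have := hconj g (g⁻¹ * x * g) z (hz _)
    simpa [mul_assoc] using this
  have hZne : Z ≠ ⊤ := by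
    intro h
    apply hns
    apply Cfsg.Agent.S0489.result
    intro a b
    rw [← hS']
    have : b ∈ Z := by rw [h]; exact Subgroup.mem_top b
    exact (hZ b).1 this a
  obtain ⟨x₀, hx₀⟩ : ∃ x₀, x₀ ∉ Z := by
    by_contra hcon
    push Not at hcon
    exact hZne (eq_top_iff.mpr fun x _ => hcon x)
  -- the uniqueness property
  have hSne : ∀ x, x ∉ Z → S x ≠ ⊤ := fun x hx h => hx ((hZtop x).2 h)
  have hSuniq : ∀ x y, x ∉ Z → y ∉ Z → y ∈ S x → S y = S x := by
    intro x y hx hy hyx
    apply le_antisymm
    · exact hle (S y) x (hSne y hy) ((hsym x y).1 hyx)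
    · exact hle (S x) y (hSne x hx) hyx
  let M : Subgroup G := S x₀
  have hMne : M ≠ ⊤ := hSne x₀ hx₀
  have hZM : Z ≤ M := fun z hz => (hZ z).1 hz x₀
  have hMsolv : Group.IsSolvable M := hsub M hMne
  have hZsolv : Group.IsSolvable Z := solv_of_le hZM hMsolv
  have hMmax : ∀ L : Subgroup G, M ≤ L → L ≠ ⊤ → L ≤ M := by
    intro L hML hL
    exact hle L x₀ hL (hML (hself x₀))
  -- `M` is not normal
  have hMnn : ¬ M.Normal := by
    intro hMn
    obtain ⟨y, hy⟩ : ∃ y, y ∉ M := by
      by_contra hcon
      push Not at hcon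
      exact hMne (eq_top_iff.mpr fun x _ => hcon x)
    have hsup : M ⊔ Subgroup.zpowers y = ⊤ := by
      by_contra hne
      have := hMmax _ le_sup_left hne
      exact hy (this (Subgroup.mem_sup_right (Subgroup.mem_zpowers y)))
    apply hns
    have hs := isSolvable_sup (O := M) (H := Subgroup.zpowers y) hMsolv inferInstance
    rw [hsup] at hs
    exact Group.isSolvable_of_isSolvable_injective (f := (Subgroup.topEquiv (G := G)).symm.toMonoidHom)
      (MulEquiv.injective _)
  -- self-normalizing
  have hself' : ∀ g, (∀ y ∈ M, g * y * g⁻¹ ∈ M) → g ∈ M := by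
    intro g hg
    have hnorm : g ∈ Subgroup.normalizer (M : Set G) := by
      have hle' : (M.map (MulAut.conj g).toMonoidHom) ≤ M := by
        rintro _ ⟨y, hy, rfl⟩
        exact hg y hy
      have heq : M.map (MulAut.conj g).toMonoidHom = M := by
        apply Subgroup.eq_of_le_of_card_ge hle'
        rw [Subgroup.card_map_of_injective (MulAut.conj g).injective]
      rw [Subgroup.mem_normalizer_iff]
      intro h
      constructor
      · intro hh
        exact hg h hh
      · intro hh
        have : g * h * g⁻¹ ∈ M.map (MulAut.conj g).toMonoidHom := by rw [heq]; exact hh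
        obtain ⟨y, hy, hy'⟩ := this
        have e : y = h := by
          have : g * y * g⁻¹ = g * h * g⁻¹ := hy'
          simpa using this
        rwa [← e]
    by_cases hNt : Subgroup.normalizer (M : Set G) = ⊤
    · exfalso
      apply hMnn
      exact Subgroup.normalizer_eq_top_iff.mp hNt
    · exact hMmax _ Subgroup.le_normalizer hNt hnorm
  -- trivial intersections modulo `Z`
  have hTI : ∀ g, g ∉ M → ∀ a ∈ M, g⁻¹ * a * g ∈ M → a ∈ Z := by
    intro g hg a ha hb
    by_contra haZ
    have hbZ : g⁻¹ * a * g ∉ Z := by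
      intro h
      apply haZ
      have := hZn.conj_mem _ h g
      simpa [mul_assoc] using this
    have e1 : S a = M := hSuniq x₀ a hx₀ haZ ha
    have e2 : S (g⁻¹ * a * g) = M := hSuniq x₀ _ hx₀ hbZ hb
    apply hg
    apply hself'
    intro y hy
    rw [← e2] at hy
    have := hconj g _ y hy
    have e3 : g * (g⁻¹ * a * g) * g⁻¹ = a := by group
    rw [e3, e1] at this
    exact this
  -- the quotient
  let φ : G →* G ⧸ Z := QuotientGroup.mk' Z
  have hφ : Function.Surjective φ := QuotientGroup.mk'_surjective Z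
  have hφk : ∀ z, φ z = 1 ↔ z ∈ Z := fun z => QuotientGroup.eq_one_iff z
  let Hb : Subgroup (G ⧸ Z) := M.map φ
  have hHbmem : ∀ g, φ g ∈ Hb ↔ g ∈ M := by
    intro g
    constructor
    · rintro ⟨m, hm, hmg⟩
      have h1 : m⁻¹ * g ∈ Z := by
        rw [← hφk, map_mul, map_inv, hmg, inv_mul_cancel]
      have := M.mul_mem hm (hZM h1)
      simpa using this
    · intro hg
      exact ⟨g, hg, rfl⟩
  have hF : Cfsg.IsFrobeniusComplement Hb := by
    refine ⟨?_, ?_, ?_⟩
    · intro h
      have : φ x₀ ∈ Hb := (hHbmem x₀).2 (hself x₀)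
      rw [h, Subgroup.mem_bot, hφk] at this
      exact hx₀ this
    · intro h
      apply hMne
      rw [eq_top_iff]
      intro g _
      rw [← hHbmem, h]
      exact Subgroup.mem_top _
    · intro gb hgb
      obtain ⟨g, rfl⟩ := hφ gb
      have hg : g ∉ M := fun h => hgb ((hHbmem g).2 h)
      rw [eq_bot_iff]
      rintro c ⟨hc1, hc2⟩
      obtain ⟨a, ha, rfl⟩ := hc1
      obtain ⟨bb, hbb, hbe⟩ := Subgroup.mem_smul_pointwise_iff_exists _ _ _ |>.mp hc2
      obtain ⟨b, hb, rfl⟩ := hbb
      have hbe' : φ (g * b * g⁻¹) = φ a := by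
        rw [map_mul, map_mul, map_inv]
        exact hbe
      have h1 : g⁻¹ * a * g * b⁻¹ ∈ Z := by
        rw [← hφk]
        simp only [map_mul, map_inv]
        rw [← hbe']
        simp only [map_mul, map_inv]
        group
      have h2 : g⁻¹ * a * g ∈ M := by
        have := M.mul_mem (hZM h1) hb
        simpa using this
      rw [Subgroup.mem_bot, hφk]
      exact hTI g hg a ha h2
  obtain ⟨Nb, -, hNbn, hcompl⟩ := Cfsg.Agent.S0035.result Hb hF
  let K : Subgroup G := Nb.comap φ
  have hKn : K.Normal := Subgroup.Normal.comap hNbn φ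
  have hKne : K ≠ ⊤ := by
    intro h
    have hNt : Nb = ⊤ := by
      rw [eq_top_iff]
      intro c _
      obtain ⟨g, rfl⟩ := hφ c
      have : g ∈ K := by rw [h]; exact Subgroup.mem_top g
      exact this
    have hd := hcompl.disjoint
    rw [hNt, top_disjoint] at hd
    exact hF.1 hd
  have hKs : Group.IsSolvable K := hsub K hKne
  have hsup : K ⊔ M = ⊤ := by
    rw [eq_top_iff]
    intro g _
    have h1 : φ g ∈ Nb ⊔ Hb := by
      rw [hcompl.sup_eq_top]
      exact Subgroup.mem_top _
    obtain ⟨n, hn, h', hh', hnh⟩ := Subgroup.mem_sup_of_normal_left.mp h1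
    obtain ⟨k, rfl⟩ := hφ n
    obtain ⟨m, hm, rfl⟩ := hh'
    have hk : k ∈ K := hn
    have h2 : (k * m)⁻¹ * g ∈ Z := by
      rw [← hφk, map_mul, map_inv, map_mul, ← hnh]
      group
    have h3 : g = k * (m * ((k * m)⁻¹ * g)) := by group
    rw [h3]
    exact Subgroup.mul_mem _ (Subgroup.mem_sup_left hk)
      (Subgroup.mem_sup_right (M.mul_mem hm (hZM h2)))
  apply hns
  have hs := isSolvable_sup (O := K) (H := M) hKs hMsolv
  rw [hsup] at hs
  exact Group.isSolvable_of_isSolvable_injective (f := (Subgroup.topEquiv (G := G)).symm.toMonoidHom)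
    (MulEquiv.injective _)

/-- For an element x of a finite group G let Sol(x) be the set of y ∈ G such that x and y generate a solvable subgroup. Then G is solvable if and only if Sol(x) is (the carrier of) a subgroup of G for every x ∈ G. -/
theorem result {G : Type*} [Group G] [Finite G] :
    Group.IsSolvable G ↔ ∀ x : G, ∃ H : Subgroup G, (H : Set G) = {y : G | Group.IsSolvable ↥(Subgroup.closure ({x, y} : Set G))} := by
  constructor
  · intro h x
    refine ⟨⊤, ?_⟩
    ext y
    simp only [Subgroup.coe_top, Set.mem_univ, true_iff]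
    show Group.IsSolvable ↥(Subgroup.closure ({x, y} : Set G))
    infer_instance
  · exact aux _ G rfl

end Cfsg.Agent.S4078
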