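import Cfsg.Statements.S4089
import Mathlib
import Cfsg.Agent.Lib.Nilpotent.SylowJoin
-- import your own Cfsg.Agent.* helpers here

set_option autoImplicit false
open Cfsg

namespace Cfsg.Agent.S4089

open Cfsg.Agent.Lib.Nilpotent.Subnormal Cfsg.Agent.Lib.Nilpotent.SubnormalRadical
open Cfsg.Agent.Lib.Nilpotent.Fitting Cfsg.Agent.Lib.Nilpotent.SylowJoin

section aux

variable {G : Type*} [Group G] [Finite G] {p : ℕ} [hp : Fact p.Prime]

/-- A subnormal `p`-subgroup lies in the `p`-core. -/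
theorem le_pCore_of_sn {X : Type*} [Group X] [Finite X] {H : Subgroup X} (hH : IsPGroup p H)
    (hsn : SN H ⊤) : H ≤ Cfsg.pCore p X := by
  rw [pCore_eq_iInf_sylow]
  refine le_iInf fun P => ?_
  have h1 : (P : Subgroup X).relIndex H ∣ (P : Subgroup X).index := by
    have := relIndex_dvd_of_sn (P : Subgroup X) hsn
    rwa [Subgroup.relIndex_top_right] at this
  have h2 : ¬ p ∣ (H ⊓ (P : Subgroup X)).relIndex H := by
    rw [Subgroup.inf_relIndex_left]
    exact fun hd => P.not_dvd_index (hd.trans h1)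
  have h3 := le_of_isPGroup_of_relIndex hH inf_le_left le_rfl h2
  exact h3.trans inf_le_right

/-- One direction of the first claim. -/
theorem backward {H R : Subgroup G} (hHR : H ≤ R) (hR : IsPGroup p R) {g : G}
    (hg : g ∈ Subgroup.normalizer (R : Set G)) :
    (H.subgroupOf (H ⊔ Subgroup.zpowers g)).IsSubnormal := by
  apply isSubnormal_subgroupOf_of_sn
  set K := H ⊔ Subgroup.zpowers g with hK
  have hHK : H ≤ K := le_sup_left
  have hKN : K ≤ Subgroup.normalizer (R : Set G) :=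
    sup_le (hHR.trans Subgroup.le_normalizer) (Subgroup.zpowers_le.mpr hg)
  have hn : NormalIn (K ⊓ R) K := by
    refine ⟨inf_le_left, fun b hb a ha => ⟨K.mul_mem (K.mul_mem hb ha.1) (K.inv_mem hb), ?_⟩⟩
    exact (Subgroup.mem_normalizer_iff.mp (hKN hb) a).mp ha.2
  have hpg : IsPGroup p (K ⊓ R : Subgroup G) := hR.to_le inf_le_right
  have hnil : Group.IsNilpotent (K ⊓ R : Subgroup G) := hpg.isNilpotent
  have hsub : ((H).subgroupOf (K ⊓ R)).IsSubnormal := isSubnormal_of_isNilpotent _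
  have hsn : SN H (K ⊓ R) := sn_of_isSubnormal_subgroupOf (le_inf hHK hHR) hsub
  exact hsn.trans hn.sn

/-- The other direction. -/
theorem forward {H : Subgroup G} (hH : IsPGroup p H) {g : G}
    (h : (H.subgroupOf (H ⊔ Subgroup.zpowers g)).IsSubnormal) :
    ∃ R : Subgroup G, H ≤ R ∧ (Cfsg.pCore p (Subgroup.normalizer (R : Set G))).map
      (Subgroup.normalizer (R : Set G)).subtype = R ∧ g ∈ Subgroup.normalizer (R : Set G) := by
  set K := H ⊔ Subgroup.zpowers g with hK
  have hHK : H ≤ K := le_sup_left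
  have hgK : g ∈ K := (le_sup_right : Subgroup.zpowers g ≤ K) (Subgroup.mem_zpowers g)
  -- the start
  have hsn : SN (H.subgroupOf K) ⊤ := sn_top_of_isSubnormal h
  have hHp : IsPGroup p (H.subgroupOf K) := hH.comap_of_injective K.subtype K.subtype_injective
  have h0 : H.subgroupOf K ≤ Cfsg.pCore p K := le_pCore_of_sn hHp hsn
  set R₀ : Subgroup G := (Cfsg.pCore p K).map K.subtype with hR₀
  have hHR₀ : H ≤ R₀ := by
    intro x hx
    exact ⟨⟨x, hHK hx⟩, h0 (Subgroup.mem_subgroupOf.mpr hx), rfl⟩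
  have hR₀p : IsPGroup p R₀ := (isPGroup_pCore p).map _
  have hgR₀ : g ∈ Subgroup.normalizer (R₀ : Set G) := by
    have hnK : (Cfsg.pCore p K).Normal := Cfsg.Agent.Lib.Nilpotent.Fitting.pCore_normal p
    rw [Subgroup.mem_normalizer_iff]
    intro x
    constructor
    · rintro ⟨y, hy, rfl⟩
      exact ⟨⟨g, hgK⟩ * y * ⟨g, hgK⟩⁻¹, hnK.conj_mem y hy _, rfl⟩
    · rintro ⟨y, hy, hyx⟩
      refine ⟨⟨g, hgK⟩⁻¹ * y * ⟨g, hgK⟩, ?_, ?_⟩
      · have := hnK.conj_mem y hy ⟨g, hgK⟩⁻¹
        simpa using this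
      · simp only [Subgroup.subtype_apply] at hyx ⊢
        simp [hyx, mul_assoc]
  -- a maximal choice
  let PP : Set (Subgroup G) := {R | H ≤ R ∧ IsPGroup p R ∧ g ∈ Subgroup.normalizer (R : Set G)}
  have hmem : R₀ ∈ PP := ⟨hHR₀, hR₀p, hgR₀⟩
  obtain ⟨R, -, hR⟩ := (Set.toFinite PP).exists_le_maximal hmem
  obtain ⟨hHR, hRp, hgR⟩ := hR.prop
  refine ⟨R, hHR, ?_, hgR⟩
  set N := Subgroup.normalizer (R : Set G) with hN
  set R' := (Cfsg.pCore p N).map N.subtype with hR'
  have hnN : (Cfsg.pCore p N).Normal := Cfsg.Agent.Lib.Nilpotent.Fitting.pCore_normal p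
  have hRR' : R ≤ R' := by
    have hRn : (R.subgroupOf N).Normal := Subgroup.normal_in_normalizer
    have hRnp : IsPGroup p (R.subgroupOf N) := hRp.comap_of_injective N.subtype N.subtype_injective
    have h1 : R.subgroupOf N ≤ Cfsg.pCore p N := le_pCore hRnp
    intro x hx
    have hxN : x ∈ N := Subgroup.le_normalizer hx
    exact ⟨⟨x, hxN⟩, h1 (Subgroup.mem_subgroupOf.mpr hx), rfl⟩
  have hR'p : IsPGroup p R' := (isPGroup_pCore p).map _
  have hgR' : g ∈ Subgroup.normalizer (R' : Set G) := by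
    rw [Subgroup.mem_normalizer_iff]
    intro x
    constructor
    · rintro ⟨y, hy, rfl⟩
      exact ⟨⟨g, hgR⟩ * y * ⟨g, hgR⟩⁻¹, hnN.conj_mem y hy _, rfl⟩
    · rintro ⟨y, hy, hyx⟩
      refine ⟨⟨g, hgR⟩⁻¹ * y * ⟨g, hgR⟩, ?_, ?_⟩
      · have := hnN.conj_mem y hy ⟨g, hgR⟩⁻¹
        simpa using this
      · simp only [Subgroup.subtype_apply] at hyx ⊢
        simp [hyx, mul_assoc]
  have hmem' : R' ∈ PP := ⟨hHR.trans hRR', hR'p, hgR'⟩
  exact le_antisymm (hR.le_of_ge hmem' hRR') hRR'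

/-- Radical subgroups are intersections of Sylow subgroups. -/
theorem sInf_le_radical {H R : Subgroup G} (hHR : H ≤ R)
    (hR : (Cfsg.pCore p (Subgroup.normalizer (R : Set G))).map
      (Subgroup.normalizer (R : Set G)).subtype = R) :
    sInf {K : Subgroup G | ∃ Q : Sylow p G, H ≤ (Q : Subgroup G) ∧ K = (Q : Subgroup G)} ≤ R := by
  set N := Subgroup.normalizer (R : Set G) with hN
  have hRp : IsPGroup p R := by
    rw [← hR]
    exact (isPGroup_pCore p).map _
  set Y := sInf {K : Subgroup G | ∃ Q : Sylow p G, R ≤ (Q : Subgroup G) ∧ K = (Q : Subgroup G)} with hY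
  have h1 : sInf {K : Subgroup G | ∃ Q : Sylow p G, H ≤ (Q : Subgroup G) ∧ K = (Q : Subgroup G)} ≤ Y := by
    apply le_sInf
    rintro _ ⟨Q, hQ, rfl⟩
    exact sInf_le ⟨Q, hHR.trans hQ, rfl⟩
  refine h1.trans ?_
  -- elements of `Y` normalizing `R` lie in `R`
  have key : ∀ x ∈ Y, x ∈ N → x ∈ R := by
    intro x hxY hxN
    have h2 : (⟨x, hxN⟩ : N) ∈ Cfsg.pCore p N := by
      rw [pCore_eq_iInf_sylow, Subgroup.mem_iInf]
      intro T
      have hTp : IsPGroup p ((T : Subgroup N).map N.subtype) := T.isPGroup'.map _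
      obtain ⟨Q, hQ⟩ := hTp.exists_le_sylow
      have hRQ : R ≤ (Q : Subgroup G) := by
        rw [← hR]
        exact (Subgroup.map_mono (pCore_le_sylow p T)).trans hQ
      have hxQ : x ∈ (Q : Subgroup G) := by
        have := sInf_le (show (Q : Subgroup G) ∈ {K : Subgroup G | ∃ Q : Sylow p G, R ≤ (Q : Subgroup G) ∧ K = (Q : Subgroup G)} from ⟨Q, hRQ, rfl⟩)
        exact this hxY
      have hle : (T : Subgroup N) ≤ (Q : Subgroup G).subgroupOf N := by
        intro y hy
        rw [Subgroup.mem_subgroupOf]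
        exact hQ ⟨y, hy, rfl⟩
      have hQp : IsPGroup p ((Q : Subgroup G).subgroupOf N) :=
        Q.isPGroup'.comap_of_injective N.subtype N.subtype_injective
      have heq := T.is_maximal' hQp hle
      change (⟨x, hxN⟩ : N) ∈ (T : Subgroup N)
      rw [← heq, Subgroup.mem_subgroupOf]
      exact hxQ
    rw [← hR]
    exact ⟨⟨x, hxN⟩, h2, rfl⟩
  -- normalizer growth in a `p`-group
  have hRY : R ≤ Y := le_sInf (by rintro _ ⟨Q, hQ, rfl⟩; exact hQ)
  have hYp : IsPGroup p Y := by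
    obtain ⟨Q, hQ⟩ := hRp.exists_le_sylow
    exact Q.isPGroup'.to_le (sInf_le ⟨Q, hQ, rfl⟩)
  have hYnil : Group.IsNilpotent Y := hYp.isNilpotent
  have hsub : (R.subgroupOf Y).IsSubnormal := isSubnormal_of_isNilpotent _
  have hsn : SN R Y := sn_of_isSubnormal_subgroupOf hRY hsub
  by_contra hne
  have hne' : R ≠ Y := fun h => hne h.ge
  obtain ⟨x, hxY, hxR, hxn⟩ := hsn.exists_normalizing hne'
  apply hxR
  apply key x hxY
  -- `x` normalizes `R`
  have hinj : Function.Injective (fun r : R => (⟨x * r * x⁻¹, hxn r r.2⟩ : R)) := by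
    intro r s hrs
    have := congrArg Subtype.val hrs
    simp only [mul_left_inj, mul_right_inj] at this
    exact Subtype.ext this
  have hsurj := Finite.surjective_of_injective hinj
  rw [hN, Subgroup.mem_normalizer_iff]
  intro y
  refine ⟨hxn y, fun hy => ?_⟩
  obtain ⟨r, hr⟩ := hsurj ⟨x * y * x⁻¹, hy⟩
  have := congrArg Subtype.val hr
  simp only [mul_left_inj, mul_right_inj] at this
  rw [← this]
  exact r.2

end aux

/-- Let G be a finite group, p a prime and H a p-subgroup of G. Then the set of elements g of G such that H is subnormal in the subgroup generated by H and g is the union of the normalizers N_G(R) over the subgroups R of G containing H with R = O_p(N_G(R)); and this set does not change when H is replaced by the intersection of all Sylow p-subgroups of G containing H. -/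
theorem result {G : Type*} [Group G] [Finite G] (p : ℕ) [Fact p.Prime]
    (H : Subgroup G) (hH : IsPGroup p H) :
    {g : G | ((H).subgroupOf (H ⊔ Subgroup.zpowers g)).IsSubnormal} =
      {g : G | ∃ R : Subgroup G, H ≤ R ∧ (Cfsg.pCore p (Subgroup.normalizer (R : Set G))).map (Subgroup.normalizer (R : Set G)).subtype = R ∧ g ∈ Subgroup.normalizer (R : Set G)} ∧
    ∀ g : G, (((H).subgroupOf (H ⊔ Subgroup.zpowers g)).IsSubnormal ↔
      (((sInf {K : Subgroup G | ∃ Q : Sylow p G, H ≤ (Q : Subgroup G) ∧ K = (Q : Subgroup G)})).subgroupOf ((sInf {K : Subgroup G | ∃ Q : Sylow p G, H ≤ (Q : Subgroup G) ∧ K = (Q : Subgroup G)}) ⊔ Subgroup.zpowers g)).IsSubnormal) := by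
  have hle : H ≤ sInf {K : Subgroup G | ∃ Q : Sylow p G, H ≤ (Q : Subgroup G) ∧ K = (Q : Subgroup G)} :=
    le_sInf (by rintro _ ⟨Q, hQ, rfl⟩; exact hQ)
  have hIp : IsPGroup p (sInf {K : Subgroup G | ∃ Q : Sylow p G, H ≤ (Q : Subgroup G) ∧ K = (Q : Subgroup G)} : Subgroup G) := by
    obtain ⟨Q, hQ⟩ := hH.exists_le_sylow
    exact Q.isPGroup'.to_le (sInf_le ⟨Q, hQ, rfl⟩)
  have radp : ∀ R : Subgroup G, (Cfsg.pCore p (Subgroup.normalizer (R : Set G))).map
      (Subgroup.normalizer (R : Set G)).subtype = R → IsPGroup p R := by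
    intro R hR
    rw [← hR]
    exact (isPGroup_pCore p).map _
  refine ⟨?_, fun g => ⟨fun h => ?_, fun h => ?_⟩⟩
  · ext g
    constructor
    · intro h
      exact forward hH h
    · rintro ⟨R, hHR, hR, hg⟩
      exact backward hHR (radp R hR) hg
  · obtain ⟨R, hHR, hR, hg⟩ := forward hH h
    exact backward (sInf_le_radical hHR hR) (radp R hR) hg
  · obtain ⟨R, hIR, hR, hg⟩ := forward hIp h
    exact backward (hle.trans hIR) (radp R hR) hg

end Cfsg.Agent.S4089
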