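import Cfsg.Statements.S4113
import Mathlib

set_option autoImplicit false
open Cfsg

namespace Cfsg.Agent.S4113

theorem mem_map_conj {G : Type*} [Group G] (H : Subgroup G) (g x : G) :
    x ∈ H.map (MulAut.conj g).toMonoidHom ↔ g⁻¹ * x * g ∈ H := by
  constructor
  · rintro ⟨y, hy, rfl⟩
    simpa [MulAut.conj_apply, mul_assoc] using hy
  · intro h
    exact ⟨_, h, by simp [MulAut.conj_apply, mul_assoc]⟩

/-- Let G be a finite group, M ≤ N non-trivial proper normal subgroups, and H a subgroup with HM = G and H ∩ M = 1. Then every element of G outside N acts fixed-point-freely on M (C_G(x) ≤ N for every x ∈ M, x ≠ 1) if and only if H ∩ gHg⁻¹ ≤ H ∩ N for every g outside H, with H proper and non-trivial and H ∩ N proper in H. -/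
theorem result {G : Type*} [Group G] [Finite G] (N M : Subgroup G) [N.Normal] [M.Normal] (hMN : M ≤ N) (hM1 : M ≠ ⊥) (hN2 : N ≠ ⊤)
    (H : Subgroup G) (hHM : H ⊔ M = ⊤) (hHM' : H ⊓ M = ⊥) :
    (∀ x ∈ M, x ≠ 1 → Subgroup.centralizer ({x} : Set G) ≤ N) ↔
      (H ≠ ⊥ ∧ H ≠ ⊤ ∧ H ⊓ N < H ∧ ∀ g : G, g ∉ H → H ⊓ H.map (MulAut.conj g).toMonoidHom ≤ N) := by
  classical
  have hNM : (M : Subgroup G).Normal := inferInstance
  have hdec : ∀ g : G, ∃ h ∈ H, ∃ m ∈ M, h * m = g := by
    intro g
    have : g ∈ H ⊔ M := by rw [hHM]; trivial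
    exact Subgroup.mem_sup_of_normal_right.mp this
  have hinter : ∀ x, x ∈ H → x ∈ M → x = 1 := by
    intro x hx hx'
    have : x ∈ H ⊓ M := ⟨hx, hx'⟩
    rw [hHM'] at this
    simpa using this
  constructor
  · intro hC
    refine ⟨?_, ?_, ?_, ?_⟩
    · rintro rfl
      apply hN2
      rw [bot_sup_eq] at hHM
      rw [eq_top_iff, ← hHM]
      exact hMN
    · rintro rfl
      apply hM1
      rw [top_inf_eq] at hHM'
      exact hHM'
    · refine lt_of_le_of_ne inf_le_left ?_
      intro heq
      have hHN : H ≤ N := by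
        rw [← heq]; exact inf_le_right
      apply hN2
      rw [eq_top_iff, ← hHM]
      exact sup_le hHN hMN
    · intro g hg y hy
      obtain ⟨hy1, hy2⟩ := Subgroup.mem_inf.mp hy
      have hy2 := (mem_map_conj _ _ _).mp hy2
      obtain ⟨h, hh, m, hm, rfl⟩ := hdec g
      have hm1 : m ≠ 1 := by
        rintro rfl
        apply hg
        simpa using hh
      -- set y' = h⁻¹ y h ∈ H ∩ mHm⁻¹
      set y' := h⁻¹ * y * h with hy'
      have hy'H : y' ∈ H := H.mul_mem (H.mul_mem (H.inv_mem hh) hy1) hh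
      set z := m⁻¹ * y' * m with hz
      have hzH : z ∈ H := by
        have : (h * m)⁻¹ * y * (h * m) = z := by
          simp only [hz, hy']; group
        rwa [this] at hy2
      -- y' z⁻¹ ∈ H ∩ M
      have h1 : y' * z⁻¹ ∈ H := H.mul_mem hy'H (H.inv_mem hzH)
      have h2 : y' * z⁻¹ ∈ M := by
        have : y' * z⁻¹ = (y' * m⁻¹ * y'⁻¹) * m := by
          simp only [hz]; group
        rw [this]
        exact M.mul_mem (hNM.conj_mem _ (M.inv_mem hm) _) hm
      have h3 : y' = z := by
        have := hinter _ h1 h2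
        exact mul_inv_eq_one.mp this
      have hcomm : y' ∈ Subgroup.centralizer ({m} : Set G) := by
        rw [Subgroup.mem_centralizer_iff]
        intro x hx
        rw [Set.mem_singleton_iff] at hx
        subst hx
        have : x⁻¹ * y' * x = y' := by rw [← hz]; exact h3.symm
        calc x * y' = x * (x⁻¹ * y' * x) := by rw [this]
          _ = y' * x := by group
      have hy'N : y' ∈ N := hC m hm hm1 hcomm
      have : y = h * y' * h⁻¹ := by simp only [hy']; group
      rw [this]
      exact (inferInstance : N.Normal).conj_mem _ hy'N _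
  · rintro ⟨-, -, -, hTI⟩ x hx hx1 y hyC
    by_contra hyN
    obtain ⟨h, hh, m, hm, rfl⟩ := hdec y
    have hhN : h ∉ N := by
      intro hhN
      exact hyN (N.mul_mem hhN (hMN hm))
    -- the key: h is not in any H^u for u ∈ M \ {1}
    have key : ∀ u ∈ M, u ≠ 1 → u * h * u⁻¹ ∉ H := by
      intro u hu hu1 hin
      have huH : u⁻¹ ∉ H := by
        intro h'
        exact hu1 (by simpa using hinter _ h' (M.inv_mem hu))
      apply hhN
      apply hTI u⁻¹ huH
      refine Subgroup.mem_inf.mpr ⟨hh, (mem_map_conj _ _ _).mpr ?_⟩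
      simpa using hin
    -- the map
    let φ : M → M := fun u => ⟨(u : G)⁻¹ * h * u * h⁻¹, by
      have : (u : G)⁻¹ * h * u * h⁻¹ = (u : G)⁻¹ * (h * u * h⁻¹) := by group
      rw [this]
      exact M.mul_mem (M.inv_mem u.2) (hNM.conj_mem _ u.2 _)⟩
    have hφinj : Function.Injective φ := by
      intro a b hab
      have hab' : (a : G)⁻¹ * h * a * h⁻¹ = (b : G)⁻¹ * h * b * h⁻¹ := congrArg Subtype.val hab
      by_contra hne
      have hba : (b : G) * (a : G)⁻¹ ≠ 1 := by
        intro h0
        apply hne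
        exact Subtype.ext (mul_inv_eq_one.mp h0).symm
      have hconj : ((b : G) * (a : G)⁻¹) * h * ((b : G) * (a : G)⁻¹)⁻¹ = h := by
        have h5 : (a : G)⁻¹ * h * a = (b : G)⁻¹ * h * b := mul_right_cancel hab'
        calc ((b : G) * (a : G)⁻¹) * h * ((b : G) * (a : G)⁻¹)⁻¹
            = (b : G) * ((a : G)⁻¹ * h * a) * (b : G)⁻¹ := by group
          _ = (b : G) * ((b : G)⁻¹ * h * b) * (b : G)⁻¹ := by rw [h5]
          _ = h := by group
      apply key _ (M.mul_mem b.2 (M.inv_mem a.2)) hba
      rw [hconj]; exact hh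
    have hφsurj : Function.Surjective φ := Finite.surjective_of_injective hφinj
    -- h * m conjugate to h by element of M
    obtain ⟨u, hu⟩ := hφsurj ⟨h * m * h⁻¹, hNM.conj_mem _ hm _⟩
    have hu' : (u : G)⁻¹ * h * u * h⁻¹ = h * m * h⁻¹ := congrArg Subtype.val hu
    have hy : (u : G)⁻¹ * h * u = h * m := mul_right_cancel hu'
    -- h commutes with u x u⁻¹
    have hcomm : (h * m) * x = x * (h * m) := by
      have := Subgroup.mem_centralizer_iff.mp hyC x rfl
      exact this.symm
    set w := (u : G) * x * (u : G)⁻¹ with hw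
    have hwM : w ∈ M := hNM.conj_mem _ hx _
    have hw1 : w ≠ 1 := by
      intro h0
      apply hx1
      have : x = (u : G)⁻¹ * w * u := by simp only [hw]; group
      rw [this, h0]; group
    have hcomm2 : h * w = w * h := by
      rw [← hy] at hcomm
      have h6 : (u : G) * (((u : G)⁻¹ * h * u) * x) * (u : G)⁻¹ = (u : G) * (x * ((u : G)⁻¹ * h * u)) * (u : G)⁻¹ := by
        rw [hcomm]
      calc h * w = (u : G) * (((u : G)⁻¹ * h * u) * x) * (u : G)⁻¹ := by simp only [hw]; group
        _ = (u : G) * (x * ((u : G)⁻¹ * h * u)) * (u : G)⁻¹ := h6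
        _ = w * h := by simp only [hw]; group
    apply key w hwM hw1
    have : w * h * w⁻¹ = h := by
      rw [← hcomm2]; group
    rw [this]; exact hh

end Cfsg.Agent.S4113
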