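import Cfsg.Statements.S4135
import Mathlib
import Cfsg.Agent.S3904
import Cfsg.Agent.S4314
import Cfsg.Agent.Lib.Basic.JordanCover

set_option autoImplicit false
open Cfsg
open scoped Pointwise

namespace Cfsg.Agent.S4135

section Count

variable {G : Type*} [Group G] [Finite G]

/-- Conjugation action of a subgroup on an invariant subset. -/
@[reducible] def conjAction (H : Subgroup G) (W : Set G) (hW : ∀ h ∈ H, ∀ w ∈ W, h * w * h⁻¹ ∈ W) :
    MulAction H W where
  smul h w := ⟨h.1 * w.1 * h.1⁻¹, hW h.1 h.2 w.1 w.2⟩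
  one_smul w := Subtype.ext (by
    change ((1 : H) : G) * w.1 * ((1 : H) : G)⁻¹ = w.1
    simp)
  mul_smul a b w := Subtype.ext (by
    change ((a * b : H) : G) * w.1 * ((a * b : H) : G)⁻¹ = a.1 * (b.1 * w.1 * b.1⁻¹) * a.1⁻¹
    simp only [Subgroup.coe_mul]
    group)

theorem stabilizer_eq (H K : Subgroup G) (W : Set G) (hW : ∀ h ∈ H, ∀ w ∈ W, h * w * h⁻¹ ∈ W) (w : W)
    (hC : ∀ h ∈ H, h * w.1 = w.1 * h ↔ h ∈ K) :
    letI := conjAction H W hW
    MulAction.stabilizer H w = K.subgroupOf H := by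
  letI := conjAction H W hW
  ext h
  rw [MulAction.mem_stabilizer_iff, Subgroup.mem_subgroupOf, ← hC h.1 h.2]
  constructor
  · intro e
    have e' : h.1 * w.1 * h.1⁻¹ = w.1 := congrArg Subtype.val e
    exact mul_inv_eq_iff_eq_mul.mp e'
  · intro e
    exact Subtype.ext (mul_inv_eq_iff_eq_mul.mpr e)

/-- If all elements of an invariant set have the same stabilizer trace, the index divides its size. -/
theorem index_dvd_card (H K : Subgroup G) (W : Set G) (hW : ∀ h ∈ H, ∀ w ∈ W, h * w * h⁻¹ ∈ W)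
    (hC : ∀ w ∈ W, ∀ h ∈ H, h * w = w * h ↔ h ∈ K) : (K.subgroupOf H).index ∣ Nat.card W := by
  classical
  letI := conjAction H W hW
  haveI := Fintype.ofFinite W
  letI : Fintype (MulAction.orbitRel.Quotient H W) := Fintype.ofFinite _
  have h1 := Fintype.card_congr (MulAction.selfEquivSigmaOrbits H W)
  rw [Nat.card_eq_fintype_card, h1, Fintype.card_sigma]
  refine Finset.dvd_sum fun ω _ => ?_
  rw [← Nat.card_eq_fintype_card, Nat.card_coe_set_eq, ← MulAction.index_stabilizer,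
    stabilizer_eq H K W hW _ (hC _ (Subtype.mem _))]

/-- Orbit-stabilizer for the conjugation action of a subgroup. -/
theorem card_orbit (H K : Subgroup G) (w : G) (hC : ∀ h ∈ H, h * w = w * h ↔ h ∈ K) :
    Nat.card {y : G | ∃ h ∈ H, y = h * w * h⁻¹} = (K.subgroupOf H).index := by
  set W : Set G := {y : G | ∃ h ∈ H, y = h * w * h⁻¹} with hWdef
  have hW : ∀ h ∈ H, ∀ y ∈ W, h * y * h⁻¹ ∈ W := by
    rintro h hh y ⟨g, hg, rfl⟩
    exact ⟨h * g, H.mul_mem hh hg, by group⟩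
  have hwW : w ∈ W := ⟨1, H.one_mem, by simp⟩
  letI := conjAction H W hW
  have horb : MulAction.orbit H (⟨w, hwW⟩ : W) = Set.univ := by
    ext y
    simp only [Set.mem_univ, iff_true]
    obtain ⟨y, g, hg, rfl⟩ := y
    exact ⟨⟨g, hg⟩, rfl⟩
  rw [← stabilizer_eq H K W hW ⟨w, hwW⟩ hC, MulAction.index_stabilizer, horb, Set.ncard_univ]

end Count

/-- If all powers modulo the center are `r`-powers, the group is nilpotent. -/
theorem nilpotent_of_pow_central {H : Type*} [Group H] [Finite H] (r : ℕ) [hr : Fact r.Prime]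
    (h : ∀ x : H, ∃ k : ℕ, x ^ (r ^ k) ∈ Subgroup.center H) : Group.IsNilpotent H := by
  have h1 : IsPGroup r (H ⧸ Subgroup.center H) := by
    intro y
    obtain ⟨g, rfl⟩ := QuotientGroup.mk'_surjective _ y
    obtain ⟨j, hj⟩ := h g
    refine ⟨j, ?_⟩
    rw [← map_pow, ← MonoidHom.mem_ker, QuotientGroup.ker_mk']
    exact hj
  haveI : Group.IsNilpotent (H ⧸ Subgroup.center H) := h1.isNilpotent
  exact Group.of_quotient_center_nilpotent (G := H) inferInstance

section Main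

variable {G : Type*} [Group G] [Finite G]

local notation "C" x => Subgroup.centralizer ({x} : Set G)

theorem mem_C {g x : G} : g ∈ (C x) ↔ g * x = x * g := Subgroup.mem_centralizer_singleton_iff

/-- The class size hypothesis. -/
abbrev HI (N : Subgroup G) (m : ℕ) : Prop :=
  ∀ x ∈ N, (Subgroup.centralizer ({x} : Set G)).index = 1 ∨ (Subgroup.centralizer ({x} : Set G)).index = m

theorem index_eq {N : Subgroup G} {m : ℕ} (hI : HI N m) {x : G} (hxN : x ∈ N)
    (hx : x ∉ Subgroup.center G) : (C x).index = m :=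
  (hI x hxN).resolve_left (fun h => hx (S4314.mem_center_iff_C.mpr (Subgroup.index_eq_one.mp h)))

theorem C_eq_of_le {N : Subgroup G} {m : ℕ} (hI : HI N m) {x y : G} (hxN : x ∈ N) (hyN : y ∈ N)
    (hx : x ∉ Subgroup.center G) (hy : y ∉ Subgroup.center G) (hle : (C x) ≤ (C y)) : (C x) = (C y) := by
  have h4 := Subgroup.relIndex_mul_index hle
  have hpos : 0 < m := by
    rw [← index_eq hI hxN hx]; exact Nat.pos_of_ne_zero Subgroup.index_ne_zero_of_finite
  rw [index_eq hI hxN hx, index_eq hI hyN hy] at h4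
  have h5 : (C x).relIndex (C y) = 1 := Nat.eq_of_mul_eq_mul_right hpos (by rw [h4, one_mul])
  exact le_antisymm hle (Subgroup.relIndex_eq_one.mp h5)

theorem mem_zpowers_mul {u v : G} (huv : Commute u v) (hcop : (orderOf u).Coprime (orderOf v)) :
    u ∈ Subgroup.zpowers (u * v) ∧ v ∈ Subgroup.zpowers (u * v) := by
  have hcopz : IsCoprime ((orderOf u : ℕ) : ℤ) ((orderOf v : ℕ) : ℤ) := Nat.isCoprime_iff_coprime.mpr hcop
  obtain ⟨s, t, hst⟩ := hcopz
  have hu1 : u ^ (s * (orderOf u : ℤ)) = 1 := by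
    rw [mul_comm, zpow_mul, zpow_natCast, pow_orderOf_eq_one, one_zpow]
  have hv1 : v ^ (t * (orderOf v : ℤ)) = 1 := by
    rw [mul_comm, zpow_mul, zpow_natCast, pow_orderOf_eq_one, one_zpow]
  constructor
  · have e : (u * v) ^ (t * (orderOf v : ℤ)) = u := by
      rw [huv.mul_zpow, hv1, mul_one]
      have : t * (orderOf v : ℤ) = 1 - s * (orderOf u : ℤ) := by linarith
      rw [this, zpow_sub, zpow_one, hu1, inv_one, mul_one]
    have h3 := Subgroup.zpow_mem_zpowers (u * v) (t * (orderOf v : ℤ))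
    rwa [e] at h3
  · have e : (u * v) ^ (s * (orderOf u : ℤ)) = v := by
      rw [huv.mul_zpow, hu1, one_mul]
      have : s * (orderOf u : ℤ) = 1 - t * (orderOf v : ℤ) := by linarith
      rw [this, zpow_sub, zpow_one, hv1, inv_one, mul_one]
    have h3 := Subgroup.zpow_mem_zpowers (u * v) (s * (orderOf u : ℤ))
    rwa [e] at h3

theorem C_eq_of_commute {N : Subgroup G} {m : ℕ} (hI : HI N m) {u v : G} (huN : u ∈ N) (hvN : v ∈ N)
    (hu : u ∉ Subgroup.center G) (hv : v ∉ Subgroup.center G) (huv : Commute u v)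
    (hcop : (orderOf u).Coprime (orderOf v)) : (C u) = (C v) := by
  obtain ⟨hu', hv'⟩ := mem_zpowers_mul huv hcop
  have h1 := S4314.C_le_of_mem_zpowers hu'
  have h2 := S4314.C_le_of_mem_zpowers hv'
  have huvN := N.mul_mem huN hvN
  have huvZ : u * v ∉ Subgroup.center G := by
    intro hz
    apply hu
    rw [S4314.mem_center_iff_C] at hz ⊢
    rw [hz] at h1
    exact top_le_iff.mp h1
  rw [← C_eq_of_le hI huvN huN huvZ hu h1, C_eq_of_le hI huvN hvN huvZ hv h2]

theorem exists_primary {a : G} (ha : a ∉ Subgroup.center G) :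
    ∃ c ∈ Subgroup.zpowers a, ∃ q : ℕ, q.Prime ∧ (∃ j : ℕ, c ^ (q ^ j) = 1) ∧ c ∉ Subgroup.center G := by
  by_contra hcon
  push_neg at hcon
  exact ha (S3904.mem_of_primary_powers _ a (fun c hc q hq hj => hcon c hc q hq hj))

theorem coprime_of_primary {u v : G} {p q : ℕ} (hp : p.Prime) (hq : q.Prime) (hne : p ≠ q) {i k : ℕ}
    (hu : u ^ (p ^ i) = 1) (hv : v ^ (q ^ k) = 1) : (orderOf u).Coprime (orderOf v) :=
  Nat.Coprime.coprime_dvd_left (orderOf_dvd_of_pow_eq_one hu)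
    (Nat.Coprime.coprime_dvd_right (orderOf_dvd_of_pow_eq_one hv) (Nat.coprime_pow_primes _ _ hp hq hne))

theorem C_eq_of_mem {N : Subgroup G} {m : ℕ} (hI : HI N m) {u v : G} (huN : u ∈ N) (hvN : v ∈ N)
    (huZ : u ∉ Subgroup.center G) (hvZ : v ∉ Subgroup.center G) (huv : Commute u v)
    {r s : ℕ} (hr : r.Prime) (hs : s.Prime) (hrs : r ≠ s) {i k : ℕ} (hu : u ^ (s ^ i) = 1)
    (hv : v ^ (r ^ k) = 1) {a : G} (haN : a ∈ N) (haC : a ∈ (C u)) (haZ : a ∉ Subgroup.center G) :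
    (C a) = (C u) := by
  have hD : (C u) = (C v) := C_eq_of_commute hI huN hvN huZ hvZ huv (coprime_of_primary hs hr hrs.symm hu hv)
  obtain ⟨c, hc, q, hq, ⟨j, hj⟩, hcZ⟩ := exists_primary haZ
  have hcN : c ∈ N := (Subgroup.zpowers_le.mpr haN) hc
  have hle := S4314.C_le_of_mem_zpowers hc
  have hcD : c ∈ (C u) := (Subgroup.zpowers_le.mpr haC) hc
  have hcC : (C c) = (C u) := by
    by_cases hqs : q = s
    · subst hqs
      have h1 : c ∈ (C v) := hD ▸ hcD
      rw [hD]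
      exact C_eq_of_commute hI hcN hvN hcZ hvZ (mem_C.mp h1) (coprime_of_primary hq hr hrs.symm hj hv)
    · exact C_eq_of_commute hI hcN huN hcZ huZ (mem_C.mp hcD) (coprime_of_primary hq hs hqs hj hu)
  rw [← hcC]
  exact C_eq_of_le hI haN hcN haZ hcZ hle

/-- The `t`-primary part of a commutative subgroup. -/
def prim (A : Subgroup G) (hA : ∀ a ∈ A, ∀ b ∈ A, a * b = b * a) (t : ℕ) : Subgroup G where
  carrier := {a | a ∈ A ∧ ∃ k : ℕ, a ^ (t ^ k) = 1}
  one_mem' := ⟨A.one_mem, 0, by simp⟩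
  inv_mem' := by
    rintro a ⟨ha, k, hk⟩
    exact ⟨A.inv_mem ha, k, by rw [inv_pow, hk, inv_one]⟩
  mul_mem' := by
    rintro a b ⟨ha, k, hk⟩ ⟨hb, l, hl⟩
    refine ⟨A.mul_mem ha hb, k + l, ?_⟩
    have hc : Commute a b := hA a ha b hb
    rw [hc.mul_pow]
    have h1 : a ^ (t ^ (k + l)) = 1 := by rw [pow_add, pow_mul, hk, one_pow]
    have h2 : b ^ (t ^ (k + l)) = 1 := by rw [add_comm, pow_add, pow_mul, hl, one_pow]
    rw [h1, h2, one_mul]

theorem conj_mem_C {g d w : G} : g * d * g⁻¹ ∈ (C (g * w * g⁻¹)) ↔ d ∈ (C w) := by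
  rw [mem_C, mem_C]
  constructor
  · intro h
    have : g * (d * w) * g⁻¹ = g * (w * d) * g⁻¹ := by
      calc g * (d * w) * g⁻¹ = (g * d * g⁻¹) * (g * w * g⁻¹) := by group
        _ = (g * w * g⁻¹) * (g * d * g⁻¹) := h
        _ = g * (w * d) * g⁻¹ := by group
    exact mul_left_cancel (mul_right_cancel this)
  · intro h
    calc (g * d * g⁻¹) * (g * w * g⁻¹) = g * (d * w) * g⁻¹ := by group
      _ = g * (w * d) * g⁻¹ := by rw [h]
      _ = (g * w * g⁻¹) * (g * d * g⁻¹) := by group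

theorem conj_notMem_center {g w : G} (hw : w ∉ Subgroup.center G) : g * w * g⁻¹ ∉ Subgroup.center G := by
  intro h
  apply hw
  have h2 : w = g⁻¹ * (g * w * g⁻¹) * g := by group
  rw [Subgroup.mem_center_iff.mp h g⁻¹, mul_assoc, inv_mul_cancel, mul_one] at h2
  rwa [← h2] at h

theorem part_facts {N : Subgroup G} [hN : N.Normal] {D : Subgroup G}
    (hCa : ∀ a ∈ D ⊓ N, a ∉ Subgroup.center G → (C a) = D)
    (hA : ∀ a ∈ D ⊓ N, ∀ b ∈ D ⊓ N, a * b = b * a)
    (t : ℕ) [ht : Fact t.Prime] {w : G} (hwA : w ∈ D ⊓ N) (hwZ : w ∉ Subgroup.center G) {j : ℕ}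
    (hwj : w ^ (t ^ j) = 1) :
    ∃ a z : ℕ, 1 < a ∧ (∃ n : ℕ, a ∣ t ^ n) ∧ (∃ n : ℕ, z ∣ t ^ n) ∧
      (∀ W : Set G, (∀ g : G, ∀ y ∈ W, g * y * g⁻¹ ∈ W) → W ⊆ N →
        a ∣ Nat.card ↥(W \ ((D ⊓ N : Subgroup G) : Set G))) ∧
      (D.subgroupOf (Subgroup.normalizer (D : Set G))).index ∣ z * (a - 1) := by
  set T := prim (D ⊓ N) hA t with hT
  have hTA : T ≤ D ⊓ N := fun x hx => hx.1
  have hwT : w ∈ T := ⟨hwA, j, hwj⟩
  have hTp : IsPGroup t T := by
    rintro ⟨x, _, k, hk⟩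
    exact ⟨k, Subtype.ext hk⟩
  obtain ⟨n, hn⟩ := IsPGroup.iff_card.mp hTp
  set K := (Subgroup.center G).subgroupOf T with hK
  have hcardK : Nat.card K * K.index = Nat.card T := K.card_mul_index
  have hane : K.index ≠ 1 := by
    intro h1
    have h2 := Subgroup.index_eq_one.mp h1
    have : (⟨w, hwT⟩ : T) ∈ K := by rw [h2]; trivial
    exact hwZ (Subgroup.mem_subgroupOf.mp this)
  have hapos : 0 < K.index := Nat.pos_of_ne_zero Subgroup.index_ne_zero_of_finite
  refine ⟨K.index, Nat.card K, by omega, ⟨n, by rw [← hn, ← hcardK]; exact dvd_mul_left _ _⟩,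
    ⟨n, by rw [← hn, ← hcardK]; exact dvd_mul_right _ _⟩, ?_, ?_⟩
  · intro W hWinv hWN
    apply index_dvd_card T (Subgroup.center G)
    · rintro h hh y ⟨hy1, hy2⟩
      refine ⟨hWinv h y hy1, fun hcon => hy2 ?_⟩
      have hhA := hTA hh
      have : y = h⁻¹ * (h * y * h⁻¹) * h := by group
      rw [this]
      exact Subgroup.mul_mem _ (Subgroup.mul_mem _ (Subgroup.inv_mem _ hhA) hcon) hhA
    · rintro y ⟨hy1, hy2⟩ h hh
      constructor
      · intro hcomm
        by_contra hhZ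
        have h1 : y ∈ (C h) := mem_C.mpr hcomm.symm
        rw [hCa h (hTA hh) hhZ] at h1
        exact hy2 ⟨h1, hWN hy1⟩
      · intro hhZ
        exact (Subgroup.mem_center_iff.mp hhZ y).symm
  · set W : Set G := (T : Set G) \ (Subgroup.center G : Set G) with hW
    have h1 : (D.subgroupOf (Subgroup.normalizer (D : Set G))).index ∣ Nat.card W := by
      apply index_dvd_card (Subgroup.normalizer (D : Set G)) D
      · rintro h hh y ⟨hy1, hy2⟩
        refine ⟨⟨⟨(Subgroup.mem_normalizer_iff.mp hh y).mp (hTA hy1).1, hN.conj_mem y (hTA hy1).2 h⟩, ?_⟩, ?_⟩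
        · obtain ⟨k, hk⟩ := hy1.2
          refine ⟨k, ?_⟩
          rw [conj_pow, hk]; simp
        · exact conj_notMem_center hy2
      · rintro y ⟨hy1, hy2⟩ h _
        rw [← mem_C, hCa y (hTA hy1) hy2]
    have h2 : Nat.card W + Nat.card K = Nat.card T := by
      have himg : W = Subtype.val '' ((K : Set T)ᶜ) := by
        ext x
        constructor
        · rintro ⟨hx1, hx2⟩
          exact ⟨⟨x, hx1⟩, fun hc => hx2 (Subgroup.mem_subgroupOf.mp hc), rfl⟩
        · rintro ⟨y, hy, rfl⟩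
          exact ⟨y.2, fun hc => hy (Subgroup.mem_subgroupOf.mpr hc)⟩
      rw [Nat.card_coe_set_eq, himg, Set.ncard_image_of_injective _ Subtype.val_injective, add_comm]
      have h5 := Set.ncard_add_ncard_compl (K : Set T)
      have hK' : ((K : Set T)).ncard = Nat.card K := (Nat.card_coe_set_eq _).symm
      rwa [hK'] at h5
    have h3 : Nat.card W = Nat.card K * (K.index - 1) := by
      rw [Nat.mul_sub, mul_one]
      omega
    rwa [← h3]

theorem T0 (N : Subgroup G) [hN : N.Normal] {m : ℕ} (hI : HI N m) {u v : G} (huN : u ∈ N) (hvN : v ∈ N)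
    (huZ : u ∉ Subgroup.center G) (hvZ : v ∉ Subgroup.center G) (huv : Commute u v)
    {r s : ℕ} [hr : Fact r.Prime] [hs : Fact s.Prime] (hrs : r ≠ s) {i k : ℕ} (hu : u ^ (s ^ i) = 1)
    (hv : v ^ (r ^ k) = 1) {x : G} (hxN : x ∈ N) (hxZ : x ∉ Subgroup.center G) :
    ∃ g : G, g * x * g⁻¹ ∈ (C u) ⊓ N := by
  by_contra hcon
  push_neg at hcon
  have hCa : ∀ a ∈ (C u) ⊓ N, a ∉ Subgroup.center G → (C a) = (C u) := fun a ha haZ =>
    C_eq_of_mem hI huN hvN huZ hvZ huv hr.out hs.out hrs hu hv ha.2 ha.1 haZ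
  have hA : ∀ a ∈ (C u) ⊓ N, ∀ b ∈ (C u) ⊓ N, a * b = b * a := by
    intro a ha b hb
    by_cases haZ : a ∈ Subgroup.center G
    · exact (Subgroup.mem_center_iff.mp haZ b).symm
    · have h1 : b ∈ (C a) := by rw [hCa a ha haZ]; exact hb.1
      exact (mem_C.mp h1).symm
  have huD : u ∈ (C u) := mem_C.mpr rfl
  have hvD : v ∈ (C u) := mem_C.mpr huv.symm
  obtain ⟨a₁, z₁, h11, ⟨n1, h12⟩, ⟨n1', h13⟩, h14, h15⟩ := part_facts hCa hA r ⟨hvD, hvN⟩ hvZ hv
  obtain ⟨a₂, z₂, h21, ⟨n2, h22⟩, ⟨n2', h23⟩, h24, h25⟩ := part_facts hCa hA s ⟨huD, huN⟩ huZ hu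
  set e := ((C u).subgroupOf (Subgroup.normalizer ((C u) : Set G))).index with he
  -- the two classes
  have hclass : ∀ y : G, y ∈ N → y ∉ Subgroup.center G → (∀ g h : G, ∀ z ∈ {z : G | ∃ g ∈ (⊤ : Subgroup G), z = g * y * g⁻¹},
      g * z * g⁻¹ ∈ {z : G | ∃ g ∈ (⊤ : Subgroup G), z = g * y * g⁻¹})
      ∧ Nat.card {z : G | ∃ g ∈ (⊤ : Subgroup G), z = g * y * g⁻¹} = m
      ∧ {z : G | ∃ g ∈ (⊤ : Subgroup G), z = g * y * g⁻¹} ⊆ N := by
    intro y hyN hyZ
    refine ⟨?_, ?_, ?_⟩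
    · rintro g _ z ⟨g', _, rfl⟩
      exact ⟨g * g', trivial, by group⟩
    · rw [card_orbit ⊤ (C y) y (fun h _ => mem_C.symm)]
      exact (Subgroup.relIndex_top_right (C y)).trans (index_eq hI hyN hyZ)
    · rintro z ⟨g', _, rfl⟩
      exact hN.conj_mem y hyN g'
  obtain ⟨hx1, hx2, hx3⟩ := hclass x hxN hxZ
  obtain ⟨hu1, hu2, hu3⟩ := hclass u huN huZ
  have hx1' := hx1 1 1
  set Ψx : Set G := {z : G | ∃ g ∈ (⊤ : Subgroup G), z = g * x * g⁻¹} with hΨx
  set Ψu : Set G := {z : G | ∃ g ∈ (⊤ : Subgroup G), z = g * u * g⁻¹} with hΨu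
  have hxdiff : Ψx \ (((C u) ⊓ N : Subgroup G) : Set G) = Ψx := by
    ext z
    constructor
    · exact fun h => h.1
    · intro hz
      refine ⟨hz, ?_⟩
      obtain ⟨g, _, rfl⟩ := hz
      exact hcon g
  -- `u`-class inside `A` has size `e`
  have hinter : Ψu ∩ (((C u) ⊓ N : Subgroup G) : Set G) = {y : G | ∃ h ∈ Subgroup.normalizer ((C u) : Set G), y = h * u * h⁻¹} := by
    ext y
    constructor
    · rintro ⟨⟨g, _, rfl⟩, hy⟩
      refine ⟨g, ?_, rfl⟩
      have hy' : g * u * g⁻¹ ∈ (C u) ⊓ N := hy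
      have h1 : (C (g * u * g⁻¹)) = (C u) := hCa _ hy' (conj_notMem_center huZ)
      rw [Subgroup.mem_normalizer_iff]
      intro d
      rw [← conj_mem_C (g := g), h1]
    · rintro ⟨h, hh, rfl⟩
      exact ⟨⟨h, trivial, rfl⟩, ⟨(Subgroup.mem_normalizer_iff.mp hh u).mp huD, hN.conj_mem u huN h⟩⟩
  have hcardX : Nat.card ↥(Ψu ∩ (((C u) ⊓ N : Subgroup G) : Set G)) = e := by
    rw [hinter, he]
    apply card_orbit
    intro h _
    exact mem_C.symm
  have hsplit : e + Nat.card ↥(Ψu \ (((C u) ⊓ N : Subgroup G) : Set G)) = m := by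
    rw [← hu2, ← hcardX, Nat.card_coe_set_eq, Nat.card_coe_set_eq, Nat.card_coe_set_eq]
    exact Set.ncard_inter_add_ncard_sdiff_eq_ncard _ _ (Set.toFinite _)
  have hinv : ∀ y : G, ∀ g : G, ∀ z ∈ {z : G | ∃ g ∈ (⊤ : Subgroup G), z = g * y * g⁻¹},
      g * z * g⁻¹ ∈ {z : G | ∃ g ∈ (⊤ : Subgroup G), z = g * y * g⁻¹} := by
    rintro y g z ⟨g', _, rfl⟩
    exact ⟨g * g', trivial, by group⟩
  have hae : ∀ a : ℕ, (∀ W : Set G, (∀ g : G, ∀ y ∈ W, g * y * g⁻¹ ∈ W) → W ⊆ N →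
        a ∣ Nat.card ↥(W \ (((C u) ⊓ N : Subgroup G) : Set G))) → a ∣ e := by
    intro a ha
    have h1 := ha Ψx (hinv x) hx3
    rw [hxdiff, hx2] at h1
    have h2 := ha Ψu (hinv u) hu3
    have h3 : a ∣ e + Nat.card ↥(Ψu \ (((C u) ⊓ N : Subgroup G) : Set G)) := by rw [hsplit]; exact h1
    exact (Nat.dvd_add_iff_left h2).mpr h3
  have he1 := hae a₁ h14
  have he2 := hae a₂ h24
  have hcop12 : Nat.Coprime a₁ z₂ :=
    Nat.Coprime.coprime_dvd_left h12 (Nat.Coprime.coprime_dvd_right h23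
      (Nat.coprime_pow_primes _ _ hr.out hs.out hrs))
  have hcop21 : Nat.Coprime a₂ z₁ :=
    Nat.Coprime.coprime_dvd_left h22 (Nat.Coprime.coprime_dvd_right h13
      (Nat.coprime_pow_primes _ _ hs.out hr.out hrs.symm))
  have hd1 : a₁ ∣ a₂ - 1 := hcop12.dvd_of_dvd_mul_left (he1.trans h25)
  have hd2 : a₂ ∣ a₁ - 1 := hcop21.dvd_of_dvd_mul_left (he2.trans h15)
  have hl1 := Nat.le_of_dvd (by omega) hd1
  have hl2 := Nat.le_of_dvd (by omega) hd2
  omega

/-- Every element of prime power order `r` lies in a normal subgroup containing a Sylow `r`-subgroup. -/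
theorem mem_of_r_elem {r : ℕ} [hr : Fact r.Prime] (R : Sylow r G) (N : Subgroup G) [hN : N.Normal]
    (hRN : (R : Subgroup G) ≤ N) {v : G} {k : ℕ} (hv : v ^ (r ^ k) = 1) : v ∈ N := by
  have h1 : IsPGroup r (Subgroup.zpowers v) := by
    apply IsPGroup.of_card (n := Nat.log r (orderOf v))
    rw [Nat.card_zpowers]
    obtain ⟨l, _, hl⟩ := (Nat.dvd_prime_pow hr.out).mp (orderOf_dvd_of_pow_eq_one hv)
    rw [hl, Nat.log_pow hr.out.one_lt]
  obtain ⟨Q, hQ⟩ := h1.exists_le_sylow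
  obtain ⟨g, rfl⟩ := MulAction.exists_smul_eq G R Q
  have h2 : v ∈ ((g • R : Sylow r G) : Subgroup G) := hQ (Subgroup.mem_zpowers v)
  rw [Sylow.coe_subgroup_smul, Subgroup.mem_pointwise_smul_iff_inv_smul_mem] at h2
  have h3 := hN.conj_mem _ (hRN h2) g
  have h4 : g * ((MulAut.conj g)⁻¹ • v) * g⁻¹ = v := by
    simp only [MulAut.smul_def, MulAut.conj_inv_apply]
    group
  rwa [h4] at h3

/-- A central `r`-element lies in every Sylow `r`-subgroup. -/
theorem mem_sylow_of_central {r : ℕ} [hr : Fact r.Prime] (R : Sylow r G) {v : G} {k : ℕ}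
    (hv : v ^ (r ^ k) = 1) (hvZ : v ∈ Subgroup.center G) : v ∈ (R : Subgroup G) := by
  have h1 : IsPGroup r (Subgroup.zpowers v) := by
    apply IsPGroup.of_card (n := Nat.log r (orderOf v))
    rw [Nat.card_zpowers]
    obtain ⟨l, _, hl⟩ := (Nat.dvd_prime_pow hr.out).mp (orderOf_dvd_of_pow_eq_one hv)
    rw [hl, Nat.log_pow hr.out.one_lt]
  obtain ⟨Q, hQ⟩ := h1.exists_le_sylow
  obtain ⟨g, rfl⟩ := MulAction.exists_smul_eq G R Q
  have h2 : v ∈ ((g • R : Sylow r G) : Subgroup G) := hQ (Subgroup.mem_zpowers v)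
  rw [Sylow.coe_subgroup_smul, Subgroup.mem_pointwise_smul_iff_inv_smul_mem] at h2
  have h4 : (MulAut.conj g)⁻¹ • v = v := by
    simp only [MulAut.smul_def, MulAut.conj_inv_apply]
    rw [mul_assoc, ← Subgroup.mem_center_iff.mp hvZ g, ← mul_assoc, inv_mul_cancel, one_mul]
  rwa [h4] at h2

/-- The centralizer of a noncentral element of `N` contains a noncentral `r`-element. -/
theorem exists_commuting {r : ℕ} [hr : Fact r.Prime] (R : Sylow r G)
    (hR : ¬ (R : Subgroup G) ≤ Subgroup.center G) (N : Subgroup G) [hN : N.Normal]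
    (hRN : (R : Subgroup G) ≤ N) {m : ℕ} (hI : HI N m) {u : G} (huN : u ∈ N)
    (huZ : u ∉ Subgroup.center G) :
    ∃ v ∈ N, v ∉ Subgroup.center G ∧ Commute u v ∧ ∃ k : ℕ, v ^ (r ^ k) = 1 := by
  obtain ⟨v₀, hv₀R, hv₀Z⟩ := SetLike.not_le_iff_exists.mp hR
  have hidx : (C u).index = (C v₀).index := by
    rw [index_eq hI huN huZ, index_eq hI (hRN hv₀R) hv₀Z]
  have hcard : Nat.card (C u) = Nat.card (C v₀) := by
    have h1 := (C u).card_mul_index
    have h2 := (C v₀).card_mul_index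
    rw [← h2, hidx] at h1
    exact Nat.eq_of_mul_eq_mul_right (Nat.pos_of_ne_zero Subgroup.index_ne_zero_of_finite) h1
  obtain ⟨S⟩ : Nonempty (Sylow r (C u)) := inferInstance
  set S' : Subgroup G := (S : Subgroup (C u)).map (C u).subtype with hS'
  have hS'card : Nat.card S' = r ^ (Nat.card (C u)).factorization r := by
    rw [hS', Subgroup.card_map_of_injective (C u).subtype_injective]
    exact S.card_eq_multiplicity
  by_contra hcon
  push_neg at hcon
  have hS'elem : ∀ v ∈ S', v ∈ (C u) ∧ ∃ k : ℕ, v ^ (r ^ k) = 1 := by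
    rintro _ ⟨y, hy, rfl⟩
    refine ⟨y.2, ?_⟩
    obtain ⟨k, hk⟩ := S.isPGroup' ⟨y, hy⟩
    refine ⟨k, ?_⟩
    have := congrArg (fun z : S => ((z : (C u)) : G)) hk
    simpa using this
  have hS'Z : S' ≤ (R : Subgroup G) ⊓ Subgroup.center G := by
    intro v hv
    obtain ⟨hvC, k, hk⟩ := hS'elem v hv
    have hvN : v ∈ N := mem_of_r_elem R N hRN hk
    have hvZ : v ∈ Subgroup.center G := by
      by_contra hvZ
      exact hcon v hvN hvZ (mem_C.mp hvC).symm k hk
    exact ⟨mem_sylow_of_central R hk hvZ, hvZ⟩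
  set K : Subgroup G := (R : Subgroup G) ⊓ (C v₀) with hK
  have hZK : (R : Subgroup G) ⊓ Subgroup.center G ≤ K := by
    rintro x ⟨hx1, hx2⟩
    exact ⟨hx1, mem_C.mpr (Subgroup.mem_center_iff.mp hx2 v₀).symm⟩
  have hv₀K : v₀ ∈ K := ⟨hv₀R, mem_C.mpr rfl⟩
  have hlt : Nat.card ↥((R : Subgroup G) ⊓ Subgroup.center G) < Nat.card K := by
    apply lt_of_le_of_ne (Nat.le_of_dvd Nat.card_pos (Subgroup.card_dvd_of_le hZK))
    intro heq
    have := Subgroup.eq_of_le_of_card_ge hZK heq.ge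
    rw [← this] at hv₀K
    exact hv₀Z hv₀K.2
  have hKp : IsPGroup r K := R.isPGroup'.to_le inf_le_left
  obtain ⟨n, hn⟩ := IsPGroup.iff_card.mp hKp
  have hKdvd : Nat.card K ∣ Nat.card (C u) := by
    rw [hcard]; exact Subgroup.card_dvd_of_le inf_le_right
  have hle : Nat.card K ≤ Nat.card S' := by
    rw [hS'card, hn]
    rw [hn] at hKdvd
    have := (Nat.Prime.pow_dvd_iff_le_factorization hr.out Nat.card_pos.ne').mp hKdvd
    exact Nat.pow_le_pow_right hr.out.pos this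
  have hle2 : Nat.card S' ≤ Nat.card ↥((R : Subgroup G) ⊓ Subgroup.center G) :=
    Nat.le_of_dvd Nat.card_pos (Subgroup.card_dvd_of_le hS'Z)
  omega

theorem case_two (N : Subgroup G) [hN : N.Normal] {m : ℕ} (hI : HI N m) {u v : G} (huN : u ∈ N) (hvN : v ∈ N)
    (huZ : u ∉ Subgroup.center G) (hvZ : v ∉ Subgroup.center G) (huv : Commute u v)
    {r s : ℕ} [hr : Fact r.Prime] [hs : Fact s.Prime] (hrs : r ≠ s) {i k : ℕ} (hu : u ^ (s ^ i) = 1)
    (hv : v ^ (r ^ k) = 1) : Group.IsNilpotent N := by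
  have hCa : ∀ a ∈ (C u) ⊓ N, a ∉ Subgroup.center G → (C a) = (C u) := fun a ha haZ =>
    C_eq_of_mem hI huN hvN huZ hvZ huv hr.out hs.out hrs hu hv ha.2 ha.1 haZ
  have hA : ∀ a ∈ (C u) ⊓ N, ∀ b ∈ (C u) ⊓ N, a * b = b * a := by
    intro a ha b hb
    by_cases haZ : a ∈ Subgroup.center G
    · exact (Subgroup.mem_center_iff.mp haZ b).symm
    · have h1 : b ∈ (C a) := by rw [hCa a ha haZ]; exact hb.1
      exact (mem_C.mp h1).symm
  have hCC : (C u) = (C v) :=
    C_eq_of_commute hI huN hvN huZ hvZ huv (coprime_of_primary hs.out hr.out hrs.symm hu hv)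
  by_cases hND : N ≤ (C u)
  · apply nilpotent_of_pow_central r
    intro x
    refine ⟨0, ?_⟩
    rw [pow_zero, pow_one, Subgroup.mem_center_iff]
    intro y
    apply Subtype.ext
    exact hA y.1 ⟨hND y.2, y.2⟩ x.1 ⟨hND x.2, x.2⟩
  · exfalso
    obtain ⟨y, hyN, hyD⟩ := SetLike.not_le_iff_exists.mp hND
    have hI' : HI (⊤ : Subgroup N) ((C u).subgroupOf N).index := by
      rintro ⟨x, hxN⟩ _
      by_cases hxZ : x ∈ Subgroup.center G
      · left
        rw [Subgroup.index_eq_one, eq_top_iff]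
        intro z _
        rw [Subgroup.mem_centralizer_singleton_iff]
        exact Subtype.ext (Subgroup.mem_center_iff.mp hxZ z.1)
      · right
        obtain ⟨g, hg⟩ := T0 N hI huN hvN huZ hvZ huv hrs hu hv hxN hxZ
        have h1 : (C (g * x * g⁻¹)) = (C u) := hCa _ hg (conj_notMem_center hxZ)
        have h2 : Subgroup.centralizer ({⟨x, hxN⟩} : Set N) =
            ((C u).subgroupOf N).comap (MulAut.conjNormal g : N ≃* N).toMonoidHom := by
          ext z
          rw [Subgroup.mem_centralizer_singleton_iff, Subgroup.mem_comap, Subgroup.mem_subgroupOf]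
          change _ ↔ (((MulAut.conjNormal g : N ≃* N) z : N) : G) ∈ (C u)
          rw [MulAut.conjNormal_apply, ← h1, conj_mem_C, mem_C]
          exact ⟨fun e => congrArg Subtype.val e, fun e => Subtype.ext e⟩
        rw [h2]
        exact Subgroup.index_comap_of_surjective _ (MulEquiv.surjective _)
    have hu' : (⟨u, huN⟩ : N) ∉ Subgroup.center N := fun hz =>
      hyD (mem_C.mpr (congrArg Subtype.val (Subgroup.mem_center_iff.mp hz ⟨y, hyN⟩)))
    have hv' : (⟨v, hvN⟩ : N) ∉ Subgroup.center N := fun hz =>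
      hyD (hCC ▸ mem_C.mpr (congrArg Subtype.val (Subgroup.mem_center_iff.mp hz ⟨y, hyN⟩)))
    have huv' : Commute (⟨u, huN⟩ : N) ⟨v, hvN⟩ := Subtype.ext huv
    have hu'' : (⟨u, huN⟩ : N) ^ (s ^ i) = 1 := Subtype.ext (by simpa using hu)
    have hv'' : (⟨v, hvN⟩ : N) ^ (r ^ k) = 1 := Subtype.ext (by simpa using hv)
    have htop := Lib.Basic.JordanCover.eq_top_of_forall_conj_mem
      (Subgroup.centralizer ({⟨u, huN⟩} : Set N)) (fun g => by
      by_cases hg : g ∈ Subgroup.center N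
      · refine ⟨1, ?_⟩
        rw [one_mul, inv_one, mul_one, Subgroup.mem_centralizer_singleton_iff]
        exact (Subgroup.mem_center_iff.mp hg _).symm
      · obtain ⟨g', hg'⟩ := T0 (⊤ : Subgroup N) hI' trivial trivial hu' hv' huv' hrs hu'' hv'' trivial hg
        exact ⟨g', hg'.1⟩)
    exact hu' (S4314.mem_center_iff_C.mpr htop)

end Main

/-- Let G be a finite group, r a prime and R a Sylow r-subgroup of G that is not central, N a normal subgroup of G containing R, and m a natural number such that every element of N has a conjugacy class in G of size 1 or m. Then N is nilpotent. -/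
theorem result {G : Type*} [Group G] [Finite G] (r : ℕ) [Fact r.Prime]
    (R : Sylow r G) (hR : ¬ (R : Subgroup G) ≤ Subgroup.center G) (N : Subgroup G) [N.Normal] (hRN : (R : Subgroup G) ≤ N)
    (m : ℕ) (h : ∀ x ∈ N, (Subgroup.centralizer ({x} : Set G)).index = 1 ∨ (Subgroup.centralizer ({x} : Set G)).index = m) : Group.IsNilpotent N := by
  have hrp : r.Prime := Fact.out
  by_cases hcase : ∃ u ∈ N, u ∉ Subgroup.center G ∧ ∃ s : ℕ, s.Prime ∧ s ≠ r ∧ ∃ i : ℕ, u ^ (s ^ i) = 1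
  · obtain ⟨u, huN, huZ, s, hs, hsr, i, hu⟩ := hcase
    haveI : Fact s.Prime := ⟨hs⟩
    obtain ⟨v, hvN, hvZ, huv, k, hv⟩ := exists_commuting R hR N hRN h huN huZ
    exact case_two N h huN hvN huZ hvZ huv hsr.symm hu hv
  · push_neg at hcase
    apply nilpotent_of_pow_central r
    intro x
    obtain ⟨a, b, hab, ha, hb, ⟨k, hak⟩, hbc⟩ := S4314.exists_decomp x.1 r
    have hbZ : b ∈ Subgroup.center G := S3904.mem_of_primary_powers _ b (fun c hc q hq hj => by
      obtain ⟨j, hj⟩ := hj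
      by_cases hqr : q = r
      · subst hqr
        have h1 : orderOf c ∣ orderOf b := orderOf_dvd_of_mem_zpowers hc
        have h2 : orderOf c ∣ q ^ j := orderOf_dvd_of_pow_eq_one hj
        have h3 : Nat.Coprime (orderOf b) (q ^ j) := Nat.Coprime.pow_right j hbc
        have h4 : orderOf c = 1 := Nat.eq_one_of_dvd_coprimes h3 h1 h2
        rw [orderOf_eq_one_iff.mp h4]
        exact Subgroup.one_mem _
      · by_contra hcZ
        have hcN : c ∈ N := (Subgroup.zpowers_le.mpr ((Subgroup.zpowers_le.mpr x.2) hb)) hc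
        exact hcase c hcN hcZ q hq hqr j hj)
    refine ⟨k, ?_⟩
    have h1 : a ^ (r ^ k) = 1 := orderOf_dvd_iff_pow_eq_one.mp hak
    have h2 : Commute a b := Subgroup.mem_center_iff.mp hbZ a
    rw [Subgroup.mem_center_iff]
    intro y
    apply Subtype.ext
    have h3 : (x : G) ^ (r ^ k) = b ^ (r ^ k) := by
      rw [hab, h2.mul_pow, h1, one_mul]
    have h4 : b ^ (r ^ k) ∈ Subgroup.center G := Subgroup.pow_mem _ hbZ _
    simp only [Subgroup.coe_mul, Subgroup.coe_pow]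
    rw [h3]
    exact Subgroup.mem_center_iff.mp h4 _

end Cfsg.Agent.S4135
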