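import Cfsg.Statements.S4138
import Cfsg.Agent.Lib.Solvable.CoprimeClass
import Cfsg.Agent.Lib.Coprime.Averaging
import Cfsg.Agent.Lib.Solvable.FrobQuot

set_option autoImplicit false
set_option linter.unusedSectionVars false
set_option linter.unusedVariables false
open Cfsg
open scoped Pointwise

namespace Cfsg.Agent.S4138

open Cfsg.Agent.S3904 (mem_C mem_C_comm mem_of_primary_powers conj_smul_C conj_notMem_center)
open Cfsg.Agent.Lib.Solvable.CoprimeClass
open Cfsg.Agent

section Hyp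

variable {G : Type*} [Group G] [Finite G]

local notation "C" x => Subgroup.centralizer ({x} : Set G)

/-- The hypotheses of the theorem. -/
structure Hyp (G : Type*) [Group G] (m n : ℕ) : Prop where
  hmn : n < m
  hn : 1 < n
  hcop : m.Coprime n
  htop : ∀ z : G, (Subgroup.centralizer ({z} : Set G)).index ≤ m
  hsecond : ∀ z : G, (Subgroup.centralizer ({z} : Set G)).index < m →
    (Subgroup.centralizer ({z} : Set G)).index ≤ n
  exx : ∃ x : G, (Subgroup.centralizer ({x} : Set G)).index = n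
  exy : ∃ y : G, (Subgroup.centralizer ({y} : Set G)).index = m

variable {m n : ℕ}

theorem Hyp.not_dvd_m (H : Hyp G m n) {p : ℕ} (hp : p.Prime) (hpn : p ∣ n) : ¬ p ∣ m := fun hpm =>
  hp.one_lt.ne' (Nat.eq_one_of_dvd_coprimes H.hcop hpm hpn)

theorem Hyp.not_dvd_n (H : Hyp G m n) {p : ℕ} (hp : p.Prime) (hpm : p ∣ m) : ¬ p ∣ n := fun hpn =>
  hp.one_lt.ne' (Nat.eq_one_of_dvd_coprimes H.hcop hpm hpn)

theorem Hyp.m_pos (H : Hyp G m n) : 0 < m := by have := H.hmn; omega
theorem Hyp.n_pos (H : Hyp G m n) : 0 < n := by have := H.hn; omega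

theorem coprime_of_primary {a : G} {r M : ℕ} (hr : r.Prime) (hrM : ¬ r ∣ M) (ha : ∃ k : ℕ, a ^ (r ^ k) = 1) :
    (orderOf a).Coprime M := by
  obtain ⟨k, hk⟩ := ha
  have h1 : (r ^ k).Coprime M := Nat.Coprime.pow_left k ((Nat.Prime.coprime_iff_not_dvd hr).mpr hrM)
  exact Nat.Coprime.coprime_dvd_left (orderOf_dvd_of_pow_eq_one hk) h1

/-- A2. -/
theorem Hyp.central_of_coprime (H : Hyp G m n) {a : G} (hs : (C a).index.Coprime m)
    (ho : (orderOf a).Coprime m) : a ∈ Subgroup.center G := by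
  obtain ⟨y, hy⟩ := H.exy
  have h1 : (C a).index.Coprime (C y).index := by rwa [hy]
  have h2 : (C (a * y)).index = (C y).index := by
    apply le_antisymm
    · rw [hy]; exact H.htop _
    · exact index_le_mul h1
  exact central_of_class_product h1 h2 (by rwa [hy])

theorem Hyp.central_of_primary (H : Hyp G m n) {a : G} (hs : (C a).index.Coprime m) {r : ℕ}
    (hr : r.Prime) (hrm : ¬ r ∣ m) (ha : ∃ k : ℕ, a ^ (r ^ k) = 1) : a ∈ Subgroup.center G :=
  H.central_of_coprime hs (coprime_of_primary hr hrm ha)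

theorem C_eq_of_central_mul {x a b : G} (hab : x = a * b) (ha : a ∈ Subgroup.center G)
    (hb : b ∈ Subgroup.zpowers x) : (C b) = (C x) := by
  apply le_antisymm
  · intro g hg
    rw [mem_C] at hg ⊢
    rw [hab]
    have h1 : g * a = a * g := (Subgroup.mem_center_iff.mp ha) g
    calc g * (a * b) = (g * a) * b := by group
      _ = a * (g * b) := by rw [h1]; group
      _ = a * (b * g) := by rw [hg]
      _ = a * b * g := by group
  · exact S4314.C_le_of_mem_zpowers hb

/-- Removal of the central `p`-part. -/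
theorem Hyp.removal (H : Hyp G m n) {x : G} (hs : (C x).index.Coprime m) (p : ℕ) [Fact p.Prime]
    (hp : ¬ p ∣ m) : ∃ b ∈ Subgroup.zpowers x, (orderOf b).Coprime p ∧ (C b) = (C x) ∧
      ∃ a ∈ Subgroup.center G, x = a * b := by
  obtain ⟨a, b, hab, ha, hb, ⟨k, hak⟩, hbc⟩ := S4314.exists_decomp x p
  have hpp : p.Prime := Fact.out
  have haZ : a ∈ Subgroup.center G := by
    apply H.central_of_primary _ hpp hp ⟨k, orderOf_dvd_iff_pow_eq_one.mp hak⟩
    exact Nat.Coprime.coprime_dvd_left (index_C_le_of_mem ha) hs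
  exact ⟨b, hb, hbc, C_eq_of_central_mul hab haZ hb, a, haZ, hab⟩

theorem notMem_center_of_notMem_C {e x : G} (h : e ∉ (C x)) : e ∉ Subgroup.center G := fun hZ =>
  h ((Subgroup.center_le_centralizer _) hZ)

theorem conj_mem_center {g a : G} (h : g⁻¹ * a * g ∈ Subgroup.center G) : a ∈ Subgroup.center G := by
  have h1 : g * (g⁻¹ * a * g) * g⁻¹ ∈ Subgroup.center G :=
    (Subgroup.center G).normal_of_characteristic.conj_mem _ h g
  have h2 : g * (g⁻¹ * a * g) * g⁻¹ = a := by group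
  rwa [h2] at h1

theorem index_C_conj' (g a : G) : (C (g⁻¹ * a * g)).index = (C a).index := by
  have := index_C_conj g⁻¹ a
  simpa using this

theorem pow_conj_primary {g a : G} {r : ℕ} (ha : ∃ k : ℕ, a ^ (r ^ k) = 1) :
    ∃ k : ℕ, (g⁻¹ * a * g) ^ (r ^ k) = 1 := by
  obtain ⟨k, hk⟩ := ha
  refine ⟨k, ?_⟩
  have : (g⁻¹ * a * g) ^ (r ^ k) = g⁻¹ * a ^ (r ^ k) * g := by
    have := conj_pow (a := g⁻¹) (b := a) (i := r ^ k)
    simpa using this
  rw [this, hk]; group

/-- Existence of a noncentral `p`-element commuting with `x`, if `x` commutes with a top element. -/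
theorem Hyp.exists_noncentral_commuting (H : Hyp G m n) {x y : G} (hx : (C x).index = n)
    (hy : (C y).index = m) (hcomm : Commute x y) (p : ℕ) [Fact p.Prime] (hpn : p ∣ n) :
    ∃ h : G, h ∉ Subgroup.center G ∧ (∃ k : ℕ, h ^ (p ^ k) = 1) ∧ Commute x h := by
  have hpp : p.Prime := Fact.out
  have hpm := H.not_dvd_m hpp hpn
  obtain ⟨c, d, hcd, hc, hd, ⟨k, hck⟩, hdc⟩ := S4314.exists_decomp y p
  by_cases hcZ : c ∈ Subgroup.center G
  · have hCd : (C d) = (C y) := C_eq_of_central_mul hcd hcZ hd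
    obtain ⟨e, he, heC⟩ := exists_pelement_notMem (C x) p (by rw [hx]; exact hpn)
    have heZ := notMem_center_of_notMem_C heC
    obtain ⟨g, hg⟩ := conj_into (C y) p (by rw [hy]; exact hpm) e he
    set h := g⁻¹ * e * g with hh
    have hhZ : h ∉ Subgroup.center G := fun hz => heZ (conj_mem_center hz)
    have hhp : ∃ k : ℕ, h ^ (p ^ k) = 1 := pow_conj_primary he
    have hhd : Commute h d := by
      have : h ∈ (C d) := by rw [hCd]; exact hg
      exact mem_C.mp this
    have hcop : (orderOf h).Coprime (orderOf d) := by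
      obtain ⟨k', hk'⟩ := hhp
      have h1 : (p ^ k').Coprime (orderOf d) := Nat.Coprime.pow_left k' hdc.symm
      exact Nat.Coprime.coprime_dvd_left (orderOf_dvd_of_pow_eq_one hk') h1
    have hEq := C_mul_eq hhd hcop
    have hle : (C (h * d)) ≤ (C d) := by rw [hEq]; exact inf_le_right
    have hidx : (C (h * d)).index ≤ (C d).index := by
      have h1 : (C (h * d)).index ≤ m := H.htop _
      rw [hCd, hy]; exact h1
    have hEq2 : (C (h * d)) = (C d) := eq_of_le_of_index_le hle hidx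
    refine ⟨h, hhZ, hhp, ?_⟩
    have hxd : x ∈ (C d) := by rw [hCd]; exact mem_C.mpr hcomm
    rw [← hEq2, hEq] at hxd
    exact (mem_C.mp (Subgroup.mem_inf.mp hxd).1)
  · refine ⟨c, hcZ, ⟨k, orderOf_dvd_iff_pow_eq_one.mp hck⟩, ?_⟩
    obtain ⟨j, rfl⟩ := hc
    exact hcomm.zpow_right j

/-- (B) -/
theorem Hyp.not_commute (H : Hyp G m n) {x y : G} (hx : (C x).index = n)
    (hy : (C y).index = m) : ¬ Commute x y := by
  intro hcomm
  have hne : n ≠ 1 := by have := H.hn; omega
  have hpp : n.minFac.Prime := Nat.minFac_prime hne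
  haveI : Fact n.minFac.Prime := ⟨hpp⟩
  set p := n.minFac with hp
  have hpn : p ∣ n := Nat.minFac_dvd n
  have hpm := H.not_dvd_m hpp hpn
  obtain ⟨h, hhZ, ⟨k, hk⟩, hxh⟩ := H.exists_noncentral_commuting hx hy hcomm p hpn
  obtain ⟨b, hb, hbo, hCb, -⟩ := H.removal (x := x) (by rw [hx]; exact H.hcop.symm) p hpm
  have hbh : Commute b h := by
    obtain ⟨j, rfl⟩ := hb
    exact hxh.zpow_left j
  have hcop : (orderOf b).Coprime (orderOf h) := by
    have h1 : (orderOf b).Coprime (p ^ k) := Nat.Coprime.pow_right k hbo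
    exact Nat.Coprime.coprime_dvd_right (orderOf_dvd_of_pow_eq_one hk) h1
  have hEq := C_mul_eq hbh hcop
  have hle : (C (b * h)) ≤ (C b) := by rw [hEq]; exact inf_le_left
  have hdvd : n ∣ (C (b * h)).index := by
    have := Subgroup.index_dvd_of_le hle
    rwa [hCb, hx] at this
  by_cases hlt : (C (b * h)).index < m
  · have h1 := H.hsecond _ hlt
    have h2 : (C (b * h)) = (C b) := eq_of_le_of_index_le hle (by rw [hCb, hx]; exact h1)
    have h3 : (C b) ≤ (C h) := by
      rw [← h2, hEq]; exact inf_le_right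
    have h4 : (C h).index ∣ n := by
      have := Subgroup.index_dvd_of_le h3
      rwa [hCb, hx] at this
    exact hhZ (H.central_of_primary (Nat.Coprime.coprime_dvd_left h4 H.hcop.symm) hpp hpm ⟨k, hk⟩)
  · have h1 : (C (b * h)).index = m := le_antisymm (H.htop _) (not_lt.mp hlt)
    rw [h1] at hdvd
    exact hpm (hpn.trans hdvd)

/-- (D) -/
theorem Hyp.central_of_commute (H : Hyp G m n) {x u : G} (hx : (C x).index = n) (hcomm : Commute u x)
    (hs : (C u).index.Coprime n) (ho : (orderOf u).Coprime n) : u ∈ Subgroup.center G := by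
  have h1 : (C u).index.Coprime (C x).index := by rwa [hx]
  have h2 : (C x).index ≤ (C (u * x)).index := index_le_mul h1
  have h3 : (C (u * x)).index ≠ m := by
    intro h4
    apply H.not_commute hx h4
    exact hcomm.symm.mul_right (Commute.refl x)
  have h5 : (C (u * x)).index < m := lt_of_le_of_ne (H.htop _) h3
  have h6 := H.hsecond _ h5
  have h7 : (C (u * x)).index = (C x).index := le_antisymm (by rw [hx]; exact h6) h2
  exact central_of_class_product h1 h7 (by rwa [hx])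

/-- (G) -/
theorem Hyp.central_of_coprime_n (H : Hyp G m n) {c : G} {r : ℕ} (hr : r.Prime) (hrn : ¬ r ∣ n)
    (hc : ∃ k : ℕ, c ^ (r ^ k) = 1) (hs : (C c).index.Coprime n) : c ∈ Subgroup.center G := by
  obtain ⟨x, hx⟩ := H.exx
  haveI : Fact r.Prime := ⟨hr⟩
  obtain ⟨g, hg⟩ := conj_into (C x) r (by rwa [hx]) c hc
  have h1 : g⁻¹ * c * g ∈ Subgroup.center G := by
    apply H.central_of_commute hx (mem_C.mp hg)
    · rwa [index_C_conj']
    · exact coprime_of_primary hr hrn (pow_conj_primary hc)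
  exact conj_mem_center h1

/-- (F) -/
theorem Hyp.central_of_mem_C (H : Hyp G m n) {x w : G} (hx : (C x).index = n) (hw : w ∈ (C x))
    {r : ℕ} (hr : r.Prime) (hrm : ¬ r ∣ m) (he : ∃ k : ℕ, w ^ (r ^ k) = 1) :
    w ∈ Subgroup.center G := by
  haveI : Fact r.Prime := ⟨hr⟩
  obtain ⟨b, hb, hbo, hCb, -⟩ := H.removal (x := x) (by rw [hx]; exact H.hcop.symm) r hrm
  have hbw : Commute b w := by
    have : w ∈ (C b) := by rw [hCb]; exact hw
    exact (mem_C.mp this).symm
  have hcop : (orderOf b).Coprime (orderOf w) := by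
    obtain ⟨k, hk⟩ := he
    have h1 : (orderOf b).Coprime (r ^ k) := Nat.Coprime.pow_right k hbo
    exact Nat.Coprime.coprime_dvd_right (orderOf_dvd_of_pow_eq_one hk) h1
  have hEq := C_mul_eq hbw hcop
  have hle : (C (b * w)) ≤ (C b) := by rw [hEq]; exact inf_le_left
  have hxb : Commute x b := by
    obtain ⟨j, rfl⟩ := hb
    exact ((Commute.refl x).zpow_right j)
  have hxw : Commute x w := (mem_C.mp hw).symm
  have h3 : (C (b * w)).index ≠ m := by
    intro h4
    exact H.not_commute hx h4 (hxb.mul_right hxw)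
  have h5 := H.hsecond _ (lt_of_le_of_ne (H.htop _) h3)
  have h2 : (C (b * w)) = (C b) := eq_of_le_of_index_le hle (by rw [hCb, hx]; exact h5)
  have h6 : (C b) ≤ (C w) := by
    rw [← h2, hEq]; exact inf_le_right
  have h7 : (C w).index ∣ n := by
    have := Subgroup.index_dvd_of_le h6
    rwa [hCb, hx] at this
  exact H.central_of_primary (Nat.Coprime.coprime_dvd_left h7 H.hcop.symm) hr hrm he

/-- (Q) -/
theorem Hyp.C_inf_le_center (H : Hyp G m n) {x y : G} (hx : (C x).index = n) (hy : (C y).index = m) :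
    (C x) ⊓ (C y) ≤ Subgroup.center G := by
  intro c hc
  apply mem_of_primary_powers
  intro a ha r hr he
  have haI : a ∈ (C x) ⊓ (C y) := (Subgroup.zpowers_le.mpr hc) ha
  have hax : a ∈ (C x) := (Subgroup.mem_inf.mp haI).1
  have hay : a ∈ (C y) := (Subgroup.mem_inf.mp haI).2
  by_cases hrm : r ∣ m
  · haveI : Fact r.Prime := ⟨hr⟩
    have hrn := H.not_dvd_n hr hrm
    obtain ⟨c', d, hcd, hc', hd, ⟨k, hck⟩, hdc⟩ := S4314.exists_decomp y r
    have hc'Z : c' ∈ Subgroup.center G := by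
      apply H.central_of_coprime_n hr hrn ⟨k, orderOf_dvd_iff_pow_eq_one.mp hck⟩
      have := index_C_le_of_mem hc'
      rw [hy] at this
      exact Nat.Coprime.coprime_dvd_left this H.hcop
    have hCd : (C d) = (C y) := C_eq_of_central_mul hcd hc'Z hd
    have had : Commute a d := by
      have : a ∈ (C d) := by rw [hCd]; exact hay
      exact mem_C.mp this
    have hcop : (orderOf a).Coprime (orderOf d) := by
      obtain ⟨k', hk'⟩ := he
      have h1 : (r ^ k').Coprime (orderOf d) := Nat.Coprime.pow_left k' hdc.symm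
      exact Nat.Coprime.coprime_dvd_left (orderOf_dvd_of_pow_eq_one hk') h1
    have hEq := C_mul_eq had hcop
    have hle : (C (a * d)) ≤ (C d) := by rw [hEq]; exact inf_le_right
    have hEq2 : (C (a * d)) = (C d) := eq_of_le_of_index_le hle (by rw [hCd, hy]; exact H.htop _)
    have h6 : (C d) ≤ (C a) := by
      rw [← hEq2, hEq]; exact inf_le_left
    have h7 : (C a).index ∣ m := by
      have := Subgroup.index_dvd_of_le h6
      rwa [hCd, hy] at this
    exact H.central_of_commute hx (mem_C.mp hax) (Nat.Coprime.coprime_dvd_left h7 H.hcop)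
      (coprime_of_primary hr hrn he)
  · exact H.central_of_mem_C hx hax hr hrm he

theorem Hyp.C_inf_eq_center (H : Hyp G m n) {x y : G} (hx : (C x).index = n) (hy : (C y).index = m) :
    (C x) ⊓ (C y) = Subgroup.center G :=
  le_antisymm (H.C_inf_le_center hx hy) (le_inf (Subgroup.center_le_centralizer _)
    (Subgroup.center_le_centralizer _))

theorem Hyp.index_center (H : Hyp G m n) : (Subgroup.center G).index = n * m := by
  obtain ⟨x, hx⟩ := H.exx
  obtain ⟨y, hy⟩ := H.exy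
  rw [← H.C_inf_eq_center hx hy, index_inf_eq (by rw [hx, hy]; exact H.hcop.symm), hx, hy]

theorem Hyp.relIndex_center_of_top (H : Hyp G m n) {y : G} (hy : (C y).index = m) :
    (Subgroup.center G).relIndex (C y) = n := by
  have h1 : (Subgroup.center G).relIndex (C y) * (C y).index = (Subgroup.center G).index :=
    Subgroup.relIndex_mul_index (Subgroup.center_le_centralizer _)
  rw [H.index_center, hy] at h1
  exact Nat.eq_of_mul_eq_mul_right H.m_pos h1

theorem Hyp.relIndex_center_of_second (H : Hyp G m n) {x : G} (hx : (C x).index = n) :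
    (Subgroup.center G).relIndex (C x) = m := by
  have h1 : (Subgroup.center G).relIndex (C x) * (C x).index = (Subgroup.center G).index :=
    Subgroup.relIndex_mul_index (Subgroup.center_le_centralizer _)
  rw [H.index_center, hx, mul_comm n m] at h1
  exact Nat.eq_of_mul_eq_mul_right H.n_pos h1


/-- Conjugates of elements of `𝓐` commute. -/
theorem Hyp.class_top (H : Hyp G m n) {a y : G} (hs : (C a).index.Coprime m) (hy : (C y).index = m) :
    (C a).index.Coprime (C y).index ∧ (C (a * y)).index = (C y).index := by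
  have h1 : (C a).index.Coprime (C y).index := by rwa [hy]
  refine ⟨h1, le_antisymm ?_ (index_le_mul h1)⟩
  rw [hy]; exact H.htop _

theorem Hyp.conj_comm (H : Hyp G m n) {a : G} (hs : (C a).index.Coprime m) (g : G) :
    Commute a (g * a * g⁻¹) := by
  obtain ⟨y, hy⟩ := H.exy
  obtain ⟨h1, h2⟩ := H.class_top hs hy
  obtain ⟨K, -, hK1, -, hK3, -⟩ := class_product h1 h2
  have hk : a⁻¹ * (g * a * g⁻¹) ∈ (C a) := hK3 (hK1 g)
  have e : g * a * g⁻¹ = a * (a⁻¹ * (g * a * g⁻¹)) := by group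
  rw [e]
  exact (Commute.refl a).mul_right (mem_C.mp hk).symm

theorem Hyp.comm_of_primary (H : Hyp G m n) {d c : G} (hd : (C d).index.Coprime m)
    (hc : (C c).index.Coprime m) {r : ℕ} (hr : r.Prime) (he : ∃ k : ℕ, d ^ (r ^ k) = 1) : Commute d c := by
  by_cases hrm : r ∣ m
  · haveI : Fact r.Prime := ⟨hr⟩
    set L := Subgroup.normalClosure ({d} : Set G) with hL
    have hgen : ∀ x ∈ Group.conjugatesOfSet ({d} : Set G), ∃ g : G, g * d * g⁻¹ = x := by
      intro x hx
      rw [Group.mem_conjugatesOfSet_iff] at hx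
      obtain ⟨a, ha, hax⟩ := hx
      rw [Set.mem_singleton_iff] at ha
      subst ha
      exact isConj_iff.mp hax
    have hcomm : ∀ x ∈ Group.conjugatesOfSet ({d} : Set G), ∀ y ∈ Group.conjugatesOfSet ({d} : Set G),
        x * y = y * x := by
      intro x hx y hy
      obtain ⟨g₁, rfl⟩ := hgen x hx
      obtain ⟨g₂, rfl⟩ := hgen y hy
      have h1 := H.conj_comm hd (g₁⁻¹ * g₂)
      have h2 : d * ((g₁⁻¹ * g₂) * d * (g₁⁻¹ * g₂)⁻¹) = ((g₁⁻¹ * g₂) * d * (g₁⁻¹ * g₂)⁻¹) * d := h1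
      calc g₁ * d * g₁⁻¹ * (g₂ * d * g₂⁻¹)
          = g₁ * (d * ((g₁⁻¹ * g₂) * d * (g₁⁻¹ * g₂)⁻¹)) * g₁⁻¹ := by group
        _ = g₁ * (((g₁⁻¹ * g₂) * d * (g₁⁻¹ * g₂)⁻¹) * d) * g₁⁻¹ := by rw [h2]
        _ = g₂ * d * g₂⁻¹ * (g₁ * d * g₁⁻¹) := by group
    have hLc : IsMulCommutative (Subgroup.closure (Group.conjugatesOfSet ({d} : Set G))) :=
      Subgroup.isMulCommutative_closure hcomm
    have hcomm2 : ∀ x ∈ L, ∀ y ∈ L, x * y = y * x := by
      intro x hx y hy
      have := mul_comm' (⟨x, hx⟩ : Subgroup.closure (Group.conjugatesOfSet ({d} : Set G))) ⟨y, hy⟩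
      exact congrArg Subtype.val this
    have hPL : ∀ l ∈ L, ∃ k : ℕ, l ^ (r ^ k) = 1 := by
      intro l hl
      induction hl using Subgroup.closure_induction with
      | mem x hx =>
        obtain ⟨g, rfl⟩ := hgen x hx
        obtain ⟨k, hk⟩ := he
        refine ⟨k, ?_⟩
        rw [conj_pow, hk]; group
      | one => exact ⟨0, by simp⟩
      | mul x y hx hy ihx ihy =>
        obtain ⟨k₁, hk₁⟩ := ihx
        obtain ⟨k₂, hk₂⟩ := ihy
        refine ⟨k₁ + k₂, ?_⟩
        have hcm : Commute x y := hcomm2 x hx y hy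
        rw [hcm.mul_pow, pow_add, pow_mul, hk₁, one_pow, one_mul, mul_comm, pow_mul, hk₂, one_pow]
      | inv x hx ih =>
        obtain ⟨k, hk⟩ := ih
        exact ⟨k, by rw [inv_pow, hk, inv_one]⟩
    have hle : L ≤ (C c) := by
      apply normal_pgroup_le L r hPL
      intro hdvd
      exact hr.one_lt.ne' (Nat.eq_one_of_dvd_coprimes hc hdvd hrm)
    have hdL : d ∈ L := Subgroup.subset_normalClosure (Set.mem_singleton d)
    exact mem_C.mp (hle hdL)
  · have hZ := H.central_of_primary hd hr hrm he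
    exact (Subgroup.mem_center_iff.mp hZ c).symm

theorem Hyp.comm_AA (H : Hyp G m n) {a c : G} (ha : (C a).index.Coprime m) (hc : (C c).index.Coprime m) :
    Commute a c := by
  have : a ∈ (C c) := by
    apply mem_of_primary_powers
    intro b hb r hr he
    have h1 : (C b).index.Coprime m := Nat.Coprime.coprime_dvd_left (index_C_le_of_mem hb) ha
    exact mem_C.mpr (H.comm_of_primary h1 hc hr he)
  exact mem_C.mp this

/-- The subgroup generated by all elements whose class size is coprime to `m`. -/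
def FF (G : Type*) [Group G] (m : ℕ) : Subgroup G :=
  Subgroup.closure {a : G | (Subgroup.centralizer ({a} : Set G)).index.Coprime m}

theorem mem_FF_of_coprime {a : G} (ha : (C a).index.Coprime m) : a ∈ FF G m :=
  Subgroup.subset_closure ha

theorem center_le_FF : Subgroup.center G ≤ FF G m := by
  intro z hz
  apply mem_FF_of_coprime
  rw [S4314.mem_center_iff_C.mp hz, Subgroup.index_top]
  exact Nat.coprime_one_left m

theorem Hyp.FF_comm (H : Hyp G m n) : ∀ a ∈ FF G m, ∀ b ∈ FF G m, a * b = b * a := by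
  have hc : IsMulCommutative (FF G m) := Subgroup.isMulCommutative_closure (fun a ha b hb => H.comm_AA ha hb)
  intro a ha b hb
  exact congrArg Subtype.val (mul_comm' (⟨a, ha⟩ : FF G m) ⟨b, hb⟩)

instance FF_normal : (FF G m).Normal := by
  constructor
  intro a ha g
  induction ha using Subgroup.closure_induction with
  | mem x hx =>
    apply mem_FF_of_coprime
    rw [index_C_conj]
    exact hx
  | one => simp [Subgroup.one_mem]
  | mul x y hx hy ihx ihy =>
    have : g * (x * y) * g⁻¹ = (g * x * g⁻¹) * (g * y * g⁻¹) := by group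
    rw [this]
    exact Subgroup.mul_mem _ ihx ihy
  | inv x hx ih =>
    have : g * x⁻¹ * g⁻¹ = (g * x * g⁻¹)⁻¹ := by group
    rw [this]
    exact Subgroup.inv_mem _ ih

theorem Hyp.FF_pow (H : Hyp G m n) : ∀ f ∈ FF G m, ∃ k : ℕ, f ^ (m ^ k) ∈ Subgroup.center G := by
  intro f hf
  induction hf using Subgroup.closure_induction with
  | mem x hx =>
    obtain ⟨k, hk⟩ := exists_pow_coprime m H.m_pos x
    refine ⟨k, H.central_of_coprime ?_ hk⟩
    exact Nat.Coprime.coprime_dvd_left (index_pow_dvd x _) hx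
  | one => exact ⟨0, by simp [Subgroup.one_mem]⟩
  | mul x y hx hy ihx ihy =>
    obtain ⟨k₁, hk₁⟩ := ihx
    obtain ⟨k₂, hk₂⟩ := ihy
    refine ⟨k₁ + k₂, ?_⟩
    have hcm : Commute x y := H.FF_comm x hx y hy
    rw [hcm.mul_pow]
    refine Subgroup.mul_mem _ ?_ ?_
    · rw [pow_add, pow_mul]
      exact Subgroup.pow_mem _ hk₁ _
    · rw [add_comm, pow_add, pow_mul]
      exact Subgroup.pow_mem _ hk₂ _
  | inv x hx ih =>
    obtain ⟨k, hk⟩ := ih
    exact ⟨k, by rw [inv_pow]; exact Subgroup.inv_mem _ hk⟩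

theorem Hyp.top_pow (H : Hyp G m n) {y : G} (hy : (C y).index = m) :
    ∃ k : ℕ, y ^ (n ^ k) ∈ Subgroup.center G := by
  obtain ⟨k, hk⟩ := exists_pow_coprime n H.n_pos y
  refine ⟨k, ?_⟩
  apply mem_of_primary_powers
  intro a ha r hr he
  by_cases hrn : r ∣ n
  · have h1 : orderOf a ∣ orderOf (y ^ n ^ k) := orderOf_dvd_of_mem_zpowers ha
    have h2 : (orderOf a).Coprime n := Nat.Coprime.coprime_dvd_left h1 hk
    obtain ⟨k', hk'⟩ := he
    have h3 : orderOf a ∣ r ^ k' := orderOf_dvd_of_pow_eq_one hk'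
    obtain ⟨j, -, hj⟩ := (Nat.dvd_prime_pow hr).mp h3
    rcases Nat.eq_zero_or_pos j with rfl | hjpos
    · rw [pow_zero, orderOf_eq_one_iff] at hj
      rw [hj]; exact Subgroup.one_mem _
    · exfalso
      rw [hj] at h2
      have h4 : r ∣ r ^ j := dvd_pow_self r hjpos.ne'
      exact hr.one_lt.ne' (Nat.eq_one_of_dvd_coprimes h2 h4 hrn)
  · apply H.central_of_coprime_n hr hrn he
    have h1 : (C a).index ∣ (C (y ^ n ^ k)).index := index_C_le_of_mem ha
    have h2 : (C (y ^ n ^ k)).index ∣ m := hy ▸ index_pow_dvd y _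
    exact Nat.Coprime.coprime_dvd_left (h1.trans h2) H.hcop

theorem Hyp.FF_inf_top (H : Hyp G m n) {y f : G} (hy : (C y).index = m) (hf : f ∈ FF G m)
    (hfy : f ∈ (C y)) : f ∈ Subgroup.center G := by
  obtain ⟨k, hk⟩ := H.FF_pow f hf
  have h1 : f ^ n ∈ Subgroup.center G := by
    have := pow_relIndex_mem (Subgroup.center G) (C y) hfy
    rwa [H.relIndex_center_of_top hy] at this
  exact mem_of_pow_mem_of_coprime _ (Nat.Coprime.pow_left k H.hcop) hk h1

theorem Hyp.f5 (H : Hyp G m n) {f v : G} {k : ℕ} (hf : f ∈ FF G m) (hcomm : Commute f v)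
    (hs : (C (f * v)).index = m) (hv : v ^ (n ^ k) ∈ Subgroup.center G) : f ∈ Subgroup.center G := by
  obtain ⟨j, hj⟩ := H.top_pow hs
  obtain ⟨i, hi⟩ := H.FF_pow f hf
  have h1 : (f * v) ^ (n ^ (j + k)) ∈ Subgroup.center G := by
    rw [pow_add, pow_mul]; exact Subgroup.pow_mem _ hj _
  have h2 : v ^ (n ^ (j + k)) ∈ Subgroup.center G := by
    rw [add_comm, pow_add, pow_mul]; exact Subgroup.pow_mem _ hv _
  rw [hcomm.mul_pow] at h1
  have h3 : f ^ (n ^ (j + k)) ∈ Subgroup.center G := by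
    have := Subgroup.mul_mem _ h1 (Subgroup.inv_mem _ h2)
    simpa using this
  exact mem_of_pow_mem_of_coprime _ (Nat.Coprime.pow i (j + k) H.hcop) hi h3

/-- The central element `x⁻¹ x^e` is trivial. -/
theorem Hyp.kz (H : Hyp G m n) {x y e : G} (hx : (C x).index = n) (hy : (C y).index = m)
    (hζ : x⁻¹ * (e * x * e⁻¹) ∈ Subgroup.center G) : x⁻¹ * (e * x * e⁻¹) = 1 := by
  have hxs : (C x).index.Coprime m := by rw [hx]; exact H.hcop.symm
  obtain ⟨h1, h2⟩ := H.class_top hxs hy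
  obtain ⟨K, -, hK1, hK2, -, hK4⟩ := class_product h1 h2
  set ζ := x⁻¹ * (e * x * e⁻¹) with hζdef
  have hζK : ζ ∈ K := hK1 e
  have h3 : orderOf ζ ∣ m := by
    rw [← hy]; exact (Subgroup.orderOf_dvd_natCard K hζK).trans hK2
  have h4 : ζ * y ∈ cl y := hK4 ζ hζK y ⟨1, by simp⟩
  obtain ⟨c, hc⟩ := h4
  simp only at hc
  obtain ⟨k, hk⟩ := H.top_pow hy
  have hcm : Commute ζ y := (Subgroup.mem_center_iff.mp hζ y).symm
  have h5 : (ζ * y) ^ (n ^ k) = y ^ (n ^ k) := by
    rw [← hc, conj_pow]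
    have : c * y ^ (n ^ k) = y ^ (n ^ k) * c := (Subgroup.mem_center_iff.mp hk c)
    rw [this]; group
  rw [hcm.mul_pow] at h5
  have h6 : ζ ^ (n ^ k) = 1 := by simpa using h5
  have h7 : orderOf ζ = 1 :=
    Nat.eq_one_of_dvd_coprimes (Nat.Coprime.pow_right k H.hcop) h3 (orderOf_dvd_of_pow_eq_one h6)
  exact orderOf_eq_one_iff.mp h7

/-- Injection on cosets. -/
theorem relIndex_lt_of_conj (D F Z' W : Subgroup G) [F.Normal] {x : G} (hxF : x ∈ F)
    (hW : ∀ d ∈ D, d * x * d⁻¹ ∉ W)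
    (hinj : ∀ d ∈ D, ∀ d' ∈ D, (d * x * d⁻¹)⁻¹ * (d' * x * d'⁻¹) ∈ W → d⁻¹ * d' ∈ Z') :
    Z'.relIndex D < W.relIndex F := by
  have hconjF : ∀ d : G, d * x * d⁻¹ ∈ F := fun d => ‹F.Normal›.conj_mem x hxF d
  let φ : (D ⧸ Z'.subgroupOf D) → (F ⧸ W.subgroupOf F) := fun q =>
    ((⟨(Quotient.out q : D).1 * x * (Quotient.out q : D).1⁻¹, hconjF _⟩ : F) : F ⧸ W.subgroupOf F)
  have hφinj : Function.Injective φ := by
    intro q₁ q₂ h12
    rw [← QuotientGroup.out_eq' q₁, ← QuotientGroup.out_eq' q₂, QuotientGroup.eq]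
    have h := QuotientGroup.eq.mp h12
    rw [Subgroup.mem_subgroupOf] at h ⊢
    have h2 := hinj _ (Quotient.out q₁ : D).2 _ (Quotient.out q₂ : D).2 (by simpa using h)
    simpa using h2
  have hφns : ¬ Function.Surjective φ := by
    intro hs
    obtain ⟨q, hq⟩ := hs ((1 : F) : F ⧸ W.subgroupOf F)
    have h := QuotientGroup.eq.mp hq
    rw [Subgroup.mem_subgroupOf] at h
    apply hW _ (Quotient.out q : D).2
    have h3 := W.inv_mem h
    simpa using h3
  classical
  haveI : Fintype (D ⧸ Z'.subgroupOf D) := Fintype.ofFinite _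
  haveI : Fintype (F ⧸ W.subgroupOf F) := Fintype.ofFinite _
  have := Fintype.card_lt_of_injective_not_surjective φ hφinj hφns
  rw [← Nat.card_eq_fintype_card, ← Nat.card_eq_fintype_card] at this
  exact this

theorem Hyp.lt_relIndex_FF (H : Hyp G m n) : n < (Subgroup.center G).relIndex (FF G m) := by
  obtain ⟨x, hx⟩ := H.exx
  obtain ⟨y, hy⟩ := H.exy
  rw [← H.relIndex_center_of_top hy]
  have hxF : x ∈ FF G m := mem_FF_of_coprime (by rw [hx]; exact H.hcop.symm)
  have hxZ : x ∉ Subgroup.center G := by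
    intro hz
    rw [S4314.mem_center_iff_C.mp hz, Subgroup.index_top] at hx
    have := H.hn
    omega
  apply relIndex_lt_of_conj _ _ _ _ hxF
  · intro d _ hd
    apply hxZ
    apply conj_mem_center (g := d⁻¹)
    simpa using hd
  · intro d hd d' hd' h
    have hZn : (Subgroup.center G).Normal := inferInstance
    have h1 := hZn.conj_mem _ h d⁻¹
    set e := d⁻¹ * d' with he
    have h2 : d⁻¹ * ((d * x * d⁻¹)⁻¹ * (d' * x * d'⁻¹)) * d⁻¹⁻¹ = x⁻¹ * (e * x * e⁻¹) := by
      rw [he]; group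
    rw [h2] at h1
    have h3 := H.kz hx hy h1
    have h4 : e * x * e⁻¹ = x := by
      have : e * x * e⁻¹ = x * (x⁻¹ * (e * x * e⁻¹)) := by group
      rw [this, h3, mul_one]
    have h5 : e ∈ (C x) := by
      rw [mem_C]
      calc e * x = (e * x * e⁻¹) * e := by group
        _ = x * e := by rw [h4]
    exact H.C_inf_le_center hx hy (Subgroup.mem_inf.mpr ⟨h5, Subgroup.mul_mem _ (Subgroup.inv_mem _ hd) hd'⟩)


theorem Hyp.FF_primary (H : Hyp G m n) {a : G} (ha : a ∈ FF G m) {r : ℕ} (hr : r.Prime) (hrm : ¬ r ∣ m)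
    (he : ∃ k : ℕ, a ^ (r ^ k) = 1) : a ∈ Subgroup.center G := by
  obtain ⟨k, hk⟩ := H.FF_pow a ha
  obtain ⟨j, hj⟩ := he
  have h1 : (m ^ k).Coprime (r ^ j) :=
    Nat.Coprime.pow k j ((Nat.Prime.coprime_iff_not_dvd hr).mpr hrm).symm
  refine mem_of_pow_mem_of_coprime _ h1 hk ?_
  rw [hj]; exact Subgroup.one_mem _

theorem comm_mod_center_zpow {d v a : G} (h : d * v * d⁻¹ * v⁻¹ ∈ Subgroup.center G)
    (ha : a ∈ Subgroup.zpowers v) : d * a * d⁻¹ * a⁻¹ ∈ Subgroup.center G := by
  have h1 : ((d * v * d⁻¹ * v⁻¹ : G) : G ⧸ Subgroup.center G) = 1 := (QuotientGroup.eq_one_iff _).mpr h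
  have h2 : Commute (d : G ⧸ Subgroup.center G) (v : G ⧸ Subgroup.center G) := by
    simp only [QuotientGroup.mk_mul, QuotientGroup.mk_inv] at h1
    have h3 : (d : G ⧸ Subgroup.center G) * v * (d : G ⧸ Subgroup.center G)⁻¹ = v :=
      mul_inv_eq_one.mp h1
    exact (mul_inv_eq_iff_eq_mul.mp h3)
  obtain ⟨j, rfl⟩ := ha
  rw [← QuotientGroup.eq_one_iff]
  simp only [QuotientGroup.mk_mul, QuotientGroup.mk_inv, QuotientGroup.mk_zpow]
  have h4 := h2.zpow_right j
  rw [h4.eq]
  group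

theorem exists_norm (F : Subgroup G) [hFn : F.Normal] (hFc : ∀ a ∈ F, ∀ b ∈ F, a * b = b * a) (v : G)
    {x : G} (hx : x ∈ F) :
    ∃ N : G, N ∈ F ∧ Commute N v ∧ N ^ orderOf x = 1 ∧
      ∀ d : G, d * v * d⁻¹ * v⁻¹ ∈ Subgroup.center G → Commute d N → ∀ g : G,
        g = x⁻¹ * (d * x * d⁻¹) → g ∈ (C v) → g ^ orderOf v = 1 := by
  classical
  letI : CommGroup F :=
    { (inferInstance : Group F) with mul_comm := fun a b => Subtype.ext (hFc a.1 a.2 b.1 b.2) }
  letI : Fintype (Subgroup.zpowers v) := Fintype.ofFinite _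
  let φ : (Subgroup.zpowers v) →* MulAut F :=
    (MulAut.conjNormal (H := F)).comp (Subgroup.zpowers v).subtype
  have hφ : ∀ (a : Subgroup.zpowers v) (u : F), ((φ a u : F) : G) = a.1 * u.1 * a.1⁻¹ := fun a u => rfl
  open Cfsg.Agent.Lib.Coprime.Averaging in
  refine ⟨(normHom φ ⟨x, hx⟩ : F).1, (normHom φ ⟨x, hx⟩ : F).2, ?_, ?_, ?_⟩
  · have h1 := normHom_fixed φ ⟨v, Subgroup.mem_zpowers v⟩ ⟨x, hx⟩
    have h2 := congrArg Subtype.val h1
    rw [hφ] at h2
    set N := (normHom φ ⟨x, hx⟩ : F).1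
    change v * N * v⁻¹ = N at h2
    exact (mul_inv_eq_iff_eq_mul.mp h2).symm
  · have h1 : (normHom φ ⟨x, hx⟩) ^ orderOf x = normHom φ (⟨x, hx⟩ ^ orderOf x) := by
      rw [map_pow]
    have h2 : (⟨x, hx⟩ : F) ^ orderOf x = 1 := Subtype.ext (by simp [pow_orderOf_eq_one])
    rw [h2, map_one] at h1
    exact congrArg Subtype.val h1
  · intro d hd hdN g hg hgv
    let ψ : MulAut F := MulAut.conjNormal d
    have hψ : ∀ u : F, ((ψ u : F) : G) = d * u.1 * d⁻¹ := fun u => rfl
    have hcommφψ : ∀ (a : Subgroup.zpowers v) (u : F), φ a (ψ u) = ψ (φ a u) := by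
      intro a u
      apply Subtype.ext
      rw [hφ, hψ, hψ, hφ]
      have h1 := comm_mod_center_zpow hd a.2
      set ζ := d * a.1 * d⁻¹ * a.1⁻¹ with hζ
      have h2 : d * a.1 = ζ * (a.1 * d) := by rw [hζ]; group
      have h3 : ∀ y : G, ζ * y = y * ζ := fun y => (Subgroup.mem_center_iff.mp h1 y).symm
      calc a.1 * (d * u.1 * d⁻¹) * a.1⁻¹ = ζ * (a.1 * (d * u.1 * d⁻¹) * a.1⁻¹) * ζ⁻¹ := by
            rw [h3]; group
        _ = (ζ * (a.1 * d)) * u.1 * (ζ * (a.1 * d))⁻¹ := by group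
        _ = (d * a.1) * u.1 * (d * a.1)⁻¹ := by rw [h2]
        _ = d * (a.1 * u.1 * a.1⁻¹) * d⁻¹ := by group
    open Cfsg.Agent.Lib.Coprime.Averaging in
    have hNψ : normHom φ (ψ ⟨x, hx⟩) = ψ (normHom φ ⟨x, hx⟩) := by
      rw [Cfsg.Agent.Lib.Coprime.Averaging.normHom_apply, Cfsg.Agent.Lib.Coprime.Averaging.normHom_apply, map_prod]
      exact Finset.prod_congr rfl (fun a _ => hcommφψ a _)
    open Cfsg.Agent.Lib.Coprime.Averaging in
    have hψN : ψ (normHom φ ⟨x, hx⟩) = normHom φ ⟨x, hx⟩ := by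
      apply Subtype.ext
      rw [hψ]
      set N := (normHom φ ⟨x, hx⟩ : F).1
      have h1 : d * N = N * d := hdN
      change d * N * d⁻¹ = N
      rw [h1]; group
    have hgF : g ∈ F := by
      rw [hg]
      exact F.mul_mem (F.inv_mem hx) (hFn.conj_mem x hx d)
    let g' : F := ⟨g, hgF⟩
    have hg' : g' = (⟨x, hx⟩ : F)⁻¹ * ψ ⟨x, hx⟩ := Subtype.ext hg
    open Cfsg.Agent.Lib.Coprime.Averaging in
    have hN1 : normHom φ g' = 1 := by
      rw [hg', map_mul, map_inv, hNψ, hψN, inv_mul_cancel]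
    open Cfsg.Agent.Lib.Coprime.Averaging in
    have hfix : g' ∈ fixedSubgroup φ := by
      rw [mem_fixedSubgroup]
      intro a
      apply Subtype.ext
      rw [hφ]
      have h2 : a.1 ∈ (C g) := by
        have h3 : Subgroup.zpowers v ≤ (C g) := by
          rw [Subgroup.zpowers_le, mem_C]
          exact (mem_C.mp hgv).symm
        exact h3 a.2
      have h4 : a.1 * g = g * a.1 := mem_C.mp h2
      change a.1 * g * a.1⁻¹ = g
      rw [h4]; group
    open Cfsg.Agent.Lib.Coprime.Averaging in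
    have h5 := normHom_of_mem_fixed φ hfix
    rw [hN1] at h5
    have h6 : Fintype.card (Subgroup.zpowers v) = orderOf v := by
      rw [← Nat.card_eq_fintype_card, Nat.card_zpowers]
    rw [h6] at h5
    have h7 := congrArg Subtype.val h5
    exact h7.symm


/-- The subgroup `D̃`. -/
def Dt (B : Subgroup G) (f v : G) : Subgroup G :=
  B ⊓ (Subgroup.centralizer ({f} : Set G)) ⊓
    (Subgroup.centralizer ({(v : G ⧸ Subgroup.center G)} : Set (G ⧸ Subgroup.center G))).comap
      (QuotientGroup.mk' (Subgroup.center G))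

theorem mem_Dt {B : Subgroup G} {f v j : G} :
    j ∈ Dt B f v ↔ j ∈ B ∧ j ∈ (C f) ∧ j * v * j⁻¹ * v⁻¹ ∈ Subgroup.center G := by
  unfold Dt
  simp only [Subgroup.mem_inf, Subgroup.mem_comap]
  have h : (QuotientGroup.mk' (Subgroup.center G) j ∈
      Subgroup.centralizer ({(v : G ⧸ Subgroup.center G)} : Set (G ⧸ Subgroup.center G))) ↔
      j * v * j⁻¹ * v⁻¹ ∈ Subgroup.center G := by
    rw [mem_C, ← QuotientGroup.eq_one_iff]
    simp only [QuotientGroup.mk'_apply, QuotientGroup.mk_mul, QuotientGroup.mk_inv]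
    constructor
    · intro h1
      rw [h1]; group
    · intro h1
      have h2 : (j : G ⧸ Subgroup.center G) * v * (j : G ⧸ Subgroup.center G)⁻¹ = v :=
        mul_inv_eq_one.mp h1
      exact mul_inv_eq_iff_eq_mul.mp h2
  rw [h]
  tauto

theorem center_le_Dt {B : Subgroup G} (hB : Subgroup.center G ≤ B) (f v : G) :
    Subgroup.center G ≤ Dt B f v := by
  intro z hz
  rw [mem_Dt]
  refine ⟨hB hz, (Subgroup.center_le_centralizer _) hz, ?_⟩
  have : z * v = v * z := (Subgroup.mem_center_iff.mp hz v).symm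
  rw [this]
  have h : v * z * z⁻¹ * v⁻¹ = 1 := by group
  rw [h]; exact Subgroup.one_mem _

theorem Dt_le (B : Subgroup G) (f v : G) : Dt B f v ≤ B := fun _ h => (mem_Dt.mp h).1

theorem crux_count (F B : Subgroup G) [hFn : F.Normal] (hFc : ∀ a ∈ F, ∀ b ∈ F, a * b = b * a)
    (hFB : F ⊓ B ≤ Subgroup.center G) {v f : G} (hvB : v ∈ B) (hf : f ∈ F) :
    (C v).relIndex F * (Dt B f v).relIndex B ≤ ((C f) ⊓ (C v)).index := by
  set E := (C f) ⊓ (C v) with hE
  let φ : (F ⧸ (C v).subgroupOf F) × (B ⧸ (Dt B f v).subgroupOf B) → G ⧸ E := fun q =>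
    (((Quotient.out q.2 : B).1 * (Quotient.out q.1 : F).1 : G) : G ⧸ E)
  have hφ : Function.Injective φ := by
    rintro ⟨q₁, q₂⟩ ⟨q₁', q₂'⟩ h
    simp only [φ] at h
    have h0 := QuotientGroup.eq.mp h
    set h₁ := (Quotient.out q₁ : F).1 with hh₁
    set h₂ := (Quotient.out q₁' : F).1 with hh₂
    set b₁ := (Quotient.out q₂ : B).1 with hb₁
    set b₂ := (Quotient.out q₂' : B).1 with hb₂
    have hh₁F : h₁ ∈ F := (Quotient.out q₁ : F).2
    have hh₂F : h₂ ∈ F := (Quotient.out q₁' : F).2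
    have hb₁B : b₁ ∈ B := (Quotient.out q₂ : B).2
    have hb₂B : b₂ ∈ B := (Quotient.out q₂' : B).2
    set b := b₁⁻¹ * b₂ with hb
    have hbB : b ∈ B := B.mul_mem (B.inv_mem hb₁B) hb₂B
    set h' := h₁⁻¹ * (b * h₂ * b⁻¹) with hh'
    have hh'F : h' ∈ F := F.mul_mem (F.inv_mem hh₁F) (hFn.conj_mem _ hh₂F b)
    have he : (b₁ * h₁)⁻¹ * (b₂ * h₂) = h' * b := by
      rw [hh', hb]; group
    rw [he] at h0
    have h0f := mem_C.mp (Subgroup.mem_inf.mp h0).1
    have h0v := mem_C.mp (Subgroup.mem_inf.mp h0).2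
    -- `b` commutes with `f`
    have hbf : b ∈ (C f) := by
      rw [mem_C]
      have h3 : h' * f = f * h' := hFc _ hh'F _ hf
      have h4 : h' * (b * f) = h' * (f * b) := by
        calc h' * (b * f) = (h' * b) * f := by group
          _ = f * (h' * b) := h0f
          _ = (f * h') * b := by group
          _ = (h' * f) * b := by rw [h3]
          _ = h' * (f * b) := by group
      exact mul_left_cancel h4
    -- the commutator of `b` and `v` lies in `F ⊓ B`
    have hcomF : b * v * b⁻¹ * v⁻¹ ∈ F := by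
      have h5 : b * v * b⁻¹ = h'⁻¹ * v * h' := by
        have h6 : (h' * b) * v * (h' * b)⁻¹ = v := by rw [h0v]; group
        calc b * v * b⁻¹ = h'⁻¹ * ((h' * b) * v * (h' * b)⁻¹) * h' := by group
          _ = h'⁻¹ * v * h' := by rw [h6]
      rw [h5]
      have h7 : h'⁻¹ * v * h' * v⁻¹ = h'⁻¹ * (v * h' * v⁻¹) := by group
      rw [h7]
      exact F.mul_mem (F.inv_mem hh'F) (hFn.conj_mem _ hh'F v)
    have hcomB : b * v * b⁻¹ * v⁻¹ ∈ B :=
      B.mul_mem (B.mul_mem (B.mul_mem hbB hvB) (B.inv_mem hbB)) (B.inv_mem hvB)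
    have hbD : b ∈ Dt B f v := mem_Dt.mpr ⟨hbB, hbf, hFB (Subgroup.mem_inf.mpr ⟨hcomF, hcomB⟩)⟩
    have hq₂ : q₂ = q₂' := by
      rw [← QuotientGroup.out_eq' q₂, ← QuotientGroup.out_eq' q₂', QuotientGroup.eq,
        Subgroup.mem_subgroupOf]
      simpa using hbD
    subst hq₂
    have hb1 : b = 1 := by rw [hb, hb₁, hb₂]; simp
    have hh'1 : h' = h₁⁻¹ * h₂ := by rw [hh', hb1]; group
    rw [hh'1, hb1, mul_one] at h0
    have hq₁ : q₁ = q₁' := by
      rw [← QuotientGroup.out_eq' q₁, ← QuotientGroup.out_eq' q₁', QuotientGroup.eq,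
        Subgroup.mem_subgroupOf]
      have := (Subgroup.mem_inf.mp h0).2
      simpa using this
    rw [hq₁]
  have h := Nat.card_le_card_of_injective φ hφ
  rw [Nat.card_prod] at h
  exact h

theorem conj_mem_C_of {d v u : G} (hd : d⁻¹ * v * d * v⁻¹ ∈ Subgroup.center G) (hu : u ∈ (C v)) :
    d * u * d⁻¹ ∈ (C v) := by
  rw [mem_C] at hu ⊢
  set ζ := d⁻¹ * v * d * v⁻¹ with hζ
  have h1 : d⁻¹ * v * d = ζ * v := by rw [hζ]; group
  have h2 : u * ζ = ζ * u := Subgroup.mem_center_iff.mp hd u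
  have h3 : u * (d⁻¹ * v * d) = (d⁻¹ * v * d) * u := by
    rw [h1]
    calc u * (ζ * v) = (u * ζ) * v := by group
      _ = ζ * (u * v) := by rw [h2]; group
      _ = ζ * (v * u) := by rw [hu]
      _ = ζ * v * u := by group
  calc d * u * d⁻¹ * v = d * (u * (d⁻¹ * v * d)) * d⁻¹ := by group
    _ = d * ((d⁻¹ * v * d) * u) * d⁻¹ := by rw [h3]
    _ = v * (d * u * d⁻¹) := by group

/-- The crux. -/
theorem Hyp.crux (H : Hyp G m n) {y v f₀ : G} (hy : (C y).index = m) (hvB : v ∈ (C y))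
    {p : ℕ} [Fact p.Prime] (hpn : p ∣ n) (hv : ∃ k : ℕ, v ^ (p ^ k) = 1)
    (hvZ : v ∉ Subgroup.center G) (hf₀ : f₀ ∈ FF G m) (hcomm : Commute f₀ v) :
    f₀ ∈ Subgroup.center G := by
  by_contra hf₀Z
  have hpp : p.Prime := Fact.out
  have hpm := H.not_dvd_m hpp hpn
  obtain ⟨x₀, hx₀⟩ := H.exx
  obtain ⟨x, hxm, hxo, hCx, -⟩ := H.removal (x := x₀) (by rw [hx₀]; exact H.hcop.symm) p hpm
  have hx : (C x).index = n := by rw [hCx, hx₀]
  have hxF : x ∈ FF G m := mem_FF_of_coprime (by rw [hx]; exact H.hcop.symm)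
  have hFc := H.FF_comm
  obtain ⟨N, hNF, hNv, hNo, hNkey⟩ := exists_norm (FF G m) hFc v hxF
  have hvo : (orderOf x).Coprime (orderOf v) := by
    obtain ⟨k, hk⟩ := hv
    exact Nat.Coprime.coprime_dvd_right (orderOf_dvd_of_pow_eq_one hk) (Nat.Coprime.pow_right k hxo)
  -- choice of `f`
  obtain ⟨f, hfF, hfZ, hfv, hfo, hNf⟩ : ∃ f : G, f ∈ FF G m ∧ f ∉ Subgroup.center G ∧ Commute f v ∧
      (orderOf f).Coprime p ∧ ∀ d ∈ (C f), Commute d N := by
    by_cases hNZ : N ∈ Subgroup.center G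
    · obtain ⟨a, b, hab, ha, hb, ⟨k, hak⟩, hbc⟩ := S4314.exists_decomp f₀ p
      have hzp : Subgroup.zpowers f₀ ≤ FF G m := Subgroup.zpowers_le.mpr hf₀
      have haZ := H.FF_primary (hzp ha) hpp hpm ⟨k, orderOf_dvd_iff_pow_eq_one.mp hak⟩
      refine ⟨b, hzp hb, ?_, ?_, hbc, ?_⟩
      · intro hbZ
        apply hf₀Z
        rw [hab]
        exact Subgroup.mul_mem _ haZ hbZ
      · obtain ⟨j, rfl⟩ := hb
        exact hcomm.zpow_left j
      · intro d _
        exact Subgroup.mem_center_iff.mp hNZ d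
    · refine ⟨N, hNF, hNZ, hNv, ?_, fun d hd => mem_C.mp hd⟩
      exact Nat.Coprime.coprime_dvd_left (orderOf_dvd_of_pow_eq_one hNo) hxo
  have hfvo : (orderOf f).Coprime (orderOf v) := by
    obtain ⟨k, hk⟩ := hv
    exact Nat.Coprime.coprime_dvd_right (orderOf_dvd_of_pow_eq_one hk) (Nat.Coprime.pow_right k hfo)
  have hEq := C_mul_eq hfv hfvo
  have hne : (C (f * v)).index ≠ m := by
    intro hs
    obtain ⟨k, hk⟩ := hv
    apply hfZ
    refine H.f5 (k := k) hfF hfv hs ?_
    have h1 : p ^ k ∣ n ^ k := pow_dvd_pow_of_dvd hpn k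
    obtain ⟨t, ht⟩ := h1
    rw [ht, pow_mul, hk, one_pow]
    exact Subgroup.one_mem _
  have hle := H.hsecond _ (lt_of_le_of_ne (H.htop _) hne)
  have hFB : (FF G m) ⊓ (C y) ≤ Subgroup.center G := by
    rintro a ⟨ha1, ha2⟩
    exact H.FF_inf_top hy ha1 ha2
  have h1 := crux_count (FF G m) (C y) hFc hFB hvB hfF
  rw [← hEq] at h1
  -- the injection
  set D := Dt (C y) f v with hD
  have hvnotx : x ∉ (C v) := by
    intro hxv
    apply hvZ
    exact H.central_of_mem_C hx (mem_C_comm.mp hxv) hpp hpm hv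
  have hDinv : ∀ d ∈ D, d * v * d⁻¹ * v⁻¹ ∈ Subgroup.center G := fun d hd => (mem_Dt.mp hd).2.2
  have h2 : (Subgroup.center G).relIndex D < (C v).relIndex (FF G m) := by
    apply relIndex_lt_of_conj D (FF G m) _ _ hxF
    · intro d hd hmem
      apply hvnotx
      have h3 : d⁻¹⁻¹ * v * d⁻¹ * v⁻¹ ∈ Subgroup.center G := by
        simpa using hDinv d hd
      have h4 := conj_mem_C_of h3 hmem
      have h5 : d⁻¹ * (d * x * d⁻¹) * d⁻¹⁻¹ = x := by group
      rwa [h5] at h4
    · intro d hd d' hd' hmem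
      have h3 : d⁻¹⁻¹ * v * d⁻¹ * v⁻¹ ∈ Subgroup.center G := by
        simpa using hDinv d hd
      have h4 := conj_mem_C_of h3 hmem
      set e := d⁻¹ * d' with he
      have heD : e ∈ D := D.mul_mem (D.inv_mem hd) hd'
      have h5 : d⁻¹ * ((d * x * d⁻¹)⁻¹ * (d' * x * d'⁻¹)) * d⁻¹⁻¹ = x⁻¹ * (e * x * e⁻¹) := by
        rw [he]; group
      rw [h5] at h4
      obtain ⟨heB, hef, hev⟩ := mem_Dt.mp heD
      have h6 := hNkey e hev (hNf e hef) _ rfl h4
      -- the other power
      have h7 : (x⁻¹ * (e * x * e⁻¹)) ^ orderOf x = 1 := by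
        have hc : Commute x⁻¹ (e * x * e⁻¹) :=
          hFc _ ((FF G m).inv_mem hxF) _ (FF_normal.conj_mem x hxF e)
        rw [hc.mul_pow, conj_pow, inv_pow, pow_orderOf_eq_one]
        group
      have h8 : orderOf (x⁻¹ * (e * x * e⁻¹)) = 1 :=
        Nat.eq_one_of_dvd_coprimes hvo (orderOf_dvd_of_pow_eq_one h7) (orderOf_dvd_of_pow_eq_one h6)
      have h9 : x⁻¹ * (e * x * e⁻¹) = 1 := orderOf_eq_one_iff.mp h8
      have h10 : e * x * e⁻¹ = x := by
        have : e * x * e⁻¹ = x * (x⁻¹ * (e * x * e⁻¹)) := by group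
        rw [this, h9, mul_one]
      have h11 : e ∈ (C x) := by
        rw [mem_C]
        calc e * x = (e * x * e⁻¹) * e := by group
          _ = x * e := by rw [h10]
      exact H.C_inf_le_center hx hy (Subgroup.mem_inf.mpr ⟨h11, heB⟩)
  have h3 : (Subgroup.center G).relIndex D * D.relIndex (C y) = n := by
    rw [Subgroup.relIndex_mul_relIndex _ _ _ (center_le_Dt (Subgroup.center_le_centralizer _) _ _)
      (Dt_le _ _ _), H.relIndex_center_of_top hy]
  have h4 : 0 < D.relIndex (C y) := by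
    apply Nat.pos_of_ne_zero
    intro h0
    rw [h0, mul_zero] at h3
    have := H.n_pos
    omega
  have h5 := Nat.mul_lt_mul_of_pos_right h2 h4
  omega


theorem Hyp.crux' (H : Hyp G m n) {v f₀ : G} {p : ℕ} [Fact p.Prime] (hpn : p ∣ n)
    (hv : ∃ k : ℕ, v ^ (p ^ k) = 1) (hvZ : v ∉ Subgroup.center G) (hf₀ : f₀ ∈ FF G m)
    (hcomm : Commute f₀ v) : f₀ ∈ Subgroup.center G := by
  have hpp : p.Prime := Fact.out
  have hpm := H.not_dvd_m hpp hpn
  obtain ⟨y, hy⟩ := H.exy
  obtain ⟨g, hg⟩ := conj_into (C y) p (by rwa [hy]) v hv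
  apply conj_mem_center (g := g)
  apply H.crux hy hg hpn (pow_conj_primary hv) (fun h => hvZ (conj_mem_center h))
  · have := FF_normal.conj_mem f₀ hf₀ g⁻¹
    simpa using this
  · have h1 : f₀ * v = v * f₀ := hcomm
    show (g⁻¹ * f₀ * g) * (g⁻¹ * v * g) = (g⁻¹ * v * g) * (g⁻¹ * f₀ * g)
    calc (g⁻¹ * f₀ * g) * (g⁻¹ * v * g) = g⁻¹ * (f₀ * v) * g := by group
      _ = g⁻¹ * (v * f₀) * g := by rw [h1]
      _ = (g⁻¹ * v * g) * (g⁻¹ * f₀ * g) := by group

theorem Hyp.top_of_noncentral (H : Hyp G m n) {v : G} {p : ℕ} [Fact p.Prime] (hpn : p ∣ n)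
    (hv : ∃ k : ℕ, v ^ (p ^ k) = 1) (hvZ : v ∉ Subgroup.center G) : (C v).index = m := by
  by_contra hne
  have h1 := H.hsecond _ (lt_of_le_of_ne (H.htop v) hne)
  have h2 := H.lt_relIndex_FF
  have h3 : (C v) ⊓ (FF G m) = Subgroup.center G := by
    apply le_antisymm
    · intro a ha
      exact H.crux' hpn hv hvZ (Subgroup.mem_inf.mp ha).2 (mem_C.mp (Subgroup.mem_inf.mp ha).1)
    · exact le_inf (Subgroup.center_le_centralizer _) center_le_FF
  have h4 : (C v).relIndex (FF G m) = (Subgroup.center G).relIndex (FF G m) := by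
    rw [← h3, Subgroup.inf_relIndex_right]
  have h5 : (C v).relIndex (FF G m) ≤ (C v).index := by
    have := Subgroup.relIndex_le_of_le_right (H := C v) (le_top : FF G m ≤ ⊤)
      (by rw [Subgroup.relIndex_top_right]; exact Subgroup.index_ne_zero_of_finite)
    rwa [Subgroup.relIndex_top_right] at this
  omega

theorem Hyp.index_of_noncentral_primary (H : Hyp G m n) {t : G} {q : ℕ} (hq : q.Prime) (hqn : ¬ q ∣ n)
    (ht : ∃ k : ℕ, t ^ (q ^ k) = 1) (htZ : t ∉ Subgroup.center G) : (C t).index = n := by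
  have hcop : ((Subgroup.center G).relIndex (C t)).Coprime n := by
    by_contra hnc
    obtain ⟨p, hp, hp1, hp2⟩ := Nat.Prime.not_coprime_iff_dvd.mp hnc
    haveI : Fact p.Prime := ⟨hp⟩
    obtain ⟨e, ⟨k, hek⟩, heZ⟩ := exists_pelement_notMem ((Subgroup.center G).subgroupOf (C t)) p hp1
    have heZ' : e.1 ∉ Subgroup.center G := fun h => heZ (Subgroup.mem_subgroupOf.mpr h)
    have hek' : e.1 ^ (p ^ k) = 1 := by simpa using congrArg Subtype.val hek
    have htop := H.top_of_noncentral hp2 ⟨k, hek'⟩ heZ'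
    have h1 : t ∈ (C e.1) := mem_C_comm.mp e.2
    have h2 := pow_relIndex_mem (Subgroup.center G) (C e.1) h1
    rw [H.relIndex_center_of_top htop] at h2
    obtain ⟨j, hj⟩ := ht
    have h3 : (n).Coprime (q ^ j) :=
      Nat.Coprime.pow_right j ((Nat.Prime.coprime_iff_not_dvd hq).mpr hqn).symm
    apply htZ
    refine mem_of_pow_mem_of_coprime _ h3 h2 ?_
    rw [hj]; exact Subgroup.one_mem _
  have h1 : (Subgroup.center G).relIndex (C t) * (C t).index = (Subgroup.center G).index :=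
    Subgroup.relIndex_mul_index (Subgroup.center_le_centralizer _)
  rw [H.index_center] at h1
  have h2 : n ∣ (Subgroup.center G).relIndex (C t) * (C t).index := by
    rw [h1]; exact dvd_mul_right n m
  have h3 : n ∣ (C t).index := (Nat.Coprime.dvd_of_dvd_mul_left hcop.symm h2)
  obtain ⟨x, hx⟩ := H.exx
  haveI : Fact q.Prime := ⟨hq⟩
  obtain ⟨g, hg⟩ := conj_into (C x) q (by rwa [hx]) t ht
  have h4 : (C t).index ≠ m := by
    intro h5
    apply H.not_commute hx (y := g⁻¹ * t * g) (by rw [index_C_conj']; exact h5)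
    exact (mem_C.mp hg).symm
  have h6 := H.hsecond _ (lt_of_le_of_ne (H.htop t) h4)
  exact le_antisymm h6 (Nat.le_of_dvd (Nat.pos_of_ne_zero Subgroup.index_ne_zero_of_finite) h3)

theorem Hyp.C_eq_FF (H : Hyp G m n) {x : G} (hx : (C x).index = n) : (C x) = FF G m := by
  have hxF : x ∈ FF G m := mem_FF_of_coprime (by rw [hx]; exact H.hcop.symm)
  apply le_antisymm
  · intro w hw
    apply mem_of_primary_powers
    intro a ha r hr he
    have hax : a ∈ (C x) := (Subgroup.zpowers_le.mpr hw) ha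
    by_cases haZ : a ∈ Subgroup.center G
    · exact center_le_FF haZ
    by_cases hrn : r ∣ n
    · exact absurd (H.central_of_mem_C hx hax hr (H.not_dvd_m hr hrn) he) haZ
    · apply mem_FF_of_coprime
      rw [H.index_of_noncentral_primary hr hrn he haZ]
      exact H.hcop.symm
  · intro f hf
    exact mem_C.mpr (H.FF_comm f hf x hxF)

theorem Hyp.sup_eq_top (H : Hyp G m n) {y : G} (hy : (C y).index = m) : FF G m ⊔ (C y) = ⊤ := by
  obtain ⟨x, hx⟩ := H.exx
  rw [← Subgroup.index_eq_one]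
  have h1 : (FF G m ⊔ (C y)).index ∣ m := by
    rw [← hy]; exact Subgroup.index_dvd_of_le le_sup_right
  have h2 : (FF G m ⊔ (C y)).index ∣ n := by
    rw [← hx, H.C_eq_FF hx]; exact Subgroup.index_dvd_of_le le_sup_left
  exact Nat.eq_one_of_dvd_coprimes H.hcop h1 h2

theorem Hyp.inf_conj_le (H : Hyp G m n) {y : G} (hy : (C y).index = m) (g : G) (hg : g ∉ (C y)) :
    (C y) ⊓ (MulAut.conj g • (C y)) ≤ Subgroup.center G := by
  intro w hw
  by_contra hwZ
  have hw1 : w ∈ (C y) := (Subgroup.mem_inf.mp hw).1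
  have hw2 : g⁻¹ * w * g ∈ (C y) :=
    Cfsg.Agent.Lib.Solvable.FrobQuot.mem_conj_smul_iff'.mp (Subgroup.mem_inf.mp hw).2
  have hwF : w ∉ FF G m := fun h => hwZ (H.FF_inf_top hy h hw1)
  have hex : ∃ a ∈ Subgroup.zpowers w, ∃ r : ℕ, r.Prime ∧ (∃ k : ℕ, a ^ (r ^ k) = 1) ∧ a ∉ FF G m := by
    by_contra hcon
    push Not at hcon
    apply hwF
    apply mem_of_primary_powers
    intro a ha r hr he
    exact hcon a ha r hr he
  obtain ⟨v, hvw, r, hr, hve, hvF⟩ := hex
  have hvZ : v ∉ Subgroup.center G := fun h => hvF (center_le_FF h)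
  have hrn : r ∣ n := by
    by_contra hrn
    apply hvF
    apply mem_FF_of_coprime
    rw [H.index_of_noncentral_primary hr hrn hve hvZ]
    exact H.hcop.symm
  haveI : Fact r.Prime := ⟨hr⟩
  have hrm := H.not_dvd_m hr hrn
  have hvB : v ∈ (C y) := (Subgroup.zpowers_le.mpr hw1) hvw
  have hvB2 : g⁻¹ * v * g ∈ (C y) := by
    obtain ⟨j, rfl⟩ := hvw
    have h1 := (C y).zpow_mem hw2 j
    have h2 : (g⁻¹ * w * g) ^ j = g⁻¹ * (fun z => w ^ z) j * g := by
      have := conj_zpow (a := g⁻¹) (b := w) (i := j)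
      simpa using this
    rw [h2] at h1
    exact h1
  -- decomposition of `g`
  have hgtop : g ∈ ((FF G m ⊔ (C y) : Subgroup G) : Set G) := by
    rw [H.sup_eq_top hy]; trivial
  rw [Subgroup.normal_mul] at hgtop
  obtain ⟨f, hfF, b₀, hb₀, rfl⟩ := hgtop
  have hfF' : f ∈ FF G m := hfF
  have hb₀' : b₀ ∈ (C y) := hb₀
  have hfZ : f ∉ Subgroup.center G := by
    intro hz
    apply hg
    exact (C y).mul_mem ((Subgroup.center_le_centralizer _) hz) hb₀'
  have h1 : f⁻¹ * v * f ∈ (C y) := by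
    have h2 := (C y).mul_mem ((C y).mul_mem hb₀' hvB2) ((C y).inv_mem hb₀')
    have h3 : b₀ * ((f * b₀)⁻¹ * v * (f * b₀)) * b₀⁻¹ = f⁻¹ * v * f := by group
    rwa [h3] at h2
  set ξ := f⁻¹ * v * f * v⁻¹ with hξ
  have hξB : ξ ∈ (C y) := (C y).mul_mem h1 ((C y).inv_mem hvB)
  have hξF : ξ ∈ FF G m := by
    have h2 : ξ = f⁻¹ * (v * f * v⁻¹) := by rw [hξ]; group
    rw [h2]
    exact (FF G m).mul_mem ((FF G m).inv_mem hfF') (FF_normal.conj_mem f hfF' v)
  have hξZ : ξ ∈ Subgroup.center G := H.FF_inf_top hy hξF hξB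
  obtain ⟨f₁, f₂, hf12, hf₁, hf₂, ⟨k, hf₁k⟩, hf₂c⟩ := S4314.exists_decomp f r
  have hzp : Subgroup.zpowers f ≤ FF G m := Subgroup.zpowers_le.mpr hfF'
  have hf₁Z : f₁ ∈ Subgroup.center G :=
    H.FF_primary (hzp hf₁) hr hrm ⟨k, orderOf_dvd_iff_pow_eq_one.mp hf₁k⟩
  have hf₁comm : ∀ y : G, f₁ * y = y * f₁ := fun y => (Subgroup.mem_center_iff.mp hf₁Z y).symm
  have hξcomm : ∀ y : G, ξ * y = y * ξ := fun y => (Subgroup.mem_center_iff.mp hξZ y).symm
  have e1 : f₂⁻¹ * v * f₂ = ξ * v := by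
    have h2 : ξ * v = f⁻¹ * v * f := by rw [hξ]; group
    rw [h2, hf12]
    have h3 : (f₁ * f₂)⁻¹ * v * (f₁ * f₂) = f₂⁻¹ * (f₁⁻¹ * (v * f₁)) * f₂ := by group
    rw [h3, ← hf₁comm v]
    group
  have e2 : ξ ^ orderOf v = 1 := by
    have h2 : (f₂⁻¹ * v * f₂) ^ orderOf v = 1 := by
      have := conj_pow (a := f₂⁻¹) (b := v) (i := orderOf v)
      simp only [inv_inv] at this
      rw [this, pow_orderOf_eq_one]; group
    rw [e1, (show Commute ξ v from hξcomm v).mul_pow, pow_orderOf_eq_one, mul_one] at h2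
    exact h2
  have e3 : v * f₂ * v⁻¹ = f₂ * ξ := by
    have h2 : v * f₂ = f₂ * (ξ * v) := by
      rw [← e1]; group
    rw [h2]; group
  have e4 : ξ ^ orderOf f₂ = 1 := by
    have h2 : (v * f₂ * v⁻¹) ^ orderOf f₂ = 1 := by
      rw [conj_pow, pow_orderOf_eq_one]; group
    rw [e3, (show Commute f₂ ξ from (hξcomm f₂).symm).mul_pow, pow_orderOf_eq_one, one_mul] at h2
    exact h2
  have hcop : (orderOf v).Coprime (orderOf f₂) :=
    (coprime_of_primary hr (fun h => hr.one_lt.ne' (Nat.eq_one_of_dvd_coprimes hf₂c h (dvd_refl r)))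
      hve)
  have hξ1 : ξ = 1 := by
    have := Nat.eq_one_of_dvd_coprimes hcop (orderOf_dvd_of_pow_eq_one e2) (orderOf_dvd_of_pow_eq_one e4)
    exact orderOf_eq_one_iff.mp this
  have hcomm : Commute f₂ v := by
    rw [hξ1, one_mul] at e1
    have : f₂ * v = v * f₂ := by
      have h2 : f₂ * (f₂⁻¹ * v * f₂) = f₂ * v := by rw [e1]
      rw [← h2]; group
    exact this
  have hf₂Z := H.crux' hrn hve hvZ (hzp hf₂) hcomm
  apply hfZ
  rw [hf12]
  exact Subgroup.mul_mem _ hf₁Z hf₂Z

theorem Hyp.top_comm (H : Hyp G m n) {y : G} (hy : (C y).index = m) :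
    ∀ a ∈ (C y), ∀ b ∈ (C y), a * b = b * a := by
  intro a ha b hb
  have : a ∈ (C b) := by
    apply mem_of_primary_powers
    intro c hc r hr he
    have hcB : c ∈ (C y) := (Subgroup.zpowers_le.mpr ha) hc
    by_cases hcZ : c ∈ Subgroup.center G
    · exact (Subgroup.center_le_centralizer _) hcZ
    have hrn : r ∣ n := by
      by_contra hrn
      apply hcZ
      have h2 := pow_relIndex_mem (Subgroup.center G) (C y) hcB
      rw [H.relIndex_center_of_top hy] at h2
      obtain ⟨j, hj⟩ := he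
      have h3 : (n).Coprime (r ^ j) :=
        Nat.Coprime.pow_right j ((Nat.Prime.coprime_iff_not_dvd hr).mpr hrn).symm
      refine mem_of_pow_mem_of_coprime _ h3 h2 ?_
      rw [hj]; exact Subgroup.one_mem _
    haveI : Fact r.Prime := ⟨hr⟩
    have hctop := H.top_of_noncentral hrn he hcZ
    have hle : (C c) ≤ (C y) := by
      intro g hg
      by_contra hgy
      apply hcZ
      apply H.inf_conj_le hy g hgy
      refine Subgroup.mem_inf.mpr ⟨hcB, ?_⟩
      rw [Cfsg.Agent.Lib.Solvable.FrobQuot.mem_conj_smul_iff']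
      have h1 : g * c = c * g := mem_C.mp hg
      have h2 : g⁻¹ * c * g = c := by
        calc g⁻¹ * c * g = g⁻¹ * (c * g) := by group
          _ = g⁻¹ * (g * c) := by rw [h1]
          _ = c := by group
      rw [h2]; exact hcB
    have hEq : (C c) = (C y) := eq_of_le_of_index_le hle (by rw [hctop, hy])
    have : b ∈ (C c) := by rw [hEq]; exact hb
    exact mem_C_comm.mp this
  exact mem_C.mp this

end Hyp


/-- Let G be a finite group whose two largest conjugacy class sizes m > n > 1 are coprime, and let x, y ∈ G have classes of sizes n and m respectively. Then C_G(x) and C_G(y) are abelian, and G/Z(G) is a Frobenius group with kernel C_G(x)/Z(G) and complement C_G(y)/Z(G). -/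
theorem result {G : Type*} [Group G] [Finite G] (m n : ℕ) (hmn : n < m) (hn : 1 < n)
    (hcop : m.Coprime n) (htop : ∀ z : G, (Subgroup.centralizer ({z} : Set G)).index ≤ m) (hsecond : ∀ z : G, (Subgroup.centralizer ({z} : Set G)).index < m → (Subgroup.centralizer ({z} : Set G)).index ≤ n)
    (x y : G) (hx : (Subgroup.centralizer ({x} : Set G)).index = n) (hy : (Subgroup.centralizer ({y} : Set G)).index = m) :
    IsMulCommutative (Subgroup.centralizer ({x} : Set G)) ∧ IsMulCommutative (Subgroup.centralizer ({y} : Set G)) ∧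
    Cfsg.IsFrobeniusComplement ((Subgroup.centralizer ({y} : Set G)).map (QuotientGroup.mk' (Subgroup.center G))) ∧
    Cfsg.frobeniusKernel ((Subgroup.centralizer ({y} : Set G)).map (QuotientGroup.mk' (Subgroup.center G))) =
      ((Subgroup.centralizer ({x} : Set G)).map (QuotientGroup.mk' (Subgroup.center G)) : Set (G ⧸ Subgroup.center G)) := by
  have H : Hyp G m n := ⟨hmn, hn, hcop, htop, hsecond, ⟨x, hx⟩, ⟨y, hy⟩⟩
  set B := Subgroup.centralizer ({y} : Set G) with hB
  have hCF := H.C_eq_FF hx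
  have hZB : Subgroup.center G ≤ B := Subgroup.center_le_centralizer _
  have hrel : (Subgroup.center G).relIndex B = n := H.relIndex_center_of_top hy
  have hBZ : ¬ B ≤ Subgroup.center G := by
    intro hle
    have h1 : Subgroup.center G = B := le_antisymm hZB hle
    rw [← h1, Subgroup.relIndex_self] at hrel
    omega
  have hBtop : B ≠ ⊤ := by
    intro h1
    rw [h1, Subgroup.index_top] at hy
    omega
  have hF := fun g hg => H.inf_conj_le hy g hg
  refine ⟨?_, ?_, ?_, ?_⟩
  · rw [hCF]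
    exact .of_setLike_mul_comm (fun a ha b hb => H.FF_comm a ha b hb)
  · exact .of_setLike_mul_comm (fun a ha b hb => H.top_comm hy a ha b hb)
  · exact Cfsg.Agent.Lib.Solvable.FrobQuot.isFrobeniusComplement_map B _ hZB hBZ hBtop hF
  · obtain ⟨K, hKn, hZK, hKD, hKsup, h1, h2⟩ :=
      Cfsg.Agent.Lib.Solvable.FrobQuot.exists_kernel' B _ hZB hBZ hBtop hF
    have hFK : FF G m ≤ K := by
      intro f hf
      by_contra hfK
      obtain ⟨g, hg⟩ := h2 f hfK
      have h3 : g⁻¹ * f * g ∈ B := Cfsg.Agent.Lib.Solvable.FrobQuot.mem_conj_smul_iff'.mp hg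
      have h4 : g⁻¹ * f * g ∈ FF G m := by
        have := FF_normal.conj_mem f hf g⁻¹
        simpa using this
      have h5 := H.FF_inf_top hy h4 h3
      exact hfK (hZK (conj_mem_center h5))
    have hrelK : (Subgroup.center G).relIndex K = m := by
      have h3 : B.relIndex (B ⊔ K) = B.relIndex K := S4345.relIndex_sup_of_normal _ _
      rw [sup_comm, hKsup, Subgroup.relIndex_top_right, hy, ← Subgroup.inf_relIndex_right, inf_comm,
        hKD] at h3
      exact h3.symm
    have hrelF : (Subgroup.center G).relIndex (FF G m) = m := by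
      rw [← hCF]; exact H.relIndex_center_of_second hx
    have hKF : K = FF G m := by
      have h3 : (Subgroup.center G).relIndex (FF G m) * (FF G m).relIndex K =
          (Subgroup.center G).relIndex K :=
        Subgroup.relIndex_mul_relIndex _ _ _ center_le_FF hFK
      rw [hrelK, hrelF] at h3
      have h4 : (FF G m).relIndex K = 1 := by
        have := H.m_pos
        exact Nat.eq_of_mul_eq_mul_left this (by rw [h3, mul_one])
      exact le_antisymm (Subgroup.relIndex_eq_one.mp h4) hFK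
    have hmemB : ∀ g : G, QuotientGroup.mk' (Subgroup.center G) g ∈ B.map (QuotientGroup.mk' (Subgroup.center G)) ↔ g ∈ B := by
      intro g
      constructor
      · rintro ⟨d, hd, hdg⟩
        have h3 : d⁻¹ * g ∈ Subgroup.center G := by
          rw [← QuotientGroup.ker_mk' (Subgroup.center G), MonoidHom.mem_ker, map_mul, map_inv, ← hdg,
            inv_mul_cancel]
        have h4 := B.mul_mem hd (hZB h3)
        simpa using h4
      · intro hg
        exact ⟨g, hg, rfl⟩
    ext q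
    obtain ⟨g, rfl⟩ := QuotientGroup.mk'_surjective _ q
    rw [hCF]
    have hmemF : QuotientGroup.mk' (Subgroup.center G) g ∈
        (((FF G m).map (QuotientGroup.mk' (Subgroup.center G)) : Subgroup _) : Set _) ↔ g ∈ FF G m := by
      constructor
      · rintro ⟨d, hd, hdg⟩
        have h3 : d⁻¹ * g ∈ Subgroup.center G := by
          rw [← QuotientGroup.ker_mk' (Subgroup.center G), MonoidHom.mem_ker, map_mul, map_inv, ← hdg,
            inv_mul_cancel]
        have h4 := (FF G m).mul_mem hd (center_le_FF h3)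
        simpa using h4
      · intro hg
        exact ⟨g, hg, rfl⟩
    rw [hmemF]
    constructor
    · intro hk
      rcases hk with hk | hk
      · apply center_le_FF
        rw [← QuotientGroup.ker_mk' (Subgroup.center G), MonoidHom.mem_ker]
        exact hk
      · rw [← hKF]
        by_contra hgK
        obtain ⟨t, ht⟩ := h2 g hgK
        apply hk (QuotientGroup.mk' (Subgroup.center G) t)
        rw [Cfsg.Agent.Lib.Solvable.FrobQuot.mem_conj_smul_iff']
        simp only [← map_inv, ← map_mul]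
        rw [hmemB]
        exact Cfsg.Agent.Lib.Solvable.FrobQuot.mem_conj_smul_iff'.mp ht
    · intro hgF
      by_cases hgZ : g ∈ Subgroup.center G
      · left
        rw [← MonoidHom.mem_ker, QuotientGroup.ker_mk']
        exact hgZ
      · right
        intro tb
        obtain ⟨t, rfl⟩ := QuotientGroup.mk'_surjective _ tb
        rw [Cfsg.Agent.Lib.Solvable.FrobQuot.mem_conj_smul_iff']
        simp only [← map_inv, ← map_mul]
        rw [hmemB]
        intro hmem
        exact h1 g (hKF ▸ hgF) hgZ t (Cfsg.Agent.Lib.Solvable.FrobQuot.mem_conj_smul_iff'.mpr hmem)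

end Cfsg.Agent.S4138
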