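import Cfsg.Statements.S4141
import Cfsg.Agent.S4140
import Cfsg.Agent.S0081
import Cfsg.Agent.S0205
import Cfsg.Agent.S0033
import Cfsg.Agent.Lib.Transfer.Camina
import Cfsg.Agent.Lib.PGroup.Basic
import Cfsg.Agent.Lib.Coprime.InvSylow
import Cfsg.Agent.Lib.CamPair.ClaimC

set_option autoImplicit false
open Cfsg

namespace Cfsg.Agent.S4141

open Cfsg.Agent.Lib.Transfer.Camina Cfsg.Agent.Lib.CamPair

open scoped commutatorElement

universe u
variable {G : Type u} [Group G] [Finite G]

/-- A fixed-point-free conjugation of prime order on a normal subgroup forces solvability. -/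
theorem solvable_of_fpf (N : Subgroup G) [N.Normal] (hN1 : N ≠ ⊥) (z : G) (p : ℕ) (hp : p.Prime)
    (hz : orderOf z = p) (hfpf : ∀ x ∈ N, z * x * z⁻¹ = x → x = 1) : Group.IsSolvable N := by
  let φ : N ≃* N := MulAut.conjNormal z
  have hφ : MonoidHom.FixedPointFree (φ : N →* N) := by
    intro x hx
    have h1 : z * (x : G) * z⁻¹ = x := by
      have := congrArg (Subtype.val) hx
      simpa [φ, MulAut.conjNormal_apply] using this
    exact Subtype.ext (hfpf x x.2 h1)
  have hpow : φ ^ p = 1 := by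
    have : φ ^ p = MulAut.conjNormal (z ^ p) := by
      simp [φ, map_pow]
    rw [this, ← hz, pow_orderOf_eq_one, map_one]
  have hne : φ ≠ 1 := by
    intro h
    obtain ⟨x, hxN, hx1⟩ : ∃ x ∈ N, x ≠ 1 := by
      by_contra hcon
      push_neg at hcon
      exact hN1 ((Subgroup.eq_bot_iff_forall N).2 hcon)
    have h2 := hfpf x hxN (by
      have := congrArg (fun e : N ≃* N => ((e ⟨x, hxN⟩ : N) : G)) h
      simpa [φ, MulAut.conjNormal_apply] using this)
    exact hx1 h2
  haveI : Fact p.Prime := ⟨hp⟩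
  have hord : orderOf φ = p := orderOf_eq_prime hpow hne
  haveI : Group.IsNilpotent N := Cfsg.Agent.S0033.result φ hφ p hp hord
  exact inferInstance

/-- From `g ∉ N`, an element of prime order in a `p`-power-order element `g'` outside `N`. -/
theorem exists_prime_order_part (N : Subgroup G) [N.Normal] {g : G} (hg : g ∉ N) :
    ∃ p : ℕ, p.Prime ∧ ∃ g' : G, g' ∉ N ∧ ∃ k, orderOf g' = p ^ k ∧ 0 < k ∧
      ∃ z : G, orderOf z = p ∧ z ∈ Subgroup.zpowers g' := by
  have hgf : (QuotientGroup.mk' N) g ≠ 1 := by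
    intro h
    exact hg ((QuotientGroup.eq_one_iff g).1 h)
  obtain ⟨p, hp, g', -, hg'f, k, hk⟩ := exists_prime_power_part (QuotientGroup.mk' N) _ g rfl hgf
  have hg'N : g' ∉ N := fun h => hg'f ((QuotientGroup.eq_one_iff g').2 h)
  have hk0 : 0 < k := by
    rcases Nat.eq_zero_or_pos k with rfl | h
    · exfalso
      rw [pow_zero, orderOf_eq_one_iff] at hk
      exact hg'N (hk ▸ N.one_mem)
    · exact h
  refine ⟨p, hp, g', hg'N, k, hk, hk0, g' ^ (orderOf g' / p), ?_, ?_⟩
  · exact orderOf_pow_orderOf_div (by rw [hk]; exact pow_ne_zero _ hp.ne_zero) (by rw [hk]; exact dvd_pow_self p hk0.ne')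
  · exact Subgroup.pow_mem _ (Subgroup.mem_zpowers g') _

theorem isSolvable_of_isPGroup {X : Type*} [Group X] [Finite X] {p : ℕ} [Fact p.Prime]
    (h : IsPGroup p X) : Group.IsSolvable X := by
  haveI : Group.IsNilpotent X := h.isNilpotent
  exact inferInstance

/-- Membership in a normal `p`-complement is decided by the order. -/
theorem mem_complement_iff {X : Type*} [Group X] [Finite X] {r : ℕ} [Fact r.Prime] (P : Sylow r X)
    (M : Subgroup X) [hM : M.Normal] (hc : M.IsComplement' (P : Subgroup X)) (x : X) :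
    x ∈ M ↔ (orderOf x).Coprime r := by
  have hr : r.Prime := Fact.out
  have hcard : Nat.card M = (P : Subgroup X).index := hc.index_eq_card.symm
  have hidx : M.index = Nat.card (P : Subgroup X) := hc.symm.index_eq_card
  have hnd : ¬ r ∣ Nat.card M := by rw [hcard]; exact P.not_dvd_index
  constructor
  · intro hx
    have h1 : orderOf x ∣ Nat.card M := by
      have := orderOf_dvd_natCard (⟨x, hx⟩ : M)
      simpa [Subgroup.orderOf_mk] using this
    rw [Nat.coprime_comm]
    exact (Nat.Prime.coprime_iff_not_dvd hr).2 (fun h => hnd (h.trans h1))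
  · intro hco
    obtain ⟨j, hj⟩ := P.isPGroup'.exists_card_eq
    have h1 : orderOf ((QuotientGroup.mk' M) x) ∣ Nat.card (X ⧸ M) := orderOf_dvd_natCard _
    have h2 : Nat.card (X ⧸ M) = r ^ j := by
      rw [← hj, ← hidx]; rfl
    have h3 : orderOf ((QuotientGroup.mk' M) x) ∣ orderOf x := orderOf_map_dvd _ _
    have h4 : (orderOf x).Coprime (r ^ j) := Nat.Coprime.pow_right j hco
    have h5 : orderOf ((QuotientGroup.mk' M) x) = 1 :=
      Nat.eq_one_of_dvd_coprimes h4 h3 (h2 ▸ h1)
    exact (QuotientGroup.eq_one_iff x).1 (orderOf_eq_one_iff.1 h5)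

/-- A normal `r`-complement of the normal subgroup `N` is normal in `G`. -/
theorem map_normal {r : ℕ} [Fact r.Prime] (N : Subgroup G) [hN : N.Normal] (P : Sylow r N)
    (M : Subgroup N) [M.Normal] (hc : M.IsComplement' (P : Subgroup N)) :
    (M.map N.subtype).Normal := by
  refine ⟨?_⟩
  rintro _ ⟨x, hx, rfl⟩ g
  have hxN : g * (x : G) * g⁻¹ ∈ N := hN.conj_mem _ x.2 g
  refine ⟨⟨_, hxN⟩, ?_, rfl⟩
  rw [SetLike.mem_coe, mem_complement_iff P M hc]
  have h1 := (mem_complement_iff P M hc x).1 hx
  have h2 : orderOf (⟨g * (x : G) * g⁻¹, hxN⟩ : N) = orderOf x := by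
    rw [Subgroup.orderOf_mk, ← Subgroup.orderOf_coe x]
    exact (MulAut.conj g).orderOf_eq (x : G)
  rwa [h2]

/-- `R` covers the `r`-group `G / N`. -/
theorem sylow_surj (N : Subgroup G) [N.Normal] {r : ℕ} [Fact r.Prime] (R : Sylow r G)
    (hq : IsPGroup r (G ⧸ N)) :
    Function.Surjective ((QuotientGroup.mk' N).comp (R : Subgroup G).subtype) := by
  set f := QuotientGroup.mk' N with hf
  have hs : Function.Surjective f := QuotientGroup.mk'_surjective N
  set I : Subgroup (G ⧸ N) := (R : Subgroup G).map f with hI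
  have h1 : (R : Subgroup G) ≤ I.comap f := Subgroup.le_comap_map _ _
  have h2 : (I.comap f).index ∣ (R : Subgroup G).index := Subgroup.index_dvd_of_le h1
  have h3 : (I.comap f).index = I.index := Subgroup.index_comap_of_surjective I hs
  obtain ⟨j, hj⟩ := hq.exists_card_eq
  have h5 : I.index ∣ r ^ j := hj ▸ I.index_dvd_card
  obtain ⟨i, -, hi⟩ := (Nat.dvd_prime_pow (Fact.out : r.Prime)).1 h5
  have h6 : i = 0 := by
    by_contra hi0
    have : r ∣ I.index := by
      rw [hi]; exact dvd_pow_self r hi0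
    exact R.not_dvd_index (this.trans (by rw [← h3]; exact h2))
  have h7 : I = ⊤ := by
    rw [← Subgroup.index_eq_one, hi, h6, pow_zero]
  intro y
  have : y ∈ I := by rw [h7]; trivial
  obtain ⟨x, hx, rfl⟩ := this
  exact ⟨⟨x, hx⟩, rfl⟩

/-- Elementary abelian part of the centre of a subgroup. -/
def omegaCenter (S : Subgroup G) (s : ℕ) : Subgroup G where
  carrier := {a | a ∈ S ∧ (∀ y ∈ S, a * y = y * a) ∧ a ^ s = 1}
  one_mem' := ⟨S.one_mem, by simp, one_pow s⟩
  mul_mem' := by
    rintro a b ⟨ha, ha', ha''⟩ ⟨hb, hb', hb''⟩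
    refine ⟨S.mul_mem ha hb, fun y hy => ?_, ?_⟩
    · rw [mul_assoc, hb' y hy, ← mul_assoc, ha' y hy, mul_assoc]
    · have : Commute a b := ha' b hb
      rw [this.mul_pow, ha'', hb'', one_mul]
  inv_mem' := by
    rintro a ⟨ha, ha', ha''⟩
    refine ⟨S.inv_mem ha, fun y hy => ?_, by rw [inv_pow, ha'', inv_one]⟩
    have := ha' y hy
    calc a⁻¹ * y = a⁻¹ * (y * a) * a⁻¹ := by group
      _ = a⁻¹ * (a * y) * a⁻¹ := by rw [this]
      _ = y * a⁻¹ := by group

/-- Conjugation by `x`, which normalises `S`, on the elementary abelian part of the centre of `S`. -/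
def conjOmega (S : Subgroup G) (s : ℕ) (x : G) (hx : x ∈ Subgroup.normalizer (S : Set G)) :
    omegaCenter S s ≃* omegaCenter S s := by
  have hmem : ∀ (t : G), t ∈ Subgroup.normalizer (S : Set G) → ∀ a ∈ omegaCenter S s,
      t * a * t⁻¹ ∈ omegaCenter S s := by
    intro t ht a ha
    obtain ⟨ha1, ha2, ha3⟩ := ha
    have ht' := Subgroup.mem_normalizer_iff.1 ht
    refine ⟨(ht' a).1 ha1, fun y hy => ?_, ?_⟩
    · have hy' : t⁻¹ * y * t ∈ S := by
        have h := (ht' (t⁻¹ * y * t)).2
        apply h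
        have : t * (t⁻¹ * y * t) * t⁻¹ = y := by group
        rw [this]; exact hy
      have := ha2 _ hy'
      calc t * a * t⁻¹ * y = t * (a * (t⁻¹ * y * t)) * t⁻¹ := by group
        _ = t * ((t⁻¹ * y * t) * a) * t⁻¹ := by rw [this]
        _ = y * (t * a * t⁻¹) := by group
    · rw [conj_pow, ha3]; simp
  have hx' : x⁻¹ ∈ Subgroup.normalizer (S : Set G) := Subgroup.inv_mem _ hx
  exact
    { toFun := fun a => ⟨x * a * x⁻¹, hmem x hx a a.2⟩
      invFun := fun a => ⟨x⁻¹ * a * x, by simpa using hmem x⁻¹ hx' a a.2⟩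
      left_inv := fun a => Subtype.ext (by simp [mul_assoc])
      right_inv := fun a => Subtype.ext (by simp [mul_assoc])
      map_mul' := fun a b => Subtype.ext (by simp [mul_assoc]) }

/-- The conjugation action of `R`, normalising `S`, on the elementary abelian part of the centre of `S`. -/
def conjOmegaHom (S : Subgroup G) (s : ℕ) (R : Subgroup G)
    (hR : R ≤ Subgroup.normalizer (S : Set G)) : R →* MulAut (omegaCenter S s) where
  toFun x := conjOmega S s x (hR x.2)
  map_one' := by
    ext a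
    simp [conjOmega]
  map_mul' x y := by
    ext a
    simp [conjOmega, mul_assoc]

theorem conjOmegaHom_apply (S : Subgroup G) (s : ℕ) (R : Subgroup G)
    (hR : R ≤ Subgroup.normalizer (S : Set G)) (x : R) (a : omegaCenter S s) :
    ((conjOmegaHom S s R hR x a : omegaCenter S s) : G) = x * a * (x : G)⁻¹ := rfl

/-- The comm-group structure on `omegaCenter`. -/
@[reducible] def omegaCommGroup (S : Subgroup G) (s : ℕ) : CommGroup (omegaCenter S s) :=
  { (inferInstance : Group (omegaCenter S s)) with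
    mul_comm := fun a b => Subtype.ext (a.2.2.1 b b.2.1) }

/-- The main case: `G / N` is a nontrivial `r`-group and `r` divides `|N|`. -/
theorem solvable_of_index_case (N : Subgroup G) [hN : N.Normal] (hN2 : N ≠ ⊤)
    (hcam : ∀ g : G, g ∉ N → ∀ n ∈ N, ∃ x : G, x * g * x⁻¹ = g * n)
    {r : ℕ} [hrf : Fact r.Prime] (hq : IsPGroup r (G ⧸ N)) (hrN : r ∣ Nat.card N) : Group.IsSolvable N := by
  have hr : r.Prime := hrf.out
  -- the Camina property of the quotient map
  set f := QuotientGroup.mk' N with hf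
  have hfmem : ∀ x, f x = 1 ↔ x ∈ N := fun x => QuotientGroup.eq_one_iff x
  have hs : Function.Surjective f := QuotientGroup.mk'_surjective N
  have hCam : Cam f := by
    intro g hg n hn
    exact hcam g (fun h => hg ((hfmem g).2 h)) n ((hfmem n).1 hn)
  -- a Sylow subgroup meeting `N` nontrivially
  obtain ⟨x₁, hx₁⟩ := exists_prime_orderOf_dvd_card' r hrN
  have hx₁N : (x₁ : G) ∈ N := x₁.2
  have hx₁1 : (x₁ : G) ≠ 1 := by
    intro h
    have : x₁ = 1 := Subtype.ext h
    rw [this, orderOf_one] at hx₁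
    exact hr.one_lt.ne hx₁
  have hzp : IsPGroup r (Subgroup.zpowers (x₁ : G)) := by
    apply IsPGroup.of_card (n := 1)
    rw [Nat.card_zpowers, Subgroup.orderOf_coe, hx₁, pow_one]
  obtain ⟨R, hR⟩ := hzp.exists_le_sylow
  have hx₁R : (x₁ : G) ∈ (R : Subgroup G) := hR (Subgroup.mem_zpowers _)
  have hsurj := sylow_surj N R hq
  have hRp : IsPGroup r (R : Subgroup G) := R.isPGroup'
  have hCamR : Cam (f.comp (R : Subgroup G).subtype) := cam_sub f hCam hs _ hsurj
  -- an element of `R` outside `N`
  have hGN : Nontrivial (G ⧸ N) := QuotientGroup.nontrivial_iff.2 hN2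
  obtain ⟨y₀, hy₀⟩ := exists_ne (1 : G ⧸ N)
  obtain ⟨x₀, hx₀⟩ := hsurj y₀
  have hx₀N : (x₀ : G) ∉ N := by
    intro h
    apply hy₀
    rw [← hx₀]
    exact (hfmem _).2 h
  -- the Camina pair inside `R`
  set D : Subgroup (R : Subgroup G) := N.subgroupOf (R : Subgroup G) with hD
  have hDmem : ∀ x : (R : Subgroup G), x ∈ D ↔ (x : G) ∈ N := fun x => Subgroup.mem_subgroupOf
  haveI hDn : D.Normal := Subgroup.normal_subgroupOf
  have hDC : CamP D := by
    intro x hx d hd
    have h1 : (f.comp (R : Subgroup G).subtype) x ≠ 1 := fun h =>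
      hx ((hDmem x).2 ((hfmem _).1 h))
    have h2 : (f.comp (R : Subgroup G).subtype) d = 1 := (hfmem _).2 ((hDmem d).1 hd)
    exact hCamR x h1 d h2
  have hD1 : D ≠ ⊥ := by
    intro h
    have : (⟨x₁, hx₁R⟩ : (R : Subgroup G)) ∈ D := (hDmem _).2 hx₁N
    rw [h, Subgroup.mem_bot] at this
    exact hx₁1 (congrArg Subtype.val this)
  have hD2 : D ≠ ⊤ := by
    intro h
    have : x₀ ∈ D := by rw [h]; trivial
    exact hx₀N ((hDmem _).1 this)
  -- `D` lies in the Frattini subgroup, so `N` has a normal `r`-complement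
  have hfr : N ⊓ (R : Subgroup G) ≤ (frattini (R : Subgroup G)).map (R : Subgroup G).subtype := by
    rintro y ⟨hyN, hyR⟩
    refine ⟨⟨y, hyR⟩, ?_, rfl⟩
    obtain ⟨g, hg⟩ := hDC x₀ (fun h => hx₀N ((hDmem _).1 h)) ⟨y, hyR⟩ ((hDmem _).2 hyN)
    have h1 : (⟨y, hyR⟩ : (R : Subgroup G)) = ⁅x₀⁻¹, g⁆ := by
      rw [commutatorElement_def]
      have : (⟨y, hyR⟩ : (R : Subgroup G)) = x₀⁻¹ * (g * x₀ * g⁻¹) := by rw [hg]; group
      rw [this]; group
    have h2 : (⟨y, hyR⟩ : (R : Subgroup G)) ∈ commutator (R : Subgroup G) := by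
      rw [h1]
      exact Subgroup.commutator_mem_commutator (Subgroup.mem_top _) (Subgroup.mem_top _)
    exact Cfsg.Agent.Lib.PGroup.Basic.commutator_le_frattini hRp h2
  obtain ⟨P, M, hMn, hMc⟩ := Cfsg.Agent.S0081.result R N hfr
  haveI := hMn
  have hM'n : (M.map N.subtype).Normal := map_normal N P M hMc
  have hMcard : ¬ r ∣ Nat.card M := by
    rw [show Nat.card M = (P : Subgroup N).index from hMc.index_eq_card.symm]
    exact P.not_dvd_index
  -- `N / M` is an `r`-group
  have hNM : IsPGroup r (N ⧸ M) := by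
    obtain ⟨j, hj⟩ := P.isPGroup'.exists_card_eq
    apply IsPGroup.of_card (n := j)
    rw [← hj, ← hMc.symm.index_eq_card]; rfl
  haveI : Group.IsSolvable (N ⧸ M) := isSolvable_of_isPGroup hNM
  -- `M` is solvable
  suffices hMs : Group.IsSolvable M by
    haveI := hMs
    exact Group.isSolvable_of_ker_le_range M.subtype (QuotientGroup.mk' M) (by
      intro x hx
      have hx' : x ∈ M := (QuotientGroup.eq_one_iff x).1 hx
      exact ⟨⟨x, hx'⟩, rfl⟩)
  by_cases hr2 : r = 2
  · subst hr2
    have : Odd (Nat.card M) := by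
      rcases Nat.even_or_odd (Nat.card M) with h | h
      · exact absurd h.two_dvd hMcard
      · exact h
    exact Cfsg.Agent.S0205.result this
  -- `r` odd: `M` is trivial
  have hMbot : M = ⊥ := by
    by_contra hne
    set M' : Subgroup G := M.map N.subtype with hM'
    have hM'le : M' ≤ N := by
      rintro _ ⟨x, _, rfl⟩; exact x.2
    have hcardM' : Nat.card M' = Nat.card M :=
      Nat.card_congr (Subgroup.equivMapOfInjective M N.subtype N.subtype_injective).symm.toEquiv
    haveI : Nontrivial M := (Subgroup.nontrivial_iff_ne_bot M).2 hne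
    have hM1 : 1 < Nat.card M := Finite.one_lt_card_iff_nontrivial.2 inferInstance
    obtain ⟨s, hs', hsd⟩ := Nat.exists_prime_and_dvd hM1.ne'
    haveI hsf : Fact s.Prime := ⟨hs'⟩
    have hsr : s ≠ r := fun h => hMcard (h ▸ hsd)
    -- invariant Sylow
    have hRnorm : (R : Subgroup G) ≤ Subgroup.normalizer (M' : Set G) := by
      haveI := hM'n
      rw [Subgroup.normalizer_eq_top]; exact le_top
    have hcop : (Nat.card (R : Subgroup G)).Coprime (Nat.card M') := by
      obtain ⟨j, hj⟩ := hRp.exists_card_eq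
      rw [hj, hcardM']
      exact Nat.Coprime.pow_left j ((Nat.Prime.coprime_iff_not_dvd hr).2 hMcard)
    obtain ⟨Q, hQ⟩ := Cfsg.Agent.Lib.Coprime.InvSylow.exists_invariant_sylow hRnorm hcop
      (Or.inl (isSolvable_of_isPGroup hRp)) s
    set S : Subgroup G := (Q : Subgroup M').map M'.subtype with hS
    have hSM' : S ≤ M' := by
      rintro _ ⟨x, _, rfl⟩; exact x.2
    have hScard : Nat.card S = Nat.card (Q : Subgroup M') :=
      Nat.card_congr (Subgroup.equivMapOfInjective _ M'.subtype M'.subtype_injective).symm.toEquiv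
    have hSp : IsPGroup s S := by
      obtain ⟨j, hj⟩ := Q.isPGroup'.exists_card_eq
      exact IsPGroup.of_card (n := j) (by rw [hScard, hj])
    have hQne : (Q : Subgroup M') ≠ ⊥ := Q.ne_bot_of_dvd_card (by rw [hcardM']; exact hsd)
    have hSnt : Nontrivial S := by
      rw [← Finite.one_lt_card_iff_nontrivial, hScard, Finite.one_lt_card_iff_nontrivial]
      exact (Subgroup.nontrivial_iff_ne_bot _).2 hQne
    -- a central element of order `s`
    haveI := hSnt
    have hZnt : Nontrivial (Subgroup.center S) := hSp.center_nontrivial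
    have hZp : IsPGroup s (Subgroup.center S) := IsPGroup.to_subgroup hSp _
    have hZd : s ∣ Nat.card (Subgroup.center S) := by
      obtain ⟨j, hj⟩ := hZp.exists_card_eq
      have h1 : 1 < Nat.card (Subgroup.center S) := Finite.one_lt_card_iff_nontrivial.2 hZnt
      rw [hj] at h1 ⊢
      rcases Nat.eq_zero_or_pos j with rfl | hj0
      · simp at h1
      · exact dvd_pow_self s hj0.ne'
    obtain ⟨c, hc⟩ := exists_prime_orderOf_dvd_card' s hZd
    have hc1 : ((c : S) : G) ∈ omegaCenter S s := by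
      refine ⟨(c : S).2, fun y hy => ?_, ?_⟩
      · have := (Subgroup.mem_center_iff.1 c.2) ⟨y, hy⟩
        exact (congrArg Subtype.val this).symm
      · have h0 : c ^ s = 1 := by rw [← hc]; exact pow_orderOf_eq_one c
        have := congrArg (fun t : Subgroup.center S => ((t : S) : G)) h0
        simpa using this
    have hc2 : ((c : S) : G) ≠ 1 := by
      intro h
      have : c = 1 := Subtype.ext (Subtype.ext h)
      rw [this, orderOf_one] at hc
      exact hs'.one_lt.ne hc
    -- the action
    letI inst : CommGroup (omegaCenter S s) := omegaCommGroup S s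
    have hfix : ∀ x : (R : Subgroup G), x ∉ D → ∀ a : omegaCenter S s,
        conjOmegaHom S s (R : Subgroup G) hQ x a = a → a = 1 := by
      intro x hx a ha
      have h1 : (x : G) * a * (x : G)⁻¹ = a := congrArg Subtype.val ha
      have h2 : (x : G) * a = a * x := by
        calc (x : G) * a = (x : G) * a * (x : G)⁻¹ * x := by group
          _ = a * x := by rw [h1]
      have hxN : f (x : G) ≠ 1 := fun h => hx ((hDmem x).2 ((hfmem _).1 h))
      have haN : f (a : G) = 1 := (hfmem _).2 (hM'le (hSM' a.2.1))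
      have hco : Nat.Coprime (orderOf (x : G)) (orderOf (a : G)) := by
        have h3 : orderOf (a : G) ∣ s := orderOf_dvd_of_pow_eq_one a.2.2.2
        obtain ⟨i, hi⟩ := (IsPGroup.iff_orderOf.1 hRp) x
        rw [← Subgroup.orderOf_coe, hi] at *
        exact Nat.Coprime.coprime_dvd_right h3
          (Nat.Coprime.pow_left i ((Nat.coprime_primes hr hs').2 hsr.symm))
      have := eq_one_of_commute_of_coprime f hCam hxN haN h2 hco
      exact Subtype.ext this
    have hfin := eq_one_of_fpf (T := D) (fun h => hr2 h) hRp hD1 hD2 hDC (s := s) hsr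
      (fun a => Subtype.ext a.2.2.2) (conjOmegaHom S s (R : Subgroup G) hQ) hfix ⟨_, hc1⟩
    exact hc2 (congrArg Subtype.val hfin)
  rw [hMbot]
  exact inferInstance

theorem solvable_N (N : Subgroup G) [hN : N.Normal] (hN1 : N ≠ ⊥) (hN2 : N ≠ ⊤)
    (hcam : ∀ g : G, g ∉ N → ∀ n ∈ N, ∃ x : G, x * g * x⁻¹ = g * n) : Group.IsSolvable N := by
  obtain ⟨g, hg⟩ : ∃ g : G, g ∉ N := by
    by_contra h
    push_neg at h
    exact hN2 ((Subgroup.eq_top_iff' N).2 h)
  rcases Cfsg.Agent.S4140.result N hN1 hN2 hcam with hF | hP | hI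
  · -- Frobenius
    obtain ⟨p, hp, g', hg'N, k, hk, hk0, z, hz, hzg⟩ := exists_prime_order_part N hg
    have hzN : z ∉ N := by
      intro hzN
      have hz1 : z ≠ 1 := by
        intro h
        rw [h, orderOf_one] at hz
        exact hp.one_lt.ne hz
      apply hg'N
      apply hF z hzN hz1
      rw [Subgroup.mem_centralizer_singleton_iff]
      obtain ⟨i, rfl⟩ := Subgroup.mem_zpowers_iff.1 hzg
      exact (Commute.zpow_left (Commute.refl g') i).eq.symm ▸ rfl
    refine solvable_of_fpf N hN1 z p hp hz (fun x hx hzx => ?_)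
    by_contra hx1
    apply hzN
    apply hF x hx hx1
    rw [Subgroup.mem_centralizer_singleton_iff]
    calc z * x = z * x * z⁻¹ * z := by group
      _ = x * z := by rw [hzx]
  · -- `N` of prime power order
    obtain ⟨p, k, hp, hk0, hk⟩ := (isPrimePow_nat_iff _).1 hP
    haveI : Fact p.Prime := ⟨hp⟩
    exact isSolvable_of_isPGroup (IsPGroup.of_card (n := k) hk.symm)
  · obtain ⟨r, k, hr, hk0, hk⟩ := (isPrimePow_nat_iff _).1 hI
    haveI : Fact r.Prime := ⟨hr⟩
    have hq : IsPGroup r (G ⧸ N) := IsPGroup.of_card (n := k) (by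
      rw [hk]; rfl)
    by_cases hrN : r ∣ Nat.card N
    · exact solvable_of_index_case N hN2 hcam hq hrN
    · -- `r` does not divide `|N|`
      have hcamf : Cam (QuotientGroup.mk' N) := by
        intro g hg n hn
        exact hcam g (fun h => hg ((QuotientGroup.eq_one_iff g).2 h)) n ((QuotientGroup.eq_one_iff n).1 hn)
      obtain ⟨p, hp, g', hg'N, k', hk', hk0', z, hz, hzg⟩ := exists_prime_order_part N hg
      have hpr : p = r := by
        have h1 : orderOf ((QuotientGroup.mk' N) g') ∣ p ^ k' := hk' ▸ orderOf_map_dvd _ _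
        have h2 : orderOf ((QuotientGroup.mk' N) g') ∣ r ^ k := by
          rw [hk]
          exact orderOf_dvd_natCard ((QuotientGroup.mk' N) g')
        have h3 : orderOf ((QuotientGroup.mk' N) g') ≠ 1 := by
          intro h
          apply hg'N
          exact (QuotientGroup.eq_one_iff g').1 (orderOf_eq_one_iff.1 h)
        by_contra hne
        have hco : Nat.Coprime (p ^ k') (r ^ k) :=
          Nat.Coprime.pow _ _ ((Nat.coprime_primes hp hr).2 hne)
        exact h3 (Nat.eq_one_of_dvd_coprimes hco h1 h2)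
      subst hpr
      have hzN : z ∉ N := by
        intro hzN
        apply hrN
        rw [← hz]
        have := orderOf_dvd_natCard (⟨z, hzN⟩ : N)
        simpa [Subgroup.orderOf_mk] using this
      refine solvable_of_fpf N hN1 z p hp hz (fun x hx hzx => ?_)
      have hcomm : z * x = x * z := by
        calc z * x = z * x * z⁻¹ * z := by group
          _ = x * z := by rw [hzx]
      have hxo : orderOf x ∣ Nat.card N := by
        have := orderOf_dvd_natCard (⟨x, hx⟩ : N)
        simpa [Subgroup.orderOf_mk] using this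
      have hco : Nat.Coprime (orderOf z) (orderOf x) := by
        rw [hz]
        exact Nat.Coprime.coprime_dvd_right hxo ((Nat.Prime.coprime_iff_not_dvd hp).2 hrN)
      exact eq_one_of_commute_of_coprime (QuotientGroup.mk' N) hcamf
        (fun h => hzN ((QuotientGroup.eq_one_iff z).1 h))
        ((QuotientGroup.eq_one_iff x).2 hx) hcomm hco

theorem result {G : Type*} [Group G] [Finite G] (N : Subgroup G) [N.Normal] (hN1 : N ≠ ⊥) (hN2 : N ≠ ⊤)
    (hcam : ∀ g : G, g ∉ N → ∀ n ∈ N, ∃ x : G, x * g * x⁻¹ = g * n) :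
    (Group.IsSolvable (G ⧸ N) → Group.IsSolvable G) ∧ Group.IsSolvable N := by
  have hs := solvable_N N hN1 hN2 hcam
  refine ⟨fun hq => ?_, hs⟩
  haveI := hs
  exact Group.isSolvable_of_ker_le_range N.subtype (QuotientGroup.mk' N) (by
    intro x hx
    have hx' : x ∈ N := (QuotientGroup.eq_one_iff x).1 hx
    exact ⟨⟨x, hx'⟩, rfl⟩)

end Cfsg.Agent.S4141
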