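import Cfsg.Statements.S4146
import Cfsg.Agent.Lib.ClassSize.Camina3

set_option autoImplicit false
open Cfsg

namespace Cfsg.Agent.S4146

/-- Let G be a finite group whose conjugacy class sizes are exactly 1, n, m and nm for coprime integers n, m > 1. Then G is nilpotent and n and m are prime powers. -/
theorem result {G : Type*} [Group G] [Finite G] (n m : ℕ) (hn : 1 < n) (hm : 1 < m) (hcop : n.Coprime m)
    (h : Set.range (fun x : G => (Subgroup.centralizer ({x} : Set G)).index) = ({1, n, m, n * m} : Set ℕ)) :
    Group.IsNilpotent G ∧ IsPrimePow n ∧ IsPrimePow m := by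
  have hmem : ∀ k, k ∈ ({1, n, m, n * m} : Set ℕ) → ∃ g : G, (Subgroup.centralizer ({g} : Set G)).index = k := by
    intro k hk
    rw [← h] at hk
    exact hk
  have H : Cfsg.Agent.Lib.ClassSize.Camina.Hyp G n m :=
    { hn := hn
      hm := hm
      hcop := hcop
      hs := fun g => by
        have h1 : (Subgroup.centralizer ({g} : Set G)).index ∈ ({1, n, m, n * m} : Set ℕ) := by
          rw [← h]
          exact ⟨g, rfl⟩
        simpa using h1
      hN := hmem n (by simp)
      hM := hmem m (by simp)
      hNM := hmem (n * m) (by simp) }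
  exact Cfsg.Agent.Lib.ClassSize.Camina.main H

end Cfsg.Agent.S4146
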