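import Cfsg.Statements.S4167
import Mathlib
import Cfsg.Agent.S0205
import Cfsg.Agent.Lib.ClassSize.NoFour
-- import your own Cfsg.Agent.* helpers here

set_option autoImplicit false
open Cfsg

namespace Cfsg.Agent.S4167

/-- Let G be a finite group in which no conjugacy class has size divisible by 4. Then G is solvable. -/
theorem result {G : Type*} [Group G] [Finite G]
    (h : ∀ x : G, ¬ 4 ∣ (Subgroup.centralizer ({x} : Set G)).index) : Group.IsSolvable G :=
  Cfsg.Agent.Lib.ClassSize.NoFour.solvable_of_nf (fun K _ _ hK => Cfsg.Agent.S0205.result hK) _ G rfl h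

end Cfsg.Agent.S4167
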