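import Cfsg.Statements.S4768
import Mathlib
import Cfsg.Agent.Lib.Char.CoprimeCount
import Cfsg.Agent.Lib.Char.ItoMichler
import Cfsg.Agent.Lib.Char.DegreeDvd
import Cfsg.Agent.Lib.Solvable.PSeries

set_option autoImplicit false
set_option linter.style.haveILetI false
set_option linter.unusedSectionVars false
set_option linter.unusedVariables false
open Cfsg

namespace Cfsg.Agent.S4768

open Cfsg.Agent.Lib.Char.Basic Cfsg.Agent.Lib.Char.Ortho Cfsg.Agent.Lib.Solvable.PSeries Cfsg.Agent.Lib.Basic.PCore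

universe u

section dk
variable {G : Type*} [Group G]

/-- The iterated commutators of a subgroup. -/
def dk (H : Subgroup G) : ℕ → Subgroup G
  | 0 => H
  | k + 1 => ⁅dk H k, dk H k⁆

lemma dk_succ_le (H : Subgroup G) (k : ℕ) : dk H (k + 1) ≤ dk H k := by
  show ⁅dk H k, dk H k⁆ ≤ dk H k
  rw [Subgroup.commutator_le]
  intro a ha b hb
  exact mul_mem (mul_mem (mul_mem ha hb) (inv_mem ha)) (inv_mem hb)

lemma dk_anti (H : Subgroup G) {k l : ℕ} (h : k ≤ l) : dk H l ≤ dk H k := by
  induction h with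
  | refl => exact le_rfl
  | step _ ih => exact (dk_succ_le H _).trans ih

lemma dk_le (H : Subgroup G) (k : ℕ) : dk H k ≤ H := dk_anti H (Nat.zero_le k)

lemma map_dk {Q : Type*} [Group Q] (f : G →* Q) (H : Subgroup G) (k : ℕ) :
    (dk H k).map f = dk (H.map f) k := by
  induction k with
  | zero => rfl
  | succ k ih =>
    show (⁅dk H k, dk H k⁆).map f = ⁅dk (H.map f) k, dk (H.map f) k⁆
    rw [Subgroup.map_commutator, ih]

lemma map_derivedSeries (H : Subgroup G) (k : ℕ) : (derivedSeries H k).map H.subtype = dk H k := by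
  induction k with
  | zero =>
    show (⊤ : Subgroup H).map H.subtype = H
    rw [← MonoidHom.range_eq_map]
    exact H.range_subtype
  | succ k ih =>
    rw [derivedSeries_succ, Subgroup.map_commutator, ih]
    rfl

lemma dk_normal (H : Subgroup G) [hH : H.Normal] (k : ℕ) : (dk H k).Normal := by
  induction k with
  | zero => exact hH
  | succ k ih =>
    haveI := ih
    show (⁅dk H k, dk H k⁆).Normal
    infer_instance

lemma isPGroup_dk {p : ℕ} {Q : Subgroup G} (hQ : IsPGroup p Q) (k : ℕ) : IsPGroup p (dk Q k) :=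
  hQ.to_le (dk_le Q k)

lemma dk_bot (k : ℕ) : dk (⊥ : Subgroup G) k = ⊥ := le_bot_iff.1 (dk_le _ k)

lemma dk_eq_bot_of_le_coprime [Finite G] {p : ℕ} [hp : Fact p.Prime] {Q K : Subgroup G} {k : ℕ}
    (hQ : IsPGroup p Q) (hK : (Nat.card K).Coprime p) (h : dk Q k ≤ K) : dk Q k = ⊥ := by
  obtain ⟨m, hm⟩ := IsPGroup.iff_card.1 (isPGroup_dk hQ k)
  have h1 : Nat.card (dk Q k) ∣ Nat.card K := Subgroup.card_dvd_of_le h
  rw [hm] at h1
  have h2 : (p ^ m).Coprime (Nat.card K) := (hK.symm).pow_left m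
  have h3 : p ^ m = 1 := Nat.eq_one_of_dvd_coprimes h2 (dvd_refl _) h1
  rw [h3] at hm
  exact (Subgroup.eq_bot_iff_card _).2 hm

lemma dk_le_of_quot {p : ℕ} (N : Subgroup G) [N.Normal] (k : ℕ)
    (h : ∀ Q : Subgroup (G ⧸ N), IsPGroup p Q → dk Q k = ⊥) (Q : Subgroup G) (hQ : IsPGroup p Q) :
    dk Q k ≤ N := by
  have h1 := h (Q.map (QuotientGroup.mk' N)) (hQ.map _)
  rw [← map_dk, Subgroup.map_eq_bot_iff, QuotientGroup.ker_mk'] at h1
  exact h1

lemma card_quot_lt [Finite G] (N : Subgroup G) [N.Normal] (hN : N ≠ ⊥) :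
    Nat.card (G ⧸ N) < Nat.card G := by
  have h1 := N.index_mul_card
  have h2 : Nat.card (G ⧸ N) = N.index := rfl
  rw [h2]
  have h3 : 1 < Nat.card N := by
    have h4 : Nat.card N ≠ 1 := fun h => hN ((Subgroup.eq_bot_iff_card _).2 h)
    have h5 : 0 < Nat.card N := Nat.card_pos
    omega
  have h6 : 0 < N.index := Nat.pos_of_ne_zero Subgroup.index_ne_zero_of_finite
  nlinarith

end dk

section count

variable {G : Type u} [Group G] [Finite G]

/-- The number of irreducible characters of degree divisible by `p`. -/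
noncomputable def cnt (p : ℕ) (G : Type u) [Group G] [Finite G] : ℕ :=
  Nat.card {χ : IrrCharacter G // p ∣ charDegree (χ : G → ℂ)}

/-- The inflation on characters of degree divisible by `p`. -/
noncomputable def inflCnt (p : ℕ) (N : Subgroup G) [N.Normal]
    (ψ : {χ : IrrCharacter (G ⧸ N) // p ∣ charDegree (χ : G ⧸ N → ℂ)}) :
    {χ : IrrCharacter G // p ∣ charDegree (χ : G → ℂ)} :=
  ⟨⟨fun g => (ψ.1 : G ⧸ N → ℂ) (g : G ⧸ N),
    isIrrCharacter_comp_surjective ψ.1.2 (QuotientGroup.mk' N) (QuotientGroup.mk'_surjective N)⟩, by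
    have h := ψ.2
    simpa [charDegree] using h⟩

lemma inflCnt_injective (p : ℕ) (N : Subgroup G) [N.Normal] : Function.Injective (inflCnt p N) := by
  intro a b h
  apply Subtype.ext
  apply Subtype.ext
  funext x
  obtain ⟨g, rfl⟩ := QuotientGroup.mk_surjective x
  have h1 := congrArg (fun c : {χ : IrrCharacter G // p ∣ charDegree (χ : G → ℂ)} => (c.1 : G → ℂ) g) h
  exact h1

lemma cnt_quot_le (p : ℕ) (N : Subgroup G) [N.Normal] : cnt p (G ⧸ N) ≤ cnt p G :=
  Nat.card_le_card_of_injective _ (inflCnt_injective p N)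

lemma cnt_quot_lt (p : ℕ) (N : Subgroup G) [N.Normal] (χ : IrrCharacter G)
    (hχ : p ∣ charDegree (χ : G → ℂ)) {n : G} (hn : n ∈ N) (hne : (χ : G → ℂ) n ≠ (χ : G → ℂ) 1) :
    cnt p (G ⧸ N) + 1 ≤ cnt p G := by
  classical
  apply Nat.succ_le_of_lt
  letI : Fintype {χ : IrrCharacter (G ⧸ N) // p ∣ charDegree (χ : G ⧸ N → ℂ)} := Fintype.ofFinite _
  letI : Fintype {χ : IrrCharacter G // p ∣ charDegree (χ : G → ℂ)} := Fintype.ofFinite _
  rw [cnt, cnt, Nat.card_eq_fintype_card, Nat.card_eq_fintype_card]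
  refine Fintype.card_lt_of_injective_of_notMem _ (inflCnt_injective p N) (b := ⟨χ, hχ⟩) ?_
  rintro ⟨ψ, hψ⟩
  apply hne
  have h1 : (inflCnt p N ψ).1 = χ := congrArg Subtype.val hψ
  have h2 : (χ : G → ℂ) = fun g : G => (ψ.1 : G ⧸ N → ℂ) (g : G ⧸ N) := by
    rw [← h1]
    rfl
  rw [h2]
  show (ψ.1 : G ⧸ N → ℂ) (n : G ⧸ N) = (ψ.1 : G ⧸ N → ℂ) ((1 : G) : G ⧸ N)
  rw [(QuotientGroup.eq_one_iff n).2 hn]
  rfl

end count

section const

/-- A constituent of a character inherits the elements with value the degree. -/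
theorem const_of_constituent {K : Type*} [Group K] [Fintype K] {ψ θ : K → ℂ} (hψ : IsCharacter K ψ)
    (hθ : IsIrrCharacter K θ) (hne : classInner ψ θ ≠ 0) {n : K} (hn : ψ n = ψ 1) : θ n = θ 1 := by
  obtain ⟨Ξ, hΞ, rfl⟩ := Cfsg.Agent.Lib.Char.Clifford.exists_char_add hψ hθ hne
  have hθc := isCharacter_of_isIrrCharacter hθ
  obtain ⟨d, hd⟩ := Cfsg.Agent.Lib.Char.Clifford.exists_nat_apply_one hθc
  obtain ⟨e, he⟩ := Cfsg.Agent.Lib.Char.Clifford.exists_nat_apply_one hΞ
  have h1 := Cfsg.Agent.Lib.Char.Values.IsCharacter.norm_le hθc n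
  have h2 := Cfsg.Agent.Lib.Char.Values.IsCharacter.norm_le hΞ n
  simp only [Pi.add_apply] at hn
  rw [hd] at h1 ⊢
  rw [he] at h2
  rw [hd, he] at hn
  simp only [Complex.norm_natCast] at h1 h2
  have h3 := congrArg Complex.re hn
  simp only [Complex.add_re, Complex.natCast_re] at h3
  have h4 : (θ n).re ≤ d := (Complex.re_le_norm _).trans h1
  have h5 : (Ξ n).re ≤ e := (Complex.re_le_norm _).trans h2
  have h6 : (θ n).re = d := by linarith
  have h7 : (θ n).im = 0 := by
    have h8 : ‖θ n‖ ^ 2 = (θ n).re ^ 2 + (θ n).im ^ 2 := by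
      rw [Complex.sq_norm, Complex.normSq_apply]
      ring
    have h9 : ‖θ n‖ ^ 2 ≤ (d : ℝ) ^ 2 := by
      have := norm_nonneg (θ n)
      nlinarith
    rw [h8, h6] at h9
    nlinarith [sq_nonneg (θ n).im]
  apply Complex.ext
  · simpa using h6
  · simpa using h7

end const

lemma cover {K : Type*} [Group K] [Finite K] (U : Subgroup K) (h : ∀ x : K, ∃ c ∈ U, IsConj c x) :
    U = ⊤ := by
  classical
  cases nonempty_fintype K
  letI : Fintype (K ⧸ U) := Fintype.ofFinite _
  letI : ∀ g : K, Fintype (MulAction.fixedBy (K ⧸ U) g) := fun g => Fintype.ofFinite _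
  letI : Fintype (MulAction.orbitRel.Quotient K (K ⧸ U)) := Fintype.ofFinite _
  have hb := MulAction.sum_card_fixedBy_eq_card_orbits_mul_card_group K (K ⧸ U)
  have h1 : Fintype.card (MulAction.orbitRel.Quotient K (K ⧸ U)) = 1 := by
    rw [Fintype.card_eq_one_iff]
    refine ⟨Quotient.mk'' (QuotientGroup.mk 1), fun y => ?_⟩
    have : Subsingleton (MulAction.orbitRel.Quotient K (K ⧸ U)) :=
      (MulAction.pretransitive_iff_subsingleton_quotient K (K ⧸ U)).1 inferInstance
    exact Subsingleton.elim _ _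
  rw [h1, one_mul] at hb
  have h2 : ∀ g : K, 1 ≤ Fintype.card (MulAction.fixedBy (K ⧸ U) g) := by
    intro g
    obtain ⟨c, hc, hg⟩ := h g
    obtain ⟨k, rfl⟩ := isConj_iff.1 hg
    have : (QuotientGroup.mk k : K ⧸ U) ∈ MulAction.fixedBy (K ⧸ U) (k * c * k⁻¹) := by
      rw [MulAction.mem_fixedBy]
      show QuotientGroup.mk ((k * c * k⁻¹) * k) = QuotientGroup.mk k
      rw [QuotientGroup.eq]
      simpa [mul_assoc] using U.inv_mem hc
    exact Fintype.card_pos_iff.2 ⟨⟨_, this⟩⟩
  have h3 : Fintype.card (MulAction.fixedBy (K ⧸ U) (1 : K)) = Fintype.card (K ⧸ U) := by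
    have : ∀ c : K ⧸ U, c ∈ MulAction.fixedBy (K ⧸ U) (1 : K) := fun c => by
      rw [MulAction.mem_fixedBy, one_smul]
    exact Fintype.card_congr (Equiv.subtypeUnivEquiv this)
  have h4 := Finset.add_sum_erase Finset.univ
    (fun g : K => Fintype.card (MulAction.fixedBy (K ⧸ U) g)) (Finset.mem_univ (1 : K))
  have h5 : (Finset.univ.erase (1 : K)).card • 1 ≤
      ∑ g ∈ Finset.univ.erase (1 : K), Fintype.card (MulAction.fixedBy (K ⧸ U) g) :=
    Finset.card_nsmul_le_sum _ _ _ (fun g _ => h2 g)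
  rw [Finset.card_erase_of_mem (Finset.mem_univ _), Finset.card_univ] at h5
  have h6 : Fintype.card (K ⧸ U) ≤ 1 := by
    have hpos : 0 < Fintype.card K := Fintype.card_pos
    simp only [smul_eq_mul, mul_one] at h5
    omega
  have h7 : U.index = 1 := by
    have h8 : U.index = Fintype.card (K ⧸ U) := by
      rw [Subgroup.index, Nat.card_eq_fintype_card]
    have h9 : 0 < U.index := Nat.pos_of_ne_zero (Subgroup.index_ne_zero_of_finite)
    omega
  exact Subgroup.index_eq_one.1 h7

lemma fixed_in_class {K : Type*} [Group K] [Finite K] {p n : ℕ} [hp : Fact p.Prime]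
    (hK : ¬ p ∣ Nat.card K) (α : MulAut K) (hα : α ^ p ^ n = 1) (hc : ∀ c : K, IsConj (α c) c)
    (x : K) : ∃ c : K, IsConj c x ∧ α c = c := by
  classical
  cases nonempty_fintype K
  let C := {c : K // IsConj c x}
  letI : Fintype C := Fintype.ofFinite _
  let f : Function.End C := fun c => ⟨α c.1, (hc c.1).trans c.2⟩
  have hpow : ∀ (k : ℕ) (c : C), (((f ^ k) c : C) : K) = (α ^ k) c.1 := by
    intro k
    induction k with
    | zero => intro c; rfl
    | succ k ih =>
      intro c
      rw [pow_succ, pow_succ]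
      show (((f ^ k) (f c) : C) : K) = _
      rw [ih]
      rfl
  have hf : f ^ p ^ n = 1 := by
    funext c
    apply Subtype.ext
    rw [hpow, hα]
    rfl
  have hmod := Equiv.Perm.card_fixedPoints_modEq hf
  have hcard : Fintype.card C ∣ Fintype.card K := by
    have h1 : Fintype.card C = Fintype.card (MulAction.orbit (ConjAct K) x) := by
      apply Fintype.card_congr
      refine Equiv.subtypeEquivRight (fun c => ?_)
      rw [ConjAct.orbit_eq_carrier_conjClasses, ConjClasses.mem_carrier_iff_mk_eq,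
        ConjClasses.mk_eq_mk_iff_isConj]
    have h2 := MulAction.card_orbit_mul_card_stabilizer_eq_card_group (ConjAct K) x
    rw [h1]
    rw [show Fintype.card K = Fintype.card (ConjAct K) from rfl, ← h2]
    exact Dvd.intro _ rfl
  have hnd : ¬ p ∣ Fintype.card C := by
    intro hd
    apply hK
    rw [Nat.card_eq_fintype_card]
    exact hd.trans hcard
  have hne : 0 < Fintype.card f.fixedPoints := by
    by_contra h0
    have h1 : Fintype.card f.fixedPoints = 0 := by omega
    rw [h1] at hmod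
    exact hnd (Nat.modEq_zero_iff_dvd.1 hmod)
  obtain ⟨⟨c, hc'⟩⟩ := Fintype.card_pos_iff.1 hne
  refine ⟨c.1, c.2, ?_⟩
  exact congrArg Subtype.val hc'

/-- A normal `p`-subgroup lies in each subgroup of index prime to `p`. -/
lemma normal_le_of_index {H : Type*} [Group H] [Finite H] {p : ℕ} [hp : Fact p.Prime]
    (U T : Subgroup H) [hU : U.Normal] (hUp : IsPGroup p U) (hT : ¬ p ∣ T.index) : U ≤ T := by
  obtain ⟨c, hc⟩ := hUp.nonempty_fixed_point_of_prime_not_dvd_card (H ⧸ T) hT
  obtain ⟨g, rfl⟩ := QuotientGroup.mk_surjective c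
  intro u hu
  have h1 := hc ⟨g * u * g⁻¹, hU.conj_mem u hu g⟩
  have h2 : QuotientGroup.mk ((g * u * g⁻¹) * g) = (QuotientGroup.mk g : H ⧸ T) := h1
  rw [QuotientGroup.eq] at h2
  have h3 : ((g * u * g⁻¹) * g)⁻¹ * g = u⁻¹ := by group
  rw [h3] at h2
  simpa using h2

section key

variable {p : ℕ} [hp : Fact p.Prime] {G : Type u} [Group G] [Finite G]

/-- The elements of `O_{p',p}(G)` act trivially on the irreducible characters of `O_{p'}(G)` when
every character not containing `O_{p'}(G)` in its kernel has degree prime to `p`. -/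
lemma fix_irr [Fintype G] (K : Subgroup G) [hK : K.Normal] [Fintype K]
    (hcon : ∀ χ : IrrCharacter G, p ∣ charDegree (χ : G → ℂ) → ∀ k ∈ K, (χ : G → ℂ) k = (χ : G → ℂ) 1)
    (θ : IrrCharacter K) (x : G) (hx : (x : G ⧸ K) ∈ pCore p (G ⧸ K)) (n : K) :
    (θ : K → ℂ) ⟨x * n * x⁻¹, hK.conj_mem n n.2 x⟩ = (θ : K → ℂ) n := by
  classical
  by_cases hθ : ∀ k : K, (θ : K → ℂ) k = (θ : K → ℂ) 1
  · rw [hθ, hθ n]
  obtain ⟨χ, hχ, hne⟩ := Cfsg.Agent.Lib.Char.ItoMichler.exists_irr_over K θ.2
  have hres : IsCharacter K (fun n : K => χ n) :=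
    isCharacter_comp_hom (isCharacter_of_isIrrCharacter hχ) K.subtype
  have hnd : ¬ p ∣ charDegree χ := by
    intro hd
    apply hθ
    intro k
    exact const_of_constituent hres θ.2 hne (hcon ⟨χ, hχ⟩ hd k k.2)
  have hT := Cfsg.Agent.Lib.Char.Monomial.mem_inertiaOf K (θ : K → ℂ)
  set T := Cfsg.Agent.Lib.Char.Monomial.inertiaOf K (θ : K → ℂ) with hTdef
  have hone := Cfsg.Agent.Lib.Char.CliffordCorr.apply_one_eq K (θ : K → ℂ) T θ.2 hT hχ hne
  obtain ⟨m, hm⟩ := exists_nat_classInner hres θ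
  obtain ⟨d, hd, -, -⟩ := Cfsg.Agent.Lib.Char.GlaubOver.exists_degree_dvd θ.2
  have hcast := Cfsg.Agent.Lib.Char.Values.IsCharacter.charDegree_cast
    (isCharacter_of_isIrrCharacter hχ)
  have heq : charDegree χ = m * (T.index * d) := by
    have : ((charDegree χ : ℕ) : ℂ) = ((m * (T.index * d) : ℕ) : ℂ) := by
      rw [hcast, hone, hm, hd]
      push_cast
      ring
    exact_mod_cast this
  have hKT : K ≤ T := by
    intro k hk
    rw [hT]
    intro n
    exact isClassFunction_of_isCharacter (isCharacter_of_isIrrCharacter θ.2) n ⟨k, hk⟩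
  have hidx : ¬ p ∣ T.index := by
    intro h
    apply hnd
    rw [heq]
    exact Dvd.dvd.mul_left (Dvd.dvd.mul_right h d) m
  have hmap : (T.map (QuotientGroup.mk' K)).index = T.index :=
    Subgroup.index_map_eq _ (QuotientGroup.mk'_surjective K) (by rw [QuotientGroup.ker_mk']; exact hKT)
  have hle := normal_le_of_index (pCore p (G ⧸ K)) (T.map (QuotientGroup.mk' K))
    (Cfsg.Agent.Lib.Basic.PCore.pCore_isPGroup p) (by rw [hmap]; exact hidx)
  obtain ⟨t, ht, hty⟩ := hle hx
  have h1 : t⁻¹ * x ∈ K := by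
    rw [← QuotientGroup.eq]
    exact hty
  have h2 : x ∈ T := by
    have := T.mul_mem ht (hKT h1)
    simpa using this
  exact (hT x).1 h2 n

/-- The main lemma: a group with trivial `p`-core and nontrivial `G / O_{p'}(G)` has a character of
degree divisible by `p` not containing `O_{p'}(G)` in its kernel. -/
theorem key (hG : IsPSolvable p G) (hO : pCore p G = ⊥) (hK : pPrimeCore p G ≠ ⊤) :
    ∃ χ : IrrCharacter G, p ∣ charDegree (χ : G → ℂ) ∧
      ∃ k ∈ pPrimeCore p G, (χ : G → ℂ) k ≠ (χ : G → ℂ) 1 := by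
  classical
  cases nonempty_fintype G
  by_contra hcon
  push Not at hcon
  have hcop := pPrimeCore_coprime (G := G) p
  set K := pPrimeCore p G with hKdef
  haveI hKn : K.Normal := pPrimeCore_normal p G
  letI : Fintype K := Fintype.ofFinite _
  have hfix := fix_irr (p := p) K hcon
  -- a `p`-element outside `K`
  haveI hnt : Nontrivial (G ⧸ K) := by
    rw [← not_subsingleton_iff_nontrivial]
    intro h
    exact hK (QuotientGroup.subgroup_eq_top_of_subsingleton K h)
  have hcore : pCore p (G ⧸ K) ≠ ⊥ := by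
    rcases isPSolvable_core_ne_bot (isPSolvable_quotient hG K) with h | h
    · exact h
    · exact absurd (pPrimeCore_quotient p) h
  obtain ⟨ubar, hub, hune⟩ : ∃ u ∈ pCore p (G ⧸ K), u ≠ 1 := by
    by_contra h
    push Not at h
    exact hcore ((Subgroup.eq_bot_iff_forall _).2 h)
  obtain ⟨u, rfl⟩ := QuotientGroup.mk_surjective ubar
  have hordne : orderOf u ≠ 0 := (orderOf_pos u).ne'
  obtain ⟨a, m, hm, ham⟩ := Nat.exists_eq_pow_mul_and_not_dvd hordne p hp.out.ne_one
  set y := u ^ m with hy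
  have hy1 : y ^ p ^ a = 1 := by
    rw [hy, ← pow_mul, mul_comm, ← ham, pow_orderOf_eq_one]
  obtain ⟨b, -, hb⟩ := (Nat.dvd_prime_pow hp.out).1 (orderOf_dvd_of_pow_eq_one hy1)
  have hyL : (y : G ⧸ K) ∈ pCore p (G ⧸ K) := by
    rw [hy, QuotientGroup.mk_pow]
    exact pow_mem hub m
  have hyne : (y : G ⧸ K) ≠ 1 := by
    intro h0
    rw [hy, QuotientGroup.mk_pow] at h0
    obtain ⟨k, hk⟩ := (pCore_isPGroup p (G := G ⧸ K)) ⟨(u : G ⧸ K), hub⟩
    have h1 : (u : G ⧸ K) ^ p ^ k = 1 := congrArg Subtype.val hk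
    have h2 := orderOf_dvd_of_pow_eq_one h0
    have h3 := orderOf_dvd_of_pow_eq_one h1
    have h4 : m.Coprime (p ^ k) :=
      ((Nat.Prime.coprime_iff_not_dvd hp.out).2 hm).symm.pow_right k
    have h5 : orderOf (u : G ⧸ K) = 1 := Nat.eq_one_of_dvd_coprimes h4 h2 h3
    exact hune (orderOf_eq_one_iff.1 h5)
  let α : MulAut K := MulAut.conjNormal y
  have hα : α ^ p ^ b = 1 := by
    show (MulAut.conjNormal y) ^ p ^ b = 1
    rw [← map_pow, ← hb, pow_orderOf_eq_one, map_one]
  have hαc : ∀ c : K, ((α c : K) : G) = y * c * y⁻¹ := fun c => MulAut.conjNormal_apply y c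
  have hconj : ∀ c : K, IsConj (α c) c := by
    intro c
    apply Cfsg.Agent.Lib.Char.CompleteCor.isConj_of_forall_irr
    intro θ
    have h1 : α c = ⟨y * c * y⁻¹, hKn.conj_mem c c.2 y⟩ := Subtype.ext (hαc c)
    rw [h1]
    exact hfix θ y hyL c
  have hpK : ¬ p ∣ Nat.card K := by
    intro h
    have h1 := Nat.Coprime.eq_one_of_dvd (hcop.symm) h
    exact hp.out.ne_one h1
  let U : Subgroup K :=
    { carrier := {c | α c = c}
      mul_mem' := fun {a b} ha hb => by
        show α (a * b) = a * b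
        rw [map_mul, ha, hb]
      one_mem' := map_one α
      inv_mem' := fun {a} ha => by
        show α a⁻¹ = a⁻¹
        rw [map_inv, ha] }
  have hU : U = ⊤ := cover U (fun x => by
    obtain ⟨c, hc, hαc'⟩ := fixed_in_class hpK α hα hconj x
    exact ⟨c, hαc', hc⟩)
  have hyC : y ∈ Subgroup.centralizer (K : Set G) := by
    rw [Subgroup.mem_centralizer_iff]
    intro c hc
    have h1 : (⟨c, hc⟩ : K) ∈ U := by
      rw [hU]
      trivial
    have h2 : ((α ⟨c, hc⟩ : K) : G) = c := congrArg Subtype.val h1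
    rw [hαc] at h2
    have h3 : y * c = c * y := by
      rw [mul_inv_eq_iff_eq_mul] at h2
      exact h2
    exact h3.symm
  haveI hcn : (pCore p (G ⧸ K)).Normal := pCore_normal p _
  let W : Subgroup G := (pCore p (G ⧸ K)).comap (QuotientGroup.mk' K) ⊓ Subgroup.centralizer (K : Set G)
  haveI hCn : (Subgroup.centralizer (K : Set G)).Normal := Subgroup.normal_centralizer
  haveI hWn : W.Normal := Subgroup.normal_inf_normal _ _
  have hnil : Group.IsNilpotent W := by
    haveI : Group.IsNilpotent (pCore p (G ⧸ K)) := (pCore_isPGroup p).isNilpotent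
    let f : W →* pCore p (G ⧸ K) :=
      ((QuotientGroup.mk' K).comp W.subtype).codRestrict _ (fun w => w.2.1)
    refine Subgroup.isNilpotent_of_ker_le_center f ?_
    intro w hw
    rw [Subgroup.mem_center_iff]
    intro v
    have h1 : (w : G) ∈ K := by
      have h0 : f w = 1 := hw
      have h2 := congrArg Subtype.val h0
      exact (QuotientGroup.eq_one_iff _).1 h2
    apply Subtype.ext
    exact (Subgroup.mem_centralizer_iff.1 v.2.2 w h1).symm
  have h1 := Cfsg.Agent.Lib.Basic.PCore.mem_pCore_of_normal_nilpotent hWn hnil (x := y)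
    ⟨hyL, hyC⟩ hp.out hb
  rw [hO, Subgroup.mem_bot] at h1
  apply hyne
  rw [h1]
  rfl

/-- A nonabelian normal `p`-subgroup contains an abelian normal subgroup inside its derived subgroup. -/
lemma exists_abelian_normal (O : Subgroup G) [hO : O.Normal] (hOp : IsPGroup p O) (hab : ⁅O, O⁆ ≠ ⊥) :
    ∃ N : Subgroup G, N.Normal ∧ N ≠ ⊥ ∧ ⁅N, N⁆ = ⊥ ∧ N ≤ ⁅O, O⁆ := by
  classical
  have hex : ∃ k, dk O k = ⊥ := by
    haveI : Group.IsNilpotent O := hOp.isNilpotent
    obtain ⟨n, hn⟩ := Group.IsSolvable.solvable (G := O)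
    refine ⟨n, ?_⟩
    rw [← map_derivedSeries, hn]
    simp
  have hd : dk O (Nat.find hex) = ⊥ := Nat.find_spec hex
  have hd1 : 2 ≤ Nat.find hex := by
    by_contra hlt
    have h1 : Nat.find hex ≤ 1 := by omega
    have h2 := (dk_anti O h1).trans hd.le
    exact hab (le_bot_iff.1 h2)
  obtain ⟨e, he⟩ : ∃ e, Nat.find hex = e + 2 := ⟨Nat.find hex - 2, by omega⟩
  refine ⟨dk O (e + 1), dk_normal O _, ?_, ?_, dk_anti O (by omega : 1 ≤ e + 1)⟩
  · exact Nat.find_min hex (by omega : e + 1 < Nat.find hex)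
  · show dk O (e + 2) = ⊥
    rw [← he]
    exact hd

/-- A nontrivial subgroup of the derived subgroup of a normal `p`-subgroup is moved by an irreducible
character of degree divisible by `p`. -/
theorem exists_char (O N : Subgroup G) [hO : O.Normal] (hOp : IsPGroup p O) (hNO : N ≤ ⁅O, O⁆)
    (hN : N ≠ ⊥) : ∃ χ : IrrCharacter G, p ∣ charDegree (χ : G → ℂ) ∧
      ∃ z ∈ N, (χ : G → ℂ) z ≠ (χ : G → ℂ) 1 := by
  classical
  cases nonempty_fintype G
  letI : Fintype O := Fintype.ofFinite _
  obtain ⟨z, hz, hzne⟩ : ∃ z ∈ N, z ≠ 1 := by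
    by_contra h
    push Not at h
    exact hN ((Subgroup.eq_bot_iff_forall _).2 h)
  have hzO : z ∈ O := dk_succ_le O 0 (hNO hz)
  let z₀ : O := ⟨z, hzO⟩
  obtain ⟨θ, hθ⟩ : ∃ θ : IrrCharacter O, (θ : O → ℂ) z₀ ≠ (θ : O → ℂ) 1 := by
    by_contra h
    push Not at h
    have h1 := Cfsg.Agent.Lib.Char.CompleteCor.isConj_of_forall_irr h
    have h1' := isConj_one_right.1 h1.symm
    exact hzne (congrArg Subtype.val h1')
  have hlin : (θ : O → ℂ) 1 ≠ 1 := by
    intro h1
    obtain ⟨φ, hφ⟩ := Cfsg.Agent.Lib.Char.LinearChars.exists_hom_of_isCharacter_one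
      (isCharacter_of_isIrrCharacter θ.2) h1
    have hzc : z₀ ∈ commutator O := by
      have h2 := hNO hz
      rw [← Subgroup.map_subtype_commutator] at h2
      obtain ⟨c, hc, hcz⟩ := h2
      have h3 : c = z₀ := Subtype.ext hcz
      rw [← h3]
      exact hc
    have hcom : commutator O ≤ φ.ker := by
      rw [commutator_def, Subgroup.commutator_le]
      intro a _ b _
      rw [MonoidHom.mem_ker, map_commutatorElement]
      exact commutatorElement_eq_one_iff_commute.2 (Commute.all _ _)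
    have h4 : φ z₀ = 1 := hcom hzc
    apply hθ
    rw [hφ]
    simp [h4]
  obtain ⟨d, hd, hd0, hddvd⟩ := Cfsg.Agent.Lib.Char.GlaubOver.exists_degree_dvd θ.2
  obtain ⟨k, hk⟩ := IsPGroup.iff_card.1 hOp
  have h1 := Cfsg.Agent.Lib.Char.Values.IsCharacter.charDegree_cast
    (isCharacter_of_isIrrCharacter θ.2)
  have hcd : charDegree (θ : O → ℂ) = d := by
    have : ((charDegree (θ : O → ℂ) : ℕ) : ℂ) = (d : ℂ) := by rw [h1, hd]
    exact_mod_cast this
  have hpd : p ∣ charDegree (θ : O → ℂ) := by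
    rw [hcd]
    rw [hk] at hddvd
    obtain ⟨j, -, rfl⟩ := (Nat.dvd_prime_pow hp.out).1 hddvd
    cases j with
    | zero =>
      exfalso
      apply hlin
      rw [hd]
      simp
    | succ j => exact Dvd.intro_left _ (pow_succ p j).symm
  obtain ⟨χ, hχ, hne⟩ := Cfsg.Agent.Lib.Char.ItoMichler.exists_irr_over O θ.2
  obtain ⟨e, he, -⟩ := Cfsg.Agent.Lib.Char.DegreeDvd.exists_degree_ratio O hχ θ.2 hne
  have h2 : Cfsg.charDegree χ = e * Cfsg.charDegree (θ : O → ℂ) := by
    apply Cfsg.Agent.Lib.Char.Values.IsCharacter.charDegree_eq (isCharacter_of_isIrrCharacter hχ)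
    rw [he]
    push_cast
    rw [h1]
  have hres : IsCharacter O (fun n : O => χ n) :=
    isCharacter_comp_hom (isCharacter_of_isIrrCharacter hχ) O.subtype
  refine ⟨⟨χ, hχ⟩, ?_, z, hz, ?_⟩
  · show p ∣ charDegree χ
    rw [h2]
    exact Dvd.dvd.mul_left hpd e
  · intro h
    apply hθ
    exact const_of_constituent hres θ.2 hne (n := z₀) h

end key

theorem main (m : ℕ) : ∀ (G : Type u) [Group G] [Finite G], Nat.card G = m → ∀ (p : ℕ) [Fact p.Prime],
    IsPSolvable p G →
    (∀ Q : Subgroup G, IsPGroup p Q → dk Q (cnt p G + 1) = ⊥) ∧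
    (pCore p G = ⊥ → ∀ Q : Subgroup G, IsPGroup p Q → dk Q (cnt p G) = ⊥) := by
  induction m using Nat.strong_induction_on with
  | _ m ih =>
    intro G _ _ hm p hp hG
    have IH : ∀ (N : Subgroup G) [N.Normal], N ≠ ⊥ →
       (∀ Q : Subgroup (G ⧸ N), IsPGroup p Q → dk Q (cnt p (G ⧸ N) + 1) = ⊥) ∧
       (pCore p (G ⧸ N) = ⊥ → ∀ Q : Subgroup (G ⧸ N), IsPGroup p Q → dk Q (cnt p (G ⧸ N)) = ⊥) := by
      intro N _ hN
      exact ih _ (hm ▸ card_quot_lt N hN) (G ⧸ N) rfl p (isPSolvable_quotient hG N)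
    have hKcop := pPrimeCore_coprime (G := G) p
    haveI hKn : (pPrimeCore p G).Normal := pPrimeCore_normal p G
    haveI hOn : (pCore p G).Normal := pCore_normal p G
    refine ⟨?_, ?_⟩
    · intro Q hQ
      by_cases hK : pPrimeCore p G = ⊥
      · by_cases hab : ⁅pCore p G, pCore p G⁆ = ⊥
        · by_cases hO : pCore p G = ⊥
          · have hs : Subsingleton G := by
              by_contra h
              haveI := not_subsingleton_iff_nontrivial.1 h
              rcases isPSolvable_core_ne_bot hG with h1 | h1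
              · exact h1 hO
              · exact h1 hK
            have hQb : Q = ⊥ := by
              rw [eq_bot_iff]
              intro x _
              rw [Subgroup.mem_bot]
              exact Subsingleton.elim _ _
            rw [hQb]
            exact dk_bot _
          · have h1 := (IH (pCore p G) hO).2 pCore_quotient_eq_bot
            have h2 := dk_le_of_quot (pCore p G) _ h1 Q hQ
            have h3 : dk Q (cnt p (G ⧸ pCore p G) + 1) = ⊥ := by
              apply le_bot_iff.1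
              rw [← hab]
              exact Subgroup.commutator_mono h2 h2
            have h4 := cnt_quot_le p (pCore p G)
            exact le_bot_iff.1 ((dk_anti Q (by omega)).trans h3.le)
        · obtain ⟨N, hNn, hNne, hNab, hNO⟩ := exists_abelian_normal (pCore p G) (pCore_isPGroup p) hab
          obtain ⟨χ, hχ, z, hz, hne⟩ := exists_char (pCore p G) N (pCore_isPGroup p) hNO hNne
          have hlt := cnt_quot_lt p N χ hχ hz hne
          have h1 := (IH N hNne).1
          have h2 := dk_le_of_quot N _ h1 Q hQ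
          have h3 : dk Q (cnt p (G ⧸ N) + 1 + 1) = ⊥ := by
            apply le_bot_iff.1
            rw [← hNab]
            exact Subgroup.commutator_mono h2 h2
          exact le_bot_iff.1 ((dk_anti Q (by omega)).trans h3.le)
      · have h1 := (IH (pPrimeCore p G) hK).1
        have h2 := dk_le_of_quot (pPrimeCore p G) _ h1 Q hQ
        have h3 := dk_eq_bot_of_le_coprime hQ hKcop h2
        have h4 := cnt_quot_le p (pPrimeCore p G)
        exact le_bot_iff.1 ((dk_anti Q (by omega)).trans h3.le)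
    · intro hO Q hQ
      by_cases hK : pPrimeCore p G = ⊤
      · exact dk_eq_bot_of_le_coprime hQ hKcop (by rw [hK]; exact le_top)
      · obtain ⟨χ, hχ, k, hk, hne⟩ := key hG hO hK
        have hK0 : pPrimeCore p G ≠ ⊥ := by
          intro h
          rw [h, Subgroup.mem_bot] at hk
          rw [hk] at hne
          exact hne rfl
        have hlt := cnt_quot_lt p (pPrimeCore p G) χ hχ hk hne
        have h1 := (IH (pPrimeCore p G) hK0).1
        have h2 := dk_le_of_quot (pPrimeCore p G) _ h1 Q hQ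
        have h3 := dk_eq_bot_of_le_coprime hQ hKcop h2
        exact le_bot_iff.1 ((dk_anti Q hlt).trans h3.le)

/-- Let p be a prime, G a finite p-solvable group and P a Sylow p-subgroup of G. If n is the number of irreducible complex characters of G whose degree is divisible by p, then the (n+1)-st term of the derived series of P is trivial. (The p-solvable case has a direct inductive proof.) -/
theorem result {G : Type*} [Group G] [Finite G] (p : ℕ) [Fact p.Prime] (hG : Cfsg.IsPSolvable p G) (P : Sylow p G) : derivedSeries ↥(P : Subgroup G) (Nat.card {χ : Cfsg.IrrCharacter G // p ∣ Cfsg.charDegree (χ : G → ℂ)} + 1) = ⊥ := by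
  have h := (main _ G rfl p hG).1 P P.isPGroup'
  rw [cnt] at h
  rw [← map_derivedSeries, Subgroup.map_eq_bot_iff_of_injective _ (Subgroup.subtype_injective _)] at h
  exact h

end Cfsg.Agent.S4768
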