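import Cfsg.Statements.S4184
import Mathlib
import Cfsg.Agent.S4768
import Cfsg.Agent.Lib.PGroup.Basic

set_option autoImplicit false
set_option linter.style.haveILetI false
set_option linter.unusedSectionVars false
set_option linter.unusedVariables false
open Cfsg

namespace Cfsg.Agent.S4184

open Subgroup

/-- All prime divisors lie in `A`. -/
abbrev PA (A : Set ℕ) (n : ℕ) : Prop := ∀ r : ℕ, r.Prime → r ∣ n → r ∈ A
/-- All prime divisors lie outside `A`. -/
abbrev PB (A : Set ℕ) (n : ℕ) : Prop := ∀ r : ℕ, r.Prime → r ∣ n → r ∉ A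

lemma exists_order_mul {M : Type*} [Group M] [Finite M] {w v : M} (hc : Commute w v) {a b : ℕ}
    (ha : a.Prime) (hb : b.Prime) (hab : a ≠ b) (haw : a ∣ orderOf w) (hbv : orderOf v = b) :
    ∃ x : M, orderOf x = a * b := by
  have hw0 : orderOf w ≠ 0 := (orderOf_pos w).ne'
  have h1 : orderOf (w ^ (orderOf w / a)) = a := orderOf_pow_orderOf_div hw0 haw
  have hc' : Commute (w ^ (orderOf w / a)) v := hc.pow_left _
  refine ⟨w ^ (orderOf w / a) * v, ?_⟩
  rw [hc'.orderOf_mul_eq_mul_orderOf_of_coprime (by rw [h1, hbv]; exact (Nat.coprime_primes ha hb).2 hab), h1, hbv]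

lemma mem_commute {G : Type*} [Group G] {u z y : G} (hc : Commute u z) {a b : ℕ}
    (hu : u ^ a = 1) (hz : z ^ b = 1) (hcop : a.Coprime b) (hy : Commute y (u * z)) :
    Commute y u := by
  have hk : ∃ n : ℕ, n % a = 1 % a ∧ n % b = 0 % b := by
    refine ⟨Nat.chineseRemainder hcop 1 0, ?_, ?_⟩
    · exact (Nat.chineseRemainder hcop 1 0).2.1
    · exact (Nat.chineseRemainder hcop 1 0).2.2
  obtain ⟨n, h1, h2⟩ := hk
  have h3 : (u * z) ^ n = u := by
    rw [hc.mul_pow]
    have h4 : u ^ n = u := by
      rw [pow_eq_pow_mod n hu, h1, ← pow_eq_pow_mod 1 hu, pow_one]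
    have h5 : z ^ n = 1 := by
      rw [pow_eq_pow_mod n hz, h2, ← pow_eq_pow_mod 0 hz, pow_zero]
    rw [h4, h5, mul_one]
  have := hy.pow_right n
  rwa [h3] at this

lemma card_centralizer_mul {G : Type*} [Group G] [Finite G] (g : G) :
    Nat.card (centralizer ({g} : Set G)) * (centralizer ({g} : Set G)).index = Nat.card G :=
  Subgroup.card_mul_index _

theorem core {G : Type*} [Group G] [Finite G] (A : Set ℕ) (t m : ℕ) (hcard : Nat.card G = t * m)
    (hm : 0 < m) (ht : 0 < t)
    (H1 : ∀ g : G, g ≠ 1 → ∃ e, Nat.card (centralizer ({g} : Set G)) = t * e ∧ (PA A e ∨ PB A e))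
    (H2 : ∀ g : G, t ∣ Nat.card (centralizer ({g} : Set G)))
    (H3 : ∀ g : G, Nat.card (centralizer ({g} : Set G)) ≠ t)
    (p q : ℕ) (hp : p.Prime) (hq : q.Prime) (hpA : p ∈ A) (hqA : q ∉ A) (hpt : p ∣ t)
    (hpm : p ∣ m) (hqm : q ∣ m) : False := by
  classical
  haveI := Fact.mk hp
  haveI := Fact.mk hq
  have hG0 : Nat.card G ≠ 0 := Nat.card_pos.ne'
  have hpq : p ≠ q := fun h => hqA (h ▸ hpA)
  have hfac : ∀ r : ℕ, (Nat.card G).factorization r = t.factorization r + m.factorization r := by
    intro r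
    rw [hcard, Nat.factorization_mul ht.ne' hm.ne']
    rfl
  -- the element z
  let Q : Sylow q G := Classical.arbitrary _
  have hQcard : Nat.card Q = q ^ (Nat.card G).factorization q := Q.card_eq_multiplicity
  have hvq : 0 < m.factorization q := hq.factorization_pos_of_dvd hm.ne' hqm
  have hQnt : Nontrivial Q := by
    rw [← Finite.one_lt_card_iff_nontrivial, hQcard]
    exact Nat.one_lt_pow (by rw [hfac]; omega) hq.one_lt
  have hQc := Q.isPGroup'.center_nontrivial
  obtain ⟨z, hz⟩ := exists_ne (1 : center (Q : Subgroup G))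
  set z' : G := ((z : Q) : G) with hz'
  have hz'ne : z' ≠ 1 := by
    intro h
    apply hz
    exact Subtype.ext (Subtype.ext h)
  have hQC : (Q : Subgroup G) ≤ centralizer ({z'} : Set G) := by
    intro y hy
    rw [mem_centralizer_singleton_iff]
    have := (mem_center_iff.1 z.2) ⟨y, hy⟩
    exact congrArg Subtype.val this
  obtain ⟨e, he, hetype⟩ := H1 z' hz'ne
  have hzB : PB A e := by
    rcases hetype with h | h
    · exfalso
      have hqe : ¬ q ∣ e := fun hd => hqA (h q hq hd)
      have h1 : Nat.card Q ∣ t * e := by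
        rw [← he]
        exact Subgroup.card_dvd_of_le hQC
      have h2 : (q ^ (Nat.card G).factorization q).Coprime e :=
        Nat.Coprime.pow_left _ ((Nat.Prime.coprime_iff_not_dvd hq).2 hqe)
      rw [hQcard] at h1
      have h3 := h2.dvd_of_dvd_mul_right h1
      have h4 := (hq.pow_dvd_iff_le_factorization ht.ne').1 h3
      rw [hfac] at h4
      omega
    · exact h
  have hpe : ¬ p ∣ e := fun hd => hzB p hp hd hpA
  have he0 : e ≠ 0 := by
    rintro rfl
    apply hpe
    exact dvd_zero _
  -- the subgroup D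
  let C := centralizer ({z'} : Set G)
  let D₀ : Sylow p C := Classical.arbitrary _
  let D : Subgroup G := (D₀ : Subgroup C).map C.subtype
  have hDp : IsPGroup p D := D₀.isPGroup'.map C.subtype
  have hDC : D ≤ C := by
    rintro _ ⟨y, _, rfl⟩
    exact y.2
  have hvpe : e.factorization p = 0 := Nat.factorization_eq_zero_of_not_dvd hpe
  have hDcard : Nat.card D = p ^ t.factorization p := by
    have h1 : Nat.card D = Nat.card D₀ :=
      (Nat.card_congr (Subgroup.equivMapOfInjective _ _ C.subtype_injective).toEquiv).symm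
    rw [h1, D₀.card_eq_multiplicity, he, Nat.factorization_mul ht.ne' he0]
    simp [hvpe]
  obtain ⟨P, hDP⟩ := hDp.exists_le_sylow
  have hPcard : Nat.card P = p ^ (t.factorization p + m.factorization p) := by
    rw [← hfac]
    exact P.card_eq_multiplicity
  have hvpm : 0 < m.factorization p := hp.factorization_pos_of_dvd hm.ne' hpm
  have hvpt : 0 < t.factorization p := hp.factorization_pos_of_dvd ht.ne' hpt
  have hDltP : D < (P : Subgroup G) := by
    refine lt_of_le_of_ne hDP ?_
    intro h
    have h1 : Nat.card D = Nat.card P := by rw [h]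
    rw [hDcard, hPcard] at h1
    have := Nat.pow_right_injective hp.two_le h1
    omega
  obtain ⟨x, hxP, hxD, hxN⟩ :=
    Cfsg.Agent.Lib.PGroup.Basic.exists_mem_normalizer_of_lt P.isPGroup' hDltP
  -- the group N
  let N : Subgroup G := (P : Subgroup G) ⊓ normalizer (D : Set G)
  have hNp : IsPGroup p N := P.isPGroup'.to_le inf_le_left
  have hDN : D ≤ N := le_inf hDP le_normalizer
  have hxNN : x ∈ N := ⟨hxP, hxN⟩
  have hDnorm : (D.subgroupOf N).Normal := by
    rw [Subgroup.normal_subgroupOf_iff_le_normalizer hDN]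
    exact inf_le_right
  have hDne : D ≠ ⊥ := by
    intro h
    have : Nat.card D = 1 := by rw [h]; exact Nat.card_unique
    rw [hDcard] at this
    have h2 : 1 < p ^ t.factorization p := Nat.one_lt_pow hvpt.ne' hp.one_lt
    omega
  have hD'ne : D.subgroupOf N ≠ ⊥ := by
    intro h
    rw [Subgroup.subgroupOf_eq_bot] at h
    exact hDne (h.eq_bot_of_le hDN)
  have hinf := Cfsg.Agent.Lib.PGroup.Basic.inf_center_ne_bot hNp hD'ne
  obtain ⟨u₀, ⟨hu₀D, hu₀Z⟩, hu₀ne⟩ := (Subgroup.bot_or_exists_ne_one _).resolve_left hinf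
  set u : G := (u₀ : G) with hu
  have huD : u ∈ D := hu₀D
  have hune : u ≠ 1 := fun h => hu₀ne (Subtype.ext h)
  have hNC : N ≤ centralizer ({u} : Set G) := by
    intro y hy
    rw [mem_centralizer_singleton_iff]
    have := (mem_center_iff.1 hu₀Z) ⟨y, hy⟩
    exact congrArg Subtype.val this
  obtain ⟨e', he', he'type⟩ := H1 u hune
  have huA : PA A e' := by
    rcases he'type with h | h
    · exact h
    · exfalso
      have hpe' : ¬ p ∣ e' := fun hd => h p hp hd hpA
      obtain ⟨j, hj⟩ := IsPGroup.iff_card.1 hNp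
      have h1 : Nat.card N ∣ t * e' := by
        rw [← he']
        exact Subgroup.card_dvd_of_le hNC
      rw [hj] at h1
      have h2 : (p ^ j).Coprime e' :=
        Nat.Coprime.pow_left _ ((Nat.Prime.coprime_iff_not_dvd hp).2 hpe')
      have h3 := h2.dvd_of_dvd_mul_right h1
      have h4 := (hp.pow_dvd_iff_le_factorization ht.ne').1 h3
      have h5 : Nat.card N ≤ Nat.card D := by
        rw [hj, hDcard]
        exact Nat.pow_le_pow_right hp.pos h4
      have h6 : D = N := Subgroup.eq_of_le_of_card_ge hDN h5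
      exact hxD (h6 ▸ hxNN)
  have hcomm : Commute u z' := by
    have := hDC huD
    rw [mem_centralizer_singleton_iff] at this
    exact this
  -- orders
  obtain ⟨k, hk⟩ := hDp ⟨u, huD⟩
  have huk : u ^ (p ^ k) = 1 := congrArg Subtype.val hk
  obtain ⟨l, hl⟩ := Q.isPGroup' (z : Q)
  have hzl : z' ^ (q ^ l) = 1 := congrArg Subtype.val hl
  have hcop : (p ^ k).Coprime (q ^ l) := Nat.Coprime.pow _ _ ((Nat.coprime_primes hp hq).2 hpq)
  have hCu : centralizer ({u * z'} : Set G) ≤ centralizer ({u} : Set G) := by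
    intro y hy
    rw [mem_centralizer_singleton_iff] at hy ⊢
    exact mem_commute hcomm huk hzl hcop hy
  have hCz : centralizer ({u * z'} : Set G) ≤ centralizer ({z'} : Set G) := by
    intro y hy
    rw [mem_centralizer_singleton_iff] at hy ⊢
    refine mem_commute hcomm.symm hzl huk hcop.symm ?_
    rw [← hcomm.eq]
    exact hy
  obtain ⟨f, hf⟩ := H2 (u * z')
  have hfu : f ∣ e' := by
    have h1 := Subgroup.card_dvd_of_le hCu
    rw [hf, he'] at h1
    exact Nat.dvd_of_mul_dvd_mul_left ht h1
  have hfz : f ∣ e := by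
    have h1 := Subgroup.card_dvd_of_le hCz
    rw [hf, he] at h1
    exact Nat.dvd_of_mul_dvd_mul_left ht h1
  have hf1 : f = 1 := by
    by_contra hne
    have hr := Nat.minFac_prime hne
    exact hzB _ hr ((Nat.minFac_dvd f).trans hfz) (huA _ hr ((Nat.minFac_dvd f).trans hfu))
  apply H3 (u * z')
  rw [hf, hf1, mul_one]


/-- Let G and M be finite groups with trivial centres and the same set of conjugacy class sizes, and suppose the prime graph of M is disconnected: the prime divisors of #M split into two non-empty parts such that M has no element of order pq with p in one part and q in the other. Then #G = #M. -/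
theorem result {G M : Type*}
    [Group G] [Finite G] [Group M] [Finite M] (hZG : Subgroup.center G = ⊥) (hZM : Subgroup.center M = ⊥)
    (h : Set.range (fun g : G => (Subgroup.centralizer ({g} : Set G)).index) = Set.range (fun g : M => (Subgroup.centralizer ({g} : Set M)).index))
    (hdisc : ∃ A : Set ℕ, (∃ a ∈ A, a.Prime ∧ a ∣ Nat.card M) ∧ (∃ b ∉ A, b.Prime ∧ b ∣ Nat.card M) ∧
      ∀ a ∈ A, ∀ b ∉ A, a.Prime → b.Prime → a ∣ Nat.card M → b ∣ Nat.card M → ¬ ∃ x : M, orderOf x = a * b) :
    Nat.card G = Nat.card M := by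
  classical
  obtain ⟨A, ⟨a, haA, ha, hadvd⟩, ⟨b, hbA, hb, hbdvd⟩, hA⟩ := hdisc
  have hM0 : Nat.card M ≠ 0 := Nat.card_pos.ne'
  have hG0 : 0 < Nat.card G := Nat.card_pos
  -- types on the side of M
  have hmix : ∀ (w v : M) (a b : ℕ), a ∈ A → b ∉ A → a.Prime → b.Prime → Commute w v →
      a ∣ orderOf w → orderOf v = b → False := by
    intro w v a b haA hbA ha hb hc haw hbv
    have hab : a ≠ b := fun h => hbA (h ▸ haA)
    have hbM : b ∣ Nat.card M := hbv ▸ orderOf_dvd_natCard v
    have haM : a ∣ Nat.card M := haw.trans (orderOf_dvd_natCard w)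
    exact hA a haA b hbA ha hb haM hbM (exists_order_mul hc ha hb hab haw hbv)
  have hmix' : ∀ (w v : M) (a b : ℕ), a ∈ A → b ∉ A → a.Prime → b.Prime → Commute w v →
      b ∣ orderOf w → orderOf v = a → False := by
    intro w v a b haA hbA ha hb hc haw hbv
    have hab : a ≠ b := fun h => hbA (h ▸ haA)
    have haM : a ∣ Nat.card M := hbv ▸ orderOf_dvd_natCard v
    have hbM : b ∣ Nat.card M := haw.trans (orderOf_dvd_natCard w)
    obtain ⟨x, hx⟩ := exists_order_mul hc hb ha hab.symm haw hbv
    exact hA a haA b hbA ha hb haM hbM ⟨x, by rw [hx, mul_comm]⟩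
  have hcauchy : ∀ (w : M) (r : ℕ), r.Prime → r ∣ Nat.card (centralizer ({w} : Set M)) →
      ∃ v : M, Commute w v ∧ orderOf v = r := by
    intro w r hr hd
    haveI := Fact.mk hr
    obtain ⟨v, hv⟩ := exists_prime_orderOf_dvd_card' r hd
    refine ⟨v, ?_, by rw [Subgroup.orderOf_coe]; exact hv⟩
    have := v.2
    rw [mem_centralizer_singleton_iff] at this
    exact this.symm
  have htype1 : ∀ (w : M) (r₀ : ℕ), r₀.Prime → r₀ ∣ orderOf w → r₀ ∈ A →
      PA A (Nat.card (centralizer ({w} : Set M))) := by
    intro w r₀ hr₀ hd hin r hr hrd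
    by_contra hnot
    obtain ⟨v, hc, hv⟩ := hcauchy w r hr hrd
    exact hmix w v r₀ r hin hnot hr₀ hr hc hd hv
  have htype2 : ∀ (w : M) (r₀ : ℕ), r₀.Prime → r₀ ∣ orderOf w → r₀ ∉ A →
      PB A (Nat.card (centralizer ({w} : Set M))) := by
    intro w r₀ hr₀ hd hin r hr hrd hrA
    obtain ⟨v, hc, hv⟩ := hcauchy w r hr hrd
    exact hmix' w v r r₀ hrA hin hr hr₀ hc hd hv
  have htype : ∀ w : M, w ≠ 1 → PA A (Nat.card (centralizer ({w} : Set M))) ∨
      PB A (Nat.card (centralizer ({w} : Set M))) := by
    intro w hw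
    have h1 : orderOf w ≠ 1 := fun h => hw (orderOf_eq_one_iff.1 h)
    have hr := Nat.minFac_prime h1
    by_cases hin : (orderOf w).minFac ∈ A
    · exact Or.inl (htype1 w _ hr (Nat.minFac_dvd _) hin)
    · exact Or.inr (htype2 w _ hr (Nat.minFac_dvd _) hin)
  -- class sizes
  have hGM : ∀ g : G, ∃ w : M, (centralizer ({w} : Set M)).index = (centralizer ({g} : Set G)).index := by
    intro g
    have : (centralizer ({g} : Set G)).index ∈ Set.range (fun g : G => (centralizer ({g} : Set G)).index) :=
      ⟨g, rfl⟩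
    rw [h] at this
    exact this
  have hMG : ∀ w : M, ∃ g : G, (centralizer ({g} : Set G)).index = (centralizer ({w} : Set M)).index := by
    intro w
    have : (centralizer ({w} : Set M)).index ∈ Set.range (fun g : M => (centralizer ({g} : Set M)).index) :=
      ⟨w, rfl⟩
    rw [← h] at this
    exact this
  -- |M| divides |G|
  have hdvd : Nat.card M ∣ Nat.card G := by
    rw [Nat.dvd_iff_prime_pow_dvd_dvd]
    intro p k hp hpk
    rcases Nat.eq_zero_or_pos k with rfl | hk
    · simp
    have hpM : p ∣ Nat.card M := (dvd_pow_self p hk.ne').trans hpk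
    -- choose an element of prime order in the other part
    have key : ∃ w : M, ¬ p ∣ Nat.card (centralizer ({w} : Set M)) := by
      by_cases hpA : p ∈ A
      · haveI := Fact.mk hb
        obtain ⟨w, hw⟩ := exists_prime_orderOf_dvd_card' b hbdvd
        exact ⟨w, fun hd => htype2 w b hb (hw ▸ dvd_rfl) hbA p hp hd hpA⟩
      · haveI := Fact.mk ha
        obtain ⟨w, hw⟩ := exists_prime_orderOf_dvd_card' a hadvd
        exact ⟨w, fun hd => hpA (htype1 w a ha (hw ▸ dvd_rfl) haA p hp hd)⟩
    obtain ⟨w, hw⟩ := key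
    have h1 := card_centralizer_mul w
    have h2 : (p ^ k).Coprime (Nat.card (centralizer ({w} : Set M))) :=
      Nat.Coprime.pow_left _ ((Nat.Prime.coprime_iff_not_dvd hp).2 hw)
    rw [← h1] at hpk
    have h3 := h2.dvd_of_dvd_mul_left hpk
    obtain ⟨g, hg⟩ := hMG w
    rw [← hg] at h3
    exact h3.trans (Subgroup.index_dvd_card _)
  obtain ⟨t, ht⟩ := hdvd
  have htpos : 0 < t := by
    rcases Nat.eq_zero_or_pos t with rfl | h0
    · rw [mul_zero] at ht; omega
    · exact h0
  have hcard : Nat.card G = t * Nat.card M := by rw [ht, mul_comm]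
  have hC : ∀ (g : G) (w : M), (centralizer ({w} : Set M)).index = (centralizer ({g} : Set G)).index →
      Nat.card (centralizer ({g} : Set G)) = t * Nat.card (centralizer ({w} : Set M)) := by
    intro g w hw
    have h1 := card_centralizer_mul g
    have h2 := card_centralizer_mul w
    rw [hw] at h2
    have h3 : (centralizer ({g} : Set G)).index ≠ 0 := Subgroup.index_ne_zero_of_finite
    apply Nat.eq_of_mul_eq_mul_right (Nat.pos_of_ne_zero h3)
    rw [h1, hcard, ← h2, mul_assoc]
  have hcentral : ∀ g : G, g ≠ 1 → (centralizer ({g} : Set G)).index ≠ 1 := by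
    intro g hg h1
    apply hg
    have h2 : centralizer ({g} : Set G) = ⊤ := Subgroup.index_eq_one.1 h1
    have h3 : g ∈ center G := by
      rw [mem_center_iff]
      intro y
      have : y ∈ centralizer ({g} : Set G) := h2 ▸ mem_top y
      rw [mem_centralizer_singleton_iff] at this
      exact this
    rw [hZG] at h3
    exact (Subgroup.mem_bot.1 h3)
  have H1 : ∀ g : G, g ≠ 1 → ∃ e, Nat.card (centralizer ({g} : Set G)) = t * e ∧ (PA A e ∨ PB A e) := by
    intro g hg
    obtain ⟨w, hw⟩ := hGM g
    refine ⟨_, hC g w hw, htype w ?_⟩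
    rintro rfl
    apply hcentral g hg
    rw [← hw]
    have : centralizer ({(1 : M)} : Set M) = ⊤ := by
      ext y
      simp [mem_centralizer_singleton_iff]
    rw [this]
    exact Subgroup.index_top
  have H2 : ∀ g : G, t ∣ Nat.card (centralizer ({g} : Set G)) := by
    intro g
    obtain ⟨w, hw⟩ := hGM g
    rw [hC g w hw]
    exact dvd_mul_right _ _
  have hM1 : 1 < Nat.card M := lt_of_lt_of_le ha.one_lt (Nat.le_of_dvd (Nat.pos_of_ne_zero hM0) hadvd)
  have H3 : ∀ g : G, Nat.card (centralizer ({g} : Set G)) ≠ t := by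
    intro g hg
    obtain ⟨w, hw⟩ := hGM g
    rw [hC g w hw] at hg
    have h1 : Nat.card (centralizer ({w} : Set M)) = 1 := by
      apply Nat.eq_of_mul_eq_mul_left htpos
      rw [hg, mul_one]
    have h2 : centralizer ({w} : Set M) = ⊥ := (Subgroup.eq_bot_iff_card _).2 h1
    have h3 : w ∈ centralizer ({w} : Set M) := by
      rw [mem_centralizer_singleton_iff]
    rw [h2] at h3
    have h4 : w = 1 := Subgroup.mem_bot.1 h3
    have h5 : (1 : M) ∈ Set.univ := Set.mem_univ _
    subst h4
    have h6 : centralizer ({(1 : M)} : Set M) = ⊤ := by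
      ext y
      simp [mem_centralizer_singleton_iff]
    rw [h6, Subgroup.card_top] at h1
    omega
  by_contra hne
  have ht1 : t ≠ 1 := by
    rintro rfl
    apply hne
    rw [hcard, one_mul]
  have hpr := Nat.minFac_prime ht1
  set p := t.minFac with hp
  have hpt : p ∣ t := Nat.minFac_dvd t
  have hpG : p ∣ Nat.card G := by rw [hcard]; exact hpt.trans (dvd_mul_right _ _)
  -- p divides |M| by Jordan's lemma
  have hpm : p ∣ Nat.card M := by
    by_contra hpm
    haveI := Fact.mk hpr
    let P : Sylow p G := Classical.arbitrary _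
    have hcov : centralizer ((P : Subgroup G) : Set G) = ⊤ := by
      apply Cfsg.Agent.S4768.cover
      intro x
      obtain ⟨w, hw⟩ := hGM x
      have hcs : ¬ p ∣ (centralizer ({x} : Set G)).index := by
        intro hd
        apply hpm
        rw [← hw] at hd
        exact hd.trans (Subgroup.index_dvd_card _)
      let C := centralizer ({x} : Set G)
      let S₀ : Sylow p C := Classical.arbitrary _
      let S : Subgroup G := (S₀ : Subgroup C).map C.subtype
      have hScard : Nat.card S = p ^ (Nat.card G).factorization p := by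
        have h1 : Nat.card S = Nat.card S₀ :=
          (Nat.card_congr (Subgroup.equivMapOfInjective _ _ C.subtype_injective).toEquiv).symm
        rw [h1, S₀.card_eq_multiplicity]
        congr 1
        have h2 := card_centralizer_mul x
        have h3 : (centralizer ({x} : Set G)).index ≠ 0 := Subgroup.index_ne_zero_of_finite
        have h4 : Nat.card (centralizer ({x} : Set G)) ≠ 0 := Nat.card_pos.ne'
        rw [← h2, Nat.factorization_mul h4 h3, Finsupp.add_apply,
          Nat.factorization_eq_zero_of_not_dvd hcs, add_zero]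
      let S' : Sylow p G := Sylow.ofCard S hScard
      obtain ⟨g, hg⟩ := MulAction.exists_smul_eq G P S'
      have hS' : (S' : Subgroup G) = S := Sylow.coe_ofCard _ _
      have hxS : ∀ y ∈ S, Commute x y := by
        rintro _ ⟨y, _, rfl⟩
        have := y.2
        rw [mem_centralizer_singleton_iff] at this
        exact this.symm
      refine ⟨g⁻¹ * x * g, ?_, ?_⟩
      · rw [Subgroup.mem_centralizer_iff]
        intro y hy
        have h1 : g * y * g⁻¹ ∈ (S' : Subgroup G) := by
          rw [← hg, Sylow.coe_subgroup_smul, Subgroup.mem_pointwise_smul_iff_inv_smul_mem]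
          have hy' : y ∈ (P : Subgroup G) := hy
          simpa [MulAut.smul_def, ConjAct.smul_def, mul_assoc] using hy'
        rw [hS'] at h1
        have h2 := (hxS _ h1).eq
        have h3 : y * (g⁻¹ * x * g) = g⁻¹ * ((g * y * g⁻¹) * x) * g := by group
        have h4 : (g⁻¹ * x * g) * y = g⁻¹ * (x * (g * y * g⁻¹)) * g := by group
        rw [h3, h4, h2]
      · rw [isConj_iff]
        exact ⟨g, by group⟩
    have hPle : (P : Subgroup G) ≤ center G := by
      intro y hy
      rw [mem_center_iff]
      intro g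
      have : g ∈ centralizer ((P : Subgroup G) : Set G) := hcov ▸ mem_top g
      exact (Subgroup.mem_centralizer_iff.1 this y hy).symm
    rw [hZG] at hPle
    have h1 : Nat.card P = 1 := by
      have : (P : Subgroup G) = ⊥ := le_bot_iff.1 hPle
      rw [this]
      exact Nat.card_unique
    rw [P.card_eq_multiplicity] at h1
    have h2 : 0 < (Nat.card G).factorization p := hpr.factorization_pos_of_dvd hG0.ne' hpG
    have h3 : 1 < p ^ (Nat.card G).factorization p := Nat.one_lt_pow h2.ne' hpr.one_lt
    omega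
  by_cases hpA : p ∈ A
  · exact core A t (Nat.card M) hcard (Nat.pos_of_ne_zero hM0) htpos H1 H2 H3 p b hpr hb hpA hbA hpt hpm hbdvd
  · refine core Aᶜ t (Nat.card M) hcard (Nat.pos_of_ne_zero hM0) htpos ?_ H2 H3 p a hpr ha hpA
      (fun h => h haA) hpt hpm hadvd
    intro g hg
    obtain ⟨e, he, h1⟩ := H1 g hg
    refine ⟨e, he, ?_⟩
    rcases h1 with h1 | h1
    · exact Or.inr (fun r hr hd hn => hn (h1 r hr hd))
    · exact Or.inl (fun r hr hd => h1 r hr hd)

end Cfsg.Agent.S4184
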