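import Cfsg.Statements.S4198
import Mathlib
set_option autoImplicit false
open Cfsg Equiv Equiv.Perm
namespace Cfsg.Agent.S4198

theorem exists_min (m : Multiset ℕ) (hm : m ≠ 0) : ∃ a ∈ m, ∀ b ∈ m, a ≤ b := by
  classical
  obtain ⟨a, ha⟩ := Multiset.exists_mem_of_ne_zero hm
  obtain ⟨x, hx, h⟩ := Finset.exists_min_image m.toFinset id ⟨a, by simpa using ha⟩
  exact ⟨x, by simpa using hx, fun b hb => h b (by simpa using hb)⟩

/-- The relation behind the injection from partitions of `n + 1` to two copies of those of `n`. -/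
def R (n : ℕ) (p : Nat.Partition (n + 1)) (q : Nat.Partition n) (b : Bool) : Prop :=
  (b = true ∧ p.parts = 1 ::ₘ q.parts) ∨
  (b = false ∧ ∃ (r : Multiset ℕ) (a : ℕ), (∀ x ∈ r, a + 1 ≤ x) ∧
      p.parts = (a + 1) ::ₘ r ∧ q.parts = a ::ₘ r)

theorem exists_R (n : ℕ) (p : Nat.Partition (n + 1)) : ∃ (q : Nat.Partition n) (b : Bool), R n p q b := by
  classical
  have hsum := p.parts_sum
  by_cases h1 : 1 ∈ p.parts
  · obtain ⟨t, ht⟩ := Multiset.exists_cons_of_mem h1
    refine ⟨⟨t, ?_, ?_⟩, true, Or.inl ⟨rfl, ht⟩⟩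
    · intro i hi
      exact p.parts_pos (by rw [ht]; exact Multiset.mem_cons_of_mem hi)
    · rw [ht, Multiset.sum_cons] at hsum
      omega
  · have hne : p.parts ≠ 0 := by
      intro h
      rw [h] at hsum
      simp at hsum
    obtain ⟨a, ha, hmin⟩ := exists_min _ hne
    have ha1 : 0 < a := p.parts_pos ha
    have ha2 : a ≠ 1 := by
      rintro rfl
      exact h1 ha
    obtain ⟨c, rfl⟩ : ∃ c, a = c + 2 := ⟨a - 2, by omega⟩
    obtain ⟨t, ht⟩ := Multiset.exists_cons_of_mem ha
    refine ⟨⟨(c + 1) ::ₘ t, ?_, ?_⟩, false, Or.inr ⟨rfl, t, c + 1, ?_, ht, rfl⟩⟩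
    · intro i hi
      rw [Multiset.mem_cons] at hi
      rcases hi with rfl | hi
      · omega
      · exact p.parts_pos (by rw [ht]; exact Multiset.mem_cons_of_mem hi)
    · rw [ht, Multiset.sum_cons] at hsum
      rw [Multiset.sum_cons]
      omega
    · intro x hx
      exact hmin x (by rw [ht]; exact Multiset.mem_cons_of_mem hx)

theorem R_inj (n : ℕ) (p p' : Nat.Partition (n + 1)) (q : Nat.Partition n) (b : Bool)
    (h : R n p q b) (h' : R n p' q b) : p = p' := by
  rcases h with ⟨rfl, h⟩ | ⟨rfl, r, a, h1, h2, h3⟩ <;> rcases h' with ⟨h0, h'⟩ | ⟨h0, r', a', h1', h2', h3'⟩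
  · exact Nat.Partition.ext (h.trans h'.symm)
  · simp at h0
  · simp at h0
  · have h4 : a ::ₘ r = a' ::ₘ r' := h3.symm.trans h3'
    have h5 : a ∈ a' ::ₘ r' := by rw [← h4]; exact Multiset.mem_cons_self _ _
    have h6 : a' ∈ a ::ₘ r := by rw [h4]; exact Multiset.mem_cons_self _ _
    rw [Multiset.mem_cons] at h5 h6
    have h7 : a = a' := by
      rcases h5 with h5 | h5
      · exact h5
      · rcases h6 with h6 | h6
        · exact h6.symm
        · have := h1 _ h6
          have := h1' _ h5
          omega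
    subst h7
    have h8 : r = r' := (Multiset.cons_inj_right a).mp h4
    subst h8
    exact Nat.Partition.ext (h2.trans h2'.symm)

theorem card_succ_le (n : ℕ) : Fintype.card (Nat.Partition (n + 1)) ≤ 2 * Fintype.card (Nat.Partition n) := by
  choose q b hR using exists_R n
  have hinj : Function.Injective (fun p => (q p, b p)) := by
    intro p p' hpp
    simp only [Prod.mk.injEq] at hpp
    apply R_inj n p p' (q p) (b p) (hR p)
    rw [hpp.1, hpp.2]
    exact hR p'
  have := Fintype.card_le_of_injective _ hinj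
  rw [Fintype.card_prod, Fintype.card_bool] at this
  omega

/-- The partitions of 0 through 5, listed. -/
def L : ℕ → Finset (Multiset ℕ)
  | 0 => {0}
  | 1 => {{1}}
  | 2 => {{2}, {1, 1}}
  | 3 => {{3}, {2, 1}, {1, 1, 1}}
  | 4 => {{4}, {3, 1}, {2, 2}, {2, 1, 1}, {1, 1, 1, 1}}
  | 5 => {{5}, {4, 1}, {3, 2}, {3, 1, 1}, {2, 2, 1}, {2, 1, 1, 1}, {1, 1, 1, 1, 1}}
  | _ => ∅

theorem L_cons : ∀ a ∈ Finset.Icc 1 5, ∀ s ∈ Finset.range 6, a + s ≤ 5 → ∀ t ∈ L s, a ::ₘ t ∈ L (a + s) := by
  decide +kernel

theorem mem_L (n : ℕ) (hn : n ≤ 5) (m : Multiset ℕ) (h1 : ∀ a ∈ m, 0 < a) (h2 : m.sum = n) : m ∈ L n := by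
  induction n using Nat.strong_induction_on generalizing m with
  | _ n ih =>
    by_cases h0 : m = 0
    · subst h0
      simp at h2
      subst h2
      simp [L]
    · obtain ⟨a, ha⟩ := Multiset.exists_mem_of_ne_zero h0
      obtain ⟨t, rfl⟩ := Multiset.exists_cons_of_mem ha
      have ha0 := h1 a ha
      rw [Multiset.sum_cons] at h2
      have h3 := ih t.sum (by omega) (by omega) t (fun x hx => h1 x (Multiset.mem_cons_of_mem hx)) rfl
      have h4 : a ≤ 5 := by omega
      have h5 : t.sum ≤ 5 := by omega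
      have := L_cons a (Finset.mem_Icc.mpr ⟨ha0, h4⟩) t.sum (Finset.mem_range.mpr (by omega))
        (by omega) t h3
      rw [← h2]
      exact this

theorem card_five : Fintype.card (Nat.Partition 5) ≤ 7 := by
  have hinj : Function.Injective (fun p : Nat.Partition 5 =>
      (⟨p.parts, mem_L 5 le_rfl _ (fun _ ha => p.parts_pos ha) p.parts_sum⟩ : (L 5 : Finset (Multiset ℕ)))) := by
    intro p p' h
    exact Nat.Partition.ext (congrArg Subtype.val h)
  have := Fintype.card_le_of_injective _ hinj
  rw [Fintype.card_coe] at this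
  exact this.trans (by decide +kernel)

theorem card_le_pow (n : ℕ) (hn : 5 ≤ n) : Fintype.card (Nat.Partition n) ≤ 2 ^ (n - 2) := by
  induction n, hn using Nat.le_induction with
  | base => exact card_five.trans (by norm_num)
  | succ n hn ih =>
    have := card_succ_le n
    rw [show n + 1 - 2 = (n - 2) + 1 by omega, pow_succ]
    omega

theorem card_conj_le (n : ℕ) : Nat.card (ConjClasses (Perm (Fin n))) ≤ Fintype.card (Nat.Partition n) := by
  classical
  choose r hr using (ConjClasses.exists_rep : ∀ a : ConjClasses (Perm (Fin n)), _)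
  have hinj : Function.Injective (fun c : ConjClasses (Perm (Fin n)) => (r c).partition) := by
    intro c c' h
    rw [← hr c, ← hr c']
    exact ConjClasses.mk_eq_mk_iff_isConj.mpr (partition_eq_of_isConj.mpr h)
  have := Nat.card_le_card_of_injective _ hinj
  refine this.trans ?_
  rw [Nat.card_eq_fintype_card, Fintype.card_fin]

/-! ### The strict inequality -/

theorem conj_of_even {n : ℕ} (x y : alternatingGroup (Fin n)) (g : Perm (Fin n)) (hg : sign g = 1)
    (h : g * (x : Perm (Fin n)) * g⁻¹ = y) : IsConj x y := by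
  rw [isConj_iff]
  refine ⟨⟨g, hg⟩, Subtype.ext ?_⟩
  simpa using h

theorem three {n : ℕ} (x y z : alternatingGroup (Fin n))
    (h1 : IsConj (x : Perm (Fin n)) y) (h2 : IsConj (x : Perm (Fin n)) z) :
    IsConj x y ∨ IsConj x z ∨ IsConj y z := by
  rw [isConj_iff] at h1 h2
  obtain ⟨g, hg⟩ := h1
  obtain ⟨k, hk⟩ := h2
  rcases Int.units_eq_one_or (sign g) with h3 | h3
  · exact Or.inl (conj_of_even x y g h3 hg)
  rcases Int.units_eq_one_or (sign k) with h4 | h4
  · exact Or.inr (Or.inl (conj_of_even x z k h4 hk))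
  refine Or.inr (Or.inr (conj_of_even y z (k * g⁻¹) (by simp [h3, h4]) ?_))
  rw [← hg, ← hk]
  group

theorem centralizer_le {n : ℕ} (x y : alternatingGroup (Fin n))
    (h1 : IsConj (x : Perm (Fin n)) y) (h2 : ¬ IsConj x y) :
    Subgroup.centralizer {(x : Perm (Fin n))} ≤ alternatingGroup (Fin n) := by
  rw [isConj_iff] at h1
  obtain ⟨g, hg⟩ := h1
  have h3 : sign g = -1 := by
    rcases Int.units_eq_one_or (sign g) with h3 | h3
    · exact absurd (conj_of_even x y g h3 hg) h2
    · exact h3
  intro h hh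
  rw [Subgroup.mem_centralizer_singleton_iff] at hh
  rw [mem_alternatingGroup]
  rcases Int.units_eq_one_or (sign h) with h4 | h4
  · exact h4
  · exfalso
    apply h2
    refine conj_of_even x y (g * h) (by simp [h3, h4]) ?_
    rw [← hg, mul_inv_rev]
    calc g * h * (x : Perm (Fin n)) * (h⁻¹ * g⁻¹) = g * (h * x * h⁻¹) * g⁻¹ := by group
      _ = g * x * g⁻¹ := by rw [hh]; group

theorem exists_H {n : ℕ} (m : Multiset ℕ) (h1 : ∀ c ∈ m, Odd c) (h2 : ∀ c ∈ m, 2 ≤ c) (h3 : m.sum ≤ n)
    (h0 : m ≠ 0) : ∃ a ∈ m, ∃ σ : Perm (Fin n), σ.cycleType = (a - 1) ::ₘ m.erase a ∧ sign σ = -1 := by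
  classical
  obtain ⟨a, ha⟩ := Multiset.exists_mem_of_ne_zero h0
  refine ⟨a, ha, ?_⟩
  have hm := Multiset.cons_erase ha
  have h4 := h1 a ha
  have h5 := h2 a ha
  have h6 : 3 ≤ a := by
    rcases h4 with ⟨t, rfl⟩
    omega
  obtain ⟨σ, hσ⟩ := (exists_with_cycleType_iff (α := Fin n) (m := (a - 1) ::ₘ m.erase a)).mpr (by
    constructor
    · rw [Fintype.card_fin, Multiset.sum_cons]
      rw [← hm, Multiset.sum_cons] at h3
      omega
    · intro b hb
      rw [Multiset.mem_cons] at hb
      rcases hb with rfl | hb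
      · omega
      · exact h2 b (Multiset.mem_of_mem_erase hb))
  refine ⟨σ, hσ, ?_⟩
  rw [sign_of_cycleType', hσ, Multiset.map_cons, Multiset.prod_cons]
  have h7 : ((m.erase a).map fun n => -(-1 : ℤˣ) ^ n).prod = 1 := by
    apply Multiset.prod_eq_one
    intro u hu
    obtain ⟨b, hb, rfl⟩ := Multiset.mem_map.mp hu
    rw [(h1 b (Multiset.mem_of_mem_erase hb)).neg_one_pow, neg_neg]
  rw [h7, mul_one]
  have h8 : Even (a - 1) := by
    rcases h4 with ⟨t, rfl⟩
    exact ⟨t, by omega⟩
  rw [h8.neg_one_pow]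

theorem sign_of_isConj {n : ℕ} {a b : Perm (Fin n)} (h : IsConj a b) : sign a = sign b :=
  isConj_iff_eq.mp ((sign (α := Fin n)).map_isConj h)

theorem strict (n : ℕ) (hn : 5 ≤ n) :
    Nat.card (ConjClasses (alternatingGroup (Fin n))) < Nat.card (ConjClasses (Perm (Fin n))) := by
  classical
  choose r hr using (ConjClasses.exists_rep : ∀ a : ConjClasses (alternatingGroup (Fin n)), _)
  let φ : ConjClasses (alternatingGroup (Fin n)) → ConjClasses (Perm (Fin n)) :=
    fun c => ConjClasses.mk ((r c : alternatingGroup (Fin n)) : Perm (Fin n))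
  have hs' : ∀ d : ConjClasses (Perm (Fin n)), ∃ c0 : ConjClasses (alternatingGroup (Fin n)),
      (∃ c, φ c = d) → φ c0 = d := by
    intro d
    by_cases h : ∃ c, φ c = d
    · obtain ⟨c, hc⟩ := h
      exact ⟨c, fun _ => hc⟩
    · exact ⟨ConjClasses.mk 1, fun h' => absurd h' h⟩
  choose s hs using hs'
  have hs2 : ∀ c, φ (s (φ c)) = φ c := fun c => hs _ ⟨c, rfl⟩
  have hconj : ∀ c c', φ c = φ c' →
      IsConj ((r c : alternatingGroup (Fin n)) : Perm (Fin n)) (r c' : alternatingGroup (Fin n)) := by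
    intro c c' h
    exact ConjClasses.mk_eq_mk_iff_isConj.mp h
  have hconj2 : ∀ c c', IsConj (r c) (r c') → c = c' := by
    intro c c' h
    rw [← hr c, ← hr c']
    exact ConjClasses.mk_eq_mk_iff_isConj.mpr h
  -- the conditions
  have hcond : ∀ c, s (φ c) ≠ c →
      (∀ c0 ∈ ((r c : alternatingGroup (Fin n)) : Perm (Fin n)).cycleType, Odd c0) ∧
      n ≤ ((r c : alternatingGroup (Fin n)) : Perm (Fin n)).cycleType.sum + 1 := by
    intro c hc
    have h1 := centralizer_le (r c) (r (s (φ c))) (hconj _ _ (hs2 c).symm)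
      (fun h => hc (hconj2 _ _ h).symm)
    rw [centralizer_le_alternating_iff] at h1
    refine ⟨h1.1, ?_⟩
    have := h1.2.1
    rwa [Fintype.card_fin] at this
  have hH' : ∀ c, ∃ d : ConjClasses (Perm (Fin n)), s (φ c) ≠ c →
      ∃ a ∈ ((r c : alternatingGroup (Fin n)) : Perm (Fin n)).cycleType, ∃ σ : Perm (Fin n),
        ConjClasses.mk σ = d ∧
        σ.cycleType = (a - 1) ::ₘ ((r c : alternatingGroup (Fin n)) : Perm (Fin n)).cycleType.erase a ∧
        sign σ = -1 := by
    intro c
    by_cases hc : s (φ c) ≠ c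
    · obtain ⟨h1, h2⟩ := hcond c hc
      obtain ⟨a, ha, σ, h3, h4⟩ := exists_H (n := n)
        ((r c : alternatingGroup (Fin n)) : Perm (Fin n)).cycleType h1
        (fun _ hc => two_le_of_mem_cycleType hc)
        (by rw [sum_cycleType]; simpa using Finset.card_le_univ
              ((r c : alternatingGroup (Fin n)) : Perm (Fin n)).support)
        (by
          intro h
          rw [h] at h2
          simp at h2
          omega)
      exact ⟨ConjClasses.mk σ, fun _ => ⟨a, ha, σ, rfl, h3, h4⟩⟩
    · exact ⟨ConjClasses.mk 1, fun h => absurd h hc⟩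
  choose H hH using hH'
  have hφev : ∀ c σ, φ c = ConjClasses.mk σ → sign σ = 1 := by
    intro c σ h
    have h1 : IsConj ((r c : alternatingGroup (Fin n)) : Perm (Fin n)) σ := ConjClasses.mk_eq_mk_iff_isConj.mp h
    rw [← sign_of_isConj h1]
    exact (r c).2
  let F : ConjClasses (alternatingGroup (Fin n)) → ConjClasses (Perm (Fin n)) :=
    fun c => if s (φ c) = c then φ c else H c
  have hF1 : ∀ c, s (φ c) = c → F c = φ c := fun c h => if_pos h
  have hF2 : ∀ c, s (φ c) ≠ c → F c = H c := fun c h => if_neg h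
  have hinj : Function.Injective F := by
    intro c c' hcc
    by_cases h1 : s (φ c) = c <;> by_cases h2 : s (φ c') = c'
    · rw [hF1 c h1, hF1 c' h2] at hcc
      rw [← h1, ← h2, hcc]
    · rw [hF1 c h1, hF2 c' h2] at hcc
      obtain ⟨a, ha, σ, h3, h4, h5⟩ := hH c' h2
      rw [← h3] at hcc
      have := hφev _ _ hcc
      rw [h5] at this
      exact absurd this (by decide)
    · rw [hF2 c h1, hF1 c' h2] at hcc
      obtain ⟨a, ha, σ, h3, h4, h5⟩ := hH c h1
      rw [← h3] at hcc
      have := hφev _ _ hcc.symm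
      rw [h5] at this
      exact absurd this (by decide)
    · rw [hF2 c h1, hF2 c' h2] at hcc
      obtain ⟨a, ha, σ, h3, h4, h5⟩ := hH c h1
      obtain ⟨a', ha', σ', h3', h4', h5'⟩ := hH c' h2
      have h6 : σ.cycleType = σ'.cycleType := by
        rw [← isConj_iff_cycleType_eq]
        apply ConjClasses.mk_eq_mk_iff_isConj.mp
        rw [h3, h3', hcc]
      rw [h4, h4'] at h6
      obtain ⟨h7, h8⟩ := hcond c h1
      obtain ⟨h7', h8'⟩ := hcond c' h2
      have hev : ∀ b ∈ ((r c : alternatingGroup (Fin n)) : Perm (Fin n)).cycleType, ¬ Odd (b - 1) := by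
        intro b hb
        have h9 := h7 b hb
        have h10 := two_le_of_mem_cycleType hb
        rcases h9 with ⟨t, rfl⟩
        simp only [Nat.not_odd_iff_even]
        exact ⟨t, by omega⟩
      have hev' : ∀ b ∈ ((r c' : alternatingGroup (Fin n)) : Perm (Fin n)).cycleType, ¬ Odd (b - 1) := by
        intro b hb
        have h9 := h7' b hb
        have h10 := two_le_of_mem_cycleType hb
        rcases h9 with ⟨t, rfl⟩
        simp only [Nat.not_odd_iff_even]
        exact ⟨t, by omega⟩
      have h11 : a - 1 = a' - 1 := by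
        have : a - 1 ∈ (a' - 1) ::ₘ ((r c' : alternatingGroup (Fin n)) : Perm (Fin n)).cycleType.erase a' := by
          rw [← h6]
          exact Multiset.mem_cons_self _ _
        rw [Multiset.mem_cons] at this
        rcases this with h | h
        · exact h
        · exact absurd (h7' _ (Multiset.mem_of_mem_erase h)) (hev a ha)
      have h12 : a = a' := by
        have := two_le_of_mem_cycleType ha
        have := two_le_of_mem_cycleType ha'
        omega
      subst h12
      rw [h11, Multiset.cons_inj_right] at h6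
      have h13 : ((r c : alternatingGroup (Fin n)) : Perm (Fin n)).cycleType =
          ((r c' : alternatingGroup (Fin n)) : Perm (Fin n)).cycleType := by
        rw [← Multiset.cons_erase ha, ← Multiset.cons_erase ha', h6]
      have h14 : IsConj ((r c : alternatingGroup (Fin n)) : Perm (Fin n)) (r c' : alternatingGroup (Fin n)) :=
        isConj_iff_cycleType_eq.mpr h13
      have h15 : φ c = φ c' := ConjClasses.mk_eq_mk_iff_isConj.mpr h14
      -- three classes in one fibre
      have h16 : IsConj ((r c : alternatingGroup (Fin n)) : Perm (Fin n))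
          (r (s (φ c)) : alternatingGroup (Fin n)) := hconj _ _ (hs2 c).symm
      rcases three (r c) (r c') (r (s (φ c))) h14 h16 with h | h | h
      · exact hconj2 _ _ h
      · exact absurd (hconj2 _ _ h).symm h1
      · have := hconj2 _ _ h
        rw [← h15] at h2
        exact absurd this.symm h2
  have hnot : ConjClasses.mk (swap (⟨0, by omega⟩ : Fin n) ⟨1, by omega⟩) ∉ Set.range F := by
    rintro ⟨c, hc⟩
    have hsw : swap (⟨0, by omega⟩ : Fin n) ⟨1, by omega⟩ ≠ 1 ∧ True := ⟨by
      intro h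
      rw [swap_eq_one_iff] at h
      simp at h, trivial⟩
    by_cases h1 : s (φ c) = c
    · rw [hF1 c h1] at hc
      have := hφev _ _ hc
      rw [sign_swap (by simp)] at this
      exact absurd this (by decide)
    · rw [hF2 c h1] at hc
      obtain ⟨a, ha, σ, h3, h4, h5⟩ := hH c h1
      have h6 : σ.cycleType = {2} := by
        have h7 : IsConj σ (swap (⟨0, by omega⟩ : Fin n) ⟨1, by omega⟩) := by
          apply ConjClasses.mk_eq_mk_iff_isConj.mp
          rw [h3, hc]
        rw [isConj_iff_cycleType_eq.mp h7]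
        exact (isSwap_iff_cycleType).mp ⟨_, _, by simp, rfl⟩
      rw [h4] at h6
      have h7 : ((a - 1) ::ₘ ((r c : alternatingGroup (Fin n)) : Perm (Fin n)).cycleType.erase a) = (a - 1) ::ₘ 0 ∧ a - 1 = 2 := by
        have h8 := congrArg Multiset.card h6
        simp at h8
        have h9 : a - 1 ∈ ({2} : Multiset ℕ) := by
          rw [← h6]
          exact Multiset.mem_cons_self _ _
        simp only [Multiset.mem_singleton] at h9
        exact ⟨by rw [h8], h9⟩
      obtain ⟨h8, h9⟩ := h7
      rw [Multiset.cons_inj_right] at h8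
      have h10 := Multiset.cons_erase ha
      rw [h8] at h10
      obtain ⟨_, h11⟩ := hcond c h1
      rw [← h10] at h11
      simp at h11
      omega
  haveI := Fintype.ofFinite (ConjClasses (alternatingGroup (Fin n)))
  haveI := Fintype.ofFinite (ConjClasses (Perm (Fin n)))
  rw [Nat.card_eq_fintype_card, Nat.card_eq_fintype_card]
  exact Fintype.card_lt_of_injective_of_notMem F hinj hnot

theorem result (n : ℕ) (hn : 5 ≤ n) : Nat.card (ConjClasses (alternatingGroup (Fin n))) < Nat.card (ConjClasses (Equiv.Perm (Fin n))) ∧ Nat.card (ConjClasses (Equiv.Perm (Fin n))) ≤ 2 ^ (n - 2) :=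
  ⟨strict n hn, (card_conj_le n).trans (card_le_pow n hn)⟩

end Cfsg.Agent.S4198
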