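import Cfsg.Statements.S4258
import Mathlib
import Cfsg.Agent.Lib.BryG.Chain2
import Cfsg.Agent.S0205

set_option autoImplicit false
open Cfsg

namespace Cfsg.Agent.S4258

open Cfsg.Agent.Lib.Basic.PCore Cfsg.Agent.Lib.Solvable.PSeries

/-- A `2`-soluble group is soluble, by the odd order theorem. -/
theorem solvable_of_two_solvable : ∀ (n : ℕ) (G : Type*) [Group G] [Finite G], Nat.card G = n →
    Cfsg.IsPSolvable 2 G → Group.IsSolvable G := by
  intro n
  induction n using Nat.strong_induction_on with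
  | _ n ih =>
    intro G _ _ hn hG
    classical
    haveI : Fact (Nat.Prime 2) := ⟨Nat.prime_two⟩
    by_cases hnt : Nontrivial G
    · have key : ∃ N : Subgroup G, N.Normal ∧ N ≠ ⊥ ∧ Group.IsSolvable N := by
        rcases isPSolvable_core_ne_bot hG with h | h
        · refine ⟨Cfsg.pCore 2 G, pCore_normal 2 G, h, ?_⟩
          haveI : Group.IsNilpotent (Cfsg.pCore 2 G) := (pCore_isPGroup 2).isNilpotent
          infer_instance
        · refine ⟨Cfsg.pPrimeCore 2 G, inferInstance, h, ?_⟩
          apply Cfsg.Agent.S0205.result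
          exact Nat.coprime_two_right.mp (pPrimeCore_coprime 2)
      obtain ⟨N, hNn, hNbot, hNs⟩ := key
      haveI := hNn
      have hlt : Nat.card (G ⧸ N) < n := by
        have h1 := N.card_mul_index
        rw [Subgroup.index_eq_card] at h1
        have h2 : 1 < Nat.card N := by
          haveI : Nontrivial N := (Subgroup.nontrivial_iff_ne_bot N).mpr hNbot
          exact Finite.one_lt_card
        have h3 : 0 < Nat.card (G ⧸ N) := Nat.card_pos
        rw [← hn, ← h1]
        exact lt_mul_of_one_lt_left h3 h2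
      haveI hq : Group.IsSolvable (G ⧸ N) := ih _ hlt (G ⧸ N) rfl (isPSolvable_quotient hG N)
      refine Group.isSolvable_of_ker_le_range N.subtype (QuotientGroup.mk' N) ?_
      intro x hx
      have h1 : x ∈ N := (QuotientGroup.eq_one_iff x).mp hx
      exact ⟨⟨x, h1⟩, rfl⟩
    · rw [not_nontrivial_iff_subsingleton] at hnt
      infer_instance

/-- Let G be a finite 2-soluble group whose Sylow 2-subgroups have exponent dividing 2^e. Then the 2-length of G is at most e. -/
theorem result {G : Type*} [Group G] [Finite G] (hG : Cfsg.IsPSolvable 2 G) (e : ℕ)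
    (hexp : ∀ (P : Sylow 2 G), ∀ x ∈ (P : Subgroup G), x ^ 2 ^ e = 1) : Cfsg.PLengthLE 2 e G := by
  classical
  haveI : Fact (Nat.Prime 2) := ⟨Nat.prime_two⟩
  have hsol : Group.IsSolvable G := solvable_of_two_solvable _ G rfl hG
  refine Cfsg.Agent.Lib.BryG.Chain.two_length_le hsol e ?_
  rintro x ⟨k, hk⟩
  have hzp : IsPGroup 2 (Subgroup.zpowers x) := by
    rintro ⟨y, hy⟩
    obtain ⟨m, rfl⟩ := Subgroup.mem_zpowers_iff.mp hy
    refine ⟨k, Subtype.ext ?_⟩
    show (x ^ m) ^ 2 ^ k = 1
    rw [← zpow_natCast, ← zpow_mul, mul_comm, zpow_mul, zpow_natCast, hk, one_zpow]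
  obtain ⟨S, hS⟩ := hzp.exists_le_sylow
  exact hexp S x (hS (Subgroup.mem_zpowers x))

end Cfsg.Agent.S4258
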