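import Cfsg.Statements.S4298
import Mathlib
import Cfsg.Agent.Lib.Frobenius.MatrixRep

set_option autoImplicit false
open Cfsg

namespace Cfsg.Agent.S4298

/-- The images in `SL(2,5)`, indexed by the base-3 code of a matrix over `ZMod 3`. -/
def tbl : List (ZMod 5 × ZMod 5 × ZMod 5 × ZMod 5) :=
  [(1, 0, 0, 1), (1, 0, 0, 1), (1, 0, 0, 1), (1, 0, 0, 1), (1, 0, 0, 1), (1, 0, 0, 1), (1, 0, 0, 1), (1, 0, 0, 1), (1, 0, 0, 1), (1, 0, 0, 1), (1, 0, 0, 1), (1, 0, 0, 1), (1, 0, 0, 1), (1, 0, 0, 1), (1, 0, 0, 1), (0, 4, 1, 0), (2, 4, 3, 4), (3, 2, 1, 1), (1, 0, 0, 1), (1, 0, 0, 1), (1, 0, 0, 1), (0, 1, 4, 0), (2, 3, 4, 4), (3, 1, 2, 1), (1, 0, 0, 1), (1, 0, 0, 1), (1, 0, 0, 1), (1, 0, 0, 1), (1, 0, 0, 1), (1, 0, 0, 1), (1, 0, 0, 1), (1, 2, 1, 3), (1, 0, 0, 1), (1, 0, 0, 1), (3, 3, 4, 1), (1, 0, 0, 1), (1, 0, 0, 1), (1, 1, 2, 3), (1, 0, 0,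 1), (1, 0, 0, 1), (1, 0, 0, 1), (0, 2, 2, 0), (4, 2, 1, 2), (1, 0, 0, 1), (1, 0, 0, 1), (1, 0, 0, 1), (3, 4, 3, 1), (1, 0, 0, 1), (4, 1, 2, 2), (1, 0, 0, 1), (1, 0, 0, 1), (1, 0, 0, 1), (1, 0, 0, 1), (3, 0, 0, 2), (1, 0, 0, 1), (1, 0, 0, 1), (4, 0, 0, 4), (1, 0, 0, 1), (1, 0, 0, 1), (2, 2, 1, 4), (1, 0, 0, 1), (1, 0, 0, 1), (4, 3, 4, 2), (1, 0, 0, 1), (1, 0, 0, 1), (2, 1, 2, 4), (1, 0, 0, 1), (2, 0, 0, 3), (1, 0, 0, 1), (1, 4, 3, 3), (1, 0, 0, 1), (1, 0, 0, 1), (1, 0, 0, 1), (1, 0, 0, 1), (4, 4, 3, 2), (1, 3, 4, 3), (1, 0, 0, 1), (1, 0, 0, 1), (1, 0, 0, 1), (0, 3, 3, 0), (1, 0, 0, 1)]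

/-- The table as a function on matrices. -/
def phi (A : Matrix (Fin 2) (Fin 2) (ZMod 3)) : Matrix (Fin 2) (Fin 2) (ZMod 5) :=
  let e := tbl.getD ((A 0 0).val * 27 + (A 0 1).val * 9 + (A 1 0).val * 3 + (A 1 1).val) (1, 0, 0, 1)
  !![e.1, e.2.1; e.2.2.1, e.2.2.2]

theorem phi_one : phi (1 : Matrix.SpecialLinearGroup (Fin 2) (ZMod 3)).1 = 1 := by
  decide +kernel

theorem phi_mul : ∀ x y : Matrix.SpecialLinearGroup (Fin 2) (ZMod 3),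
    phi (x * y).1 = phi x.1 * phi y.1 := by
  decide +kernel

theorem phi_fpf : ∀ x : Matrix.SpecialLinearGroup (Fin 2) (ZMod 3), x ≠ 1 →
    (phi x.1 - 1).det ≠ 0 := by
  decide +kernel

instance instNontrivial : Nontrivial (Matrix.SpecialLinearGroup (Fin 2) (ZMod 3)) :=
  ⟨⟨1, -1, by decide +kernel⟩⟩

/-- The homomorphism. -/
def phiHom : Matrix.SpecialLinearGroup (Fin 2) (ZMod 3) →* Matrix (Fin 2) (Fin 2) (ZMod 5) where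
  toFun := fun x => phi x.1
  map_one' := phi_one
  map_mul' := phi_mul

/-- The group SL(2,3) of order 24 (the binary tetrahedral group) occurs as a Frobenius complement of some finite Frobenius group. -/
theorem result :
    ∃ (L : Type) (_ : Group L) (_ : Finite L) (H : Subgroup L), Cfsg.IsFrobeniusComplement H ∧ Nonempty (H ≃* Matrix.SpecialLinearGroup (Fin 2) (ZMod 3)) :=
  haveI : Fact (Nat.Prime 5) := ⟨by norm_num⟩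
  Cfsg.Agent.Lib.Frobenius.MatrixRep.exists_frobenius_of_matrix phiHom phi_fpf

end Cfsg.Agent.S4298
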