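import Cfsg.Statements.S4347
import Mathlib
import Cfsg.Agent.Lib.Basic.SylowUtil
import Cfsg.Agent.Lib.Basic.Conj
-- import your own Cfsg.Agent.* helpers here

set_option autoImplicit false
open Cfsg

namespace Cfsg.Agent.S4347

/-- Let G be a finite group and p a prime. Say a Sylow p-subgroup Q is redundant when every element of p-power order lies in some Sylow p-subgroup other than Q. Then G has no redundant Sylow p-subgroup if and only if some element of p-power order lies in exactly one Sylow p-subgroup. -/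
theorem result {G : Type*} [Group G] [Finite G]
    (p : ℕ) [Fact p.Prime] :
    (¬ ∃ Q : Sylow p G, ∀ x : G, (∃ k : ℕ, orderOf x = p ^ k) → ∃ P : Sylow p G, P ≠ Q ∧ x ∈ P) ↔
      ∃ x : G, (∃ k : ℕ, orderOf x = p ^ k) ∧ ∃! P : Sylow p G, x ∈ P := by
  classical
  constructor
  · intro h
    obtain ⟨Q⟩ : Nonempty (Sylow p G) := inferInstance
    by_contra hno
    apply h
    refine ⟨Q, fun x hx => ?_⟩
    by_contra hx2
    push Not at hx2
    apply hno
    refine ⟨x, hx, ?_⟩
    obtain ⟨k, hk⟩ := hx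
    obtain ⟨P, hP⟩ := Cfsg.Agent.Lib.Basic.SylowUtil.exists_sylow_of_orderOf hk
    refine ⟨P, hP, fun P' hP' => ?_⟩
    have h1 : P = Q := by
      by_contra hne
      exact hx2 P hne hP
    have h2 : P' = Q := by
      by_contra hne
      exact hx2 P' hne hP'
    rw [h1, h2]
  · rintro ⟨x, hx, P0, hP0, huniq⟩ ⟨Q, hQ⟩
    obtain ⟨g, hg⟩ := MulAction.exists_smul_eq G P0 Q
    have hy : ∃ k : ℕ, orderOf (g * x * g⁻¹) = p ^ k := by
      obtain ⟨k, hk⟩ := hx
      refine ⟨k, ?_⟩
      rw [← hk]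
      exact orderOf_injective (MulAut.conj g).toMonoidHom (MulAut.conj g).injective x
    obtain ⟨P, hne, hyP⟩ := hQ _ hy
    have hx2 : x ∈ ((g⁻¹ • P : Sylow p G) : Subgroup G) := by
      rw [Sylow.coe_subgroup_smul]
      rw [Cfsg.Agent.Lib.Basic.Conj.mem_conj_smul_iff]
      have h4 : (g⁻¹)⁻¹ * x * g⁻¹ = g * x * g⁻¹ := by group
      rw [h4]
      exact hyP
    have h3 : g⁻¹ • P = P0 := huniq _ hx2
    apply hne
    rw [← hg, ← h3, smul_inv_smul]

end Cfsg.Agent.S4347
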