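import Mathlib
import Cfsg.Prelude.Def_Solvable
import Cfsg.Agent.Lib.Basic.PCore
import Cfsg.Agent.Lib.Basic.SylowUtil

set_option autoImplicit false

namespace Cfsg.Agent.S4348

open Subgroup Cfsg Cfsg.Agent.Lib.Basic.PCore Cfsg.Agent.Lib.Basic.SylowUtil

/-- Let G be a finite group, p a prime and P a Sylow p-subgroup of G, and let O_p(G) be the largest normal p-subgroup of G. If P/O_p(G) is cyclic, then some element of p-power order of G lies in exactly one Sylow p-subgroup. -/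
theorem result {G : Type*} [Group G] [Finite G]
    (p : ℕ) [Fact p.Prime] (P : Sylow p G)
    [hn : ((Cfsg.pCore p G).subgroupOf (P : Subgroup G)).Normal]
    (hc : IsCyclic ((P : Subgroup G) ⧸ (Cfsg.pCore p G).subgroupOf (P : Subgroup G))) :
    ∃ x : G, (∃ k : ℕ, orderOf x = p ^ k) ∧ ∃! Q : Sylow p G, x ∈ Q := by
  obtain ⟨c, hcgen⟩ := hc.exists_generator
  obtain ⟨x, rfl⟩ := QuotientGroup.mk_surjective c
  refine ⟨(x : G), orderOf_eq_pow_of_mem P x.2, P, x.2, ?_⟩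
  intro Q hxQ
  have hle : (P : Subgroup G) ≤ Q := by
    intro y hy
    obtain ⟨k, hk⟩ := hcgen ((⟨y, hy⟩ : (P : Subgroup G)) : (P : Subgroup G) ⧸ (Cfsg.pCore p G).subgroupOf (P : Subgroup G))
    have h1 : ((x ^ k : (P : Subgroup G)) : (P : Subgroup G) ⧸ (Cfsg.pCore p G).subgroupOf (P : Subgroup G)) =
        ((⟨y, hy⟩ : (P : Subgroup G)) : (P : Subgroup G) ⧸ (Cfsg.pCore p G).subgroupOf (P : Subgroup G)) := by
      rw [QuotientGroup.mk_zpow]
      exact hk
    rw [QuotientGroup.eq, Subgroup.mem_subgroupOf] at h1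
    have h2 : ((x ^ k)⁻¹ * ⟨y, hy⟩ : (P : Subgroup G)).1 ∈ (Q : Subgroup G) := pCore_le_sylow Q h1
    have e : y = ((x ^ k : (P : Subgroup G)) : G) * ((x ^ k)⁻¹ * ⟨y, hy⟩ : (P : Subgroup G)).1 := by
      simp
    rw [e]
    refine Q.1.mul_mem ?_ h2
    simp only [SubgroupClass.coe_zpow]
    exact Q.1.zpow_mem hxQ k
  exact Sylow.ext (P.is_maximal' Q.isPGroup' hle)

end Cfsg.Agent.S4348
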