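import Cfsg.Statements.S4349
import Mathlib
import Cfsg.Agent.Lib.Perm.SylowUniqueB

set_option autoImplicit false

open Cfsg

namespace Cfsg.Agent.S4349

open Cfsg.Agent.Lib.Perm.SylowUnique

/-- Let n ≥ 2 and let x be an element of 2-power order of the symmetric group of degree n. Then x lies in exactly one Sylow 2-subgroup if and only if x has at most two fixed points and the nontrivial cycles of x have pairwise different lengths. -/
theorem result (n : ℕ) (hn : 2 ≤ n)
    (x : Equiv.Perm (Fin n)) (hx : ∃ k : ℕ, orderOf x = 2 ^ k) :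
    (∃! P : Sylow 2 (Equiv.Perm (Fin n)), x ∈ P) ↔ (n ≤ x.support.card + 2 ∧ x.cycleType.Nodup) := by
  
  obtain ⟨k, hk⟩ := hx
  have hp : x ^ 2 ^ k = 1 := by
    rw [← hk]
    exact pow_orderOf_eq_one x
  have hcard : Fintype.card (Fin n) = n := Fintype.card_fin n
  have hcond := cond_iff x
  rw [hcard] at hcond
  rw [← hcond]
  constructor
  · rintro ⟨P, hP, huniq⟩
    exact cond_of_unique hp hP huniq
  · intro hc
    have hE : IsPGroup 2 (Subgroup.zpowers x) := by
      rintro ⟨_, m, rfl⟩
      refine ⟨k, ?_⟩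
      apply Subtype.ext
      show (x ^ m) ^ 2 ^ k = 1
      rw [← zpow_natCast, ← zpow_mul, mul_comm, zpow_mul, zpow_natCast, hp, one_zpow]
    obtain ⟨P, hP⟩ := hE.exists_le_sylow
    have hxP : x ∈ P := hP (Subgroup.mem_zpowers x)
    refine ⟨P, hxP, fun Q hQ => ?_⟩
    exact unique_of_cond _ _ rfl x k hp hc Q P hQ hxP

end Cfsg.Agent.S4349
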