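import Cfsg.Statements.S4358
import Mathlib

set_option autoImplicit false
open Cfsg
open scoped Matrix Pointwise

namespace Cfsg.Agent.S4358


variable {F : Type*} [Field F] {p : ℕ} [Fact p.Prime]

/-- A monomial matrix indexed by `ZMod p`. -/
def mono (k : ZMod p) (d : ZMod p → F) : Matrix (ZMod p) (ZMod p) F :=
  fun a b => if b = a - k then d a else 0

lemma mono_apply (k : ZMod p) (d : ZMod p → F) (a b : ZMod p) :
    mono k d a b = if b = a - k then d a else 0 := rfl

lemma mono_mul_apply (k : ZMod p) (d : ZMod p → F) (M : Matrix (ZMod p) (ZMod p) F) (a b : ZMod p) :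
    (mono k d * M) a b = d a * M (a - k) b := by
  simp only [Matrix.mul_apply, mono_apply]
  rw [Finset.sum_eq_single (a - k)]
  · simp
  · intro c _ hc
    simp [hc]
  · intro h; exact absurd (Finset.mem_univ _) h

lemma mul_mono_zero_apply (d : ZMod p → F) (M : Matrix (ZMod p) (ZMod p) F) (a b : ZMod p) :
    (M * mono 0 d) a b = M a b * d b := by
  simp only [Matrix.mul_apply, mono_apply, sub_zero]
  rw [Finset.sum_eq_single b]
  · simp
  · intro c _ hc
    simp [Ne.symm hc]
  · intro h; exact absurd (Finset.mem_univ _) h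

lemma mono_mul (k l : ZMod p) (d e : ZMod p → F) :
    mono k d * mono l e = mono (k + l) (fun a => d a * e (a - k)) := by
  ext a b
  rw [mono_mul_apply]
  simp only [mono_apply]
  have : (b = a - k - l) ↔ (b = a - (k + l)) := by
    rw [sub_sub]
  by_cases h : b = a - (k + l)
  · simp [h, this.2 h]
    intro h'; exact absurd (by rw [sub_sub]) h'
  · simp [h]
    intro h'; exact absurd (this.1 h') h

lemma mono_zero_const (c : F) : mono (0 : ZMod p) (fun _ => c) = c • (1 : Matrix _ _ F) := by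
  ext a b
  simp only [mono_apply, sub_zero, Matrix.smul_apply, Matrix.one_apply, smul_eq_mul]
  by_cases h : b = a
  · simp [h]
  · simp [h, Ne.symm h]

/-- The invertible monomial matrix with unit entries. -/
def monoU (k : ZMod p) (d : ZMod p → Fˣ) : Matrix.GeneralLinearGroup (ZMod p) F :=
  ⟨mono k (fun a => (d a : F)), mono (-k) (fun a => ((d (a + k))⁻¹ : Fˣ)),
    by
      rw [mono_mul, add_neg_cancel,
        show (fun a => (d a : F) * (((d (a - k + k))⁻¹ : Fˣ) : F)) = fun _ => (1 : F) by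
          funext a; simp, mono_zero_const, one_smul],
    by
      rw [mono_mul, neg_add_cancel,
        show (fun a => (((d (a + k))⁻¹ : Fˣ) : F) * (d (a - -k) : F)) = fun _ => (1 : F) by
          funext a; simp, mono_zero_const, one_smul]⟩

@[simp] lemma monoU_val (k : ZMod p) (d : ZMod p → Fˣ) :
    (monoU k d).1 = mono k (fun a => (d a : F)) := rfl

lemma monoU_mul (k l : ZMod p) (d e : ZMod p → Fˣ) :
    monoU k d * monoU l e = monoU (k + l) (fun a => d a * e (a - k)) := by
  apply Units.ext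
  simp [mono_mul]

lemma monoU_inv (k : ZMod p) (d : ZMod p → Fˣ) :
    (monoU k d)⁻¹ = monoU (-k) (fun a => (d (a + k))⁻¹) := by
  apply Units.ext
  rfl

lemma monoU_one : (1 : Matrix.GeneralLinearGroup (ZMod p) F) = monoU 0 (fun _ => 1) := by
  apply Units.ext
  simp [mono_zero_const]

lemma monoU_inj {k l : ZMod p} {d e : ZMod p → Fˣ} (h : monoU k d = monoU l e) : k = l ∧ d = e := by
  have h' : mono k (fun a => (d a : F)) = mono l (fun a => (e a : F)) := congrArg Units.val h
  have hkl : k = l := by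
    have := congrFun (congrFun h' 0) (0 - k)
    simp only [mono_apply, if_true] at this
    by_contra hne
    have h2 : ¬ (0 - k = 0 - l) := fun h3 => hne (by simpa using h3)
    rw [if_neg h2] at this
    exact (d 0).ne_zero this
  subst hkl
  refine ⟨rfl, ?_⟩
  funext a
  have := congrFun (congrFun h' a) (a - k)
  simp only [mono_apply, if_true] at this
  exact Units.ext this

lemma monoU_pow (k : ZMod p) (f : ZMod p → Fˣ) (n : ℕ) :
    (monoU k f) ^ n = monoU (n • k) (fun a => ∏ j ∈ Finset.range n, f (a - j • k)) := by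
  induction n with
  | zero => simp [monoU_one]
  | succ n ih =>
    rw [pow_succ, ih, monoU_mul, succ_nsmul]
    congr 1
    funext a
    rw [Finset.prod_range_succ]

/-- The explicit Sylow subgroup. -/
def Q0 (ζ : Fˣ) : Subgroup (Matrix.GeneralLinearGroup (ZMod p) F) where
  carrier := {x | ∃ k d, (∀ a, d a ∈ Subgroup.zpowers ζ) ∧ x = monoU k d}
  one_mem' := ⟨0, fun _ => 1, fun _ => one_mem _, monoU_one⟩
  mul_mem' := by
    rintro _ _ ⟨k, d, hd, rfl⟩ ⟨l, e, he, rfl⟩
    exact ⟨_, _, fun a => mul_mem (hd a) (he _), monoU_mul k l d e⟩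
  inv_mem' := by
    rintro _ ⟨k, d, hd, rfl⟩
    exact ⟨_, _, fun a => inv_mem (hd _), monoU_inv k d⟩

lemma mem_Q0 {ζ : Fˣ} {x : Matrix.GeneralLinearGroup (ZMod p) F} :
    x ∈ Q0 ζ ↔ ∃ k d, (∀ a, d a ∈ Subgroup.zpowers ζ) ∧ x = monoU k d := Iff.rfl

lemma card_Q0 (ζ : Fˣ) (hζ : orderOf ζ = p) :
    Nat.card (Q0 (p := p) ζ) = p ^ (p + 1) := by
  let f : ZMod p × (ZMod p → Subgroup.zpowers ζ) → Q0 (p := p) ζ :=
    fun z => ⟨monoU z.1 (fun a => ((z.2 a : Subgroup.zpowers ζ) : Fˣ)),
      ⟨_, _, fun a => (z.2 a).2, rfl⟩⟩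
  have hf : Function.Bijective f := by
    constructor
    · rintro ⟨k, d⟩ ⟨l, e⟩ h
      have h' := congrArg Subtype.val h
      obtain ⟨h1, h2⟩ := monoU_inj h'
      simp only at h1
      subst h1
      congr 1
      funext a
      exact Subtype.ext (congrFun h2 a)
    · rintro ⟨x, k, d, hd, rfl⟩
      exact ⟨⟨k, fun a => ⟨d a, hd a⟩⟩, rfl⟩
  rw [← Nat.card_congr (Equiv.ofBijective f hf), Nat.card_prod, Nat.card_fun, Nat.card_zpowers,
    hζ, Nat.card_zmod, pow_succ, mul_comm]

lemma commute_diag_const {k : ZMod p} (hk : k ≠ 0) {h f : ZMod p → Fˣ}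
    (hc : monoU 0 h * monoU k f = monoU k f * monoU 0 h) (a b : ZMod p) : h a = h b := by
  rw [monoU_mul, monoU_mul] at hc
  have h1 := (monoU_inj hc).2
  have step : ∀ a, h a = h (a - k) := by
    intro a
    have := congrFun h1 a
    simp only [sub_zero] at this
    exact mul_right_cancel (b := f a) (by rw [this, mul_comm])
  have step2 : ∀ (j : ℕ) a, h a = h (a - j • k) := by
    intro j
    induction j with
    | zero => simp
    | succ j ih =>
      intro a
      rw [ih a, step (a - j • k), succ_nsmul, sub_sub]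
  have := step2 ((a - b) / k).val a
  rw [this]
  congr 1
  rw [nsmul_eq_mul, ZMod.natCast_zmod_val, div_mul_cancel₀ _ hk]
  ring

lemma zpowers_pow_eq_one {ζ : Fˣ} (hζ : orderOf ζ = p) {u : Fˣ} (hu : u ∈ Subgroup.zpowers ζ) :
    u ^ p = 1 := by
  obtain ⟨n, rfl⟩ := hu
  rw [← zpow_natCast, ← zpow_mul, mul_comm, zpow_mul, zpow_natCast, ← hζ, pow_orderOf_eq_one, one_zpow]

lemma scalar_central (c : Fˣ) (g : Matrix.GeneralLinearGroup (ZMod p) F) :
    g * monoU 0 (fun _ => c) = monoU 0 (fun _ => c) * g := by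
  apply Units.ext
  simp [mono_zero_const]


section conj
variable {ζ : Fˣ}

lemma diag_pow (d : ZMod p → Fˣ) (u : ℕ) :
    (monoU 0 d) ^ u = monoU 0 (fun a => d a ^ u) := by
  rw [monoU_pow]
  simp

lemma diag_const_of_conj (hζ : orderOf ζ = p) {g : Matrix.GeneralLinearGroup (ZMod p) F}
    (hg : g ∈ Subgroup.normalizer (Q0 (p := p) ζ : Set _))
    {d f : ZMod p → Fˣ} {k : ZMod p} (hk : k ≠ 0)
    (hgd : g * monoU 0 d * g⁻¹ = monoU k f) (hf : ∀ a, f a ∈ Subgroup.zpowers ζ)
    (b : ZMod p → Fˣ) (hb : ∀ a, b a ∈ Subgroup.zpowers ζ) :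
    ∃ u : ℕ, ∀ a c, b a * d a ^ u = b c * d c ^ u := by
  have hmem : g * monoU 0 b * g⁻¹ ∈ Q0 (p := p) ζ :=
    (Subgroup.mem_normalizer_iff.1 hg _).1 ⟨0, b, hb, rfl⟩
  obtain ⟨l, h, hh, hl⟩ := hmem
  let u : ℕ := (-l / k).val
  have hu : l + u • k = 0 := by
    rw [nsmul_eq_mul, ZMod.natCast_zmod_val, div_mul_cancel₀ _ hk]
    ring
  refine ⟨u, ?_⟩
  set w := monoU 0 b * (monoU 0 d) ^ u with hw
  have hw' : w = monoU 0 (fun a => b a * d a ^ u) := by
    rw [hw, diag_pow, monoU_mul]
    simp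
  have hy : g * w * g⁻¹ = monoU l h * (monoU k f) ^ u := by
    rw [← hl, ← hgd]
    simp only [hw, mul_pow, conj_pow]
    group
  obtain ⟨H, hH⟩ : ∃ H, g * w * g⁻¹ = monoU 0 H := by
    rw [hy, monoU_pow, monoU_mul, hu]
    exact ⟨_, rfl⟩
  have hcomm : monoU 0 H * monoU k f = monoU k f * monoU 0 H := by
    rw [← hH, ← hgd]
    have : w * monoU 0 d = monoU 0 d * w := by
      rw [hw', monoU_mul, monoU_mul]
      congr 1
      funext a; simp only [sub_zero]; rw [mul_comm]
    calc g * w * g⁻¹ * (g * monoU 0 d * g⁻¹) = g * (w * monoU 0 d) * g⁻¹ := by group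
      _ = g * (monoU 0 d * w) * g⁻¹ := by rw [this]
      _ = _ := by group
  have hconst : ∀ a c, H a = H c := commute_diag_const hk hcomm
  have hHc : H = fun _ => H 0 := by funext a; exact hconst a 0
  have hwH : w = monoU 0 H := by
    rw [hHc] at hH ⊢
    have := scalar_central (H 0) g
    calc w = g⁻¹ * (g * w * g⁻¹) * g := by group
      _ = g⁻¹ * (monoU 0 (fun _ => H 0) * g) := by rw [hH]; group
      _ = g⁻¹ * (g * monoU 0 (fun _ => H 0)) := by rw [this]
      _ = _ := by group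
  rw [hw'] at hwH
  have h3 := (monoU_inj hwH).2
  intro a c
  rw [congrFun h3 a, congrFun h3 c]
  exact hconst a c

lemma three_distinct (hp : p ≠ 2) :
    (0 : ZMod p) ≠ 1 ∧ (1 : ZMod p) ≠ 2 ∧ (0 : ZMod p) ≠ 2 := by
  refine ⟨zero_ne_one, ?_, ?_⟩
  · intro h
    have : (1 : ZMod p) = 0 := by
      have h2 : (2 : ZMod p) = 1 + 1 := by norm_num
      rw [h2] at h
      simpa using h
    exact one_ne_zero this
  · intro h
    have h3 : ((2 : ℕ) : ZMod p) = 0 := by exact_mod_cast h.symm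
    rw [ZMod.natCast_eq_zero_iff] at h3
    have := (Nat.prime_dvd_prime_iff_eq (Fact.out : p.Prime) Nat.prime_two).1 h3
    exact hp this

/-- a power trick in `μ_p` -/
lemma eq_one_of_pow {ζ : Fˣ} (hζ : orderOf ζ = p) {t s : Fˣ} {u : ℕ}
    (ht : t ^ p = 1) (hs : s ^ p = 1) (hsu : s ^ u = ζ) (htu : t ^ u = 1) : t = 1 := by
  have hpr : p.Prime := Fact.out
  have hpu : ¬ p ∣ u := by
    rintro ⟨m, rfl⟩
    rw [pow_mul, hs, one_pow] at hsu
    have : orderOf ζ = 1 := by rw [← hsu]; simp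
    rw [hζ] at this
    exact hpr.one_lt.ne' this
  have hcop : Nat.Coprime p u := (Nat.Prime.coprime_iff_not_dvd hpr).2 hpu
  have := (pow_gcd_eq_one (a := t) (m := p) (n := u)).2 ⟨ht, htu⟩
  rw [hcop] at this
  simpa using this

lemma conj_A (hp : p ≠ 2) (hζ : orderOf ζ = p) {g : Matrix.GeneralLinearGroup (ZMod p) F}
    (hg : g ∈ Subgroup.normalizer (Q0 (p := p) ζ : Set _))
    (d : ZMod p → Fˣ) (hd : ∀ a, d a ∈ Subgroup.zpowers ζ) :
    ∃ e : ZMod p → Fˣ, (∀ a, e a ∈ Subgroup.zpowers ζ) ∧ g * monoU 0 d * g⁻¹ = monoU 0 e := by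
  have hmem : g * monoU 0 d * g⁻¹ ∈ Q0 (p := p) ζ :=
    (Subgroup.mem_normalizer_iff.1 hg _).1 ⟨0, d, hd, rfl⟩
  obtain ⟨k, f, hf, hk⟩ := hmem
  by_cases hk0 : k = 0
  · subst hk0; exact ⟨f, hf, hk⟩
  exfalso
  obtain ⟨h01, h12, h02⟩ := three_distinct (p := p) hp
  have hζmem : ζ ∈ Subgroup.zpowers ζ := Subgroup.mem_zpowers ζ
  have hζ1 : ζ ≠ 1 := by
    intro h
    have : orderOf ζ = 1 := by rw [h]; simp
    rw [hζ] at this
    exact (Fact.out : p.Prime).one_lt.ne' this
  obtain ⟨u, hu⟩ := diag_const_of_conj hζ hg hk0 hk hf (fun a => if a = 0 then ζ else 1)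
    (fun a => by split_ifs <;> simp [hζmem, one_mem])
  obtain ⟨v, hv⟩ := diag_const_of_conj hζ hg hk0 hk hf (fun a => if a = 1 then ζ else 1)
    (fun a => by split_ifs <;> simp [hζmem, one_mem])
  have hdp : ∀ a, d a ^ p = 1 := fun a => zpowers_pow_eq_one hζ (hd a)
  have ratio : ∀ a c, (d a / d c) ^ p = 1 := by
    intro a c; rw [div_pow, hdp, hdp]; simp
  have u01 := hu 0 1
  have u12 := hu 1 2
  have v01 := hv 0 1
  have v02 := hv 0 2
  simp only [if_true, if_neg h01.symm, if_neg h12.symm, if_neg h02.symm, one_mul, if_neg h01] at u01 u12 v01 v02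
  -- d₁ = d₂
  have hs : (d 1 / d 0) ^ u = ζ := by
    rw [div_pow, ← u01]; exact mul_div_cancel_right _ _
  have ht : (d 1 / d 2) ^ u = 1 := by
    rw [div_pow, u12]; simp
  have e12 := eq_one_of_pow hζ (ratio 1 2) (ratio 1 0) hs ht
  have hs2 : (d 0 / d 1) ^ v = ζ := by
    rw [div_pow, v01]; exact mul_div_cancel_right _ _
  have ht2 : (d 0 / d 2) ^ v = 1 := by
    rw [div_pow, v02]; simp
  have e02 := eq_one_of_pow hζ (ratio 0 2) (ratio 0 1) hs2 ht2
  rw [div_eq_one] at e12 e02
  rw [e12, e02] at hs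
  simp at hs
  exact hζ1 hs.symm

lemma row_unique (hp : p ≠ 2) (hζ : orderOf ζ = p) {g : Matrix.GeneralLinearGroup (ZMod p) F}
    (hg : g ∈ Subgroup.normalizer (Q0 (p := p) ζ : Set _)) {a b c : ZMod p}
    (hb : g.1 a b ≠ 0) (hc : g.1 a c ≠ 0) : b = c := by
  obtain ⟨e, -, he⟩ := conj_A hp hζ hg (fun b => ζ ^ b.val) (fun b => pow_mem (Subgroup.mem_zpowers ζ) _)
  have h1 : g * monoU 0 (fun b => ζ ^ b.val) = monoU 0 e * g := by
    rw [← he]; group
  have h2 : g.1 * mono 0 (fun b => ((ζ ^ b.val : Fˣ) : F)) = mono 0 (fun a => (e a : F)) * g.1 :=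
    congrArg Units.val h1
  have key : ∀ x, g.1 a x ≠ 0 → ((ζ ^ x.val : Fˣ) : F) = e a := by
    intro x hx
    have := congrFun (congrFun h2 a) x
    rw [mul_mono_zero_apply, mono_mul_apply, sub_zero, mul_comm] at this
    exact mul_right_cancel₀ hx this
  have h3 : ζ ^ b.val = ζ ^ c.val := Units.ext ((key b hb).trans (key c hc).symm)
  have hlt : ∀ x : ZMod p, x.val < orderOf ζ := fun x => by rw [hζ]; exact ZMod.val_lt x
  have := pow_injOn_Iio_orderOf (hlt b) (hlt c) h3
  exact ZMod.val_injective p this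


/-- `r ^ (a + 1).val = r * r ^ a.val` when `r ^ p = 1`. -/
lemma pow_val_succ {G : Type*} [Monoid G] {r : G} (hr : r ^ p = 1) (a : ZMod p) :
    r ^ (a + 1).val = r ^ a.val * r := by
  haveI : Fact (1 < p) := ⟨(Fact.out : p.Prime).one_lt⟩
  rw [ZMod.val_add, ZMod.val_one, ← pow_eq_pow_mod _ hr, pow_succ]

lemma sum_pow_val (r : Fˣ) (hr : r ^ p = 1) (hr1 : r ≠ 1) :
    ∑ a : ZMod p, ((r ^ a.val : Fˣ) : F) = 0 := by
  set S := ∑ a : ZMod p, ((r ^ a.val : Fˣ) : F) with hS
  have h1 : S * (r : F) = S := by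
    rw [hS, Finset.sum_mul]
    rw [← Equiv.sum_comp (Equiv.addRight (1 : ZMod p)) (fun a : ZMod p => ((r ^ a.val : Fˣ) : F))]
    apply Finset.sum_congr rfl
    intro a _
    simp only [Equiv.coe_addRight]
    rw [pow_val_succ hr]
    simp
  have h2 : S * ((r : F) - 1) = 0 := by
    rw [mul_sub, h1]; simp
  have h3 : (r : F) - 1 ≠ 0 := by
    intro h
    apply hr1
    apply Units.ext
    simpa [sub_eq_zero] using h
  exact (mul_eq_zero.1 h2).resolve_right h3

/-- The Fourier matrix conjugating a regular diagonal matrix to the shift. -/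
def fourier (d : ZMod p → Fˣ) : Matrix (ZMod p) (ZMod p) F :=
  fun a b => (((d b)⁻¹ ^ a.val : Fˣ) : F)

lemma fourier_inv (hp0 : (p : F) ≠ 0) (d : ZMod p → Fˣ) (hd : ∀ a, d a ^ p = 1)
    (hinj : Function.Injective d) :
    (Matrix.of fun (i j : ZMod p) => (p : F)⁻¹ * ((d i ^ j.val : Fˣ) : F)) * fourier d = 1 := by
  ext i j
  simp only [Matrix.mul_apply, Matrix.of_apply, fourier, Matrix.one_apply]
  have h1 : ∀ a : ZMod p, (p : F)⁻¹ * ((d i ^ a.val : Fˣ) : F) * (((d j)⁻¹ ^ a.val : Fˣ) : F)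
      = (p : F)⁻¹ * (((d i * (d j)⁻¹) ^ a.val : Fˣ) : F) := by
    intro a
    rw [mul_pow, Units.val_mul, mul_assoc]
  simp only [h1]
  rw [← Finset.mul_sum]
  by_cases hij : i = j
  · subst hij
    simp only [mul_inv_cancel, one_pow, Units.val_one, if_true, Finset.sum_const, Finset.card_univ,
      ZMod.card, nsmul_eq_mul, mul_one]
    exact inv_mul_cancel₀ hp0
  · have hne : d i * (d j)⁻¹ ≠ 1 := by
      intro h
      exact hij (hinj (mul_inv_eq_one.1 h))
    rw [sum_pow_val _ (by rw [mul_pow, inv_pow, hd, hd]; simp) hne, if_neg hij, mul_zero]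

lemma fourier_intertwine (d : ZMod p → Fˣ) (hd : ∀ a, d a ^ p = 1) :
    fourier d * mono 0 (fun a => (d a : F)) = mono 1 (fun _ => 1) * fourier d := by
  ext a b
  rw [mul_mono_zero_apply, mono_mul_apply, one_mul]
  simp only [fourier]
  have hr : ((d b)⁻¹) ^ p = 1 := by rw [inv_pow, hd]; simp
  have := pow_val_succ hr (a - 1)
  rw [sub_add_cancel] at this
  rw [this, Units.val_mul, mul_assoc, ← Units.val_mul]
  simp


lemma key_diag (hp : p ≠ 2) (hζ : orderOf ζ = p) (hp0 : (p : F) ≠ 0)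
    (d : ZMod p → Fˣ) (hd : ∀ a, d a ∈ Subgroup.zpowers ζ) :
    ∃ g : Matrix.GeneralLinearGroup (ZMod p) F, g * monoU 0 d * g⁻¹ ∈ Q0 (p := p) ζ ∧
      g ∉ Subgroup.normalizer (Q0 (p := p) ζ : Set _) := by
  have hdp : ∀ a, d a ^ p = 1 := fun a => zpowers_pow_eq_one hζ (hd a)
  by_cases hinj : Function.Injective d
  · have h1 := fourier_inv hp0 d hdp hinj
    let h : Matrix.GeneralLinearGroup (ZMod p) F :=
      ⟨fourier d, Matrix.of fun (i j : ZMod p) => (p : F)⁻¹ * ((d i ^ j.val : Fˣ) : F),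
        mul_eq_one_comm.1 h1, h1⟩
    have h2 : h * monoU 0 d = monoU 1 (fun _ => 1) * h := by
      apply Units.ext
      have := fourier_intertwine d hdp
      simpa [h] using this
    have h3 : h * monoU 0 d * h⁻¹ = monoU 1 (fun _ => 1) := by
      rw [h2]; group
    refine ⟨h, ?_, ?_⟩
    · rw [h3]; exact ⟨1, fun _ => 1, fun _ => one_mem _, rfl⟩
    · intro hn
      obtain ⟨e, -, he⟩ := conj_A hp hζ hn d hd
      rw [h3] at he
      exact one_ne_zero (monoU_inj he).1
  · rw [Function.Injective] at hinj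
    push_neg at hinj
    obtain ⟨a, b, hab, hne⟩ := hinj
    let T : Matrix.GeneralLinearGroup (ZMod p) F :=
      ⟨Matrix.transvection a b (1 : F), Matrix.transvection a b (-1 : F),
        by have := Matrix.transvection_mul_transvection_same a b hne (1 : F) (-1); simpa using this,
        by have := Matrix.transvection_mul_transvection_same a b hne (-1 : F) 1; simpa using this⟩
    have hcomm : T * monoU 0 d = monoU 0 d * T := by
      apply Units.ext
      ext i j
      show ((Matrix.transvection a b (1 : F) : Matrix (ZMod p) (ZMod p) F) * mono 0 (fun x => (d x : F))) i j =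
        (mono 0 (fun x => (d x : F)) * (Matrix.transvection a b (1 : F) : Matrix (ZMod p) (ZMod p) F)) i j
      rw [mul_mono_zero_apply, mono_mul_apply, sub_zero]
      by_cases hzero : Matrix.transvection a b (1 : F) i j = 0
      · simp [hzero]
      · have hdij : d i = d j := by
          simp only [Matrix.transvection, Matrix.add_apply, Matrix.one_apply,
            Matrix.single_apply] at hzero
          by_cases hij : i = j
          · rw [hij]
          · by_cases hia : a = i ∧ b = j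
            · rw [← hia.1, ← hia.2]; exact hab
            · simp [hij, hia] at hzero
        rw [hdij, mul_comm]
    refine ⟨T, ?_, ?_⟩
    · rw [hcomm]
      have : monoU 0 d * T * T⁻¹ = monoU 0 d := by group
      rw [this]
      exact ⟨0, d, hd, rfl⟩
    · intro hn
      have h1 : T.1 a a ≠ 0 := by
        show (Matrix.transvection a b (1 : F) : Matrix (ZMod p) (ZMod p) F) a a ≠ 0
        simp [Matrix.transvection, Matrix.single_apply, hne.symm]
      have h2 : T.1 a b ≠ 0 := by
        show (Matrix.transvection a b (1 : F) : Matrix (ZMod p) (ZMod p) F) a b ≠ 0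
        simp [Matrix.transvection, Matrix.single_apply, hne]
      exact hne (row_unique hp hζ hn h1 h2)

lemma key_nondiag (hp : p ≠ 2) (hζ : orderOf ζ = p) (hp0 : (p : F) ≠ 0)
    {k : ZMod p} (hk : k ≠ 0) (f : ZMod p → Fˣ) (hf : ∀ a, f a ∈ Subgroup.zpowers ζ) :
    ∃ g : Matrix.GeneralLinearGroup (ZMod p) F, g * monoU k f * g⁻¹ ∈ Q0 (p := p) ζ ∧
      g ∉ Subgroup.normalizer (Q0 (p := p) ζ : Set _) := by
  have hpr : p.Prime := Fact.out
  have hp3 : 2 < p := lt_of_le_of_ne hpr.two_le (Ne.symm hp)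
  set x := monoU k f with hx
  have hxQ : x ∈ Q0 (p := p) ζ := ⟨k, f, hf, rfl⟩
  set X : Matrix (ZMod p) (ZMod p) F := x.1 with hX
  let Fn : ℕ → ZMod p → Fˣ := fun n a => ∏ j ∈ Finset.range n, f (a - j • k)
  have hXn : ∀ n, X ^ n = mono (n • k) (fun a => (Fn n a : F)) := by
    intro n
    rw [hX, ← Units.val_pow_eq_pow_val, hx, monoU_pow]
    rfl
  have hpk : p • k = 0 := by
    rw [nsmul_eq_mul]; simp
  have hxp : x ^ p = monoU 0 (Fn p) := by
    rw [hx, monoU_pow, hpk]
  have hconst : ∀ a b, Fn p a = Fn p b := by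
    apply commute_diag_const hk
    rw [← hxp, hx, ← pow_succ, ← pow_succ']
  set c : Fˣ := Fn p 0 with hc
  have hFc : Fn p = fun _ => c := by funext a; exact hconst a 0
  have hXp : X ^ p = (c : F) • (1 : Matrix _ _ F) := by
    rw [hXn, hpk, hFc, mono_zero_const]
  set S : Matrix (ZMod p) (ZMod p) F := ∑ i ∈ Finset.range p, X ^ i with hS
  have hgeom : S * (X - 1) = X ^ p - 1 := geom_sum_mul X p
  have hcommS : X * S = S * X :=
    (Commute.sum_right _ _ _ fun i _ => (Commute.refl X).pow_right i).eq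
  have hSentry : ∀ (j : ℕ), j < p → ∀ a, S a (a - j • k) = (Fn j a : F) := by
    intro j hj a
    rw [hS, Matrix.sum_apply]
    simp only [hXn, mono_apply]
    rw [Finset.sum_eq_single j]
    · simp
    · intro i hi hij
      rw [if_neg]
      intro h
      have h1 : i • k = j • k := by simpa using h.symm
      have h2 : (i : ZMod p) = j := by
        simp only [nsmul_eq_mul] at h1
        exact mul_right_cancel₀ hk h1
      rw [ZMod.natCast_eq_natCast_iff'] at h2
      rw [Nat.mod_eq_of_lt (Finset.mem_range.1 hi), Nat.mod_eq_of_lt hj] at h2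
      exact hij h2
    · intro h; exact absurd (Finset.mem_range.2 hj) h
  by_cases hc1 : c = 1
  · -- the order `p` case
    have hXp1 : X ^ p = 1 := by rw [hXp, hc1]; simp
    have hSX : S * X = S := by
      rw [hXp1, sub_self, mul_sub, mul_one, sub_eq_zero] at hgeom
      exact hgeom
    have hSXi : ∀ i, S * X ^ i = S := by
      intro i
      induction i with
      | zero => simp
      | succ i ih => rw [pow_succ, ← mul_assoc, ih, hSX]
    have hSS : S * S = (p : F) • S := by
      calc S * S = S * ∑ i ∈ Finset.range p, X ^ i := congrArg (S * ·) hS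
        _ = ∑ i ∈ Finset.range p, S * X ^ i := Finset.mul_sum _ _ _
        _ = ∑ _i ∈ Finset.range p, S := Finset.sum_congr rfl (fun i _ => hSXi i)
        _ = (p : F) • S := by
          rw [Finset.sum_const, Finset.card_range, Nat.cast_smul_eq_nsmul]
    have hζ1 : (ζ : F) ≠ 1 := by
      intro h
      have h' : ζ = 1 := Units.ext (by simpa using h)
      have : orderOf ζ = 1 := by rw [h']; simp
      rw [hζ] at this
      exact hpr.one_lt.ne' this
    obtain ⟨t, ht0, ht1⟩ : ∃ t : F, t ≠ 0 ∧ 1 + t * p ≠ 0 := by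
      by_cases h : 1 + (ζ : F) * p = 0
      · refine ⟨(ζ : F) ^ 2, pow_ne_zero _ ζ.ne_zero, ?_⟩
        intro h2
        have h4 : (ζ : F) * p = (ζ : F) ^ 2 * p := by linear_combination h - h2
        have h3 : (ζ : F) = (ζ : F) ^ 2 := mul_right_cancel₀ hp0 h4
        apply hζ1
        have h5 : (ζ : F) * (ζ : F) = (ζ : F) * 1 := by rw [mul_one, ← pow_two, ← h3]
        exact mul_left_cancel₀ ζ.ne_zero h5
      · exact ⟨ζ, ζ.ne_zero, h⟩
    set u : F := -t * (1 + t * p)⁻¹ with hu
    have huu : u * (1 + t * p) = -t := by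
      rw [hu, mul_assoc, inv_mul_cancel₀ ht1, mul_one]
    have hmul : ∀ a b : F, (1 + a • S) * (1 + b • S) = 1 + (a + b + a * b * p) • S := by
      intro a b
      rw [mul_add, add_mul, add_mul, one_mul, mul_one, one_mul, smul_mul_smul_comm, hSS, smul_smul,
        add_smul, add_smul]
      abel
    have e1 : (1 + t • S) * (1 + u • S) = 1 := by
      rw [hmul, show t + u + t * u * p = 0 by linear_combination huu, zero_smul, add_zero]
    have e2 : (1 + u • S) * (1 + t • S) = 1 := by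
      rw [hmul, show u + t + u * t * p = 0 by linear_combination huu, zero_smul, add_zero]
    let g : Matrix.GeneralLinearGroup (ZMod p) F := ⟨1 + t • S, 1 + u • S, e1, e2⟩
    have hgx : g * x = x * g := by
      apply Units.ext
      show (1 + t • S) * X = X * (1 + t • S)
      rw [add_mul, mul_add, one_mul, mul_one, smul_mul_assoc, mul_smul_comm, hcommS]
    refine ⟨g, ?_, ?_⟩
    · rw [hgx, mul_inv_cancel_right]; exact hxQ
    · intro hn
      have hrow : ∀ j : ℕ, 0 < j → j < p → g.1 0 (0 - j • k) ≠ 0 := by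
        intro j hj0 hjp
        have hne : (0 : ZMod p) ≠ 0 - j • k := by
          intro h
          have h1 : j • k = 0 := by simpa using h.symm
          rw [nsmul_eq_mul] at h1
          rcases mul_eq_zero.1 h1 with h2 | h2
          · rw [ZMod.natCast_eq_zero_iff] at h2
            exact absurd (Nat.le_of_dvd hj0 h2) (by omega)
          · exact hk h2
        show (1 + t • S) 0 (0 - j • k) ≠ 0
        rw [Matrix.add_apply, Matrix.smul_apply, Matrix.one_apply, if_neg hne, hSentry j hjp 0,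
          smul_eq_mul, zero_add]
        exact mul_ne_zero ht0 (Units.ne_zero _)
      have h12 := row_unique hp hζ hn (hrow 1 one_pos hpr.one_lt) (hrow 2 two_pos hp3)
      have h3 : (1 : ℕ) • k = (2 : ℕ) • k := by simpa using h12
      apply hk
      rw [one_smul, two_smul] at h3
      simpa using h3.symm
  · -- the order `> p` case
    have hc1' : (c : F) - 1 ≠ 0 := by
      intro h
      apply hc1
      apply Units.ext
      simpa [sub_eq_zero] using h
    have hgeom' : (X - 1) * S = ((c : F) - 1) • (1 : Matrix _ _ F) := by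
      have : (X - 1) * S = S * (X - 1) := by
        rw [sub_mul, mul_sub, one_mul, mul_one, hcommS]
      rw [this, hgeom, hXp, sub_smul, one_smul]
    have hgeom'' : S * (X - 1) = ((c : F) - 1) • (1 : Matrix _ _ F) := by
      rw [hgeom, hXp, sub_smul, one_smul]
    have e1 : (X - 1) * (((c : F) - 1)⁻¹ • S) = 1 := by
      rw [mul_smul_comm, hgeom', smul_smul, inv_mul_cancel₀ hc1', one_smul]
    have e2 : (((c : F) - 1)⁻¹ • S) * (X - 1) = 1 := by
      rw [smul_mul_assoc, hgeom'', smul_smul, inv_mul_cancel₀ hc1', one_smul]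
    let g : Matrix.GeneralLinearGroup (ZMod p) F := ⟨X - 1, ((c : F) - 1)⁻¹ • S, e1, e2⟩
    have hgx : g * x = x * g := by
      apply Units.ext
      show (X - 1) * X = X * (X - 1)
      rw [sub_mul, mul_sub, one_mul, mul_one]
    refine ⟨g, ?_, ?_⟩
    · rw [hgx, mul_inv_cancel_right]; exact hxQ
    · intro hn
      have hX' : X = mono k (fun a => (f a : F)) := rfl
      have hne : (0 : ZMod p) ≠ 0 - k := by
        intro h
        exact hk (by simpa using h.symm)
      have h1 : g.1 0 0 ≠ 0 := by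
        show (X - 1) 0 0 ≠ 0
        rw [Matrix.sub_apply, hX', mono_apply, if_neg hne, Matrix.one_apply, if_pos rfl]
        simp
      have h2 : g.1 0 (0 - k) ≠ 0 := by
        show (X - 1) 0 (0 - k) ≠ 0
        rw [Matrix.sub_apply, hX', mono_apply, if_pos rfl, Matrix.one_apply, if_neg hne, sub_zero]
        exact Units.ne_zero _
      exact hne (row_unique hp hζ hn h1 h2)

lemma key (hp : p ≠ 2) (hζ : orderOf ζ = p) (hp0 : (p : F) ≠ 0)
    {x : Matrix.GeneralLinearGroup (ZMod p) F} (hx : x ∈ Q0 (p := p) ζ) :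
    ∃ g : Matrix.GeneralLinearGroup (ZMod p) F, g * x * g⁻¹ ∈ Q0 (p := p) ζ ∧
      g ∉ Subgroup.normalizer (Q0 (p := p) ζ : Set _) := by
  obtain ⟨k, f, hf, rfl⟩ := hx
  by_cases hk : k = 0
  · subst hk; exact key_diag hp hζ hp0 f hf
  · exact key_nondiag hp hζ hp0 hk f hf

end conj

lemma val_factor {q : ℕ} (hq1 : 1 < q) (hp : p ≠ 2) (h1 : p ∣ q - 1) (h2 : ¬ p ^ 2 ∣ q - 1)
    (i : ℕ) (hi : i < p) :
    (q ^ p - q ^ i).factorization p = 1 + (if i = 0 then 1 else 0) := by
  have hpr : p.Prime := Fact.out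
  have hodd : Odd p := hpr.odd_of_ne_two hp
  have hq0 : q ≠ 0 := by omega
  have hpq : ¬ p ∣ q := by
    intro h
    have h3 : p ∣ q - (q - 1) := Nat.dvd_sub h h1
    have h4 : q - (q - 1) = 1 := by omega
    rw [h4] at h3
    exact hpr.one_lt.ne' (Nat.dvd_one.1 h3)
  have hq10 : q - 1 ≠ 0 := by omega
  have hv : (q - 1).factorization p = 1 := by
    have h3 := (hpr.dvd_iff_one_le_factorization hq10).1 h1
    have h4 : ¬ 2 ≤ (q - 1).factorization p := fun h5 =>
      h2 ((hpr.pow_dvd_iff_le_factorization hq10).2 h5)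
    omega
  have hsplit : q ^ p - q ^ i = q ^ i * (q ^ (p - i) - 1) := by
    rw [Nat.mul_sub, mul_one, ← pow_add]
    congr 2
    omega
  have hpi : p - i ≠ 0 := by omega
  have hq' : 1 < q ^ (p - i) := Nat.one_lt_pow hpi hq1
  have hne : q ^ (p - i) - 1 ≠ 0 := by omega
  have hv2 : (q ^ (p - i) - 1).factorization p = 1 + (p - i).factorization p := by
    have hv' : padicValNat p (q - 1) = 1 := by rw [← Nat.factorization_def _ hpr]; exact hv
    rw [Nat.factorization_def _ hpr, Nat.factorization_def _ hpr]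
    have := padicValNat.pow_sub_pow (p := p) (x := q) (y := 1) hodd hq1 h1 hpq hpi
    simp only [one_pow] at this
    rw [this, hv']
  rw [hsplit, Nat.factorization_mul (pow_ne_zero _ hq0) hne, Finsupp.add_apply, hv2,
    Nat.factorization_pow, Finsupp.smul_apply, smul_eq_mul,
    Nat.factorization_eq_zero_of_not_dvd hpq, mul_zero, zero_add]
  congr 1
  split_ifs with hi0
  · subst hi0
    simpa using hpr.factorization_self
  · apply Nat.factorization_eq_zero_of_not_dvd
    intro h
    have := Nat.le_of_dvd (by omega) h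
    omega

lemma card_factorization {K : Type*} [Field K] [Fintype K] (hp : p ≠ 2)
    (h1 : p ∣ Fintype.card K - 1) (h2 : ¬ p ^ 2 ∣ Fintype.card K - 1) :
    (Nat.card (Matrix.GeneralLinearGroup (Fin p) K)).factorization p = p + 1 := by
  have hq1 : 1 < Fintype.card K := Fintype.one_lt_card
  rw [Matrix.card_GL_field, Nat.factorization_prod, Finsupp.finsetSum_apply]
  · have hsum : ∀ i : Fin p, (Fintype.card K ^ p - Fintype.card K ^ (i : ℕ)).factorization p =
        1 + (if (i : ℕ) = 0 then 1 else 0) := fun i => val_factor hq1 hp h1 h2 i i.2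
    simp only [hsum]
    rw [Finset.sum_add_distrib]
    have hpos : 0 < p := (Fact.out : p.Prime).pos
    have : ∑ i : Fin p, (if (i : ℕ) = 0 then 1 else 0) = 1 := by
      rw [Finset.sum_eq_single (⟨0, hpos⟩ : Fin p)]
      · simp
      · intro b _ hb
        rw [if_neg]
        intro h
        exact hb (Fin.ext h)
      · intro h; exact absurd (Finset.mem_univ _) h
    rw [this]
    simp
  · intro i _
    have hlt : Fintype.card K ^ (i : ℕ) < Fintype.card K ^ p := Nat.pow_lt_pow_right hq1 i.2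
    omega

lemma mem_smul_sylow {G : Type*} [Group G] {r : ℕ} {g x : G} {P : Sylow r G} :
    x ∈ g • P ↔ g⁻¹ * x * g ∈ P := by
  change x ∈ (MulAut.conj g • (P : Subgroup G)) ↔ _
  rw [Subgroup.mem_pointwise_smul_iff_inv_smul_mem]
  simp [MulAut.smul_def]
  rfl

theorem two_sylows {K : Type*} [Field K] [Fintype K] {ζ : Kˣ} (hp : p ≠ 2) (hζ : orderOf ζ = p)
    (hp0 : (p : K) ≠ 0)
    (hcard : (Nat.card (Matrix.GeneralLinearGroup (ZMod p) K)).factorization p = p + 1)
    (x : Matrix.GeneralLinearGroup (ZMod p) K) (hx : ∃ k : ℕ, orderOf x = p ^ k) :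
    ∃ P P' : Sylow p (Matrix.GeneralLinearGroup (ZMod p) K), P ≠ P' ∧ x ∈ P ∧ x ∈ P' := by
  obtain ⟨n, hn⟩ := hx
  let Q : Sylow p (Matrix.GeneralLinearGroup (ZMod p) K) :=
    Sylow.ofCard (Q0 (p := p) ζ) (by rw [card_Q0 ζ hζ, hcard])
  have hQ : ∀ y, y ∈ Q ↔ y ∈ Q0 (p := p) ζ := fun y => Iff.rfl
  have hpg : IsPGroup p (Subgroup.zpowers x) :=
    IsPGroup.of_card (n := n) (by rw [Nat.card_zpowers, hn])
  obtain ⟨R, hR⟩ := hpg.exists_le_sylow
  have hxR : x ∈ R := hR (Subgroup.mem_zpowers x)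
  obtain ⟨h, hh⟩ := MulAction.exists_smul_eq (Matrix.GeneralLinearGroup (ZMod p) K) R Q
  have hy : h * x * h⁻¹ ∈ Q0 (p := p) ζ := by
    rw [← hQ, ← hh, mem_smul_sylow]
    simpa [mul_assoc] using hxR
  obtain ⟨g, hg1, hg2⟩ := key hp hζ hp0 hy
  refine ⟨h⁻¹ • Q, h⁻¹ • (g⁻¹ • Q), ?_, ?_, ?_⟩
  · intro hne
    have h3 : g⁻¹ • Q = Q := (smul_left_cancel_iff (h⁻¹)).1 hne.symm
    have h4 : g⁻¹ ∈ Subgroup.normalizer
        ((Q : Subgroup (Matrix.GeneralLinearGroup (ZMod p) K)) :
          Set (Matrix.GeneralLinearGroup (ZMod p) K)) := Sylow.smul_eq_iff_mem_normalizer.1 h3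
    exact hg2 (inv_mem_iff.1 h4)
  · rw [mem_smul_sylow, hQ]
    simpa using hy
  · rw [mem_smul_sylow, mem_smul_sylow, hQ]
    simpa [mul_assoc] using hg1

lemma transfer_sylows {G H : Type*} [Group G] [Group H] [Finite G] {r : ℕ} [Fact r.Prime] (φ : G ≃* H)
    (h : ∀ x : G, (∃ k : ℕ, orderOf x = r ^ k) → ∃ P P' : Sylow r G, P ≠ P' ∧ x ∈ P ∧ x ∈ P')
    (y : H) (hy : ∃ k : ℕ, orderOf y = r ^ k) :
    ∃ P P' : Sylow r H, P ≠ P' ∧ y ∈ P ∧ y ∈ P' := by
  have hy' : ∃ k : ℕ, orderOf (φ.symm y) = r ^ k := by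
    obtain ⟨k, hk⟩ := hy
    exact ⟨k, by rw [MulEquiv.orderOf_eq, hk]⟩
  obtain ⟨P, P', hne, hP, hP'⟩ := h _ hy'
  have hf : Function.Surjective φ.toMonoidHom := φ.surjective
  have hmem : ∀ R : Sylow r G, φ.symm y ∈ R → y ∈ R.mapSurjective hf := by
    intro R hR
    show y ∈ ((R.mapSurjective hf : Sylow r H) : Subgroup H)
    rw [Sylow.coe_mapSurjective]
    exact ⟨φ.symm y, hR, by simp⟩
  refine ⟨P.mapSurjective hf, P'.mapSurjective hf, ?_, hmem P hP, hmem P' hP'⟩
  intro h'
  apply hne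
  apply Sylow.ext
  apply Subgroup.map_injective (f := φ.toMonoidHom) φ.injective
  have := congrArg (fun R : Sylow r H => (R : Subgroup H)) h'
  simpa only [Sylow.coe_mapSurjective] using this

/-- Let p be an odd prime and F a finite field with q elements such that p divides q - 1 but p² does not. Then GL(p, F) has a Sylow p-subgroup Q such that every element of p-power order lies in some Sylow p-subgroup other than Q (a redundant Sylow p-subgroup). -/
theorem result {F : Type*} [Field F] [Fintype F] (p : ℕ) [Fact p.Prime]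
    (hp : p ≠ 2) (h1 : p ∣ Fintype.card F - 1) (h2 : ¬ p ^ 2 ∣ Fintype.card F - 1) :
    ∃ Q : Sylow p (Matrix.GeneralLinearGroup (Fin p) F), ∀ x : Matrix.GeneralLinearGroup (Fin p) F,
      (∃ k : ℕ, orderOf x = p ^ k) → ∃ P : Sylow p (Matrix.GeneralLinearGroup (Fin p) F), P ≠ Q ∧ x ∈ P := by
  classical
  have hpr : p.Prime := Fact.out
  have hq1 : 1 < Fintype.card F := Fintype.one_lt_card
  obtain ⟨ζ, hζ⟩ : ∃ ζ : Fˣ, orderOf ζ = p := by
    apply exists_prime_orderOf_dvd_card' p
    rw [Nat.card_eq_fintype_card, Fintype.card_units]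
    exact h1
  have hp0 : (p : F) ≠ 0 := by
    intro h
    obtain ⟨m, hm⟩ := h1
    have h3 : Fintype.card F = p * m + 1 := by omega
    have h4 : ((Fintype.card F : ℕ) : F) = 0 := Nat.cast_card_eq_zero F
    rw [h3] at h4
    push_cast at h4
    rw [h, zero_mul, zero_add] at h4
    exact one_ne_zero h4
  let e : ZMod p ≃ Fin p := Fintype.equivFinOfCardEq (ZMod.card p)
  let φ : Matrix.GeneralLinearGroup (ZMod p) F ≃* Matrix.GeneralLinearGroup (Fin p) F :=
    Units.mapEquiv (Matrix.reindexAlgEquiv F F e).toMulEquiv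
  have hcard : (Nat.card (Matrix.GeneralLinearGroup (ZMod p) F)).factorization p = p + 1 := by
    rw [Nat.card_congr φ.toEquiv]
    exact card_factorization hp h1 h2
  obtain ⟨Q⟩ : Nonempty (Sylow p (Matrix.GeneralLinearGroup (Fin p) F)) := inferInstance
  refine ⟨Q, fun x hx => ?_⟩
  obtain ⟨P1, P2, hne, hP1, hP2⟩ := transfer_sylows φ (two_sylows hp hζ hp0 hcard) x hx
  by_cases hq : P1 = Q
  · refine ⟨P2, ?_, hP2⟩
    rw [← hq]
    exact hne.symm
  · exact ⟨P1, hq, hP1⟩

end Cfsg.Agent.S4358
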