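import Cfsg.Statements.S4395
import Mathlib
import Cfsg.Agent.Lib.Schmidt.Model
import Cfsg.Agent.Lib.Schmidt.Section
import Cfsg.Agent.Lib.Schmidt.Lift
import Cfsg.Agent.Lib.Schmidt.CtxOf

set_option autoImplicit false
universe u
open Cfsg

namespace Cfsg.Agent.S4395

open Cfsg.Agent.Lib.Schmidt.Group Cfsg.Agent.Lib.Schmidt.Struct

/-- Replacing `g` by a power prime to `q`. -/
theorem ctx_pow {X : Type u} [Group X] [Finite X] {p q r : ℕ} [Fact p.Prime] [hq : Fact q.Prime]
    {P : Subgroup X} {g : X} (hc : Ctx p q r P g) {k : ℕ} (hk : Nat.Coprime k q) :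
    Ctx p q r P (g ^ k) ∧ cent P (g ^ k) = cent P g := by
  have hcop : Nat.Coprime k (q ^ r) := Nat.Coprime.pow_right r hk
  have hn1 : 1 < q ^ r := Nat.one_lt_pow (by have := hc.rpos; omega) hq.out.one_lt
  have hord : orderOf (g ^ k) = q ^ r := by
    have h0 : (orderOf g).Coprime k := by
      rw [hc.order]
      exact hcop.symm
    rw [Nat.Coprime.orderOf_pow h0, hc.order]
  obtain ⟨m, -, hm⟩ := Nat.exists_mul_mod_eq_one_of_coprime hcop hn1
  have hgk : (g ^ k) ^ m = g := by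
    rw [← pow_mul, ← pow_mod_orderOf, hc.order, hm, pow_one]
  refine ⟨⟨hc.normal, hc.pgroup, hord, ?_, hc.nil, hc.nonnil, hc.ne, hc.rpos⟩, ?_⟩
  · rw [eq_top_iff, ← hc.sup]
    apply sup_le le_sup_left
    refine le_trans ?_ le_sup_right
    rw [Subgroup.zpowers_le]
    have h5 : (g ^ k) ^ m ∈ Subgroup.zpowers (g ^ k) :=
      Subgroup.pow_mem _ (Subgroup.mem_zpowers (g ^ k)) m
    rwa [hgk] at h5
  · ext x
    rw [mem_cent, mem_cent]
    refine and_congr_right fun _ => ?_
    constructor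
    · intro h
      have h1 : Commute (g ^ k) x := h
      have h2 := h1.pow_left m
      rw [hgk] at h2
      exact h2
    · intro h
      have h1 : Commute g x := h
      exact h1.pow_left k

/-- Let p ≠ q be primes, r ≥ 1, a the multiplicative order of p modulo q, and a₀ = a when a is odd, a₀ = 3a/2 when a is even. Call a finite group minimal non-p-nilpotent when it has no normal p-complement but every proper subgroup has one. Then there is a minimal non-p-nilpotent group G₀ of order p^a₀ · q^r such that every minimal non-p-nilpotent group of order p^t · q^r (any t) is a quotient of G₀ by a central subgroup. -/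
theorem result (p q r : ℕ) [Fact p.Prime] [Fact q.Prime] (hpq : p ≠ q) (hr : 1 ≤ r) (a a₀ : ℕ)
    (ha : a = orderOf (p : ZMod q)) (ha₀ : a₀ = if a % 2 = 1 then a else 3 * a / 2) :
    ∃ (G₀ : Type u) (_ : Group G₀) (_ : Finite G₀),
      (¬ Cfsg.HasNormalPComplement p G₀ ∧ ∀ K : Subgroup G₀, K ≠ ⊤ → Cfsg.HasNormalPComplement p ↥K) ∧ Nat.card G₀ = p ^ a₀ * q ^ r ∧
      ∀ (X : Type u) [Group X] [Finite X], (¬ Cfsg.HasNormalPComplement p X ∧ ∀ K : Subgroup X, K ≠ ⊤ → Cfsg.HasNormalPComplement p ↥K) →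
        (∃ t : ℕ, Nat.card X = p ^ t * q ^ r) → ∃ φ : G₀ →* X, Function.Surjective φ ∧ φ.ker ≤ Subgroup.center G₀ := by
  classical
  obtain ⟨F, _, _, _, Z, _, _, b, D, hF, hZ, hab, hζ, hspan, huniv⟩ :=
    Cfsg.Agent.Lib.Schmidt.Model.exists_model.{u} p q r a a₀ hpq hr ha ha₀
  haveI : NeZero (q ^ r) := ⟨pow_ne_zero _ (Fact.out : q.Prime).ne_zero⟩
  let e : ULift.{u} (Gp D) ≃* Gp D := MulEquiv.ulift
  refine ⟨ULift.{u} (Gp D), inferInstance, inferInstance, ⟨?_, ?_⟩, ?_, ?_⟩
  · rw [Cfsg.Agent.Lib.Transfer.Basic.HasNormalPComplement_congr e]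
    exact Cfsg.Agent.Lib.Schmidt.Props.hasNormal_false hpq hr rfl hF hZ
  · intro K hK
    have hK' : K.map e.toMonoidHom ≠ ⊤ := by
      intro h
      apply hK
      rw [eq_top_iff]
      intro x _
      have h1 : e x ∈ K.map e.toMonoidHom := by
        rw [h]
        trivial
      obtain ⟨y, hy, hyx⟩ := h1
      have : y = x := e.injective hyx
      exact this ▸ hy
    have hgen := Cfsg.Agent.Lib.Schmidt.Field.eq_bot_or_top ha hF hζ D.hne
    haveI := Cfsg.Agent.Lib.Schmidt.Props.nilpotent_of_ne_top hr rfl hF hZ hζ hgen hspan _ hK'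
    have he : K ≃* K.map e.toMonoidHom := e.subgroupMap K
    haveI : Group.IsNilpotent K := Subgroup.isNilpotent_of_ker_le_center he.toMonoidHom (by
      intro x hx
      have h0 : he x = 1 := hx
      rw [he.map_eq_one_iff] at h0
      rw [h0]
      exact Subgroup.one_mem _)
    exact Cfsg.Agent.Lib.Transfer.NilpMax.hnpc_of_isNilpotent p
  · rw [Nat.card_congr e.toEquiv, Cfsg.Agent.Lib.Schmidt.Group.Gp.card_eq, hF, hZ, ← hab, pow_add]
  · rintro X _ _ ⟨h1, h2⟩ ⟨t, ht⟩
    obtain ⟨P, g, hc⟩ := Cfsg.Agent.Lib.Schmidt.CtxOf.exists_ctx hpq hr h1 h2 ht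
    obtain ⟨k, L, hk, hLP, hLadd, hLζ, hL0⟩ := Cfsg.Agent.Lib.Schmidt.Section.exists_L hc ha hF hζ D.hne
    obtain ⟨hc₁, hcent⟩ := ctx_pow hc hk
    obtain ⟨φ, hφ, hker⟩ := Cfsg.Agent.Lib.Schmidt.Lift.exists_phi hc₁ D hspan
      (fun f hf0 hf => huniv _ f hf0 hf) L hLP
      (by rw [hcent]; exact hLadd) (by rw [hcent]; exact hLζ) (by rw [hcent]; exact hL0)
    refine ⟨φ.comp e.toMonoidHom, hφ.comp e.surjective, ?_⟩
    intro x hx
    have h3 : e x ∈ φ.ker := hx
    have h4 := hker h3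
    rw [Subgroup.mem_center_iff] at h4 ⊢
    intro y
    apply e.injective
    rw [map_mul, map_mul]
    exact h4 (e y)

end Cfsg.Agent.S4395
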