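import Cfsg.Statements.S4530
import Mathlib
import Cfsg.Agent.Lib.Blocks.Quat7c
import Cfsg.Agent.Lib.Blocks.Quat9
import Cfsg.Agent.S0908
import Cfsg.Agent.Lib.Blocks.CentralQuot
import Cfsg.Agent.Lib.Blocks.AbLat1

set_option autoImplicit false
set_option linter.style.haveILetI false
open Cfsg

namespace Cfsg.Agent.S4530

open Cfsg.Agent.Lib.Blocks.Quat Cfsg.Agent.Lib.Blocks.Sections Cfsg.Agent.Lib.Blocks.Central
open Cfsg.Agent.Lib.Blocks.Tame Cfsg.Agent.Lib.Blocks.MajorSub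

/-- Let B be a 2-block of the finite group G (relative to a maximal ideal M of the algebraic integers containing 2) whose defect group D is generalized quaternion of order 2 ^ n, n ≥ 3. Then its 2-regular rank l is between 1 and 3, the number of irreducible characters in B is l + 2 ^ (n - 2) + 2, exactly four members have height zero, and every other member has height one or height n - 2; when n ≥ 4 exactly 2 ^ (n - 2) - 1 members have height one. -/
theorem result {G : Type*} [Group G] [Finite G] (M : Ideal Cfsg.AlgInt) (hM : Cfsg.IsPModular 2 M) (B : Set (Cfsg.IrrCharacter G)) (hB : Cfsg.IsPBlock M B) (D : Subgroup G) (hD : Cfsg.IsDefectGroup 2 M B D) (n : ℕ) (hn : 3 ≤ n) (hq : Nonempty (D ≃* QuaternionGroup (2 ^ (n - 2)))) : 1 ≤ Cfsg.blockRank 2 B ∧ Cfsg.blockRank 2 B ≤ 3 ∧ Nat.card B = Cfsg.blockRank 2 B + 2 ^ (n - 2) + 2 ∧ Nat.card {χ : Cfsg.IrrCharacter G // χ ∈ B ∧ Cfsg.blockHeight 2 B (χ : G → ℂ) = 0} = 4 ∧ (∀ χ ∈ B,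 Cfsg.blockHeight 2 B (χ : G → ℂ) = 0 ∨ Cfsg.blockHeight 2 B (χ : G → ℂ) = 1 ∨ Cfsg.blockHeight 2 B (χ : G → ℂ) = n - 2) ∧ (4 ≤ n → Nat.card {χ : Cfsg.IrrCharacter G // χ ∈ B ∧ Cfsg.blockHeight 2 B (χ : G → ℂ) = 1} = 2 ^ (n - 2) - 1) := by
  classical
  letI : Fintype G := Fintype.ofFinite G
  haveI : Fact (Nat.Prime 2) := ⟨Nat.prime_two⟩
  haveI : M.IsPrime := hM.2.1.isPrime
  obtain ⟨x, t, hd, hcardD⟩ := exists_quatD hn hq
  have hcB := card_B hM hB hD hn hq hd
  have hn1 : (2 : ℕ) ^ (n - 1) = 2 * 2 ^ (n - 2) := by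
    rw [← pow_succ']
    congr 1
    omega
  obtain ⟨K, hK⟩ : ∃ K : Subgroup G, K = Subgroup.normalizer
      ((Subgroup.zpowers (QuatD.ww x (2 ^ (n - 2))) : Subgroup G) : Set G) := ⟨_, rfl⟩
  letI : Fintype K := Fintype.ofFinite _
  have hDK : D ≤ K := hK ▸ hd.D_le_norm
  obtain ⟨b, e, χ₀, L, hQ⟩ := exists_qcol hM hB hD hd hK hDK (k := n - 1) (by omega) hn1
  letI : Fintype (D.subgroupOf K) := Fintype.ofFinite _
  obtain ⟨J, hJ⟩ : ∃ J, 2 ^ (n - 2) = 2 * (J + 1) := by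
    refine ⟨2 ^ (n - 3) - 1, ?_⟩
    have h1 : 2 ^ (n - 2) = 2 * 2 ^ (n - 3) := by
      rw [← pow_succ']
      congr 1
      omega
    have h2 : 1 ≤ 2 ^ (n - 3) := Nat.one_le_two_pow
    omega
  have hζ := Complex.isPrimitiveRoot_exp (2 ^ (n - 1)) (by positivity)
  have hfq := hQ.fq hζ
  obtain ⟨nn, mm, v, ee, hnn, hmm, hvn, hvv, hnm, hvm, hFN, hδ, -, -, -⟩ :=
    hfq.exists_ints hQ.half_eq hJ (fun κ i => hQ.qc_nat hζ κ i)
  set S := Finset.univ.filter (· ∈ B) with hS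
  have hmemS : ∀ {χ}, χ ∈ S ↔ χ ∈ B := by
    intro χ
    simp [hS]
  -- the degrees
  set d : IrrCharacter G → ℤ := fun χ => ((charDegree (χ : G → ℂ) : ℕ) : ℤ) with hddef
  have hdpos : ∀ χ ∈ S, 0 < d χ := by
    intro χ _
    have h4 := Cfsg.Agent.Lib.Char.Ortho.irr_apply_one_ne_zero χ.2
    rw [← Cfsg.Agent.Lib.Blocks.RegInt.charDegree_cast χ] at h4
    have h5 : charDegree (χ : G → ℂ) ≠ 0 := by exact_mod_cast h4
    have h6 := Nat.pos_of_ne_zero h5
    simp only [hddef]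
    exact_mod_cast h6
  obtain ⟨h1n, h1m, h1v⟩ := hδ (fun χ => (χ : G → ℂ) 1) (fun l h0 hl _ => hQ.F_orth_one h0 (by rwa [hQ.hNk] at hl))
  have hcast : ∀ u : IrrCharacter G → ℤ, ∑ χ ∈ S, (χ : G → ℂ) 1 * (u χ : ℂ) = 0 → ∑ χ ∈ S, d χ * u χ = 0 := by
    intro u hu
    apply Int.cast_injective (α := ℂ)
    push_cast
    rw [← hu]
    refine Finset.sum_congr rfl fun χ _ => ?_
    simp only [hddef]
    push_cast
    rw [Cfsg.Agent.Lib.Blocks.RegInt.charDegree_cast χ]
  -- the involution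
  letI : Fintype (Cen (x ^ 2 ^ (n - 2))) := Fintype.ofFinite _
  obtain ⟨hDW, bz, hbz, hdef⟩ := exists_bz hM hB hD hd
  have hzo : orderOf (x ^ 2 ^ (n - 2)) = 2 ^ 1 := hQ.z_order (by simp)
  obtain ⟨X, hX⟩ := hQ.exists_X (z := x ^ 2 ^ (n - 2)) (by simp) bz
  have hc1 := Cfsg.Agent.S0908.result 2 M hM bz hbz.1 _ hdef
  have hc2 := Cfsg.Agent.S0908.result 2 M hM B hB D hD
  have hc3 : Nat.card (D.subgroupOf (Cen (x ^ 2 ^ (n - 2)))) = Nat.card D :=
    Nat.card_congr (Subgroup.subgroupOfEquivOfLe hDW).toEquiv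
  have hc4 : Nat.card (D.subgroupOf K) = Nat.card D := Nat.card_congr (Subgroup.subgroupOfEquivOfLe hDK).toEquiv
  have hdd : blockDefect 2 bz = blockDefect 2 B := by
    apply Nat.pow_right_injective (le_refl 2)
    show 2 ^ _ = 2 ^ _
    rw [← hc1, ← hc2, hc3]
  have hpowB : (2 : ℤ) ^ blockDefect 2 B = 4 * 2 ^ (n - 2) := by
    have h1 : 2 ^ blockDefect 2 B = 4 * 2 ^ (n - 2) := by rw [← hc2, hcardD]
    exact_mod_cast h1
  have hXs := X_symm hX
  have hXδ : ∀ a : IrrCharacter G, (∀ t < J, ∑ χ ∈ S, (X a χ : ℂ) * (nn χ t : ℂ) = 0) ∧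
      (∀ t < J, ∑ χ ∈ S, (X a χ : ℂ) * (mm χ t : ℂ) = 0) ∧ ∑ χ ∈ S, (X a χ : ℂ) * (v χ : ℂ) = 0 := by
    intro a
    refine hδ (fun χ => (X a χ : ℂ)) (fun l h0 hl hne => ?_)
    have h1 := hQ.XX_orth (z := x ^ 2 ^ (n - 2)) (by simp) hbz a h0 (by rwa [hQ.hNk] at hl) hne
    rw [← h1]
    refine Finset.sum_congr rfl fun χ _ => ?_
    rw [hX χ a, hXs χ a]
  -- the column at the involution
  obtain ⟨E, hE, hFE⟩ := hQ.exists_central (z := x ^ 2 ^ (n - 2)) (by simp)
  have hw : ∀ χ ∈ B, ((Yf (n - 2) J nn mm v ee χ : ℤ) : ℂ) =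
      (2 : ℂ) ^ blockDefect 2 B * (((χ : G → ℂ) 1 / (Nat.card G : ℂ)) * omega (χ : G → ℂ) E) := by
    intro χ _
    have h1 := hFN χ
    rw [hFE χ, hc4, hc2] at h1
    unfold Yf
    push_cast at h1 ⊢
    exact h1.symm
  -- the lattices
  have hT : 3 ≤ J → 2 ≤ Fintype.card (Fin J) := by
    intro h3
    rw [Fintype.card_fin]
    omega
  have hlatn : 3 ≤ J → ∃ (dd ε : ℤ) (f : Fin J → IrrCharacter G) (a : IrrCharacter G → ℤ), Function.Injective f ∧
      (∀ t, f t ∈ S) ∧ (ε = 1 ∨ ε = -1) ∧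
      (∀ s t : Fin J, nn (f t) s.val = dd - ε * if s = t then 1 else 0) ∧
      (∀ t : Fin J, ∀ i ∈ S, i ∉ Set.range f → nn i t.val = a i) ∧
      ∑ i ∈ S.filter (· ∉ Set.range f), a i ^ 2 = 2 - (J : ℤ) * dd ^ 2 + 2 * (dd * ε) := by
    intro h3
    obtain ⟨dd, ε, f, a, a1, a2, a3, a4, a5, a6⟩ := Cfsg.Agent.Lib.Blocks.AbFree.lattice_std2 (T := Fin J) S
      (fun χ t => nn χ t.val) 2 (fun s t => by
        have h4 := hnn s.val s.isLt t.val t.isLt
        by_cases hst : s = t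
        · rw [if_pos hst]
          rw [if_pos (by rw [hst])] at h4
          rw [h4]
          norm_num
        · rw [if_neg hst]
          rw [if_neg (fun h5 => hst (Fin.ext h5))] at h4
          rw [h4]
          norm_num)
      (fun t => by
        rw [← h1n t.val t.isLt]
        refine Finset.sum_congr rfl fun χ _ => ?_
        ring) (hT h3)
    refine ⟨dd, ε, f, a, a1, a2, a3, a4, a5, ?_⟩
    rw [Fintype.card_fin] at a6
    have h6 : ((2 : ℕ) : ℤ) = 2 := by norm_num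
    rw [h6] at a6
    rw [← a6]
  have hlatm : 3 ≤ J → ∃ (dd ε : ℤ) (f : Fin J → IrrCharacter G) (a : IrrCharacter G → ℤ), Function.Injective f ∧
      (∀ t, f t ∈ S) ∧ (ε = 1 ∨ ε = -1) ∧
      (∀ s t : Fin J, mm (f t) s.val = dd - ε * if s = t then 1 else 0) ∧
      (∀ t : Fin J, ∀ i ∈ S, i ∉ Set.range f → mm i t.val = a i) ∧
      ∑ i ∈ S.filter (· ∉ Set.range f), a i ^ 2 = 1 - (J : ℤ) * dd ^ 2 + 2 * (dd * ε) := by
    intro h3
    obtain ⟨dd, ε, f, a, a1, a2, a3, a4, a5, a6⟩ := Cfsg.Agent.Lib.Blocks.AbFree.lattice_std2 (T := Fin J) S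
      (fun χ t => mm χ t.val) 1 (fun s t => by
        have h4 := hmm s.val s.isLt t.val t.isLt
        by_cases hst : s = t
        · rw [if_pos hst]
          rw [if_pos (by rw [hst])] at h4
          rw [h4]
          norm_num
        · rw [if_neg hst]
          rw [if_neg (fun h5 => hst (Fin.ext h5))] at h4
          rw [h4]
          norm_num)
      (fun t => by
        rw [← h1m t.val t.isLt]
        refine Finset.sum_congr rfl fun χ _ => ?_
        ring) (hT h3)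
    refine ⟨dd, ε, f, a, a1, a2, a3, a4, a5, ?_⟩
    rw [Fintype.card_fin] at a6
    have h6 : ((1 : ℕ) : ℤ) = 1 := by norm_num
    rw [h6] at a6
    rw [← a6]
  have hcSB : Nat.card B = S.card := by
    rw [Nat.card_eq_fintype_card, Fintype.card_subtype]
  have hrk : 1 ≤ blockRank 2 B := Cfsg.Agent.Lib.Blocks.CentralQuot.blockRank_pos hB
  have H : QNum S J (n - 2) (blockRank 2 B) nn mm v d ee X (fun χ => blockHeight 2 B (χ : G → ℂ)) :=
    { hnn := hnn
      hmm := hmm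
      hvn := hvn
      hvv := hvv
      hnm := hnm
      hvm := hvm
      hd := hdpos
      hdn := fun t ht => hcast _ (h1n t ht)
      hdm := fun t ht => hcast _ (h1m t ht)
      hdv := hcast _ h1v
      hg := by omega
      hJg := hJ.symm
      hXs := hXs
      hXr := by
        intro a _ c _
        have h1 := X_row hM hzo hbz hX a c
        rw [hdd, hpowB] at h1
        exact h1
      hXn := by
        intro a _ s hs
        have h1 := (hXδ a).1 s hs
        exact_mod_cast h1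
      hXm := by
        intro a _ s hs
        have h1 := (hXδ a).2.1 s hs
        exact_mod_cast h1
      hXv := by
        intro a _
        have h1 := (hXδ a).2.2
        exact_mod_cast h1
      hXo := by
        intro a ha c hc h0
        exact X_odd hM hzo hbz hdd hX (hmemS.mp ha) (hmemS.mp hc) h0
      hYv := by
        rintro ⟨i, hi, hodd⟩ χ hχ
        exact val_of_central hM hB hE hw (hmemS.mp hi) hodd (hmemS.mp hχ)
      hcard := by
        rw [← hcSB, hcB]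
      hl := hrk }
  obtain ⟨h1, h2, h3, h4⟩ := H.main hlatn hlatm
  have hcH : ∀ c : ℕ, Nat.card {χ : IrrCharacter G // χ ∈ B ∧ blockHeight 2 B (χ : G → ℂ) = c} =
      (S.filter (fun χ : IrrCharacter G => blockHeight 2 B (χ : G → ℂ) = c)).card := by
    intro c
    rw [Nat.card_eq_fintype_card, Fintype.card_subtype, hS, Finset.filter_filter]
  refine ⟨hrk, h1, hcB, ?_, ?_, ?_⟩
  · rw [hcH, h2]
  · intro χ hχ
    exact h3 χ (hmemS.mpr hχ)
  · intro h5
    rw [hcH]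
    exact h4 (by omega)

end Cfsg.Agent.S4530
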