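import Cfsg.Statements.S4531
import Mathlib
import Cfsg.Agent.Lib.Blocks.TameO4
import Cfsg.Agent.Lib.Blocks.TameQ4
-- import your own Cfsg.Agent.* helpers here

set_option autoImplicit false
open Cfsg

namespace Cfsg.Agent.S4531

/-- Let the finite group G have a 2-block B (relative to a maximal ideal M of the algebraic integers containing 2) of 2-regular rank three (three irreducible Brauer characters) whose defect group D is dihedral of order 2 ^ n with n ≥ 3 or semidihedral. Then the centre of G has odd order and G is not solvable. -/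
theorem result {G : Type*} [Group G] [Finite G] (M : Ideal Cfsg.AlgInt) (hM : Cfsg.IsPModular 2 M) (B : Set (Cfsg.IrrCharacter G)) (hB : Cfsg.IsPBlock M B) (D : Subgroup G) (hD : Cfsg.IsDefectGroup 2 M B D) (hD' : (∃ n : ℕ, 3 ≤ n ∧ Nonempty (D ≃* DihedralGroup (2 ^ (n - 1)))) ∨ Cfsg.IsQuasiDihedral D) (hl : Cfsg.blockRank 2 B = 3) : Odd (Nat.card (Subgroup.center G)) ∧ ¬ Group.IsSolvable G := by
  classical
  letI : Fintype G := Fintype.ofFinite G
  haveI : Fact (Nat.Prime 2) := ⟨Nat.prime_two⟩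
  haveI : M.IsPrime := hM.2.1.isPrime
  -- the tameness of the defect group, and the centre
  have hkey : Cfsg.Agent.Lib.Blocks.Tame.IsTame D ∧ ∀ t : G, (∀ g : G, g * t = t * g) → t * t = 1 → t ≠ 1 → False := by
    rcases hD' with ⟨n, hn, hdih⟩ | ⟨n, hn, hcard, x, y, hxo, hyo, hyx⟩
    · obtain ⟨x, a, hd, hcardD⟩ := Cfsg.Agent.Lib.Blocks.Tame.exists_dihD hn hdih
      refine ⟨⟨_, hd.tameSyl ⟨n, ?_⟩⟩, fun t ht htt ht1 => ?_⟩
      · rw [hcardD]
        have : n = (n - 2) + 2 := by omega
        conv_rhs => rw [this, pow_add]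
        ring
      · have h1 := Cfsg.Agent.Lib.Blocks.Tame.dih_center_rank hM hB hD hd ht htt ht1
        omega
    · have h : Cfsg.Agent.Lib.Blocks.Tame.SDD x y n := ⟨hn, hcard, hxo, hyo, hyx⟩
      exact ⟨⟨x, h.tameSyl⟩, fun t ht htt ht1 => Cfsg.Agent.Lib.Blocks.Tame.sd_center_false hM hB hD h ht htt ht1 hl⟩
  refine ⟨?_, fun hs => ?_⟩
  · by_contra hodd
    have h2 : 2 ∣ Nat.card (Subgroup.center G) := by
      rw [← even_iff_two_dvd]
      exact Nat.not_odd_iff_even.mp hodd
    obtain ⟨t, ht⟩ := exists_prime_orderOf_dvd_card' 2 h2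
    refine hkey.2 t ?_ ?_ ?_
    · intro g
      exact (Subgroup.mem_center_iff.mp t.2 g)
    · have h3 : t ^ 2 = 1 := by
        rw [← ht]
        exact pow_orderOf_eq_one t
      have h4 : (t : G) ^ 2 = 1 := by
        have := congrArg Subtype.val h3
        simpa using this
      rw [← sq]
      exact h4
    · intro h3
      have h4 : t = 1 := Subtype.ext h3
      rw [h4, orderOf_one] at ht
      omega
  · have hps : Cfsg.IsPSolvable 2 G := Cfsg.Agent.Lib.Solvable.PSeries.isPSolvable_of_solvable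
    have h3 := Cfsg.Agent.Lib.Blocks.Tame.rank_le_two hM hps hB hD hkey.1
    omega

end Cfsg.Agent.S4531
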