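import Cfsg.Statements.S4912
import Mathlib
import Cfsg.Agent.Lib.CharFS.Tri
import Cfsg.Agent.Lib.Char.CliffordCorr
import Cfsg.Agent.Lib.Char.Gallagher
import Cfsg.Agent.Lib.Char.LinearChars
import Cfsg.Agent.Lib.Char.IndRep
import Cfsg.Agent.Lib.Char.Burnside2
import Cfsg.Agent.Lib.Char.Values

set_option autoImplicit false
set_option linter.style.haveILetI false
set_option linter.unusedSectionVars false
set_option linter.unusedVariables false
open Cfsg

namespace Cfsg.Agent.S4912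

open Cfsg Cfsg.Agent.Lib.Char.Basic Cfsg.Agent.Lib.Char.Ortho Cfsg.Agent.Lib.Char.Induced
  Cfsg.Agent.Lib.Char.IndRep Cfsg.Agent.Lib.Char.Clifford Cfsg.Agent.Lib.Char.CliffordCorr
  Cfsg.Agent.Lib.CharFS.Indicator Cfsg.Agent.Lib.CharFS.Tri
open scoped ComplexConjugate

universe u

/-- Comparing indicator and square mean along a homomorphism. -/
theorem res_bound {G H : Type u} [Group G] [Fintype G] [Group H] [Fintype H] (f : H →* G)
    {χ : G → ℂ} (hχ : IsCharacter G χ) :
    ∃ r s : ℕ, nu (fun h : H => χ (f h)) - nu χ = (r : ℂ) - s ∧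
      ((Nat.card H : ℂ)⁻¹ * ∑ h : H, χ (f h) * χ (f h)) -
        ((Nat.card G : ℂ)⁻¹ * ∑ g : G, χ g * χ g) = (r : ℂ) + s := by
  obtain ⟨n, ρ, rfl⟩ := hχ
  let ρ' : Representation ℂ H (Fin n → ℂ) := ρ.comp f
  have hK : ∀ h, K ρ' h = K ρ (f h) := fun h => rfl
  have hH : (Nat.card H : ℂ) ≠ 0 := by exact_mod_cast (Nat.card_pos (α := H)).ne'
  have h1 : avgP ρ' * avgP ρ = avgP ρ := by
    calc avgP ρ' * avgP ρ = (Nat.card H : ℂ)⁻¹ • ∑ h : H, K ρ (f h) * avgP ρ := by
          simp only [avgP, Matrix.smul_mul, Finset.sum_mul, hK]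
      _ = (Nat.card H : ℂ)⁻¹ • ∑ _h : H, avgP ρ := by simp only [K_mul_avgP]
      _ = avgP ρ := by
        rw [Finset.sum_const, Finset.card_univ, ← Nat.card_eq_fintype_card,
          ← Nat.cast_smul_eq_nsmul ℂ, smul_smul, inv_mul_cancel₀ hH, one_smul]
  have h2 : avgP ρ * avgP ρ' = avgP ρ := by
    calc avgP ρ * avgP ρ' = (Nat.card H : ℂ)⁻¹ • ∑ h : H, avgP ρ * K ρ (f h) := by
          simp only [avgP, Matrix.mul_smul, Finset.mul_sum, hK]
      _ = (Nat.card H : ℂ)⁻¹ • ∑ _h : H, avgP ρ := by simp only [avgP_mul_K]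
      _ = avgP ρ := by
        rw [Finset.sum_const, Finset.card_univ, ← Nat.card_eq_fintype_card,
          ← Nat.cast_smul_eq_nsmul ℂ, smul_smul, inv_mul_cancel₀ hH, one_smul]
  have hidem : (avgP ρ' - avgP ρ) * (avgP ρ' - avgP ρ) = avgP ρ' - avgP ρ := by
    rw [Matrix.mul_sub, Matrix.sub_mul, Matrix.sub_mul, avgP_idem, avgP_idem, h1, h2]
    abel
  have hc : swapMat (Fin n) * (avgP ρ' - avgP ρ) = (avgP ρ' - avgP ρ) * swapMat (Fin n) := by
    rw [Matrix.mul_sub, Matrix.sub_mul, swap_comm_avgP, swap_comm_avgP]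
  obtain ⟨r, s, hr, hs, -⟩ := trace_decomp (swapMat (Fin n)) _ swapMat_mul_self hidem hc
  refine ⟨r, s, ?_, ?_⟩
  · rw [← hr, Matrix.mul_sub, Matrix.trace_sub, trace_swap_avgP, trace_swap_avgP]
    rfl
  · rw [← hs, Matrix.trace_sub, trace_avgP, trace_avgP]
    rfl

section Ind

variable {G : Type u} [Group G] [Fintype G] (N I : Subgroup G) [hN : N.Normal] [Fintype N]
  [Fintype I] (hNI : N ≤ I)

theorem indFun_real {τ : I → ℂ} (hτ : ∀ t, conj (τ t) = τ t) (g : G) :
    conj (indFun I τ g) = indFun I τ g := by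
  rw [indFun_apply, map_mul, map_inv₀, Complex.conj_natCast, map_sum]
  congr 1
  refine Finset.sum_congr rfl fun x _ => ?_
  by_cases h : x⁻¹ * g * x ∈ I
  · rw [extendByZero_of_mem I τ h, hτ]
  · rw [extendByZero_of_notMem I τ h, map_zero]

include hNI in
theorem indFun_res {φ : N → ℂ} {τ : I → ℂ} (hres : ∀ n : N, τ (Subgroup.inclusion hNI n) = φ n)
    (n : N) : indFun I τ n = (Nat.card I : ℂ)⁻¹ * ∑ x : G, φ (MulAut.conjNormal x n) := by
  rw [indFun_apply]
  congr 1
  rw [← Equiv.sum_comp (Equiv.inv G)]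
  refine Finset.sum_congr rfl fun x _ => ?_
  have hm : ((Equiv.inv G) x)⁻¹ * (n : G) * (Equiv.inv G) x ∈ I := by
    simp only [Equiv.inv_apply, inv_inv]
    exact hNI (hN.conj_mem _ n.2 x)
  rw [extendByZero_of_mem I τ hm, ← hres]
  congr 1
  apply Subtype.ext
  simp [MulAut.conjNormal_apply]

theorem nu_ind {φ : N → ℂ} (hφ : IsIrrCharacter N φ)
    (hI : ∀ g : G, g ∈ I ↔ ∀ n : N, φ ⟨g * n * g⁻¹, hN.conj_mem (n : G) n.2 g⟩ = φ n)
    {τ : I → ℂ} (hτ : IsIrrCharacter I τ) (hres : ∀ n : N, τ (Subgroup.inclusion hNI n) = φ n)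
    (hν : nu τ = 1) : IsIrrCharacter G (indFun I τ) ∧ nu (indFun I τ) = 1 := by
  classical
  have hτreal : ∀ t, conj (τ t) = τ t := by
    by_contra hcon
    push Not at hcon
    have := nu_of_not_real hτ hcon
    rw [hν] at this
    exact one_ne_zero this
  have hφreal : ∀ n, conj (φ n) = φ n := fun n => by rw [← hres, hτreal]
  have hAτ : (Nat.card I : ℂ)⁻¹ * ∑ t : I, τ t * τ t = 1 := by
    have := classInner_irr_self hτ
    rw [classInner_def] at this
    simpa only [hτreal] using this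
  have hAφ : (Nat.card N : ℂ)⁻¹ * ∑ n : N, φ n * φ n = 1 := by
    have := classInner_irr_self hφ
    rw [classInner_def] at this
    simpa only [hφreal] using this
  have hτc := isCharacter_of_isIrrCharacter hτ
  have hνφ : nu φ = 1 := by
    obtain ⟨r, s, h1, h2⟩ := res_bound (Subgroup.inclusion hNI) hτc
    simp only [hres] at h1 h2
    have hφe : (fun h : N => φ h) = φ := rfl
    rw [hφe, hν] at h1
    rw [hAτ, hAφ, sub_self] at h2
    have h3 : r + s = 0 := by
      have : ((r + s : ℕ) : ℂ) = 0 := by push_cast; exact h2.symm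
      exact_mod_cast this
    have hr : r = 0 := by omega
    have hs : s = 0 := by omega
    subst hr hs
    simp only [Nat.cast_zero, sub_zero] at h1
    exact sub_eq_zero.mp h1
  have hresT : resT N I hNI τ = φ := funext fun n => hres n
  have hinn : classInner (resT N I hNI τ) φ = 1 := by
    rw [hresT]; exact classInner_irr_self hφ
  have hne : classInner (resT N I hNI τ) φ ≠ 0 := by rw [hinn]; exact one_ne_zero
  have hχ := isIrr_indFun N φ I hNI hφ hI hτ hne
  refine ⟨hχ, ?_⟩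
  set χ : G → ℂ := indFun I τ with hχdef
  have hχc := isCharacter_of_isIrrCharacter hχ
  have hχcl := isClassFunction_of_isCharacter hχc
  have hχreal : ∀ g, conj (χ g) = χ g := indFun_real I hτreal
  have hAχ : (Nat.card G : ℂ)⁻¹ * ∑ g : G, χ g * χ g = 1 := by
    have := classInner_irr_self hχ
    rw [classInner_def] at this
    simpa only [hχreal] using this
  have hI0 : (Nat.card I : ℂ) ≠ 0 := by exact_mod_cast (Nat.card_pos (α := I)).ne'
  have hN0 : (Nat.card N : ℂ) ≠ 0 := by exact_mod_cast (Nat.card_pos (α := N)).ne'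
  have hk : (Nat.card I : ℂ)⁻¹ * (Nat.card G : ℂ) = I.index := by
    have := I.card_mul_index
    rw [← this]; push_cast; field_simp
  have hval : ∀ n : N, χ n = (Nat.card I : ℂ)⁻¹ * ∑ x : G, φ (MulAut.conjNormal x n) :=
    indFun_res N I hNI hres
  have hinv : ∀ (x : G) (n : N), χ (MulAut.conjNormal x n) = χ n := by
    intro x n
    rw [MulAut.conjNormal_apply]
    exact hχcl (n : G) x
  have hνN : nu (fun n : N => χ n) = I.index := by
    have h1 : ∀ n : N, χ ((n ^ 2 : N) : G) =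
        (Nat.card I : ℂ)⁻¹ * ∑ x : G, φ ((MulAut.conjNormal x n) ^ 2) := by
      intro n
      rw [hval (n ^ 2)]
      simp only [map_pow]
    have h2 : ∀ x : G, ∑ n : N, φ (MulAut.conjNormal x n ^ 2) = ∑ m : N, φ (m ^ 2) := fun x =>
      Equiv.sum_comp (MulAut.conjNormal x).toEquiv (fun m => φ (m ^ 2))
    have h3 : (Nat.card N : ℂ)⁻¹ * ∑ m : N, φ (m ^ 2) = 1 := hνφ
    calc nu (fun n : N => χ n) = (Nat.card N : ℂ)⁻¹ * ∑ n : N, χ ((n ^ 2 : N) : G) := rfl
      _ = (Nat.card N : ℂ)⁻¹ * ((Nat.card I : ℂ)⁻¹ * ∑ x : G, ∑ m : N, φ (m ^ 2)) := by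
          simp only [h1]
          rw [← Finset.mul_sum, Finset.sum_comm]
          simp only [h2]
      _ = (Nat.card I : ℂ)⁻¹ * (Nat.card G : ℂ) * ((Nat.card N : ℂ)⁻¹ * ∑ m : N, φ (m ^ 2)) := by
          rw [Finset.sum_const, Finset.card_univ, ← Nat.card_eq_fintype_card, nsmul_eq_mul]
          ring
      _ = I.index := by rw [h3, hk, mul_one]
  have hcore : classInner (fun n : N => χ n) φ = 1 := by
    have hself : classInner (indFun I τ) χ ≠ 0 := by
      rw [← hχdef, classInner_irr_self hχ]; exact one_ne_zero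
    rw [← (core N φ I hNI hφ hI hτ hne hχ hself).2, hinn]
  have hAN : (Nat.card N : ℂ)⁻¹ * ∑ n : N, χ n * χ n = I.index := by
    have h1 : ∀ x : G, ∑ n : N, χ n * φ (MulAut.conjNormal x n) = ∑ m : N, χ m * φ m := by
      intro x
      rw [← Equiv.sum_comp (MulAut.conjNormal x).toEquiv (fun m : N => χ m * φ m)]
      refine Finset.sum_congr rfl fun n _ => ?_
      show _ = χ (MulAut.conjNormal x n) * φ (MulAut.conjNormal x n)
      rw [hinv]
    have h2 : (Nat.card N : ℂ)⁻¹ * ∑ m : N, χ m * φ m = 1 := by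
      rw [classInner_def] at hcore
      simpa only [hφreal] using hcore
    calc (Nat.card N : ℂ)⁻¹ * ∑ n : N, χ n * χ n
        = (Nat.card N : ℂ)⁻¹ * ∑ n : N, χ n *
            ((Nat.card I : ℂ)⁻¹ * ∑ x : G, φ (MulAut.conjNormal x n)) := by
          congr 1
          refine Finset.sum_congr rfl fun n _ => ?_
          conv_lhs => rw [hval n]
          rw [← hval n]
      _ = (Nat.card N : ℂ)⁻¹ * ((Nat.card I : ℂ)⁻¹ * ∑ x : G, ∑ n : N, χ n * φ (MulAut.conjNormal x n)) := by
          congr 1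
          rw [Finset.sum_comm, Finset.mul_sum]
          refine Finset.sum_congr rfl fun n _ => ?_
          rw [← Finset.mul_sum, ← mul_assoc, mul_comm (χ n), mul_assoc]
      _ = (Nat.card N : ℂ)⁻¹ * ((Nat.card I : ℂ)⁻¹ * ∑ x : G, ∑ m : N, χ m * φ m) := by
          simp only [h1]
      _ = (Nat.card I : ℂ)⁻¹ * (Nat.card G : ℂ) * ((Nat.card N : ℂ)⁻¹ * ∑ m : N, χ m * φ m) := by
          rw [Finset.sum_const, Finset.card_univ, ← Nat.card_eq_fintype_card, nsmul_eq_mul]
          ring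
      _ = I.index := by rw [h2, hk, mul_one]
  obtain ⟨r, s, h1, h2⟩ := res_bound N.subtype hχc
  have h1' : nu (fun n : N => χ n) - nu χ = (r : ℂ) - s := h1
  have h2' : (Nat.card N : ℂ)⁻¹ * ∑ n : N, χ n * χ n -
      (Nat.card G : ℂ)⁻¹ * ∑ g : G, χ g * χ g = (r : ℂ) + s := h2
  rw [hνN] at h1'
  rw [hAN, hAχ] at h2'
  rcases nu_of_real hχ hχreal with h | h
  · exact h
  · exfalso
    rw [h] at h1'
    have h3 : ((2 + 2 * s : ℕ) : ℂ) = 0 := by
      push_cast
      linear_combination h1' - h2'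
    have : 2 + 2 * s = 0 := by exact_mod_cast h3
    omega

end Ind

section Count

variable {G : Type u} [Group G] [Fintype G]

theorem card_agree (I : Subgroup G) [Fintype I] (S : Finset (IrrCharacter G))
    (h1 : ∀ a ∈ S, (a : G → ℂ) 1 = 1)
    (h2 : ∀ a ∈ S, ∀ b ∈ S, ∀ t : I, (a : G → ℂ) t = (b : G → ℂ) t) : S.card ≤ I.index := by
  classical
  rcases S.eq_empty_or_nonempty with rfl | ⟨a₀, ha₀⟩
  · simp
  let θ : I → ℂ := fun t => (a₀ : G → ℂ) t
  have ha₀c := isCharacter_of_isIrrCharacter a₀.2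
  have hθc : IsCharacter I θ := isCharacter_restrict ha₀c I
  have hΨ := isCharacter_indFun I hθc
  obtain ⟨f, hf⟩ := Cfsg.Agent.Lib.Char.LinearChars.exists_hom_of_isCharacter_one ha₀c (h1 a₀ ha₀)
  have hθirr : IsIrrCharacter I θ := by
    have := Cfsg.Agent.Lib.Char.LinearChars.isIrr_of_hom (f.comp I.subtype)
    have e : θ = fun g : I => (((f.comp I.subtype) g : ℂˣ) : ℂ) := by
      funext t
      exact congrFun hf t
    rw [e]; exact this
  have hone : ∀ a ∈ S, classInner (indFun I θ) (a : G → ℂ) = 1 := by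
    intro a ha
    rw [frobenius_reciprocity I θ _ (isClassFunction_of_isCharacter (isCharacter_of_isIrrCharacter a.2))]
    have e : (fun h : I => (a : G → ℂ) h) = θ := funext fun t => h2 a ha a₀ ha₀ t
    rw [e]; exact classInner_irr_self hθirr
  choose m hm using fun ξ : IrrCharacter G => exists_nat_classInner hΨ ξ
  choose d hd using fun ξ : IrrCharacter G =>
    exists_nat_apply_one (isCharacter_of_isIrrCharacter ξ.2)
  have hdec := congrFun (decomp_eq_sum_classInner hΨ) 1
  rw [indFun_one] at hdec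
  simp only [Finset.sum_apply, Pi.smul_apply, smul_eq_mul, hm, hd] at hdec
  have hθ1 : θ 1 = 1 := h1 a₀ ha₀
  rw [hθ1, mul_one] at hdec
  have hidx : I.index = ∑ ξ : IrrCharacter G, m ξ * d ξ := by exact_mod_cast hdec
  rw [hidx]
  calc S.card = ∑ ξ ∈ S, 1 := by simp
    _ = ∑ ξ ∈ S, m ξ * d ξ := by
        refine Finset.sum_congr rfl fun ξ hξ => ?_
        have h3 : m ξ = 1 := by
          have := hone ξ hξ
          rw [hm ξ] at this
          exact_mod_cast this
        have h4 : d ξ = 1 := by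
          have := h1 ξ hξ
          rw [hd ξ] at this
          exact_mod_cast this
        rw [h3, h4]
    _ ≤ _ := Finset.sum_le_sum_of_subset (Finset.subset_univ S)

theorem gallagher_inj (N : Subgroup G) [hN : N.Normal] [Fintype N] {φ : N → ℂ}
    (hφ : IsIrrCharacter N φ)
    (hinv : ∀ (g : G) (n : N), φ ⟨g * n * g⁻¹, hN.conj_mem (n : G) n.2 g⟩ = φ n)
    {ψ : G → ℂ} (hψ : IsIrrCharacter G ψ) (hext : ∀ n : N, ψ n = φ n)
    {b b' : G → ℂ} (hb : IsIrrCharacter G b) (hb' : IsIrrCharacter G b')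
    (h1 : ∀ n : N, b n = 1) (h1' : ∀ n : N, b' n = 1) (h : b * ψ = b' * ψ) : b = b' := by
  classical
  have hone : IsIrrCharacter N (fun _ : N => (1 : ℂ)) :=
    Cfsg.Agent.Lib.Char.Burnside2.isIrrCharacter_one
  have hprod : IsIrrCharacter N ((fun _ : N => (1 : ℂ)) * φ) := by
    have e : ((fun _ : N => (1 : ℂ)) * φ) = φ := by
      funext n; simp
    rw [e]; exact hφ
  have hbij := Cfsg.Agent.Lib.Char.Gallagher.gallagher_bijOn N hone (fun _ _ => rfl) hinv hprod hψ hext
  have hmem : ∀ c : G → ℂ, IsIrrCharacter G c → (∀ n : N, c n = 1) →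
      c ∈ {β : G → ℂ | IsIrrCharacter G β ∧ classInner (indFun N (fun _ : N => (1 : ℂ))) β ≠ 0} := by
    intro c hc hc1
    refine ⟨hc, ?_⟩
    rw [frobenius_reciprocity N _ c (isClassFunction_of_isCharacter (isCharacter_of_isIrrCharacter hc))]
    have e : (fun h : N => c h) = fun _ => 1 := funext hc1
    rw [e, classInner_irr_self hone]
    exact one_ne_zero
  exact hbij.injOn (hmem b hb h1) (hmem b' hb' h1') h

end Count


/-- Let G be a finite group with a non-abelian minimal normal subgroup N, and let φ be an irreducible complex character of N with stabilizer I in G such that φ extends to an irreducible character of I with Frobenius–Schur indicator +1. Put d = φ(1)·[G : I]. Then the number of linear characters of G with Frobenius–Schur indicator +1 is at most [G : I] times the number of irreducible characters of G of degree d with Frobenius–Schur indicator +1. -/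
theorem result {G : Type*} [Group G] [Finite G] (N : Subgroup G) (hN : N.Normal) (hN1 : N ≠ ⊥) (hmin : ∀ M : Subgroup G, M.Normal → M ≤ N → M = ⊥ ∨ M = N) (hna : ¬ IsMulCommutative ↥N) (φ : Cfsg.IrrCharacter ↥N) (I : Subgroup G) (hI : ∀ g : G, g ∈ I ↔ ∀ n n' : ↥N, (n' : G) = g * (n : G) * g⁻¹ → (φ : ↥N → ℂ) n' = (φ : ↥N → ℂ) n) (hNI : N ≤ I) (hext : ∃ ψ : Cfsg.IrrCharacter ↥I, (Nat.card ↥I : ℂ)⁻¹ * ∑ᶠ g : ↥I, (ψ : ↥I → ℂ) (g * g) = 1 ∧ ∀ n : ↥N, (ψ : ↥I → ℂ) (Subgroup.inclusion hNI n) = (φ : ↥N → ℂ) n) : Nat.card {χ : Cfsg.IrrCharacter G // Cfsg.charDegree (χ : G → ℂ) = 1 ∧ (Nat.card G : ℂ)⁻¹ * ∑ᶠ g : G, (χ : G → ℂ) (g * g) = 1} ≤ I.index * Nat.card {χ : Cfsg.IrrCharacter G // Cfsg.charDegree (χ : G → ℂ) = Cfsg.charDegree (φ : ↥N → ℂ) * I.index ∧ (Nat.card G : ℂ)⁻¹ * ∑ᶠ g : G, (χ : G → ℂ) (g * g) = 1} := by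
  classical
  letI : Fintype G := Fintype.ofFinite G
  letI : Fintype N := Fintype.ofFinite N
  letI : Fintype I := Fintype.ofFinite I
  haveI := hN
  obtain ⟨ψ, hψν, hψres⟩ := hext
  have hIT : ∀ g : G, g ∈ I ↔ ∀ n : N, (φ : N → ℂ) ⟨g * n * g⁻¹, hN.conj_mem (n : G) n.2 g⟩ = (φ : N → ℂ) n := by
    intro g
    rw [hI g]
    constructor
    · intro h n; exact h n _ rfl
    · intro h n n' hn'
      have : n' = ⟨g * n * g⁻¹, hN.conj_mem (n : G) n.2 g⟩ := Subtype.ext hn'
      rw [this]; exact h n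
  have hfs : ∀ {X : Type u_1} [Group X] [Fintype X] (χ : X → ℂ),
      (Nat.card X : ℂ)⁻¹ * ∑ᶠ g : X, χ (g * g) = Cfsg.Agent.Lib.CharFS.Indicator.nu χ := by
    intro X _ _ χ
    rw [finsum_eq_sum_of_fintype]
    simp only [Cfsg.Agent.Lib.CharFS.Indicator.nu, pow_two]
  rw [hfs] at hψν
  simp only [hfs]
  have hφirr : IsIrrCharacter N (φ : N → ℂ) := φ.2
  have hψirr : IsIrrCharacter I (ψ : I → ℂ) := ψ.2
  -- facts about linear characters
  have hlin : ∀ a : IrrCharacter G, charDegree (a : G → ℂ) = 1 →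
      Cfsg.Agent.Lib.CharFS.Indicator.nu (a : G → ℂ) = 1 →
      ∃ f : G →* ℂˣ, ((a : G → ℂ) = fun g => ((f g : ℂˣ) : ℂ)) ∧ (∀ g, (a : G → ℂ) g * (a : G → ℂ) g = 1) ∧
        (a : G → ℂ) 1 = 1 ∧ (∀ n : N, (a : G → ℂ) n = 1) := by
    intro a had han
    have hac := isCharacter_of_isIrrCharacter a.2
    have h1 : (a : G → ℂ) 1 = 1 := by
      rw [← Cfsg.Agent.Lib.Char.Values.IsCharacter.charDegree_cast hac, had]; simp
    obtain ⟨f, hf⟩ := Cfsg.Agent.Lib.Char.LinearChars.exists_hom_of_isCharacter_one hac h1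
    have hreal : ∀ g, conj ((a : G → ℂ) g) = (a : G → ℂ) g := by
      by_contra hcon
      push Not at hcon
      have := nu_of_not_real a.2 hcon
      rw [han] at this
      exact one_ne_zero this
    have hnorm : ∀ g, ‖((f g : ℂˣ) : ℂ)‖ = 1 := by
      intro g
      have h3 : (((f g : ℂˣ) : ℂ)) ^ (orderOf g) = 1 := by
        rw [← Units.val_pow_eq_pow_val, ← map_pow, pow_orderOf_eq_one, map_one, Units.val_one]
      exact Complex.norm_eq_one_of_pow_eq_one h3 (orderOf_pos g).ne'
    have hsq : ∀ g, (a : G → ℂ) g * (a : G → ℂ) g = 1 := by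
      intro g
      have h3 := Complex.conj_mul' ((a : G → ℂ) g)
      rw [hreal] at h3
      rw [h3, hf, hnorm]
      simp
    refine ⟨f, hf, hsq, h1, ?_⟩
    have hker : (N ⊓ f.ker).Normal := Subgroup.normal_inf_normal N f.ker
    rcases hmin _ hker inf_le_left with h0 | h0
    · exfalso
      apply hna
      refine ⟨⟨fun x y => ?_⟩⟩
      apply Subtype.ext
      have hmem : (x : G) * y * ((y : G) * x)⁻¹ ∈ N ⊓ f.ker := by
        refine Subgroup.mem_inf.mpr ⟨N.mul_mem (N.mul_mem x.2 y.2) (N.inv_mem (N.mul_mem y.2 x.2)), ?_⟩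
        rw [MonoidHom.mem_ker, map_mul, map_mul, map_inv, map_mul, mul_comm (f (y : G)) (f (x : G))]
        exact mul_inv_cancel _
      rw [h0, Subgroup.mem_bot] at hmem
      exact mul_inv_eq_one.mp hmem
    · intro n
      have hn : (n : G) ∈ N ⊓ f.ker := by rw [h0]; exact n.2
      have hn2 : f n = 1 := hn.2
      rw [hf]
      simp [hn2]
  -- the twisted extensions
  let τ : IrrCharacter G → I → ℂ := fun a t => (a : G → ℂ) t * (ψ : I → ℂ) t
  have hτ : ∀ a : IrrCharacter G, charDegree (a : G → ℂ) = 1 →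
      Cfsg.Agent.Lib.CharFS.Indicator.nu (a : G → ℂ) = 1 →
      IsIrrCharacter I (τ a) ∧ (∀ n : N, τ a (Subgroup.inclusion hNI n) = (φ : N → ℂ) n) ∧
        Cfsg.Agent.Lib.CharFS.Indicator.nu (τ a) = 1 := by
    intro a had han
    obtain ⟨f, hf, hsq, h1, htriv⟩ := hlin a had han
    have hac := isCharacter_of_isIrrCharacter a.2
    have hconj : ∀ g, conj ((a : G → ℂ) g) = (a : G → ℂ) g := by
      intro g
      have h3 : (a : G → ℂ) g * conj ((a : G → ℂ) g) = 1 := by
        have h4 : ‖(a : G → ℂ) g‖ = 1 := by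
          have h5 : ‖(a : G → ℂ) g‖ * ‖(a : G → ℂ) g‖ = 1 := by
            rw [← norm_mul, hsq, norm_one]
          nlinarith [norm_nonneg ((a : G → ℂ) g)]
        rw [Complex.mul_conj', h4]
        simp
      have h6 := hsq g
      have h7 : (a : G → ℂ) g ≠ 0 := by
        intro h0
        rw [h0] at h6
        simp at h6
      exact mul_left_cancel₀ h7 (h3.trans h6.symm)
    refine ⟨?_, ?_, ?_⟩
    · apply isIrrCharacter_of_classInner_self_eq_one
      · exact isCharacter_mul (isCharacter_restrict hac I) (isCharacter_of_isIrrCharacter ψ.2)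
      · have := classInner_irr_self hψirr
        rw [classInner_def] at this ⊢
        rw [← this]
        congr 1
        refine Finset.sum_congr rfl fun t _ => ?_
        simp only [τ, map_mul, hconj]
        linear_combination ((ψ : I → ℂ) t * conj ((ψ : I → ℂ) t)) * hsq t
    · intro n
      have h3 := htriv n
      have h4 : ((Subgroup.inclusion hNI n : I) : G) = n := rfl
      simp only [τ, h4, h3, one_mul]
      exact hψres n
    · have e : ∀ t : I, τ a (t ^ 2) = (ψ : I → ℂ) (t ^ 2) := by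
        intro t
        simp only [τ]
        have h3 : (a : G → ℂ) ((t ^ 2 : I) : G) = 1 := by
          rw [hf]
          simp only [Subgroup.coe_pow, map_pow, Units.val_pow_eq_pow_val]
          have := hsq t
          rw [hf] at this
          rw [pow_two]
          exact this
        rw [h3, one_mul]
      rw [← hψν]
      simp only [Cfsg.Agent.Lib.CharFS.Indicator.nu, e]
  have hkey : ∀ a : IrrCharacter G, charDegree (a : G → ℂ) = 1 →
      Cfsg.Agent.Lib.CharFS.Indicator.nu (a : G → ℂ) = 1 →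
      IsIrrCharacter G (indFun I (τ a)) ∧
        charDegree (indFun I (τ a)) = charDegree (φ : N → ℂ) * I.index ∧
        Cfsg.Agent.Lib.CharFS.Indicator.nu (indFun I (τ a)) = 1 := by
    intro a had han
    obtain ⟨h1, h2, h3⟩ := hτ a had han
    obtain ⟨h4, h5⟩ := nu_ind N I hNI hφirr hIT h1 h2 h3
    refine ⟨h4, ?_, h5⟩
    apply Cfsg.Agent.Lib.Char.Values.IsCharacter.charDegree_eq (isCharacter_of_isIrrCharacter h4)
    rw [indFun_one]
    have h6 := h2 1
    rw [map_one] at h6
    rw [h6]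
    have h7 := Cfsg.Agent.Lib.Char.Values.IsCharacter.charDegree_cast (isCharacter_of_isIrrCharacter hφirr)
    have h8 : (φ : N → ℂ) 1 = ((charDegree (φ : N → ℂ) : ℕ) : ℂ) := h7.symm
    have h9 : ((1 : N) : N) = 1 := rfl
    rw [h8]
    push_cast
    ring
  -- the map
  rw [Nat.card_eq_fintype_card, Nat.card_eq_fintype_card]
  let α := {χ : IrrCharacter G // charDegree (χ : G → ℂ) = 1 ∧ Cfsg.Agent.Lib.CharFS.Indicator.nu (χ : G → ℂ) = 1}
  let β := {χ : IrrCharacter G // charDegree (χ : G → ℂ) = charDegree (φ : N → ℂ) * I.index ∧ Cfsg.Agent.Lib.CharFS.Indicator.nu (χ : G → ℂ) = 1}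
  let F : α → β := fun a => ⟨⟨indFun I (τ a.1), (hkey a.1 a.2.1 a.2.2).1⟩, (hkey a.1 a.2.1 a.2.2).2⟩
  have hagree : ∀ a b : α, F a = F b → ∀ t : I, (a.1 : G → ℂ) t = (b.1 : G → ℂ) t := by
    intro a b hab t
    have h1 : indFun I (τ a.1) = indFun I (τ b.1) := by
      have := congrArg (fun x : β => ((x.1 : IrrCharacter G) : G → ℂ)) hab
      exact this
    obtain ⟨ha1, ha2, -⟩ := hτ a.1 a.2.1 a.2.2
    obtain ⟨hb1, hb2, -⟩ := hτ b.1 b.2.1 b.2.2
    have hresT : ∀ c : IrrCharacter G, (∀ n : N, τ c (Subgroup.inclusion hNI n) = (φ : N → ℂ) n) →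
        classInner (resT N I hNI (τ c)) (φ : N → ℂ) ≠ 0 := by
      intro c hc
      have e : resT N I hNI (τ c) = (φ : N → ℂ) := funext fun n => hc n
      rw [e, classInner_irr_self hφirr]
      exact one_ne_zero
    have h2 : τ a.1 = τ b.1 :=
      eq_of_indFun_eq N (φ : N → ℂ) I hNI hφirr hIT ha1 hb1 (hresT _ ha2) (hresT _ hb2) h1
    obtain ⟨fa, hfa, -, -, hta⟩ := hlin a.1 a.2.1 a.2.2
    obtain ⟨fb, hfb, -, -, htb⟩ := hlin b.1 b.2.1 b.2.2
    let N' : Subgroup I := N.subgroupOf I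
    haveI : N'.Normal := Subgroup.normal_subgroupOf
    letI : Fintype N' := Fintype.ofFinite _
    let e : N' →* N := (Subgroup.subgroupOfEquivOfLe hNI).toMonoidHom
    have hesurj : Function.Surjective e := (Subgroup.subgroupOfEquivOfLe hNI).surjective
    have hφ' : IsIrrCharacter N' (fun n : N' => (φ : N → ℂ) (e n)) :=
      isIrrCharacter_comp_surjective hφirr e hesurj
    have hb : IsIrrCharacter I (fun t : I => (a.1 : G → ℂ) t) := by
      have e1 : (fun t : I => (a.1 : G → ℂ) t) = fun t : I => (((fa.comp I.subtype) t : ℂˣ) : ℂ) := by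
        funext t; exact congrFun hfa t
      rw [e1]; exact Cfsg.Agent.Lib.Char.LinearChars.isIrr_of_hom _
    have hb' : IsIrrCharacter I (fun t : I => (b.1 : G → ℂ) t) := by
      have e1 : (fun t : I => (b.1 : G → ℂ) t) = fun t : I => (((fb.comp I.subtype) t : ℂˣ) : ℂ) := by
        funext t; exact congrFun hfb t
      rw [e1]; exact Cfsg.Agent.Lib.Char.LinearChars.isIrr_of_hom _
    have hfin := gallagher_inj N' hφ' (ψ := (ψ : I → ℂ)) ?_ hψirr ?_ hb hb' ?_ ?_ h2
    · exact congrFun hfin t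
    · intro g n
      have h3 := (hIT (g : G)).mp g.2 (e n)
      exact h3
    · intro n
      exact hψres (e n)
    · intro n
      exact hta (e n)
    · intro n
      exact htb (e n)
  have hfib : ∀ b ∈ (Finset.univ : Finset β), (Finset.univ.filter (fun a : α => F a = b)).card ≤ I.index := by
    intro b _
    have hinj : Function.Injective (fun a : α => (a.1 : IrrCharacter G)) := Subtype.val_injective
    rw [← Finset.card_image_of_injective _ hinj]
    apply card_agree
    · intro x hx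
      obtain ⟨a, -, rfl⟩ := Finset.mem_image.mp hx
      exact (hlin a.1 a.2.1 a.2.2).choose_spec.2.2.1
    · intro x hx y hy t
      obtain ⟨a, ha, rfl⟩ := Finset.mem_image.mp hx
      obtain ⟨a', ha', rfl⟩ := Finset.mem_image.mp hy
      have h1 := (Finset.mem_filter.mp ha).2
      have h2 := (Finset.mem_filter.mp ha').2
      exact hagree a a' (h1.trans h2.symm) t
  have := Finset.card_le_mul_card_image_of_maps_to (f := F) (s := Finset.univ) (t := Finset.univ)
    (fun _ _ => Finset.mem_univ _) I.index hfib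
  simpa only [Finset.card_univ] using this

end Cfsg.Agent.S4912
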