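import Cfsg.Statements.S4553
import Mathlib
import Cfsg.Agent.Lib.Char.PResChars
import Cfsg.Agent.Lib.Char.B0Height
import Cfsg.Agent.Lib.Char.GalFix
import Cfsg.Agent.S4912

set_option autoImplicit false
set_option linter.style.haveILetI false
set_option linter.unusedSectionVars false
set_option linter.unusedVariables false
open Cfsg

namespace Cfsg.Agent.S4553

open Cfsg Cfsg.Agent.Lib.Char.Basic Cfsg.Agent.Lib.Char.Ortho Cfsg.Agent.Lib.Char.PResChars
  Cfsg.Agent.Lib.Char.LinearChars Cfsg.Agent.Lib.Char.DetExt Cfsg.Agent.Lib.Char.DetExt2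
  Cfsg.Agent.Lib.Blocks.Local Cfsg.Agent.Lib.Blocks.Central Cfsg.Agent.Lib.Blocks.Regular
  Cfsg.Agent.Lib.Blocks.Principal Cfsg.Agent.Lib.Blocks.Osima
  Cfsg.Agent.Lib.Blocks.Covering Cfsg.Agent.Lib.Char.AlpDade
  Cfsg.Agent.Lib.Char.Galois
open scoped ComplexConjugate

universe u

section Aux

variable {G : Type u} [Group G] [Finite G]

theorem norm_hom (β : G →* ℂˣ) (g : G) : ‖((β g : ℂˣ) : ℂ)‖ = 1 := by
  have h3 : (((β g : ℂˣ) : ℂ)) ^ (orderOf g) = 1 := by
    rw [← Units.val_pow_eq_pow_val, ← map_pow, pow_orderOf_eq_one, map_one, Units.val_one]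
  exact Complex.norm_eq_one_of_pow_eq_one h3 (orderOf_pos g).ne'

theorem hom_mul_irr (β : G →* ℂˣ) {χ : G → ℂ} (hχ : IsIrrCharacter G χ) :
    IsIrrCharacter G (fun g => ((β g : ℂˣ) : ℂ) * χ g) := by
  classical
  cases nonempty_fintype G
  have hc : IsCharacter G (fun g => ((β g : ℂˣ) : ℂ) * χ g) :=
    isCharacter_mul (isCharacter_of_isIrrCharacter (isIrr_of_hom β)) (isCharacter_of_isIrrCharacter hχ)
  apply isIrrCharacter_of_classInner_self_eq_one hc
  have := classInner_irr_self hχ
  rw [Cfsg.Agent.Lib.Char.Induced.classInner_def] at this ⊢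
  rw [← this]
  congr 1
  refine Finset.sum_congr rfl fun g _ => ?_
  have h1 : ((β g : ℂˣ) : ℂ) * conj ((β g : ℂˣ) : ℂ) = 1 := by
    rw [Complex.mul_conj', norm_hom]
    simp
  rw [map_mul]
  linear_combination (χ g * conj (χ g)) * h1

end Aux

section Main

variable {G : Type u} [Group G] [Finite G] (p : ℕ) [hp : Fact p.Prime]

local notation "R" => Cfsg.pResidual p G

/-- The power `k` on linear characters of `G/O^p(G)`. -/
theorem hom_pow_key {k : ℕ} (hk₁ : ∀ g : G, (∃ j : ℕ, orderOf g = p ^ j) → g ^ k = g ^ (1 + p))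
    (β : G →* ℂˣ) (hβ : ∀ n : R, β n = 1) (g : G) : (β g) ^ k = (β g) ^ (1 + p) := by
  classical
  obtain ⟨M, w, hw, hGc⟩ := Nat.exists_eq_pow_mul_and_not_dvd (n := Nat.card G) Nat.card_pos.ne' p hp.out.ne_one
  have hcop : Nat.Coprime (p ^ M) w := Nat.Coprime.pow_left _ ((Nat.Prime.coprime_iff_not_dvd hp.out).2 hw)
  let s := Nat.chineseRemainder hcop 1 0
  have hs1 : (s : ℕ) ≡ 1 [MOD p ^ M] := s.2.1
  have hs0 : w ∣ (s : ℕ) := (Nat.modEq_zero_iff_dvd).1 s.2.2
  let x := g ^ (s : ℕ)
  have hxo : ∃ j, orderOf x = p ^ j := by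
    have h1 : x ^ (p ^ M) = 1 := by
      obtain ⟨t, ht⟩ := hs0
      show (g ^ (s : ℕ)) ^ (p ^ M) = 1
      rw [← pow_mul, ht, show w * t * p ^ M = (p ^ M * w) * t by ring, ← hGc, pow_mul, pow_card_eq_one', one_pow]
    obtain ⟨j, -, hj⟩ := (Nat.dvd_prime_pow hp.out).1 (orderOf_dvd_of_pow_eq_one h1)
    exact ⟨j, hj⟩
  -- `β g` has `p`-power order
  obtain ⟨m₀, hm₀⟩ := exists_index_eq (G := G) p
  have hdvd : p ^ m₀ ∣ Nat.card G := by
    rw [← hm₀]; exact Subgroup.index_dvd_card _
  have hdvd2 : p ^ m₀ ∣ p ^ M := by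
    rw [hGc] at hdvd
    exact Nat.Coprime.dvd_of_dvd_mul_right (Nat.Coprime.pow_left _ ((Nat.Prime.coprime_iff_not_dvd hp.out).2 hw)) hdvd
  have hβp : (β g) ^ (p ^ M) = 1 := by
    obtain ⟨t, ht⟩ := hdvd2
    have h1 : g ^ (R).index ∈ R := by
      have h2 : ((g : G ⧸ R)) ^ (R).index = 1 := by
        rw [Subgroup.index]; exact pow_card_eq_one'
      have h3 : ((g ^ (R).index : G) : G ⧸ R) = 1 := by
        rw [QuotientGroup.mk_pow]; exact h2
      exact (QuotientGroup.eq_one_iff _).1 h3
    have h2 : β (g ^ (R).index) = 1 := hβ ⟨_, h1⟩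
    rw [map_pow, hm₀] at h2
    rw [ht, pow_mul, h2, one_pow]
  have hβx : β x = β g := by
    show β (g ^ (s : ℕ)) = β g
    rw [map_pow, ← pow_mod_orderOf]
    have h3 : orderOf (β g) ∣ p ^ M := orderOf_dvd_of_pow_eq_one hβp
    have h4 : (s : ℕ) % orderOf (β g) = 1 % orderOf (β g) := (hs1.of_dvd h3)
    rw [h4, pow_mod_orderOf, pow_one]
  have h5 : β (x ^ k) = β (x ^ (1 + p)) := congrArg β (hk₁ x hxo)
  rw [map_pow β x k, map_pow β x (1 + p), hβx] at h5
  exact h5

theorem hom_ker (β : G →* ℂˣ) (hβ : ∀ g, (β g) ^ p = 1) : R ≤ β.ker := by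
  unfold Cfsg.pResidual
  rw [Subgroup.closure_le]
  intro y hy
  have hy' : Nat.Coprime (orderOf y) p := hy
  have h1 : (β y) ^ orderOf y = 1 := by rw [← map_pow, pow_orderOf_eq_one, map_one]
  have h2 : (β y) ^ Nat.gcd (orderOf y) p = 1 := pow_gcd_eq_one.2 ⟨h1, hβ y⟩
  rw [hy', pow_one] at h2
  exact h2

theorem card_homs (hcyc : IsCyclic (G ⧸ R)) (hnt : R ≠ ⊤) :
    Nat.card {β : G →* ℂˣ // ∀ g, (β g) ^ p = 1} = p := by
  classical
  haveI : NeZero p := ⟨hp.out.ne_zero⟩
  obtain ⟨q, hq⟩ := hcyc.exists_generator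
  have hQp : p ∣ orderOf q := by
    obtain ⟨m₀, hm₀⟩ := exists_index_eq (G := G) p
    rw [orderOf_eq_card_of_forall_mem_zpowers hq]
    have h1 : Nat.card (G ⧸ R) = p ^ m₀ := hm₀
    rw [h1]
    have hm0 : m₀ ≠ 0 := by
      rintro rfl
      apply hnt
      exact Subgroup.index_eq_one.1 (by simpa using hm₀)
    exact dvd_pow_self p hm0
  have hker : ∀ β : G →* ℂˣ, (∀ g, (β g) ^ p = 1) → R ≤ β.ker := fun β hβ => hom_ker p β hβ
  have hord : ∀ ζ : rootsOfUnity p ℂ, orderOf (ζ : ℂˣ) ∣ orderOf q := by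
    intro ζ
    have h1 : (ζ : ℂˣ) ^ p = 1 := (mem_rootsOfUnity _ _).1 ζ.2
    exact (orderOf_dvd_of_pow_eq_one h1).trans hQp
  let Φ : rootsOfUnity p ℂ → (G ⧸ R →* ℂˣ) := fun ζ => monoidHomOfForallMemZpowers hq (hord ζ)
  have hΦq : ∀ ζ, Φ ζ q = ζ := fun ζ => monoidHomOfForallMemZpowers_apply_gen hq (hord ζ)
  let e : {β : G →* ℂˣ // ∀ g, (β g) ^ p = 1} ≃ rootsOfUnity p ℂ :=
    { toFun := fun β => ⟨QuotientGroup.lift R β.1 (fun x hx => hker β.1 β.2 hx) q, by
        rw [mem_rootsOfUnity]
        induction q using QuotientGroup.induction_on with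
        | H g => exact β.2 g⟩
      invFun := fun ζ =>
        ⟨(Φ ζ).comp (QuotientGroup.mk' R), by
          intro g
          simp only [MonoidHom.comp_apply]
          obtain ⟨i, hi⟩ := hq (QuotientGroup.mk' R g)
          have hi' : (QuotientGroup.mk' R g) = q ^ i := hi.symm
          have h1 : (ζ : ℂˣ) ^ p = 1 := (mem_rootsOfUnity _ _).1 ζ.2
          rw [hi', map_zpow, hΦq, ← zpow_natCast, ← zpow_mul,
            mul_comm, zpow_mul, zpow_natCast, h1, one_zpow]⟩
      left_inv := fun β => by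
        apply Subtype.ext
        ext g
        obtain ⟨i, hi⟩ := hq (QuotientGroup.mk' R g)
        have hi' : (QuotientGroup.mk' R g) = q ^ i := hi.symm
        have h3 : (QuotientGroup.lift R β.1 (fun x hx => hker β.1 β.2 hx) (QuotientGroup.mk' R g)) = β.1 g := rfl
        rw [hi', map_zpow] at h3
        show ((Φ _ (QuotientGroup.mk' R g) : ℂˣ) : ℂ) = _
        rw [hi', map_zpow, hΦq, ← h3]
      right_inv := fun ζ => by
        apply Subtype.ext
        have h1 : ∀ (x : G ⧸ R) (hh), QuotientGroup.lift R ((Φ ζ).comp (QuotientGroup.mk' R)) hh x = Φ ζ x := by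
          intro x hh
          induction x using QuotientGroup.induction_on with
          | H g => rfl
        exact (h1 q _).trans (hΦq ζ) }
  rw [Nat.card_congr e, Complex.card_rootsOfUnity]

end Main


/-- Let G be a finite group, p a prime, P a Sylow p-subgroup, N the p-residual of G (the subgroup generated by the elements of order prime to p, the smallest normal subgroup with G/N a p-group), and M a maximal ideal of the algebraic integers containing p; suppose G/N is cyclic and nontrivial. Let k be a natural number with g ^ k = g ^ (1 + p) for every p-element g and g ^ k = g for every element g of order prime to p (so that χ (g ^ k) is the image of χ g under the field automorphism that raises p-power roots of unity to the power 1 + p and fixes the roots of unity of order prime to p). Then the number of members χ of the principal block of G of degree prime to p with χ (g ^ k) = χ g for all g equals p times the number of members θ of the principal block of N of degree prime to p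 that are invariant under conjugation by P and satisfy θ (n ^ k) = θ n for all n. -/
theorem result {G : Type*} [Group G] [Finite G] (p : ℕ) [Fact p.Prime] (M : Ideal Cfsg.AlgInt) (hM : Cfsg.IsPModular p M) (P : Sylow p G) (N : Subgroup G) [hN : N.Normal] (hNres : N = Cfsg.pResidual p G) (hcyc : IsCyclic (G ⧸ N)) (hnt : N ≠ ⊤) (k : ℕ) (hk₁ : ∀ g : G, (∃ j : ℕ, orderOf g = p ^ j) → g ^ k = g ^ (1 + p)) (hk₂ : ∀ g : G, Nat.Coprime (orderOf g) p → g ^ k = g) : Nat.card {χ : Cfsg.IrrCharacter G // χ ∈ Cfsg.principalBlock M G ∧ ¬ p ∣ Cfsg.charDegree (χ : G → ℂ) ∧ ∀ g : G, (χ : G → ℂ) (g ^ k) = (χ : G → ℂ) g} = p * Nat.card {θ : Cfsg.IrrCharacter ↥N // θ ∈ Cfsg.principalBlock M ↥N ∧ ¬ p ∣ Cfsg.charDegree (θ : ↥N → ℂ) ∧ (∀ x ∈ (P : Subgroup G), ∀ n : ↥N, (θ : ↥N → ℂ) ⟨x * n * x⁻¹, hN.conj_mem n n.2 x⟩ = (θ : ↥N → ℂ) n) ∧ ∀ n : ↥N, (θ : ↥N → ℂ) (n ^ k) = (θ : ↥N → ℂ) n} := by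
  classical
  subst hNres
  have hpp : p.Prime := Fact.out
  cases nonempty_fintype G
  letI : Fintype (pResidual p G) := Fintype.ofFinite _
  -- `k` is prime to the order of `G`
  have hkcop : k.Coprime (Nat.card G) := by
    refine Nat.Coprime.symm (Nat.coprime_of_dvd fun l hl hlG hlk => ?_)
    haveI : Fact l.Prime := ⟨hl⟩
    obtain ⟨y, hy⟩ := exists_prime_orderOf_dvd_card' l hlG
    have hy1 : y ^ k = 1 := by
      rw [← orderOf_dvd_iff_pow_eq_one, hy]; exact hlk
    have hyne : y ≠ 1 := by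
      intro h0
      rw [h0, orderOf_one] at hy
      exact hl.one_lt.ne hy
    by_cases hlp : l = p
    · have h2 := hk₁ y ⟨1, by rw [hy, hlp, pow_one]⟩
      rw [hy1, pow_add, pow_one, ← hlp, ← hy, pow_orderOf_eq_one, mul_one] at h2
      exact hyne h2.symm
    · have h2 := hk₂ y (by
        rw [hy]
        exact (Nat.coprime_primes hl hpp).2 hlp)
      rw [hy1] at h2
      exact hyne h2.symm
  have hk0 : 1 ≤ k := by
    rcases Nat.eq_zero_or_pos k with h | h
    · subst h
      have h2 : Nat.card G = 1 := by simpa using hkcop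
      exfalso
      apply hnt
      rw [eq_top_iff]
      intro g _
      have : g = 1 := (Nat.card_eq_one_iff_unique.1 h2).1.elim _ _
      rw [this]
      exact Subgroup.one_mem _
    · exact h
  -- `G = O^p(G) P`
  have hsup : pResidual p G ⊔ (P : Subgroup G) = ⊤ := by
    obtain ⟨m₀, hm₀⟩ := exists_index_eq (G := G) p
    have h1 : (pResidual p G ⊔ (P : Subgroup G)).index ∣ p ^ m₀ := by
      rw [← hm₀]; exact Subgroup.index_dvd_of_le le_sup_left
    have h2 : ¬ p ∣ (pResidual p G ⊔ (P : Subgroup G)).index := fun hd =>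
      P.not_dvd_index (hd.trans (Subgroup.index_dvd_of_le le_sup_right))
    obtain ⟨j, -, hj⟩ := (Nat.dvd_prime_pow hpp).1 h1
    rcases Nat.eq_zero_or_pos j with rfl | hj0
    · exact Subgroup.index_eq_one.1 (by simpa using hj)
    · exact absurd (hj ▸ dvd_pow_self p hj0.ne') h2
  -- restriction is irreducible
  have hres : ∀ χ : IrrCharacter G, ¬ p ∣ charDegree (χ : G → ℂ) →
      IsIrrCharacter (pResidual p G) (fun n : pResidual p G => (χ : G → ℂ) n) := by
    intro χ hd
    have hχc := isCharacter_of_isIrrCharacter χ.2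
    have hrc := isCharacter_restrict hχc (pResidual p G)
    have h1 : (fun n : pResidual p G => (χ : G → ℂ) n) 1 ≠ 0 := by
      show (χ : G → ℂ) 1 ≠ 0
      exact irr_apply_one_ne_zero χ.2
    obtain ⟨θ, hθ, hc⟩ := Cfsg.Agent.Lib.Char.CliffordCorr.exists_irr_constituent hrc h1
    obtain ⟨e, he1, he2⟩ := Cfsg.Agent.Lib.Char.DegreeDvd.exists_degree_ratio (pResidual p G) χ.2 hθ hc
    obtain ⟨m₀, hm₀⟩ := exists_index_eq (G := G) p
    rw [hm₀] at he2
    obtain ⟨j, -, rfl⟩ := (Nat.dvd_prime_pow hpp).1 he2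
    have hdeg : ((charDegree (χ : G → ℂ) : ℕ) : ℂ) = (χ : G → ℂ) 1 :=
      Cfsg.Agent.Lib.Char.Values.IsCharacter.charDegree_cast hχc
    obtain ⟨t, ht⟩ := Cfsg.Agent.Lib.Char.Clifford.exists_nat_apply_one (isCharacter_of_isIrrCharacter hθ)
    have hj : j = 0 := by
      by_contra hj
      apply hd
      have h3 : charDegree (χ : G → ℂ) = p ^ j * t := by
        have : ((charDegree (χ : G → ℂ) : ℕ) : ℂ) = ((p ^ j * t : ℕ) : ℂ) := by
          rw [hdeg, he1, ht]; push_cast; ring
        exact_mod_cast this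
      rw [h3]
      exact Dvd.dvd.mul_right (dvd_pow_self p hj) t
    subst hj
    have he : (χ : G → ℂ) 1 = θ 1 := by rw [he1]; simp
    obtain ⟨ψ, hψ, hsum⟩ := Cfsg.Agent.Lib.Char.Clifford.exists_char_add hrc hθ hc
    have hψ1 : ψ 1 = 0 := by
      have := congrFun hsum 1
      simp only [Pi.add_apply] at this
      have h5 : (χ : G → ℂ) 1 = θ 1 + ψ 1 := this
      rw [he] at h5
      linear_combination -h5
    have hψ0 := Cfsg.Agent.Lib.Char.Clifford.eq_zero_of_apply_one_eq_zero hψ hψ1
    rw [hsum, hψ0, add_zero]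
    exact hθ
  -- invariance
  have hinvOf : ∀ θ : IrrCharacter (pResidual p G),
      (∀ x ∈ (P : Subgroup G), ∀ n : pResidual p G,
        (θ : pResidual p G → ℂ) ⟨x * n * x⁻¹, hN.conj_mem n n.2 x⟩ = (θ : pResidual p G → ℂ) n) →
      IsInv (pResidual p G) (θ : pResidual p G → ℂ) := by
    intro θ hθ g n
    have hg : g ∈ pResidual p G ⊔ (P : Subgroup G) := by rw [hsup]; trivial
    obtain ⟨a, ha, x, hx, rfl⟩ := Subgroup.mem_sup_of_normal_left.1 hg
    have hcl := isClassFunction_of_isCharacter (isCharacter_of_isIrrCharacter θ.2)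
    have h1 := hθ x hx n
    have h2 := hcl ⟨x * n * x⁻¹, hN.conj_mem n n.2 x⟩ ⟨a, ha⟩
    rw [← h1, ← h2]
    refine congrArg _ (Subtype.ext ?_)
    simp only [Subgroup.coe_mul, Subgroup.coe_inv, mul_inv_rev]
    group
  -- the degree under restriction
  have hdeq : ∀ χ : G → ℂ, charDegree (fun n : pResidual p G => χ n) = charDegree χ := fun χ => rfl
  haveI hMp : M.IsPrime := hM.2.1.isPrime
  -- the sets
  let X := {χ : IrrCharacter G // χ ∈ principalBlock M G ∧ ¬ p ∣ charDegree (χ : G → ℂ) ∧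
    ∀ g : G, (χ : G → ℂ) (g ^ k) = (χ : G → ℂ) g}
  let Y := {θ : IrrCharacter (pResidual p G) // θ ∈ principalBlock M (pResidual p G) ∧
    ¬ p ∣ charDegree (θ : pResidual p G → ℂ) ∧
    (∀ x ∈ (P : Subgroup G), ∀ n : pResidual p G,
      (θ : pResidual p G → ℂ) ⟨x * n * x⁻¹, hN.conj_mem n n.2 x⟩ = (θ : pResidual p G → ℂ) n) ∧
    ∀ n : pResidual p G, (θ : pResidual p G → ℂ) (n ^ k) = (θ : pResidual p G → ℂ) n}
  let res : X → Y := fun x => ⟨⟨fun n => (x.1 : G → ℂ) n, hres x.1 x.2.2.1⟩, by
    have hcl := isClassFunction_of_isCharacter (isCharacter_of_isIrrCharacter x.1.2)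
    refine ⟨?_, ?_, ?_, ?_⟩
    · refine mem_principal_of_constituent hM x.2.1 (θ := ⟨_, hres x.1 x.2.2.1⟩) ?_
      rw [classInner_irr_self (hres x.1 x.2.2.1)]
      exact one_ne_zero
    · exact x.2.2.1
    · intro g _ n
      exact hcl (n : G) g
    · intro n
      exact x.2.2.2 n⟩
  have hfib : ∀ y : Y, Nat.card {x : X // res x = y} = p := by
    intro y
    obtain ⟨θ, hθ1, hθ2, hθ3, hθ4⟩ := y
    have hinv := hinvOf θ hθ3
    obtain ⟨χc, μ, hχc, hχcN, hdet, hμo⟩ := exists_ext_of_inv p θ.2 hinv hθ2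
    have hχcc := isCharacter_of_isIrrCharacter hχc
    have hirrN : IsIrrCharacter (pResidual p G) (fun n : pResidual p G => χc n) := by
      have : (fun n : pResidual p G => χc n) = (θ : pResidual p G → ℂ) := funext hχcN
      rw [this]; exact θ.2
    obtain ⟨m₀, hm₀⟩ := exists_index_eq (G := G) p
    -- triviality of the characters of `G / O^p(G)`
    have hβpow : ∀ (β : G →* ℂˣ), (∀ n : pResidual p G, β n = 1) → ∀ g, (β g) ^ (p ^ m₀) = 1 := by
      intro β hβ g
      have h1 : g ^ (pResidual p G).index ∈ pResidual p G := by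
        have h2 : ((g : G ⧸ pResidual p G)) ^ (pResidual p G).index = 1 := by
          rw [Subgroup.index]; exact pow_card_eq_one'
        have h3 : ((g ^ (pResidual p G).index : G) : G ⧸ pResidual p G) = 1 := by
          rw [QuotientGroup.mk_pow]; exact h2
        exact (QuotientGroup.eq_one_iff _).1 h3
      have h2 : β (g ^ (pResidual p G).index) = 1 := hβ ⟨_, h1⟩
      rwa [map_pow, hm₀] at h2
    -- the canonical extension is fixed
    have hfixc : ∀ g, χc (g ^ k) = χc g := by
      have hχ' := isIrrCharacter_pow_of_coprime hχc hkcop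
      obtain ⟨β, hβ1, hβ2⟩ := exists_linear_of_two_ext (pResidual p G) hχc hχ' hirrN (fun n => by
        show χc ((n : G) ^ k) = χc n
        have h1 := hθ4 n
        rw [← hχcN n, ← hχcN (n ^ k)] at h1
        exact h1)
      have hβ1' : ∀ n : pResidual p G, β n = 1 := fun n => Units.ext (hβ1 n)
      obtain ⟨d, hd⟩ := Cfsg.Agent.Lib.Char.Clifford.exists_nat_apply_one hχcc
      have hdcop : ¬ p ∣ d := by
        have h1 : charDegree χc = d := Cfsg.Agent.Lib.Char.Values.IsCharacter.charDegree_eq hχcc hd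
        have h2 : charDegree χc = charDegree (θ : pResidual p G → ℂ) := by
          unfold charDegree
          rw [← hχcN 1]
          rfl
        rw [← h1, h2]
        exact hθ2
      have hmul : ∀ g, detChar (fun g => χc (g ^ k)) g = ((β g : ℂˣ) : ℂ) ^ d * detChar χc g := by
        intro g
        rw [hβ2]
        exact detChar_mul_hom hχcc β d hd g
      have hpow : ∀ g, detChar (fun g => χc (g ^ k)) g = ((μ g : ℂˣ) : ℂ) ^ k := by
        intro g
        obtain ⟨m, ρ, hρ, hρe⟩ := hχc
        obtain ⟨τ, hτ⟩ := exists_ringHom_pow (Nat.card G) Nat.card_pos k hkcop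
        have h1 : (fun g => χc (g ^ k)) = (twist τ ρ).character := by
          funext g
          rw [character_twist, ← hρe]
          exact (map_character τ Nat.card_pos hτ ρ g pow_card_eq_one').symm
        rw [h1, detChar_character]
        have h2 : LinearMap.det ((twist τ ρ) g) = τ (LinearMap.det (ρ g)) :=
          Cfsg.Agent.Lib.Char.GalFix.det_twistEnd τ _
        have h3 : LinearMap.det (ρ g) = ((μ g : ℂˣ) : ℂ) := by
          have := congrFun hdet g
          rw [← hρe, detChar_character] at this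
          exact this
        rw [h2, h3]
        apply hτ
        rw [← Units.val_pow_eq_pow_val, ← map_pow, pow_card_eq_one', map_one, Units.val_one]
      have hβone : ∀ g, β g = 1 := by
        intro g
        have h1 : ((μ g : ℂˣ) : ℂ) ^ k = ((β g : ℂˣ) : ℂ) ^ d * ((μ g : ℂˣ) : ℂ) := by
          rw [← hpow, hmul, hdet]
        have h2 : (β g) ^ d = (μ g) ^ (k - 1) := by
          apply Units.ext
          push_cast
          apply mul_right_cancel₀ (Units.ne_zero (μ g))
          rw [← h1, ← pow_succ, Nat.sub_add_cancel hk0]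
        have h3 : (β g) ^ (p ^ m₀) = 1 := hβpow β hβ1' g
        have h4 : (β g) ^ (d * orderOf μ) = 1 := by
          rw [pow_mul, h2, ← pow_mul, mul_comm, pow_mul]
          have h5 : (μ g) ^ orderOf μ = 1 := by
            have h6 := pow_orderOf_eq_one μ
            rw [← MonoidHom.pow_apply, h6]
            rfl
          rw [h5, one_pow]
        have hgcd : Nat.gcd (d * orderOf μ) (p ^ m₀) = 1 := by
          apply Nat.Coprime.pow_right
          apply Nat.Coprime.mul_left
          · exact (Nat.Coprime.symm ((Nat.Prime.coprime_iff_not_dvd hpp).2 hdcop))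
          · exact hμo
        have h5 : (β g) ^ Nat.gcd (d * orderOf μ) (p ^ m₀) = 1 := pow_gcd_eq_one.2 ⟨h4, h3⟩
        rwa [hgcd, pow_one] at h5
      intro g
      have := congrFun hβ2 g
      simp only [hβone, Units.val_one, one_mul] at this
      exact this
    -- the elements of the fibre
    have hφinv : ∀ (g : G) (n : pResidual p G), (θ : pResidual p G → ℂ)
        ⟨g * n * g⁻¹, hN.conj_mem (n : G) n.2 g⟩ = (θ : pResidual p G → ℂ) n := hinv
    obtain ⟨χ₀, h0, hc0⟩ := Cfsg.Agent.Lib.Char.B0Tools.exists_principal_over (pResidual p G) hM hθ1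
    have hmem : ∀ β : {β : G →* ℂˣ // ∀ g, (β g) ^ p = 1},
        (⟨fun g => ((β.1 g : ℂˣ) : ℂ) * χc g, hom_mul_irr β.1 hχc⟩ : IrrCharacter G) ∈ principalBlock M G ∧
          ¬ p ∣ charDegree (fun g => ((β.1 g : ℂˣ) : ℂ) * χc g) ∧
          ∀ g : G, ((β.1 (g ^ k) : ℂˣ) : ℂ) * χc (g ^ k) = ((β.1 g : ℂˣ) : ℂ) * χc g := by
      intro β
      have hβN : ∀ n : pResidual p G, β.1 n = 1 := fun n => hom_ker p β.1 β.2 n.2
      refine ⟨?_, ?_, ?_⟩
      · have hcon : classInner (fun n : pResidual p G => ((β.1 n : ℂˣ) : ℂ) * χc n) (θ : pResidual p G → ℂ) ≠ 0 := by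
          have e : (fun n : pResidual p G => ((β.1 n : ℂˣ) : ℂ) * χc n) = (θ : pResidual p G → ℂ) := by
            funext n
            rw [hβN n, hχcN n]
            simp
          rw [e, classInner_irr_self θ.2]
          exact one_ne_zero
        have hs : SameBlock M (χ₀ : G → ℂ) (fun g => ((β.1 g : ℂˣ) : ℂ) * χc g) :=
          sameBlock_of_constituents hM (exists_index_eq p) (ψ := ⟨_, hom_mul_irr β.1 hχc⟩) hc0 hcon (sameBlock_refl _)
        exact sameBlock_trans h0 hs
      · have h2 : charDegree (fun g => ((β.1 g : ℂˣ) : ℂ) * χc g) = charDegree (θ : pResidual p G → ℂ) := by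
          unfold charDegree
          simp only [map_one, Units.val_one, one_mul]
          rw [← hχcN 1]
          rfl
        rw [h2]
        exact hθ2
      · intro g
        rw [hfixc g, map_pow]
        have h3 := hom_pow_key p hk₁ β.1 hβN g
        rw [h3, pow_add, pow_one, β.2 g, mul_one]
    let F : {β : G →* ℂˣ // ∀ g, (β g) ^ p = 1} → {x : X // res x = ⟨θ, hθ1, hθ2, hθ3, hθ4⟩} := fun β =>
      ⟨⟨⟨fun g => ((β.1 g : ℂˣ) : ℂ) * χc g, hom_mul_irr β.1 hχc⟩, hmem β⟩, by
        apply Subtype.ext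
        apply Subtype.ext
        funext n
        show ((β.1 n : ℂˣ) : ℂ) * χc n = (θ : pResidual p G → ℂ) n
        have h : β.1 (n : G) = 1 := hom_ker p β.1 β.2 n.2
        rw [h, hχcN n]
        simp⟩
    have hbij : Function.Bijective F := by
      constructor
      · intro a b hab
        have h1 : (fun g => ((a.1 g : ℂˣ) : ℂ) * χc g) = (fun g => ((b.1 g : ℂˣ) : ℂ) * χc g) := by
          have := congrArg (fun x : {x : X // res x = ⟨θ, hθ1, hθ2, hθ3, hθ4⟩} => ((x.1.1 : IrrCharacter G) : G → ℂ)) hab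
          exact this
        have h2 := Cfsg.Agent.S4912.gallagher_inj (pResidual p G) θ.2 hφinv hχc hχcN
          (isIrr_of_hom a.1) (isIrr_of_hom b.1)
          (fun n => by
            have h : a.1 (n : G) = 1 := hom_ker p a.1 a.2 n.2
            simp [h]) (fun n => by
            have h : b.1 (n : G) = 1 := hom_ker p b.1 b.2 n.2
            simp [h]) h1
        apply Subtype.ext
        ext g
        exact congrFun h2 g
      · rintro ⟨x, hx⟩
        have hxN : ∀ n : pResidual p G, (x.1 : G → ℂ) n = χc n := by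
          intro n
          have h1 := congrArg (fun y : Y => ((y.1 : IrrCharacter (pResidual p G)) : pResidual p G → ℂ) n) hx
          have h2 : (x.1 : G → ℂ) n = (θ : pResidual p G → ℂ) n := h1
          rw [h2, hχcN]
        obtain ⟨β, hβ1, hβ2⟩ := exists_linear_of_two_ext (pResidual p G) hχc x.1.2 hirrN hxN
        have hβN : ∀ n : pResidual p G, β n = 1 := fun n => Units.ext (hβ1 n)
        have h1 : (fun g => (((β ^ k) g : ℂˣ) : ℂ)) * χc = (fun g => ((β g : ℂˣ) : ℂ)) * χc := by
          funext g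
          have h2 := x.2.2.2 g
          rw [hβ2] at h2
          simp only [Pi.mul_apply, MonoidHom.pow_apply]
          simp only [map_pow, hfixc g] at h2
          push_cast
          exact h2
        have h2 := Cfsg.Agent.S4912.gallagher_inj (pResidual p G) θ.2 hφinv hχc hχcN
          (isIrr_of_hom (β ^ k)) (isIrr_of_hom β)
          (fun n => by simp [hβN n]) (fun n => by simp [hβN n]) h1
        have hβp : ∀ g, (β g) ^ p = 1 := by
          intro g
          have h3 : (β g) ^ k = β g := by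
            apply Units.ext
            have := congrFun h2 g
            simpa using this
          have h4 := hom_pow_key p hk₁ β hβN g
          rw [h3, pow_add, pow_one] at h4
          exact (mul_eq_left.1 h4.symm)
        refine ⟨⟨β, hβp⟩, ?_⟩
        apply Subtype.ext
        apply Subtype.ext
        apply Subtype.ext
        exact hβ2.symm
    exact (Nat.card_congr (Equiv.ofBijective F hbij)).symm.trans (card_homs p hcyc hnt)
  have hsig : Nat.card X = ∑ y : Y, Nat.card {x : X // res x = y} := by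
    rw [← Nat.card_sigma]
    exact Nat.card_congr (Equiv.sigmaFiberEquiv res).symm
  show Nat.card X = p * Nat.card Y
  rw [hsig]
  simp only [hfib]
  rw [Finset.sum_const, Finset.card_univ, smul_eq_mul, mul_comm, Nat.card_eq_fintype_card]

end Cfsg.Agent.S4553
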