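import Cfsg.Statements.S4573
import Mathlib
import Cfsg.Agent.Lib.Char.DadeWreath

set_option autoImplicit false
set_option linter.style.haveILetI false
universe u
open Cfsg

namespace Cfsg.Agent.S4573

open Cfsg.Agent.Lib.Char.DadeEmbed RegularWreathProduct Cfsg.Agent.Lib.Char.Induced

section Embed

variable {G : Type*} [Group G] (N : Subgroup G) [hN : N.Normal]

/-- The embedding of `G` in `N ≀ (G / N)`. -/
noncomputable def embedFun (g : G) : N ≀ᵣ (G ⧸ N) :=
  ⟨fun x => ⟨(Quotient.out x)⁻¹ * (g * Quotient.out (((g : G ⧸ N))⁻¹ * x)), by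
    refine QuotientGroup.eq.mp ?_
    rw [QuotientGroup.out_eq', QuotientGroup.mk_mul, QuotientGroup.out_eq']
    simp⟩, (g : G ⧸ N)⟩

theorem exists_embed : ∃ f : G →* N ≀ᵣ (G ⧸ N), Function.Injective f := by
  classical
  refine ⟨MonoidHom.mk' (embedFun N) ?_, ?_⟩
  · intro a b
    ext1
    · funext x
      apply Subtype.ext
      simp [embedFun, mul_assoc, mul_inv_rev]
    · rfl
  · intro a b hab
    have h1 : (a : G ⧸ N) = b := congrArg RegularWreathProduct.right hab
    have h2 := congrFun (congrArg RegularWreathProduct.left hab) 1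
    have h3 := congrArg Subtype.val h2
    simp only [embedFun, MonoidHom.mk'_apply] at h3
    rw [h1] at h3
    simpa using h3

/-- The functoriality of the wreath product in the first variable. -/
def wrMap {A B Q : Type*} [Group A] [Group B] [Group Q] (φ : A →* B) : A ≀ᵣ Q →* B ≀ᵣ Q where
  toFun w := ⟨fun q => φ (w.left q), w.right⟩
  map_one' := by
    ext1
    · funext q
      simp
    · rfl
  map_mul' a b := by
    ext1
    · funext q
      simp [mul_left]
    · rfl

theorem wrMap_injective {A B Q : Type*} [Group A] [Group B] [Group Q] {φ : A →* B}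
    (hφ : Function.Injective φ) : Function.Injective (wrMap (Q := Q) φ) := by
  intro a b hab
  ext1
  · funext q
    exact hφ (congrFun (congrArg RegularWreathProduct.left hab) q)
  · exact congrArg (fun w : B ≀ᵣ Q => w.right) hab

end Embed

/-- A nontrivial solvable group has a normal subgroup of prime index. -/
theorem exists_normal_prime_index {G : Type*} [Group G] [Finite G] [Nontrivial G]
    (hsolv : Group.IsSolvable G) : ∃ N : Subgroup G, N.Normal ∧ N.index.Prime := by
  classical
  have hlt : commutator G ≠ ⊤ := by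
    have := Group.IsSolvable.commutator_lt_top_of_nontrivial G
    exact this.ne
  obtain ⟨M, hM, hle⟩ := (eq_top_or_exists_le_coatom (commutator G)).resolve_left hlt
  have hMn : M.Normal := by
    constructor
    intro m hm g
    have h1 : g * m * g⁻¹ * m⁻¹ ∈ commutator G :=
      Subgroup.commutator_mem_commutator (Subgroup.mem_top g) (Subgroup.mem_top m)
    have h2 := M.mul_mem (hle h1) hm
    simpa using h2
  refine ⟨M, hMn, ?_⟩
  have hne : M.index ≠ 1 := fun h => hM.1 (Subgroup.index_eq_one.mp h)
  obtain ⟨p, hp, hdvd⟩ := Nat.exists_prime_and_dvd hne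
  haveI : Fact p.Prime := ⟨hp⟩
  rw [Subgroup.index_eq_card] at hdvd ⊢
  obtain ⟨x, hx⟩ := exists_prime_orderOf_dvd_card' p hdvd
  let π : G →* G ⧸ M := QuotientGroup.mk' M
  let Z : Subgroup G := (Subgroup.zpowers x).comap π
  have hMZ : M ≤ Z := by
    intro m hm
    show π m ∈ Subgroup.zpowers x
    have : π m = 1 := (QuotientGroup.eq_one_iff m).mpr hm
    rw [this]
    exact Subgroup.one_mem _
  have hZ : Z = ⊤ := by
    refine (hM.2 Z (lt_of_le_of_ne hMZ ?_))
    intro h
    obtain ⟨g, rfl⟩ := QuotientGroup.mk'_surjective M x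
    have hg : g ∈ Z := Subgroup.mem_zpowers _
    rw [← h] at hg
    have : π g = 1 := (QuotientGroup.eq_one_iff g).mpr hg
    have hx1 : orderOf (π g) = 1 := by rw [this]; exact orderOf_one
    rw [hx] at hx1
    exact hp.one_lt.ne' hx1
  have hzp : Subgroup.zpowers x = ⊤ := by
    rw [eq_top_iff]
    intro y _
    obtain ⟨g, rfl⟩ := QuotientGroup.mk'_surjective M y
    have : g ∈ Z := by rw [hZ]; trivial
    exact this
  have hcard : Nat.card (G ⧸ M) = p := by
    rw [← hx, ← Nat.card_zpowers, hzp, Subgroup.card_top]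
  rw [hcard]
  exact hp

theorem exists_mgroup (n : ℕ) : ∀ (G : Type u) [Group G] [Finite G], Group.IsSolvable G → Nat.card G = n →
    ∃ (M : Type u) (_ : Group M) (_ : Fintype M), IsMG M ∧ ∃ f : G →* M, Function.Injective f := by
  induction n using Nat.strong_induction_on with
  | _ n ih =>
    intro G _ _ hsolv hn
    classical
    by_cases hG : Nontrivial G
    · obtain ⟨N, hNn, hNp⟩ := exists_normal_prime_index hsolv
      have hlt : Nat.card N < n := by
        rw [← hn, ← Subgroup.card_mul_index N]
        exact lt_mul_of_one_lt_right Nat.card_pos hNp.one_lt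
      have hNsolv : Group.IsSolvable N := inferInstance
      obtain ⟨M₀, _, _, hM₀, f, hf⟩ := ih _ hlt N hNsolv rfl
      obtain ⟨e, he⟩ := exists_embed N
      let Q := G ⧸ N
      haveI : Finite (M₀ ≀ᵣ Q) := Finite.of_equiv _ (equivProd M₀ Q).symm
      letI : Fintype Q := Fintype.ofFinite Q
      letI : Fintype (M₀ ≀ᵣ Q) := Fintype.ofFinite _
      refine ⟨M₀ ≀ᵣ Q, inferInstance, inferInstance, ?_, (wrMap f).comp e, ?_⟩
      · apply isMG_wreath hM₀
        rw [← Subgroup.index_eq_card]
        exact hNp
      · exact (wrMap_injective hf).comp he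
    · rw [not_nontrivial_iff_subsingleton] at hG
      letI : Fintype G := Fintype.ofFinite G
      refine ⟨G, inferInstance, inferInstance, ?_, MonoidHom.id G, Function.injective_id⟩
      intro χ hχ
      refine ⟨⊤, 1, ?_⟩
      funext g
      have hg : g = 1 := Subsingleton.elim _ _
      subst hg
      rw [indFun_one]
      obtain ⟨d, hd, hd0, hdvd⟩ := Cfsg.Agent.Lib.Char.GlaubOver.exists_degree_dvd hχ
      have hc : Nat.card G = 1 := Nat.card_unique
      rw [hc, Nat.dvd_one] at hdvd
      rw [hd, hdvd]
      simp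

/-- Every finite solvable group is isomorphic to a subgroup of a finite M-group, a group each of whose irreducible characters is induced from a homomorphism of some subgroup into ℂˣ. -/
theorem result {G : Type u} [Group G] [Finite G] (hsolv : Group.IsSolvable G) : ∃ (M : Type u) (_ : Group M) (_ : Fintype M), (∀ χ : M → ℂ, Cfsg.IsIrrCharacter M χ → (∃ (H : Subgroup M) (lam : ↥H →* ℂˣ), χ = Cfsg.indFun H (fun h => (lam h : ℂ)))) ∧ ∃ f : G →* M, Function.Injective f :=
  exists_mgroup _ G hsolv rfl

end Cfsg.Agent.S4573
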