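import Cfsg.Statements.S4625
import Mathlib
import Cfsg.Agent.Lib.SqChar2.SL
import Cfsg.Agent.Lib.SqChar2.SpOm
import Cfsg.Agent.Lib.SqChar2.SU
import Cfsg.Agent.Lib.SqChar2.OmM
import Cfsg.Agent.Lib.SqChar2.Sz
import Cfsg.Agent.Lib.SqChar2.Chev
import Cfsg.Agent.Lib.SqChar2.Tw
import Cfsg.Agent.Lib.SqChar2.F4
import Cfsg.Agent.Lib.Chevalley.Tbl.G2Sys
import Cfsg.Agent.Lib.Chevalley.Tbl.F4Sys
import Cfsg.Agent.Lib.Chevalley.Tbl.E6Sys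
import Cfsg.Agent.Lib.Chevalley.Tbl.E7Sys
import Cfsg.Agent.Lib.Chevalley.Tbl.E8Sys
import Cfsg.Agent.Lib.ChevBN.FastData

set_option autoImplicit false
open Cfsg

namespace Cfsg.Agent.S4625

open Cfsg.Agent.Lib.SLSyl.Core Cfsg.Agent.Lib.SqChar2.Root

/-- Let G be a finite simple group of Lie type in characteristic 2, not counting the Tits group ²F₄(2)′. Then a Sylow 2-subgroup P of G has P/P' elementary abelian: the square of every element of P lies in the derived subgroup of P. -/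
theorem result {G : Type*} [Group G] [Finite G] [IsSimpleGroup G] (hG : Cfsg.IsLieTypeChar 2 G) (P : Sylow 2 G) :
    ∀ x : (P : Subgroup G), x ^ 2 ∈ commutator (P : Subgroup G) := by
  suffices h : SqSyl G from h P
  rcases hG with h | h | h | h | h | h | h | h | h | h | h
  · obtain ⟨F, _, _, _, n, hn, -, ⟨e⟩⟩ := h
    exact SqSyl.of_mulEquiv e.symm (Cfsg.Agent.Lib.SqChar2.SL.sqSyl_PSL hn)
  · obtain ⟨F, _, _, _, m, hm, -, ⟨e⟩⟩ := h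
    obtain ⟨n, rfl⟩ : ∃ n, m = n + 1 := ⟨m - 1, by omega⟩
    exact SqSyl.of_mulEquiv e.symm (Cfsg.Agent.Lib.SqChar2.SpOm.sqSyl_PSp F n)
  · obtain ⟨F, _, _, _, n, q, hF, hn, -, ⟨e⟩⟩ := h
    exact SqSyl.of_mulEquiv e.symm (Cfsg.Agent.Lib.SqChar2.SU.sqSyl_PSU (by omega) hF)
  · obtain ⟨F, _, _, _, m, hm, hodd, ⟨e⟩⟩ := h
    exfalso
    obtain ⟨k, hk, hc⟩ := FiniteField.card F 2
    rw [hc] at hodd
    exact (Nat.not_even_iff_odd.2 hodd) ((even_two).pow_of_ne_zero (ne_of_gt k.pos))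
  · obtain ⟨F, _, _, _, m, hm, ⟨e⟩⟩ := h
    obtain ⟨n, rfl⟩ : ∃ n, m = n + 2 := ⟨m - 2, by omega⟩
    exact SqSyl.of_mulEquiv e.symm
      (Cfsg.Agent.Lib.SqChar2.SpOm.sqSyl_POmegaPlus F n (Or.inr (by omega)))
  · obtain ⟨F, _, _, _, m, a, b, hm, hab, ⟨e⟩⟩ := h
    exact SqSyl.of_mulEquiv e.symm (Cfsg.Agent.Lib.SqChar2.OmM.sqSyl_POmegaMinus (m - 1) a b hab)
  · obtain ⟨F, _, _, _, h⟩ := h
    rcases h with ⟨-, ⟨e⟩⟩ | h | h | h | h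
    · haveI : Finite (Lie.chevG2.group F) := Finite.of_equiv G e.toEquiv
      exact SqSyl.of_mulEquiv e.symm (sqSyl_of_good (Cfsg.Agent.Lib.SqChar2.Chev.good_chev
        Cfsg.Agent.Lib.Chevalley.Tbl.G2.sys Cfsg.Agent.Lib.ChevBN.FastData.tbl_chevG2))
    · obtain ⟨e⟩ := h
      haveI : Finite (Lie.chevF4.group F) := Finite.of_equiv G e.toEquiv
      exact SqSyl.of_mulEquiv e.symm (sqSyl_of_good (Cfsg.Agent.Lib.SqChar2.Chev.good_chev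
        Cfsg.Agent.Lib.Chevalley.Tbl.F4.sys Cfsg.Agent.Lib.ChevBN.FastData.tbl_chevF4))
    · obtain ⟨e⟩ := h
      haveI : Finite (Lie.chevE6.group F) := Finite.of_equiv G e.toEquiv
      exact SqSyl.of_mulEquiv e.symm (sqSyl_of_good (Cfsg.Agent.Lib.SqChar2.Chev.good_chev
        Cfsg.Agent.Lib.Chevalley.Tbl.E6.sys Cfsg.Agent.Lib.ChevBN.FastData.tbl_chevE6))
    · obtain ⟨e⟩ := h
      haveI : Finite (Lie.chevE7.group F) := Finite.of_equiv G e.toEquiv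
      exact SqSyl.of_mulEquiv e.symm (sqSyl_of_good (Cfsg.Agent.Lib.SqChar2.Chev.good_chev
        Cfsg.Agent.Lib.Chevalley.Tbl.E7.sys Cfsg.Agent.Lib.ChevBN.FastData.tbl_chevE7))
    · obtain ⟨e⟩ := h
      haveI : Finite (Lie.chevE8.group F) := Finite.of_equiv G e.toEquiv
      exact SqSyl.of_mulEquiv e.symm (sqSyl_of_good (Cfsg.Agent.Lib.SqChar2.Chev.good_chev
        Cfsg.Agent.Lib.Chevalley.Tbl.E8.sys Cfsg.Agent.Lib.ChevBN.FastData.tbl_chevE8))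
  · obtain ⟨K, _, _, _, q, hq, h⟩ := h
    rcases h with ⟨hK, ⟨e⟩⟩ | ⟨hK, ⟨e⟩⟩
    · haveI : Finite (Lie.twistedE6 K q) := Finite.of_equiv G e.toEquiv
      exact SqSyl.of_mulEquiv e.symm (sqSyl_of_good (Cfsg.Agent.Lib.SqChar2.Tw.good_E6 hq hK))
    · haveI : Finite (Lie.twistedD4 K q) := Finite.of_equiv G e.toEquiv
      exact SqSyl.of_mulEquiv e.symm (sqSyl_of_good (Cfsg.Agent.Lib.SqChar2.Tw.good_D4 hq hK))
  · obtain ⟨-, F, _, _, m, hm, hF, ⟨e⟩⟩ := h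
    exact SqSyl.of_mulEquiv e.symm (Cfsg.Agent.Lib.SqChar2.Sz.sqSyl_Sz ⟨hm, hF⟩)
  · obtain ⟨-, K, _, _, m, hm, hK, ⟨e⟩⟩ := h
    haveI : Finite (Lie.twistedF4 K (2 ^ m)) := Finite.of_equiv G e.toEquiv
    exact SqSyl.of_mulEquiv e.symm (sqSyl_of_good (Cfsg.Agent.Lib.SqChar2.F4.good_F4 hm hK))
  · obtain ⟨h, -⟩ := h
    omega

end Cfsg.Agent.S4625
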