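import Cfsg.Statements.S4697
import Mathlib
import Cfsg.Agent.Lib.Blocks.AbLat10

set_option autoImplicit false
open Cfsg

namespace Cfsg.Agent.S4697

open Cfsg.Agent.Lib.Blocks.AbLat

universe u

/-- Two generators of a commutative subgroup of rank two. -/
lemma exists_two_gens {G : Type u} [Group G] [Finite G] (D : Subgroup G) (hab : ∀ a ∈ D, ∀ b ∈ D, a * b = b * a)
    (hr : Group.rank D = 2) : ∃ x ∈ D, ∃ y ∈ D, ∀ z ∈ D, ∃ i j : ℤ, z = x ^ i * y ^ j := by
  classical
  obtain ⟨S, hS, hcl⟩ := Group.rank_spec D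
  rw [hr] at hS
  obtain ⟨s, t, -, rfl⟩ := Finset.card_eq_two.mp hS
  refine ⟨s, s.2, t, t.2, fun z hz => ?_⟩
  letI : CommGroup D := { (inferInstance : Group D) with
    mul_comm := fun a b => Subtype.ext (hab a a.2 b b.2) }
  have hz' : (⟨z, hz⟩ : D) ∈ Subgroup.closure ((({s, t} : Finset D) : Set D)) := by
    rw [hcl]; trivial
  rw [Finset.coe_pair, Subgroup.mem_closure_pair] at hz'
  obtain ⟨i, j, hij⟩ := hz'
  exact ⟨i, j, by simpa using (congrArg Subtype.val hij).symm⟩

/-- Three generators of a commutative subgroup of rank three. -/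
lemma exists_three_gens {G : Type u} [Group G] [Finite G] (D : Subgroup G) (hab : ∀ a ∈ D, ∀ b ∈ D, a * b = b * a)
    (hr : Group.rank D = 3) : ∃ x ∈ D, ∃ y ∈ D, ∃ w ∈ D, ∀ z ∈ D, ∃ i j l : ℤ, z = x ^ i * y ^ j * w ^ l := by
  classical
  obtain ⟨S, hS, hcl⟩ := Group.rank_spec D
  rw [hr] at hS
  obtain ⟨s, t, r, -, -, -, rfl⟩ := Finset.card_eq_three.mp hS
  refine ⟨s, s.2, t, t.2, r, r.2, fun z hz => ?_⟩
  letI : CommGroup D := { (inferInstance : Group D) with
    mul_comm := fun a b => Subtype.ext (hab a a.2 b b.2) }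
  have hz' : (⟨z, hz⟩ : D) ∈ Subgroup.closure (({s, t, r} : Finset D) : Set D) := by
    rw [hcl]; trivial
  have hset : (({s, t, r} : Finset D) : Set D) = ({s, t} : Set D) ∪ {r} := by
    ext a
    simp only [Finset.coe_insert, Finset.coe_singleton, Set.mem_insert_iff, Set.mem_singleton_iff, Set.mem_union]
    tauto
  rw [hset, Subgroup.closure_union, Subgroup.mem_sup] at hz'
  obtain ⟨u, hu, v, hv, huv⟩ := hz'
  rw [Subgroup.mem_closure_pair] at hu
  obtain ⟨i, j, rfl⟩ := hu
  rw [Subgroup.mem_closure_singleton] at hv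
  obtain ⟨l, rfl⟩ := hv
  exact ⟨i, j, l, by simpa using (congrArg Subtype.val huv).symm⟩

/-- A subgroup generated by three commuting elements has order at most the product of their orders. -/
lemma card_le_of_three_gens {G : Type u} [Group G] [Finite G] (D : Subgroup G) {x y w : G}
    (hx : x ∈ D) (hy : y ∈ D) (hw : w ∈ D)
    (hgen : ∀ z ∈ D, ∃ i j l : ℤ, z = x ^ i * y ^ j * w ^ l) :
    Nat.card D ≤ orderOf x * orderOf y * orderOf w := by
  classical
  let f : Subgroup.zpowers x × Subgroup.zpowers y × Subgroup.zpowers w → D := fun a =>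
    ⟨(a.1 : G) * (a.2.1 : G) * (a.2.2 : G),
      D.mul_mem (D.mul_mem ((Subgroup.zpowers_le.mpr hx) a.1.2)
        ((Subgroup.zpowers_le.mpr hy) a.2.1.2)) ((Subgroup.zpowers_le.mpr hw) a.2.2.2)⟩
  have hf : Function.Surjective f := by
    rintro ⟨z, hz⟩
    obtain ⟨i, j, l, rfl⟩ := hgen z hz
    exact ⟨(⟨x ^ i, Subgroup.zpow_mem_zpowers x i⟩, ⟨y ^ j, Subgroup.zpow_mem_zpowers y j⟩,
      ⟨w ^ l, Subgroup.zpow_mem_zpowers w l⟩), rfl⟩
  have h := Nat.card_le_card_of_surjective f hf
  rw [Nat.card_prod, Nat.card_prod, Nat.card_zpowers, Nat.card_zpowers, Nat.card_zpowers] at h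
  rwa [mul_assoc]

lemma main_three {G : Type u} [Group G] [Fintype G] (p : ℕ) [Fact p.Prime] {M : Ideal Cfsg.AlgInt} [M.IsPrime]
    (hM : Cfsg.IsPModular p M) {B : Set (Cfsg.IrrCharacter G)} (hB : Cfsg.IsPBlock M B) {D : Subgroup G}
    (hBD : Cfsg.IsDefectGroup p M B D) (hab : ∀ a ∈ D, ∀ b ∈ D, a * b = b * a) {x y w : G}
    (hx : x ∈ D) (hy : y ∈ D) (hw : w ∈ D)
    (hgen : ∀ z ∈ D, ∃ i j l : ℤ, z = x ^ i * y ^ j * w ^ l)
    (hyx : orderOf y ≤ orderOf x) (hwx : orderOf w ≤ orderOf x) :
    Nat.card B ^ 3 ≤ Nat.card D ^ 5 := by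
  have h1 := card_mul_le_of_three_gen hM hB hBD hx hy hw hab hgen
  have h2 := card_le_of_three_gens D hx hy hw hgen
  have h3 : Nat.card D ≤ orderOf x ^ 3 := by
    refine h2.trans ?_
    calc orderOf x * orderOf y * orderOf w ≤ orderOf x * orderOf x * orderOf x := by gcongr
      _ = orderOf x ^ 3 := by ring
  have hpos : 0 < Nat.card D := Nat.card_pos
  have h4 : Nat.card B ^ 3 * Nat.card D ≤ Nat.card D ^ 5 * Nat.card D := by
    calc Nat.card B ^ 3 * Nat.card D ≤ Nat.card B ^ 3 * orderOf x ^ 3 := by gcongr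
      _ = (Nat.card B * orderOf x) ^ 3 := by ring
      _ ≤ (Nat.card D ^ 2) ^ 3 := by gcongr
      _ = Nat.card D ^ 5 * Nat.card D := by ring
  exact Nat.le_of_mul_le_mul_right h4 hpos

/-- Let p be a prime, M a maximal ideal of the algebraic integers containing p, and B a p-block of the finite group G with an abelian defect group D of order p^d. If D has rank 2 (its least number of generators is 2) then B contains at most p^d irreducible characters; if D has rank 3 then the number k of irreducible characters in B satisfies k^3 ≤ p^(5d). -/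
theorem result {G : Type*} [Group G] [Finite G] (p : ℕ) [Fact p.Prime] (M : Ideal Cfsg.AlgInt) (hM : Cfsg.IsPModular p M) (B : Set (Cfsg.IrrCharacter G)) (hB : Cfsg.IsPBlock M B) (D : Subgroup G) (hBD : Cfsg.IsDefectGroup p M B D) (hab : IsMulCommutative D) (d : ℕ) (hDd : Nat.card D = p ^ d) : (Group.rank D = 2 → Nat.card B ≤ p ^ d) ∧ (Group.rank D = 3 → Nat.card B ^ 3 ≤ p ^ (5 * d)) := by
  classical
  cases nonempty_fintype G
  haveI : M.IsPrime := hM.2.1.isPrime
  have habD : ∀ a ∈ D, ∀ b ∈ D, a * b = b * a := by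
    intro a ha b hb
    have := hab.is_comm.comm ⟨a, ha⟩ ⟨b, hb⟩
    simpa using congrArg Subtype.val this
  refine ⟨fun hr => ?_, fun hr => ?_⟩
  · obtain ⟨x, hx, y, hy, hgen⟩ := exists_two_gens D habD hr
    rw [← hDd]
    exact card_le_of_two_gen hM hB hBD hx hy (habD x hx y hy) hgen
  · obtain ⟨x, hx, y, hy, w, hw, hgen⟩ := exists_three_gens D habD hr
    have hfin : Nat.card B ^ 3 ≤ Nat.card D ^ 5 := by
      rcases le_total (orderOf y) (orderOf x) with hyx | hxy
      · rcases le_total (orderOf w) (orderOf x) with hwx | hxw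
        · exact main_three p hM hB hBD habD hx hy hw hgen hyx hwx
        · refine main_three p hM hB hBD habD hw hx hy (fun z hz => ?_) hxw (hyx.trans hxw)
          obtain ⟨i, j, l, rfl⟩ := hgen z hz
          refine ⟨l, i, j, ?_⟩
          have h1 : Commute (x ^ i * y ^ j) (w ^ l) :=
            Commute.mul_left ((show Commute x w from habD x hx w hw).zpow_zpow i l)
              ((show Commute y w from habD y hy w hw).zpow_zpow j l)
          rw [h1.eq, mul_assoc]
      · rcases le_total (orderOf w) (orderOf y) with hwy | hyw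
        · refine main_three p hM hB hBD habD hy hx hw (fun z hz => ?_) hxy hwy
          obtain ⟨i, j, l, rfl⟩ := hgen z hz
          refine ⟨j, i, l, ?_⟩
          rw [((show Commute x y from habD x hx y hy).zpow_zpow i j).eq]
        · refine main_three p hM hB hBD habD hw hx hy (fun z hz => ?_) (hxy.trans hyw) hyw
          obtain ⟨i, j, l, rfl⟩ := hgen z hz
          refine ⟨l, i, j, ?_⟩
          have h1 : Commute (x ^ i * y ^ j) (w ^ l) :=
            Commute.mul_left ((show Commute x w from habD x hx w hw).zpow_zpow i l)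
              ((show Commute y w from habD y hy w hw).zpow_zpow j l)
          rw [h1.eq, mul_assoc]
    rw [hDd] at hfin
    rwa [mul_comm 5 d, pow_mul]

end Cfsg.Agent.S4697
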