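import Cfsg.Statements.S4762
import Mathlib
import Cfsg.Agent.S4845
import Cfsg.Agent.Lib.Char.DegreeDvd
import Cfsg.Agent.Lib.Char.Induced
import Cfsg.Agent.Lib.Basic.SylowUtil
import Cfsg.Agent.Lib.Char.CliffordCorr
import Cfsg.Agent.Lib.Char.PDerived

set_option autoImplicit false
set_option linter.style.haveILetI false
open Cfsg

namespace Cfsg.Agent.S4762

open Cfsg.Agent.Lib.Char Cfsg.Agent.Lib.Char.PDerived Cfsg.Agent.S4845
open scoped ComplexConjugate commutatorElement

/-- The unique character of degree divisible by `p` vanishes off the normal Sylow subgroup. -/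
theorem center_le_of_unique {G : Type*} [Group G] [Finite G] (p : ℕ) [hp : Fact p.Prime]
    (P : Subgroup G) [hPn : P.Normal] (hidx : ¬ p ∣ P.index) (χ₀ : IrrCharacter G)
    (hχ₀ : p ∣ charDegree (χ₀ : G → ℂ))
    (huniq : ∀ χ : IrrCharacter G, p ∣ charDegree (χ : G → ℂ) → χ = χ₀) :
    Subgroup.center G ≤ P := by
  classical
  cases nonempty_fintype G
  letI : Fintype P := Fintype.ofFinite _
  letI : Fintype (IrrCharacter G) := Fintype.ofFinite _
  have hres := Basic.isCharacter_restrict (Values.IsIrrCharacter.isCharacter χ₀.2) P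
  have h1 : (fun h : P => (χ₀ : G → ℂ) h) 1 ≠ 0 := by
    simpa using Ortho.irr_apply_one_ne_zero χ₀.2
  obtain ⟨α, hα, hcon⟩ := CliffordCorr.exists_irr_constituent hres h1
  let A : IrrCharacter P := ⟨α, hα⟩
  have hratio : ∀ χ : IrrCharacter G, classInner (fun h : P => (χ : G → ℂ) h) α ≠ 0 →
      ∃ e : ℕ, charDegree (χ : G → ℂ) = e * charDegree (A : P → ℂ) ∧ e ∣ P.index := by
    intro χ hχ
    obtain ⟨e, he1, he2⟩ := DegreeDvd.exists_degree_ratio P χ.2 hα hχ
    refine ⟨e, ?_, he2⟩
    have h2 := deg_cast χ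
    have h3 := deg_cast A
    have h4 : ((charDegree (χ : G → ℂ) : ℕ) : ℂ) = ((e * charDegree (A : P → ℂ) : ℕ) : ℂ) := by
      rw [h2, he1]
      push_cast
      rw [h3]
    exact_mod_cast h4
  have hpA : p ∣ charDegree (A : P → ℂ) := by
    obtain ⟨e, he1, he2⟩ := hratio χ₀ hcon
    rw [he1] at hχ₀
    rcases (Nat.Prime.dvd_mul hp.out).1 hχ₀ with h | h
    · exact absurd (h.trans he2) hidx
    · exact h
  have hzero : ∀ χ : IrrCharacter G, χ ≠ χ₀ → classInner (fun h : P => (χ : G → ℂ) h) α = 0 := by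
    intro χ hχ
    by_contra hne
    obtain ⟨e, he1, -⟩ := hratio χ hne
    exact hχ (huniq χ (by rw [he1]; exact hpA.mul_left e))
  set Φ := Cfsg.indFun P α with hΦ
  have hΦclass : IsClassFunction G Φ := Induced.indFun_isClassFunction P α
  have hsum := Complete.eq_sum_classInner Φ hΦclass
  have hinner : ∀ χ : IrrCharacter G, classInner Φ (χ : G → ℂ) =
      conj (classInner (fun h : P => (χ : G → ℂ) h) α) := by
    intro χ
    rw [hΦ, Induced.frobenius_reciprocity P α χ (Basic.isClassFunction_of_isCharacter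
      (Values.IsIrrCharacter.isCharacter χ.2)), Ortho.classInner_conj_symm]
  have hΦeq : Φ = classInner Φ (χ₀ : G → ℂ) • (χ₀ : G → ℂ) := by
    rw [Finset.sum_eq_single χ₀] at hsum
    · exact hsum
    · intro χ _ hχ
      rw [hinner, hzero χ hχ]
      simp
    · intro h
      exact absurd (Finset.mem_univ _) h
  have hc : classInner Φ (χ₀ : G → ℂ) ≠ 0 := by
    rw [hinner]
    simpa using hcon
  intro z hz
  by_contra hzP
  have hΦz : Φ z = 0 := by
    rw [hΦ, Induced.indFun_apply]
    rw [Finset.sum_eq_zero, mul_zero]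
    intro x _
    apply Induced.extendByZero_of_notMem
    intro hmem
    apply hzP
    have := hPn.conj_mem _ hmem x
    have h2 : x * (x⁻¹ * z * x) * x⁻¹ = z := by group
    rwa [h2] at this
  have h2 := congrFun hΦeq z
  rw [hΦz] at h2
  simp only [Pi.smul_apply, smul_eq_mul] at h2
  have h3 : (χ₀ : G → ℂ) z = 0 := by
    rcases mul_eq_zero.1 h2.symm with h | h
    · exact absurd h hc
    · exact h
  have h4 := norm_central_eq χ₀.2 hz
  rw [h3, norm_zero] at h4
  exact Ortho.irr_apply_one_ne_zero χ₀.2 (norm_eq_zero.1 h4.symm)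

/-- A nilpotent group with the unique character hypothesis is a `p`-group. -/
theorem isPGroup_of_unique {G : Type*} [Group G] [Finite G] [Group.IsNilpotent G] (p : ℕ)
    [hp : Fact p.Prime] (χ₀ : IrrCharacter G)
    (hχ₀ : p ∣ charDegree (χ₀ : G → ℂ))
    (huniq : ∀ χ : IrrCharacter G, p ∣ charDegree (χ : G → ℂ) → χ = χ₀) : IsPGroup p G := by
  classical
  have hnc : NormalizerCondition G := normalizerCondition_of_isNilpotent
  let P : Sylow p G := default
  haveI hPn : (P : Subgroup G).Normal := Sylow.normal_of_normalizerCondition hnc P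
  have hZ := center_le_of_unique p (P : Subgroup G) P.not_dvd_index χ₀ hχ₀ huniq
  rw [IsPGroup.iff_card]
  refine ⟨_, Nat.eq_prime_pow_of_unique_prime_dvd Nat.card_pos.ne' ?_⟩
  intro q hq hqd
  by_contra hqp
  haveI : Fact q.Prime := ⟨hq⟩
  let Q : Sylow q G := default
  haveI hQn : (Q : Subgroup G).Normal := Sylow.normal_of_normalizerCondition hnc Q
  have hQne : (Q : Subgroup G) ≠ ⊥ := by
    intro hb
    have h1 := Q.not_dvd_index
    rw [hb, Subgroup.index_bot] at h1
    exact h1 hqd
  have h2 := Cfsg.Agent.Lib.Basic.SylowUtil.inf_center_ne_bot_of_isNilpotent hQne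
  apply h2
  rw [eq_bot_iff]
  have hdis := IsPGroup.disjoint_of_ne q p hqp (Q : Subgroup G) (P : Subgroup G) Q.isPGroup' P.isPGroup'
  exact (inf_le_inf_left _ hZ).trans (le_of_eq hdis.eq_bot)

theorem dvd_iff_ne_one {G : Type*} [Group G] [Finite G] {p : ℕ} [hp : Fact p.Prime]
    (hG : IsPGroup p G) (χ : IrrCharacter G) :
    p ∣ charDegree (χ : G → ℂ) ↔ charDegree (χ : G → ℂ) ≠ 1 := by
  constructor
  · intro h h1
    rw [h1] at h
    exact hp.out.one_lt.ne' (Nat.dvd_one.1 h)
  · intro h
    obtain ⟨n, hn⟩ := IsPGroup.iff_card.1 hG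
    have := deg_dvd χ
    rw [hn] at this
    obtain ⟨k, -, hk⟩ := (Nat.dvd_prime_pow hp.out).1 this
    rw [hk] at h ⊢
    rcases k with _ | k
    · simp at h
    · exact dvd_pow_self p (Nat.succ_ne_zero k)

/-- All irreducible characters trivial at `w`. -/
theorem eq_one_of_forall {G : Type*} [Group G] [Fintype G] {w : G}
    (h : ∀ χ : IrrCharacter G, (χ : G → ℂ) w = (χ : G → ℂ) 1) : w = 1 :=
  isConj_one_right.1 (CompleteCor.isConj_of_forall_irr (fun χ => (h χ).symm))

theorem lin_apply_of_mem {G : Type*} [Group G] [Finite G] (χ : IrrCharacter G)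
    (h1 : (χ : G → ℂ) 1 = 1) {w : G} (hw : w ∈ commutator G) :
    (χ : G → ℂ) w = (χ : G → ℂ) 1 := by
  obtain ⟨φ, hφ⟩ := LinearChars.exists_hom_of_isCharacter_one (Values.IsIrrCharacter.isCharacter χ.2) h1
  have hk : commutator G ≤ φ.ker := by
    rw [commutator_def, Subgroup.commutator_le]
    intro a _ b _
    rw [MonoidHom.mem_ker, map_commutatorElement, commutatorElement_eq_one_iff_commute.2 (Commute.all _ _)]
  have h2 := hk hw
  rw [MonoidHom.mem_ker] at h2
  rw [hφ]
  simp [h2]

/-- The `p`-group part: `G'` has prime order. -/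
theorem card_commutator {G : Type*} [Group G] [Finite G] {p : ℕ} [hp : Fact p.Prime]
    (hG : IsPGroup p G) (χ₀ : IrrCharacter G) (h1 : charDegree (χ₀ : G → ℂ) ≠ 1)
    (huniq : ∀ χ : IrrCharacter G, charDegree (χ : G → ℂ) ≠ 1 → χ = χ₀) :
    Nat.card (commutator G) = p := by
  classical
  have hne : commutator G ≠ ⊥ := by
    intro hb
    apply deg_one_of_ne χ₀ h1
    apply one_eq_one_of_commutator_le_ker χ₀.2
    intro c hc
    rw [hb, Subgroup.mem_bot] at hc
    rw [hc]
  have hinf := Cfsg.Agent.Lib.PGroup.Basic.inf_center_ne_bot hG hne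
  have hpg : IsPGroup p (commutator G ⊓ Subgroup.center G : Subgroup G) := hG.to_subgroup _
  haveI : Nontrivial (commutator G ⊓ Subgroup.center G : Subgroup G) :=
    (Subgroup.nontrivial_iff_ne_bot _).2 hinf
  have hdvd : p ∣ Nat.card (commutator G ⊓ Subgroup.center G : Subgroup G) := by
    obtain ⟨n, hn⟩ := IsPGroup.iff_card.1 hpg
    rw [hn]
    rcases n with _ | n
    · rw [pow_zero] at hn
      exact absurd hn Finite.one_lt_card.ne'
    · exact dvd_pow_self p (Nat.succ_ne_zero n)
  obtain ⟨⟨w, hw⟩, hwo⟩ := exists_prime_orderOf_dvd_card' p hdvd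
  have hwo' : orderOf w = p := by
    rw [← hwo]
    exact (Subgroup.orderOf_mk w hw).symm
  have hw1 : w ≠ 1 := by
    rintro rfl
    rw [orderOf_one] at hwo'
    exact hp.out.one_lt.ne hwo'
  have hNle : Subgroup.zpowers w ≤ commutator G := by
    rw [Subgroup.zpowers_le]
    exact hw.1
  have hNZ : Subgroup.zpowers w ≤ Subgroup.center G := by
    rw [Subgroup.zpowers_le]
    exact hw.2
  haveI hNn : (Subgroup.zpowers w).Normal := by
    constructor
    intro n hn g
    have := Subgroup.mem_center_iff.1 (hNZ hn) g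
    rw [this]
    simpa using hn
  have hcardN : Nat.card (Subgroup.zpowers w) = p := by
    rw [Nat.card_zpowers, hwo']
  by_cases heq : commutator G = Subgroup.zpowers w
  · rw [heq, hcardN]
  exfalso
  have hnotcomm : ¬ IsMulCommutative (G ⧸ Subgroup.zpowers w) := by
    intro hc
    apply heq
    apply le_antisymm _ hNle
    rw [commutator_def, Subgroup.commutator_le]
    intro a _ b _
    have h2 : (((⁅a, b⁆ : G)) : G ⧸ Subgroup.zpowers w) = 1 := by
      rw [commutatorElement_def]
      simp only [QuotientGroup.mk_mul, QuotientGroup.mk_inv]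
      have := hc.is_comm.comm (a : G ⧸ Subgroup.zpowers w) (b : G ⧸ Subgroup.zpowers w)
      rw [this]
      group
    exact (QuotientGroup.eq_one_iff _).1 h2
  obtain ⟨ψ, hψ⟩ := exists_nonlinear hnotcomm
  have hlift := huniq (liftIrr _ ψ) (by rwa [charDegree_liftIrr])
  apply hw1
  cases nonempty_fintype G
  apply eq_one_of_forall
  intro χ
  by_cases hχ : charDegree (χ : G → ℂ) = 1
  · exact lin_apply_of_mem χ ((deg_eq_one_iff χ).1 hχ) hw.1
  · rw [huniq χ hχ, ← hlift, liftIrr_apply, liftIrr_apply]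
    rw [QuotientGroup.mk_one, (QuotientGroup.eq_one_iff _).2 (Subgroup.mem_zpowers w)]

/-- Squares of the degrees, separating the linear characters. -/
theorem index_add_sum {G : Type*} [Group G] [Fintype G] [Fintype (IrrCharacter G)] :
    (commutator G).index + ∑ χ ∈ Finset.univ.filter
      (fun χ : IrrCharacter G => charDegree (χ : G → ℂ) ≠ 1), charDegree (χ : G → ℂ) ^ 2 = Nat.card G := by
  classical
  have h1 : ((∑ χ : IrrCharacter G, charDegree (χ : G → ℂ) ^ 2 : ℕ) : ℂ) = (Nat.card G : ℂ) := by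
    rw [← CompleteCor.sum_sq_degrees]
    push_cast
    refine Finset.sum_congr rfl fun χ _ => ?_
    rw [deg_cast]
  have h2 : ∑ χ : IrrCharacter G, charDegree (χ : G → ℂ) ^ 2 = Nat.card G := by exact_mod_cast h1
  rw [← h2, ← Finset.sum_filter_add_sum_filter_not Finset.univ
    (fun χ : IrrCharacter G => charDegree (χ : G → ℂ) = 1)]
  congr 1
  have h3 : ∑ χ ∈ Finset.univ.filter (fun χ : IrrCharacter G => charDegree (χ : G → ℂ) = 1),
      charDegree (χ : G → ℂ) ^ 2 = (Finset.univ.filter (fun χ : IrrCharacter G => charDegree (χ : G → ℂ) = 1)).card := by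
    rw [Finset.card_eq_sum_ones]
    refine Finset.sum_congr rfl fun χ hχ => ?_
    rw [(Finset.mem_filter.1 hχ).2, one_pow]
  rw [h3, ← LinearChars.card_linear_chars, Nat.card_eq_fintype_card, Fintype.card_subtype]
  congr 1
  ext χ
  simp only [Finset.mem_filter, Finset.mem_univ, true_and]
  exact (deg_eq_one_iff χ).symm

theorem deg_sq_mul {G : Type*} [Group G] [Fintype G] {p : ℕ} [hp : Fact p.Prime]
    (hG : IsPGroup p G) (hc : Nat.card (commutator G) = p) (χ : IrrCharacter G)
    (h1 : charDegree (χ : G → ℂ) ≠ 1) :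
    charDegree (χ : G → ℂ) ^ 2 * Nat.card (Subgroup.center G) = Nat.card G := by
  have h := deg_sq_eq_of_card_commutator hG hc χ.2 (deg_one_of_ne χ h1)
  rw [deg_norm] at h
  exact_mod_cast h

theorem forward {G : Type*} [Group G] [Finite G] [Group.IsNilpotent G] (p : ℕ) [hp : Fact p.Prime]
    (h : Nat.card {χ : Cfsg.IrrCharacter G // p ∣ Cfsg.charDegree (χ : G → ℂ)} = 1) :
    p = 2 ∧ Cfsg.IsExtraspecial 2 G := by
  classical
  obtain ⟨hsub, hnon⟩ := (Nat.card_eq_one_iff_unique).1 h
  obtain ⟨⟨χ₀, hχ₀⟩⟩ := hnon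
  have huniq : ∀ χ : IrrCharacter G, p ∣ charDegree (χ : G → ℂ) → χ = χ₀ := by
    intro χ hχ
    have := hsub.elim ⟨χ, hχ⟩ ⟨χ₀, hχ₀⟩
    exact congrArg Subtype.val this
  have hG := isPGroup_of_unique p χ₀ hχ₀ huniq
  have hne1 := (dvd_iff_ne_one hG χ₀).1 hχ₀
  have huniq' : ∀ χ : IrrCharacter G, charDegree (χ : G → ℂ) ≠ 1 → χ = χ₀ :=
    fun χ hχ => huniq χ ((dvd_iff_ne_one hG χ).2 hχ)
  have hc := card_commutator hG χ₀ hne1 huniq'
  cases nonempty_fintype G
  letI : Fintype (IrrCharacter G) := Fintype.ofFinite _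
  have h1 := index_add_sum (G := G)
  have hfilter : Finset.univ.filter (fun χ : IrrCharacter G => charDegree (χ : G → ℂ) ≠ 1) = {χ₀} := by
    ext χ
    simp only [Finset.mem_filter, Finset.mem_univ, true_and, Finset.mem_singleton]
    constructor
    · exact huniq' χ
    · rintro rfl
      exact hne1
  rw [hfilter, Finset.sum_singleton] at h1
  have h2 := deg_sq_mul hG hc χ₀ hne1
  have h3 := Subgroup.card_mul_index (commutator G)
  rw [hc] at h3
  have hZle : commutator G ≤ Subgroup.center G := le_center_of_card_prime hG _ hc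
  have hpZ : p ≤ Nat.card (Subgroup.center G) := by
    rw [← hc]
    exact Subgroup.card_le_of_le hZle
  have hp2 := hp.out.two_le
  set z := Nat.card (Subgroup.center G) with hz
  set L := (commutator G).index
  set d := charDegree (χ₀ : G → ℂ) ^ 2
  set n := Nat.card G with hn
  have hnpos : 0 < n := Nat.card_pos
  have hkey : z + p = p * z := by
    have : n * (z + p) = n * (p * z) := by
      calc n * (z + p) = n * z + n * p := by ring
        _ = (p * L) * z + (d * z) * p := by rw [h3, h2]
        _ = (L + d) * (p * z) := by ring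
        _ = n * (p * z) := by rw [h1]
    exact Nat.eq_of_mul_eq_mul_left hnpos this
  have hp2' : p = 2 := by
    by_contra hne
    have hp3 : 3 ≤ p := by omega
    nlinarith
  have hz2 : z = 2 := by
    subst hp2'
    omega
  subst hp2'
  have hCeq : commutator G = Subgroup.center G := by
    refine Subgroup.eq_of_le_of_card_ge hZle ?_
    rw [hc, ← hz, hz2]
  refine ⟨rfl, ⟨hG, ?_, hCeq⟩, hz2⟩
  apply le_antisymm
  · rw [Cfsg.Agent.Lib.PGroup.Basic.frattini_le_iff hG]
    refine ⟨fun x => pow_mem_center_of_commutator hG hc x, fun x y => hZle ?_⟩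
    rw [commutator_def]
    exact Subgroup.commutator_mem_commutator (Subgroup.mem_top x) (Subgroup.mem_top y)
  · rw [← hCeq]
    exact Cfsg.Agent.Lib.PGroup.Basic.commutator_le_frattini hG

theorem backward {G : Type*} [Group G] [Finite G] (hE : Cfsg.IsExtraspecial 2 G) :
    Nat.card {χ : Cfsg.IrrCharacter G // 2 ∣ Cfsg.charDegree (χ : G → ℂ)} = 1 := by
  classical
  haveI : Fact (Nat.Prime 2) := ⟨Nat.prime_two⟩
  obtain ⟨⟨hG, hF, hC⟩, hZ⟩ := hE
  cases nonempty_fintype G
  letI : Fintype (IrrCharacter G) := Fintype.ofFinite _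
  have hc : Nat.card (commutator G) = 2 := by rw [hC, hZ]
  have h1 := index_add_sum (G := G)
  have h3 := Subgroup.card_mul_index (commutator G)
  rw [hc] at h3
  have hnpos : 0 < Nat.card G := Nat.card_pos
  set S := Finset.univ.filter (fun χ : IrrCharacter G => charDegree (χ : G → ℂ) ≠ 1) with hS
  have hsum : 2 * ∑ χ ∈ S, charDegree (χ : G → ℂ) ^ 2 = S.card * Nat.card G := by
    rw [Finset.mul_sum, Finset.card_eq_sum_ones, Finset.sum_mul]
    refine Finset.sum_congr rfl fun χ hχ => ?_
    have := deg_sq_mul hG hc χ (Finset.mem_filter.1 hχ).2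
    rw [hZ] at this
    rw [one_mul, ← this]
    ring
  have hcard : S.card = 1 := by
    have : Nat.card G * S.card = Nat.card G * 1 := by
      have h4 : 2 * ((commutator G).index + ∑ χ ∈ S, charDegree (χ : G → ℂ) ^ 2) = 2 * Nat.card G := by
        rw [h1]
      rw [mul_add, h3, hsum] at h4
      nlinarith
    exact Nat.eq_of_mul_eq_mul_left hnpos this
  rw [← hcard, Nat.card_eq_fintype_card, Fintype.card_subtype]
  congr 1
  ext χ
  simp only [Finset.mem_filter, Finset.mem_univ, true_and, hS]
  exact dvd_iff_ne_one hG χ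

/-- Let p be a prime and G a finite nilpotent group. Then G has exactly one irreducible complex character of degree divisible by p if and only if p = 2 and G is an extraspecial 2-group. -/
theorem result {G : Type*} [Group G] [Finite G] [Group.IsNilpotent G] (p : ℕ) [Fact p.Prime] : Nat.card {χ : Cfsg.IrrCharacter G // p ∣ Cfsg.charDegree (χ : G → ℂ)} = 1 ↔ (p = 2 ∧ Cfsg.IsExtraspecial 2 G) := by
  constructor
  · exact forward p
  · rintro ⟨rfl, hE⟩
    exact backward hE

end Cfsg.Agent.S4762
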