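import Cfsg.Statements.S4776
import Mathlib
import Cfsg.Agent.Lib.Char.RelGraph.Main

set_option autoImplicit false

open Cfsg Cfsg.Agent.Lib.Char.RelGraph

namespace Cfsg.Agent.S4776

universe u

theorem second {G : Type u} [Group G] [Fintype G] (N : Subgroup G) [N.Normal]
    (hNG : N ≤ commutator G) {a b : ℕ} (ha : a ∈ relCharDegrees N) (hb : b ∈ relCharDegrees N)
    (hab : ¬ Rc N a b) :
    (Nat.Coprime a (⁅N, N⁆.relIndex N) ∧ ∀ r : ℕ, r.Prime → r ∣ ⁅N, N⁆.relIndex N → r ∣ b) ∨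
      (Nat.Coprime b (⁅N, N⁆.relIndex N) ∧ ∀ r : ℕ, r.Prime → r ∣ ⁅N, N⁆.relIndex N → r ∣ a) := by
  classical
  haveI : Fintype N := Fintype.ofFinite _
  by_cases hno : NoInv N
  · exact main_noinv hno ha hb hab
  · exfalso
    unfold NoInv at hno
    push Not at hno
    obtain ⟨z, hinv, hz1⟩ := hno
    exact hab (all_reach_of_inv hNG z hinv hz1 ha hb)

theorem main {G : Type u} [Group G] [Finite G] (N : Subgroup G) [N.Normal] (hN : ⁅N, N⁆ < N)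
    (hNG : N ≤ commutator G) :
    Nat.card (commonDivisorGraph.induce (relCharDegrees N)).ConnectedComponent ≤ 2 ∧
    ∀ (a b : ℕ) (ha : a ∈ relCharDegrees N) (hb : b ∈ relCharDegrees N),
      ¬ (commonDivisorGraph.induce (relCharDegrees N)).Reachable ⟨a, ha⟩ ⟨b, hb⟩ →
      (Nat.Coprime a (⁅N, N⁆.relIndex N) ∧ ∀ r : ℕ, r.Prime → r ∣ ⁅N, N⁆.relIndex N → r ∣ b) ∨
      (Nat.Coprime b (⁅N, N⁆.relIndex N) ∧ ∀ r : ℕ, r.Prime → r ∣ ⁅N, N⁆.relIndex N → r ∣ a) := by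
  classical
  haveI : Fintype G := Fintype.ofFinite _
  have hsec : ∀ (a b : ℕ) (ha : a ∈ relCharDegrees N) (hb : b ∈ relCharDegrees N),
      ¬ (commonDivisorGraph.induce (relCharDegrees N)).Reachable ⟨a, ha⟩ ⟨b, hb⟩ →
      (Nat.Coprime a (⁅N, N⁆.relIndex N) ∧ ∀ r : ℕ, r.Prime → r ∣ ⁅N, N⁆.relIndex N → r ∣ b) ∨
      (Nat.Coprime b (⁅N, N⁆.relIndex N) ∧ ∀ r : ℕ, r.Prime → r ∣ ⁅N, N⁆.relIndex N → r ∣ a) :=
    fun a b ha hb h => second N hNG ha hb (fun ⟨_, _, h'⟩ => h h')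
  refine ⟨?_, hsec⟩
  -- a prime dividing `m`
  have hm : ⁅N, N⁆.relIndex N ≠ 1 := by
    intro h
    exact (not_le_of_gt hN) (Subgroup.relIndex_eq_one.1 h)
  obtain ⟨r₀, hr₀, hr₀m⟩ := Nat.exists_prime_and_dvd hm
  have hPQ : ∀ {a : ℕ}, Nat.Coprime a (⁅N, N⁆.relIndex N) →
      (∀ r : ℕ, r.Prime → r ∣ ⁅N, N⁆.relIndex N → r ∣ a) → False := by
    intro a h1 h2
    have h3 := Nat.dvd_gcd (h2 r₀ hr₀ hr₀m) hr₀m
    rw [h1] at h3
    exact hr₀.one_lt.ne' (Nat.dvd_one.1 h3)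
  have hQQ : ∀ {a b : ℕ} (ha : a ∈ relCharDegrees N) (hb : b ∈ relCharDegrees N),
      (∀ r : ℕ, r.Prime → r ∣ ⁅N, N⁆.relIndex N → r ∣ a) →
      (∀ r : ℕ, r.Prime → r ∣ ⁅N, N⁆.relIndex N → r ∣ b) →
      (commonDivisorGraph.induce (relCharDegrees N)).Reachable ⟨a, ha⟩ ⟨b, hb⟩ := by
    intro a b ha hb h1 h2
    have h0 : 0 < a := by
      obtain ⟨χ, -, rfl⟩ := ha
      exact Nat.pos_of_ne_zero (charDegree_irr_ne_zero χ.2)
    have h3 := Nat.le_of_dvd (Nat.gcd_pos_of_pos_left _ h0)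
      (Nat.dvd_gcd (h1 r₀ hr₀ hr₀m) (h2 r₀ hr₀ hr₀m))
    have := hr₀.two_le
    obtain ⟨_, _, h⟩ := rc_of_gcd ha hb (by omega)
    exact h
  by_contra hcon
  push Not at hcon
  haveI : Finite (commonDivisorGraph.induce (relCharDegrees N)).ConnectedComponent :=
    Nat.finite_of_card_ne_zero (by omega)
  haveI := Fintype.ofFinite (commonDivisorGraph.induce (relCharDegrees N)).ConnectedComponent
  rw [Nat.card_eq_fintype_card, Fintype.two_lt_card_iff] at hcon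
  obtain ⟨x, y, w, hxy, hxw, hyw⟩ := hcon
  induction x using SimpleGraph.ConnectedComponent.ind with
  | h x =>
  induction y using SimpleGraph.ConnectedComponent.ind with
  | h y =>
  induction w using SimpleGraph.ConnectedComponent.ind with
  | h w =>
  obtain ⟨a, ha⟩ := x
  obtain ⟨b, hb⟩ := y
  obtain ⟨c, hc⟩ := w
  have n₁ : ¬ (commonDivisorGraph.induce (relCharDegrees N)).Reachable ⟨a, ha⟩ ⟨b, hb⟩ :=
    fun h => hxy (SimpleGraph.ConnectedComponent.sound h)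
  have n₂ : ¬ (commonDivisorGraph.induce (relCharDegrees N)).Reachable ⟨a, ha⟩ ⟨c, hc⟩ :=
    fun h => hxw (SimpleGraph.ConnectedComponent.sound h)
  have n₃ : ¬ (commonDivisorGraph.induce (relCharDegrees N)).Reachable ⟨b, hb⟩ ⟨c, hc⟩ :=
    fun h => hyw (SimpleGraph.ConnectedComponent.sound h)
  rcases hsec a b ha hb n₁ with ⟨p₁, q₁⟩ | ⟨p₁, q₁⟩
  · rcases hsec a c ha hc n₂ with ⟨p₂, q₂⟩ | ⟨p₂, q₂⟩
    · exact n₃ (hQQ hb hc q₁ q₂)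
    · exact hPQ p₁ q₂
  · rcases hsec b c hb hc n₃ with ⟨p₂, q₂⟩ | ⟨p₂, q₂⟩
    · exact n₂ (hQQ ha hc q₁ q₂)
    · exact hPQ p₁ q₂

theorem result {G : Type*} [Group G] [Finite G] (N : Subgroup G) [N.Normal] (hN : ⁅N, N⁆ < N) (hNG : N ≤ commutator G) : Nat.card (Cfsg.commonDivisorGraph.induce (Cfsg.relCharDegrees N)).ConnectedComponent ≤ 2 ∧ ∀ (a b : ℕ) (ha : a ∈ Cfsg.relCharDegrees N) (hb : b ∈ Cfsg.relCharDegrees N), ¬ (Cfsg.commonDivisorGraph.induce (Cfsg.relCharDegrees N)).Reachable ⟨a, ha⟩ ⟨b, hb⟩ → (Nat.Coprime a (⁅N, N⁆.relIndex N) ∧ ∀ r : ℕ, r.Prime → r ∣ ⁅N, N⁆.relIndex N → r ∣ b) ∨ (Nat.Coprime b (⁅N, N⁆.relIndex N) ∧ ∀ r : ℕ, r.Prime → r ∣ ⁅N, N⁆.relIndex N → r ∣ a) :=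
  main N hN hNG

end Cfsg.Agent.S4776
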