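import Cfsg.Statements.S4779
import Mathlib
import Cfsg.Agent.Lib.Char.RelGraph.Pair
import Cfsg.Agent.S4776

set_option autoImplicit false
set_option linter.style.haveILetI false

open Cfsg Cfsg.Agent.Lib.Char Cfsg.Agent.Lib.Char.Basic Cfsg.Agent.Lib.Char.RelGraph

namespace Cfsg.Agent.S4779

universe u

variable {G : Type u} [Group G] [Fintype G] {N : Subgroup G} [hN : N.Normal] [Fintype N]

/-- A common neighbour when one of the two characters of `N` is linear. -/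
theorem common_nb (hno : NoInv N) (z : N →* ℂˣ) (hz : z ≠ 1) {χ₁ χ₂ : G → ℂ} {τ₁ : N → ℂ}
    (hχ₁ : IsIrrCharacter G χ₁) (hχ₂ : IsIrrCharacter G χ₂) (hτ₁ : IsIrrCharacter N τ₁)
    (hτ₁1 : τ₁ ≠ fun _ => 1) (o₁ : Ov N χ₁ τ₁) (o₂ : Ov N χ₂ (Lz N z))
    (hcop : Nat.Coprime (charDegree χ₁) (charDegree χ₂))
    (hm₁ : Nat.Coprime (charDegree χ₁) (⁅N, N⁆.relIndex N))
    (hm₂ : Nat.Coprime (charDegree χ₂) (⁅N, N⁆.relIndex N)) :
    ∃ ζ : G → ℂ, IsIrrCharacter G ζ ∧ charDegree ζ ∈ relCharDegrees N ∧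
      1 < Nat.gcd (charDegree χ₁) (charDegree ζ) ∧ 1 < Nat.gcd (charDegree ζ) (charDegree χ₂) := by
  classical
  have hL := LinearChars.isIrr_of_hom z
  have k₁ := kap_dvd hχ₁ hτ₁ o₁
  have k₂ := kap_dvd hχ₂ hL o₂
  have hprime : ∀ {d r : ℕ}, Nat.Coprime d (⁅N, N⁆.relIndex N) → r.Prime → r ∣ d →
      r ∣ ⁅N, N⁆.relIndex N → False := by
    intro d r h hr h₁ h₂
    have := Nat.dvd_gcd h₁ h₂
    rw [h] at this
    exact hr.one_lt.ne' (Nat.dvd_one.1 this)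
  obtain ⟨hy1, hcases⟩ := pair_core hno hτ₁ hz (Nat.Coprime.coprime_dvd_left k₁
    (Nat.Coprime.coprime_dvd_right k₂ hcop))
  obtain ⟨k, hk⟩ := exists_noninv hno hz
  rcases hcases with ⟨g₁, g₂⟩ | hst | ⟨z', rfl, hst⟩
  · have hy : IsIrrCharacter N (mulz N τ₁ z) := PrimeIndex.isIrr_mul_hom hτ₁ z
    obtain ⟨ζ, hζ, o⟩ := ItoMichler.exists_irr_over N hy
    have k₃ := kap_dvd hζ hy o
    refine ⟨ζ, hζ, mem_rel_of_over hζ hy hy1 o, ?_, ?_⟩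
    · have h1 : Nat.gcd (kap N (mulz N τ₁ z)) (kap N τ₁) ∣ Nat.gcd (charDegree χ₁) (charDegree ζ) :=
        Nat.dvd_gcd ((Nat.gcd_dvd_right _ _).trans k₁) ((Nat.gcd_dvd_left _ _).trans k₃)
      have h2 := Nat.le_of_dvd (Nat.gcd_pos_of_pos_left _
        (Nat.pos_of_ne_zero (charDegree_irr_ne_zero hχ₁))) h1
      omega
    · have h1 : Nat.gcd (kap N (mulz N τ₁ z)) (kap N (Lz N z)) ∣
          Nat.gcd (charDegree ζ) (charDegree χ₂) :=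
        Nat.dvd_gcd ((Nat.gcd_dvd_left _ _).trans k₃) ((Nat.gcd_dvd_right _ _).trans k₂)
      have h2 := Nat.le_of_dvd (Nat.gcd_pos_of_pos_left _
        (Nat.pos_of_ne_zero (charDegree_irr_ne_zero hζ))) h1
      omega
  · obtain ⟨r, hr, hr₁, hr₂⟩ := exists_prime_of_stable hτ₁ hst hk
    exact (hprime hm₁ hr (hr₁.trans k₁) hr₂).elim
  · have hz' : z' ≠ 1 := by
      rintro rfl
      apply hτ₁1
      funext n
      show (((1 : N →* ℂˣ) n : ℂˣ) : ℂ) = 1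
      simp
    obtain ⟨k', hk'⟩ := exists_noninv hno hz'
    obtain ⟨r, hr, hr₁, hr₂⟩ := exists_prime_of_stable hL hst hk'
    exact (hprime hm₂ hr (hr₁.trans k₂) hr₂).elim

/-- Two vertices of coprime degrees outside the component: a common neighbour. -/
theorem outside_pair [Group.IsSolvable N] (hno : NoInv N) {a₀ b c : ℕ}
    (ha₀ : ∀ r : ℕ, r.Prime → r ∣ ⁅N, N⁆.relIndex N → r ∣ a₀) (ha : a₀ ∈ relCharDegrees N)
    (hb : b ∈ relCharDegrees N) (hc : c ∈ relCharDegrees N)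
    (hbm : Nat.Coprime b (⁅N, N⁆.relIndex N)) (hcm : Nat.Coprime c (⁅N, N⁆.relIndex N))
    (hcop : Nat.Coprime b c) (nb : ¬ Rc N a₀ b) (nc : ¬ Rc N a₀ c) :
    ∃ d ∈ relCharDegrees N, 1 < Nat.gcd b d ∧ 1 < Nat.gcd d c := by
  classical
  obtain ⟨⟨χ₁, hχ₁⟩, hne₁, rfl⟩ := hb
  obtain ⟨⟨χ₂, hχ₂⟩, hne₂, rfl⟩ := hc
  simp only at *
  obtain ⟨τ₁, hτ₁, hτ₁1, o₁⟩ := exists_below hχ₁ hne₁
  obtain ⟨τ₂, hτ₂, hτ₂1, o₂⟩ := exists_below hχ₂ hne₂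
  have k₁ := kap_dvd hχ₁ hτ₁ o₁
  have k₂ := kap_dvd hχ₂ hτ₂ o₂
  have d₁ : charDegree τ₁ ∣ charDegree χ₁ := (degree_dvd_kap τ₁).trans k₁
  have d₂ : charDegree τ₂ ∣ charDegree χ₂ := (degree_dvd_kap τ₂).trans k₂
  have hlin : ∀ {τ : N → ℂ}, IsIrrCharacter N τ → τ ≠ (fun _ => 1) → charDegree τ = 1 →
      ∃ z : N →* ℂˣ, z ≠ 1 ∧ τ = Lz N z := by
    intro τ hτ hτ1 hd
    have hτc := isCharacter_of_isIrrCharacter hτ
    have hτone : τ 1 = 1 := by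
      rw [← Values.IsCharacter.charDegree_cast hτc, hd]
      simp
    obtain ⟨z, hz⟩ := LinearChars.exists_hom_of_isCharacter_one hτc hτone
    refine ⟨z, ?_, hz⟩
    rintro rfl
    apply hτ1
    rw [hz]
    funext n
    simp
  by_cases hn₂ : charDegree τ₂ = 1
  · obtain ⟨z, hz, rfl⟩ := hlin hτ₂ hτ₂1 hn₂
    obtain ⟨ζ, hζ, hm, h1, h2⟩ := common_nb hno z hz hχ₁ hχ₂ hτ₁ hτ₁1 o₁ o₂ hcop hbm hcm
    exact ⟨_, hm, h1, h2⟩
  by_cases hn₁ : charDegree τ₁ = 1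
  · obtain ⟨z, hz, rfl⟩ := hlin hτ₁ hτ₁1 hn₁
    obtain ⟨ζ, hζ, hm, h1, h2⟩ := common_nb hno z hz hχ₂ hχ₁ hτ₂ hτ₂1 o₂ o₁ hcop.symm hcm hbm
    refine ⟨_, hm, ?_, ?_⟩
    · rwa [Nat.gcd_comm]
    · rwa [Nat.gcd_comm]
  exfalso
  have hidx : (commutator N).index = ⁅N, N⁆.relIndex N := by
    have h1 : ⁅N, N⁆.subgroupOf N = commutator N := by
      rw [← Subgroup.map_subtype_commutator N]
      exact Subgroup.comap_map_eq_self_of_injective N.subtype_injective _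
    rw [Subgroup.relIndex, h1]
  obtain ⟨τ, ψ, hτ, hψ, hd, hnc⟩ := descent hτ₁ hτ₂ hn₁
    (by rw [hidx]; exact Nat.Coprime.coprime_dvd_left d₁ hbm)
    (by rw [hidx]; exact Nat.Coprime.coprime_dvd_left d₂ hcm)
    (Nat.Coprime.coprime_dvd_left d₁ (Nat.Coprime.coprime_dvd_right d₂ hcop))
  rw [hidx] at hnc
  obtain ⟨r, hr, hr₁, hr₂⟩ := Nat.Prime.not_coprime_iff_dvd.1 hnc
  obtain ⟨ζ, hζ, o⟩ := ItoMichler.exists_irr_over N hψ
  have k₃ := kap_dvd hζ hψ o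
  have d₃ : charDegree ψ ∣ charDegree ζ := (degree_dvd_kap ψ).trans k₃
  have hψ1 : ψ ≠ fun _ => 1 := by
    rintro rfl
    have h1 : charDegree (fun _ : N => (1 : ℂ)) = 1 := by simp [charDegree]
    rw [h1] at hd
    rcases hτ with rfl | rfl
    · exact hn₁ (Nat.dvd_one.1 hd)
    · exact hn₂ (Nat.dvd_one.1 hd)
  have hmem := mem_rel_of_over hζ hψ hψ1 o
  have hpos : 0 < charDegree ζ := Nat.pos_of_ne_zero (charDegree_irr_ne_zero hζ)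
  have hreach : Rc N a₀ (charDegree ζ) := by
    apply rc_of_gcd ha hmem
    have h0 : r ∣ Nat.gcd a₀ (charDegree ζ) := Nat.dvd_gcd (ha₀ r hr hr₂) (hr₁.trans d₃)
    have h3 := Nat.le_of_dvd (Nat.gcd_pos_of_pos_right _ hpos) h0
    have := hr.two_le
    omega
  have hmem₁ : charDegree χ₁ ∈ relCharDegrees N := ⟨⟨χ₁, hχ₁⟩, hne₁, rfl⟩
  have hmem₂ : charDegree χ₂ ∈ relCharDegrees N := ⟨⟨χ₂, hχ₂⟩, hne₂, rfl⟩
  rcases hτ with rfl | rfl
  · apply nb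
    refine hreach.trans (rc_of_gcd hmem hmem₁ ?_)
    have h0 : charDegree τ ∣ Nat.gcd (charDegree ζ) (charDegree χ₁) :=
      Nat.dvd_gcd (hd.trans d₃) d₁
    have h3 := Nat.le_of_dvd (Nat.gcd_pos_of_pos_left _ hpos) h0
    have h4 : charDegree τ ≠ 0 := charDegree_irr_ne_zero hτ₁
    omega
  · apply nc
    refine hreach.trans (rc_of_gcd hmem hmem₂ ?_)
    have h0 : charDegree τ ∣ Nat.gcd (charDegree ζ) (charDegree χ₂) :=
      Nat.dvd_gcd (hd.trans d₃) d₂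
    have h3 := Nat.le_of_dvd (Nat.gcd_pos_of_pos_left _ hpos) h0
    have h4 : charDegree τ ≠ 0 := charDegree_irr_ne_zero hτ₂
    omega

theorem result {G : Type*} [Group G] [Finite G] (N : Subgroup G) [N.Normal] [Group.IsSolvable N] (hNG : N ≤ commutator G) (hdisc : ¬ (Cfsg.commonDivisorGraph.induce (Cfsg.relCharDegrees N)).Preconnected) : ∃ a₀ : ↥(Cfsg.relCharDegrees N), (∀ b c : ↥(Cfsg.relCharDegrees N), (Cfsg.commonDivisorGraph.induce (Cfsg.relCharDegrees N)).Reachable a₀ b → (Cfsg.commonDivisorGraph.induce (Cfsg.relCharDegrees N)).Reachable a₀ c → b ≠ c → (Cfsg.commonDivisorGraph.induce (Cfsg.relCharDegrees N)).Adj b c) ∧ (∀ b c : ↥(Cfsg.relCharDegrees N), ¬ (Cfsg.commonDivisorGraph.induce (Cfsg.relCharDegrees N)).Reachable a₀ b → ¬ (Cfsg.commonDivisorGraph.induce (Cfsg.relCharDegrees N)).Reachable a₀ c → b ≠ c → (Cfsg.commonDivisorGraph.induce (Cfsg.relCharDegrees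 N)).Adj b c ∨ ∃ d : ↥(Cfsg.relCharDegrees N), (Cfsg.commonDivisorGraph.induce (Cfsg.relCharDegrees N)).Adj b d ∧ (Cfsg.commonDivisorGraph.induce (Cfsg.relCharDegrees N)).Adj d c) := by
  classical
  haveI : Fintype G := Fintype.ofFinite _
  haveI : Fintype N := Fintype.ofFinite _
  set Γ := Cfsg.commonDivisorGraph.induce (Cfsg.relCharDegrees N) with hΓ
  have hpre : ∃ u v : ↥(relCharDegrees N), ¬ Γ.Reachable u v := by
    by_contra hcon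
    push Not at hcon
    exact hdisc hcon
  obtain ⟨⟨u, hu⟩, ⟨v, hv⟩, huv⟩ := hpre
  have hrc : ∀ {a b : ℕ} (ha : a ∈ relCharDegrees N) (hb : b ∈ relCharDegrees N),
      ¬ Γ.Reachable ⟨a, ha⟩ ⟨b, hb⟩ → ¬ Rc N a b := fun ha hb h ⟨_, _, h'⟩ => h h'
  have hsec : ∀ {a b : ℕ} (ha : a ∈ relCharDegrees N) (hb : b ∈ relCharDegrees N),
      ¬ Γ.Reachable ⟨a, ha⟩ ⟨b, hb⟩ →
      (Nat.Coprime a (⁅N, N⁆.relIndex N) ∧ ∀ r : ℕ, r.Prime → r ∣ ⁅N, N⁆.relIndex N → r ∣ b) ∨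
      (Nat.Coprime b (⁅N, N⁆.relIndex N) ∧ ∀ r : ℕ, r.Prime → r ∣ ⁅N, N⁆.relIndex N → r ∣ a) :=
    fun ha hb h => S4776.second N hNG ha hb (hrc ha hb h)
  -- the index `|N : N'|` is not one
  have hlt : ⁅N, N⁆ ≠ N := by
    intro h
    have hbot : N ≠ ⊥ := by
      obtain ⟨⟨χ, hχ⟩, ⟨x, hx, hne⟩, -⟩ := hu
      rintro rfl
      apply hne
      rw [Subgroup.mem_bot.1 hx]
    haveI hnt : Nontrivial N := (Subgroup.nontrivial_iff_ne_bot N).2 hbot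
    have h3 := Subgroup.map_subtype_commutator N
    rw [h] at h3
    have h5 : commutator N = ⊤ := by
      apply Subgroup.map_injective N.subtype_injective
      rw [h3, ← MonoidHom.range_eq_map, Subgroup.range_subtype]
    exact (Group.IsSolvable.commutator_lt_top_of_nontrivial N).ne h5
  have hm : ⁅N, N⁆.relIndex N ≠ 1 := by
    intro h
    exact hlt (le_antisymm (Subgroup.commutator_le_self N) (Subgroup.relIndex_eq_one.1 h))
  obtain ⟨r₀, hr₀, hr₀m⟩ := Nat.exists_prime_and_dvd hm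
  have hPQ : ∀ {a : ℕ}, Nat.Coprime a (⁅N, N⁆.relIndex N) →
      (∀ r : ℕ, r.Prime → r ∣ ⁅N, N⁆.relIndex N → r ∣ a) → False := by
    intro a h1 h2
    have h3 := Nat.dvd_gcd (h2 r₀ hr₀ hr₀m) hr₀m
    rw [h1] at h3
    exact hr₀.one_lt.ne' (Nat.dvd_one.1 h3)
  -- the two distinguished vertices
  obtain ⟨a₀, b₀, ha₀, hb₀, hab, hPb, hQa⟩ : ∃ (a₀ b₀ : ℕ) (ha₀ : a₀ ∈ relCharDegrees N)
      (hb₀ : b₀ ∈ relCharDegrees N), ¬ Γ.Reachable ⟨a₀, ha₀⟩ ⟨b₀, hb₀⟩ ∧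
      Nat.Coprime b₀ (⁅N, N⁆.relIndex N) ∧
      ∀ r : ℕ, r.Prime → r ∣ ⁅N, N⁆.relIndex N → r ∣ a₀ := by
    rcases hsec hu hv huv with ⟨p, q⟩ | ⟨p, q⟩
    · exact ⟨v, u, hv, hu, fun h => huv h.symm, p, q⟩
    · exact ⟨u, v, hu, hv, huv, p, q⟩
  refine ⟨⟨a₀, ha₀⟩, ?_, ?_⟩
  · rintro ⟨b, hb⟩ ⟨c, hc⟩ rb rc hne
    have hQ : ∀ {d : ℕ} (hd : d ∈ relCharDegrees N), Γ.Reachable ⟨a₀, ha₀⟩ ⟨d, hd⟩ →
        ∀ r : ℕ, r.Prime → r ∣ ⁅N, N⁆.relIndex N → r ∣ d := by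
      intro d hd rd
      have h1 : ¬ Γ.Reachable ⟨d, hd⟩ ⟨b₀, hb₀⟩ := fun h => hab (rd.trans h)
      rcases hsec hd hb₀ h1 with ⟨p, q⟩ | ⟨p, q⟩
      · exact (hPQ hPb q).elim
      · exact q
    have hbpos : 0 < b := by
      obtain ⟨χ, -, rfl⟩ := hb
      exact Nat.pos_of_ne_zero (charDegree_irr_ne_zero χ.2)
    refine ⟨fun h => hne (Subtype.ext h), ?_⟩
    show 1 < Nat.gcd b c
    have h3 := Nat.le_of_dvd (Nat.gcd_pos_of_pos_left _ hbpos)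
      (Nat.dvd_gcd (hQ hb rb r₀ hr₀ hr₀m) (hQ hc rc r₀ hr₀ hr₀m))
    have := hr₀.two_le
    omega
  · rintro ⟨b, hb⟩ ⟨c, hc⟩ nb nc hne
    have hP : ∀ {d : ℕ} (hd : d ∈ relCharDegrees N), ¬ Γ.Reachable ⟨a₀, ha₀⟩ ⟨d, hd⟩ →
        Nat.Coprime d (⁅N, N⁆.relIndex N) := by
      intro d hd nd
      rcases hsec ha₀ hd nd with ⟨p, q⟩ | ⟨p, q⟩
      · exact (hPQ p hQa).elim
      · exact p
    by_cases hg : 1 < Nat.gcd b c
    · exact Or.inl ⟨fun h => hne (Subtype.ext h), hg⟩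
    right
    have hbpos : 0 < b := by
      obtain ⟨χ, -, rfl⟩ := hb
      exact Nat.pos_of_ne_zero (charDegree_irr_ne_zero χ.2)
    have hcop : Nat.Coprime b c := by
      have := Nat.gcd_pos_of_pos_left c hbpos
      unfold Nat.Coprime
      omega
    have hno : NoInv N := by
      intro z hinv
      by_contra hz1
      exact hrc ha₀ hb nb (all_reach_of_inv hNG z hinv hz1 ha₀ hb)
    obtain ⟨d, hd, h1, h2⟩ := outside_pair hno hQa ha₀ hb hc (hP hb nb) (hP hc nc) hcop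
      (hrc ha₀ hb nb) (hrc ha₀ hc nc)
    refine ⟨⟨d, hd⟩, ⟨?_, h1⟩, ⟨?_, h2⟩⟩
    · intro h
      have h' : b = d := h
      subst h'
      rw [hcop] at h2
      omega
    · intro h
      have h' : d = c := h
      subst h'
      rw [hcop] at h1
      omega

end Cfsg.Agent.S4779
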