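import Cfsg.Statements.S4847
import Cfsg.Agent.Lib.Palfy.CaseIW
import Cfsg.Agent.Lib.Palfy.CaseII
import Cfsg.Agent.Lib.Char.Basic
import Cfsg.Agent.Lib.Char.Values
import Cfsg.Agent.Lib.Char.Integrality
import Cfsg.Agent.Lib.Solvable.MinimalNormal

set_option autoImplicit false
open Cfsg

namespace Cfsg.Agent.S4847

open Cfsg.Agent.Lib.Palfy Cfsg.Agent.Lib.Solvable.MinimalNormal

universe u

theorem noTwo_of_quot {G : Type u} [Group G] (N : Subgroup G) [N.Normal] {p q r : ℕ}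
    (H : NoTwo G p q r) : NoTwo (G ⧸ N) p q r := by
  intro χ
  have h := H ⟨fun g => (χ : G ⧸ N → ℂ) (g : G ⧸ N),
    Cfsg.Agent.Lib.Char.Basic.isIrrCharacter_comp_surjective χ.2 (QuotientGroup.mk' N)
      (QuotientGroup.mk'_surjective N)⟩
  simpa [charDegree] using h

theorem false_of_lost {G : Type u} [Group G] [Finite G] [Group.IsSolvable G] {p q r : ℕ}
    [Fact p.Prime] [Fact q.Prime] [Fact r.Prime] (hpq : p ≠ q) (hqr : q ≠ r) (hpr : p ≠ r)
    (V : Subgroup G) [V.Normal] (hV : IsMinNormal V)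
    (hrlost : ∀ χ : IrrCharacter (G ⧸ V), ¬ r ∣ charDegree (χ : G ⧸ V → ℂ))
    (hr : ∃ χ : IrrCharacter G, r ∣ charDegree (χ : G → ℂ))
    (hp : ∃ χ : IrrCharacter G, p ∣ charDegree (χ : G → ℂ))
    (hq : ∃ χ : IrrCharacter G, q ∣ charDegree (χ : G → ℂ))
    (H : NoTwo G p q r) : False := by
  by_cases hc : ∃ M : Subgroup G, V.IsComplement' M
  · obtain ⟨M, hM⟩ := hc
    exact false_case_complement hpq hqr hpr V M hV.2.2 hV.2.1 hM hrlost hr hp hq H
  · exact false_case_frattini hpq hqr hpr V hV.2.2 hV.2.1 hc hrlost hr hp hq H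

theorem main_aux {p q r : ℕ} (hp : p.Prime) (hq : q.Prime) (hr : r.Prime) (hpq : p ≠ q) (hqr : q ≠ r)
    (hpr : p ≠ r) : ∀ (n : ℕ) (G : Type u) [Group G] [Finite G] [Group.IsSolvable G], Nat.card G = n →
    (∃ χ : IrrCharacter G, p ∣ charDegree (χ : G → ℂ)) →
    (∃ χ : IrrCharacter G, q ∣ charDegree (χ : G → ℂ)) →
    (∃ χ : IrrCharacter G, r ∣ charDegree (χ : G → ℂ)) → ¬ NoTwo G p q r := by
  haveI : Fact p.Prime := ⟨hp⟩
  haveI : Fact q.Prime := ⟨hq⟩
  haveI : Fact r.Prime := ⟨hr⟩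
  intro n
  induction n using Nat.strong_induction_on with
  | _ n ih =>
    intro G _ _ _ hn hP hQ hR H
    -- `G` is nontrivial
    haveI : Nontrivial G := by
      by_contra hnt
      rw [not_nontrivial_iff_subsingleton] at hnt
      obtain ⟨χ, hχ⟩ := hP
      obtain ⟨m, ρ, hρ, hχρ⟩ := χ.2
      haveI := hρ
      have h1 := Cfsg.Agent.Lib.Char.Integrality.finrank_dvd_card ρ
      rw [Nat.card_of_subsingleton (1 : G), Nat.dvd_one] at h1
      have hdeg : (χ : G → ℂ) 1 = ((1 : ℕ) : ℂ) := by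
        rw [← hχρ, ρ.char_one, h1]
      have hc := Cfsg.Agent.Lib.Char.Values.IsCharacter.charDegree_eq
        (Cfsg.Agent.Lib.Char.Basic.isCharacter_of_isIrrCharacter χ.2) hdeg
      rw [hc] at hχ
      exact hp.one_lt.ne' (Nat.dvd_one.mp hχ)
    obtain ⟨V, hV⟩ := exists_isMinNormal (G := G)
    haveI := hV.1
    have hlt : Nat.card (G ⧸ V) < n := hn ▸ card_quotient_lt V hV.2.1
    have H' := noTwo_of_quot V H
    by_cases hpl : ∃ χ : IrrCharacter (G ⧸ V), p ∣ charDegree (χ : G ⧸ V → ℂ)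
    · by_cases hql : ∃ χ : IrrCharacter (G ⧸ V), q ∣ charDegree (χ : G ⧸ V → ℂ)
      · by_cases hrl : ∃ χ : IrrCharacter (G ⧸ V), r ∣ charDegree (χ : G ⧸ V → ℂ)
        · exact ih _ hlt (G ⧸ V) rfl hpl hql hrl H'
        · push Not at hrl
          exact false_of_lost hpq hqr hpr V hV hrl hR hP hQ H
      · push Not at hql
        refine false_of_lost hpr hqr.symm hpq V hV hql hQ hP hR ?_
        intro χ
        obtain ⟨h1, h2, h3⟩ := H χ
        refine ⟨h3, ?_, h1⟩
        rwa [mul_comm]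
    · push Not at hpl
      refine false_of_lost hqr hpr.symm hpq.symm V hV hpl hP hQ hR ?_
      intro χ
      obtain ⟨h1, h2, h3⟩ := H χ
      refine ⟨h2, ?_, ?_⟩
      · rwa [mul_comm]
      · rwa [mul_comm]

/-- Let G be a finite solvable group and p, q, r three distinct primes each dividing the degree of some irreducible character of G. Then for some two of them the product divides the degree of some irreducible character of G (the character degree graph of a solvable group has no three pairwise non-adjacent vertices). -/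
theorem result {G : Type*} [Group G] [Finite G] [hs : Group.IsSolvable G] (p q r : ℕ) (hp : p.Prime) (hq : q.Prime) (hr : r.Prime) (hpq : p ≠ q) (hqr : q ≠ r) (hpr : p ≠ r)
    (hpd : ∃ χ : Cfsg.IrrCharacter G, p ∣ Cfsg.charDegree (χ : G → ℂ)) (hqd : ∃ χ : Cfsg.IrrCharacter G, q ∣ Cfsg.charDegree (χ : G → ℂ)) (hrd : ∃ χ : Cfsg.IrrCharacter G, r ∣ Cfsg.charDegree (χ : G → ℂ)) :
    (∃ χ : Cfsg.IrrCharacter G, p * q ∣ Cfsg.charDegree (χ : G → ℂ)) ∨ (∃ χ : Cfsg.IrrCharacter G, q * r ∣ Cfsg.charDegree (χ : G → ℂ)) ∨ (∃ χ : Cfsg.IrrCharacter G, p * r ∣ Cfsg.charDegree (χ : G → ℂ)) := by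
  by_contra hcon
  push Not at hcon
  obtain ⟨h1, h2, h3⟩ := hcon
  exact main_aux hp hq hr hpq hqr hpr _ G rfl hpd hqd hrd (fun χ => ⟨h1 χ, h2 χ, h3 χ⟩)

end Cfsg.Agent.S4847
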