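import Cfsg.Statements.S4850
import Mathlib
import Cfsg.Agent.Lib.S4997.TopOrder
import Cfsg.Agent.Lib.S4997.Vanish
import Cfsg.Agent.Lib.S4850.Central
import Cfsg.Agent.Lib.S4850.TwoCase
import Cfsg.Agent.Lib.Basic.PCore
import Cfsg.Agent.Lib.Char.Basic
import Cfsg.Agent.Lib.Components.Basic
import Cfsg.Agent.Lib.OddOrder.BG12F

set_option autoImplicit false
open Cfsg

namespace Cfsg.Agent.S4850

open scoped commutatorElement

open Cfsg.Agent.Lib.Char.Basic in
/-- lifting vanishing along the quotient -/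
private theorem vanish_lift {G : Type*} [Group G] [Finite G] (N : Subgroup G) [N.Normal]
    {y : G ⧸ N} (h : ∃ χ : Cfsg.IrrCharacter (G ⧸ N), (χ : (G ⧸ N) → ℂ) y = 0) (g : G)
    (hg : QuotientGroup.mk' N g = y) : ∃ χ : Cfsg.IrrCharacter G, (χ : G → ℂ) g = 0 := by
  obtain ⟨χ, hχ⟩ := h
  refine ⟨⟨fun h => (χ : (G ⧸ N) → ℂ) (QuotientGroup.mk' N h),
    isIrrCharacter_comp_surjective χ.2 (QuotientGroup.mk' N) (QuotientGroup.mk'_surjective N)⟩, ?_⟩
  show (χ : (G ⧸ N) → ℂ) (QuotientGroup.mk' N g) = 0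
  rw [hg, hχ]

/-- cyclic from a small order -/
private theorem cyclic_of_card_le {X : Type*} [Group X] [Finite X] {p : ℕ} [hp : Fact p.Prime] (hX : IsPGroup p X)
    (h : Nat.card X ≤ p) : IsCyclic X := by
  obtain ⟨k, hk⟩ := IsPGroup.iff_card.1 hX
  have hp2 : 2 ≤ p := hp.out.two_le
  rcases k with _ | _ | k
  · rw [pow_zero] at hk
    haveI : Subsingleton X := (Nat.card_eq_one_iff_unique.1 hk).1
    infer_instance
  · rw [zero_add, pow_one] at hk
    exact isCyclic_of_prime_card hk
  · exfalso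
    rw [hk] at h
    have h1 : p ^ (k + 1 + 1) = p ^ k * p * p := by ring
    have h2 : 1 ≤ p ^ k := Nat.one_le_pow _ _ (by omega)
    have h3 : p * p ≤ p ^ (k + 1 + 1) := by
      rw [h1]
      exact Nat.mul_le_mul_right _ (Nat.le_mul_of_pos_left _ (by omega))
    nlinarith

/-- Let p be a prime and G a finite solvable group whose vanishing elements (elements at which some irreducible character is zero) of order divisible by p all have the same order, with at least one such element. Let P be a Sylow p-subgroup of G. Then the derived subgroup of P is subnormal in G and the image of P in G/O_p(G) is cyclic. -/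
theorem result {G : Type*} [Group G] [Finite G] [hs : Group.IsSolvable G] (p : ℕ) [Fact p.Prime] (b : ℕ) (hvo : {n : ℕ | p ∣ n ∧ ∃ (g : G) (χ : Cfsg.IrrCharacter G), orderOf g = n ∧ (χ : G → ℂ) g = 0} = {b}) (P : Sylow p G) :
    ((commutator ↥(P : Subgroup G)).map (P : Subgroup G).subtype).IsSubnormal ∧ IsCyclic ↥((P : Subgroup G).map (QuotientGroup.mk' (Cfsg.pCore p G))) := by
  classical
  have hpp : p.Prime := Fact.out
  set O : Subgroup G := Cfsg.pCore p G with hOdef
  have hOP : O ≤ (P : Subgroup G) := Cfsg.Agent.Lib.Basic.PCore.pCore_le_sylow P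
  have hOp : IsPGroup p O := Cfsg.Agent.Lib.Basic.PCore.pCore_isPGroup p
  -- every vanishing `p`-singular element has order `b`
  have hb : ∀ g : G, p ∣ orderOf g → (∃ χ : Cfsg.IrrCharacter G, (χ : G → ℂ) g = 0) → orderOf g = b := by
    intro g hg ⟨χ, hχ⟩
    have : orderOf g ∈ {n : ℕ | p ∣ n ∧ ∃ (g : G) (χ : Cfsg.IrrCharacter G), orderOf g = n ∧ (χ : G → ℂ) g = 0} :=
      ⟨hg, g, χ, rfl, hχ⟩
    rw [hvo] at this
    exact this
  set Qb : Subgroup (G ⧸ O) := (P : Subgroup G).map (QuotientGroup.mk' O) with hQb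
  have hQp : IsPGroup p Qb := P.isPGroup'.map _
  have hcyc : IsCyclic Qb := by
    by_cases hp2 : p = 2
    · subst hp2
      by_cases hQ1 : Qb = ⊥
      · rw [hQ1]
        infer_instance
      have hbot : Cfsg.pCore 2 (G ⧸ O) = ⊥ := Cfsg.Agent.Lib.Basic.PCore.pCore_quotient_eq_bot
      have hsolvQ : Group.IsSolvable (G ⧸ O) := inferInstance
      let Q : Sylow 2 (G ⧸ O) := P.mapSurjective (QuotientGroup.mk'_surjective O)
      have hQeq : (Q : Subgroup (G ⧸ O)) = Qb := rfl
      have h2y : ∀ y : G ⧸ O, y ≠ 1 → (∃ k : ℕ, y ^ (2 ^ k) = 1) → 2 ∣ orderOf y := by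
        intro y hy ⟨k, hk⟩
        obtain ⟨j, -, hj⟩ := (Nat.dvd_prime_pow Nat.prime_two).1 (orderOf_dvd_of_pow_eq_one hk)
        rw [hj]
        rcases j with _ | j
        · rw [pow_zero] at hj
          exact absurd (orderOf_eq_one_iff.1 hj) hy
        · exact dvd_pow_self 2 (Nat.succ_ne_zero j)
      haveI : Nontrivial ↥(Q : Subgroup (G ⧸ O)) := by
        rw [hQeq]
        exact (Subgroup.nontrivial_iff_ne_bot Qb).2 hQ1
      have hQ2 : IsPGroup 2 ↥(Q : Subgroup (G ⧸ O)) := Q.isPGroup'
      haveI : Nontrivial ↥(Subgroup.center ↥(Q : Subgroup (G ⧸ O))) := hQ2.center_nontrivial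
      obtain ⟨z, hz1⟩ := exists_ne (1 : ↥(Subgroup.center ↥(Q : Subgroup (G ⧸ O))))
      set z₀ : G ⧸ O := ((z : ↥(Q : Subgroup (G ⧸ O))) : G ⧸ O) with hz₀
      have hz₀Q : z₀ ∈ (Q : Subgroup (G ⧸ O)) := (z : ↥(Q : Subgroup (G ⧸ O))).2
      have hz₀1 : z₀ ≠ 1 := by
        intro h
        apply hz1
        apply Subtype.ext
        apply Subtype.ext
        exact h
      have hz₀c : ∀ a ∈ (Q : Subgroup (G ⧸ O)), a * z₀ = z₀ * a := by
        intro a ha
        have h3 := Subgroup.mem_center_iff.1 z.2 ⟨a, ha⟩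
        exact congrArg Subtype.val h3
      have hvz := Cfsg.Agent.Lib.S4850.exists_vanishing_central hsolvQ Q hz₀Q hz₀c (Commute.one_right z₀)
        (by simp) (by rw [hbot, Subgroup.mem_bot]; exact hz₀1)
      rw [mul_one] at hvz
      obtain ⟨x, hxP, hxz⟩ := (Subgroup.mem_map.1 (hQeq ▸ hz₀Q))
      have hvx := vanish_lift O hvz x hxz
      have hz₀p : ∃ k : ℕ, z₀ ^ (2 ^ k) = 1 := by
        obtain ⟨k, hk⟩ := hQ2 ⟨z₀, hz₀Q⟩
        exact ⟨k, congrArg Subtype.val hk⟩
      have hx2 : 2 ∣ orderOf x :=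
        (h2y z₀ hz₀1 hz₀p).trans (by rw [← hxz]; exact orderOf_map_dvd _ _)
      have hxb := hb x hx2 hvx
      obtain ⟨k, hk⟩ := P.isPGroup' ⟨x, hxP⟩
      have hk' : x ^ (2 ^ k) = 1 := congrArg Subtype.val hk
      obtain ⟨m, -, hm⟩ := (Nat.dvd_prime_pow Nat.prime_two).1 (orderOf_dvd_of_pow_eq_one hk')
      have hbm : b = 2 ^ m := by rw [← hxb, hm]
      have h2b : 2 ∣ b := by rw [← hxb]; exact hx2
      have hcard := Cfsg.Agent.Lib.S4850.sylow_two_card_le hsolvQ hbot ?_ ?_ Q
      · exact cyclic_of_card_le hQp hcard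
      · intro y hy hy2
        obtain ⟨g, rfl⟩ := QuotientGroup.mk'_surjective O y
        have hvg := vanish_lift O hy g rfl
        have hg2 : 2 ∣ orderOf g := hy2.trans (orderOf_map_dvd _ _)
        have hgb := hb g hg2 hvg
        refine ⟨m, ?_⟩
        rw [← map_pow, ← hbm, ← hgb, pow_orderOf_eq_one, map_one]
      · intro y hy hy' hne hk2
        obtain ⟨g, rfl⟩ := QuotientGroup.mk'_surjective O y
        have hvg := vanish_lift O hy g rfl
        have hvg2 := vanish_lift O hy' (g ^ 2) (map_pow _ _ _)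
        have hy1 : QuotientGroup.mk' O g ≠ 1 := by
          intro h
          apply hne
          rw [h, one_pow]
        have hg2 : 2 ∣ orderOf g := (h2y _ hy1 hk2).trans (orderOf_map_dvd _ _)
        have hgb := hb g hg2 hvg
        have hsq2 : 2 ∣ orderOf (g ^ 2) := by
          have h5 := h2y _ hne (by
            obtain ⟨k, hk⟩ := hk2
            refine ⟨k, ?_⟩
            rw [← pow_mul, mul_comm, pow_mul, hk, one_pow])
          refine h5.trans ?_
          rw [← map_pow]
          exact orderOf_map_dvd _ _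
        have hgb2 := hb (g ^ 2) hsq2 hvg2
        have h6 : orderOf (g ^ 2) = orderOf g / Nat.gcd (orderOf g) 2 := orderOf_pow' g (by norm_num)
        have h7 : Nat.gcd (orderOf g) 2 = 2 := Nat.gcd_eq_right hg2
        rw [h7, hgb2, hgb] at h6
        have hbpos : 0 < b := by
          rw [hbm]
          positivity
        have := Nat.div_lt_self hbpos (by norm_num : 1 < 2)
        omega
    · have hkey : ∀ x u : G, Commute x u → (∃ k : ℕ, x ^ (p ^ k) = 1) → (orderOf u).Coprime p → x ∉ Cfsg.pCore p G →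
          orderOf (x * u) = b := by
        intro x u hxu hxp hu hx
        have hv := Cfsg.Agent.Lib.S4997.exists_vanishing_of_not_mem_pCore hs hp2 hxu hxp hu hx
        obtain ⟨k, hk⟩ := hxp
        obtain ⟨j, -, hj⟩ := (Nat.dvd_prime_pow hpp).1 (orderOf_dvd_of_pow_eq_one hk)
        have hj0 : j ≠ 0 := by
          rintro rfl
          rw [pow_zero] at hj
          apply hx
          rw [orderOf_eq_one_iff.1 hj]
          exact Subgroup.one_mem _
        have hc : Nat.Coprime (orderOf x) (orderOf u) := by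
          rw [hj]
          exact Nat.Coprime.pow_left _ hu.symm
        have h1 := hxu.orderOf_mul_eq_mul_orderOf_of_coprime hc
        refine hb _ ?_ hv
        rw [h1, hj]
        exact Dvd.dvd.mul_right (dvd_pow_self p hj0) _
      have hcard := Cfsg.Agent.Lib.S4997.sylow_bound_of_orderOf_eq hs
        (fun x u x' u' h1 h2 h3 h4 h5 h6 h7 h8 => (hkey x u h1 h2 h3 h4).trans (hkey x' u' h5 h6 h7 h8).symm) P
      have h1 : Nat.card (P : Subgroup G) = Nat.card Qb * Nat.card O := by
        let f : ↥(P : Subgroup G) →* G ⧸ O := (QuotientGroup.mk' O).comp (P : Subgroup G).subtype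
        have hr : f.range = Qb := by
          rw [MonoidHom.range_comp, Subgroup.range_subtype]
        have hk : f.ker = O.subgroupOf (P : Subgroup G) := by
          ext a
          simp [f, MonoidHom.mem_ker, Subgroup.mem_subgroupOf, QuotientGroup.eq_one_iff]
        have := Subgroup.card_eq_card_quotient_mul_card_subgroup f.ker
        rw [Nat.card_congr (QuotientGroup.quotientKerEquivRange f).toEquiv, hr, hk,
          Nat.card_congr (Subgroup.subgroupOfEquivOfLe hOP).toEquiv] at this
        exact this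
      rw [h1] at hcard
      have hOpos : 0 < Nat.card O := Nat.card_pos
      exact cyclic_of_card_le hQp (Nat.le_of_mul_le_mul_right hcard hOpos)
  refine ⟨?_, hcyc⟩
  have hcomm : ∀ a c : ↥Qb, a * c = c * a := fun a c => by
    exact (inferInstance : IsMulCommutative ↥Qb).is_comm.comm a c
  have hle : (commutator ↥(P : Subgroup G)).map (P : Subgroup G).subtype ≤ O := by
    rw [Subgroup.map_le_iff_le_comap, _root_.commutator_def, Subgroup.commutator_le]
    intro a _ c _
    rw [Subgroup.mem_comap]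
    have ha : QuotientGroup.mk' O (a : G) ∈ Qb := Subgroup.mem_map_of_mem _ a.2
    have hc : QuotientGroup.mk' O (c : G) ∈ Qb := Subgroup.mem_map_of_mem _ c.2
    have h3 := congrArg Subtype.val (hcomm ⟨_, ha⟩ ⟨_, hc⟩)
    have h4 : QuotientGroup.mk' O (((P : Subgroup G).subtype) ⁅a, c⁆) = 1 := by
      rw [map_commutatorElement, map_commutatorElement]
      exact commutatorElement_eq_one_iff_mul_comm.2 h3
    exact (QuotientGroup.eq_one_iff _).1 h4
  haveI : Group.IsNilpotent O := hOp.isNilpotent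
  have hK : (((commutator ↥(P : Subgroup G)).map (P : Subgroup G).subtype).subgroupOf O).IsSubnormal :=
    Cfsg.Agent.Lib.OddOrder.BG12.isSubnormal_of_isNilpotent _
  have h5 := (Cfsg.Agent.Lib.Components.Basic.isSubnormal_map_subtype_iff O
    (Subgroup.Normal.isSubnormal inferInstance) _).1 hK
  rwa [Subgroup.map_subgroupOf_eq_of_le hle] at h5

end Cfsg.Agent.S4850
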