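import Cfsg.Statements.S4889
import Mathlib
import Cfsg.Agent.Lib.Blocks.Pim11
import Cfsg.Agent.S4689
import Cfsg.Agent.S4675
import Cfsg.Agent.S4690

set_option autoImplicit false
open Cfsg

namespace Cfsg.Agent.S4889

open Cfsg.Agent.Lib.Blocks.RegInt in
lemma degree_eq_of_nilpotent {G : Type*} [Group G] [Fintype G] (p : ℕ) [Fact p.Prime] (M : Ideal Cfsg.AlgInt)
    (hM : Cfsg.IsPModular p M) (B : Set (Cfsg.IrrCharacter G)) (hB : Cfsg.IsPBlock M B) (D : Subgroup G)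
    (hD : Cfsg.IsDefectGroup p M B D) (hab : ∀ x ∈ D, ∀ y ∈ D, x * y = y * x)
    (hnil : Cfsg.IsNilpotentBlock p M B) :
    ∃ d : ℕ, ∀ χ : Cfsg.IrrCharacter G, χ ∈ B → Cfsg.charDegree (χ : G → ℂ) = d := by
  classical
  have hp : p.Prime := Fact.out
  haveI : M.IsPrime := hM.2.1.isPrime
  have hl := (Cfsg.Agent.S4689.result p M hM B hnil).1
  obtain ⟨φ, d, -, hφ, hsum⟩ := Cfsg.Agent.S4675.result p M hM B hB D hD hl
  obtain ⟨Φ, -⟩ := Cfsg.Agent.S4690.result p M hM B hnil D hD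
  have hreg1 : Cfsg.IsPRegular p (1 : G) := by
    show ¬ p ∣ orderOf (1 : G)
    rw [orderOf_one]
    exact fun h => hp.one_lt.ne' (Nat.dvd_one.mp h)
  set T := (Finset.univ : Finset (Cfsg.IrrCharacter G)).filter (· ∈ B) with hT
  have hsum' : ∑ χ ∈ T, d χ ^ 2 = Nat.card D := by
    rw [← hsum, finsum_mem_eq_finite_toFinset_sum _ (Set.toFinite B)]
    refine Finset.sum_congr ?_ fun _ _ => rfl
    ext x
    simp [hT]
  have hfil : Nat.card B = T.card := by
    rw [Nat.card_eq_fintype_card, Fintype.card_subtype]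
  have hcc : Nat.card (ConjClasses D) = Nat.card D := by
    refine Nat.card_congr (Equiv.ofBijective (ConjClasses.mk (α := D)) ⟨?_, ConjClasses.mk_surjective⟩).symm
    intro a b h
    obtain ⟨c, hc⟩ := isConj_iff.mp (ConjClasses.mk_eq_mk_iff_isConj.mp h)
    have h1 : (c : D) * a = a * c := Subtype.ext (hab _ c.2 _ a.2)
    rw [h1, mul_inv_cancel_right] at hc
    exact hc
  have hcard : T.card = Nat.card D := by
    rw [← hfil, Nat.card_congr Φ, Cfsg.Agent.Lib.Char.CompleteCor.card_irr_eq_card_conjClasses, hcc]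
  have hd1 : ∀ χ ∈ B, 1 ≤ d χ := by
    intro χ hχ
    have h1 := hφ χ hχ 1 hreg1
    rw [Nat.one_le_iff_ne_zero]
    intro h0
    rw [h0] at h1
    simp only [Nat.cast_zero, zero_mul] at h1
    exact Cfsg.Agent.Lib.Char.Ortho.irr_apply_one_ne_zero χ.2 h1
  have hall : ∀ χ ∈ T, (1 : ℕ) = d χ ^ 2 := by
    have h2 : ∑ χ ∈ T, (1 : ℕ) = ∑ χ ∈ T, d χ ^ 2 := by
      rw [hsum', Finset.sum_const, smul_eq_mul, mul_one, hcard]
    refine (Finset.sum_eq_sum_iff_of_le ?_).mp h2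
    intro χ hχ
    exact Nat.one_le_pow _ _ (hd1 χ (Finset.mem_filter.mp hχ).2)
  have hdeq : ∀ χ ∈ B, d χ = 1 := by
    intro χ hχ
    have h1 := hall χ (Finset.mem_filter.mpr ⟨Finset.mem_univ _, hχ⟩)
    have h2 : d χ ^ 2 = 1 := h1.symm
    rcases Nat.pow_eq_one.mp h2 with h3 | h3
    · exact h3
    · omega
  obtain ⟨χ₀, hχ₀⟩ := Cfsg.Agent.Lib.Blocks.HeightZero.nonempty_of_isPBlock hB
  refine ⟨Cfsg.charDegree (χ₀ : G → ℂ), fun χ hχ => ?_⟩
  have h1 := hφ χ hχ 1 hreg1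
  have h2 := hφ χ₀ hχ₀ 1 hreg1
  rw [hdeq χ hχ] at h1
  rw [hdeq χ₀ hχ₀] at h2
  rw [← charDegree_cast] at h1 h2
  exact_mod_cast h1.trans h2.symm

/-- Let G be a finite group, p a prime, M a maximal ideal of the algebraic integers containing p, and B a p-block of G that has an abelian defect group and in which every irreducible character has height zero. Then all irreducible characters of B have the same degree if and only if B is a nilpotent block. -/
theorem result {G : Type*} [Group G] [Finite G] (p : ℕ) [Fact p.Prime] (M : Ideal Cfsg.AlgInt) (hM : Cfsg.IsPModular p M) (B : Set (Cfsg.IrrCharacter G)) (hB : Cfsg.IsPBlock M B) (D : Subgroup G) (hD : Cfsg.IsDefectGroup p M B D) (hDab : IsMulCommutative ↥D) (h0 : ∀ χ : Cfsg.IrrCharacter G, χ ∈ B → Cfsg.blockHeight p B (χ : G → ℂ) = 0) : (∃ d : ℕ, ∀ χ : Cfsg.IrrCharacter G, χ ∈ B → Cfsg.charDegree (χ : G → ℂ) = d) ↔ Cfsg.IsNilpotentBlock p M B := by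
  classical
  cases nonempty_fintype G
  haveI : M.IsPrime := hM.2.1.isPrime
  have hab : ∀ x ∈ D, ∀ y ∈ D, x * y = y * x := by
    intro x hx y hy
    have : (⟨x, hx⟩ : D) * ⟨y, hy⟩ = ⟨y, hy⟩ * ⟨x, hx⟩ := IsMulCommutative.is_comm.comm _ _
    exact congrArg Subtype.val this
  constructor
  · rintro ⟨n, hn⟩
    exact Cfsg.Agent.Lib.Blocks.Pim.isNilpotentBlock_of_equal_degree hM hB hD hab hn
  · exact degree_eq_of_nilpotent p M hM B hB D hD hab

end Cfsg.Agent.S4889
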