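-- Statement S4997 (row 4997): the theorem Cfsg.chr13_solvable_one_vanishing_class_of_p_elements_sylow_bound.
import Cfsg.Statements.S4997
import Cfsg.Agent.Lib.S4997.OneClass
import Cfsg.Agent.Lib.S4997.Top

set_option autoImplicit false
open Cfsg

namespace Cfsg.Agent.S4997

/-- Let p be an odd prime and G a finite solvable group with exactly one conjugacy class consisting of vanishing elements (elements at which some irreducible complex character is zero) of order divisible by p. Let P be a Sylow p-subgroup of G. Then the order of P is at most p times the order of the largest normal p-subgroup of G. -/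
theorem result {G : Type*} [Group G] [Finite G] (hsolv : Group.IsSolvable G) (p : ℕ) [Fact p.Prime] (hp : p ≠ 2) (h1 : Set.ncard {C : ConjClasses G | (∀ g ∈ C.carrier, ∃ χ : Cfsg.IrrCharacter G, (χ : G → ℂ) g = 0) ∧ ∃ g ∈ C.carrier, p ∣ orderOf g} = 1) (P : Sylow p G) : Nat.card ↥(P : Subgroup G) ≤ p * Nat.card ↥(Cfsg.pCore p G) := by
  exact Cfsg.Agent.Lib.S4997.sylow_bound_of_isConj hsolv
    (fun _ _ _ _ a b c d e f g h => Cfsg.Agent.Lib.S4997.isConj_of_one_class hsolv hp h1 a b c d e f g h) P

end Cfsg.Agent.S4997
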