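import Cfsg.Statements.S5178
import Mathlib
import Cfsg.Agent.Lib.Fusion.CenterIndex

set_option autoImplicit false
universe u
open Cfsg

namespace Cfsg.Agent.S5178

open Cfsg.Agent.Lib.Fusion.AbelianMax Cfsg.Agent.Lib.Fusion.CenterIndex Cfsg.Agent.Lib.Fusion.Basic

/-- Let p be an odd prime, S a finite p-group containing an extraspecial subgroup Q of index p, and F a saturated fusion system over S whose largest subgroup normal in F is trivial. Then the centre of S equals the centre of Q. -/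
theorem result {Ω : Type u} [Group Ω] {S : Subgroup Ω} [Finite S] (p : ℕ) [Fact p.Prime] (hp : Odd p) (hS : IsPGroup p S)
    (Q : Subgroup Ω) (hQS : Q ≤ S) (hQ : Cfsg.IsExtraspecial p ↥Q) (hQi : (Q.subgroupOf S).index = p)
    (F : Cfsg.FusionSystem S) (hF : F.IsSaturated p) (hO : F.core = ⊥) :
    S ⊓ Subgroup.centralizer (S : Set Ω) = Q ⊓ Subgroup.centralizer (Q : Set Ω) := by
  classical
  have hodd : p ≠ 2 := by
    rintro rfl
    exact absurd hp (by decide)
  have hpp : p.Prime := Fact.out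
  haveI : Finite Q := finite_of_le hQS
  have hcardZ : Nat.card (Subgroup.center ↥Q) = p := hQ.2
  obtain ⟨n, hn0, hn⟩ := Cfsg.Agent.Lib.PGroup.Extraspecial.IsExtraspecial.exists_card_eq hQ
  have hcardS : p * Nat.card Q = Nat.card S := by
    have h4 := Subgroup.index_mul_card (Q.subgroupOf S)
    rw [hQi] at h4
    rw [← h4]
    congr 1
    exact (Nat.card_congr (Subgroup.subgroupOfEquivOfLe hQS).toEquiv).symm
  have hS1 : S ≠ ⊥ := by
    intro h
    have h1 : Nat.card S = 1 := by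
      rw [h]
      simp
    rw [h1] at hcardS
    have h2 := Nat.eq_one_of_mul_eq_one_right hcardS
    exact hpp.one_lt.ne' h2
  haveI : Nontrivial (Subgroup.center ↥Q) :=
    Finite.one_lt_card_iff_nontrivial.1 (by rw [hcardZ]; exact hpp.one_lt)
  obtain ⟨zc, hzc⟩ := exists_ne (1 : Subgroup.center ↥Q)
  have hgen : ∀ d : Subgroup.center ↥Q, ∃ k : ℕ, zc ^ k = d := by
    intro d
    have h1 : d ∈ Subgroup.zpowers zc := mem_zpowers_of_prime_card hcardZ hzc
    rw [← mem_powers_iff_mem_zpowers] at h1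
    exact h1
  set z : Ω := ((zc : ↥Q) : Ω) with hzdef
  have hzQ : z ∈ Q := (zc : ↥Q).2
  have hzcQ : ∀ u ∈ Q, u * z = z * u := fun u hu =>
    congrArg Subtype.val ((Subgroup.mem_center_iff.1 zc.2) ⟨u, hu⟩)
  have hz1 : z ≠ 1 := by
    intro h
    apply hzc
    apply Subtype.ext
    apply Subtype.ext
    exact h
  have hzp : z ^ p = 1 := by
    have h1 : zc ^ p = 1 := by
      rw [← hcardZ]
      exact pow_card_eq_one'
    have h2 := congrArg (fun w : Subgroup.center ↥Q => ((w : ↥Q) : Ω)) h1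
    simpa using h2
  have hQcomm : ∀ u ∈ Q, ∀ v ∈ Q, u * v * u⁻¹ * v⁻¹ ∈ Subgroup.zpowers z := by
    intro u hu v hv
    obtain ⟨k, hk⟩ := hgen ⟨_, Cfsg.Agent.Lib.PGroup.Extraspecial.IsExtraspecial.comm_mem_center hQ ⟨u, hu⟩ ⟨v, hv⟩⟩
    refine ⟨(k : ℤ), ?_⟩
    have h1 := congrArg (fun w : Subgroup.center ↥Q => ((w : ↥Q) : Ω)) hk
    simp only [Subgroup.coe_pow, commutatorElement_def, Subgroup.coe_mul, Subgroup.coe_inv] at h1
    show z ^ (k : ℤ) = _
    rw [zpow_natCast]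
    exact h1
  by_cases hZQ : cen S ≤ Q
  · -- the centre of `S` lies in `Q`
    have hle : cen S ≤ cen Q := by
      intro y hy
      refine mem_cen.2 ⟨hZQ hy, fun u hu => (mem_cen.1 hy).2 u (hQS hu)⟩
    apply le_antisymm hle
    haveI : Nontrivial ↥S := by
      rw [Subgroup.nontrivial_iff_ne_bot]
      exact hS1
    haveI := hS.center_nontrivial
    obtain ⟨y, hy⟩ := exists_ne (1 : Subgroup.center ↥S)
    have hyc : (((y : ↥S) : Ω)) ∈ cen S := by
      have h1 : (y : ↥S) ∈ (cen S).subgroupOf S := by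
        rw [center_eq]
        exact y.2
      exact h1
    have hyQ := hle hyc
    have hyc' : (⟨_, hyQ.1⟩ : ↥Q) ∈ Subgroup.center ↥Q := by
      rw [← center_eq]
      exact hyQ
    have hy1 : (⟨⟨_, hyQ.1⟩, hyc'⟩ : Subgroup.center ↥Q) ≠ 1 := by
      intro h
      apply hy
      apply Subtype.ext
      apply Subtype.ext
      exact congrArg (fun w : Subgroup.center ↥Q => ((w : ↥Q) : Ω)) h
    intro w hw
    have hwc : (⟨w, hw.1⟩ : ↥Q) ∈ Subgroup.center ↥Q := by
      rw [← center_eq]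
      exact hw
    have h1 : (⟨⟨w, hw.1⟩, hwc⟩ : Subgroup.center ↥Q) ∈ Subgroup.zpowers _ :=
      mem_zpowers_of_prime_card hcardZ hy1
    rw [← mem_powers_iff_mem_zpowers] at h1
    obtain ⟨k, hk⟩ := h1
    have h2 := congrArg (fun u : Subgroup.center ↥Q => ((u : ↥Q) : Ω)) hk
    simp only [Subgroup.coe_pow] at h2
    rw [← h2]
    exact Subgroup.pow_mem _ hyc k
  · exfalso
    obtain ⟨c, hc, hcQ⟩ := Set.not_subset.1 hZQ
    have hcS : c ∈ S := (mem_cen.1 hc).1
    haveI hnorm : (Q.subgroupOf S).Normal := by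
      apply Subgroup.normal_of_index_eq_minFac_card
      obtain ⟨m, hm⟩ := IsPGroup.iff_card.1 hS
      have hm0 : m ≠ 0 := by
        rintro rfl
        have h1 : (Q.subgroupOf S).index ∣ Nat.card S := Subgroup.index_dvd_card _
        rw [hm, pow_zero, hQi] at h1
        exact hpp.one_lt.ne' (Nat.dvd_one.1 h1)
      rw [hm, Nat.Prime.pow_minFac hpp hm0, hQi]
    have hdec : ∀ s ∈ S, ∃ q ∈ Q, ∃ k : ℕ, s = q * c ^ k := by
      intro s hs
      have hne : (QuotientGroup.mk ⟨c, hcS⟩ : S ⧸ Q.subgroupOf S) ≠ 1 := by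
        intro h
        exact hcQ ((QuotientGroup.eq_one_iff (⟨c, hcS⟩ : S)).1 h)
      have h1 : (QuotientGroup.mk ⟨s, hs⟩ : S ⧸ Q.subgroupOf S) ∈
          Subgroup.zpowers (QuotientGroup.mk ⟨c, hcS⟩ : S ⧸ Q.subgroupOf S) :=
        mem_zpowers_of_prime_card hQi hne
      rw [← mem_powers_iff_mem_zpowers] at h1
      obtain ⟨k, hk⟩ := h1
      refine ⟨s * (c ^ k)⁻¹, ?_, k, by group⟩
      have h2 : ((⟨s, hs⟩ * (⟨c, hcS⟩ ^ k)⁻¹ : S)) ∈ Q.subgroupOf S := by
        rw [← QuotientGroup.eq_one_iff]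
        rw [QuotientGroup.mk_mul, QuotientGroup.mk_inv, QuotientGroup.mk_pow]
        rw [← hk]
        simp
      exact h2
    have hcpow : ∀ k : ℕ, c ^ k ∈ cen S := fun k => Subgroup.pow_mem _ hc k
    have hzZ : z ∈ cen S := by
      refine mem_cen.2 ⟨hQS hzQ, fun s hs => ?_⟩
      obtain ⟨q, hq, k, rfl⟩ := hdec s hs
      have h1 : c ^ k * z = z * c ^ k := (mem_cen.1 (hcpow k)).2 z (hQS hzQ) |>.symm
      rw [mul_assoc, h1, ← mul_assoc, hzcQ q hq, mul_assoc]
    have hcomm : ∀ s ∈ S, ∀ t ∈ S, s * t * s⁻¹ * t⁻¹ ∈ Subgroup.zpowers z := by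
      intro s hs t ht
      obtain ⟨q, hq, k, rfl⟩ := hdec s hs
      obtain ⟨q', hq', l, rfl⟩ := hdec t ht
      have h1 : c ^ k * q' = q' * c ^ k := ((mem_cen.1 (hcpow k)).2 q' (hQS hq')).symm
      have h2 : c ^ k * c ^ l = c ^ l * c ^ k := (Commute.refl c).pow_pow k l
      have h3 : c ^ l * q⁻¹ = q⁻¹ * c ^ l := ((mem_cen.1 (hcpow l)).2 q⁻¹ (S.inv_mem (hQS hq))).symm
      have e : q * c ^ k * (q' * c ^ l) * (q * c ^ k)⁻¹ * (q' * c ^ l)⁻¹ = q * q' * q⁻¹ * q'⁻¹ := by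
        calc q * c ^ k * (q' * c ^ l) * (q * c ^ k)⁻¹ * (q' * c ^ l)⁻¹
            = q * (c ^ k * q') * c ^ l * (c ^ k)⁻¹ * q⁻¹ * (c ^ l)⁻¹ * q'⁻¹ := by group
          _ = q * q' * (c ^ k * c ^ l) * (c ^ k)⁻¹ * q⁻¹ * (c ^ l)⁻¹ * q'⁻¹ := by rw [h1]; group
          _ = q * q' * (c ^ l * q⁻¹) * (c ^ l)⁻¹ * q'⁻¹ := by rw [h2]; group
          _ = q * q' * q⁻¹ * q'⁻¹ := by rw [h3]; group
      rw [e]
      exact hQcomm q hq q' hq'
    have hidx := class2_index hS hF hS1 hO hzZ hz1 hzp hcomm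
    obtain ⟨-, h3, -⟩ := main_odd hS hF hodd hS1 hO hidx
    rw [← hcardS, hn] at h3
    have h5 : p * p ^ (2 * n + 1) = p ^ (2 * n + 2) := by ring
    rw [h5] at h3
    have := Nat.pow_right_injective hpp.two_le h3
    omega

end Cfsg.Agent.S5178
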