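import Cfsg.Statements.S5179
import Mathlib
import Cfsg.Agent.Lib.Fusion.AbelianMax
import Cfsg.Agent.Lib.PGroup.Extraspecial

set_option autoImplicit false
universe u
open Cfsg

namespace Cfsg.Agent.S5179

open Cfsg.FusionSystem Cfsg.Agent.Lib.Fusion.Basic Cfsg.Agent.Lib.PGroup.Extraspecial

/-- Let p be an odd prime, S a finite p-group of order at least p⁶ containing an extraspecial subgroup Q of index p, and F a saturated fusion system over S whose largest subgroup normal in F is trivial. Then no proper subgroup of Q is essential in F: an essential subgroup of F contained in Q equals Q. -/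
theorem result {Ω : Type u} [Group Ω] {S : Subgroup Ω} [Finite S] (p : ℕ) [Fact p.Prime] (hp : Odd p) (hS : IsPGroup p S)
    (Q : Subgroup Ω) (hQS : Q ≤ S) (hQ : Cfsg.IsExtraspecial p ↥Q) (hQi : (Q.subgroupOf S).index = p)
    (h6 : p ^ 6 ≤ Nat.card S)
    (F : Cfsg.FusionSystem S) (hF : F.IsSaturated p) (hO : F.core = ⊥)
    (E : Subgroup Ω) (hEQ : E ≤ Q) (hE : F.IsEssential p E) : E = Q := by
  classical
  by_contra hne
  have hES : E ≤ S := hE.1.1
  have hC : centralizerIn S E ≤ E := hE.1.2 E (Cfsg.Agent.Lib.Fusion.Basic.IsConj.refl hES)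
  haveI : Finite E := finite_of_le hES
  haveI : Finite Q := finite_of_le hQS
  have hVp : IsPGroup p E := isPGroup_of_le hS hES
  let Zq : Subgroup Ω := (Subgroup.center ↥Q).map Q.subtype
  have hZqQ : ∀ y ∈ Zq, y ∈ Q := by
    rintro _ ⟨y, -, rfl⟩
    exact y.2
  have hZqcomm : ∀ y ∈ Zq, ∀ u ∈ Q, u * y = y * u := by
    rintro _ ⟨y, hy, rfl⟩ u hu
    exact congrArg Subtype.val ((Subgroup.mem_center_iff.1 hy) ⟨u, hu⟩)
  have hcomm : ∀ u ∈ Q, ∀ v ∈ Q, u * v * u⁻¹ * v⁻¹ ∈ Zq := by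
    intro u hu v hv
    exact ⟨_, IsExtraspecial.comm_mem_center hQ ⟨u, hu⟩ ⟨v, hv⟩, rfl⟩
  have hZqE : Zq ≤ E := by
    intro y hy
    refine hC ⟨hQS (hZqQ y hy), Subgroup.mem_centralizer_iff.2 fun u hu => ?_⟩
    exact hZqcomm y hy u (hEQ hu)
  obtain ⟨g, hgQ, hgE⟩ : ∃ g ∈ Q, g ∉ E := by
    by_contra hcon
    push Not at hcon
    exact hne (le_antisymm hEQ hcon)
  have hQNk : ∀ u ∈ Q, ∀ y ∈ E, u * y * u⁻¹ ∈ E := by
    intro u hu y hy
    have e : u * y * u⁻¹ = (u * y * u⁻¹ * y⁻¹) * y := by group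
    rw [e]
    exact E.mul_mem (hZqE (hcomm u hu y (hEQ hy))) hy
  have hQN : ∀ u ∈ Q, u ∈ Subgroup.normalizer (E : Set Ω) := by
    intro u hu
    refine Subgroup.mem_normalizer_iff.2 fun y => ⟨hQNk u hu y, fun hy => ?_⟩
    have h1 := hQNk u⁻¹ (Q.inv_mem hu) _ hy
    have e : u⁻¹ * (u * y * u⁻¹) * u⁻¹⁻¹ = y := by group
    rwa [e] at h1
  have hst : ∀ y ∈ E, y⁻¹ * (g * y * g⁻¹) ∈ Zq := by
    intro y hy
    have h1 := hcomm y⁻¹ (Q.inv_mem (hEQ hy)) g hgQ
    have e : y⁻¹ * (g * y * g⁻¹) = y⁻¹ * g * y⁻¹⁻¹ * g⁻¹ := by group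
    rw [e]
    exact h1
  -- the generator of the centre
  haveI : Fact p.Prime := inferInstance
  have hcardZ : Nat.card (Subgroup.center ↥Q) = p := hQ.2
  have hZgen : ∀ c : Subgroup.center ↥Q, c ≠ 1 → ∀ d : Subgroup.center ↥Q, ∃ k : ℕ, c ^ k = d := by
    intro c hc d
    have h1 : d ∈ Subgroup.zpowers c := mem_zpowers_of_prime_card hcardZ hc
    rw [← mem_powers_iff_mem_zpowers] at h1
    exact h1
  by_cases hab : ∀ a ∈ E, ∀ b ∈ E, a * b = b * a
  swap
  · -- nonabelian `E`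
    push Not at hab
    obtain ⟨a, ha, b, hb, hne'⟩ := hab
    have hcZ : a * b * a⁻¹ * b⁻¹ ∈ Zq := hcomm a (hEQ ha) b (hEQ hb)
    obtain ⟨c₀, hc₀, hc₀e⟩ := hcZ
    have hc₀1 : (⟨c₀, hc₀⟩ : Subgroup.center ↥Q) ≠ 1 := by
      intro h
      have h1 : (c₀ : Ω) = 1 := by
        have := congrArg (fun w : Subgroup.center ↥Q => ((w : ↥Q) : Ω)) h
        simpa using this
      have h2 : a * b * a⁻¹ * b⁻¹ = 1 := by
        rw [← hc₀e]
        exact h1
      apply hne'
      rw [mul_inv_eq_one, mul_inv_eq_iff_eq_mul] at h2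
      exact h2
    apply hgE
    refine Cfsg.Agent.Lib.Fusion.Chain.mem_of_stab_chain hS hE.1
      (Cfsg.Agent.Lib.Fusion.EssentialPair.isRadical_of_essential hS hE)
      (E := Cfsg.Agent.Lib.Fusion.AbelianMax.chain2 Zq) (m := 2) rfl le_top ?_ (hQS hgQ) (hQN g hgQ) ?_
    · intro i hi α hα y hy
      have hi' : i = 0 ∨ i = 1 ∨ i = 2 := by omega
      rcases hi' with rfl | rfl | rfl
      · have h1 : y = 1 := Subtype.ext hy
        rw [h1, map_one]
        exact Subgroup.one_mem _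
      · obtain ⟨d, hd, hde⟩ := (show (y : Ω) ∈ Zq from hy)
        obtain ⟨k, hk⟩ := hZgen _ hc₀1 ⟨d, hd⟩
        have hk' : (c₀ : ↥Q) ^ k = d := congrArg Subtype.val hk
        have e1 : y = (⟨a, ha⟩ * ⟨b, hb⟩ * (⟨a, ha⟩ : E)⁻¹ * (⟨b, hb⟩ : E)⁻¹) ^ k := by
          apply Subtype.ext
          rw [← hde, ← hk']
          simp only [map_pow, Subgroup.coe_pow]
          congr 1
        rw [e1, map_pow, map_mul, map_mul, map_mul, map_inv, map_inv]
        show _ ∈ Zq
        exact Zq.pow_mem (hcomm _ (hEQ (α _).2) _ (hEQ (α _).2)) k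
      · trivial
    · intro i hi y hyE hy
      have hi' : i = 0 ∨ i = 1 := by omega
      rcases hi' with rfl | rfl
      · have h1 : y ∈ Zq := hy
        have e : y⁻¹ * (g * y * g⁻¹) = 1 := by
          rw [hZqcomm y h1 g hgQ]
          group
        rw [e]
        exact Subgroup.one_mem _
      · exact hst y hyE
  · -- abelian `E`
    have hV : ∀ a b : E, a * b = b * a := fun a b => Subtype.ext (hab a a.2 b b.2)
    obtain ⟨α, -, hα⟩ := Cfsg.Agent.Lib.Fusion.EssentialPair.exists_pair hS hF hE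
    -- a generator `z`
    have hcenne : ∃ c : Subgroup.center ↥Q, c ≠ 1 := by
      haveI : Nontrivial (Subgroup.center ↥Q) :=
        Finite.one_lt_card_iff_nontrivial.1 (by rw [hcardZ]; exact (Fact.out : p.Prime).one_lt)
      exact exists_ne 1
    obtain ⟨zc, hzc⟩ := hcenne
    let z : Ω := ((zc : ↥Q) : Ω)
    have hzZq : z ∈ Zq := ⟨zc, zc.2, rfl⟩
    let zE : E := ⟨z, hZqE hzZq⟩
    have hpowE : ∀ w : E, (w : Ω) ∈ Zq → w ∈ Subgroup.zpowers zE := by
      intro w hw
      obtain ⟨d, hd, hde⟩ := hw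
      obtain ⟨k, hk⟩ := hZgen _ hzc ⟨d, hd⟩
      have hk' : (zc : ↥Q) ^ k = d := congrArg Subtype.val hk
      refine ⟨(k : ℤ), Subtype.ext ?_⟩
      show ((zE ^ (k : ℤ) : E) : Ω) = w
      rw [zpow_natCast, Subgroup.coe_pow]
      show z ^ k = w
      rw [← hde, ← hk']
      simp [z]
    have hstE : ∀ u (hu : u ∈ Q), ∀ x : E, x⁻¹ * normConj u (hQN u hu) x ∈ Subgroup.zpowers zE := by
      intro u hu x
      refine hpowE _ ?_
      have h1 := hcomm (x : Ω)⁻¹ (Q.inv_mem (hEQ x.2)) u hu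
      have e : (((x⁻¹ * normConj u (hQN u hu) x : E)) : Ω) = (x : Ω)⁻¹ * u * (x : Ω)⁻¹⁻¹ * u⁻¹ := by
        simp only [Subgroup.coe_mul, Subgroup.coe_inv, normConj_apply]
        group
      rw [e]
      exact h1
    have htzE : ∀ u (hu : u ∈ Q), normConj u (hQN u hu) zE = zE := by
      intro u hu
      apply Subtype.ext
      show u * z * u⁻¹ = z
      rw [hZqcomm z hzZq u hu]
      group
    let t₁ : MulAut E := normConj g (hQN g hgQ)
    by_cases hK : ∃ g₂ ∈ Q, g₂ ∉ E ∧ g₂ * (((α⁻¹ zE : E)) : Ω) * g₂⁻¹ = ((α⁻¹ zE : E) : Ω)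
    · obtain ⟨g₂, hg₂Q, hg₂E, hg₂⟩ := hK
      let t₂' : MulAut E := normConj g₂ (hQN g₂ hg₂Q)
      have htw : t₂' (α⁻¹ zE) = α⁻¹ zE := Subtype.ext hg₂
      have hpg := Cfsg.Agent.Lib.Fusion.Transvection.isPGroup_closure_pair hV hVp (z₁ := zE) (z₂ := α zE)
        (t₁ := α * t₂' * α⁻¹) (t₂ := t₁) (by
          show α (t₂' (α⁻¹ zE)) = zE
          rw [htw, MulAut.apply_inv_self]) (by
          show α (t₂' (α⁻¹ (α zE))) = α zE
          rw [MulAut.inv_apply_self, htzE g₂ hg₂Q]) (by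
          intro x
          have h1 := hstE g₂ hg₂Q (α⁻¹ x)
          obtain ⟨k, hk⟩ := h1
          refine ⟨k, ?_⟩
          have e : x⁻¹ * (α * t₂' * α⁻¹) x = α ((α⁻¹ x)⁻¹ * t₂' (α⁻¹ x)) := by
            rw [map_mul, map_inv, MulAut.apply_inv_self]
            rfl
          rw [e, ← hk]
          simp only [map_zpow]) (htzE g hgQ) (hstE g hgQ)
      rw [Set.pair_comm] at hpg
      exact hα t₁ (normConj_mem_autInducedBy (hQS hgQ) _) t₂' (normConj_mem_autInducedBy (hQS hg₂Q) _)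
        (Cfsg.Agent.Lib.Fusion.Essential.normConj_not_mem_inn hES hC (hQS hgQ) _ hgE)
        (Cfsg.Agent.Lib.Fusion.Essential.normConj_not_mem_inn hES hC (hQS hg₂Q) _ hg₂E) hpg
    · push Not at hK
      -- counting
      have hEQc : Nat.card (E.subgroupOf Q) = Nat.card E :=
        Nat.card_congr (Subgroup.subgroupOfEquivOfLe hEQ).toEquiv
      have hc := IsExtraspecial.comm_mem_center hQ
      let w : ↥Q := ⟨((α⁻¹ zE : E) : Ω), hEQ (α⁻¹ zE).2⟩
      have h1 := card_le_mul_card_inf_centralizer hc hcardZ (⊤ : Subgroup ↥Q) w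
      have hle : (⊤ : Subgroup ↥Q) ⊓ Subgroup.centralizer ({w} : Set ↥Q) ≤ E.subgroupOf Q := by
        rintro u ⟨-, hu⟩
        by_contra huE
        apply hK u u.2 huE
        have h2 : w * u = u * w := (Subgroup.mem_centralizer_iff.1 hu) w rfl
        have h3 : ((α⁻¹ zE : E) : Ω) * u = u * ((α⁻¹ zE : E) : Ω) := congrArg Subtype.val h2
        rw [← h3]
        group
      have h2 : Nat.card ↥((⊤ : Subgroup ↥Q) ⊓ Subgroup.centralizer ({w} : Set ↥Q)) ≤ Nat.card E := by
        rw [← hEQc]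
        exact Subgroup.card_le_of_le hle
      rw [Subgroup.card_top] at h1
      have h3 := card_sq_le_of_le_centralizer (hQ.1.1) hc hcardZ (A := E.subgroupOf Q) (by
        intro a ha
        refine Subgroup.mem_centralizer_iff.2 fun b hb => Subtype.ext ?_
        exact hab b hb a ha)
      rw [hEQc] at h3
      obtain ⟨n, -, hn⟩ := IsExtraspecial.exists_card_eq hQ
      have hcardS : p * Nat.card Q = Nat.card S := by
        have h4 := Subgroup.index_mul_card (Q.subgroupOf S)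
        rw [hQi] at h4
        rw [← h4]
        congr 1
        exact (Nat.card_congr (Subgroup.subgroupOfEquivOfLe hQS).toEquiv).symm
      have hp1 : 1 < p := (Fact.out : p.Prime).one_lt
      have hn2 : 2 ≤ n := by
        by_contra hlt
        have h5 : p * p ^ (2 * n + 1) = p ^ (2 * n + 2) := by ring
        rw [hn, h5] at hcardS
        rw [← hcardS] at h6
        have := (Nat.pow_le_pow_iff_right hp1).1 h6
        omega
      -- the numerical contradiction
      have h7 : Nat.card Q ^ 2 ≤ p ^ 3 * Nat.card Q := by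
        calc Nat.card Q ^ 2 ≤ (p * Nat.card E) ^ 2 := Nat.pow_le_pow_left (h1.trans (Nat.mul_le_mul_left _ h2)) 2
          _ = p ^ 2 * Nat.card E ^ 2 := by ring
          _ ≤ p ^ 2 * (Nat.card Q * p) := Nat.mul_le_mul_left _ h3
          _ = p ^ 3 * Nat.card Q := by ring
      have hQpos : 0 < Nat.card Q := Nat.card_pos
      have h8 : Nat.card Q ≤ p ^ 3 := by
        rw [pow_two] at h7
        exact Nat.le_of_mul_le_mul_right h7 hQpos
      rw [hn] at h8
      have := (Nat.pow_le_pow_iff_right hp1).1 h8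
      omega

end Cfsg.Agent.S5179
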