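import Cfsg.Statements.S5180
import Cfsg.Agent.Lib.S5180.Basic
import Cfsg.Agent.Lib.S5180.TvBasic
import Cfsg.Agent.Lib.S5180.Rho
import Cfsg.Agent.Lib.S5180.RH3
import Cfsg.Agent.Lib.S5180.Final
import Cfsg.Agent.Lib.S5180.JT
import Cfsg.Agent.Lib.S5180.JE
import Cfsg.Agent.Lib.S5180.Wlog
import Cfsg.Agent.Lib.S5180.IndexP
import Cfsg.Agent.Lib.S5180.Irr
import Cfsg.Agent.Lib.S5180.TvDataFinal
import Cfsg.Agent.Lib.S5180.ExtendRho
import Mathlib

set_option autoImplicit false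
universe u
open Cfsg
open scoped commutatorElement
open Cfsg.Agent.Lib.S5180

namespace Cfsg.Agent.S5180

section Aux
variable {Ω : Type u} [Group Ω]

theorem exists_rho_disp {T : Type u} [Group T] [Finite T] {p : ℕ} [Fact p.Prime] {E : Subgroup T} {l y w t : T}
    {ah as' : MulAut E} {lam lam' : ℕ} {hat : MulAut T}
    (h : Tv p E l y w t ah as' lam lam' hat) (hp : 5 ≤ p) (hT : IsPGroup p T)
    (hsr : SectionalPRankLE p 3 T) (AA PP : Subgroup (MulAut T)) (hhat : hat ∈ AA) (hPP : PP ≤ AA)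
    (hsyl : ∃ R : Sylow p AA, (R : Subgroup AA) = PP.subgroupOf AA) (hinn : ∀ τ : T, MulAut.conj τ ∈ PP)
    (hfix : ∀ π ∈ PP, E.map (π : MulAut T).toMonoidHom = E → ∃ τ : T, π = MulAut.conj τ)
    (σ : MulAut T) (hσPP : σ ∈ PP) (hσ : E.map σ.toMonoidHom ≠ E) :
    ∃ (ρ₀ : MulAut T) (τ' τ₀ : T) (u s : T) (ν el : ℕ), ρ₀ ∈ AA ∧
      ρ₀ * σ * ρ₀⁻¹ = σ ^ ν * MulAut.conj τ' ∧ σ ^ p = MulAut.conj τ₀ ∧
      (∀ π ∈ PP, ∃ (k : ℕ) (τ : T), π = σ ^ k * MulAut.conj τ) ∧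
      (Frat E).map σ.toMonoidHom = Frat E ∧ (Frat E).map ρ₀.toMonoidHom = Frat E ∧
      (∀ z : T, ⁅⁅u, s⁆, z⁆ ∈ Frat E) ∧
      σ u * (u * s)⁻¹ ∈ Frat E ⊔ (Subgroup.zpowers ⁅u, s⁆ ⊔ Subgroup.zpowers w) ∧
      σ s * s⁻¹ ∈ Frat E ⊔ Subgroup.zpowers ⁅u, s⁆ ∧ σ w * w⁻¹ ∈ Frat E ⊔ Subgroup.zpowers ⁅u, s⁆ ∧
      (∀ z : T, ∃ a b c d : ℕ, z * (u ^ a * s ^ b * ⁅u, s⁆ ^ c * w ^ d)⁻¹ ∈ Frat E) ∧
      (∀ a b c d : ℕ, u ^ a * s ^ b * ⁅u, s⁆ ^ c * w ^ d ∈ Frat E → p ∣ a ∧ p ∣ b ∧ p ∣ c ∧ p ∣ d) ∧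
      ρ₀ ⁅u, s⁆ * (⁅u, s⁆ ^ el)⁻¹ ∈ Frat E ∧ ρ₀ w * w⁻¹ ∈ Frat E ∧
      ¬ ν ≡ el [MOD p] ∧ ¬ ν ≡ 1 [MOD p] := by
  by_cases hcase : ∃ (k : ℕ) (τ : T), hat * σ * hat⁻¹ = σ ^ k * MulAut.conj τ
  · obtain ⟨k, τ, hk⟩ := hcase
    exact h.exists_rho_of_case hp hT hsr AA PP hhat hPP hsyl hinn hfix σ hσPP hσ hk
  · have hPPp := isPGroup_of_sylow hPP hsyl
    obtain ⟨hinnP, hwP, hkP⟩ := h.rh1_core hp hT (h.gen hp hT) (h.frattini_eq hp hT)
      (fun σ hσ => h.lemmaD hp hT hsr σ hσ) PP hPPp hfix σ hσPP hσ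
    obtain ⟨τ₀, hτ₀⟩ := hinnP σ hσPP
    have hii : ∀ (k : ℕ) (τ : T), hat * σ * hat⁻¹ ≠ σ ^ k * MulAut.conj τ :=
      fun k τ hh => hcase ⟨k, τ, hh⟩
    obtain ⟨ρ₀, τ', u, s, ν, el, h1, h2, h3, h4, h5, h6, h7, h8, h9, h10, h11, h12, h13⟩ :=
      h.rho_case_ii hp hT AA PP hhat hPP hsyl hfix hwP σ hσPP hσ hτ₀ hii
    exact ⟨ρ₀, τ', τ₀, u, s, ν, el, h1, h2, hτ₀, hkP, h.frat_map_eq hp hT σ (hwP σ hσPP), h3, h4, h5, h6, h7,
      h8, h9, h10, h11, h12, h13⟩

theorem frattini_equiv {A B : Type*} [Group A] [Group B] (e : A ≃* B) (a : A) :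
    e a ∈ frattini B ↔ a ∈ frattini A := by
  constructor
  · intro h
    have := frattini_le_comap_frattini_of_surjective (φ := e.symm.toMonoidHom) e.symm.surjective h
    simpa using this
  · intro h
    exact frattini_le_comap_frattini_of_surjective (φ := e.toMonoidHom) e.surjective h

theorem mem_frat_iff {E T : Subgroup Ω} (hET : E ≤ T) (z : T) :
    z ∈ Frat (E.subgroupOf T) ↔ (z : Ω) ∈ (frattini E).map E.subtype := by
  unfold Frat
  constructor
  · rintro ⟨a, ha, rfl⟩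
    refine ⟨Subgroup.subgroupOfEquivOfLe hET a, ?_, rfl⟩
    exact (frattini_equiv _ a).2 ha
  · rintro ⟨a, ha, hz⟩
    refine ⟨(Subgroup.subgroupOfEquivOfLe hET).symm a, ?_, ?_⟩
    · exact (frattini_equiv (Subgroup.subgroupOfEquivOfLe hET).symm a).2 ha
    · apply Subtype.ext
      rw [← hz]
      rfl

theorem relIndex_frat {E T : Subgroup Ω} (hET : E ≤ T) :
    (Frat (E.subgroupOf T)).relIndex (E.subgroupOf T) = (frattini E).index := by
  have h1 : (Frat (E.subgroupOf T)).relIndex (E.subgroupOf T) = (frattini (E.subgroupOf T)).index := by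
    unfold Frat Subgroup.relIndex
    congr 1
    ext x
    simp [Subgroup.mem_subgroupOf]
  rw [h1]
  have h2 : (frattini E) = (frattini (E.subgroupOf T)).map
      ((Subgroup.subgroupOfEquivOfLe hET : _ ≃* E) : _ →* E) := by
    ext x
    constructor
    · intro hx
      refine ⟨(Subgroup.subgroupOfEquivOfLe hET).symm x, ?_, by simp⟩
      exact (frattini_equiv (Subgroup.subgroupOfEquivOfLe hET).symm x).2 hx
    · rintro ⟨a, ha, rfl⟩
      exact (frattini_equiv _ a).2 ha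
  rw [h2, Subgroup.index_map_equiv]

/-- conjugation action on `T` of an element normalizing `T`. -/
def conjOn {T : Subgroup Ω} {g : Ω} (hg : g ∈ Subgroup.normalizer (T : Set Ω)) : MulAut T where
  toFun z := ⟨g * z * g⁻¹, (Subgroup.mem_normalizer_iff.1 hg z).1 z.2⟩
  invFun z := ⟨g⁻¹ * z * g, by
    have := (Subgroup.mem_normalizer_iff.1 hg (g⁻¹ * z * g))
    apply this.2
    have h2 : g * (g⁻¹ * (z : Ω) * g) * g⁻¹ = z := by group
    rw [h2]
    exact z.2⟩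
  left_inv z := by
    apply Subtype.ext
    show g⁻¹ * (g * (z : Ω) * g⁻¹) * g = z
    group
  right_inv z := by
    apply Subtype.ext
    show g * (g⁻¹ * (z : Ω) * g) * g⁻¹ = z
    group
  map_mul' a b := by
    apply Subtype.ext
    show g * ((a : Ω) * b) * g⁻¹ = g * (a : Ω) * g⁻¹ * (g * (b : Ω) * g⁻¹)
    group

theorem conjOn_apply {T : Subgroup Ω} {g : Ω} (hg : g ∈ Subgroup.normalizer (T : Set Ω)) (z : T) :
    ((conjOn hg z : T) : Ω) = g * z * g⁻¹ := rfl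

theorem mem_autInduced {S T : Subgroup Ω} {π : MulAut T} (hπ : π ∈ autInducedBy S T) :
    ∃ h ∈ S ⊓ Subgroup.normalizer (T : Set Ω), ∀ x : T, ((π x : T) : Ω) = h * x * h⁻¹ := by
  unfold autInducedBy at hπ
  induction hπ using Subgroup.closure_induction with
  | mem α hα =>
    obtain ⟨g, hg, hα⟩ := hα
    refine ⟨g, ⟨hg, ?_⟩, hα⟩
    refine Subgroup.mem_normalizer_iff.2 fun x => ⟨fun hx => ?_, fun hx => ?_⟩
    · have := hα ⟨x, hx⟩
      simp only at this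
      rw [← this]
      exact (α ⟨x, hx⟩).2
    · set y : T := α.symm ⟨g * x * g⁻¹, hx⟩ with hy
      have h1 := hα y
      have h2 : α y = ⟨g * x * g⁻¹, hx⟩ := by simp [hy]
      rw [h2] at h1
      simp only at h1
      have : x = (y : Ω) := by
        have := mul_left_cancel (a := g) (mul_right_cancel h1)
        exact this
      show x ∈ T
      rw [this]
      exact y.2
  | one => exact ⟨1, one_mem _, by simp⟩
  | mul a b _ _ ha hb =>
    obtain ⟨g1, hg1, h1⟩ := ha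
    obtain ⟨g2, hg2, h2⟩ := hb
    refine ⟨g1 * g2, mul_mem hg1 hg2, fun x => ?_⟩
    show (((a (b x)) : T) : Ω) = _
    rw [h1, h2]
    group
  | inv a _ ha =>
    obtain ⟨g1, hg1, h1⟩ := ha
    refine ⟨g1⁻¹, inv_mem hg1, fun x => ?_⟩
    have := h1 (a⁻¹ x)
    have h3 : a (a⁻¹ x) = x := by
      show (a * a⁻¹) x = x
      simp
    rw [h3] at this
    rw [this]
    group

theorem conjOn_mem {S T : Subgroup Ω} {g : Ω} (hgS : g ∈ S) (hg : g ∈ Subgroup.normalizer (T : Set Ω)) :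
    conjOn hg ∈ autInducedBy S T :=
  Subgroup.subset_closure ⟨g, hgS, fun _ => rfl⟩

theorem conj_mem_autInduced {S T : Subgroup Ω} (hTS : T ≤ S) (τ : T) :
    MulAut.conj τ ∈ autInducedBy S T :=
  Subgroup.subset_closure ⟨τ, hTS τ.2, fun _ => rfl⟩

theorem autInduced_le {S T : Subgroup Ω} (F : FusionSystem S) (hTS : T ≤ S) :
    autInducedBy S T ≤ F.autGroup T := by
  unfold autInducedBy FusionSystem.autGroup
  rw [Subgroup.closure_le]
  rintro α ⟨g, hg, hα⟩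
  apply Subgroup.subset_closure
  have : T.subtype.comp α.toMonoidHom = conjHom T g := by
    ext x
    exact hα x
  show T.subtype.comp α.toMonoidHom ∈ F.Hom T
  rw [this]
  exact F.conj_mem hTS hg

theorem normalizer_of_map_eq {E T : Subgroup Ω} (hET : E ≤ T) {π : MulAut T} {g : Ω}
    (h : ∀ x : T, ((π x : T) : Ω) = g * x * g⁻¹)
    (hm : (E.subgroupOf T).map π.toMonoidHom = E.subgroupOf T) :
    g ∈ Subgroup.normalizer (E : Set Ω) := by
  refine Subgroup.mem_normalizer_iff.2 fun x => ⟨fun hx => ?_, fun hx => ?_⟩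
  · have hxT : x ∈ T := hET hx
    have h1 : π ⟨x, hxT⟩ ∈ (E.subgroupOf T).map π.toMonoidHom :=
      ⟨⟨x, hxT⟩, Subgroup.mem_subgroupOf.2 hx, rfl⟩
    rw [hm] at h1
    have h2 := Subgroup.mem_subgroupOf.1 h1
    rw [h] at h2
    exact h2
  · have hz : g * x * g⁻¹ ∈ E := hx
    have hzT : g * x * g⁻¹ ∈ T := hET hz
    have h1 : (⟨g * x * g⁻¹, hzT⟩ : T) ∈ (E.subgroupOf T).map π.toMonoidHom := by
      rw [hm]
      exact Subgroup.mem_subgroupOf.2 hz
    obtain ⟨a, ha, ha2⟩ := h1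
    have h3 : ((π a : T) : Ω) = g * x * g⁻¹ := by
      have := congrArg (Subtype.val) ha2
      exact this
    rw [h] at h3
    have h4 : (a : Ω) = x := mul_left_cancel (a := g) (mul_right_cancel h3)
    show x ∈ E
    rw [← h4]
    exact Subgroup.mem_subgroupOf.1 ha

theorem prank_equiv {A B : Type*} [Group A] [Group B] (e : A ≃* B) {p k : ℕ} (h : PRankLE p k B) :
    PRankLE p k A := by
  intro H hc hexp
  have := h (H.map e.toMonoidHom) ?_ ?_
  · rw [Subgroup.card_map_of_injective] at this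
    · exact this
    · exact e.injective
  · refine ⟨⟨?_⟩⟩
    rintro ⟨_, a, ha, rfl⟩ ⟨_, b, hb, rfl⟩
    apply Subtype.ext
    have := hc.is_comm.comm ⟨a, ha⟩ ⟨b, hb⟩
    have h2 : a * b = b * a := congrArg Subtype.val this
    show e a * e b = e b * e a
    rw [← map_mul, h2, map_mul]
  · rintro _ ⟨a, ha, rfl⟩
    show (e a) ^ p = 1
    rw [← map_pow, hexp a ha, map_one]

theorem sectional_equiv {A B : Type*} [Group A] [Group B] (e : A ≃* B) {p k : ℕ}
    (h : SectionalPRankLE p k B) : SectionalPRankLE p k A := by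
  intro H N _
  let e' : H ≃* (H.map e.toMonoidHom) := e.subgroupMap H
  let N' : Subgroup (H.map e.toMonoidHom) := N.map e'.toMonoidHom
  haveI : N'.Normal := Subgroup.Normal.map inferInstance _ e'.surjective
  have h1 := h (H.map e.toMonoidHom) N'
  exact prank_equiv (QuotientGroup.congr N N' e' rfl) h1


theorem frat_conj {T : Type*} [Group T] [Finite T] {E : Subgroup T} [hE : E.Normal] (τ : T) :
    (Frat E).map (MulAut.conj τ).toMonoidHom = Frat E := by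
  rw [← frat_map]
  congr 1
  ext x
  constructor
  · rintro ⟨a, ha, rfl⟩
    exact hE.conj_mem a ha τ
  · intro hx
    refine ⟨τ⁻¹ * x * τ, ?_, ?_⟩
    · have := hE.conj_mem x hx τ⁻¹
      simpa using this
    · show τ * (τ⁻¹ * x * τ) * τ⁻¹ = x
      group

/-- `E` is normal in `N_S(E)`. -/
theorem subgroupOf_normal {S E : Subgroup Ω} :
    (E.subgroupOf (S ⊓ Subgroup.normalizer (E : Set Ω))).Normal := by
  refine ⟨fun n hn c => ?_⟩
  rw [Subgroup.mem_subgroupOf] at hn ⊢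
  have := (Subgroup.mem_normalizer_iff.1 (Subgroup.mem_inf.1 c.2).2 n).1 hn
  exact this

theorem isConj_self {S P : Subgroup Ω} (F : FusionSystem S) (hP : P ≤ S) : F.IsConj P P := by
  refine ⟨conjHom P 1, F.conj_mem hP (one_mem _), ?_⟩
  ext x
  constructor
  · rintro ⟨a, rfl⟩
    have : conjHom P 1 a = (a : Ω) := by simp [conjHom]
    rw [this]
    exact a.2
  · intro hx
    exact ⟨⟨x, hx⟩, by simp [conjHom]⟩

theorem exists_g {S T : Subgroup Ω} [Finite S] {p : ℕ} [Fact p.Prime] (hS : IsPGroup p S) (hTS : T ≤ S)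
    (hne : ¬ S ≤ T) :
    ∃ g ∈ S ⊓ Subgroup.normalizer (T : Set Ω), g ∉ T ∧ g ^ p ∈ T := by
  haveI : Group.IsNilpotent S := hS.isNilpotent
  have hlt : T.subgroupOf S < ⊤ := by
    refine lt_top_iff_ne_top.2 fun h => hne ?_
    rwa [Subgroup.subgroupOf_eq_top] at h
  have hnc := Group.normalizerCondition_of_isNilpotent (G := S) (T.subgroupOf S) hlt
  obtain ⟨g₀, hg₀, hg₀'⟩ := SetLike.exists_of_lt hnc
  have hg₀N : (g₀ : Ω) ∈ Subgroup.normalizer (T : Set Ω) := by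
    refine Subgroup.mem_normalizer_iff.2 fun x => ?_
    constructor
    · intro hx
      have hx' : (⟨x, hTS hx⟩ : S) ∈ T.subgroupOf S := Subgroup.mem_subgroupOf.2 hx
      exact Subgroup.mem_subgroupOf.1 ((Subgroup.mem_normalizer_iff.1 hg₀ _).1 hx')
    · intro hx
      by_contra hxT
      have h1 : g₀.1 * x * g₀.1⁻¹ ∈ T := hx
      have hxS : x ∈ S := by
        have h2 : g₀.1 * x * g₀.1⁻¹ ∈ S := hTS h1
        have h3 : x = g₀.1⁻¹ * (g₀.1 * x * g₀.1⁻¹) * g₀.1 := by group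
        rw [h3]
        exact mul_mem (mul_mem (inv_mem g₀.2) h2) g₀.2
      have h4 := (Subgroup.mem_normalizer_iff.1 hg₀ (⟨x, hxS⟩ : S)).2
        (Subgroup.mem_subgroupOf.2 h1)
      exact hxT (Subgroup.mem_subgroupOf.1 h4)
  have hg₀T : (g₀ : Ω) ∉ T := fun h => hg₀' (Subgroup.mem_subgroupOf.2 h)
  obtain ⟨k, hk⟩ := (IsPGroup.iff_orderOf.1 hS) g₀
  have hfin : g₀ ^ (p ^ k) = 1 := by rw [← hk]; exact pow_orderOf_eq_one g₀
  have hex : ∃ n : ℕ, (g₀ : Ω) ^ (p ^ n) ∈ T := ⟨k, by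
    have := congrArg Subtype.val hfin
    simp only [Subgroup.coe_pow, Subgroup.coe_one] at this
    rw [this]; exact one_mem _⟩
  classical
  have hn0 : Nat.find hex ≠ 0 := by
    intro h0
    have := Nat.find_spec hex
    rw [h0] at this
    simp only [pow_zero, pow_one] at this
    exact hg₀T this
  obtain ⟨j, hj⟩ := Nat.exists_eq_succ_of_ne_zero hn0
  refine ⟨(g₀ : Ω) ^ (p ^ j), ⟨?_, ?_⟩, ?_, ?_⟩
  · exact pow_mem g₀.2 _
  · exact pow_mem hg₀N _
  · exact Nat.find_min hex (by omega)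
  · have := Nat.find_spec hex
    rw [hj, pow_succ, pow_mul] at this
    exact this

end Aux

theorem result {Ω : Type u} [Group Ω] {S : Subgroup Ω} [Finite S] (p : ℕ) [Fact p.Prime] (hp : 5 ≤ p) (hS : IsPGroup p S) (hsr : Cfsg.SectionalPRankLE p 3 ↥S ∧ ¬ Cfsg.SectionalPRankLE p 2 ↥S)
    (F : Cfsg.FusionSystem S) (hF : F.IsSaturated p) (E : Subgroup Ω) (hE : F.IsEssential p E)
    (hrk : (frattini ↥E).index = p ^ 3) : S ≤ Subgroup.normalizer (E : Set Ω) := by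
  by_contra hn0
  obtain ⟨E', hE', hrk', hn', hFA, hRec⟩ := exists_good_conj hS hF hE hrk hn0
  clear hn0 hE hrk E
  rename' E' => E, hE' => hE, hrk' => hrk, hn' => hn
  have hES : E ≤ S := hE.1.1
  -- `T = N_S(E)`
  set T : Subgroup Ω := S ⊓ Subgroup.normalizer (E : Set Ω) with hTdef
  have hTS : T ≤ S := inf_le_left
  have hET : E ≤ T := le_inf hES Subgroup.le_normalizer
  haveI : Finite T := Finite.of_injective (Subgroup.inclusion hTS) (Subgroup.inclusion_injective hTS)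
  have hST : ¬ S ≤ T := fun h => hn (h.trans inf_le_right)
  have hT : IsPGroup p T := hS.to_le hTS
  set E₀ : Subgroup T := E.subgroupOf T with hE₀
  have hEi : E₀.index = p := index_eq_p hp hS hF hE hrk
  have hrk₀ : (Frat E₀).relIndex E₀ = p ^ 3 := by rw [hE₀, relIndex_frat hET, hrk]
  haveI hE₀n : E₀.Normal := subgroupOf_normal
  have hsrT : SectionalPRankLE p 3 T := by
    have h1 := sectional_mono hsr.1 (T.subgroupOf S)
    exact sectional_equiv (Subgroup.subgroupOfEquivOfLe hTS).symm h1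
  -- the elements `t`, `g`
  obtain ⟨t, ht, htE⟩ : ∃ t ∈ T, t ∉ E := by
    by_contra hcon
    push Not at hcon
    have : E₀ = ⊤ := by
      ext x
      simp only [Subgroup.mem_top, iff_true]
      exact Subgroup.mem_subgroupOf.2 (hcon x x.2)
    rw [this, Subgroup.index_top] at hEi
    have := (Fact.out : p.Prime).one_lt
    omega
  obtain ⟨g, hg, hgT, hgp⟩ := exists_g hS hTS hST
  have hgS : g ∈ S := (Subgroup.mem_inf.1 hg).1
  have hgN : g ∈ Subgroup.normalizer (T : Set Ω) := (Subgroup.mem_inf.1 hg).2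
  set σ : MulAut T := conjOn hgN with hσdef
  have hσ : E₀.map σ.toMonoidHom ≠ E₀ := by
    intro h
    exact hgT (Subgroup.mem_inf.2 ⟨hgS, normalizer_of_map_eq hET (fun x => rfl) h⟩)
  have hσpow : ∀ k : ℕ, ∀ x : T, (((σ ^ k) x : T) : Ω) = g ^ k * x * (g ^ k)⁻¹ := by
    intro k
    induction k with
    | zero => intro x; simp
    | succ k ih =>
      intro x
      rw [pow_succ]
      show (((σ ^ k) (σ x) : T) : Ω) = _
      rw [ih, conjOn_apply]
      group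
  have hσp : σ ^ p = MulAut.conj (⟨g ^ p, hgp⟩ : T) := by
    ext x
    rw [hσpow]
    rfl
  have hsrN : SectionalPRankLE p 3 ↥(S ⊓ Subgroup.normalizer (T : Set Ω)) := by
    have hNS : S ⊓ Subgroup.normalizer (T : Set Ω) ≤ S := inf_le_left
    have h1 := sectional_mono hsr.1 ((S ⊓ Subgroup.normalizer (T : Set Ω)).subgroupOf S)
    exact sectional_equiv (Subgroup.subgroupOfEquivOfLe hNS).symm h1
  by_cases hJ : ∀ x ∈ E, ⁅⁅x, t⁆, t⁆ ∈ (frattini E).map E.subtype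
  · -- transvection case
    obtain ⟨l, y, w, ah, as', lam, lam', hat, hTv, hhatF⟩ := exists_Tv hp hS hF hE hrk ht htE hJ
    have hhat : hat ∈ F.autGroup T := Subgroup.subset_closure hhatF
    have hle := autInduced_le F hTS
    have hinn : ∀ τ : T, MulAut.conj τ ∈ autInducedBy S T := conj_mem_autInduced hTS
    have hfix : ∀ π ∈ autInducedBy S T, E₀.map (π : MulAut T).toMonoidHom = E₀ →
        ∃ τ : T, π = MulAut.conj τ := by
      intro π hπ hm
      obtain ⟨h, hh, hπ'⟩ := mem_autInduced hπ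
      have hhE := normalizer_of_map_eq hET hπ' hm
      refine ⟨⟨h, Subgroup.mem_inf.2 ⟨(Subgroup.mem_inf.1 hh).1, hhE⟩⟩, ?_⟩
      ext x
      exact hπ' x
    have hσPP : σ ∈ autInducedBy S T := conjOn_mem hgS hgN
    obtain ⟨ρ₀, τ', τ₀, u, s, ν, el, hρ₀, hρσ, hσp', hall, hσΦ, hρΦ, hcen, hσu, hσs, hσw, hgen, hind,
      hρl, hρw, hν1, hν2⟩ :=
      exists_rho_disp hTv hp hT hsrT (F.autGroup T) (autInducedBy S T) hhat hle hFA.2 hinn hfix σ hσPP hσ
    have hnorm : ∀ g₁ ∈ S ⊓ Subgroup.normalizer (T : Set Ω), ∃ g' ∈ S ⊓ Subgroup.normalizer (T : Set Ω),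
        ∀ z z' : T, (z' : Ω) = g₁ * z * g₁⁻¹ → ((ρ₀ z' : T) : Ω) = g' * (ρ₀ z : Ω) * g'⁻¹ := by
      intro g₁ hg₁
      have hπ₁ : conjOn (Subgroup.mem_inf.1 hg₁).2 ∈ autInducedBy S T :=
        conjOn_mem (Subgroup.mem_inf.1 hg₁).1 _
      obtain ⟨k, τ, hkτ⟩ := hall _ hπ₁
      have hmem : ρ₀ * conjOn (Subgroup.mem_inf.1 hg₁).2 * ρ₀⁻¹ ∈ autInducedBy S T := by
        rw [hkτ]
        have h1 : ρ₀ * (σ ^ k * MulAut.conj τ) * ρ₀⁻¹ =
            (ρ₀ * σ * ρ₀⁻¹) ^ k * (ρ₀ * MulAut.conj τ * ρ₀⁻¹) := by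
          rw [conj_pow]; simp [mul_assoc]
        have h2 : ρ₀ * MulAut.conj τ * ρ₀⁻¹ = MulAut.conj (ρ₀ τ) := by
          ext x
          simp [MulAut.mul_apply, MulAut.conj_apply, map_mul]
        rw [h1, h2, hρσ]
        exact mul_mem (pow_mem (mul_mem (pow_mem hσPP _) (hinn _)) _) (hinn _)
      obtain ⟨g', hg', hc⟩ := mem_autInduced hmem
      refine ⟨g', hg', fun z z' hz => ?_⟩
      have h4 := hc (ρ₀ z)
      have h5 : conjOn (Subgroup.mem_inf.1 hg₁).2 z = z' := Subtype.ext hz.symm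
      have h3 : (ρ₀ * conjOn (Subgroup.mem_inf.1 hg₁).2 * ρ₀⁻¹) (ρ₀ z) = ρ₀ z' := by
        simp [MulAut.mul_apply, h5]
      rw [h3] at h4
      exact h4
    -- the group `N = N_S(T)`
    set N : Subgroup Ω := S ⊓ Subgroup.normalizer (T : Set Ω) with hN
    obtain ⟨ρ, hρ⟩ := extend_rho hS hF hRec ρ₀ hρ₀ hnorm
    have hTN : T ≤ N := le_inf hTS Subgroup.le_normalizer
    haveI : Finite N := Finite.of_injective (Subgroup.inclusion (inf_le_left : N ≤ S))
      (Subgroup.inclusion_injective _)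
    let I : T →* N := Subgroup.inclusion hTN
    have hI : Function.Injective I := Subgroup.inclusion_injective hTN
    let T' : Subgroup N := T.subgroupOf N
    let Φ : Subgroup N := (Frat E₀).map I
    have hIF : ∀ z : T, I z ∈ Φ ↔ z ∈ Frat E₀ := by
      intro z
      constructor
      · rintro ⟨a, ha, h⟩
        rwa [← hI h]
      · intro hz
        exact ⟨z, hz, rfl⟩
    have hIT : ∀ z : T, I z ∈ T' := fun z => Subgroup.mem_subgroupOf.2 z.2
    have hT'I : ∀ z ∈ T', ∃ z₀ : T, I z₀ = z := fun z hz =>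
      ⟨⟨z, Subgroup.mem_subgroupOf.1 hz⟩, Subtype.ext rfl⟩
    have hNp : IsPGroup p N := hS.to_le inf_le_left
    have hT'n : T'.Normal := by
      refine ⟨fun n hn c => Subgroup.mem_subgroupOf.2 ?_⟩
      exact (Subgroup.mem_normalizer_iff.1 (Subgroup.mem_inf.1 c.2).2 n).1 (Subgroup.mem_subgroupOf.1 hn)
    -- invariance of `Φ(E)`
    have hσmem : ∀ z ∈ Frat E₀, σ z ∈ Frat E₀ := fun z hz => by
      rw [← hσΦ]; exact ⟨z, hz, rfl⟩
    have hσpowmem : ∀ k : ℕ, ∀ z ∈ Frat E₀, (σ ^ k) z ∈ Frat E₀ := by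
      intro k
      induction k with
      | zero => intro z hz; simpa using hz
      | succ k ih =>
        intro z hz
        rw [pow_succ]
        exact ih _ (hσmem z hz)
    have hconjmem : ∀ (τ : T), ∀ z ∈ Frat E₀, MulAut.conj τ z ∈ Frat E₀ := fun τ z hz => by
      rw [← frat_conj (E := E₀) τ]; exact ⟨z, hz, rfl⟩
    have hPPmem : ∀ π ∈ autInducedBy S T, ∀ z ∈ Frat E₀, π z ∈ Frat E₀ := by
      intro π hπ z hz
      obtain ⟨k, τ, rfl⟩ := hall π hπ
      exact hσpowmem k _ (hconjmem τ z hz)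
    have hΦn : Φ.Normal := by
      refine ⟨fun n hn c => ?_⟩
      obtain ⟨a, ha, rfl⟩ := hn
      have h1 := hPPmem _ (conjOn_mem (Subgroup.mem_inf.1 c.2).1 (Subgroup.mem_inf.1 c.2).2) a ha
      exact ⟨_, h1, Subtype.ext rfl⟩
    have hΦT : Φ ≤ T' := by
      rintro _ ⟨a, _, rfl⟩
      exact hIT a
    have hρI : ∀ z : T, ρ (I z) = I (ρ₀ z) := fun z => Subtype.ext (hρ z _)
    have hgI : ∀ z : T, (⟨g, hg⟩ : N) * I z * (⟨g, hg⟩ : N)⁻¹ = I (σ z) := fun z => Subtype.ext rfl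
    have hsup1 : Φ ⊔ Subgroup.zpowers (I ⁅u, s⁆) = (Frat E₀ ⊔ Subgroup.zpowers ⁅u, s⁆).map I := by
      rw [Subgroup.map_sup, MonoidHom.map_zpowers]
    have hsup2 : Φ ⊔ (Subgroup.zpowers (I ⁅u, s⁆) ⊔ Subgroup.zpowers (I w)) =
        (Frat E₀ ⊔ (Subgroup.zpowers ⁅u, s⁆ ⊔ Subgroup.zpowers w)).map I := by
      rw [Subgroup.map_sup, Subgroup.map_sup, MonoidHom.map_zpowers, MonoidHom.map_zpowers]
    have hρT : T'.map ρ.toMonoidHom = T' := by
      ext x
      constructor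
      · rintro ⟨a, ha, rfl⟩
        obtain ⟨a₀, rfl⟩ := hT'I a ha
        show ρ (I a₀) ∈ T'
        rw [hρI]
        exact hIT _
      · intro hx
        obtain ⟨x₀, rfl⟩ := hT'I x hx
        refine ⟨I (ρ₀⁻¹ x₀), hIT _, ?_⟩
        show ρ (I (ρ₀⁻¹ x₀)) = _
        rw [hρI]
        simp
    have hρΦ' : Φ.map ρ.toMonoidHom = Φ := by
      ext x
      constructor
      · rintro ⟨_, ⟨a, ha, rfl⟩, rfl⟩
        show ρ (I a) ∈ Φ
        rw [hρI, hIF, ← hρΦ]
        exact ⟨a, ha, rfl⟩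
      · rintro ⟨a, ha, rfl⟩
        have ha' := ha
        rw [← hρΦ] at ha'
        obtain ⟨b, hb, rfl⟩ := ha'
        exact ⟨I b, ⟨b, hb, rfl⟩, hρI b⟩
    have hρg : ρ (⟨g, hg⟩ : N) * ((⟨g, hg⟩ : N) ^ ν)⁻¹ ∈ T' := by
      set h : N := ρ (⟨g, hg⟩ : N) with hh
      have hact : ∀ z : T, h * I z * h⁻¹ = I ((σ ^ ν * MulAut.conj τ') z) := by
        intro z
        have h1 : ρ₀ (ρ₀⁻¹ z) = z := by simp
        have h2 := congrArg ρ (hgI (ρ₀⁻¹ z))
        rw [map_mul, map_mul, map_inv, hρI, hρI, h1, ← hh] at h2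
        rw [h2, ← hρσ]
        rfl
      set c : Ω := (g ^ ν * (τ' : Ω))⁻¹ * (h : Ω) with hc
      have hcS : c ∈ S := by
        refine mul_mem (inv_mem (mul_mem (pow_mem hgS _) (hTS τ'.2))) (Subgroup.mem_inf.1 h.2).1
      have hcC : c ∈ Subgroup.centralizer (E : Set Ω) := by
        refine Subgroup.mem_centralizer_iff.2 fun z hz => ?_
        have hzT : z ∈ T := hET hz
        have h1 := congrArg Subtype.val (hact ⟨z, hzT⟩)
        have h2 : (h : Ω) * z * (h : Ω)⁻¹ = g ^ ν * ((τ' : Ω) * z * (τ' : Ω)⁻¹) * (g ^ ν)⁻¹ := by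
          refine h1.trans ?_
          show (((σ ^ ν) (MulAut.conj τ' ⟨z, hzT⟩) : T) : Ω) = _
          rw [hσpow]
          rfl
        have h3 : (h : Ω) * z = g ^ ν * (τ' : Ω) * z * (g ^ ν * (τ' : Ω))⁻¹ * (h : Ω) := by
          have : (h : Ω) * z = ((h : Ω) * z * (h : Ω)⁻¹) * (h : Ω) := by group
          rw [this, h2]
          group
        rw [hc]
        have h4 : z * ((g ^ ν * (τ' : Ω))⁻¹ * (h : Ω)) = (g ^ ν * (τ' : Ω))⁻¹ * (g ^ ν * (τ' : Ω) * z * (g ^ ν * (τ' : Ω))⁻¹ * (h : Ω)) := by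
          group
        rw [h4, ← h3]
        group
      have hcE : c ∈ E := hE.1.2 E (isConj_self F hES) ⟨hcS, hcC⟩
      have hcT : c ∈ T := hET hcE
      apply Subgroup.mem_subgroupOf.2
      have h5 : ((h * ((⟨g, hg⟩ : N) ^ ν)⁻¹ : N) : Ω) =
          g ^ ν * ((τ' : Ω) * c) * (g ^ ν)⁻¹ := by
        rw [hc]
        simp only [Subgroup.coe_mul, Subgroup.coe_inv, Subgroup.coe_pow]
        group
      rw [h5]
      exact (Subgroup.mem_normalizer_iff.1 (pow_mem hgN ν) _).1 (mul_mem τ'.2 hcT)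
    refine final_rank4 (N := N) (T := T') (Φ := Φ) hp hNp hT'n hΦn hΦT (g := ⟨g, hg⟩) (y := I u) (t := I s)
      (l := I ⁅u, s⁆) (w := I w) (fun h => hgT (Subgroup.mem_subgroupOf.1 h))
      (Subgroup.mem_subgroupOf.2 (by simpa using hgp)) (hIT _) (hIT _) (hIT _) (hIT _)
      (map_commutatorElement I u s) ?_ ?_ ?_ ?_ ?_ ?_ ?_ ?_ ρ hρT hρΦ' ν el hρg ?_ ?_ hν1 hν2 hsrN
    · intro z hz
      obtain ⟨z₀, rfl⟩ := hT'I z hz
      rw [← map_commutatorElement, hIF]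
      exact hcen z₀
    · intro z hz
      obtain ⟨z₀, rfl⟩ := hT'I z hz
      rw [← map_commutatorElement, hIF]
      exact (hTv.central hp hT z₀).2
    · intro z hz
      obtain ⟨z₀, rfl⟩ := hT'I z hz
      rw [← map_pow, hIF]
      exact hTv.pow_mem hp hT z₀
    · intro z hz
      obtain ⟨z₀, rfl⟩ := hT'I z hz
      obtain ⟨a, b, c, d, h⟩ := hgen z₀
      refine ⟨a, b, c, d, ?_⟩
      have := (hIF _).2 h
      simpa only [map_mul, map_inv, map_pow] using this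
    · intro a b c d h
      apply hind
      rw [← hIF]
      simpa only [map_mul, map_pow] using h
    · have h1 : I (σ u * (u * s)⁻¹) ∈ Φ ⊔ (Subgroup.zpowers (I ⁅u, s⁆) ⊔ Subgroup.zpowers (I w)) := by
        rw [hsup2]
        exact Subgroup.mem_map_of_mem I hσu
      rw [hgI]
      simpa only [map_mul, map_inv] using h1
    · have h1 : I (σ s * s⁻¹) ∈ Φ ⊔ Subgroup.zpowers (I ⁅u, s⁆) := by
        rw [hsup1]
        exact Subgroup.mem_map_of_mem I hσs
      rw [hgI]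
      simpa only [map_mul, map_inv] using h1
    · have h1 : I (σ w * w⁻¹) ∈ Φ ⊔ Subgroup.zpowers (I ⁅u, s⁆) := by
        rw [hsup1]
        exact Subgroup.mem_map_of_mem I hσw
      rw [hgI]
      simpa only [map_mul, map_inv] using h1
    · rw [hρI, ← map_pow, ← map_inv, ← map_mul, hIF]
      exact hρl
    · rw [hρI, ← map_inv, ← map_mul, hIF]
      exact hρw
  · -- `J₃` case
    push Not at hJ
    obtain ⟨x₀, hx₀, hJx⟩ := hJ
    have hJ₀ : ⁅⁅(⟨x₀, hET hx₀⟩ : T), (⟨t, ht⟩ : T)⁆, (⟨t, ht⟩ : T)⁆ ∉ Frat E₀ := by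
      rw [hE₀, mem_frat_iff hET]
      exact hJx
    obtain ⟨x, t', Ψ, hΨn, hΨ, hΨ2, hx, ht', hJ', h1, h2⟩ := caseJ_T hp hT hsrT hEi hrk₀ hσ hσp
      (x₀ := ⟨x₀, hET hx₀⟩) (t₀ := ⟨t, ht⟩) (Subgroup.mem_subgroupOf.2 hx₀)
      (fun h => htE (Subgroup.mem_subgroupOf.1 h)) hJ₀
    let e : E₀ ≃* E := Subgroup.subgroupOfEquivOfLe hET
    have he : ∀ z : E₀, ((e z : E) : Ω) = ((z : T) : Ω) := fun _ => rfl
    let A : Set (MulAut E₀) := {a | ∃ α ∈ F.autGroup E, a = e.trans (MulEquiv.trans α e.symm)}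
    have hJ'' : ⁅⁅(x : Ω), (t' : Ω)⁆, (t' : Ω)⁆ ∉ (frattini E).map E.subtype := by
      intro h
      apply hJ'
      rw [hE₀, mem_frat_iff hET]
      exact h
    have hirr : ∀ M : Subgroup T, Frat E₀ ≤ M → M ≤ E₀ →
        (∀ a ∈ A, ∀ z : E₀, (z : T) ∈ M → ((a z : E₀) : T) ∈ M) → M = Frat E₀ ∨ M = E₀ := by
      intro M hM1 hM2 hM3
      let M' : Subgroup E := (M.map T.subtype).subgroupOf E
      have hmemM' : ∀ z : E, z ∈ M' ↔ (⟨z, hET z.2⟩ : T) ∈ M := by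
        intro z
        rw [Subgroup.mem_subgroupOf]
        constructor
        · rintro ⟨m, hm, hmz⟩
          have : m = ⟨z, hET z.2⟩ := Subtype.ext hmz
          rwa [← this]
        · intro hz
          exact ⟨_, hz, rfl⟩
      have hfr : ∀ z : E, z ∈ frattini E ↔ (⟨z, hET z.2⟩ : T) ∈ Frat E₀ := by
        intro z
        rw [hE₀, mem_frat_iff hET]
        constructor
        · intro hz
          exact ⟨z, hz, rfl⟩
        · rintro ⟨a, ha, h⟩
          have : a = z := Subtype.ext h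
          rwa [← this]
      have hM' : frattini E ≤ M' := fun z hz => (hmemM' z).2 (hM1 ((hfr z).1 hz))
      have hinv : ∀ a ∈ F.autGroup E, ∀ z : E, z ∈ M' → a z ∈ M' := by
        intro α hα z hz
        have hz' := (hmemM' z).1 hz
        have hz₀ : (⟨z, hET z.2⟩ : T) ∈ E₀ := hM2 hz'
        have h3 := hM3 (e.trans (MulEquiv.trans α e.symm)) ⟨α, hα, rfl⟩ ⟨⟨z, hET z.2⟩, hz₀⟩ hz'
        rw [hmemM']
        exact h3
      rcases irr_of_J3 hp hS hF hE hrk (t := (t' : Ω)) (x := (x : Ω)) t'.2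
        (fun h => ht' (Subgroup.mem_subgroupOf.2 h)) (Subgroup.mem_subgroupOf.1 hx) hJ'' M' hM' hinv with h3 | h3
      · left
        refine le_antisymm (fun m hm => ?_) hM1
        have hmE : (m : Ω) ∈ E := Subgroup.mem_subgroupOf.1 (hM2 hm)
        have h4 : (⟨m, hmE⟩ : E) ∈ M' := (hmemM' _).2 hm
        rw [h3] at h4
        exact (hfr _).1 h4
      · right
        refine le_antisymm hM2 (fun m hm => ?_)
        have hmE : (m : Ω) ∈ E := Subgroup.mem_subgroupOf.1 hm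
        have h4 : (⟨m, hmE⟩ : E) ∈ M' := by rw [h3]; trivial
        exact (hmemM' _).1 h4
    exact caseJ_E hp hT hsrT hEi hrk₀ A hirr hΨn hΨ hΨ2 hx ht' hJ' h1 h2

end Cfsg.Agent.S5180
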