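import Cfsg.Statements.S5185
import Mathlib
import Cfsg.Agent.Lib.Fusion.EssentialSmall
import Cfsg.Agent.Lib.Fusion.EssentialPlane
import Cfsg.Agent.Lib.PGroup.FFSL2
-- import your own Cfsg.Agent.* helpers here

set_option autoImplicit false
universe u
open Cfsg

namespace Cfsg.Agent.S5185


open Cfsg.FusionSystem Cfsg.Agent.Lib.Fusion.Basic Cfsg.Agent.Lib.Fusion.EssentialSmall Cfsg.Agent.Lib.Fusion.EssentialPlane

/-- Let F be a saturated fusion system over a finite p-group S and H an essential subgroup of order p². Then H is elementary abelian (isomorphic to C_p × C_p) and its F-automorphism group contains a subgroup isomorphic to SL(2,p). -/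
theorem result {Ω : Type u} [Group Ω] {S : Subgroup Ω} [Finite S] (p : ℕ) [Fact p.Prime] (hS : IsPGroup p S)
    (F : Cfsg.FusionSystem S) (hF : F.IsSaturated p) (H : Subgroup Ω) (hH : F.IsEssential p H) (hcard : Nat.card H = p ^ 2) :
    Cfsg.IsElementaryAbelian p H ∧
      ∃ K : Subgroup ↥(F.autGroup H), Nonempty (↥K ≃* Matrix.SpecialLinearGroup (Fin 2) (ZMod p)) := by
  classical
  have hpp : p.Prime := Fact.out
  have hHS : H ≤ S := hH.1.1
  haveI hfH : Finite H := finite_of_le hHS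
  have hcomm : ∀ a b : H, a * b = b * a := IsPGroup.commutative_of_card_eq_prime_sq hcard
  obtain ⟨u, hu, huk, hnin⟩ := exists_pElt_not_inn hH
  have hu1 : u ≠ 1 := fun h => hnin (h ▸ one_mem _)
  -- a conjugate outside `zpowers u`
  obtain ⟨g, hg, hgu⟩ : ∃ g ∈ F.autGroup H, g * u * g⁻¹ ∉ Subgroup.zpowers u := by
    by_contra hcon
    push Not at hcon
    let N : Subgroup (F.autGroup H) := Subgroup.zpowers ⟨u, hu⟩
    have hNn : N.Normal := by
      refine ⟨fun n hn a => ?_⟩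
      obtain ⟨i, rfl⟩ := Subgroup.mem_zpowers_iff.1 hn
      obtain ⟨j, hj⟩ := hcon a a.2
      refine Subgroup.mem_zpowers_iff.2 ⟨j * i, ?_⟩
      have e1 : (⟨u, hu⟩ : F.autGroup H) ^ j = a * ⟨u, hu⟩ * a⁻¹ := by
        apply Subtype.ext
        exact hj
      rw [zpow_mul, e1, conj_zpow]
    have hNp : IsPGroup p N := by
      obtain ⟨k, hk⟩ := huk
      rintro ⟨y, hy⟩
      obtain ⟨i, rfl⟩ := Subgroup.mem_zpowers_iff.1 hy
      refine ⟨k, Subtype.ext ?_⟩
      have e1 : (⟨u, hu⟩ : F.autGroup H) ^ p ^ k = 1 := Subtype.ext hk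
      show (((⟨u, hu⟩ : F.autGroup H)) ^ i) ^ p ^ k = 1
      rw [← zpow_natCast, ← zpow_mul, mul_comm, zpow_mul, zpow_natCast, e1, one_zpow]
    exact hnin (Cfsg.Agent.Lib.Fusion.Resist.Local.mem_inn_of_normal_of_essential hH hNn hNp
      (Subgroup.mem_zpowers _))
  have hv1 : g * u * g⁻¹ ≠ 1 := by
    intro h
    apply hu1
    have : u = g⁻¹ * (g * u * g⁻¹) * g := by group
    rw [this, h]
    group
  have hvk : ∃ k : ℕ, (g * u * g⁻¹) ^ p ^ k = 1 := by
    obtain ⟨k, hk⟩ := huk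
    exact ⟨k, by rw [conj_pow, hk]; group⟩
  -- elementary
  have hexp : ∀ x : H, x ^ p = 1 := by
    intro x
    by_contra hx
    have hdvd : orderOf x ∣ p ^ 2 := hcard ▸ orderOf_dvd_natCard x
    obtain ⟨j, hj, hjx⟩ := (Nat.dvd_prime_pow hpp).1 hdvd
    have horder : orderOf x = p ^ 2 := by
      have hj2 : j = 2 := by
        by_contra hne
        have hj1 : j ≤ 1 := by omega
        apply hx
        have h1 : orderOf x ∣ p := by
          rw [hjx]
          exact (pow_dvd_pow p hj1).trans (by rw [pow_one])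
        exact orderOf_dvd_iff_pow_eq_one.1 h1
      rw [hjx, hj2]
    haveI hcyc : IsCyclic H := isCyclic_of_orderOf_eq_card x (horder.trans hcard.symm)
    apply hgu
    have h1 : g * u * g⁻¹ = u := by
      apply (IsCyclic.mulAutMulEquiv H).injective
      rw [map_mul, map_mul, map_inv, mul_comm (IsCyclic.mulAutMulEquiv H g)]
      simp
    rw [h1]
    exact Subgroup.mem_zpowers u
  refine ⟨⟨⟨⟨hcomm⟩⟩, fun a ha => ?_⟩, ?_⟩
  · have h1 := hexp ⟨a, ha⟩
    exact congrArg (fun t : H => (t : Ω)) h1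
  obtain ⟨z₁, z₂, m, n, hz₁, hz₂, hind, hu₁, hu₂, hv₂, hv₁, hfaith⟩ :=
    exists_plane hcomm hexp hcard huk hvk hu1 hv1 hgu
  let A' := F.autGroup H
  let G := SemidirectProduct H A' A'.subtype
  let c₁ : A' := ⟨u ^ m, Subgroup.pow_mem _ hu m⟩
  let c₂ : A' := ⟨(g * u * g⁻¹) ^ n, Subgroup.pow_mem _ (Subgroup.mul_mem _ (Subgroup.mul_mem _ hg hu) (Subgroup.inv_mem _ hg)) n⟩
  let inl' : H →* G := SemidirectProduct.inl
  let inr' : A' →* G := SemidirectProduct.inr
  have key : ∀ (c : A') (z : H), inr' c * inl' z * (inr' c)⁻¹ = inl' ((c : MulAut H) z) := by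
    intro c z
    rw [← map_inv]
    exact (SemidirectProduct.inl_aut (φ := A'.subtype) c z).symm
  have hinl : Function.Injective inl' := SemidirectProduct.inl_injective
  have hinr : Function.Injective inr' := SemidirectProduct.inr_injective
  have hP : Cfsg.Agent.Lib.PGroup.FFSL2.Plane p (inl' z₁) (inl' z₂) := by
    refine ⟨by rw [← map_pow, hexp, map_one], by rw [← map_pow, hexp, map_one], ?_, ?_, ?_, ?_⟩
    · rw [← map_mul, ← map_mul, hcomm]
    · exact fun h => hz₁ (hinl (h.trans (map_one inl').symm))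
    · exact fun h => hz₂ (hinl (h.trans (map_one inl').symm))
    · rw [eq_bot_iff]
      rintro y ⟨hy₁, hy₂⟩
      obtain ⟨i, hi⟩ := Subgroup.mem_zpowers_iff.1 hy₁
      obtain ⟨j, hj⟩ := Subgroup.mem_zpowers_iff.1 hy₂
      have h1 : z₁ ^ i = z₂ ^ j := by
        apply hinl
        rw [map_zpow, map_zpow, hi, hj]
      have h2 : z₁ ^ i ∈ Subgroup.zpowers z₁ ⊓ Subgroup.zpowers z₂ :=
        ⟨⟨i, rfl⟩, ⟨j, h1.symm⟩⟩
      rw [hind, Subgroup.mem_bot] at h2
      rw [Subgroup.mem_bot, ← hi, ← map_zpow, h2, map_one]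
  have comm_of : ∀ (c : A') (z : H), (c : MulAut H) z = z → inr' c * inl' z = inl' z * inr' c := by
    intro c z h
    have h1 := key c z
    rw [h] at h1
    exact mul_inv_eq_iff_eq_mul.1 h1
  have of_comm : ∀ (c : A') (z : H), inr' c * inl' z = inl' z * inr' c → (c : MulAut H) z = z := by
    intro c z h
    have h1 := key c z
    rw [mul_inv_eq_iff_eq_mul.2 h] at h1
    exact (hinl h1).symm
  have ha2 : inr' c₁ * inl' z₂ * (inr' c₁)⁻¹ = inl' z₁ * inl' z₂ := by
    rw [key, ← map_mul]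
    exact congrArg inl' hu₂
  have hb2 : inr' c₂ * inl' z₁ * (inr' c₂)⁻¹ = inl' z₂ * inl' z₁ := by
    rw [key, ← map_mul]
    exact congrArg inl' hv₁
  have hle : Subgroup.zpowers (inr' c₁) ⊔ Subgroup.zpowers (inr' c₂) ≤ inr'.range := by
    refine sup_le ?_ ?_
    · rw [Subgroup.zpowers_le]
      exact ⟨_, rfl⟩
    · rw [Subgroup.zpowers_le]
      exact ⟨_, rfl⟩
  have hf : ∀ y ∈ Subgroup.zpowers (inr' c₁) ⊔ Subgroup.zpowers (inr' c₂),
      y * inl' z₁ = inl' z₁ * y → y * inl' z₂ = inl' z₂ * y → y = 1 := by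
    intro y hy h1 h2
    obtain ⟨c, rfl⟩ := hle hy
    have h3 := hfaith (c : MulAut H) (of_comm c z₁ h1) (of_comm c z₂ h2)
    have h4 : c = 1 := Subtype.ext h3
    rw [h4, map_one]
  obtain ⟨f, -⟩ := Cfsg.Agent.Lib.PGroup.FFSL2.exists_equiv hP (comm_of c₁ z₁ hu₁) ha2 (comm_of c₂ z₂ hv₂) hb2 hf
  let K : Subgroup A' := Subgroup.zpowers c₁ ⊔ Subgroup.zpowers c₂
  have hmap : K.map inr' = Subgroup.zpowers (inr' c₁) ⊔ Subgroup.zpowers (inr' c₂) := by
    simp only [K, Subgroup.map_sup, MonoidHom.map_zpowers]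
  exact ⟨K, ⟨(Subgroup.equivMapOfInjective K inr' hinr).trans ((MulEquiv.subgroupCongr hmap).trans f)⟩⟩

end Cfsg.Agent.S5185
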