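import Cfsg.Statements.S5188
import Mathlib
import Cfsg.Agent.Lib.Fusion.OrderFour
import Cfsg.Agent.Lib.Fusion.EssentialSmall
-- import your own Cfsg.Agent.* helpers here

set_option autoImplicit false
universe u
open Cfsg
open scoped commutatorElement

namespace Cfsg.Agent.S5188

/-- Let F be a saturated fusion system over a finite p-group S and H an essential subgroup of order p⁴. Then H is isomorphic to one of: C_p⁴ or C_{p²} × C_p × C_p (any p); C_{p²} × C_{p²} with p ∈ {2, 3}; p^{1+2}_+ × C_p with p odd (the direct product of an extraspecial group of order p³ and exponent p with a group of order p); Q₈ × C₂ (p = 2); or the non-abelian group of order p⁴ of exponent p² whose centre is cyclic of order p² (the central product of an extraspecial group of order p³ with a cyclic group of order p²; for p = 2 this is D₈ ∘ C₄). -/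
theorem result {Ω : Type u} [Group Ω] {S : Subgroup Ω} [Finite S] (p : ℕ) [Fact p.Prime] (hS : IsPGroup p S)
    (F : Cfsg.FusionSystem S) (hF : F.IsSaturated p) (H : Subgroup Ω) (hH : F.IsEssential p H) (hcard : Nat.card H = p ^ 4) :
    Cfsg.IsElementaryAbelian p H ∨
      Nonempty (↥H ≃* Multiplicative (ZMod (p ^ 2) × ZMod p × ZMod p)) ∨
      ((p = 2 ∨ p = 3) ∧ Nonempty (↥H ≃* Multiplicative (ZMod (p ^ 2) × ZMod (p ^ 2)))) ∨
      (Odd p ∧ ∃ (E : Type) (_ : Group E) (_ : Finite E), Cfsg.IsExtraspecial p E ∧ Nat.card E = p ^ 3 ∧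
        (∀ x : E, x ^ p = 1) ∧ Nonempty (↥H ≃* E × Multiplicative (ZMod p))) ∨
      (p = 2 ∧ Nonempty (↥H ≃* QuaternionGroup 2 × Multiplicative (ZMod 2))) ∨
      (¬ IsMulCommutative ↥H ∧ (∀ x ∈ H, x ^ (p ^ 2) = 1) ∧ IsCyclic ↥(Subgroup.center ↥H) ∧
        Nat.card (Subgroup.center ↥H) = p ^ 2) := by
  classical
  have hHS : H ≤ S := hH.1.1
  haveI hfH : Finite H := Cfsg.Agent.Lib.Fusion.Basic.finite_of_le hHS
  have hHp : IsPGroup p H := Cfsg.Agent.Lib.Fusion.Basic.isPGroup_of_le hS hHS
  have hpp : p.Prime := Fact.out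
  have hd : (frattini H).index ∣ p ^ 4 := hcard ▸ Subgroup.index_dvd_card _
  obtain ⟨r, hr4, hr⟩ := (Nat.dvd_prime_pow hpp).1 hd
  by_cases hab : ∀ a b : H, a * b = b * a
  · have hcomm : IsMulCommutative H := ⟨⟨hab⟩⟩
    by_cases h2 : r ≤ 2
    · have hrk : (frattini H).index ≤ p ^ 2 := by
        rw [hr]
        exact Nat.pow_le_pow_right hpp.pos h2
      rcases Cfsg.Agent.Lib.Fusion.AbelianEssential.abelian_essential hS hH hcomm hrk with
        ⟨-, h3⟩ | ⟨hp3, k, ⟨e⟩⟩
      · rw [hcard] at h3
        have := Nat.pow_right_injective hpp.two_le h3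
        omega
      · right; right; left
        have hcard2 : Nat.card H = p ^ k * p ^ k := by
          rw [Nat.card_congr e.toEquiv]
          show Nat.card (ZMod (p ^ k) × ZMod (p ^ k)) = _
          rw [Nat.card_prod, Nat.card_zmod]
        have hk : k = 2 := by
          rw [hcard, ← pow_add] at hcard2
          have := Nat.pow_right_injective hpp.two_le hcard2
          omega
        subst hk
        refine ⟨?_, ⟨e⟩⟩
        have h5 := hpp.two_le
        have : p = 2 ∨ p = 3 := by omega
        exact this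
    · by_cases h3 : r = 3
      · right; left
        letI iC : CommGroup H := { (inferInstance : Group H) with mul_comm := hab }
        exact Cfsg.Agent.Lib.Fusion.OrderFour.abelian_rank_three hcard (h3 ▸ hr)
      · left
        have hr4' : r = 4 := by omega
        subst hr4'
        have hbot : Nat.card (frattini H) = 1 := by
          have h6 := (frattini H).card_mul_index
          rw [hr, hcard] at h6
          have : Nat.card (frattini H) * p ^ 4 = 1 * p ^ 4 := by rw [h6, one_mul]
          exact Nat.eq_of_mul_eq_mul_right (pow_pos hpp.pos 4) this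
        have hb : frattini H = ⊥ := (Subgroup.eq_bot_iff_card _).2 hbot
        refine ⟨hcomm, fun x hx => ?_⟩
        have h7 := Cfsg.Agent.Lib.PGroup.FrattiniBasis.pow_mem_frattini hHp (⟨x, hx⟩ : H)
        rw [hb, Subgroup.mem_bot] at h7
        exact congrArg (fun t : H => (t : Ω)) h7
  · push Not at hab
    obtain ⟨a, b, hne⟩ := hab
    have hcne : commutator H ≠ ⊥ := by
      intro h
      have h1 : ⁅a, b⁆ ∈ commutator H := Subgroup.commutator_mem_commutator (Subgroup.mem_top _) (Subgroup.mem_top _)
      rw [h, Subgroup.mem_bot] at h1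
      exact hne (commutatorElement_eq_one_iff_mul_comm.1 h1)
    have hr2 : 2 ≤ r := by
      by_contra hlt
      obtain ⟨g, hg⟩ := Cfsg.Agent.Lib.PGroup.FrattiniBasis.exists_generating_tuple hHp hr
      exact hne (Cfsg.Agent.Lib.Fusion.OrderFour.comm_of_gens_le_one (by omega) g hg a b)
    have hr3 : r ≠ 4 := by
      rintro rfl
      have hbot : Nat.card (frattini H) = 1 := by
        have h6 := (frattini H).card_mul_index
        rw [hr, hcard] at h6
        have : Nat.card (frattini H) * p ^ 4 = 1 * p ^ 4 := by rw [h6, one_mul]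
        exact Nat.eq_of_mul_eq_mul_right (pow_pos hpp.pos 4) this
      have hb : frattini H = ⊥ := (Subgroup.eq_bot_iff_card _).2 hbot
      apply hcne
      rw [eq_bot_iff, ← hb]
      exact Cfsg.Agent.Lib.PGroup.FrattiniBasis.commutator_le_frattini hHp
    obtain rfl | rfl : r = 2 ∨ r = 3 := by omega
    · exfalso
      obtain ⟨M, hinv, hM⟩ := Cfsg.Agent.Lib.Fusion.OrderFour.rank_two hHp hcard hr hcne
      exact Cfsg.Agent.Lib.Fusion.AbelianEssential.false_of_invariant_max hS hH hinv
        (Cfsg.Agent.Lib.Fusion.EssentialCube.frattini_le_of_index_prime hM) hM hr.le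
    · rcases Cfsg.Agent.Lib.Fusion.OrderFour.rank_three hHp hcard hr hne with
        ⟨D, m, h0, hm, hinv, hidx⟩ | ⟨hp2, E, C, hEc, hCc, hEx, ⟨x, hx, y, hy, hxy⟩, ⟨e⟩⟩ | ⟨hp2, hQ⟩ |
          ⟨hexp, hcyc, hZ⟩
      · exfalso
        exact Cfsg.Agent.Lib.Fusion.EssentialSmall.false_of_chain hS hH h0 hm
          (fun i hi α _ x hx => hinv i hi α x hx) hidx
      · right; right; right; left
        let e₀ : Shrink.{0} ↥E ≃* ↥E := Shrink.mulEquiv
        haveI hfin : Finite (Shrink.{0} ↥E) := Finite.of_equiv _ e₀.symm.toEquiv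
        have hcE : Nat.card (Shrink.{0} ↥E) = p ^ 3 := by
          rw [Nat.card_congr e₀.toEquiv, hEc]
        refine ⟨hpp.odd_of_ne_two hp2, Shrink.{0} ↥E, inferInstance, hfin, ?_, hcE, ?_, ?_⟩
        · refine (Cfsg.Agent.Lib.Fusion.EssentialCube.extraspecial_of_card_cube (X := Shrink.{0} ↥E) hcE ?_).1
          refine ⟨e₀.symm ⟨x, hx⟩, e₀.symm ⟨y, hy⟩, ?_⟩
          intro h
          have h1 := congrArg e₀ h
          rw [map_mul, map_mul, MulEquiv.apply_symm_apply, MulEquiv.apply_symm_apply] at h1
          exact hxy (congrArg (fun t : E => (t : H)) h1)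
        · intro x'
          apply e₀.injective
          rw [map_pow, map_one]
          apply Subtype.ext
          exact hEx _ (e₀ x').2
        · have hCC : Nat.card (Multiplicative (ZMod p)) = p := by
            show Nat.card (ZMod p) = p
            rw [Nat.card_zmod]
          exact ⟨e.trans (MulEquiv.prodCongr e₀.symm (mulEquivOfPrimeCardEq hCc hCC))⟩
      · right; right; right; right; left
        exact ⟨hp2, hQ⟩
      · right; right; right; right; right
        refine ⟨fun h => hne (h.is_comm.comm a b), fun x hx => ?_, hcyc, hZ⟩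
        exact congrArg (fun t : H => (t : Ω)) (hexp ⟨x, hx⟩)

end Cfsg.Agent.S5188
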