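import Cfsg.Statements.S5191
import Mathlib

set_option autoImplicit false
open Cfsg

namespace Cfsg.Agent.S5191

/-- Fusion in a finite group G and in its quotient by O_{p'}(G) agree. Let S be a Sylow p-subgroup of G, N = O_{p'}(G) and P ≤ S. If an element of G/N conjugates the image of P into the image of S, then some element g of G conjugates P into S and induces the same map on P modulo N. (Together with the injectivity of S → G/N this says that g ↦ gN induces an isomorphism of the fusion system of G on S with that of G/N on SN/N.) -/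
theorem result {G : Type*} [Group G] [Finite G] {p : ℕ} [Fact p.Prime]
    [hN : (Cfsg.pPrimeCore p G).Normal] (S : Sylow p G) (P : Subgroup G) (hP : P ≤ (S : Subgroup G))
    (γ : G ⧸ Cfsg.pPrimeCore p G)
    (hγ : ∀ x ∈ P, γ * QuotientGroup.mk x * γ⁻¹ ∈ ((S : Subgroup G).map (QuotientGroup.mk' (Cfsg.pPrimeCore p G)))) :
    ∃ g : G, ∀ x ∈ P, g * x * g⁻¹ ∈ S ∧
      (QuotientGroup.mk (g * x * g⁻¹) : G ⧸ Cfsg.pPrimeCore p G) = γ * QuotientGroup.mk x * γ⁻¹ := by
  obtain ⟨g0, hg0⟩ := QuotientGroup.mk_surjective γ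
  subst hg0
  set T : Subgroup G := (S : Subgroup G) ⊔ Cfsg.pPrimeCore p G with hT
  set Q : Subgroup G := P.map (MulAut.conj g0).toMonoidHom with hQ
  have hQp : IsPGroup p Q := (S.isPGroup'.to_le hP).map _
  have hQT : Q ≤ T := by
    rintro _ ⟨x, hx, rfl⟩
    obtain ⟨y, hy, hye⟩ := hγ x hx
    have h1 : (QuotientGroup.mk (g0 * x * g0⁻¹) : G ⧸ Cfsg.pPrimeCore p G) = QuotientGroup.mk y := by
      rw [QuotientGroup.mk_mul, QuotientGroup.mk_mul, QuotientGroup.mk_inv]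
      exact hye.symm
    have h2 : (y : G)⁻¹ * (g0 * x * g0⁻¹) ∈ Cfsg.pPrimeCore p G := by
      rw [← QuotientGroup.eq]
      exact h1.symm
    have h3 : g0 * x * g0⁻¹ = y * (y⁻¹ * (g0 * x * g0⁻¹)) := by group
    show g0 * x * g0⁻¹ ∈ T
    rw [h3]
    exact T.mul_mem ((le_sup_left : (S : Subgroup G) ≤ T) hy) ((le_sup_right : Cfsg.pPrimeCore p G ≤ T) h2)
  have hQ' : IsPGroup p (Q.subgroupOf T) :=
    IsPGroup.comap_of_ker_isPGroup hQp T.subtype (by
      rw [Subgroup.ker_subtype]; exact IsPGroup.of_bot)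
  obtain ⟨R, hR⟩ := hQ'.exists_le_sylow
  have hST : (S : Subgroup G) ≤ T := le_sup_left
  obtain ⟨c, hc⟩ := MulAction.exists_smul_eq T R (S.subtype hST)
  have hcS : ∀ y ∈ Q, (c : G) * y * (c : G)⁻¹ ∈ (S : Subgroup G) := by
    intro y hy
    have h0 : (⟨y, hQT hy⟩ : T) ∈ (R : Subgroup T) := hR (show (⟨y, hQT hy⟩ : T) ∈ Q.subgroupOf T from hy)
    have h1 : c * (⟨y, hQT hy⟩ : T) * c⁻¹ ∈ ((S.subtype hST : Sylow p T) : Subgroup T) := by
      rw [← hc, Sylow.coe_subgroup_smul]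
      exact ⟨_, h0, rfl⟩
    rw [Sylow.coe_subtype, Subgroup.mem_subgroupOf] at h1
    simpa using h1
  have hcm : (c : G) ∈ (S : Subgroup G) ⊔ Cfsg.pPrimeCore p G := c.2
  obtain ⟨s, hs, n, hn, hsn⟩ := Subgroup.mem_sup_of_normal_right.mp hcm
  refine ⟨n * g0, ?_⟩
  intro x hx
  have hy : g0 * x * g0⁻¹ ∈ Q := ⟨x, hx, rfl⟩
  have h1 := hcS _ hy
  rw [← hsn] at h1
  refine ⟨?_, ?_⟩
  · have : (n * g0) * x * (n * g0)⁻¹ = s⁻¹ * ((s * n) * (g0 * x * g0⁻¹) * (s * n)⁻¹) * s := by group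
    rw [this]
    exact (S : Subgroup G).mul_mem ((S : Subgroup G).mul_mem ((S : Subgroup G).inv_mem hs) h1) hs
  · have hn1 : (QuotientGroup.mk n : G ⧸ Cfsg.pPrimeCore p G) = 1 := (QuotientGroup.eq_one_iff n).mpr hn
    simp [QuotientGroup.mk_mul, QuotientGroup.mk_inv, hn1]

end Cfsg.Agent.S5191
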