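import Cfsg.Statements.S5214
import Mathlib
import Cfsg.Agent.Lib.Fusion.Super.TwoStep
import Cfsg.Agent.Lib.PGroup.SuzukiTwo.Bridge
-- import your own Cfsg.Agent.* helpers here

set_option autoImplicit false
open Cfsg

namespace Cfsg.Agent.S5214

/-- Let S be a Suzuki 2-group (a finite nonabelian 2-group with more than one involution admitting a cyclic group of automorphisms permuting its involutions regularly). Then S is normal in every saturated fusion system over S (such a group is resistant). -/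
theorem comm_mem_aux {P : Type*} [Group P] (Z : Subgroup P) (hZc : ∀ z ∈ Z, ∀ g : P, g * z = z * g)
    (hsq : ∀ x : P, x * x ∈ Z) (x y : P) : x * y * x⁻¹ * y⁻¹ ∈ Z := by
  have h1 : x * y * x⁻¹ * y⁻¹ = (x * y) * (x * y) * (y * y)⁻¹ * (x * x)⁻¹ := by
    have h2 := hZc _ (hsq y) x
    have h3 : (x * y) * (x * y) * (y * y)⁻¹ = x * y * x * y⁻¹ := by
      group
    rw [h3]
    have h4 : x⁻¹ = x * (x * x)⁻¹ := by group
    have h5 := hZc _ (Z.inv_mem (hsq x)) y⁻¹
    rw [h4]
    calc x * y * (x * (x * x)⁻¹) * y⁻¹ = x * y * x * ((x * x)⁻¹ * y⁻¹) := by group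
      _ = x * y * x * (y⁻¹ * (x * x)⁻¹) := by rw [h5]
      _ = _ := by group
  rw [h1]
  exact Z.mul_mem (Z.mul_mem (hsq _) (Z.inv_mem (hsq _))) (Z.inv_mem (hsq _))

theorem result {Ω : Type*} [Group Ω] {S : Subgroup Ω} [Finite S] (hS : IsPGroup 2 S) (F : Cfsg.FusionSystem S) (hF : F.IsSaturated 2) (hsz : Cfsg.IsSuzukiTwoGroup ↥S) : F.IsNormal S := by
  obtain ⟨ξ, q, St⟩ := Cfsg.Agent.Lib.PGroup.SuzukiTwo.exists_setup hsz
  rcases Cfsg.Agent.Lib.PGroup.SuzukiTwo.core St with hab | hsq
  · obtain ⟨x, y, hxy⟩ := hsz.2.2.1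
    exact absurd (hab x y) hxy
  · have hZc : ∀ z ∈ St.Om, ∀ g : S, g * z = z * g := fun z hz g => St.Om_central hz g
    refine Cfsg.Agent.Lib.Fusion.Super.TwoStep.isNormal_top_of_central hS hF St.Om hZc ?_ ?_
    · intro x y
      rw [commutatorElement_def]
      exact comm_mem_aux _ hZc hsq x y
    · intro Q _ hQS α _ x hx
      rw [Cfsg.Agent.Lib.PGroup.SuzukiTwo.Setup.mem_Om] at hx ⊢
      have h1 : x * x = 1 := by
        apply Subtype.ext
        have h2 := congrArg Subtype.val hx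
        simpa using h2
      have h2 : α x * α x = 1 := by rw [← map_mul, h1, map_one]
      have h3 := congrArg (Subgroup.inclusion hQS) h2
      simpa using h3

end Cfsg.Agent.S5214
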