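import Cfsg.Statements.S5221
import Mathlib
import Cfsg.Agent.Lib.Fusion.ThompsonF
-- import your own Cfsg.Agent.* helpers here

set_option autoImplicit false
open Cfsg

namespace Cfsg.Agent.S5221

open Cfsg.FusionSystem Cfsg.Agent.Lib.Fusion.Basic Cfsg.Agent.Lib.Fusion.Saturated Cfsg.Agent.Lib.Fusion.ThompsonF
  Cfsg.Agent.Lib.Fusion.LocalSystems Cfsg.Agent.Lib.Fusion.GT.Local Cfsg.Agent.Lib.Fusion.GFunctor
  Cfsg.Agent.Lib.Fusion.Joins Cfsg.Agent.Lib.Fusion.ModelLocal

theorem exists_transport {Ω : Type*} [Group Ω] {T S : Subgroup Ω} (h : T = S) (E : Cfsg.FusionSystem T) (p : ℕ)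
    (hE : E.IsSaturated p) : ∃ E' : Cfsg.FusionSystem S, (∀ P, E'.Hom P = E.Hom P) ∧ E'.IsSaturated p := by
  subst h
  exact ⟨E, fun _ => rfl, hE⟩


/-- Let F be a sparse fusion system over a finite p-group S: a saturated fusion system, not the inner fusion system of S, whose only saturated fusion systems over S contained in it are F itself and the inner one. If p is odd, or F is S₄-free (the symmetric group of degree 4 is not involved in any model of the normalizer system of a fully normalized F-centric subgroup), then F is constrained. -/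
theorem result {Ω : Type*} [Group Ω] {S : Subgroup Ω} [Finite S] (p : ℕ) [Fact p.Prime] (hS : IsPGroup p S) (F : Cfsg.FusionSystem S) (hF : F.IsSaturated p) (hsp : ¬ (∀ P : Subgroup Ω, F.Hom P = (Cfsg.innerFusionSystem S).Hom P) ∧ ∀ E : Cfsg.FusionSystem S, E.IsSaturated p → E.IsSubsystemOf F → (∀ P : Subgroup Ω, E.Hom P = F.Hom P) ∨ (∀ P : Subgroup Ω, E.Hom P = (Cfsg.innerFusionSystem S).Hom P)) (hp : p ≠ 2 ∨ F.IsSectionFree p (Equiv.Perm (Fin 4))) : F.IsConstrained p := by
  classical
  obtain ⟨hni, hsp2⟩ := hsp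
  have hnotnil : ¬ Cfsg.Agent.Lib.Fusion.GT.Local.Nil p F := fun h => hni fun P => by
    rw [Cfsg.Agent.S5083.result p hS F hF h]
  -- the dichotomy
  have hdich : ∀ R : Subgroup Ω, R ≤ S → S ≤ Subgroup.normalizer (R : Set Ω) → R ≤ F.core ∨ LocalP p F R := by
    intro R hRS hSN
    have hNS : normalizerIn S R = S := inf_eq_left.2 hSN
    have hFN : F.IsFullyNormalized R := Cfsg.Agent.Lib.Fusion.ModelF.isFullyNormalized_of_le_normalizer hRS hSN
    let N := normalizerSystem F R hRS
    have hN : F.IsNormalizerSystem R N := normalizerSystem_isNormalizerSystem F R hRS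
    have hsat := Cfsg.Agent.Lib.Fusion.KNormalizer.isSaturated_normalizerSystem hS hF hFN hN
    obtain ⟨E', hE', hE'sat⟩ := exists_transport hNS N p hsat
    have hsub : E'.IsSubsystemOf F := fun P φ hφ => by
      rw [hE' P, hN P] at hφ
      exact hφ.1
    rcases hsp2 E' hE'sat hsub with h1 | h1
    · left
      have hn : F.IsNormal R := by
        refine ⟨hRS, fun P φ hφ => ?_⟩
        have h2 : φ ∈ E'.Hom P := by
          rw [h1 P]
          exact hφ
        rw [hE' P, hN P] at h2
        obtain ⟨-, -, -, ψ, hψ, h3, h4⟩ := h2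
        exact ⟨ψ, hψ, h3, h4⟩
      exact le_sSup hn
    · right
      refine localP_of_nil_normalizer hN ?_
      rintro P hP ⟨β, hβ⟩
      have hm := autGroup_mem_hom hP hβ
      rw [← hE' P, h1 P] at hm
      obtain ⟨-, g, hg, hgφ⟩ := hm
      have hβ' : β ∈ autInducedBy S P := mem_autInducedBy_iff.2 ⟨g, hg, hgφ⟩
      obtain ⟨n, hn⟩ := isPGroup_autInducedBy hS P ⟨β, hβ'⟩
      have h2 : β ^ p ^ n = 1 := congrArg Subtype.val hn
      exact ⟨n, Subtype.ext h2⟩
  have hSbot : S ≠ ⊥ := by
    rintro rfl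
    apply hnotnil
    intro P hP
    rw [le_bot_iff.1 hP]
    exact Cfsg.Agent.Lib.Fusion.GT.Main.isPGroup_autGroup_bot F
  have hO := isNormal_core F
  have hOne : F.core ≠ ⊥ := by
    intro hbot
    have key : ∀ R : Subgroup Ω, R ≤ S → S ≤ Subgroup.normalizer (R : Set Ω) → R ≠ ⊥ → LocalP p F R := by
      intro R hRS hSN hne
      rcases hdich R hRS hSN with h | h
      · rw [hbot] at h
        exact absurd (le_bot_iff.1 h) hne
      · exact h
    apply hnotnil
    refine nil_of_local hS hF hp (LocalP.localC (key _ inf_le_left (fun g hg => mem_normalizer_center (Subgroup.le_normalizer hg))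
      (center_ne_bot hS hSbot))) (key _ (wOf_le (W := jW) S) (le_normalizer_wOf (W := jW) jW_isPFunctor hS)
      (wOf_ne_bot (W := jW) jW_isPFunctor hS hSbot))
  have hlocal : ∀ R : Subgroup Ω, F.core < R → R ≤ S → S ≤ Subgroup.normalizer (R : Set Ω) → LocalP p F R := by
    intro R hOR hRS hSN
    rcases hdich R hRS hSN with h | h
    · exact absurd h hOR.not_ge
    · exact h
  rcases centric_or_nil_th hS hF hO hOne hp (thAt _) hlocal with h | h
  · exact ⟨hF, F.core, hO, isCentric_of_isNormal hO h⟩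
  · exact absurd h hnotnil

end Cfsg.Agent.S5221
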