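import Cfsg.Statements.S5236
import Mathlib
import Cfsg.Prelude.Def_PLocal
import Cfsg.Agent.Lib.Fusion.OmegaChain
import Cfsg.Agent.Lib.Fusion.Normal
import Cfsg.Agent.Lib.Fusion.Solvable
-- import your own Cfsg.Agent.* helpers here

set_option autoImplicit false
open Cfsg

namespace Cfsg.Agent.S5236

open Cfsg.FusionSystem Cfsg.Agent.Lib.Fusion.Basic Cfsg.Agent.Lib.Fusion.Saturated
open Cfsg.Agent.Lib.Fusion.NormalCR Cfsg.Agent.Lib.Fusion.Chain Cfsg.Agent.Lib.Fusion.OmegaChain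
open scoped commutatorElement

theorem characteristic_omegaOne {Ω : Type*} [Group Ω] (p : ℕ) (P : Subgroup Ω) :
    ((Cfsg.omegaOne p P).subgroupOf P).Characteristic := by
  rw [Subgroup.characteristic_iff_map_le]
  rintro φ _ ⟨x, hx, rfl⟩
  have hx' : (x : Ω) ∈ Cfsg.omegaOne p P := Subgroup.mem_subgroupOf.1 hx
  have hle : Cfsg.omegaOne p P ≤ P := by
    refine (Subgroup.closure_le _).2 ?_
    rintro y ⟨hy, -⟩
    exact hy
  have key : ∀ (z : Ω) (hz : z ∈ Cfsg.omegaOne p P), ((φ ⟨z, hle hz⟩ : P) : Ω) ∈ Cfsg.omegaOne p P := by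
    intro z hz
    induction hz using Subgroup.closure_induction with
    | mem z hz =>
      obtain ⟨hzP, hz1⟩ := hz
      refine Subgroup.subset_closure ⟨(φ ⟨z, hle (Subgroup.subset_closure ⟨hzP, hz1⟩)⟩).2, ?_⟩
      have e : (⟨z, hle (Subgroup.subset_closure ⟨hzP, hz1⟩)⟩ : P) ^ p = 1 := Subtype.ext hz1
      have h2 : φ (⟨z, hle (Subgroup.subset_closure ⟨hzP, hz1⟩)⟩ ^ p) = 1 := by rw [e, map_one]
      rw [map_pow] at h2
      exact congrArg Subtype.val h2
    | one =>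
      have e : (⟨1, hle (one_mem _)⟩ : P) = 1 := rfl
      rw [e, map_one]
      exact one_mem _
    | mul a b ha hb iha ihb =>
      have e : (⟨a * b, hle (mul_mem ha hb)⟩ : P) = ⟨a, hle ha⟩ * ⟨b, hle hb⟩ := rfl
      rw [e, map_mul]
      exact mul_mem iha ihb
    | inv a ha iha =>
      have e : (⟨a⁻¹, hle (inv_mem ha)⟩ : P) = (⟨a, hle ha⟩ : P)⁻¹ := rfl
      rw [e, map_inv]
      exact inv_mem iha
  exact Subgroup.mem_subgroupOf.2 (key x hx')

/-- Let p be an odd prime, F a saturated fusion system over a finite p-group S and P a subgroup of S strongly closed in F. Then P is normal in F if and only if Ω₁(P) (the subgroup generated by the elements of order p of P) has a chain of subgroups 1 = Q₀ ≤ Q₁ ≤ ⋯ ≤ Qₙ = Ω₁(P), each strongly closed in F, with [Qᵢ₊₁, P] ≤ Qᵢ for all i. -/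
theorem result {Ω : Type*} [Group Ω] {S : Subgroup Ω} [Finite S] (p : ℕ) [Fact p.Prime] (hS : IsPGroup p S) (F : Cfsg.FusionSystem S) (hF : F.IsSaturated p) (hp : p ≠ 2) (P : Subgroup Ω) (hP : F.StronglyClosed P) : F.IsNormal P ↔ ∃ (n : ℕ) (Q : Fin (n + 1) → Subgroup Ω), Q 0 = ⊥ ∧ Q (Fin.last n) = Cfsg.omegaOne p P ∧ Monotone Q ∧ (∀ i : Fin (n + 1), F.StronglyClosed (Q i)) ∧ ∀ i : Fin n, ⁅Q i.succ, P⁆ ≤ Q i.castSucc := by
  classical
  have hle : Cfsg.omegaOne p P ≤ P := by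
    refine (Subgroup.closure_le _).2 ?_
    rintro y ⟨hy, -⟩
    exact hy
  constructor
  · intro hN
    have hΩn : F.IsNormal (Cfsg.omegaOne p P) :=
      Cfsg.Agent.Lib.Fusion.Normal.isNormal_of_characteristic hN hle (characteristic_omegaOne p P)
    obtain ⟨k, C, h0, hl, hmono, hnorm, hcomm⟩ := exists_central_chain hS hN
    refine ⟨k, fun i => C i ⊓ Cfsg.omegaOne p P, ?_, ?_, ?_, ?_, ?_⟩
    · show C 0 ⊓ _ = ⊥
      rw [h0, bot_inf_eq]
    · show C (Fin.last k) ⊓ _ = _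
      rw [hl]
      exact inf_eq_right.2 hle
    · intro i j hij
      exact inf_le_inf_right _ (hmono hij)
    · intro i
      exact Cfsg.Agent.Lib.Fusion.Solvable.stronglyClosed_inf (IsNormal.stronglyClosed (hnorm i))
        (IsNormal.stronglyClosed hΩn)
    · intro i
      rw [Subgroup.commutator_le]
      intro a ha b hb
      refine ⟨hcomm i (Subgroup.commutator_mem_commutator ha.1 hb), ?_⟩
      have h1 : b * a⁻¹ * b⁻¹ ∈ Cfsg.omegaOne p P :=
        StronglyClosed.conj_mem (IsNormal.stronglyClosed hΩn) (hP.1 hb) (inv_mem ha.2)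
      have e : ⁅a, b⁆ = a * (b * a⁻¹ * b⁻¹) := by
        rw [commutatorElement_def]
        group
      rw [e]
      exact mul_mem ha.2 h1
  · rintro ⟨n, Q, h0, hl, hmono, hsc, hcomm⟩
    refine isNormal_of_stronglyClosed_of_le hS hF hP (fun R hC hRad => ?_)
    have hRS : R ≤ S := hC.1
    refine le_of_normalizer_inf_le hS hRS hP.1 (StronglyClosed.le_normalizer hP) (fun a ha haN => ?_)
    let E : ℕ → Subgroup Ω := fun i => if h : i < n + 1 then Q ⟨i, h⟩ else ⊤
    have hEv : ∀ i (h : i < n + 1), E i = Q ⟨i, h⟩ := fun i h => dif_pos h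
    have hE0 : E 0 = ⊥ := by
      rw [hEv 0 (by omega)]
      exact h0
    have hEn : E n = Cfsg.omegaOne p P := by
      rw [hEv n (by omega)]
      exact hl
    have hp2 : p ∣ p.choose 2 := Cfsg.Agent.Lib.PGroup.Critical.prime_dvd_choose_two hp
    refine mem_of_omega_chain (E := E) (m := n) (n := p) hS hC hRad hP hE0 ?_ dvd_rfl hp2 ?_ (hP.1 ha) haN ?_ ?_
    · intro i hi
      rw [hEv i (by omega)]
      exact hsc _
    · intro x hx hx1
      rw [hEn]
      exact Subgroup.subset_closure ⟨hx, hx1⟩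
    · intro i hi x _ hx
      rw [hEv (i + 1) (by omega)] at hx
      rw [hEv i (by omega)]
      have h1 : ⁅x⁻¹, a⁆ ∈ ⁅Q ⟨i + 1, by omega⟩, P⁆ := Subgroup.commutator_mem_commutator (inv_mem hx) ha
      have h2 := hcomm ⟨i, hi⟩ h1
      have e : x⁻¹ * (a * x * a⁻¹) = ⁅x⁻¹, a⁆ := by
        rw [commutatorElement_def]
        group
      rw [e]
      exact h2
    · intro x hx
      have h1 : x⁻¹ * a * x⁻¹⁻¹ ∈ P := StronglyClosed.conj_mem hP (S.inv_mem (hRS hx)) ha
      have e : x⁻¹ * (a * x * a⁻¹) = (x⁻¹ * a * x⁻¹⁻¹) * a⁻¹ := by group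
      rw [e]
      exact P.mul_mem h1 (P.inv_mem ha)


end Cfsg.Agent.S5236
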