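import Cfsg.Statements.S5270
import Mathlib
import Cfsg.Agent.Lib.Fusion.MaxClassCenter
import Cfsg.Agent.Lib.Fusion.Essential
import Cfsg.Agent.Lib.Fusion.Alperin
import Cfsg.Agent.Lib.Fusion.Saturated
import Cfsg.Agent.Lib.Fusion.Saturated2
-- import your own Cfsg.Agent.* helpers here

set_option autoImplicit false
open Cfsg

namespace Cfsg.Agent.S5270


open Cfsg.FusionSystem Cfsg.Agent.Lib.Fusion.Basic Cfsg.Agent.Lib.Fusion.Saturated
  Cfsg.Agent.Lib.Fusion.Saturated2 Cfsg.Agent.Lib.Fusion.Essential Cfsg.Agent.Lib.Fusion.Alperin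

theorem fn_of_normal {Ω : Type*} [Group Ω] {S : Subgroup Ω} [Finite S] (F : Cfsg.FusionSystem S)
    {P : Subgroup Ω} (hPS : P ≤ S) (hn : ∀ s ∈ S, ∀ x ∈ P, s * x * s⁻¹ ∈ P) : F.IsFullyNormalized P := by
  have h : normalizerIn S P = S := by
    refine le_antisymm inf_le_left fun s hs => ⟨hs, ?_⟩
    refine Subgroup.mem_normalizer_iff.2 fun x => ⟨hn s hs x, fun h => ?_⟩
    have := hn s⁻¹ (S.inv_mem hs) _ h
    simpa [mul_assoc] using this
  refine ⟨hPS, fun Q _ => ?_⟩
  rw [h]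
  exact Subgroup.card_le_of_le inf_le_left

theorem core {Ω : Type*} [Group Ω] {S : Subgroup Ω} [Finite S] (p : ℕ) [Fact p.Prime] (hS : IsPGroup p ↥S)
    (F : Cfsg.FusionSystem S) (hF : F.IsSaturated p) {Z₁ Z₂ E : Subgroup Ω}
    (hE : E = S ⊓ Subgroup.centralizer (Z₂ : Set Ω))
    (hZ₂S : Z₂ ≤ S) (hZ₂n : ∀ s ∈ S, ∀ x ∈ Z₂, s * x * s⁻¹ ∈ Z₂)
    (hZ₁ : ∀ x, x ∈ Z₁ ↔ x ∈ S ∧ ∀ s ∈ S, s * x = x * s)
    (hidx : (E.subgroupOf S).index = p)
    (φ : Z₂ →* Ω) (hφ : φ ∈ F.Hom Z₂) (hφZ : φ.range = Z₂)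
    {z : Ω} (hz : z ∈ Z₂) (hz1 : z ∈ Z₁) (hz2 : φ ⟨z, hz⟩ ∉ Z₁) :
    F.IsEssential p E := by
  classical
  have hES : E ≤ S := by rw [hE]; exact inf_le_left
  haveI : Finite E := finite_of_le hES
  have hEc : ∀ e ∈ E, ∀ x ∈ Z₂, e * x = x * e := by
    intro e he x hx
    rw [hE] at he
    exact (Subgroup.mem_centralizer_iff.1 he.2 x hx).symm
  have hEmem : ∀ e, e ∈ S → (∀ x ∈ Z₂, e * x = x * e) → e ∈ E := by
    intro e he h
    rw [hE]
    exact ⟨he, Subgroup.mem_centralizer_iff.2 fun x hx => (h x hx).symm⟩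
  have hEn : ∀ s ∈ S, ∀ x ∈ E, s * x * s⁻¹ ∈ E := by
    intro s hs e he
    refine hEmem _ (S.mul_mem (S.mul_mem hs (hES he)) (S.inv_mem hs)) fun x hx => ?_
    have h1 := hEc e he _ (hZ₂n s⁻¹ (S.inv_mem hs) x hx)
    simp only [inv_inv] at h1
    calc s * e * s⁻¹ * x = s * (e * (s⁻¹ * x * s)) * s⁻¹ := by group
      _ = s * (s⁻¹ * x * s * e) * s⁻¹ := by rw [h1]
      _ = x * (s * e * s⁻¹) := by group
  have hlt : E < S := by
    refine lt_of_le_of_ne hES fun h => ?_
    have h2 : E.subgroupOf S = ⊤ := by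
      rw [Subgroup.subgroupOf_eq_top]
      exact h.ge
    rw [h2, Subgroup.index_top] at hidx
    exact (Fact.out : p.Prime).one_lt.ne hidx
  have hFN : F.IsFullyNormalized E := fn_of_normal F hES hEn
  have hFNZ : F.IsFullyNormalized Z₂ := fn_of_normal F hZ₂S hZ₂n
  have hrec : F.IsReceptive Z₂ := fullyNormalized_receptive hS hF hFNZ
  -- the extension of `φ`
  obtain ⟨ψ, hψ, hψφ⟩ := hrec.2 Z₂ φ hφ hφZ
  have hEK : E ≤ extender S Z₂ φ := by
    intro e he
    refine extender_closure_mem (hES he) ?_ S.one_mem fun x hx => ?_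
    · refine Subgroup.mem_normalizer_iff.2 fun x => ?_
      constructor
      · intro hx
        rw [hEc e he x hx, mul_inv_cancel_right]
        exact hx
      · intro hx
        have h1 := hZ₂n e⁻¹ (S.inv_mem (hES he)) _ hx
        simpa [mul_assoc] using h1
    · have h1 : (⟨e * (x : Ω) * e⁻¹, hx⟩ : Z₂) = x := by
        apply Subtype.ext
        show e * (x : Ω) * e⁻¹ = x
        rw [hEc e he x x.2, mul_inv_cancel_right]
      rw [h1]
      simp
  have hZK : Z₂ ≤ extender S Z₂ φ := le_extender hZ₂S (fun x => map_mem_S hφ x)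
  -- the restriction to `E`
  let f : E →* Ω := ψ.comp (Subgroup.inclusion hEK)
  have hf : f ∈ F.Hom E := res_mem hψ hEK
  have hfE : ∀ e, f e ∈ E := by
    intro e
    refine hEmem _ (map_mem_S hf e) fun y hy => ?_
    have hy' : y ∈ φ.range := by rw [hφZ]; exact hy
    obtain ⟨x, rfl⟩ := hy'
    have h1 : ψ ⟨x, hZK x.2⟩ = φ x := hψφ x x.2 (hZK x.2)
    have h2 : (Subgroup.inclusion hEK e : extender S Z₂ φ) * ⟨x, hZK x.2⟩ =
        ⟨x, hZK x.2⟩ * (Subgroup.inclusion hEK e) := by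
      apply Subtype.ext
      exact hEc e e.2 x x.2
    have h3 := congrArg ψ h2
    rw [map_mul, map_mul, h1] at h3
    exact h3
  let α : MulAut E := autOfHom f (F.injective_of_mem hf) hfE
  have hα : α ∈ F.autGroup E := autOfHom_mem hf hfE
  -- the stabilizer of `Z₁`
  let T : Subgroup (MulAut E) :=
    { carrier := {β | ∀ x : E, ((x : Ω) ∈ Z₁ ↔ ((β x : E) : Ω) ∈ Z₁)}
      mul_mem' := by
        intro a b ha hb x
        exact (hb x).trans (ha (b x))
      one_mem' := fun x => Iff.rfl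
      inv_mem' := by
        intro a ha x
        have h1 := ha (a⁻¹ x)
        have h2 : a (a⁻¹ x) = x := MulAut.apply_inv_self _ _ _
        rw [h2] at h1
        exact h1.symm }
  have hext : extendingAuts F E ≤ T := by
    refine (Subgroup.closure_le _).2 ?_
    rintro β ⟨Q, hEQ, χ, hχ, hβ⟩ x
    have hQS : Q ≤ S := source_le hχ
    have hQeq : Q = S := by
      by_contra hne
      -- `E < Q < S` contradicts the index
      have h1 : (E.subgroupOf S) < Q.subgroupOf S := by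
        refine lt_of_le_of_ne ?_ ?_
        · intro y hy
          exact hEQ.le hy
        · intro h
          obtain ⟨q, hq, hqE⟩ := Set.exists_of_ssubset hEQ
          have h2 : (⟨q, hQS hq⟩ : S) ∈ Q.subgroupOf S := hq
          rw [← h] at h2
          exact hqE h2
      have h3 : Q.subgroupOf S ≠ ⊤ := by
        intro h
        rw [Subgroup.subgroupOf_eq_top] at h
        exact hne (le_antisymm hQS h)
      have h4 : (Q.subgroupOf S).relIndex ⊤ = (Q.subgroupOf S).index := Subgroup.relIndex_top_right _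
      have h5 := Subgroup.relIndex_mul_index h1.le
      rw [hidx] at h5
      have h6 : (Q.subgroupOf S).index ∣ p := ⟨_, (by rw [← h5, mul_comm])⟩
      rcases (Nat.dvd_prime (Fact.out : p.Prime)).1 h6 with h7 | h7
      · rw [Subgroup.index_eq_one] at h7
        exact h3 h7
      · rw [h7] at h5
        have h8 : (E.subgroupOf S).relIndex (Q.subgroupOf S) = 1 :=
          Nat.eq_of_mul_eq_mul_right (Fact.out : p.Prime).pos (by rw [h5, one_mul])
        have h9 := Subgroup.relIndex_eq_one.1 h8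
        exact (not_le_of_gt h1) h9
    subst hQeq
    have hrange : χ.range = Q := range_eq_of_card hχ (fun t => map_mem_S hχ t) le_rfl
    have hβx : ((β x : E) : Ω) = χ ⟨x, hEQ.le x.2⟩ := (hβ x).symm
    rw [hβx, hZ₁, hZ₁]
    constructor
    · rintro ⟨hx, hc⟩
      refine ⟨map_mem_S hχ _, fun s hs => ?_⟩
      have hs' : s ∈ χ.range := by rw [hrange]; exact hs
      obtain ⟨t, rfl⟩ := hs'
      rw [← map_mul, ← map_mul]
      congr 1
      exact Subtype.ext (hc t t.2)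
    · rintro ⟨-, hc⟩
      refine ⟨hES x.2, fun s hs => ?_⟩
      have h1 := hc (χ ⟨s, hs⟩) (map_mem_S hχ _)
      rw [← map_mul, ← map_mul] at h1
      exact congrArg (fun t : Q => (t : Ω)) (F.injective_of_mem hχ h1)
  have hαT : α ∉ extendingAuts F E := by
    intro h
    have h1 := hext h
    have hzE : z ∈ E := hEmem z (hZ₂S hz) fun x hx => by
      exact (((hZ₁ z).1 hz1).2 x (hZ₂S hx)).symm
    have h2 := (h1 ⟨z, hzE⟩).1 hz1
    have h3 : ((α ⟨z, hzE⟩ : E) : Ω) = φ ⟨z, hz⟩ := by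
      have := hψφ z hz (hEK hzE)
      exact this
    rw [h3] at h2
    exact hz2 h2
  rcases extendingAuts_dichotomy hS hF hlt hFN with ⟨-, h⟩ | ⟨h, -⟩
  · exact absurd (h ▸ hα) hαT
  · exact h

/-- Let p ≥ 5 be a prime, S a finite p-group of maximal class of order p^n with n ≥ 4, and F a saturated fusion system over S. If some map of F defined on the second centre Z₂(S) with image Z₂(S) does not carry Z(S) into itself, then the centralizer C_S(Z₂(S)) is an F-essential subgroup. -/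
theorem result {Ω : Type*} [Group Ω] {S : Subgroup Ω} [Finite S] (p : ℕ) [Fact p.Prime] (hS : IsPGroup p ↥S) (n : ℕ) (hn : Nat.card S = p ^ n) (h4 : 4 ≤ n) (hmax : Subgroup.lowerCentralSeries S (n - 2) ≠ ⊥) (F : Cfsg.FusionSystem S) (hF : F.IsSaturated p) (hp : 5 ≤ p) (φ : ↥((Subgroup.upperCentralSeries ↥S 2).map S.subtype) →* Ω) (hφ : φ ∈ F.Hom ((Subgroup.upperCentralSeries ↥S 2).map S.subtype)) (hφZ : φ.range = ((Subgroup.upperCentralSeries ↥S 2).map S.subtype)) (hmove : ∃ (z : Ω) (hz : z ∈ ((Subgroup.upperCentralSeries ↥S 2).map S.subtype)), z ∈ ((Subgroup.center ↥S).map S.subtype) ∧ φ ⟨z, hz⟩ ∉ ((Subgroup.center ↥S).map S.subtype)) : F.IsEssential p (S ⊓ Subgroup.centralizer (((Subgroup.upperCentralSeries ↥S 2).map S.subtype) : Set Ω)) := by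
  classical
  obtain ⟨z, hz, hz1, hz2⟩ := hmove
  have hmax' : Subgroup.lowerCentralSeries (⊤ : Subgroup ↥S) (n - 2) ≠ ⊥ := by
    intro h
    apply hmax
    rw [← Subgroup.top_subtype_lowerCentralSeries, h, Subgroup.map_bot]
  obtain ⟨hc1, hc2⟩ := Cfsg.Agent.Lib.Fusion.MaxClassCenter.card_center_of_maxClass hS hn h4 hmax'
  obtain ⟨-, hidx⟩ := Cfsg.Agent.Lib.Fusion.MaxClassCenter.centralizer_facts hS hc1 hc2
  refine core p hS F hF (Z₁ := (Subgroup.center ↥S).map S.subtype) rfl ?_ ?_ ?_ ?_ φ hφ hφZ hz hz1 hz2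
  · rintro _ ⟨u, -, rfl⟩
    exact u.2
  · rintro s hs _ ⟨u, hu, rfl⟩
    have h1 : (⟨s, hs⟩ : ↥S) * u * (⟨s, hs⟩ : ↥S)⁻¹ ∈ Subgroup.upperCentralSeries ↥S 2 :=
      (inferInstance : (Subgroup.upperCentralSeries ↥S 2).Normal).conj_mem u hu _
    exact ⟨_, h1, rfl⟩
  · intro x
    constructor
    · rintro ⟨u, hu, rfl⟩
      refine ⟨u.2, fun s hs => ?_⟩
      exact congrArg (fun t : ↥S => (t : Ω)) (Subgroup.mem_center_iff.1 hu ⟨s, hs⟩)
    · rintro ⟨hx, h⟩
      refine ⟨⟨x, hx⟩, ?_, rfl⟩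
      refine Subgroup.mem_center_iff.2 fun g => ?_
      exact Subtype.ext (h g g.2)
  · have h2 : (S ⊓ Subgroup.centralizer (((Subgroup.upperCentralSeries ↥S 2).map S.subtype) : Set Ω)).subgroupOf S =
        Subgroup.centralizer (Subgroup.upperCentralSeries ↥S 2 : Set ↥S) := by
      ext s
      constructor
      · rintro ⟨-, h⟩
        refine Subgroup.mem_centralizer_iff.2 fun w hw => ?_
        exact Subtype.ext (Subgroup.mem_centralizer_iff.1 h _ ⟨w, hw, rfl⟩)
      · intro h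
        refine ⟨s.2, Subgroup.mem_centralizer_iff.2 ?_⟩
        rintro _ ⟨w, hw, rfl⟩
        exact congrArg (fun t : ↥S => (t : Ω)) (Subgroup.mem_centralizer_iff.1 h w hw)
    rw [h2]
    exact hidx

end Cfsg.Agent.S5270
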