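import Cfsg.Statements.S5271
import Mathlib
import Cfsg.Agent.Lib.Fusion.TateInner
import Cfsg.Agent.Lib.Fusion.FactorHyperfocal
import Cfsg.Agent.Lib.Fusion.Solvable
import Cfsg.Agent.Lib.Fusion.GoodLift6
import Cfsg.Agent.Lib.Fusion.LocalSystems
import Cfsg.Agent.Lib.PGroup.FrattiniBasis
-- import your own Cfsg.Agent.* helpers here

set_option autoImplicit false
open Cfsg

namespace Cfsg.Agent.S5271

open Cfsg.FusionSystem Cfsg.Agent.Lib.Fusion.Basic Cfsg.Agent.Lib.Fusion.Saturated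
open Cfsg.Agent.Lib.Fusion.Solvable Cfsg.Agent.Lib.Fusion.Hyperfocal
open Cfsg.Agent.Lib.Fusion.NormalCR

section helpers

variable {Ω : Type*} [Group Ω] {S : Subgroup Ω} [Finite S] {p : ℕ} [hp : Fact p.Prime] {F : Cfsg.FusionSystem S}

/-- A subgroup of given order between two subgroups of a `p`-group. -/
theorem exists_between (hS : IsPGroup p S) {X Y : Subgroup Ω} (hXY : X ≤ Y) (hYS : Y ≤ S) {k : ℕ}
    (hX : Nat.card X ≤ p ^ k) (hY : p ^ k ≤ Nat.card Y) : ∃ Q : Subgroup Ω, X ≤ Q ∧ Q ≤ Y ∧ Nat.card Q = p ^ k := by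
  classical
  have hfin : Finite Y := finite_of_le hYS
  have hYp : IsPGroup p Y := isPGroup_of_le hS hYS
  have hXp : IsPGroup p X := isPGroup_of_le hS (hXY.trans hYS)
  haveI : Finite X := finite_of_le (hXY.trans hYS)
  obtain ⟨b, hb⟩ := IsPGroup.iff_card.1 hYp
  obtain ⟨a, ha⟩ := IsPGroup.iff_card.1 hXp
  have hp1 : 1 < p := hp.out.one_lt
  have hak : a ≤ k := by
    rw [ha] at hX
    exact (Nat.pow_le_pow_iff_right hp1).1 hX
  have hkb : k ≤ b := by
    rw [hb] at hY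
    exact (Nat.pow_le_pow_iff_right hp1).1 hY
  have hXc : Nat.card (X.subgroupOf Y) = p ^ a := by
    rw [← ha]
    exact Nat.card_congr (Subgroup.subgroupOfEquivOfLe hXY).toEquiv
  obtain ⟨K, hK, hKle⟩ := Sylow.exists_subgroup_card_pow_prime_le p (n := a) (m := k)
    (by rw [hb]; exact pow_dvd_pow p hkb) (X.subgroupOf Y) hXc hak
  refine ⟨K.map Y.subtype, ?_, ?_, ?_⟩
  · intro x hx
    exact ⟨⟨x, hXY hx⟩, hKle (Subgroup.mem_subgroupOf.2 hx), rfl⟩
  · rintro _ ⟨y, -, rfl⟩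
    exact y.2
  · rw [← hK]
    exact Nat.card_congr (Subgroup.equivMapOfInjective K Y.subtype Y.subtype_injective).toEquiv.symm

theorem sc_bot : F.StronglyClosed ⊥ := by
  refine ⟨bot_le, fun R hR φ hφ x => ?_⟩
  have hx : x = 1 := Subtype.ext (Subgroup.mem_bot.1 (hR x.2))
  rw [hx, map_one]
  exact Subgroup.one_mem _

/-- Weakly embedded. -/
def WE (F : Cfsg.FusionSystem S) (Q : Subgroup Ω) : Prop :=
  ∃ P : Subgroup Ω, F.StronglyClosed P ∧ F.StronglyClosed (Q ⊔ P) ∧ F.StronglyClosed (Q ⊓ P)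

/-- The lattice lemma: a strongly closed subgroup of the given order inside any strongly closed subgroup
of larger order. -/
theorem exists_sc_card (hS : IsPGroup p S) (hF : F.IsSaturated p) {k : ℕ}
    (hWE : ∀ Q : Subgroup Ω, Q ≤ S → Nat.card Q = p ^ k → WE F Q) {Y₀ : Subgroup Ω}
    (hY₀ : F.StronglyClosed Y₀) (hk : p ^ k ≤ Nat.card Y₀) :
    ∃ W : Subgroup Ω, F.StronglyClosed W ∧ W ≤ Y₀ ∧ Nat.card W = p ^ k := by
  classical
  have hfin : ∀ A : Subgroup Ω, A ≤ S → Finite A := fun A hA => finite_of_le hA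
  have hpos : 0 < p ^ k := pow_pos hp.out.pos k
  -- the largest element of order at most `p ^ k`
  let sA : Set ℕ := {m | ∃ X : Subgroup Ω, F.StronglyClosed X ∧ X ≤ Y₀ ∧ Nat.card X ≤ p ^ k ∧ Nat.card X = m}
  have hAne : sA.Nonempty := ⟨_, ⊥, sc_bot, bot_le, by simpa using Nat.succ_le_of_lt hpos, rfl⟩
  have hAb : BddAbove sA := ⟨p ^ k, by rintro m ⟨X, -, -, h, rfl⟩; exact h⟩
  obtain ⟨X, hXsc, hXY₀, hXle, hXm⟩ := Nat.sSup_mem hAne hAb
  have hXmax : ∀ A : Subgroup Ω, F.StronglyClosed A → A ≤ Y₀ → Nat.card A ≤ p ^ k → X ≤ A → A = X := by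
    intro A hA hAY hAc hXA
    have h1 : Nat.card A ≤ sSup sA := le_csSup hAb ⟨A, hA, hAY, hAc, rfl⟩
    haveI := hfin A hA.1
    exact (Subgroup.eq_of_le_of_card_ge hXA (by rw [hXm]; exact h1)).symm
  -- the smallest element of order at least `p ^ k` above `X`
  let sB : Set ℕ := {m | ∃ Y : Subgroup Ω, F.StronglyClosed Y ∧ X ≤ Y ∧ Y ≤ Y₀ ∧ p ^ k ≤ Nat.card Y ∧ Nat.card Y = m}
  have hBne : sB.Nonempty := ⟨_, Y₀, hY₀, hXY₀, le_rfl, hk, rfl⟩
  obtain ⟨Y, hYsc, hXY, hYY₀, hYle, hYm⟩ := Nat.sInf_mem hBne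
  have hYmin : ∀ A : Subgroup Ω, F.StronglyClosed A → X ≤ A → A ≤ Y → p ^ k ≤ Nat.card A → A = Y := by
    intro A hA hXA hAY hAc
    have h1 : sInf sB ≤ Nat.card A := Nat.sInf_le ⟨A, hA, hXA, hAY.trans hYY₀, hAc, rfl⟩
    haveI := hfin Y hYsc.1
    exact Subgroup.eq_of_le_of_card_ge hAY (by rw [hYm]; exact h1)
  by_cases hX1 : Nat.card X = p ^ k
  · exact ⟨X, hXsc, hXY₀, hX1⟩
  by_cases hY1 : Nat.card Y = p ^ k
  · exact ⟨Y, hYsc, hYY₀, hY1⟩
  exfalso
  have hXlt : Nat.card X < p ^ k := lt_of_le_of_ne hXle hX1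
  have hYlt : p ^ k < Nat.card Y := lt_of_le_of_ne hYle (Ne.symm hY1)
  obtain ⟨Q, hXQ, hQY, hQc⟩ := exists_between hS hXY hYsc.1 hXle hYle
  have hQS : Q ≤ S := hQY.trans hYsc.1
  obtain ⟨P, hPsc, hQP, hQiP⟩ := hWE Q hQS hQc
  haveI := hfin Q hQS
  have hU : Q ⊓ P ≤ X := by
    have h1 := stronglyClosed_sup hS hF hXsc hQiP
    have h2 : X ⊔ (Q ⊓ P) ≤ Q := sup_le hXQ inf_le_left
    have h3 := hXmax _ h1 (h2.trans (hQY.trans hYY₀)) (by rw [← hQc]; exact Subgroup.card_le_of_le h2) le_sup_left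
    rw [← h3]
    exact le_sup_right
  have hT : Y ≤ Q ⊔ P := by
    have h1 : F.StronglyClosed ((Q ⊔ P) ⊓ Y) := stronglyClosed_inf hQP hYsc
    have hQle : Q ≤ (Q ⊔ P) ⊓ Y := le_inf le_sup_left hQY
    haveI := hfin _ h1.1
    have h2 := hYmin _ h1 (hXQ.trans hQle) inf_le_right (by rw [← hQc]; exact Subgroup.card_le_of_le hQle)
    rw [← h2]
    exact inf_le_left
  have hP' : F.StronglyClosed (X ⊔ (P ⊓ Y)) := stronglyClosed_sup hS hF hXsc (stronglyClosed_inf hPsc hYsc)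
  have hP'Y : X ⊔ (P ⊓ Y) ≤ Y := sup_le hXY inf_le_right
  by_cases hP'c : Nat.card ↥(X ⊔ (P ⊓ Y)) ≤ p ^ k
  · have h1 := hXmax _ hP' (hP'Y.trans hYY₀) hP'c le_sup_left
    have h2 : P ⊓ Y ≤ X := by
      rw [← h1]
      exact le_sup_right
    have h3 : Y ≤ Q := by
      intro y hy
      obtain ⟨q, hq, b, hb, e⟩ := Cfsg.Agent.Lib.Fusion.GroupSylow.exists_mul_of_mem_sup
        (hQS.trans (StronglyClosed.le_normalizer hPsc)) (hT hy)
      have hbY : b ∈ Y := by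
        have : b = q⁻¹ * y := by rw [e]; group
        rw [this]
        exact Y.mul_mem (Y.inv_mem (hQY hq)) hy
      rw [e]
      exact Q.mul_mem hq (hXQ (h2 ⟨hb, hbY⟩))
    have := Subgroup.card_le_of_le h3
    omega
  · have h1 := hYmin _ hP' le_sup_left hP'Y (by omega)
    have h3 : Q ≤ X := by
      intro q hq
      have hqq : q ∈ X ⊔ (P ⊓ Y) := by
        rw [h1]
        exact hQY hq
      obtain ⟨a, ha, b, hb, e⟩ := Cfsg.Agent.Lib.Fusion.GroupSylow.exists_mul_of_mem_sup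
        (hXsc.1.trans (StronglyClosed.le_normalizer (stronglyClosed_inf hPsc hYsc))) hqq
      have hbQ : b ∈ Q := by
        have : b = a⁻¹ * q := by rw [e]; group
        rw [this]
        exact Q.mul_mem (Q.inv_mem (hXQ ha)) hq
      rw [e]
      exact X.mul_mem ha (hU ⟨hbQ, hb.1⟩)
    haveI := hfin X hXsc.1
    have := Subgroup.card_le_of_le h3
    omega

end helpers

section mid

variable {Ω : Type*} [Group Ω] {S : Subgroup Ω} [Finite S] {p : ℕ} [hp : Fact p.Prime] {F : Cfsg.FusionSystem S}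

/-- The hypothesis on normalizers. -/
def NI (F : Cfsg.FusionSystem S) (n : ℕ) : Prop :=
  ∀ H : Subgroup Ω, F.IsFullyNormalized H → Nat.card H = n → ∀ N : Cfsg.FusionSystem (normalizerIn S H),
    F.IsNormalizerSystem H N → ∀ P : Subgroup Ω, N.Hom P = (Cfsg.innerFusionSystem (normalizerIn S H)).Hom P

theorem conj_of_le {n : ℕ} (hNI : NI F n) {W : Subgroup Ω} (hW : F.StronglyClosed W) (hWc : Nat.card W = n)
    {R : Subgroup Ω} {φ : R →* Ω} (hφ : φ ∈ F.Hom R) (hWR : W ≤ R) : ∃ s ∈ S, ∀ x : R, φ x = s * x * s⁻¹ := by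
  have hRS := source_le hφ
  let N := Cfsg.Agent.Lib.Fusion.LocalSystems.normalizerSystem F W hW.1
  have hmem : φ ∈ N.Hom R := by
    show φ ∈ F.normalizerHom W R
    have hn := StronglyClosed.le_normalizer hW
    have hle : R ⊔ W ≤ R := sup_le le_rfl hWR
    refine ⟨hφ, fun x hx => ⟨hRS hx, hn (hRS hx)⟩, fun x => ⟨map_mem_S hφ x, hn (map_mem_S hφ x)⟩,
      φ.comp (Subgroup.inclusion hle), res_mem hφ hle, fun x => ?_, ?_⟩
    · show φ (Subgroup.inclusion hle (Subgroup.inclusion le_sup_left x)) = φ x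
      congr 1
    · exact StronglyClosed.map_eq hW le_sup_right (res_mem hφ hle)
  have h2 := hNI W (Cfsg.Agent.Lib.Fusion.GoodLift.isFullyNormalized_of_stronglyClosed hW) hWc N
    (Cfsg.Agent.Lib.Fusion.LocalSystems.normalizerSystem_isNormalizerSystem F W hW.1) R
  rw [h2] at hmem
  obtain ⟨-, g, hg, hgx⟩ := hmem
  exact ⟨g, hg.1, hgx⟩

/-- The automorphisms moving elements inside `W`. -/
def KK (F : Cfsg.FusionSystem S) (W Q : Subgroup Ω) : Subgroup (F.autGroup Q) where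
  carrier := {δ | ∀ x : Q, (x : Ω)⁻¹ * ((δ : MulAut Q) x : Q) ∈ W}
  mul_mem' := by
    rintro a b ha hb x
    show (x : Ω)⁻¹ * ((a : MulAut Q) ((b : MulAut Q) x) : Q) ∈ W
    have h1 := W.mul_mem (hb x) (ha ((b : MulAut Q) x))
    simpa [mul_assoc] using h1
  one_mem' := fun x => by simp
  inv_mem' := by
    rintro a ha x
    show (x : Ω)⁻¹ * (((a : MulAut Q)⁻¹ x : Q) : Ω) ∈ W
    have hy : (a : MulAut Q) ((a : MulAut Q)⁻¹ x) = x := by simp
    have h1 := W.inv_mem (ha ((a : MulAut Q)⁻¹ x))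
    rw [hy] at h1
    simpa using h1

theorem KK_normal {W Q : Subgroup Ω} (hW : F.StronglyClosed W) (hQS : Q ≤ S) : (KK F W Q).Normal := by
  refine ⟨fun a ha g x => ?_⟩
  show (x : Ω)⁻¹ * ((g : MulAut Q) ((a : MulAut Q) (((g⁻¹ : F.autGroup Q) : MulAut Q) x)) : Q) ∈ W
  set y : Q := ((g⁻¹ : F.autGroup Q) : MulAut Q) x with hy
  have hgy : (g : MulAut Q) y = x := by simp [hy]
  have h1 := Cfsg.Agent.Lib.Fusion.GoodLift.aut_mem_T hW hQS g.2 (y⁻¹ * (a : MulAut Q) y) (ha y)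
  rw [map_mul, map_inv, hgy] at h1
  simpa using h1

/-- Every map agrees modulo `W` with a conjugation. -/
theorem le_innerMod (hS : IsPGroup p S) (hF : F.IsSaturated p) {n : ℕ} (hNI : NI F n) {W : Subgroup Ω}
    (hW : F.StronglyClosed W) (hWc : Nat.card W = n) (hn : ∀ g ∈ S, ∀ t ∈ W, g * t * g⁻¹ ∈ W) :
    F ≤ Cfsg.Agent.Lib.Fusion.Tate.innerModSystem F W hn := by
  refine Cfsg.Agent.Lib.Fusion.GoodLift.le_of_fn_centric hS hF (fun Q hQn hQc hIH => ?_)
  have hQS : Q ≤ S := hQn.1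
  by_cases hWQ : W ≤ Q
  · intro α hα
    have hφ := autGroup_mem_hom hQS hα
    obtain ⟨s, hs, hsx⟩ := conj_of_le hNI hW hWc hφ hWQ
    refine mem_autGroup_of_mem ⟨hφ, s, hs, fun a => ?_⟩
    rw [hsx a]
    have : (a : Ω)⁻¹ * (s⁻¹ * (s * (a : Ω) * s⁻¹) * s) = 1 := by group
    rw [this]
    exact W.one_mem
  · have hsup : Q ⊔ W ≤ S := sup_le hQS hW.1
    haveI : Finite ↥(Q ⊔ W) := finite_of_le hsup
    have hne : Q ≠ Q ⊔ W := fun e => hWQ (by rw [e]; exact le_sup_right)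
    have hlt := Cfsg.Agent.Lib.Fusion.Alperin.lt_normalizerIn (isPGroup_of_le hS hsup) (le_sup_left : Q ≤ Q ⊔ W) hne
    obtain ⟨y, hy, hyQ⟩ := SetLike.exists_of_lt hlt
    obtain ⟨q, hq, w, hw, e⟩ := Cfsg.Agent.Lib.Fusion.GroupSylow.exists_mul_of_mem_sup
      (hQS.trans (StronglyClosed.le_normalizer hW)) hy.1
    have hwN : w ∈ Subgroup.normalizer (Q : Set Ω) := by
      have h1 : w = q⁻¹ * y := by rw [e]; group
      rw [h1]
      exact Subgroup.mul_mem _ (Subgroup.inv_mem _ (Subgroup.le_normalizer hq)) hy.2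
    have hwQ : w ∉ Q := fun h => hyQ (by rw [e]; exact Q.mul_mem hq h)
    have hwS := hW.1 hw
    refine Cfsg.Agent.Lib.Fusion.GoodLift.autGroup_le_of_normal hS hF hQn hQc hIH (KK F W Q) (KK_normal hW hQS)
      hwS hwN hwQ ?_ (fun g hg _ => ?_)
    · intro x
      show (x : Ω)⁻¹ * (w * x * w⁻¹) ∈ W
      have h2 : (x : Ω)⁻¹ * (w * x * w⁻¹) = ((x : Ω)⁻¹ * w * x) * w⁻¹ := by group
      rw [h2]
      exact W.mul_mem (by
        have := hn _ (S.inv_mem (hQS x.2)) _ hw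
        simpa using this) (W.inv_mem hw)
    · refine mem_autGroup_of_mem ⟨autGroup_mem_hom hQS g.2, 1, S.one_mem, fun a => ?_⟩
      have := hg a
      simpa using this

/-- The hyperfocal subgroup lies in `W`. -/
theorem hyp_le (hS : IsPGroup p S) (hF : F.IsSaturated p) {n : ℕ} (hNI : NI F n) {W : Subgroup Ω}
    (hW : F.StronglyClosed W) (hWc : Nat.card W = n) : F.hyperfocalSubgroup p ≤ W := by
  classical
  have hn : ∀ g ∈ S, ∀ t ∈ W, g * t * g⁻¹ ∈ W := fun g hg t ht => StronglyClosed.conj_mem hW hg ht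
  have hle := le_innerMod hS hF hNI hW hWc hn
  refine hyperfocal_le fun P hP α hα x => ?_
  obtain ⟨hφ, h, hh, hc⟩ := hle P (autGroup_mem_hom hP α.2)
  have hc' : ∀ a : P, (a : Ω)⁻¹ * (h⁻¹ * ((α : MulAut P) a : P) * h) ∈ W := hc
  have key : ∀ (k : ℕ) (a : P), (a : Ω)⁻¹ * ((h ^ k)⁻¹ * (((α : MulAut P) ^ k) a : P) * h ^ k) ∈ W := by
    intro k
    induction k with
    | zero => intro a; simp
    | succ k ih =>
      intro a
      have h1 := ih a
      have h2 := hc' (((α : MulAut P) ^ k) a)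
      have h3 := hn _ (S.inv_mem (S.pow_mem hh k)) _ h2
      have h4 := W.mul_mem h1 (by simpa using h3)
      have e : (a : Ω)⁻¹ * ((h ^ k)⁻¹ * (((α : MulAut P) ^ k) a : P) * h ^ k) *
          ((h ^ k)⁻¹ * ((((α : MulAut P) ^ k) a : P) : Ω)⁻¹ * (h⁻¹ * ((α : MulAut P) (((α : MulAut P) ^ k) a) : P) * h) * h ^ k) =
          (a : Ω)⁻¹ * ((h ^ (k + 1))⁻¹ * (((α : MulAut P) ^ (k + 1)) a : P) * h ^ (k + 1)) := by
        rw [pow_succ' (α : MulAut P) k, pow_succ' h k]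
        simp only [MulAut.mul_apply]
        group
      rw [← e]
      simpa [mul_assoc] using h4
  obtain ⟨e, he⟩ := hS ⟨h, hh⟩
  have he' : h ^ p ^ e = 1 := by
    have := congrArg (fun t : S => (t : Ω)) he
    simpa using this
  have hcop : (orderOf α).Coprime (p ^ e) := hα.pow_right e
  let u : ℕ := Nat.chineseRemainder hcop 1 0
  have hu : u ≡ 1 [MOD orderOf α] ∧ u ≡ 0 [MOD p ^ e] := (Nat.chineseRemainder hcop 1 0).2
  have hαu : ((α : MulAut P)) ^ u = α := by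
    have h1 : α ^ u = α ^ 1 := (pow_eq_pow_iff_modEq).2 hu.1
    have h2 := congrArg (fun z : F.autGroup P => (z : MulAut P)) h1
    simpa using h2
  have hhu : h ^ u = 1 := by
    obtain ⟨t, ht⟩ := (Nat.modEq_zero_iff_dvd).1 hu.2
    rw [ht, pow_mul, he', one_pow]
  have := key u x
  rw [hαu, hhu] at this
  simpa using this

end mid

section final

variable {Ω : Type*} [Group Ω] {S : Subgroup Ω} [Finite S] {p : ℕ} [hp : Fact p.Prime] {F : Cfsg.FusionSystem S}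

open Cfsg.Agent.Lib.Fusion.Factor Cfsg.Agent.Lib.Fusion.FactorMorphism Cfsg.Agent.Lib.Fusion.FactorHyperfocal
open Cfsg.Agent.Lib.Fusion.Image

theorem card_lt {A B : Subgroup Ω} [Finite B] (h : A < B) : Nat.card A < Nat.card B :=
  lt_of_le_of_ne (Subgroup.card_le_of_le h.le) (fun e => h.ne (Subgroup.eq_of_le_of_card_ge h.le e.ge))

theorem hyp_le_of_central (hS : IsPGroup p S) (hF : F.IsSaturated p) {L₀ : Subgroup Ω} (hL : F.StronglyClosed L₀)
    (h1 : ∀ r ∈ F.hyperfocalSubgroup p, ∀ s ∈ S, r * s * r⁻¹ * s⁻¹ ∈ L₀)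
    (h2 : ∀ r ∈ F.hyperfocalSubgroup p, r ^ p ∈ L₀)
    (h3 : ∀ {R' : Subgroup Ω}, S ≤ R' → ∀ {φ : R' →* Ω}, φ ∈ F.Hom R' → ∃ s ∈ S, ∀ x : R', φ x = s * x * s⁻¹) :
    F.hyperfocalSubgroup p ≤ L₀ := by
  classical
  haveI hN : (L₀.subgroupOf S).Normal :=
    ⟨fun n hn g => Subgroup.mem_subgroupOf.2 (StronglyClosed.conj_mem hL g.2 (Subgroup.mem_subgroupOf.1 hn))⟩
  let θ : S →* (S ⧸ L₀.subgroupOf S) := QuotientGroup.mk' _
  have hker : ∀ s : S, θ s = 1 ↔ (s : Ω) ∈ L₀ := fun s => by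
    show ((s : S) : S ⧸ L₀.subgroupOf S) = 1 ↔ _
    rw [QuotientGroup.eq_one_iff, Subgroup.mem_subgroupOf]
  have hsur : Function.Surjective θ := QuotientGroup.mk'_surjective _
  have hrange : θ.range = ⊤ := MonoidHom.range_eq_top.2 hsur
  obtain ⟨E, hE⟩ := exists_isFactorSystem F hL θ hker hrange
  have hEsurj := isSurjectiveMorphism_of_isFactorSystem hS hF hL hE
  have hEsat := isSaturated_image hS hF hEsurj
  have hEhyp := hyperfocal_factor hS hF hL hE
  have hS' : IsPGroup p (⊤ : Subgroup (S ⧸ L₀.subgroupOf S)) := (hS.to_quotient _).to_subgroup _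
  have hRS : F.hyperfocalSubgroup p ≤ S := hyperfocal_le_S
  have hz : ∀ z ∈ E.hyperfocalSubgroup p, (∀ t : S ⧸ L₀.subgroupOf S, z * t = t * z) ∧ z ^ p = 1 := by
    intro z hz
    rw [hEhyp] at hz
    obtain ⟨r, hr, rfl⟩ := hz
    have hr' : (r : Ω) ∈ F.hyperfocalSubgroup p := Subgroup.mem_subgroupOf.1 hr
    refine ⟨fun t => ?_, ?_⟩
    · obtain ⟨s, rfl⟩ := hsur t
      have h4 := (hker (r * s * r⁻¹ * s⁻¹)).2 (by simpa using h1 r hr' s s.2)
      simp only [map_mul, map_inv] at h4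
      have h5 : θ r * θ s * (θ r)⁻¹ * (θ s)⁻¹ = 1 := h4
      calc θ r * θ s = (θ r * θ s * (θ r)⁻¹ * (θ s)⁻¹) * (θ s * θ r) := by group
        _ = θ s * θ r := by rw [h5, one_mul]
    · have h4 := (hker (r ^ p)).2 (by simpa using h2 r hr')
      rwa [map_pow] at h4
  suffices hbot : E.hyperfocalSubgroup p ≤ ⊥ by
    intro r hr
    have h4 : θ ⟨r, hRS hr⟩ ∈ E.hyperfocalSubgroup p := by
      rw [hEhyp]
      exact ⟨⟨r, hRS hr⟩, Subgroup.mem_subgroupOf.2 hr, rfl⟩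
    exact (hker ⟨r, hRS hr⟩).1 (Subgroup.mem_bot.1 (hbot h4))
  refine hyperfocal_le fun P hP α hα x => ?_
  by_contra hne
  set y : P := x⁻¹ * (α : MulAut P) x with hydef
  have hy : (y : S ⧸ L₀.subgroupOf S) ∈ E.hyperfocalSubgroup p :=
    Subgroup.subset_closure ⟨P, α, x, hP, Subgroup.subset_closure hα, rfl⟩
  have hαx : (α : MulAut P) x = x * y := by rw [hydef]; group
  have key : (α : MulAut P) y ≠ y := by
    intro hfix
    have hk : ∀ k : ℕ, ((α : MulAut P) ^ k) x = x * y ^ k := by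
      intro k
      induction k with
      | zero => simp
      | succ k ih =>
        rw [pow_succ', MulAut.mul_apply, ih, map_mul, map_pow, hfix, hαx, pow_succ', mul_assoc]
    have hyp1 : y ^ p = 1 := Subtype.ext (by simpa using (hz _ hy).2)
    have hpx : ((α : MulAut P) ^ p) x = x := by rw [hk, hyp1, mul_one]
    have hm : ∀ m : ℕ, ((α : MulAut P) ^ (p * m)) x = x := by
      intro m
      induction m with
      | zero => simp
      | succ m ih => rw [mul_add, mul_one, pow_add, MulAut.mul_apply, hpx, ih]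
    have ho : 0 < orderOf α := orderOf_pos α
    have hφ : 0 < Nat.totient (orderOf α) := Nat.totient_pos.2 ho
    have hmod : p ^ Nat.totient (orderOf α) ≡ 1 [MOD orderOf α] := Nat.ModEq.pow_totient hα.symm
    have h5 : α ^ (p ^ Nat.totient (orderOf α)) = α ^ 1 := (pow_eq_pow_iff_modEq).2 hmod
    have h6 : (α : MulAut P) ^ (p ^ Nat.totient (orderOf α)) = α := by
      have := congrArg (fun z : E.autGroup P => (z : MulAut P)) h5
      simpa using this
    have h7 : p ^ Nat.totient (orderOf α) = p * p ^ (Nat.totient (orderOf α) - 1) := by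
      rw [← pow_succ']
      congr 1
      omega
    have h8 := hm (p ^ (Nat.totient (orderOf α) - 1))
    rw [← h7, h6] at h8
    apply hne
    rw [h8]
    simp
  -- the cyclic subgroup generated by `y`
  let Y : Subgroup (S ⧸ L₀.subgroupOf S) := Subgroup.zpowers (y : S ⧸ L₀.subgroupOf S)
  have hYP : Y ≤ P := by
    rw [Subgroup.zpowers_le]
    exact y.2
  have hYh : Y ≤ E.hyperfocalSubgroup p := by
    rw [Subgroup.zpowers_le]
    exact hy
  have hAF := autGroup_mem_hom hP α.2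
  have hψ := res_mem hAF hYP
  set ψ : Y →* (S ⧸ L₀.subgroupOf S) := (P.subtype.comp (α : MulAut P).toMonoidHom).comp (Subgroup.inclusion hYP) with hψdef
  have hSC := stronglyClosed_hyperfocal hS' hEsat
  have hcent : ∀ {A : Subgroup (S ⧸ L₀.subgroupOf S)}, A ≤ E.hyperfocalSubgroup p →
      (⊤ : Subgroup (S ⧸ L₀.subgroupOf S)) ≤ centralizerIn ⊤ A := by
    intro A hA t _
    refine ⟨trivial, Subgroup.mem_centralizer_iff.2 fun a ha => ?_⟩
    exact (hz a (hA ha)).1 t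
  have hY'h : ψ.range ≤ E.hyperfocalSubgroup p := by
    rintro _ ⟨u, rfl⟩
    exact hSC.2 Y hYh ψ hψ u
  have hFC : E.IsFullyCentralized ψ.range := by
    refine ⟨le_top, fun Q _ => ?_⟩
    exact Subgroup.card_le_of_le ((le_top).trans (hcent hY'h))
  obtain ⟨ψh, hψh, hext⟩ := (fullyCentralized_receptive hS' hEsat hFC).2 Y ψ hψ rfl
  have htop : (⊤ : Subgroup (S ⧸ L₀.subgroupOf S)) ≤ extender ⊤ Y ψ :=
    (hcent hYh).trans centralizerIn_le_extender
  have hψ₁ := res_mem hψh htop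
  obtain ⟨-, φ, hφ, hind⟩ := (hE.2.2.2 ⊤ _).1 hψ₁
  have hSle : S ≤ preimageAlong θ ⊤ := fun a ha => ⟨⟨a, ha⟩, trivial, rfl⟩
  obtain ⟨s, hs, hsx⟩ := h3 hSle hφ
  obtain ⟨hP0, hφ0, hP0', hv⟩ := hind
  have hy2 := hy
  rw [hEhyp] at hy2
  obtain ⟨r, hr, hry⟩ := hy2
  have h10 := hv ⟨r, hSle r.2⟩
  have hθr : θ ⟨((⟨r, hSle r.2⟩ : preimageAlong θ ⊤) : Ω), hP0 (hSle r.2)⟩ = y := by
    rw [← hry]
  have h11 : (ψh.comp (Subgroup.inclusion htop)) ⟨θ ⟨((⟨r, hSle r.2⟩ : preimageAlong θ ⊤) : Ω), hP0 (hSle r.2)⟩, hP0' _⟩ =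
      ((α : MulAut P) y : P) := by
    have hyY : (y : S ⧸ L₀.subgroupOf S) ∈ Y := Subgroup.mem_zpowers _
    have e1 := hext (y : S ⧸ L₀.subgroupOf S) hyY (htop trivial)
    have e2 : ψ ⟨(y : S ⧸ L₀.subgroupOf S), hyY⟩ = ((α : MulAut P) y : P) := rfl
    rw [← e2, ← e1]
    show ψh _ = ψh _
    congr 1
    exact Subtype.ext hθr
  rw [h11] at h10
  have h12 : θ ⟨φ ⟨r, hSle r.2⟩, hφ0 ⟨r, hSle r.2⟩⟩ = θ ⟨s, hs⟩ * θ r * (θ ⟨s, hs⟩)⁻¹ := by
    rw [← map_inv, ← map_mul, ← map_mul]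
    congr 1
    exact Subtype.ext (hsx ⟨r, hSle r.2⟩)
  rw [h12] at h10
  have h13 : θ r = (y : S ⧸ L₀.subgroupOf S) := hry
  rw [h13, ← (hz _ hy).1, mul_assoc, mul_inv_cancel, mul_one] at h10
  exact key (Subtype.ext h10)

/-- A coatom above `L₀` not containing the hyperfocal subgroup, by Tate's theorem. -/
theorem exists_M (hS : IsPGroup p S) (hF : F.IsSaturated p) {L₀ : Subgroup Ω} (hL : F.StronglyClosed L₀)
    (hR : ¬ F.hyperfocalSubgroup p ≤ L₀) :
    ∃ M : Subgroup Ω, M ≤ S ∧ L₀ ≤ M ∧ ¬ F.hyperfocalSubgroup p ≤ M ∧ p * Nat.card M = Nat.card S ∧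
      (∀ s ∈ S, s ^ p ∈ M) ∧ ∀ s ∈ S, ∀ t ∈ S, s * t * s⁻¹ * t⁻¹ ∈ M := by
  classical
  haveI hN : (L₀.subgroupOf S).Normal :=
    ⟨fun n hn g => Subgroup.mem_subgroupOf.2 (StronglyClosed.conj_mem hL g.2 (Subgroup.mem_subgroupOf.1 hn))⟩
  let θ : S →* (S ⧸ L₀.subgroupOf S) := QuotientGroup.mk' _
  have hker : ∀ s : S, θ s = 1 ↔ (s : Ω) ∈ L₀ := fun s => by
    show ((s : S) : S ⧸ L₀.subgroupOf S) = 1 ↔ _
    rw [QuotientGroup.eq_one_iff, Subgroup.mem_subgroupOf]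
  have hsur : Function.Surjective θ := QuotientGroup.mk'_surjective _
  have hrange : θ.range = ⊤ := MonoidHom.range_eq_top.2 hsur
  obtain ⟨E, hE⟩ := exists_isFactorSystem F hL θ hker hrange
  have hEsurj := isSurjectiveMorphism_of_isFactorSystem hS hF hL hE
  have hEsat := isSaturated_image hS hF hEsurj
  have hEhyp := hyperfocal_factor hS hF hL hE
  have hS' : IsPGroup p (⊤ : Subgroup (S ⧸ L₀.subgroupOf S)) := (hS.to_quotient _).to_subgroup _
  have hRS : F.hyperfocalSubgroup p ≤ S := hyperfocal_le_S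
  obtain ⟨r₀, hr₀, hr₀L⟩ := SetLike.not_le_iff_exists.1 hR
  have hnotT : ¬ E.hyperfocalSubgroup p ≤ (frattini (⊤ : Subgroup (S ⧸ L₀.subgroupOf S))).map (⊤ : Subgroup (S ⧸ L₀.subgroupOf S)).subtype := by
    intro hle
    have h4 := Cfsg.Agent.Lib.Fusion.Tate.hyperfocal_le_of_le_frattini_sup (K := ⊥) hS' hEsat
      (fun g _ t ht => by rw [Subgroup.mem_bot] at ht ⊢; simp [ht]) bot_le (hle.trans le_sup_left)
    have h5 : θ ⟨r₀, hRS hr₀⟩ ∈ E.hyperfocalSubgroup p := by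
      rw [hEhyp]
      exact ⟨⟨r₀, hRS hr₀⟩, Subgroup.mem_subgroupOf.2 hr₀, rfl⟩
    exact hr₀L ((hker ⟨r₀, hRS hr₀⟩).1 (Subgroup.mem_bot.1 (h4 h5)))
  obtain ⟨y, hy, hyF⟩ := SetLike.not_le_iff_exists.1 hnotT
  have hyF' : (⟨y, trivial⟩ : (⊤ : Subgroup (S ⧸ L₀.subgroupOf S))) ∉ frattini (⊤ : Subgroup (S ⧸ L₀.subgroupOf S)) :=
    fun h => hyF ⟨_, h, rfl⟩
  rw [Cfsg.Agent.Lib.PGroup.FrattiniBasis.mem_frattini_iff] at hyF'
  push Not at hyF'
  obtain ⟨Mb, hMb, hyMb⟩ := hyF'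
  let π : S →* (⊤ : Subgroup (S ⧸ L₀.subgroupOf S)) := θ.codRestrict ⊤ (fun _ => trivial)
  have hπs : Function.Surjective π := fun t => by
    obtain ⟨a, ha⟩ := hsur t.1
    exact ⟨a, Subtype.ext ha⟩
  let M₁ : Subgroup S := Mb.comap π
  refine ⟨M₁.map S.subtype, ?_, ?_, ?_, ?_, ?_, ?_⟩
  · rintro _ ⟨a, -, rfl⟩
    exact a.2
  · intro l hl
    refine ⟨⟨l, hL.1 hl⟩, ?_, rfl⟩
    have h5 : π ⟨l, hL.1 hl⟩ = 1 := Subtype.ext ((hker ⟨l, hL.1 hl⟩).2 hl)
    show π ⟨l, hL.1 hl⟩ ∈ Mb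
    rw [h5]
    exact Mb.one_mem
  · intro hle
    have hy' := hy
    rw [hEhyp] at hy'
    obtain ⟨r, hr, rfl⟩ := hy'
    have h5 := hle (Subgroup.mem_subgroupOf.1 hr)
    obtain ⟨a, ha, hae⟩ := h5
    have h6 : a = r := Subtype.ext hae
    subst h6
    exact hyMb ha
  · have hidx : M₁.index = p := by
      have h5 : M₁.index = Mb.index := Subgroup.index_comap_of_surjective Mb hπs
      rw [h5]
      exact Cfsg.Agent.Lib.PGroup.FrattiniBasis.coatom_index hS' hMb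
    have h6 := Subgroup.card_mul_index M₁
    rw [hidx] at h6
    have h7 : Nat.card ↥(M₁.map S.subtype) = Nat.card M₁ :=
      Nat.card_congr (Subgroup.equivMapOfInjective M₁ S.subtype S.subtype_injective).toEquiv.symm
    rw [h7, mul_comm]
    exact h6
  · intro s hs
    refine ⟨⟨s, hs⟩ ^ p, ?_, by simp⟩
    show π (⟨s, hs⟩ ^ p) ∈ Mb
    rw [map_pow]
    exact Cfsg.Agent.Lib.PGroup.FrattiniBasis.pow_mem_coatom hS' hMb _
  · intro s hs t ht
    refine ⟨⟨s, hs⟩ * ⟨t, ht⟩ * ⟨s, hs⟩⁻¹ * ⟨t, ht⟩⁻¹, ?_, by simp⟩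
    show π (⟨s, hs⟩ * ⟨t, ht⟩ * ⟨s, hs⟩⁻¹ * ⟨t, ht⟩⁻¹) ∈ Mb
    simp only [map_mul, map_inv]
    exact Cfsg.Agent.Lib.PGroup.FrattiniBasis.commutator_le_coatom hS' hMb
      (Subgroup.commutator_mem_commutator (Subgroup.mem_top _) (Subgroup.mem_top _))

/-- The backward direction. -/
theorem backward (hS : IsPGroup p S) (hF : F.IsSaturated p) {D : Subgroup Ω} (hD1 : ⊥ < D) (hD2 : D < S)
    (hWE : ∀ Q : Subgroup Ω, Q ≤ S → Nat.card Q = Nat.card D → WE F Q) (hNI : NI F (Nat.card D)) :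
    F.hyperfocalSubgroup p ≤ ⊥ := by
  classical
  have hDS : D ≤ S := hD2.le
  haveI : Finite D := finite_of_le hDS
  obtain ⟨k, hk⟩ := IsPGroup.iff_card.1 (isPGroup_of_le hS hDS)
  obtain ⟨b, hb⟩ := IsPGroup.iff_card.1 hS
  have hp1 : 1 < p := hp.out.one_lt
  have hDlt : Nat.card D < Nat.card S := card_lt hD2
  have hkb : k < b := by
    rw [hk, hb] at hDlt
    exact (Nat.pow_lt_pow_iff_right hp1).1 hDlt
  rw [hk] at hNI
  have hWE' : ∀ Q : Subgroup Ω, Q ≤ S → Nat.card Q = p ^ k → WE F Q := fun Q hQ hc => hWE Q hQ (by rw [hc, hk])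
  by_contra hR
  have hSS : F.StronglyClosed S := ⟨le_rfl, fun R hR φ hφ x => map_mem_S hφ x⟩
  have hcS : p ^ k ≤ Nat.card S := by
    rw [← hk]
    exact hDlt.le
  obtain ⟨W, hWsc, -, hWc⟩ := exists_sc_card hS hF hWE' hSS hcS
  have hRW := hyp_le hS hF hNI hWsc hWc
  -- the largest strongly closed subgroup not containing the hyperfocal subgroup
  let sG : Set ℕ := {m | ∃ L : Subgroup Ω, F.StronglyClosed L ∧ ¬ F.hyperfocalSubgroup p ≤ L ∧ Nat.card L = m}
  have hGne : sG.Nonempty := ⟨_, ⊥, sc_bot, hR, rfl⟩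
  have hGb : BddAbove sG := ⟨Nat.card S, by
    rintro m ⟨L, hL, -, rfl⟩
    exact Subgroup.card_le_of_le hL.1⟩
  obtain ⟨L₀, hL₀, hL₀R, hL₀m⟩ := Nat.sSup_mem hGne hGb
  have hmax : ∀ A : Subgroup Ω, F.StronglyClosed A → ¬ F.hyperfocalSubgroup p ≤ A → L₀ ≤ A → A = L₀ := by
    intro A hA hAR hLA
    have h1 : Nat.card A ≤ sSup sG := le_csSup hGb ⟨A, hA, hAR, rfl⟩
    haveI : Finite A := finite_of_le hA.1
    exact (Subgroup.eq_of_le_of_card_ge hLA (by rw [hL₀m]; exact h1)).symm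
  haveI : Finite L₀ := finite_of_le hL₀.1
  have hL₀lt : Nat.card L₀ < p ^ k := by
    by_contra hcon
    obtain ⟨W₁, hW₁, hW₁L, hW₁c⟩ := exists_sc_card hS hF hWE' hL₀ (not_lt.1 hcon)
    exact hL₀R ((hyp_le hS hF hNI hW₁ hW₁c).trans hW₁L)
  obtain ⟨M, hMS, hLM, hRM, hMc, hMp, hMcomm⟩ := exists_M hS hF hL₀ hL₀R
  haveI : Finite M := finite_of_le hMS
  have hkM : p ^ k ≤ Nat.card M := by
    have h1 : p * p ^ k ≤ p * Nat.card M := by
      rw [hMc, hb, ← pow_succ']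
      exact Nat.pow_le_pow_right hp.out.pos hkb
    exact Nat.le_of_mul_le_mul_left h1 hp.out.pos
  have hRS : F.hyperfocalSubgroup p ≤ S := hyperfocal_le_S
  have hRSC := stronglyClosed_hyperfocal hS hF
  -- the key claim
  have hC : F.hyperfocalSubgroup p ⊓ M ≤ L₀ := by
    by_contra hcon
    let K₁ : Subgroup Ω := (F.hyperfocalSubgroup p ⊓ M) ⊔ L₀
    have hK₁M : K₁ ≤ M := sup_le inf_le_right hLM
    have hK₁S : K₁ ≤ S := hK₁M.trans hMS
    have hLK : L₀ ≤ K₁ := le_sup_right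
    have hne : L₀ ≠ K₁ := fun e => hcon (by rw [e]; exact le_sup_left)
    haveI : Finite K₁ := finite_of_le hK₁S
    have hlt : Nat.card L₀ < Nat.card K₁ := card_lt (lt_of_le_of_ne hLK hne)
    obtain ⟨a, ha⟩ := IsPGroup.iff_card.1 (isPGroup_of_le hS hL₀.1)
    obtain ⟨c, hc⟩ := IsPGroup.iff_card.1 (isPGroup_of_le hS hK₁S)
    have hac : a < c := by
      rw [ha, hc] at hlt
      exact (Nat.pow_lt_pow_iff_right hp1).1 hlt
    have hak : a < k := by
      rw [ha] at hL₀lt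
      exact (Nat.pow_lt_pow_iff_right hp1).1 hL₀lt
    obtain ⟨Q₀, hLQ₀, hQ₀K, hQ₀c⟩ := exists_between (k := a + 1) hS hLK hK₁S
      (by rw [ha]; exact Nat.pow_le_pow_right hp.out.pos (Nat.le_succ a))
      (by rw [hc]; exact Nat.pow_le_pow_right hp.out.pos hac)
    obtain ⟨Q, hQ₀Q, hQM, hQc⟩ := exists_between (k := k) hS (hQ₀K.trans hK₁M) hMS
      (by rw [hQ₀c]; exact Nat.pow_le_pow_right hp.out.pos hak) hkM
    have hQS : Q ≤ S := hQM.trans hMS
    have hLQ : L₀ ≤ Q := hLQ₀.trans hQ₀Q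
    haveI : Finite Q₀ := finite_of_le (hQ₀K.trans hK₁S)
    have hne₀ : L₀ < Q₀ := lt_of_le_of_ne hLQ₀ (fun e => by
      have : Nat.card L₀ = Nat.card Q₀ := by rw [e]
      rw [ha, hQ₀c] at this
      exact absurd ((Nat.pow_right_injective hp.out.two_le) this) (by omega))
    obtain ⟨y, hyQ₀, hyL⟩ := SetLike.exists_of_lt hne₀
    obtain ⟨r, hr, a₀, ha₀, hya⟩ := Cfsg.Agent.Lib.Fusion.GroupSylow.exists_mul_of_mem_sup
      ((inf_le_left.trans hRS).trans (StronglyClosed.le_normalizer hL₀)) (hQ₀K hyQ₀)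
    have hrQ : r ∈ Q := by
      have : r = y * a₀⁻¹ := by rw [hya]; group
      rw [this]
      exact Q.mul_mem (hQ₀Q hyQ₀) (Q.inv_mem (hLQ ha₀))
    have hrL : r ∉ L₀ := fun h => hyL (by rw [hya]; exact L₀.mul_mem h ha₀)
    obtain ⟨P, hP, hQP, hQiP⟩ := hWE' Q hQS hQc
    by_cases hA : F.hyperfocalSubgroup p ≤ P ⊔ L₀
    · obtain ⟨b', hb', a₁, ha₁, hrb⟩ := Cfsg.Agent.Lib.Fusion.GroupSylow.exists_mul_of_mem_sup
        (hP.1.trans (StronglyClosed.le_normalizer hL₀)) (hA hr.1)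
      have hbQ : b' ∈ Q := by
        have : b' = r * a₁⁻¹ := by rw [hrb]; group
        rw [this]
        exact Q.mul_mem hrQ (Q.inv_mem (hLQ ha₁))
      have hU := stronglyClosed_sup hS hF hL₀ hQiP
      have hUQ : L₀ ⊔ (Q ⊓ P) ≤ Q := sup_le hLQ inf_le_left
      have hUe := hmax _ hU (fun h => hRM (h.trans (hUQ.trans hQM))) le_sup_left
      have hbL : b' ∈ L₀ := by
        rw [← hUe]
        exact Subgroup.mem_sup_right ⟨hbQ, hb'⟩
      exact hrL (by rw [hrb]; exact L₀.mul_mem hbL ha₁)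
    · have hAe := hmax _ (stronglyClosed_sup hS hF hP hL₀) hA le_sup_right
      have hPL : P ≤ L₀ := by
        rw [← hAe]
        exact le_sup_left
      have hQe : Q ⊔ P = Q := sup_eq_left.2 (hPL.trans hLQ)
      rw [hQe] at hQP
      have h1 := hmax Q hQP (fun h => hRM (h.trans hQM)) hLQ
      exact hrL (h1 ▸ hrQ)
  -- conclusion
  apply hL₀R
  refine hyp_le_of_central hS hF hL₀ (fun r hr s hs => ?_) (fun r hr => ?_) ?_
  · refine hC ⟨?_, hMcomm r (hRS hr) s hs⟩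
    have h1 := StronglyClosed.conj_mem hRSC hs ((F.hyperfocalSubgroup p).inv_mem hr)
    have e : r * s * r⁻¹ * s⁻¹ = r * (s * r⁻¹ * s⁻¹) := by group
    rw [e]
    exact (F.hyperfocalSubgroup p).mul_mem hr h1
  · exact hC ⟨(F.hyperfocalSubgroup p).pow_mem hr p, hMp r (hRS hr)⟩
  · intro R' hSR' φ hφ
    exact conj_of_le hNI hWsc hWc hφ (hWsc.1.trans hSR')

end final


/-- A nilpotency criterion for fusion systems. Let F be a saturated fusion system over a finite p-group S of order at least p². Call a subgroup Q of S weakly embedded in F when there is a subgroup P of S strongly closed in F such that both the product QP and the intersection Q ∩ P are strongly closed in F. Then F is the inner fusion system of S if and only if there is a subgroup D of S with 1 < D < S such that every subgroup of S of the same order as D is weakly embedded in F and, for every fully normalized subgroup H of S of that order, the normalizer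 fusion system of H in F is the inner fusion system of N_S(H). -/
theorem result {Ω : Type*} [Group Ω] {S : Subgroup Ω} [Finite S] (p : ℕ) [Fact p.Prime] (hS : IsPGroup p ↥S) (F : Cfsg.FusionSystem S) (hF : F.IsSaturated p) (hcard : p ^ 2 ≤ Nat.card S) : (∀ P : Subgroup Ω, F.Hom P = (Cfsg.innerFusionSystem S).Hom P) ↔ ∃ D : Subgroup Ω, ⊥ < D ∧ D < S ∧ (∀ Q : Subgroup Ω, Q ≤ S → Nat.card ↥Q = Nat.card ↥D → ∃ P : Subgroup Ω, F.StronglyClosed P ∧ F.StronglyClosed (Q ⊔ P) ∧ F.StronglyClosed (Q ⊓ P)) ∧ (∀ H : Subgroup Ω, F.IsFullyNormalized H → Nat.card ↥H = Nat.card ↥D → ∀ N : Cfsg.FusionSystem (Cfsg.FusionSystem.normalizerIn S H), F.IsNormalizerSystem H N → ∀ P : Subgroup Ω, N.Hom P = (Cfsg.innerFusionSystem (Cfsg.FusionSystem.normalizerIn S H)).Hom P) := by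
  classical
  constructor
  · intro hin
    have hbS := IsPGroup.iff_card.1 hS
    obtain ⟨b, hb⟩ := hbS
    have hp1 : 1 < (p : ℕ) := (Fact.out : p.Prime).one_lt
    have hb2 : 2 ≤ b := by
      rw [hb] at hcard
      exact (Nat.pow_le_pow_iff_right hp1).1 hcard
    obtain ⟨K, hK⟩ := Sylow.exists_subgroup_card_pow_prime (G := S) p (n := b - 1)
      (by rw [hb]; exact pow_dvd_pow p (Nat.sub_le b 1))
    let D : Subgroup Ω := K.map S.subtype
    have hDc : Nat.card D = p ^ (b - 1) := by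
      rw [← hK]
      exact Nat.card_congr (Subgroup.equivMapOfInjective K S.subtype S.subtype_injective).toEquiv.symm
    have hDS : D ≤ S := by
      rintro _ ⟨a, -, rfl⟩
      exact a.2
    haveI : Finite D := finite_of_le hDS
    have hnormal : ∀ Q : Subgroup Ω, Q ≤ S → Nat.card Q = Nat.card D → ∀ g ∈ S, ∀ x ∈ Q, g * x * g⁻¹ ∈ Q := by
      intro Q hQS hQc g hg x hx
      have hidx : (Q.subgroupOf S).index = p := by
        have h1 := Subgroup.card_mul_index (Q.subgroupOf S)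
        have h2 : Nat.card (Q.subgroupOf S) = p ^ (b - 1) := by
          rw [← hDc, ← hQc]
          exact Nat.card_congr (Subgroup.subgroupOfEquivOfLe hQS).toEquiv
        rw [h2, hb] at h1
        have h3 : p ^ b = p ^ (b - 1) * p := by
          rw [← pow_succ]
          congr 1
          omega
        rw [h3] at h1
        exact Nat.eq_of_mul_eq_mul_left (pow_pos (Fact.out : p.Prime).pos _) h1
      have hNn : (Q.subgroupOf S).Normal := by
        refine Subgroup.normal_of_index_eq_minFac_card ?_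
        rw [hidx, hb, Nat.Prime.pow_minFac (Fact.out : p.Prime) (by omega)]
      have h1 := hNn.conj_mem ⟨x, hQS hx⟩ (Subgroup.mem_subgroupOf.2 hx) ⟨g, hg⟩
      exact Subgroup.mem_subgroupOf.1 h1
    refine ⟨D, ?_, ?_, ?_, ?_⟩
    · refine bot_lt_iff_ne_bot.2 fun h => ?_
      rw [h] at hDc
      have h1 : p ^ (b - 1) = 1 := by simpa using hDc.symm
      have h2 := Nat.pow_eq_one.1 h1
      rcases h2 with h2 | h2
      · exact hp1.ne' h2
      · omega
    · refine lt_of_le_of_ne hDS fun h => ?_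
      have h1 : Nat.card D = Nat.card S := by rw [h]
      rw [hDc, hb] at h1
      have := Nat.pow_right_injective (Fact.out : p.Prime).two_le h1
      omega
    · intro Q hQS hQc
      refine ⟨⊥, sc_bot, ?_, ?_⟩
      · rw [sup_bot_eq]
        refine ⟨hQS, fun R hR φ hφ x => ?_⟩
        rw [hin R] at hφ
        obtain ⟨-, g, hg, hgx⟩ := hφ
        rw [hgx x]
        exact hnormal Q hQS hQc g hg x (hR x.2)
      · rw [inf_bot_eq]
        exact sc_bot
    · intro H hH hHc N hN P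
      have hHS : H ≤ S := hH.1
      ext φ
      constructor
      · intro hφ
        rw [hN P] at hφ
        obtain ⟨hφF, hP, -, -⟩ := hφ
        rw [hin P] at hφF
        obtain ⟨-, g, hg, hgx⟩ := hφF
        refine ⟨hP, g, ⟨hg, Subgroup.mem_normalizer_iff.2 ?_⟩, hgx⟩
        intro x
        constructor
        · exact fun hx => hnormal H hHS hHc g hg x hx
        · intro hx
          have h2 := hnormal H hHS hHc g⁻¹ (S.inv_mem hg) _ hx
          simpa [mul_assoc] using h2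
      · rintro ⟨hP, g, hg, hgx⟩
        have : φ = conjHom P g := by
          ext x
          exact hgx x
        rw [this]
        exact N.conj_mem hP hg
  · rintro ⟨D, hD1, hD2, hWE, hNI⟩
    intro P
    exact Cfsg.Agent.Lib.Fusion.TateInner.hom_eq_inner_of_hyperfocal_le_bot hS hF
      (backward hS hF hD1 hD2 hWE hNI) P

end Cfsg.Agent.S5271
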