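import Cfsg.Statements.S5296
import Mathlib
import Cfsg.Agent.Lib.Fusion.SmallControl
-- import your own Cfsg.Agent.* helpers here

set_option autoImplicit false
universe u
open Cfsg

namespace Cfsg.Agent.S5296

/-- Small-exponent abelian subgroups of the hyperfocal subgroup control fusion. Let E and F be saturated fusion systems over the same finite p-group S with E contained in F. Suppose that E and F have the same maps between A and B for all subgroups A, B of the hyperfocal subgroup of F that are elementary abelian when p is odd, respectively abelian of exponent dividing 4 when p = 2. Then E = F. -/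
theorem result {Ω : Type u} [Group Ω] {S : Subgroup Ω} [Finite S] (p : ℕ) [Fact p.Prime] (hS : IsPGroup p S)
    (E F : Cfsg.FusionSystem S) (hE : E.IsSaturated p) (hF : F.IsSaturated p) (hEF : E.IsSubsystemOf F)
    (hodd : p ≠ 2 → ∀ A B : Subgroup Ω, A ≤ (F.hyperfocalSubgroup p) → B ≤ (F.hyperfocalSubgroup p) →
      Cfsg.IsElementaryAbelian p A → Cfsg.IsElementaryAbelian p B → E.homSet A B = F.homSet A B)
    (htwo : p = 2 → ∀ A B : Subgroup Ω, A ≤ (F.hyperfocalSubgroup p) → B ≤ (F.hyperfocalSubgroup p) →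
      IsMulCommutative ↥A → IsMulCommutative ↥B → (∀ a ∈ A, a ^ 4 = 1) → (∀ b ∈ B, b ^ 4 = 1) → E.homSet A B = F.homSet A B) :
    ∀ P : Subgroup Ω, E.Hom P = F.Hom P := by
  classical
  have hSm : ∀ A : Subgroup Ω, A ≤ F.hyperfocalSubgroup p → (∀ a ∈ A, ∀ b ∈ A, a * b = b * a) →
      (∀ a ∈ A, a ^ Cfsg.Agent.Lib.Fusion.SmallElements.smallExp p = 1) → ∀ φ : A →* Ω, φ ∈ F.Hom A → φ ∈ E.Hom A := by
    intro A hA hcomm hsmall φ hφ
    have hφv : ∀ x, φ x ∈ φ.range := fun x => ⟨x, rfl⟩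
    have hBh : φ.range ≤ F.hyperfocalSubgroup p := by
      rintro _ ⟨x, rfl⟩
      exact Cfsg.Agent.Lib.Fusion.FocalClosed.map_mem_of_stronglyClosed
        (Cfsg.Agent.Lib.Fusion.Hyperfocal.stronglyClosed_hyperfocal hS hF) hφ x (hA x.2)
    have hBcomm : ∀ a ∈ φ.range, ∀ b ∈ φ.range, a * b = b * a := by
      rintro _ ⟨x, rfl⟩ _ ⟨y, rfl⟩
      have h : x * y = y * x := Subtype.ext (hcomm _ x.2 _ y.2)
      rw [← map_mul, ← map_mul, h]
    have hBsm : ∀ b ∈ φ.range, b ^ Cfsg.Agent.Lib.Fusion.SmallElements.smallExp p = 1 := by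
      rintro _ ⟨x, rfl⟩
      have h : x ^ Cfsg.Agent.Lib.Fusion.SmallElements.smallExp p = 1 := Subtype.ext (hsmall _ x.2)
      rw [← map_pow, h, map_one]
    have hAc : IsMulCommutative A := ⟨⟨fun a b => Subtype.ext (hcomm _ a.2 _ b.2)⟩⟩
    have hBc : IsMulCommutative φ.range := ⟨⟨fun a b => Subtype.ext (hBcomm _ a.2 _ b.2)⟩⟩
    have hmem : φ ∈ F.homSet A φ.range := ⟨hφ, hφv⟩
    by_cases hp2 : p = 2
    · have e : Cfsg.Agent.Lib.Fusion.SmallElements.smallExp p = 4 := by
        rw [hp2]; exact Cfsg.Agent.Lib.Fusion.SmallElements.smallExp_of_two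
      rw [e] at hsmall hBsm
      have h := htwo hp2 A φ.range hA hBh hAc hBc hsmall hBsm
      rw [← h] at hmem
      exact hmem.1
    · have e : Cfsg.Agent.Lib.Fusion.SmallElements.smallExp p = p :=
        Cfsg.Agent.Lib.Fusion.SmallElements.smallExp_of_ne hp2
      rw [e] at hsmall hBsm
      have h := hodd hp2 A φ.range hA hBh ⟨hAc, hsmall⟩ ⟨hBc, hBsm⟩
      rw [← h] at hmem
      exact hmem.1
  intro P
  exact Set.Subset.antisymm (hEF P) (Cfsg.Agent.Lib.Fusion.SmallControl.le_of_small hS hE hF hEF hSm P)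

end Cfsg.Agent.S5296
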