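import Cfsg.Statements.S5279
import Mathlib
import Cfsg.Agent.S5246
import Cfsg.Agent.Lib.PGroup.StableControl
-- import your own Cfsg.Agent.* helpers here

set_option autoImplicit false
open Cfsg

namespace Cfsg.Agent.S5279

/-- Let p be an odd prime, G a finite group with a nontrivial Sylow p-subgroup P, and F the fusion system of G on P. Suppose F is p-stable: for every fully normalized subgroup Q and every χ in Aut_F(Q) acting quadratically on Q (χ(a⁻¹)·a·χ(a⁻¹)·χ(χ(a)) = 1 for all a in Q), χ lies in O_p(Aut_F(Q)). Then some nontrivial subgroup of P is normal in F. -/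
theorem result {Ω : Type*} [Group Ω] [Finite Ω] (p : ℕ) [Fact p.Prime] (hp : p ≠ 2) (P : Sylow p Ω) (hP : (P : Subgroup Ω) ≠ ⊥) (hst : (∀ Q : Subgroup Ω, (Cfsg.groupFusionSystem (P : Subgroup Ω)).IsFullyNormalized Q → ∀ χ : MulAut ↥Q, χ ∈ (Cfsg.groupFusionSystem (P : Subgroup Ω)).autGroup Q → (∀ a : ↥Q, (χ a⁻¹) * a * (χ a⁻¹) * (χ (χ a)) = 1) → χ ∈ ((Cfsg.pCore p ↥((Cfsg.groupFusionSystem (P : Subgroup Ω)).autGroup Q)).map ((Cfsg.groupFusionSystem (P : Subgroup Ω)).autGroup Q).subtype : Subgroup (MulAut ↥Q)))) : (Cfsg.groupFusionSystem (P : Subgroup Ω)).core ≠ ⊥ := by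
  classical
  have hstN : Cfsg.IsNormalizerPStable p Ω := (Cfsg.Agent.S5246.result hp P).2 hst
  set Z : Subgroup Ω := Cfsg.Agent.Lib.PGroup.ZJ.ZZ 0 (P : Subgroup Ω) with hZ
  have hZne : Z ≠ ⊥ :=
    Cfsg.Agent.Lib.PGroup.ZJControl.ZZ_ne_bot (Or.inl rfl) P.isPGroup' hP
  have hZP : Z ≤ (P : Subgroup Ω) := Cfsg.Agent.Lib.PGroup.ZJ.ZZ_le_self 0 _
  have hnorm : (Cfsg.groupFusionSystem (P : Subgroup Ω)).IsNormal Z := by
    refine ⟨hZP, fun R φ hφ => ?_⟩
    obtain ⟨hRP, hφP, g, hg⟩ := hφ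
    have hctrl := Cfsg.Agent.Lib.PGroup.StableControl.controls_of_stable hp hstN P (R : Set Ω)
      (fun x hx => hRP hx)
    obtain ⟨x, hx, hxg⟩ := hctrl.2 g (by
      rintro _ ⟨r, hr, rfl⟩
      have := hφP ⟨r, hr⟩
      rw [hg] at this
      exact this)
    have hxZ : ∀ z ∈ Z, x * z * x⁻¹ ∈ Z := fun z hz =>
      (Subgroup.mem_normalizer_iff.1 hx z).1 hz
    have hxZ' : ∀ z ∈ Z, x⁻¹ * z * x ∈ Z := fun z hz => by
      have := (Subgroup.mem_normalizer_iff.1 hx (x⁻¹ * z * x)).2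
      apply this
      simpa [mul_assoc] using hz
    have hsupP : R ⊔ Z ≤ (P : Subgroup Ω) := sup_le hRP hZP
    have hval : ∀ y ∈ R ⊔ Z, x * y * x⁻¹ ∈ (P : Subgroup Ω) := by
      intro y hy
      have hle : R ⊔ Z ≤ ((P : Subgroup Ω)).comap (MulAut.conj x).toMonoidHom := by
        refine sup_le ?_ ?_
        · intro r hr
          show x * r * x⁻¹ ∈ (P : Subgroup Ω)
          rw [← hxg r hr]
          have := hφP ⟨r, hr⟩
          rw [hg] at this
          exact this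
        · intro z hz
          exact hZP (hxZ z hz)
      exact hle hy
    refine ⟨Cfsg.conjHom (R ⊔ Z) x, ⟨hsupP, fun y => hval y y.2, x, fun y => rfl⟩, ?_, ?_⟩
    · intro r
      show x * (r : Ω) * x⁻¹ = φ r
      rw [hg, hxg r r.2]
    · apply le_antisymm
      · rintro _ ⟨⟨y, hy⟩, hyZ, rfl⟩
        exact hxZ y hyZ
      · intro z hz
        refine ⟨⟨x⁻¹ * z * x, Subgroup.mem_sup_right (hxZ' z hz)⟩, hxZ' z hz, ?_⟩
        show x * (x⁻¹ * z * x) * x⁻¹ = z
        group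
  intro hcore
  apply hZne
  rw [eq_bot_iff, ← hcore]
  exact le_sSup hnorm

end Cfsg.Agent.S5279
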