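import Cfsg.Statements.S5299
import Mathlib
import Cfsg.Agent.Lib.Fusion.Basic
-- import your own Cfsg.Agent.* helpers here

set_option autoImplicit false
universe u
open Cfsg

namespace Cfsg.Agent.S5299

/-- An injective map `A → Z` with a surjection `A → X` shows that `X` is involved in `Z`. -/
theorem involves_of_inj_surj {A Z X : Type*} [Group A] [Group Z] [Group X] (χ : A →* Z)
    (hχ : Function.Injective χ) (σ : A →* X) (hσ : Function.Surjective σ) : Cfsg.Involves X Z := by
  let e := MonoidHom.ofInjective hχ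
  let ρ : χ.range →* X := σ.comp e.symm.toMonoidHom
  have hρ : Function.Surjective ρ := hσ.comp e.symm.surjective
  let R : Subgroup Z := ρ.ker.map χ.range.subtype
  have hR : R.subgroupOf χ.range = ρ.ker := by
    ext x
    rw [Subgroup.mem_subgroupOf]
    constructor
    · rintro ⟨y, hy, hye⟩
      have : y = x := Subtype.ext hye
      rwa [← this]
    · intro hx
      exact ⟨x, hx, rfl⟩
  haveI hn : (R.subgroupOf χ.range).Normal := by
    rw [hR]
    infer_instance
  refine ⟨χ.range, R, hn, ⟨?_⟩⟩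
  exact (QuotientGroup.quotientMulEquivOfEq hR).trans (QuotientGroup.quotientKerEquivOfSurjective ρ hρ)

/-- From a section: a surjection from a subgroup. -/
theorem exists_subgroup_surj {H L : Type*} [Group H] [Group L] (h : Cfsg.Involves H L) :
    ∃ (K : Subgroup L) (π : K →* H), Function.Surjective π := by
  obtain ⟨K, R, hn, ⟨e⟩⟩ := h
  exact ⟨K, e.toMonoidHom.comp (QuotientGroup.mk' _),
    e.surjective.comp (QuotientGroup.mk'_surjective _)⟩

variable {p : ℕ} [Fact p.Prime]

/-- A Sylow subgroup of a section: a surjection from a Sylow subgroup of the group onto a `p`-group. -/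
theorem exists_pgroup_surj {K Q : Type*} [Group K] [Finite K] [Group Q] (hQ : IsPGroup p Q) (π : K →* Q)
    (hπ : Function.Surjective π) (P : Sylow p K) : Function.Surjective (π.comp (P : Subgroup K).subtype) := by
  have h1 : (P : Subgroup K).map π = ⊤ := by
    have h3 : IsPGroup p (⊤ : Subgroup Q) := IsPGroup.of_equiv hQ (Subgroup.topEquiv).symm
    have h4 := (P.mapSurjective hπ).is_maximal' h3 le_top
    have h5 : (P.mapSurjective hπ : Subgroup Q) = (P : Subgroup K).map π := rfl
    rw [← h5, ← h4]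
  intro y
  have : y ∈ (P : Subgroup K).map π := h1 ▸ Subgroup.mem_top y
  obtain ⟨x, hx, rfl⟩ := this
  exact ⟨⟨x, hx⟩, rfl⟩

/-- Let F be a saturated fusion system over a finite p-group S, H a finite group and Q a p-subgroup of H. If Q is not involved in S (no section of S is isomorphic to Q), then F is H-free: H is involved in no model of the normalizer system of a fully normalized centric subgroup. -/
theorem result {Ω : Type u} [Group Ω] {S : Subgroup Ω} [Finite S] (p : ℕ) [Fact p.Prime] (hS : IsPGroup p S)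
    (F : Cfsg.FusionSystem S) (hF : F.IsSaturated p) (H : Type*) [Group H] [Finite H] (Q : Subgroup H) (hQ : IsPGroup p Q)
    (hfree : ¬ Cfsg.Involves (↥Q) (↥S)) : F.IsSectionFree p H := by
  intro Q₀ _ _ N _ L _ ι hmod hinv
  obtain ⟨hfin, hreal, ⟨T, hT⟩, -⟩ := hmod
  haveI := hfin
  obtain ⟨K, π, hπ⟩ := exists_subgroup_surj hinv
  -- the preimage of `Q`
  let K₁ : Subgroup K := Q.comap π
  let π₁ : K₁ →* Q := (π.comp K₁.subtype).codRestrict Q (fun x => x.2)
  have hπ₁ : Function.Surjective π₁ := by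
    rintro ⟨y, hy⟩
    obtain ⟨x, rfl⟩ := hπ y
    exact ⟨⟨x, hy⟩, rfl⟩
  obtain ⟨P₁⟩ : Nonempty (Sylow p K₁) := inferInstance
  have hσ := exists_pgroup_surj hQ π₁ hπ₁ P₁
  -- embed `P₁` in `S`
  let e₀ : (P₁ : Subgroup K₁) →* L := K.subtype.comp (K₁.subtype.comp (P₁ : Subgroup K₁).subtype)
  have he₀ : Function.Injective e₀ :=
    K.subtype_injective.comp (K₁.subtype_injective.comp (P₁ : Subgroup K₁).subtype_injective)
  have hp₀ : IsPGroup p e₀.range := by
    have h1 : IsPGroup p ((⊤ : Subgroup (P₁ : Subgroup K₁)).map e₀) :=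
      IsPGroup.map (IsPGroup.of_equiv P₁.isPGroup' (Subgroup.topEquiv).symm) e₀
    rwa [← MonoidHom.range_eq_map] at h1
  obtain ⟨U, hU⟩ := hp₀.exists_le_sylow
  obtain ⟨g, hg⟩ := MulAction.exists_smul_eq L U T
  let e₁ : (P₁ : Subgroup K₁) →* L := (MulAut.conj g).toMonoidHom.comp e₀
  have he₁ : Function.Injective e₁ := (MulAut.conj g).injective.comp he₀
  have hval : ∀ x, e₁ x ∈ ι.range := by
    intro x
    rw [← hT, ← hg, Sylow.coe_subgroup_smul]
    exact ⟨e₀ x, hU ⟨x, rfl⟩, rfl⟩
  let e₂ : (P₁ : Subgroup K₁) →* ↥(Cfsg.FusionSystem.normalizerIn S Q₀) :=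
    (MonoidHom.ofInjective hreal.1).symm.toMonoidHom.comp (e₁.codRestrict ι.range hval)
  have he₂ : Function.Injective e₂ := by
    intro a b hab
    apply he₁
    have h1 := congrArg (MonoidHom.ofInjective hreal.1) hab
    simp only [e₂, MonoidHom.comp_apply, MulEquiv.coe_toMonoidHom, MulEquiv.apply_symm_apply] at h1
    exact congrArg Subtype.val h1
  let e₃ : (P₁ : Subgroup K₁) →* S :=
    (Subgroup.inclusion (inf_le_left : Cfsg.FusionSystem.normalizerIn S Q₀ ≤ S)).comp e₂
  have he₃ : Function.Injective e₃ :=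
    (Subgroup.inclusion_injective (inf_le_left : Cfsg.FusionSystem.normalizerIn S Q₀ ≤ S)).comp he₂
  exact hfree (involves_of_inj_surj e₃ he₃ _ hσ)

end Cfsg.Agent.S5299
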