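import Cfsg.Statements.S5309
import Cfsg.Agent.Lib.Fusion.FitBasic
import Mathlib
-- import your own Cfsg.Agent.* helpers here

set_option autoImplicit false
open Cfsg

namespace Cfsg.Agent.S5309

/-- Self-centralizing property of the generalized Fitting subsystem. Let F be a saturated fusion system over a finite p-group S and D a generalized Fitting subsystem of F, over U. Then the centre of D is the largest subgroup Y of C_S(U) centralized by D in F, in the sense that every map of D extends to a map of F fixing Y elementwise: the centre of D is such a subgroup, and every such Y lies in the centre of D. -/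
theorem result {Ω : Type*} [Group Ω] {S : Subgroup Ω} [Finite S] (p : ℕ) [Fact p.Prime] (hS : IsPGroup p S) (F : Cfsg.FusionSystem S) (hF : F.IsSaturated p)
    {U : Subgroup Ω} (D : Cfsg.FusionSystem U) (hD : D.IsGeneralizedFittingOf F p) :
    (D.center ≤ Cfsg.FusionSystem.centralizerIn S U ∧ ∀ P : Subgroup Ω, D.Hom P ⊆ F.centralizerHom D.center P) ∧
      ∀ Y : Subgroup Ω, Y ≤ Cfsg.FusionSystem.centralizerIn S U →
        (∀ P : Subgroup Ω, D.Hom P ⊆ F.centralizerHom Y P) → Y ≤ D.center := by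
  classical
  obtain ⟨T, E, hL, D₀, hD₀, Z, θ, hZ, -, -, h1, h2, hfac⟩ := hD
  have h : Cfsg.Agent.Lib.Fusion.FitBasic.CPData (Cfsg.innerFusionSystem F.core) E D D₀ Z θ := ⟨hD₀, hZ, h1, h2, hfac⟩
  have hQn := Cfsg.Agent.Lib.Fusion.Joins.isNormal_core F
  have hQS : F.core ≤ S := hQn.1
  have hE := hL.1
  have hTS : T ≤ S := hE.1.2.2.2.1.1
  haveI : Finite T := Cfsg.Agent.Lib.Fusion.Basic.finite_of_le hTS
  haveI : Finite F.core := Cfsg.Agent.Lib.Fusion.Basic.finite_of_le hQS
  haveI : Finite ↥(F.core.prod T) := Finite.of_equiv _ (Subgroup.prodEquiv F.core T).symm.toEquiv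
  have hDF : D.IsSubsystemOf F := Cfsg.Agent.Lib.Fusion.FitBasic.le_of_cp hS hF hL h
  have hUS : U ≤ S := h.le_sup.trans (sup_le hQS hTS)
  haveI : Finite U := Cfsg.Agent.Lib.Fusion.Basic.finite_of_le hUS
  have hEU : E.IsSubsystemOf D := h.right_sub
  constructor
  · have hc := Cfsg.Agent.Lib.Fusion.Joins.isCentral_center D
    have hcz := D.center_le_centralizer
    have hzU : D.center ≤ U := hc.1
    have hzC : D.center ≤ Cfsg.FusionSystem.centralizerIn S U := fun z hz => ⟨hUS (hzU hz), hcz hz⟩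
    refine ⟨hzC, fun P φ hφ => ?_⟩
    obtain ⟨ψ, hψ, hψa, hψb⟩ := hc.2 P φ hφ
    have hle : U ≤ Cfsg.FusionSystem.centralizerIn S D.center := fun u hu =>
      ⟨hUS hu, Subgroup.mem_centralizer_iff.2 fun z hz =>
        (Subgroup.mem_centralizer_iff.1 (hcz hz) u hu).symm⟩
    exact ⟨hDF P hφ, (Cfsg.Agent.Lib.Fusion.Basic.source_le hφ).trans hle,
      fun x => hle (Cfsg.Agent.Lib.Fusion.Basic.map_mem_S hφ x), ψ, hDF _ hψ, hψa, hψb⟩
  · intro Y hYC hY
    have hTU := h.right_le
    have hQU := h.left_le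
    have hYT : Y ≤ Cfsg.FusionSystem.centralizerIn S T := fun y hy =>
      ⟨(hYC hy).1, Subgroup.centralizer_le hTU (hYC hy).2⟩
    have hYQ' : Y ≤ Cfsg.FusionSystem.centralizerIn S F.core := fun y hy =>
      ⟨(hYC hy).1, Subgroup.centralizer_le hQU (hYC hy).2⟩
    have hYQ : Y ≤ F.core :=
      Cfsg.Agent.Lib.Fusion.FitBasic.le_core_of_fit p hS hF hL hYT (fun P => (hEU P).trans (hY P)) hYQ'
    refine le_sSup (show D.IsCentral Y from ⟨hYQ.trans hQU, fun P φ hφ => ?_⟩)
    obtain ⟨-, -, -, ψ, hψ, hψa, hψb⟩ := hY P hφ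
    refine ⟨ψ, ?_, hψa, hψb⟩
    exact Cfsg.Agent.Lib.Fusion.FitBasic.ext_mem h hYQ
      (fun y hy q hq => (Subgroup.mem_centralizer_iff.1 (hYQ' hy).2 q hq).symm)
      (fun y hy t ht => (Subgroup.mem_centralizer_iff.1 (hYT hy).2 t ht).symm) hφ hψa hψb

end Cfsg.Agent.S5309
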