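import Cfsg.Statements.S5316
import Cfsg.Agent.Lib.Fusion.MaxClassE8
import Cfsg.Agent.Lib.Fusion.EssentialCube
import Cfsg.Agent.S5185
-- import your own Cfsg.Agent.* helpers here

set_option autoImplicit false
open Cfsg

namespace Cfsg.Agent.S5316

/-- Let p ≥ 5 be a prime, S a finite p-group of maximal class of order p^n with n ≥ 5 (nilpotency class n − 1), F a saturated fusion system over S, and E an F-essential subgroup that is not a pearl (not elementary abelian of order p² and not extraspecial of order p³ and exponent p). Then E has order at least p⁴. -/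
theorem result {Ω : Type*} [Group Ω] {S : Subgroup Ω} [Finite S] (p : ℕ) [Fact p.Prime] (hp : 5 ≤ p) (hS : IsPGroup p ↥S) (n : ℕ) (hn : Nat.card S = p ^ n) (h5 : 5 ≤ n)
    (hmax : Subgroup.lowerCentralSeries S (n - 2) ≠ ⊥) (F : Cfsg.FusionSystem S) (hF : F.IsSaturated p)
    (E : Subgroup Ω) (hE : F.IsEssential p E)
    (hnp : ¬ ((Nat.card ↥E = p ^ 2 ∧ Cfsg.IsElementaryAbelian p E) ∨ (Nat.card ↥E = p ^ 3 ∧ Cfsg.IsExtraspecial p ↥E ∧ Monoid.exponent ↥E = p))) :
    p ^ 4 ≤ Nat.card ↥E := by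
  classical
  by_contra hlt
  push Not at hlt
  have hp' : p.Prime := Fact.out
  have hES : E ≤ S := hE.1.1
  have hfE : Finite E := Set.Finite.subset (Set.toFinite (S : Set Ω)) hES
  have hEp : IsPGroup p E := by
    intro x
    obtain ⟨k, hk⟩ := hS ⟨x, hES x.2⟩
    refine ⟨k, ?_⟩
    apply Subtype.ext
    have := congrArg (fun q : ↥S => (q : Ω)) hk
    simpa using this
  obtain ⟨k, hk⟩ := IsPGroup.iff_card.1 hEp
  have hk4 : k < 4 := by
    rw [hk] at hlt
    exact (Nat.pow_lt_pow_iff_right hp'.one_lt).1 hlt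
  obtain ⟨m, rfl⟩ : ∃ m, n = m + 4 := ⟨n - 4, by omega⟩
  have hm : 1 ≤ m := by omega
  have hmax' : Subgroup.lowerCentralSeries (⊤ : Subgroup ↥S) (m + 4 - 2) ≠ ⊥ := by
    intro h
    apply hmax
    rw [← Subgroup.top_subtype_lowerCentralSeries, h, Subgroup.map_bot]
  have h : Cfsg.Agent.Lib.PGroup.MaxClass.MC ↥S p (m + 4) := ⟨hn, by omega, hmax'⟩
  have hk3 : k = 3 ∨ k = 2 ∨ k ≤ 1 := by omega
  rcases hk3 with rfl | rfl | hk1
  · rcases Cfsg.Agent.Lib.Fusion.EssentialCube.essential_cube hS hE hk with h1 | ⟨-, hext, hexp⟩ | ⟨h2, -⟩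
    · refine Cfsg.Agent.Lib.Fusion.MaxClassE8.no_cube hS hF h hm hp hE ?_ h1.2 hk
      intro s hs t ht
      have := h1.1.is_comm.comm ⟨s, hs⟩ ⟨t, ht⟩
      simpa using congrArg Subtype.val this
    · refine hnp (Or.inr ⟨hk, hext, ?_⟩)
      have hnt : Nontrivial ↥E := by
        refine Finite.one_lt_card_iff_nontrivial.1 ?_
        rw [hk]
        exact Nat.one_lt_pow (by norm_num) hp'.one_lt
      refine (Monoid.exponent_eq_prime_iff hp').2 ?_
      intro g hg
      refine orderOf_eq_prime ?_ hg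
      apply Subtype.ext
      simpa using hexp g g.2
    · omega
  · exact hnp (Or.inl ⟨hk, (Cfsg.Agent.S5185.result p hS F hF E hE hk).1⟩)
  · -- small cases
    have hZ1 : Cfsg.Agent.Lib.Fusion.MaxClassE5.ZZ S (m + 2) ≤ E := by
      intro c hc
      refine hE.1.2 E (Cfsg.Agent.Lib.Fusion.Basic.IsConj.refl hE.1.1)
        ⟨Cfsg.Agent.Lib.Fusion.MaxClassE5.ZZ_le _ hc, Subgroup.mem_centralizer_iff.2 fun y hy => ?_⟩
      have h1 := Cfsg.Agent.Lib.Fusion.MaxClassE5.ZZ_last h hc (hE.1.1 hy)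
      calc y * c = (y * c * y⁻¹) * y := by group
        _ = c * y := by rw [h1]
    have hc1 : Nat.card (Cfsg.Agent.Lib.Fusion.MaxClassE5.ZZ S (m + 2)) = p := by
      have h2 := Cfsg.Agent.Lib.Fusion.MaxClassE8.ZZ_card h (j := m + 2) (by omega) (by omega)
      rwa [show m + 3 - (m + 2) = 1 by omega, pow_one] at h2
    have hle := Subgroup.card_le_of_le hZ1
    rw [hc1, hk] at hle
    have hk' : k = 1 := by
      rcases Nat.lt_or_ge k 1 with h0 | h0
      · have : k = 0 := by omega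
        subst this
        simp at hle
        have := hp'.two_le
        omega
      · omega
    subst hk'
    have hEq : Cfsg.Agent.Lib.Fusion.MaxClassE5.ZZ S (m + 2) = E :=
      Subgroup.eq_of_le_of_card_ge hZ1 (by rw [hk, hc1, pow_one])
    have hSE : S ≤ E := by
      intro g hg
      refine hE.1.2 E (Cfsg.Agent.Lib.Fusion.Basic.IsConj.refl hE.1.1)
        ⟨hg, Subgroup.mem_centralizer_iff.2 fun y hy => ?_⟩
      rw [← hEq] at hy
      have h1 := Cfsg.Agent.Lib.Fusion.MaxClassE5.ZZ_last h hy hg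
      calc y * g = (g * y * g⁻¹) * g := by rw [h1]
        _ = g * y := by group
    have hcS := Subgroup.card_le_of_le hSE
    rw [hn, hk, pow_one] at hcS
    have : p ^ 1 < p ^ (m + 4) := Nat.pow_lt_pow_right hp'.one_lt (by omega)
    rw [pow_one] at this
    omega

end Cfsg.Agent.S5316
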