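import Cfsg.Statements.S5343
import Mathlib
import Cfsg.Agent.Lib.Fusion.RealizedNormal
import Cfsg.Agent.Lib.Fusion.ModelQuot
-- import your own Cfsg.Agent.* helpers here

set_option autoImplicit false
universe u
open Cfsg

namespace Cfsg.Agent.S5343


open Cfsg.FusionSystem Cfsg.Agent.Lib.Fusion.Basic Cfsg.Agent.Lib.Fusion.RealizedNormal

theorem main_aux {Ω : Type u} [Group Ω] {S : Subgroup Ω} [Finite S] (p : ℕ) [Fact p.Prime] (hS : IsPGroup p S) (F : Cfsg.FusionSystem S) (hsimple : F.IsSimple p) (n : ℕ) :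
    ∀ (G : Type u) [Group G] [Finite G] (ι : ↥S →* G), Nat.card G = n → F.IsRealizedBy ι →
      (∃ T : Sylow p G, (T : Subgroup G) = ι.range) →
      ∃ (G' : Type u) (_ : Group G') (_ : Finite G') (_ : IsSimpleGroup G') (ι' : ↥S →* G'), F.IsRealizedBy ι' ∧ ∃ T : Sylow p G', (T : Subgroup G') = ι'.range := by
  induction n using Nat.strong_induction_on with
  | _ n ih =>
  intro G _ _ ι hn hreal ⟨Y, hY⟩
  obtain ⟨hsat, hSne, hsimp⟩ := hsimple
  have hnt : Nontrivial G := by
    by_contra hcon
    rw [not_nontrivial_iff_subsingleton] at hcon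
    apply hSne
    rw [eq_bot_iff]
    intro x hx
    have h1 : ι ⟨x, hx⟩ = ι 1 := Subsingleton.elim _ _
    have h2 := hreal.1 h1
    exact Subgroup.mem_bot.2 (congrArg (fun t : S => (t : Ω)) h2)
  by_cases hall : ∀ N : Subgroup G, N.Normal → N = ⊥ ∨ N = ⊤
  · exact ⟨G, inferInstance, inferInstance, ⟨hall⟩, ι, hreal, Y, hY⟩
  push Not at hall
  obtain ⟨N, hN, hbot, htop⟩ := hall
  have hnorm := isNormalIn_subSystem hY hreal N Y rfl hsat
  rcases hsimp _ _ hnorm with hT | ⟨hT, hEF⟩
  · -- `N` is a `p'`-group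
    have hinf : (Y : Subgroup G) ⊓ N = ⊥ := by
      rw [eq_bot_iff]
      intro y hy
      obtain ⟨x, hx, rfl⟩ := (mem_inf_iff hY N y).1 hy
      rw [hT] at hx
      have hx' : x = 1 := Subgroup.mem_bot.1 hx
      subst hx'
      have : (⟨1, S.one_mem⟩ : S) = 1 := rfl
      rw [this, map_one]
      exact Subgroup.one_mem _
    have hcop : (Nat.card N).Coprime p := by
      have hs := Cfsg.Agent.Lib.Fusion.GroupNormal.isSylowIn_inf Y N
      rw [Cfsg.Agent.Lib.Fusion.GroupSylow.isSylowIn_iff_card inf_le_right] at hs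
      have hpp : p.Prime := Fact.out
      refine (Nat.Coprime.symm ?_)
      refine (Nat.Prime.coprime_iff_not_dvd hpp).2 fun hd => ?_
      obtain ⟨x, hx⟩ := exists_prime_orderOf_dvd_card' (G := N) p hd
      have h1 := hs.2 ((Subgroup.zpowers x).map N.subtype) (Subgroup.map_subtype_le _) ?_
      · rw [hinf] at h1
        have h2 : Nat.card ((Subgroup.zpowers x).map N.subtype) = p := by
          rw [← hx, ← Nat.card_zpowers]
          exact Nat.card_congr (Subgroup.equivMapOfInjective _ _ N.subtype_injective).symm.toEquiv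
        rw [h2, Subgroup.card_bot] at h1
        have := hpp.one_lt
        omega
      · have h2 : IsPGroup p (Subgroup.zpowers x) := by
          refine IsPGroup.iff_card.2 ⟨1, ?_⟩
          rw [Nat.card_zpowers, hx, pow_one]
        exact IsPGroup.of_surjective h2 (MonoidHom.subgroupMap N.subtype _) (MonoidHom.subgroupMap_surjective _ _)
    have hlt : Nat.card (G ⧸ N) < n := by
      rw [← hn]
      have h1 := Subgroup.card_mul_index N
      have h2 : 1 < Nat.card N := by
        have : Nontrivial N := (Subgroup.nontrivial_iff_ne_bot N).2 hbot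
        exact Finite.one_lt_card
      rw [Subgroup.index_eq_card] at h1
      have h3 : 0 < Nat.card (G ⧸ N) := Nat.card_pos
      calc Nat.card (G ⧸ N) < Nat.card N * Nat.card (G ⧸ N) := by nlinarith
        _ = Nat.card G := h1
    refine ih _ hlt (G ⧸ N) ((QuotientGroup.mk' N).comp ι) rfl
      (Cfsg.Agent.Lib.Fusion.ModelQuot.isRealizedBy_mk hS hreal N hcop)
      ⟨Y.mapSurjective (QuotientGroup.mk'_surjective _), ?_⟩
    rw [Sylow.coe_mapSurjective, hY, MonoidHom.range_comp]
  · -- `N` contains `ι(S)` and realizes the system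
    have hmem : ∀ x : S, ι x ∈ N := by
      intro x
      have hx : (x : Ω) ∈ preT ι N := by rw [hT]; exact x.2
      exact map_mem_of_mem_preT hx x.2
    let ι' : S →* N := ι.codRestrict N hmem
    have hlt : Nat.card N < n := by
      rw [← hn]
      have h1 := Subgroup.card_mul_index N
      have h2 := Subgroup.one_lt_index_of_ne_top htop
      have h3 : 0 < Nat.card N := Nat.card_pos
      nlinarith
    refine ih _ hlt N ι' rfl ⟨fun a b hab => hreal.1 (congrArg (fun t : N => (t : G)) hab), fun P hP φ hφ => ⟨fun h => ?_, ?_⟩⟩ ?_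
    · rw [← hEF] at h
      obtain ⟨-, -, -, g, hg, e⟩ := h
      exact ⟨⟨g, hg⟩, fun x => Subtype.ext (e x _ _)⟩
    · rintro ⟨g, e⟩
      exact (hreal.2 P hP φ hφ).2 ⟨g, fun x => congrArg (fun t : N => (t : G)) (e x)⟩
    · obtain ⟨R, hR⟩ := Cfsg.Agent.Lib.Fusion.GroupNormal.isSylowIn_inf Y N
      refine ⟨R, ?_⟩
      rw [hR]
      ext y
      rw [Subgroup.mem_subgroupOf, hY]
      constructor
      · rintro ⟨⟨x, hx⟩, -⟩
        exact ⟨x, Subtype.ext hx⟩
      · rintro ⟨x, rfl⟩
        exact ⟨⟨x, rfl⟩, hmem x⟩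

/-- Let F be a simple saturated fusion system over a finite p-group S that is realized by some finite group on a Sylow p-subgroup. Then F is realized by a finite simple group on a Sylow p-subgroup. -/
theorem result {Ω : Type u} [Group Ω] {S : Subgroup Ω} [Finite S] (p : ℕ) [Fact p.Prime] (hS : IsPGroup p S) (F : Cfsg.FusionSystem S) (hsimple : F.IsSimple p) (hreal : F.IsRealizable p) : ∃ (G : Type u) (_ : Group G) (_ : Finite G) (_ : IsSimpleGroup G) (ι : ↥S →* G), F.IsRealizedBy ι ∧ ∃ T : Sylow p G, (T : Subgroup G) = ι.range := by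
  obtain ⟨G, _, _, ι, h1, h2⟩ := hreal
  exact main_aux p hS F hsimple _ G ι rfl h1 h2

end Cfsg.Agent.S5343
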