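import Cfsg.Statements.S5371
import Cfsg.Agent.Lib.Fischer.Gen.Assemble
import Cfsg.Agent.Lib.Fischer.M23.Main
import Cfsg.Agent.Lib.Fischer.M23.Classify
import Cfsg.Agent.Lib.Fischer.M23.Model

set_option autoImplicit false
open Cfsg

namespace Cfsg.Agent.S5371

/-- Uniqueness of the 3-transposition groups of type M(23). Let G₁ and G₂ be finite groups with trivial centres, each generated by a conjugation-invariant set of 3-transpositions Dᵢ on which it acts primitively, such that for some member d of Dᵢ the subgroup generated by the members of Dᵢ other than d commuting with d has central largest normal 2- and 3-subgroups, and suppose each Gᵢ with Dᵢ is of type M(23). Then there is an isomorphism from G₁ to G₂ carrying D₁ onto D₂. -/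
theorem result {G₁ G₂ : Type*} [Group G₁] [Finite G₁] [Group G₂] [Finite G₂] {D₁ : Set G₁} {D₂ : Set G₂} (hD₁ : Cfsg.IsThreeTranspositionGroup D₁) (hprim₁ : Cfsg.IsPrimitiveUnderConj D₁) (hZ₁ : Subgroup.center G₁ = ⊥) (d₁ : G₁) (hd₁ : d₁ ∈ D₁) (h3₁ : Cfsg.pCore 3 ↥(Subgroup.closure {y : G₁ | y ∈ D₁ ∧ y ≠ d₁ ∧ Commute d₁ y}) ≤ Subgroup.center ↥(Subgroup.closure {y : G₁ | y ∈ D₁ ∧ y ≠ d₁ ∧ Commute d₁ y})) (h2₁ : Cfsg.pCore 2 ↥(Subgroup.closure {y : G₁ | y ∈ D₁ ∧ y ≠ d₁ ∧ Commute d₁ y}) ≤ Subgroup.center ↥(Subgroup.closure {y : G₁ | y ∈ D₁ ∧ y ≠ d₁ ∧ Commute d₁ y})) (hD₂ : Cfsg.IsThreeTranspositionGroup D₂) (hprim₂ : Cfsg.IsPrimitiveUnderConj D₂) (hZ₂ : Subgroup.center G₂ = ⊥) (d₂ : G₂) (hd₂ : d₂ ∈ D₂) (h3₂ : Cfsg.pCore 3 ↥(Subgroup.closure {y : G₂ | y ∈ D₂ ∧ y ≠ d₂ ∧ Commute d₂ y}) ≤ Subgroup.center ↥(Subgroup.closure {y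 : G₂ | y ∈ D₂ ∧ y ≠ d₂ ∧ Commute d₂ y})) (h2₂ : Cfsg.pCore 2 ↥(Subgroup.closure {y : G₂ | y ∈ D₂ ∧ y ≠ d₂ ∧ Commute d₂ y}) ≤ Subgroup.center ↥(Subgroup.closure {y : G₂ | y ∈ D₂ ∧ y ≠ d₂ ∧ Commute d₂ y})) (ht₁ : Cfsg.IsOfTypeM23 G₁ D₁) (ht₂ : Cfsg.IsOfTypeM23 G₂ D₂) : ∃ e : G₁ ≃* G₂, e '' D₁ = D₂ := by
  obtain ⟨d₁', _, π₁, C₁, nf₁⟩ := Cfsg.Agent.Lib.Fischer.M23.Main.exists_ctx hD₁ hprim₁ ht₁
  obtain ⟨d₂', _, π₂, C₂, nf₂⟩ := Cfsg.Agent.Lib.Fischer.M23.Main.exists_ctx hD₂ hprim₂ ht₂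
  obtain ⟨par, rk, hrk, hpar, hfill⟩ := Cfsg.Agent.Lib.Fischer.M23.Model.fill
  obtain ⟨e, -, he⟩ := Cfsg.Agent.Lib.Fischer.Gen.Assemble.uniq_of_ctx Cfsg.Agent.Lib.Fischer.M23.Model.M23
    Cfsg.Agent.Lib.Fischer.M23.Model.M23_pt Cfsg.Agent.Lib.Fischer.M23.Model.M23_perp Cfsg.Agent.Lib.Fischer.M23.Model.M23_tp
    Cfsg.Agent.Lib.Fischer.M23.Model.E0_sub Cfsg.Agent.Lib.Fischer.M23.Model.M23_i0
    ⟨_, Cfsg.Agent.Lib.Fischer.M22.Explicit.a0_mem⟩ Cfsg.Agent.Lib.Fischer.M23.Classify.rel_Hexad0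
    Cfsg.Agent.Lib.Fischer.M23.Classify.sigma Cfsg.Agent.Lib.Fischer.M23.Classify.sigma_mem
    (fun F hF => Cfsg.Agent.Lib.Fischer.M23.Classify.classify23 hF) Cfsg.Agent.Lib.Fischer.M23.Model.hbig
    Cfsg.Agent.Lib.Fischer.M23.Model.x0 par rk hrk hpar hfill C₁ nf₁ C₂ nf₂
  exact ⟨e, he⟩

end Cfsg.Agent.S5371
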