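import Cfsg.Statements.S5416
import Mathlib
import Cfsg.Agent.Lib.Sporadic.MonsterHeld

set_option autoImplicit false
open Cfsg

namespace Cfsg.Agent.S5416

open Cfsg.Agent.Lib.Sporadic.MonsterModel Cfsg.Agent.Lib.Sporadic.LeechAct Cfsg.Agent.Lib.Sporadic.LeechOrbits Cfsg.Agent.Lib.Sporadic.LeechFacts Cfsg.Agent.Lib.Sporadic.LeechClasses

/-- Let G be a finite group of Monster type at the involution z with Q the extraspecial normal subgroup of order 2^25 of C = C_G(z) (so C/Q is identified with the first Conway group with Q modulo its centre the Leech lattice modulo 2, and z is not weakly closed in Q). Let s be a conjugate of z in Q other than z and let B be a Sylow 7-subgroup of the joint centralizer of z and s. Then the centralizer of B modulo B is a group of Held type (an involution whose centralizer D has generalized Fitting subgroup R extraspecial of order 2^7 with D/R isomorphic to SL(3, 2), exactly 29 of its conjugates lying in R, and the involution not weakly closed in R). -/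
theorem result {G : Type*} [Group G] [Finite G] (z : G) (Q : Subgroup (Subgroup.centralizer ({z} : Set G))) [Q.Normal] (hM : Cfsg.IsOfMonsterType z Q) (s : G) (hsQ : ∃ hsc : s ∈ Subgroup.centralizer ({z} : Set G), (⟨s, hsc⟩ : Subgroup.centralizer ({z} : Set G)) ∈ Q) (hs : IsConj z s) (hs1 : s ≠ z) (B : Subgroup G) (hB : B ≤ Subgroup.centralizer ({z, s} : Set G)) (hBp : Nat.card B = 7 ^ (Nat.card ↥(Subgroup.centralizer ({z, s} : Set G))).factorization 7) [hn : (B.subgroupOf (Subgroup.centralizer (B : Set G))).Normal] : Cfsg.IsOfHeldType (↥(Subgroup.centralizer (B : Set G)) ⧸ B.subgroupOf (Subgroup.centralizer (B : Set G))) := by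
  obtain ⟨hset, e, ψ, hψ⟩ := hM
  obtain ⟨g0, hg⟩ := isConj_iff.1 hs
  have hsm : s ∈ QG Q := mem_QG.2 hsQ
  have hg0 : g0 * z * g0⁻¹ ∈ QG Q := by rw [hg]; exact hsm
  have hne0 : g0 * z * g0⁻¹ ≠ z := by rw [hg]; exact hs1
  set M0 := ofMonster hset hψ with hM0
  obtain ⟨v, hv, hnv⟩ := M0.type_four hg0 hne0
  rw [hg] at hv
  obtain ⟨k, hk⟩ := co0_transitive_64 v8 v (norm_u8 none) hnv
  have hR : (M0.twist k).Rel v8 s := by
    show M0.Rel (k • v8) s
    rw [hk]
    exact hv
  have hs11 : s ≠ 1 := by
    rw [← hg]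
    intro h
    apply M0.L.z_ne
    have : z = g0⁻¹ * (g0 * z * g0⁻¹) * g0 := by group
    rw [this, h]
    group
  exact held_of_rel (M0.twist k) hR hs1 hs11 hB hBp hg0 hne0

end Cfsg.Agent.S5416
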