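import Cfsg.Statements.S5726
import Mathlib

set_option autoImplicit false
open Cfsg

namespace Cfsg.Agent.S5726

private lemma orbit_stab {Ω : Type*} (H : Type*) [Group H] [Finite H] [MulAction H Ω] (a : Ω) :
    Nat.card (MulAction.orbit H a) * Nat.card (MulAction.stabilizer H a) = Nat.card H := by
  rw [← Subgroup.index_mul_card (MulAction.stabilizer H a), MulAction.index_stabilizer,
    Nat.card_coe_set_eq]

/-- If a finite group acts faithfully and transitively on a set with p^k elements, p a prime and k ≥ 1, then some element of order p fixes no point. -/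
theorem result {G Ω : Type*} [Group G] [Finite G] [MulAction G Ω] [FaithfulSMul G Ω] [Fintype Ω] (htr : MulAction.IsPretransitive G Ω)
    (p k : ℕ) (hp : p.Prime) (hk : 1 ≤ k) (hΩ : Fintype.card Ω = p ^ k) :
    ∃ g : G, orderOf g = p ∧ ∀ ω : Ω, g • ω ≠ ω := by
  classical
  have : Fact p.Prime := ⟨hp⟩
  have : Nonempty Ω := by
    apply Fintype.card_pos_iff.mp
    rw [hΩ]
    exact pow_pos hp.pos k
  obtain ⟨a⟩ := this
  obtain ⟨P⟩ : Nonempty (Sylow p G) := inferInstance
  -- orbit-stabilizer in G
  have horb : Nat.card (MulAction.orbit G a) = p ^ k := by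
    rw [MulAction.orbit_eq_univ, Nat.card_coe_set_eq, Set.ncard_univ, Nat.card_eq_fintype_card, hΩ]
  have hGcard : p ^ k * Nat.card (MulAction.stabilizer G a) = Nat.card G := by
    rw [← horb]
    exact orbit_stab G a
  have hPcard := orbit_stab (P : Subgroup G) a
  have hQp : IsPGroup p (MulAction.stabilizer (P : Subgroup G) a) := by
    have hinj : Function.Injective (fun x : MulAction.stabilizer (P : Subgroup G) a => ((x : P) : P)) :=
      Subtype.val_injective
    exact IsPGroup.of_injective P.isPGroup' (MulAction.stabilizer (P : Subgroup G) a).subtype Subtype.val_injective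
  obtain ⟨m, hm⟩ := IsPGroup.iff_card.mp hQp
  -- the stabilizer of a in P embeds into the stabilizer of a in G
  have hdvd : p ^ m ∣ Nat.card (MulAction.stabilizer G a) := by
    rw [← hm]
    let f : MulAction.stabilizer (P : Subgroup G) a →* MulAction.stabilizer G a :=
      { toFun := fun x => ⟨((x : P) : G), x.2⟩
        map_one' := rfl
        map_mul' := fun _ _ => rfl }
    have hf : Function.Injective f := by
      intro x y hxy
      have := congrArg (fun z : MulAction.stabilizer G a => (z : G)) hxy
      exact Subtype.ext (Subtype.ext this)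
    exact Subgroup.card_dvd_of_injective f hf
  have hdvdG : p ^ (k + m) ∣ Nat.card G := by
    rw [← hGcard, pow_add]
    exact Nat.mul_dvd_mul_left _ hdvd
  have hdvdP := P.pow_dvd_card_of_pow_dvd_card hdvdG
  rw [← hPcard, hm, pow_add] at hdvdP
  have hdvdorb : p ^ k ∣ Nat.card (MulAction.orbit (P : Subgroup G) a) :=
    Nat.dvd_of_mul_dvd_mul_right (pow_pos hp.pos m) hdvdP
  have horbP : MulAction.orbit (P : Subgroup G) a = Set.univ := by
    have hle : Nat.card (MulAction.orbit (P : Subgroup G) a) ≤ p ^ k := by
      rw [← hΩ, ← Nat.card_eq_fintype_card]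
      exact Nat.card_le_card_of_injective _ Subtype.val_injective
    have hne : Nonempty (MulAction.orbit (P : Subgroup G) a) := ⟨⟨a, MulAction.mem_orbit_self a⟩⟩
    have hpos : 0 < Nat.card (MulAction.orbit (P : Subgroup G) a) := Nat.card_pos
    have heq := le_antisymm hle (Nat.le_of_dvd hpos hdvdorb)
    have : (MulAction.orbit (P : Subgroup G) a).ncard = Nat.card Ω := by
      rw [← Nat.card_coe_set_eq, heq, Nat.card_eq_fintype_card, hΩ]
    apply Set.eq_of_subset_of_ncard_le (Set.subset_univ _)
    rw [Set.ncard_univ, this]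
  -- the centre of P
  have hPnt : Nontrivial (P : Subgroup G) := by
    have hdvd' : p ∣ Nat.card (P : Subgroup G) := by
      rw [← hPcard, hm]
      apply Dvd.dvd.mul_right
      exact (dvd_pow_self p (by omega)).trans hdvdorb
    by_contra hnt
    rw [not_nontrivial_iff_subsingleton] at hnt
    have : Nat.card (P : Subgroup G) = 1 := Nat.card_eq_one_iff_unique.mpr ⟨hnt, ⟨1⟩⟩
    rw [this] at hdvd'
    exact hp.one_lt.ne' (Nat.dvd_one.mp hdvd')
  have hcnt := P.isPGroup'.center_nontrivial
  have hcdvd : p ∣ Nat.card (Subgroup.center (P : Subgroup G)) := by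
    obtain ⟨n, hn⟩ := IsPGroup.iff_card.mp (IsPGroup.to_subgroup P.isPGroup' (Subgroup.center (P : Subgroup G)))
    rw [hn]
    apply dvd_pow_self
    rintro rfl
    rw [pow_zero] at hn
    have := Nat.card_eq_one_iff_unique.mp hn
    exact not_subsingleton_iff_nontrivial.mpr hcnt this.1
  obtain ⟨z, hz⟩ := exists_prime_orderOf_dvd_card' p hcdvd
  refine ⟨((z : P) : G), ?_, ?_⟩
  · have h1 : orderOf ((z : P) : G) = orderOf (z : P) := Subgroup.orderOf_coe _
    have h2 : orderOf (z : P) = orderOf z := Subgroup.orderOf_coe _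
    rw [h1, h2, hz]
  · intro ω hω
    -- z fixes every point
    have hfix : ∀ ω' : Ω, ((z : P) : G) • ω' = ω' := by
      intro ω'
      have hω' : ω' ∈ MulAction.orbit (P : Subgroup G) ω := by
        rw [MulAction.mem_orbit_iff]
        -- both in the a orbit
        have h1 : ω ∈ MulAction.orbit (P : Subgroup G) a := by rw [horbP]; trivial
        have h2 : ω' ∈ MulAction.orbit (P : Subgroup G) a := by rw [horbP]; trivial
        obtain ⟨u, hu⟩ := h1
        obtain ⟨v, hv⟩ := h2
        refine ⟨v * u⁻¹, ?_⟩
        have hu' : (u : G) • a = ω := hu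
        have hv' : (v : G) • a = ω' := hv
        change ((v : G) * (u : G)⁻¹) • ω = ω'
        rw [mul_smul, ← hu', inv_smul_smul, hv']
      obtain ⟨u, hu⟩ := hω'
      have hu' : (u : G) • ω = ω' := hu
      have hcomm : (z : P) * u = u * (z : P) := (Subgroup.mem_center_iff.mp z.2 u).symm
      have hcomm' : ((z : P) : G) * (u : G) = (u : G) * ((z : P) : G) := by
        have := congrArg (fun y : P => (y : G)) hcomm
        simpa using this
      rw [← hu', ← mul_smul, hcomm', mul_smul, hω]
    have h1 : ((z : P) : G) = 1 := by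
      apply FaithfulSMul.eq_of_smul_eq_smul (α := Ω)
      intro ω'
      rw [hfix ω', one_smul]
    have hz1 : z = 1 := by
      apply Subtype.ext
      apply Subtype.ext
      simpa using h1
    rw [hz1, orderOf_one] at hz
    exact hp.one_lt.ne hz

end Cfsg.Agent.S5726
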