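import Cfsg.Statements.S5727
import Mathlib
-- import your own Cfsg.Agent.* helpers here

set_option autoImplicit false
open Cfsg

namespace Cfsg.Agent.S5727

/-- If a finite group acts faithfully and transitively on a set with m·p elements, where p is a prime and 1 ≤ m ≤ p, then some element of order p fixes no point. -/
theorem result {G Ω : Type*} [Group G] [Finite G] [MulAction G Ω] [FaithfulSMul G Ω] [Fintype Ω] (htr : MulAction.IsPretransitive G Ω)
    (p m : ℕ) (hp : p.Prime) (hm : 1 ≤ m) (hmp : m ≤ p) (hΩ : Fintype.card Ω = m * p) :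
    ∃ g : G, orderOf g = p ∧ ∀ ω : Ω, g • ω ≠ ω := by
  classical
  haveI : Fact p.Prime := ⟨hp⟩
  obtain ⟨P⟩ : Nonempty (Sylow p G) := inferInstance
  let Q : Subgroup G := P
  have hQp : IsPGroup p Q := P.isPGroup'
  haveI : Finite Q := inferInstance
  have hpos : 0 < m * p := Nat.mul_pos hm hp.pos
  -- `Q` fixes no point
  have hnofix : ∀ ω : Ω, ∃ g : Q, g • ω ≠ ω := by
    intro ω
    by_contra hcon
    push Not at hcon
    have hle : Q ≤ MulAction.stabilizer G ω := fun g hg => hcon ⟨g, hg⟩
    have h1 : (MulAction.stabilizer G ω).index = m * p := by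
      rw [MulAction.index_stabilizer_of_transitive, Nat.card_eq_fintype_card, hΩ]
    have h2 : (MulAction.stabilizer G ω).index ∣ Q.index := Subgroup.index_dvd_of_le hle
    rw [h1] at h2
    exact P.not_dvd_index ((Dvd.intro_left m rfl).trans h2)
  -- orbit sizes
  have horb : ∀ ω : Ω, ∃ e, Nat.card (MulAction.orbit Q ω) = p ^ (e + 1) := by
    intro ω
    obtain ⟨e, he⟩ := hQp.index (MulAction.stabilizer Q ω)
    have hindex : (MulAction.stabilizer Q ω).index = Nat.card (MulAction.orbit Q ω) := by
      rw [MulAction.index_stabilizer, Nat.card_coe_set_eq]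
    cases e with
    | zero =>
      exfalso
      rw [pow_zero] at he
      rw [Subgroup.index_eq_one] at he
      obtain ⟨g, hg⟩ := hnofix ω
      exact hg (show g ∈ MulAction.stabilizer Q ω by rw [he]; trivial)
    | succ e =>
      exact ⟨e, by rw [← hindex, he]⟩
  -- nontriviality of `Q`
  obtain ⟨ω₀⟩ : Nonempty Ω := by
    rw [← Fintype.card_pos_iff, hΩ]; exact hpos
  -- an element fixing everything is trivial
  have hfaith : ∀ g : G, (∀ ω : Ω, g • ω = ω) → g = 1 := by
    intro g hg
    exact FaithfulSMul.eq_of_smul_eq_smul (fun ω => by rw [hg ω, one_smul])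
  by_cases hbig : ∃ ω : Ω, p < Nat.card (MulAction.orbit Q ω)
  · -- `Q` is transitive
    obtain ⟨ω, hω⟩ := hbig
    obtain ⟨e, he⟩ := horb ω
    have hcardorb : Nat.card (MulAction.orbit Q ω) = Fintype.card Ω := by
      apply le_antisymm
      · rw [← Nat.card_eq_fintype_card]
        exact Nat.card_le_card_of_injective _ Subtype.val_injective
      · have he1 : 1 ≤ e := by
          by_contra h
          have : e = 0 := by omega
          rw [he, this] at hω
          simp at hω
        rw [hΩ, he]
        calc m * p ≤ p * p := Nat.mul_le_mul_right _ hmp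
          _ = p ^ 2 := by ring
          _ ≤ p ^ (e + 1) := Nat.pow_le_pow_right hp.pos (by omega)
    have htrans : ∀ y : Ω, y ∈ MulAction.orbit Q ω := by
      have h1 : MulAction.orbit Q ω = Set.univ := by
        rw [Set.eq_univ_iff_ncard, ← Nat.card_coe_set_eq, hcardorb, Nat.card_eq_fintype_card]
      intro y
      rw [h1]
      trivial
    have htrans' : ∀ y y' : Ω, ∃ h : Q, h • y = y' := by
      intro y y'
      obtain ⟨a, ha⟩ := htrans y
      obtain ⟨b, hb⟩ := htrans y'
      refine ⟨b * a⁻¹, ?_⟩
      have ha' : a • ω = y := ha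
      have hb' : b • ω = y' := hb
      rw [mul_smul, ← ha', inv_smul_smul, hb']
    haveI : Nontrivial Q := by
      obtain ⟨g, hg⟩ := hnofix ω
      exact ⟨g, 1, fun h => hg (by rw [h, one_smul])⟩
    haveI : Nontrivial (Subgroup.center Q) := hQp.center_nontrivial
    have hdvd : p ∣ Nat.card (Subgroup.center Q) := by
      rcases (hQp.to_subgroup (Subgroup.center Q)).card_eq_or_dvd with h | h
      · exact absurd h Finite.one_lt_card.ne'
      · exact h
    obtain ⟨z, hz⟩ := exists_prime_orderOf_dvd_card' p hdvd
    refine ⟨((z : Q) : G), ?_, ?_⟩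
    · rw [Subgroup.orderOf_coe, Subgroup.orderOf_coe, hz]
    · intro y hy
      have hz1 : ((z : Q) : G) = 1 := by
        apply hfaith
        intro y'
        obtain ⟨h, rfl⟩ := htrans' y y'
        have hcomm : (z : Q) * h = h * (z : Q) := (Subgroup.mem_center_iff.mp z.2 h).symm
        have hcomm' : ((z : Q) : G) * (h : G) = (h : G) * ((z : Q) : G) := congrArg Subtype.val hcomm
        change ((z : Q) : G) • ((h : G) • y) = (h : G) • y
        rw [smul_smul, hcomm', mul_smul, hy]
      have hz2 : z = 1 := by
        apply Subtype.ext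
        apply Subtype.ext
        exact hz1
      rw [hz2, orderOf_one] at hz
      exact hp.one_lt.ne hz
  · push Not at hbig
    have hsize : ∀ ω : Ω, Nat.card (MulAction.orbit Q ω) = p := by
      intro ω
      obtain ⟨e, he⟩ := horb ω
      apply le_antisymm (hbig ω)
      rw [he]
      exact Nat.le_self_pow (by omega) p
    have hidx : ∀ ω : Ω, (MulAction.stabilizer Q ω).index = p := by
      intro ω
      rw [MulAction.index_stabilizer, ← Nat.card_coe_set_eq, hsize]
    obtain ⟨k, hk⟩ := IsPGroup.iff_card.mp hQp
    have hk0 : k ≠ 0 := by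
      rintro rfl
      rw [pow_zero] at hk
      have := (MulAction.stabilizer Q ω₀).index_dvd_card
      rw [hidx, hk] at this
      exact hp.one_lt.ne' (Nat.dvd_one.mp this)
    have hnormal : ∀ ω : Ω, (MulAction.stabilizer Q ω).Normal := fun ω =>
      Subgroup.normal_of_index_eq_minFac_card (by rw [hidx, hk, Nat.Prime.pow_minFac hp hk0])
    have hpow : ∀ (g : Q) (ω : Ω), (g ^ p) • ω = ω := by
      intro g ω
      haveI := hnormal ω
      have := Subgroup.pow_index_mem (MulAction.stabilizer Q ω) g
      rwa [hidx] at this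
    have hpow1 : ∀ g : Q, g ^ p = 1 := by
      intro g
      apply Subtype.ext
      apply hfaith
      intro ω
      exact hpow g ω
    have hfixmove : ∀ (h g : Q) (ω : Ω), g • ω = ω → g • (h • ω) = h • ω := by
      intro h g ω hg
      haveI := hnormal ω
      have h1 : h⁻¹ * g * h⁻¹⁻¹ ∈ MulAction.stabilizer Q ω := Subgroup.Normal.conj_mem ‹_› g hg h⁻¹
      have h2 : (h⁻¹ * g * h⁻¹⁻¹) • ω = ω := h1
      rw [inv_inv, mul_smul, mul_smul, inv_smul_eq_iff] at h2
      exact h2
    -- the number of orbits
    haveI : Fintype (MulAction.orbitRel.Quotient Q Ω) := Fintype.ofFinite _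
    have hquo : Fintype.card (MulAction.orbitRel.Quotient Q Ω) = m := by
      have h1 : Nat.card Ω = Nat.card (Σ ω : MulAction.orbitRel.Quotient Q Ω, MulAction.orbit Q (Quotient.out ω)) :=
        Nat.card_congr (MulAction.selfEquivSigmaOrbits Q Ω)
      rw [Nat.card_sigma] at h1
      simp only [hsize, Finset.sum_const, Finset.card_univ, smul_eq_mul] at h1
      rw [Nat.card_eq_fintype_card, hΩ] at h1
      exact (Nat.eq_of_mul_eq_mul_right hp.pos h1).symm
    -- the stabilizers' size
    set c := Nat.card Q / p with hc
    have hcmul : c * p = Nat.card Q := by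
      have hdvd : p ∣ Nat.card Q := by
        have := (MulAction.stabilizer Q ω₀).index_dvd_card
        rwa [hidx] at this
      exact Nat.div_mul_cancel hdvd
    have hstabcard : ∀ ω : Ω, Nat.card (MulAction.stabilizer Q ω) = c := by
      intro ω
      have := Subgroup.card_mul_index (MulAction.stabilizer Q ω)
      rw [hidx] at this
      exact Nat.eq_of_mul_eq_mul_right hp.pos (this.trans hcmul.symm)
    haveI : Fintype Q := Fintype.ofFinite Q
    let U : Finset Q := Finset.univ.biUnion (fun q : MulAction.orbitRel.Quotient Q Ω =>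
      Finset.univ.filter (fun g : Q => g ∈ MulAction.stabilizer Q (Quotient.out q) ∧ g ≠ 1))
    have hfiber : ∀ ω : Ω, (Finset.univ.filter (fun g : Q => g ∈ MulAction.stabilizer Q ω ∧ g ≠ 1)).card + 1 = c := by
      intro ω
      rw [← hstabcard ω, Nat.card_eq_fintype_card, Fintype.card_subtype]
      have h1 : (Finset.univ.filter (fun g : Q => g ∈ MulAction.stabilizer Q ω ∧ g ≠ 1)) =
          (Finset.univ.filter (fun g : Q => g ∈ MulAction.stabilizer Q ω)).erase 1 := by
        ext g
        simp only [Finset.mem_filter, Finset.mem_univ, true_and, Finset.mem_erase]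
        tauto
      rw [h1]
      exact Finset.card_erase_add_one (Finset.mem_filter.mpr ⟨Finset.mem_univ _, Subgroup.one_mem _⟩)
    have hc1 : 1 ≤ c := by
      have := hfiber ω₀
      omega
    have hUcard : U.card + p ≤ Nat.card Q := by
      have h1 : U.card ≤ m * (c - 1) := by
        refine Finset.card_biUnion_le.trans ?_
        have h2 : ∀ q ∈ (Finset.univ : Finset (MulAction.orbitRel.Quotient Q Ω)),
            (Finset.univ.filter (fun g : Q => g ∈ MulAction.stabilizer Q (Quotient.out q) ∧ g ≠ 1)).card = c - 1 := by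
          intro q _
          have := hfiber (Quotient.out q)
          omega
        rw [Finset.sum_congr rfl h2, Finset.sum_const, Finset.card_univ, hquo, smul_eq_mul]
      have h3 : m * (c - 1) ≤ p * (c - 1) := Nat.mul_le_mul_right _ hmp
      rw [← hcmul]
      have h4 : c - 1 + 1 = c := by omega
      calc U.card + p ≤ p * (c - 1) + p := by omega
        _ = (c - 1 + 1) * p := by ring
        _ = c * p := by rw [h4]
    obtain ⟨g, hg1, hgU⟩ : ∃ g : Q, g ≠ 1 ∧ g ∉ U := by
      by_contra hcon
      push Not at hcon
      have hsub : (Finset.univ : Finset Q) ⊆ insert 1 U := by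
        intro g _
        by_cases hg : g = 1
        · rw [hg]; exact Finset.mem_insert_self _ _
        · exact Finset.mem_insert_of_mem (hcon g hg)
      have h1 := Finset.card_le_card hsub
      have h2 := Finset.card_insert_le (1 : Q) U
      rw [Finset.card_univ, ← Nat.card_eq_fintype_card] at h1
      have := hp.two_le
      omega
    refine ⟨(g : G), ?_, ?_⟩
    · rw [Subgroup.orderOf_coe]
      exact orderOf_eq_prime (hpow1 g) hg1
    · intro ω hω
      apply hgU
      refine Finset.mem_biUnion.mpr ⟨Quotient.mk _ ω, Finset.mem_univ _, Finset.mem_filter.mpr ⟨Finset.mem_univ _, ?_, hg1⟩⟩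
      obtain ⟨h, hh⟩ : Quotient.out (Quotient.mk (MulAction.orbitRel Q Ω) ω) ∈ MulAction.orbit Q ω :=
        Quotient.mk_out (s := MulAction.orbitRel Q Ω) ω
      have hh' : h • ω = Quotient.out (Quotient.mk (MulAction.orbitRel Q Ω) ω) := hh
      change g • Quotient.out (Quotient.mk (MulAction.orbitRel Q Ω) ω) = _
      rw [← hh']
      exact hfixmove h g ω hω

end Cfsg.Agent.S5727
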