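import Cfsg.Statements.S5728
import Mathlib
-- import your own Cfsg.Agent.* helpers here

set_option autoImplicit false
open Cfsg

namespace Cfsg.Agent.S5728

open Polynomial

/-- Elements fixed by the `p`-power map lie in the prime field. -/
theorem mem_range_of_pow_eq {p n : ℕ} [Fact p.Prime] {K : Type*} [Field K] [Algebra (ZMod p) K] {c : K} (hc : c ^ p = c) :
    ∃ a : ZMod p, algebraMap (ZMod p) K a = c := by
  classical
  have hp : 1 < p := (Fact.out : p.Prime).one_lt
  let P : K[X] := X ^ p - X
  have hP : P ≠ 0 := by
    intro h
    have h1 : P.coeff p = 1 := by simp [P, coeff_X, hp.ne]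
    rw [h, coeff_zero] at h1
    exact zero_ne_one h1
  have hdeg : P.natDegree = p := by
    have : P = X ^ p + (-X) := by ring
    rw [this, natDegree_add_eq_left_of_natDegree_lt]
    · simp
    · simp [hp]
  let S : Finset K := Finset.univ.image (algebraMap (ZMod p) K)
  have hS : S.card = p := by
    rw [Finset.card_image_of_injective _ (algebraMap (ZMod p) K).injective, Finset.card_univ, ZMod.card]
  have hsub : S ⊆ P.roots.toFinset := by
    intro x hx
    obtain ⟨a, -, rfl⟩ := Finset.mem_image.mp hx
    rw [Multiset.mem_toFinset, mem_roots hP, IsRoot.def]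
    simp only [P, eval_sub, eval_pow, eval_X]
    rw [← map_pow, ZMod.pow_card, sub_self]
  have hle : P.roots.toFinset.card ≤ S.card := by
    rw [hS, ← hdeg]
    exact (Multiset.toFinset_card_le _).trans (card_roots' P)
  have heq := Finset.eq_of_subset_of_card_le hsub hle
  have hmem : c ∈ P.roots.toFinset := by
    rw [Multiset.mem_toFinset, mem_roots hP, IsRoot.def]
    simp [P, hc]
  rw [← heq] at hmem
  obtain ⟨a, -, ha⟩ := Finset.mem_image.mp hmem
  exact ⟨a, ha⟩


/-- An elusive transitive action. Let p = 2^s − 1 be a prime and let F be the field with p² elements. Inside the group of affine maps x ↦ a·x + b of F (a ≠ 0), consider the subgroup of maps with both coefficients in the prime field. Then every element of prime order of the affine group is conjugate, within the affine group, to an element of that subgroup; equivalently, in the transitive action of the affine group on the cosets of that subgroup (of degree p(p + 1)) every element of prime order fixes a point. -/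
theorem result (p s : ℕ) [Fact p.Prime] (hs : p = 2 ^ s - 1)
    (g : Equiv.Perm (GaloisField p 2)) (hg : g ∈ Cfsg.affineGroup (GaloisField p 2)) (hord : (orderOf g).Prime) :
    ∃ x ∈ Cfsg.affineGroup (GaloisField p 2), ∃ a b : ZMod p, a ≠ 0 ∧
      ∀ y : GaloisField p 2, (x * g * x⁻¹) y = algebraMap (ZMod p) (GaloisField p 2) a * y + algebraMap (ZMod p) (GaloisField p 2) b := by
  classical
  obtain ⟨c, d, hg⟩ := hg
  let K := GaloisField p 2
  have hr := hord
  set r := orderOf g with hrdef
  have hgr : g ^ r = 1 := pow_orderOf_eq_one g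
  have hg1 : g ≠ 1 := by
    rintro rfl
    rw [hrdef, orderOf_one] at hr
    exact Nat.not_prime_one hr
  by_cases hc : c = 1
  · -- translation
    have hd : d ≠ 0 := by
      rintro rfl
      apply hg1
      ext y
      rw [hg, hc]
      simp
    refine ⟨Equiv.mulLeft₀ d⁻¹ (inv_ne_zero hd), ⟨Units.mk0 d⁻¹ (inv_ne_zero hd), 0, fun y => by simp⟩, 1, 1, one_ne_zero, fun y => ?_⟩
    simp only [Equiv.Perm.coe_mul, Function.comp_apply, hg, hc, map_one, one_mul]
    have : (Equiv.mulLeft₀ d⁻¹ (inv_ne_zero hd))⁻¹ y = d * y := by
      rw [Equiv.Perm.inv_eq_iff_eq]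
      simp [hd]
    rw [this]
    simp [hd]
    field_simp
  · -- a fixed point
    have hne : (1 : K) - c ≠ 0 := by
      intro h
      exact hc (Units.ext (sub_eq_zero.mp h).symm)
    set y0 : K := d / (1 - c) with hy0
    have hfix : (c : K) * y0 + d = y0 := by
      rw [hy0]
      field_simp
      ring
    let x : Equiv.Perm K := Equiv.addRight (-y0)
    have hx : ∀ y, x y = y - y0 := fun y => by simp [x, sub_eq_add_neg]
    have hxinv : ∀ y, x⁻¹ y = y + y0 := fun y => by
      rw [Equiv.Perm.inv_eq_iff_eq, hx]
      ring
    have hconj : ∀ y, (x * g * x⁻¹) y = (c : K) * y := by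
      intro y
      simp only [Equiv.Perm.coe_mul, Function.comp_apply, hx, hg, hxinv]
      linear_combination hfix
    have hpow : ∀ k : ℕ, ∀ y, ((x * g * x⁻¹) ^ k) y = (c : K) ^ k * y := by
      intro k
      induction k with
      | zero => intro y; simp
      | succ k ih =>
        intro y
        rw [pow_succ, Equiv.Perm.coe_mul, Function.comp_apply, hconj, ih]
        ring
    have hconjpow : (x * g * x⁻¹) ^ r = 1 := by
      rw [conj_pow, hgr]
      simp
    have hcr : c ^ r = 1 := by
      have := hpow r 1
      rw [hconjpow] at this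
      apply Units.ext
      simpa using this.symm
    haveI : Fact r.Prime := ⟨hr⟩
    have hord : orderOf c = r := orderOf_eq_prime hcr hc
    haveI : Fact p.Prime := inferInstance
    have hcardK : Nat.card K = p ^ 2 := GaloisField.card p 2 (by norm_num)
    haveI : Finite K := Nat.finite_of_card_ne_zero (by
      rw [hcardK]
      exact pow_ne_zero _ (Fact.out : p.Prime).ne_zero)
    have hdvd : r ∣ (p - 1) * (p + 1) := by
      rw [← hord]
      have h1 := orderOf_dvd_natCard c
      rw [Nat.card_units, hcardK] at h1
      have hpp : 1 < p := (Fact.out : p.Prime).one_lt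
      have : p ^ 2 - 1 = (p - 1) * (p + 1) := by
        obtain ⟨q, rfl⟩ : ∃ q, p = q + 1 := ⟨p - 1, by omega⟩
        have : (q + 1) ^ 2 = q * (q + 1 + 1) + 1 := by ring
        simp [this]
      rwa [this] at h1
    have hs1 : p + 1 = 2 ^ s := by
      have hpos : 1 ≤ 2 ^ s := Nat.one_le_two_pow
      omega
    have hrange : ∃ a : ZMod p, algebraMap (ZMod p) K a = (c : K) := by
      rcases (Nat.Prime.dvd_mul hr).mp hdvd with h1 | h1
      · -- order divides `p - 1`
        apply mem_range_of_pow_eq (n := 2)
        have h2 : c ^ (p - 1) = 1 := by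
          rw [← orderOf_dvd_iff_pow_eq_one, hord]
          exact h1
        have hpp : 1 < p := (Fact.out : p.Prime).one_lt
        have h3 : (c : K) ^ p = (c : K) ^ (p - 1) * c := by
          rw [← pow_succ, Nat.sub_add_cancel (by omega)]
        rw [h3]
        have h4 : (c : K) ^ (p - 1) = 1 := by
          have := congrArg Units.val h2
          simpa using this
        rw [h4, one_mul]
      · -- order two
        rw [hs1] at h1
        have h2 : r = 2 := (Nat.prime_dvd_prime_iff_eq hr Nat.prime_two).mp (hr.dvd_of_dvd_pow h1)
        have h3 : (c : K) ^ 2 = 1 := by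
          have := congrArg Units.val hcr
          rw [h2] at this
          simpa using this
        have h4 : ((c : K) - 1) * ((c : K) + 1) = 0 := by linear_combination h3
        rcases mul_eq_zero.mp h4 with h5 | h5
        · exact absurd (Units.ext (sub_eq_zero.mp h5)) hc
        · exact ⟨-1, by rw [map_neg, map_one]; linear_combination -h5⟩
    obtain ⟨a, ha⟩ := hrange
    refine ⟨x, ⟨1, -y0, fun y => by rw [hx]; simp [sub_eq_add_neg]⟩, a, 0, ?_, fun y => ?_⟩
    · rintro rfl
      rw [map_zero] at ha
      exact c.ne_zero ha.symm
    · rw [hconj, ha, map_zero, add_zero]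

end Cfsg.Agent.S5728
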