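import Cfsg.Statements.S5847
import Cfsg.Agent.Lib.Classical.Asch.OKey5

set_option autoImplicit false
open Cfsg
open Module
open Cfsg.Geo
open Cfsg.Agent.Lib.Classical.Asch

namespace Cfsg.Agent.S5847

/-- Every maximal subgroup of Ω_10^+(q) is of one of the listed geometric types or lies in the residual class. Let F be a finite field with q elements (characteristic p), Q a non-degenerate quadratic form on F^10 of plus type (Witt index 5: some totally singular 5-space), Ω the commutator subgroup of its isometry group, and H a maximal subgroup of Ω (inside GL_10(F)). Then H is the intersection with Ω of one of: the stabiliser of a non-zero totally singular subspace of dimension ≠ 4; for q odd, the stabiliser of a non-degenerate subspace of odd dimension ≠ 5; the stabiliser of a non-degenerate 2-space of minus type; for q ≥ 4, the stabiliser of a non-degenerate 2-space of plus type; the stabiliser of a non-degenerate 4-space; for q even, the stabiliser of the span of a non-singular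 vector; for q = p prime with p ≡ 1 mod 4, the stabiliser of a decomposition into 10 pairwise orthogonal, pairwise isometric non-degenerate 1-spaces; for q ≥ 7, the stabiliser of a decomposition into 5 pairwise orthogonal, pairwise isometric non-degenerate 2-spaces; for q ≡ 1 mod 4, the stabiliser of a decomposition into 2 pairwise orthogonal, pairwise isometric non-degenerate 5-spaces; for q ≡ 3 mod 4, the stabiliser of a decomposition into two orthogonal, non-isometric non-degenerate 5-spaces; for q odd, the normaliser of a degree-2 subfield of the matrix algebra, self-adjoint for the polar form; a subfield group (|F| = |F₀|^r, r prime) whose F₀-structure carries a non-zero multiple of Q — or else H lies in the residual class of the orthogonal case (modulo scalars H is almost simple, with absolutely irreducible perfect socle preimage realisable over no proper subfield and fixing no non-degenerate unitary form). -/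
theorem result {F : Type*} [Field F] [Fintype F] (Q : (Fin 10 → F) → F) (hQ : Cfsg.Geo.IsNondegenerateQuadraticForm Q) (hplus : Cfsg.Geo.IsPlusTypeOn Q ⊤) (H : Subgroup (Matrix.GeneralLinearGroup (Fin 10) F)) (hH : Cfsg.Geo.IsMaximalIn (Cfsg.Geo.omegaGL Q) H) :
    (∃ W : Submodule F (Fin 10 → F), W ≠ ⊥ ∧ Cfsg.Geo.IsTotallySingularQuad Q W ∧ Module.finrank F W ≠ 4 ∧ H = Cfsg.Geo.subspaceStabilizer W ⊓ Cfsg.Geo.omegaGL Q) ∨
    (Odd (Fintype.card F) ∧ ∃ W : Submodule F (Fin 10 → F), W ≠ ⊥ ∧ W ≠ ⊤ ∧ Odd (Module.finrank F W) ∧ 2 * Module.finrank F W ≠ 10 ∧ Cfsg.Geo.IsNondegenerateOn (QuadraticMap.polar Q) W ∧ H = Cfsg.Geo.subspaceStabilizer W ⊓ Cfsg.Geo.omegaGL Q) ∨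
    (∃ W : Submodule F (Fin 10 → F), Module.finrank F W = 2 ∧ Cfsg.Geo.IsNondegenerateOn (QuadraticMap.polar Q) W ∧ ¬ Cfsg.Geo.IsPlusTypeOn Q W ∧ H = Cfsg.Geo.subspaceStabilizer W ⊓ Cfsg.Geo.omegaGL Q) ∨
    (4 ≤ Fintype.card F ∧ ∃ W : Submodule F (Fin 10 → F), Module.finrank F W = 2 ∧ Cfsg.Geo.IsNondegenerateOn (QuadraticMap.polar Q) W ∧ Cfsg.Geo.IsPlusTypeOn Q W ∧ H = Cfsg.Geo.subspaceStabilizer W ⊓ Cfsg.Geo.omegaGL Q) ∨
    (∃ W : Submodule F (Fin 10 → F), Module.finrank F W = 4 ∧ Cfsg.Geo.IsNondegenerateOn (QuadraticMap.polar Q) W ∧ H = Cfsg.Geo.subspaceStabilizer W ⊓ Cfsg.Geo.omegaGL Q) ∨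
    (¬ Odd (Fintype.card F) ∧ ∃ v : (Fin 10 → F), Q v ≠ 0 ∧ H = Cfsg.Geo.subspaceStabilizer (Submodule.span F {v}) ⊓ Cfsg.Geo.omegaGL Q) ∨
    ((∃ p : ℕ, p.Prime ∧ Fintype.card F = p ∧ (p % 4 = 1)) ∧ ∃ D : Fin 10 → Submodule F (Fin 10 → F), Cfsg.Geo.IsOrthogonalMDecomposition Q 1 D ∧ H = Cfsg.Geo.decompositionStabilizer D ⊓ Cfsg.Geo.omegaGL Q) ∨
    (7 ≤ Fintype.card F ∧ ∃ D : Fin 5 → Submodule F (Fin 10 → F), Cfsg.Geo.IsOrthogonalMDecomposition Q 2 D ∧ H = Cfsg.Geo.decompositionStabilizer D ⊓ Cfsg.Geo.omegaGL Q) ∨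
    (Fintype.card F % 4 = 1 ∧ ∃ D : Fin 2 → Submodule F (Fin 10 → F), Cfsg.Geo.IsOrthogonalMDecomposition Q 5 D ∧ H = Cfsg.Geo.decompositionStabilizer D ⊓ Cfsg.Geo.omegaGL Q) ∨
    (Fintype.card F % 4 = 3 ∧ ∃ D : Fin 2 → Submodule F (Fin 10 → F), Cfsg.Geo.IsNondegenerateMDecomposition (QuadraticMap.polar Q) 5 D ∧ ¬ Cfsg.Geo.AreIsometricFor Q (D 0) (D 1) ∧ H = Cfsg.Geo.decompositionStabilizer D ⊓ Cfsg.Geo.omegaGL Q) ∨
    (Odd (Fintype.card F) ∧ ∃ K : Subalgebra F (Matrix (Fin 10) (Fin 10) F), Cfsg.Geo.IsFieldSubalgebra 2 K ∧ Cfsg.Geo.IsSelfAdjointFor (QuadraticMap.polar Q) K ∧ H = Cfsg.Geo.subalgebraNormalizer K ⊓ Cfsg.Geo.omegaGL Q) ∨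
    (∃ (F₀ : Subfield F) (r : ℕ) (P : Matrix.GeneralLinearGroup (Fin 10) F) (ζ : F), r.Prime ∧ Fintype.card F = Nat.card F₀ ^ r ∧ ζ ≠ 0 ∧ Cfsg.Geo.IsQuadFormRationalStructure (fun v : Fin 10 → F => ζ * Q v) F₀ P ∧ H = Cfsg.Geo.subfieldSubgroup F₀ P ⊓ Cfsg.Geo.omegaGL Q) ∨
    Cfsg.Geo.InOrthogonalResidualClass H := by
  classical
  have hc : Fintype.card (Fin 10) = 10 := by simp
  have hn : 5 ≤ Fintype.card (Fin 10) := by simp
  have hn3 : 3 ≤ Fintype.card (Fin 10) := by simp
  have hle : H ≤ isometryGroup F Q := hH.1.le.trans (OEMax.omega_le_iso Q)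
  have h2iff := OEMax.odd_card_iff (F := F)
  have hf := Cfsg.Agent.Lib.Classical.Asch.Adj.reflForm_polar hQ
  have hq2 : 2 ≤ Fintype.card F := Fintype.one_lt_card
  have hpair : ∀ (k : ℕ) (D : Fin 2 → Submodule F (Fin 10 → F)), Cfsg.Geo.IsMDecomposition k D → (∀ i, Cfsg.Geo.IsTotallySingularQuad Q (D i)) →
      H ≤ Cfsg.Geo.decompositionStabilizer D → False := by
    intro k D hD hts hst
    have hk := Cfsg.Agent.Lib.Classical.Asch.Block.card_eq_mul hD
    rw [hc] at hk
    have hk5 : k = 5 := by omega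
    subst hk5
    exact OKey4.no_pair hQ hH (k := 5) (by norm_num) (by decide) (by rw [hc]) hD hts hst
  have hnonself : ∀ K : Subalgebra F (Matrix (Fin 10) (Fin 10) F), Cfsg.Geo.IsFieldSubalgebra 2 K → Cfsg.Agent.Lib.Classical.Asch.Adj.AdjClosed (RingEquiv.refl F) (QuadraticMap.polar Q) K →
      (∀ k ∈ K, Cfsg.Agent.Lib.Classical.Asch.Adj.adj (RingEquiv.refl F) (QuadraticMap.polar Q) k = k → ∃ c : F, k = c • (1 : Matrix (Fin 10) (Fin 10) F)) →
      (∀ W : Submodule F (Fin 10 → F), Cfsg.Agent.Lib.Classical.Asch.Basic.Inv (H ⊔ Cfsg.Geo.scalars (Fin 10) F) W → W = ⊥ ∨ W = ⊤) →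
      H ≤ Cfsg.Geo.subalgebraNormalizer K → False := by
    intro K hK hA hfix hG hst
    exact OKey4.nonself_false hQ hplus (m := 5) (by rw [hc]) (by decide) hn3 hle hG hst hK hA hfix
  rcases OKey.oe_mainG hQ (by simp) hle with h | h
  swap
  · iterate 12 right
    exact h
  rcases h with ⟨W, h0, hts, hst⟩ | ⟨W, h0, h1, hnd, hst⟩ | ⟨h2, v, hv, hst⟩ | ⟨t, k, D, hD, hst⟩ | ⟨k, D, hD, hts, hst⟩ | ⟨r, K, hr, hK, hA, hG, hst⟩ |
    ⟨d, k, e, P, f₁, f₂, hd, hk, h2, h1, h3, hs, hG, hst⟩ | ⟨d, k, e, P, f₁, f₂, hd, hk, h1, h3, hs, hv, hst⟩ | ⟨F₀, r, P, ζ, hr, hc', hζ, hR, hst⟩ |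
    ⟨d, t, e, P, J₀, ε₀, c, T⟩ | ⟨R, r, s, D, hR⟩
  · by_cases h4 : Module.finrank F W = 4
    · exact absurd (OKey4.no_ts_half hQ hplus hH (m := 4) le_rfl (by rw [hc]) hts h4 hst) id
    · exact Or.inl ⟨W, h0, hts, h4, OEMax.eq_stab hQ hn hH h0 (OEMax.ts_ne_top hQ hn hts) hst⟩
  · obtain ⟨W', h0', h1', hnd', hst', hsm, -⟩ := OEMax.exists_small hQ hle (by rw [hc]; decide) h0 h1 hnd hst
    rw [hc] at hsm
    have hE := OEMax.eq_stab hQ hn hH h0' h1' hst'
    have hpos : 0 < Module.finrank F W' := Module.finrank_pos_iff.mpr (Submodule.nontrivial_iff_ne_bot.mpr h0')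
    by_cases hodd : Odd (Module.finrank F W')
    · have h2 : (2 : F) ≠ 0 := fun h => (Nat.not_even_iff_odd.mpr hodd) (OEMax.even_of_two hQ h hnd')
      have hq : Odd (Fintype.card F) := h2iff.mpr h2
      by_cases h5 : Module.finrank F W' = 5
      · rcases OKey5.key_half h2 hQ hplus hn hH hle (n := 4) (by rw [hc]) (by decide) hnd' h5 hst' with h6 | h6
        · iterate 8 right
          left
          exact h6
        · iterate 9 right
          left
          exact h6
      · right; left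
        refine ⟨hq, W', h0', h1', hodd, ?_, hnd', hE⟩
        omega
    · have hev := Nat.not_odd_iff_even.mp hodd
      obtain ⟨a, ha⟩ := hev
      have h3 : Module.finrank F W' = 2 ∨ Module.finrank F W' = 4 := by omega
      rcases h3 with h3 | h3
      · by_cases hp : Cfsg.Geo.IsPlusTypeOn Q W'
        · by_cases hq4 : 4 ≤ Fintype.card F
          · iterate 3 right
            left
            exact ⟨hq4, W', h3, hnd', hp, hE⟩
          · have hq : Fintype.card F = 2 ∨ Fintype.card F = 3 := by omega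
            rcases hq with hq | hq
            · obtain ⟨v, hv, hvs⟩ := OField.stab_of_plus_two hQ hq h3 hnd' hp
              iterate 5 right
              left
              obtain ⟨h5, h6⟩ := OEMax.span_ne hQ hv (by rw [hc]; norm_num)
              have h7 : H ≤ Cfsg.Geo.subspaceStabilizer (Submodule.span F {v}) := fun g hg => hvs g (hle hg) (hst' hg)
              refine ⟨?_, v, hv, OEMax.eq_stab hQ hn hH h5 h6 h7⟩
              rw [hq]
              decide
            · exfalso
              obtain ⟨Q', rfl, hQ'⟩ := Cfsg.Agent.Lib.Classical.Geo.OPts.exists_quadraticForm hQ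
              exact OMax.not_plus_three hQ' hn hH hst' hnd' hq h3 hp
        · right; right; left
          exact ⟨W', h3, hnd', hp, hE⟩
      · iterate 4 right
        left
        exact ⟨W', h3, hnd', hE⟩
  · iterate 5 right
    left
    obtain ⟨h5, h6⟩ := OEMax.span_ne hQ hv (by rw [hc]; norm_num)
    refine ⟨fun h => h2iff.mp h h2, v, hv, OEMax.eq_stab hQ hn hH h5 h6 hst⟩
  · have hcd := Cfsg.Agent.Lib.Classical.Asch.Block.card_eq_mul hD.decomp.decomp
    rw [hc] at hcd
    have ht2 := hD.decomp.decomp.two_le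
    have htk : (t = 2 ∧ k = 5) ∨ (t = 5 ∧ k = 2) ∨ (t = 10 ∧ k = 1) := by
      have ht10 : t ≤ 10 := by
        have h1 : 1 ≤ k := hD.decomp.decomp.pos
        nlinarith
      interval_cases t <;> omega
    rcases htk with ⟨rfl, rfl⟩ | ⟨rfl, rfl⟩ | ⟨rfl, rfl⟩
    · have h2 : (2 : F) ≠ 0 := fun h => by
        have h3 := OEMax.even_of_two hQ h (hD.decomp.nondegenerate 0)
        rw [hD.decomp.decomp.finrank_eq 0] at h3
        exact absurd h3 (by decide)
      iterate 8 right
      left
      refine ⟨?_, D, hD, OEMax.eq_decomp hQ hn hH hD.decomp.decomp (Or.inl h2) hst⟩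
      have h6 := OKey3.plus_iff_neg_one h2 hQ hD (m := 5) (by decide) (by rw [hc]) (by decide)
      exact (OKey.neg_one_iff h2).mp (h6.mp hplus)
    · by_cases hq7 : 7 ≤ Fintype.card F
      · iterate 7 right
        left
        exact ⟨hq7, D, hD, OKey.eq_decomp_orth hQ hn hH hD (by norm_num) le_rfl hst⟩
      · have hpl : ∀ i, Cfsg.Geo.IsPlusTypeOn Q (D i) := by
          intro i
          by_cases h2 : (2 : F) = 0
          · exact OKey5.odd_block_plus_two h2 hQ hD (by decide) hplus i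
          · exact OKey5.odd_plane_plus h2 hQ hD (by decide) (by rw [hc]) hplus i
        rcases OKey5.small_planes hQ hplus hn hH hle (m := 4) le_rfl (by rw [hc]) hD hpl hst (by omega) with ⟨h3, U, hU, hUd, hUst⟩ | ⟨F₀, P, h3, hR, hE⟩ | ⟨h5, D', hD', hE⟩
        · rcases OKey5.key_half (SpThree.two_ne_zero_three h3) hQ hplus hn hH hle (n := 4) (by rw [hc]) (by decide) hU hUd hUst with h6 | h6
          · iterate 8 right
            left
            exact h6
          · iterate 9 right
            left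
            exact h6
        · iterate 11 right
          left
          exact ⟨F₀, 2, P, 1, Nat.prime_two, h3, one_ne_zero, hR, hE⟩
        · iterate 6 right
          left
          exact ⟨⟨5, by norm_num, h5, by norm_num⟩, D', hD', hE⟩
    · have h2 : (2 : F) ≠ 0 := fun h => by
        have h3 := OEMax.even_of_two hQ h (hD.decomp.nondegenerate 0)
        rw [hD.decomp.decomp.finrank_eq 0] at h3
        exact absurd h3 (by decide)
      have h6 := OKey3.plus_iff_neg_one h2 hQ hD (m := 5) (by decide) (by rw [hc]) (by decide)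
      have h4 : Fintype.card F % 4 = 1 := (OKey.neg_one_iff h2).mp (h6.mp hplus)
      rcases OKey3.frame_out h2 hQ hn hH hle hD hst with ⟨hp, hDE⟩ | ⟨F₀, r, P, ζ, hr, hc', hζ, hR, hE⟩
      · iterate 6 right
        left
        exact ⟨⟨_, hp, rfl, h4⟩, D, hD, hDE⟩
      · iterate 11 right
        left
        exact ⟨F₀, r, P, ζ, hr, hc', hζ, hR, hE⟩
  · exact absurd (hpair k D hD hts hst) id
  · have hdvd := Cfsg.Agent.Lib.Classical.Asch.Small.dvd_card_of_field hK
    rw [hc] at hdvd
    have hE := OEMax.eq_normalizer hQ hn hH hr.two_le hK hst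
    have hr' : r = 2 ∨ r = 5 := by
      have h12 : r ≤ 10 := Nat.le_of_dvd (by norm_num) hdvd
      interval_cases r <;> first | omega | (exfalso; revert hr; decide) | (exfalso; revert hdvd; decide)
    rcases hr' with rfl | rfl
    · rcases Cfsg.Agent.Lib.Classical.Asch.FormField.adj_field_dichotomy hf hr hK hA with hself | ⟨-, hfix⟩
      · by_cases h2 : (2 : F) = 0
        · exact absurd (OKey.four_dvd_of_selfadj h2 hQ hK ((OKey.selfAdj_iff hQ).mpr hself)) (by rw [hc]; decide)
        · iterate 10 right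
          left
          exact ⟨h2iff.mpr h2, K, hK, (OKey.selfAdj_iff hQ).mpr hself, hE⟩
      · exact absurd (hnonself K hK hA hfix hG hst) id
    · rcases Cfsg.Agent.Lib.Classical.Asch.FormField.adj_field_dichotomy hf hr hK hA with hself | ⟨h5, -⟩
      swap
      · omega
      rcases OKey2.deg_out hQ (r := 5) (by decide) (by rw [hc]) hK ((OKey.selfAdj_iff hQ).mpr hself) hle hst with
        ⟨D, hD, hts, hDst⟩ | ⟨K', hK', hA', hfix', hst'⟩
      · exact absurd (hpair 5 D hD hts hDst) id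
      · exact absurd (hnonself K' hK' hA' hfix' hG hst') id
  · -- symmetric tensor factors
    have hcd := Fintype.card_congr e
    rw [hc, Fintype.card_prod, Fintype.card_fin, Fintype.card_fin] at hcd
    have hfin : (d = 2 ∧ k = 5) ∨ (d = 5 ∧ k = 2) := by
      have hd6 : d ≤ 5 := by nlinarith
      interval_cases d <;> omega
    have key2 : ∀ (e : Fin 10 ≃ Fin 2 × Fin 5) (P : Matrix.GeneralLinearGroup (Fin 10) F) (f₁ : (Fin 2 → F) → (Fin 2 → F) → F)
        (f₂ : (Fin 5 → F) → (Fin 5 → F) → F), Cfsg.Geo.IsSymmetricForm f₁ → Cfsg.Geo.IsSymmetricForm f₂ →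
        Cfsg.Geo.IsTensorFormStructure id (QuadraticMap.polar Q) f₁ f₂ e P → H ≤ Cfsg.Geo.tensorProductSubgroup 2 5 e P → False := by
      intro e P f₁ f₂ h1 h3 hs hst
      by_cases han : ∀ u, u ≠ 0 → f₁ u u ≠ 0
      · obtain ⟨K, hK, hA, hfix, hKst⟩ := OKey.exists_field_of_sym_two_adj h2 hQ h1 h3 hs han hle hst
        exact hnonself K hK hA hfix hG hKst
      · push Not at han
        obtain ⟨u, hu, hu0⟩ := han
        obtain ⟨D, hD, hts, hDst⟩ := OKey5.exists_pair_of_sym_two h2 hQ h1 h3 hs hu hu0 hle hst (by rw [hc]) (by norm_num)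
        exact hpair 5 D hD hts hDst
    rcases hfin with ⟨rfl, rfl⟩ | ⟨rfl, rfl⟩
    · exact absurd (key2 e P f₁ f₂ h1 h3 hs hst) id
    · exact absurd (key2 _ P f₂ f₁ h3 h1 (OType.tensor_swap hs) (hst.trans (Cfsg.Agent.Lib.Classical.Asch.Main.tensorProductSubgroup_le_swap e P))) id
  · -- alternating tensor factors
    have hcd := Fintype.card_congr e
    rw [hc, Fintype.card_prod, Fintype.card_fin, Fintype.card_fin] at hcd
    have he1 : Even d := by simpa using Cfsg.Agent.Lib.Classical.Asch.Forms.even_card_of_symplectic h1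
    have he2 : Even k := by simpa using Cfsg.Agent.Lib.Classical.Asch.Forms.even_card_of_symplectic h3
    exfalso
    obtain ⟨a, ha⟩ := he1
    obtain ⟨b, hb⟩ := he2
    subst ha hb
    have h4 : (a + a) * (b + b) = 4 * (a * b) := by ring
    omega
  · iterate 11 right
    left
    exact ⟨F₀, r, P, ζ, hr, hc', hζ, hR, OEMax.eq_subfield hQ hn hH hr.two_le hc' hst⟩
  · exfalso
    have hcd := Fintype.card_congr e
    rw [hc, Fintype.card_fun, Fintype.card_fin, Fintype.card_fin] at hcd
    exact OKey3.not_pow_ten T.hd T.ht hcd.symm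
  · exfalso
    obtain ⟨m, hm⟩ := OEMax.card_of_sympData hQ D hR
    rw [hc] at hm
    exact OKey3.not_two_pow_ten hm.symm

end Cfsg.Agent.S5847
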