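import Cfsg.Statements.S5850
import Cfsg.Agent.Lib.Classical.Asch.OKey3

set_option autoImplicit false
open Cfsg
open Module
open Cfsg.Agent.Lib.Classical.Asch

namespace Cfsg.Agent.S5850

/-- Every maximal subgroup of Ω_10^-(q) is of one of the listed geometric types or lies in the residual class. Let F be a finite field with q elements (characteristic p), Q a non-degenerate quadratic form on F^10 of minus type (Witt index 4: no totally singular 5-space), Ω the commutator subgroup of its isometry group, and H a maximal subgroup of Ω (inside GL_10(F)). Then H is the intersection with Ω of one of: the stabiliser of a non-zero totally singular subspace; for q odd, the stabiliser of a non-degenerate subspace of odd dimension ≠ 5; the stabiliser of a non-degenerate 2-space of minus type; for q ≥ 4, the stabiliser of a non-degenerate 2-space of plus type; the stabiliser of a non-degenerate 4-space; for q even, the stabiliser of the span of a non-singular vector; for q =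 p prime with p ≡ 3 mod 4, the stabiliser of a decomposition into 10 pairwise orthogonal, pairwise isometric non-degenerate 1-spaces; for q ≠ 3, the stabiliser of a decomposition into 5 pairwise orthogonal, pairwise isometric non-degenerate 2-spaces; for q ≡ 3 mod 4, the stabiliser of a decomposition into 2 pairwise orthogonal, pairwise isometric non-degenerate 5-spaces; for q ≡ 1 mod 4, the stabiliser of a decomposition into two orthogonal, non-isometric non-degenerate 5-spaces; for q odd, the normaliser of a degree-2 subfield of the matrix algebra, self-adjoint for the polar form; the normaliser of a degree-2 subfield K, adjoint-closed but not self-adjoint, acting by similarities of Q; a subfield group (|F| = |F₀|^r, r odd prime) whose F₀-structure carries a non-zero multiple of Q — or else H lies in the residual class of the orthogonal case (modulo scalars H is almost simple, with absolutely irreducible perfect socle preimage realisable over no proper subfield and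 fixing no non-degenerate unitary form). -/
theorem result {F : Type*} [Field F] [Fintype F] (Q : (Fin 10 → F) → F) (hQ : Cfsg.Geo.IsNondegenerateQuadraticForm Q) (hminus : ¬ Cfsg.Geo.IsPlusTypeOn Q ⊤) (H : Subgroup (Matrix.GeneralLinearGroup (Fin 10) F)) (hH : Cfsg.Geo.IsMaximalIn (Cfsg.Geo.omegaGL Q) H) :
    (∃ W : Submodule F (Fin 10 → F), W ≠ ⊥ ∧ Cfsg.Geo.IsTotallySingularQuad Q W ∧ H = Cfsg.Geo.subspaceStabilizer W ⊓ Cfsg.Geo.omegaGL Q) ∨
    (Odd (Fintype.card F) ∧ ∃ W : Submodule F (Fin 10 → F), W ≠ ⊥ ∧ W ≠ ⊤ ∧ Odd (Module.finrank F W) ∧ 2 * Module.finrank F W ≠ 10 ∧ Cfsg.Geo.IsNondegenerateOn (QuadraticMap.polar Q) W ∧ H = Cfsg.Geo.subspaceStabilizer W ⊓ Cfsg.Geo.omegaGL Q) ∨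
    (∃ W : Submodule F (Fin 10 → F), Module.finrank F W = 2 ∧ Cfsg.Geo.IsNondegenerateOn (QuadraticMap.polar Q) W ∧ ¬ Cfsg.Geo.IsPlusTypeOn Q W ∧ H = Cfsg.Geo.subspaceStabilizer W ⊓ Cfsg.Geo.omegaGL Q) ∨
    (4 ≤ Fintype.card F ∧ ∃ W : Submodule F (Fin 10 → F), Module.finrank F W = 2 ∧ Cfsg.Geo.IsNondegenerateOn (QuadraticMap.polar Q) W ∧ Cfsg.Geo.IsPlusTypeOn Q W ∧ H = Cfsg.Geo.subspaceStabilizer W ⊓ Cfsg.Geo.omegaGL Q) ∨
    (∃ W : Submodule F (Fin 10 → F), Module.finrank F W = 4 ∧ Cfsg.Geo.IsNondegenerateOn (QuadraticMap.polar Q) W ∧ H = Cfsg.Geo.subspaceStabilizer W ⊓ Cfsg.Geo.omegaGL Q) ∨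
    (¬ Odd (Fintype.card F) ∧ ∃ v : (Fin 10 → F), Q v ≠ 0 ∧ H = Cfsg.Geo.subspaceStabilizer (Submodule.span F {v}) ⊓ Cfsg.Geo.omegaGL Q) ∨
    ((∃ p : ℕ, p.Prime ∧ Fintype.card F = p ∧ (p % 4 = 3)) ∧ ∃ D : Fin 10 → Submodule F (Fin 10 → F), Cfsg.Geo.IsOrthogonalMDecomposition Q 1 D ∧ H = Cfsg.Geo.decompositionStabilizer D ⊓ Cfsg.Geo.omegaGL Q) ∨
    (Fintype.card F ≠ 3 ∧ ∃ D : Fin 5 → Submodule F (Fin 10 → F), Cfsg.Geo.IsOrthogonalMDecomposition Q 2 D ∧ H = Cfsg.Geo.decompositionStabilizer D ⊓ Cfsg.Geo.omegaGL Q) ∨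
    (Fintype.card F % 4 = 3 ∧ ∃ D : Fin 2 → Submodule F (Fin 10 → F), Cfsg.Geo.IsOrthogonalMDecomposition Q 5 D ∧ H = Cfsg.Geo.decompositionStabilizer D ⊓ Cfsg.Geo.omegaGL Q) ∨
    (Fintype.card F % 4 = 1 ∧ ∃ D : Fin 2 → Submodule F (Fin 10 → F), Cfsg.Geo.IsNondegenerateMDecomposition (QuadraticMap.polar Q) 5 D ∧ ¬ Cfsg.Geo.AreIsometricFor Q (D 0) (D 1) ∧ H = Cfsg.Geo.decompositionStabilizer D ⊓ Cfsg.Geo.omegaGL Q) ∨
    (Odd (Fintype.card F) ∧ ∃ K : Subalgebra F (Matrix (Fin 10) (Fin 10) F), Cfsg.Geo.IsFieldSubalgebra 2 K ∧ Cfsg.Geo.IsSelfAdjointFor (QuadraticMap.polar Q) K ∧ H = Cfsg.Geo.subalgebraNormalizer K ⊓ Cfsg.Geo.omegaGL Q) ∨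
    (∃ K : Subalgebra F (Matrix (Fin 10) (Fin 10) F), Cfsg.Geo.IsFieldSubalgebra 2 K ∧ Cfsg.Geo.IsAdjointClosedFor (QuadraticMap.polar Q) K ∧ ¬ Cfsg.Geo.IsSelfAdjointFor (QuadraticMap.polar Q) K ∧ (∀ k ∈ K, ∃ c : F, ∀ v : (Fin 10 → F), Q (Matrix.mulVec k v) = c * Q v) ∧ H = Cfsg.Geo.subalgebraNormalizer K ⊓ Cfsg.Geo.omegaGL Q) ∨
    (∃ (F₀ : Subfield F) (r : ℕ) (P : Matrix.GeneralLinearGroup (Fin 10) F) (ζ : F), r.Prime ∧ Odd r ∧ Fintype.card F = Nat.card F₀ ^ r ∧ ζ ≠ 0 ∧ Cfsg.Geo.IsQuadFormRationalStructure (fun v : Fin 10 → F => ζ * Q v) F₀ P ∧ H = Cfsg.Geo.subfieldSubgroup F₀ P ⊓ Cfsg.Geo.omegaGL Q) ∨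
    Cfsg.Geo.InOrthogonalResidualClass H := by
  classical
  have hc : Fintype.card (Fin 10) = 10 := by simp
  have hn : 5 ≤ Fintype.card (Fin 10) := by simp
  have hn3 : 3 ≤ Fintype.card (Fin 10) := by simp
  have hle : H ≤ isometryGroup F Q := hH.1.le.trans (OEMax.omega_le_iso Q)
  have h2iff := OEMax.odd_card_iff (F := F)
  have hf := Cfsg.Agent.Lib.Classical.Asch.Adj.reflForm_polar hQ
  have hq2 : 2 ≤ Fintype.card F := Fintype.one_lt_card
  rcases OKey.oe_mainG hQ (by simp) hle with h | h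
  swap
  · iterate 13 right
    exact h
  rcases h with ⟨W, h0, hts, hst⟩ | ⟨W, h0, h1, hnd, hst⟩ | ⟨h2, v, hv, hst⟩ | ⟨t, k, D, hD, hst⟩ | ⟨k, D, hD, hts, hst⟩ | ⟨r, K, hr, hK, hA, hG, hst⟩ |
    ⟨d, k, e, P, f₁, f₂, hd, hk, h2, h1, h3, hs, hG, hst⟩ | ⟨d, k, e, P, f₁, f₂, hd, hk, h1, h3, hs, hv, hst⟩ | ⟨F₀, r, P, ζ, hr, hc', hζ, hR, hst⟩ |
    ⟨d, t, e, P, J₀, ε₀, c, T⟩ | ⟨R, r, s, D, hR⟩
  · exact Or.inl ⟨W, h0, hts, OEMax.eq_stab hQ hn hH h0 (OEMax.ts_ne_top hQ hn hts) hst⟩
  · obtain ⟨W', h0', h1', hnd', hst', hsm, -⟩ := OEMax.exists_small hQ hle (by rw [hc]; decide) h0 h1 hnd hst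
    rw [hc] at hsm
    have hE := OEMax.eq_stab hQ hn hH h0' h1' hst'
    have hpos : 0 < Module.finrank F W' := Module.finrank_pos_iff.mpr (Submodule.nontrivial_iff_ne_bot.mpr h0')
    by_cases hodd : Odd (Module.finrank F W')
    · have h2 : (2 : F) ≠ 0 := fun h => (Nat.not_even_iff_odd.mpr hodd) (OEMax.even_of_two hQ h hnd')
      have hq : Odd (Fintype.card F) := h2iff.mpr h2
      by_cases h5 : Module.finrank F W' = 5
      · obtain ⟨D, hD, hDE, hcases⟩ := OKey3.half_out h2 hQ hn hH hle (n := 4) (by rw [hc]) hnd' h5 hst'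
        rcases hcases with hO | ⟨hI, hp⟩
        · iterate 8 right
          left
          refine ⟨?_, D, hO, hDE⟩
          have h6 := OKey3.plus_iff_neg_one h2 hQ hO (m := 5) (by decide) (by rw [hc]) (by decide)
          have h7 : ¬ IsSquare (-1 : F) := fun h => hminus (h6.mpr h)
          rw [OKey.neg_one_iff h2] at h7
          obtain ⟨a, ha⟩ := hq
          omega
        · iterate 9 right
          left
          refine ⟨?_, D, hD, hI, hDE⟩
          have h7 : IsSquare (-1 : F) := by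
            by_contra h8
            apply hminus
            apply hp.mpr
            simpa [Odd.neg_one_pow (show Odd 5 by decide)] using h8
          exact (OKey.neg_one_iff h2).mp h7
      · right; left
        refine ⟨hq, W', h0', h1', hodd, ?_, hnd', hE⟩
        omega
    · have hev := Nat.not_odd_iff_even.mp hodd
      obtain ⟨a, ha⟩ := hev
      have h3 : Module.finrank F W' = 2 ∨ Module.finrank F W' = 4 := by omega
      rcases h3 with h3 | h3
      · by_cases hp : Cfsg.Geo.IsPlusTypeOn Q W'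
        · by_cases hq4 : 4 ≤ Fintype.card F
          · iterate 3 right
            left
            exact ⟨hq4, W', h3, hnd', hp, hE⟩
          · have hq : Fintype.card F = 2 ∨ Fintype.card F = 3 := by omega
            rcases hq with hq | hq
            · obtain ⟨v, hv, hvs⟩ := OField.stab_of_plus_two hQ hq h3 hnd' hp
              iterate 5 right
              left
              obtain ⟨h5, h6⟩ := OEMax.span_ne hQ hv (by rw [hc]; norm_num)
              have h7 : H ≤ Cfsg.Geo.subspaceStabilizer (Submodule.span F {v}) := fun g hg => hvs g (hle hg) (hst' hg)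
              refine ⟨?_, v, hv, OEMax.eq_stab hQ hn hH h5 h6 h7⟩
              rw [hq]
              decide
            · exfalso
              obtain ⟨Q', rfl, hQ'⟩ := Cfsg.Agent.Lib.Classical.Geo.OPts.exists_quadraticForm hQ
              exact OMax.not_plus_three hQ' hn hH hst' hnd' hq h3 hp
        · right; right; left
          exact ⟨W', h3, hnd', hp, hE⟩
      · iterate 4 right
        left
        exact ⟨W', h3, hnd', hE⟩
  · iterate 5 right
    left
    obtain ⟨h5, h6⟩ := OEMax.span_ne hQ hv (by rw [hc]; norm_num)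
    refine ⟨fun h => h2iff.mp h h2, v, hv, OEMax.eq_stab hQ hn hH h5 h6 hst⟩
  · have hcd := Cfsg.Agent.Lib.Classical.Asch.Block.card_eq_mul hD.decomp.decomp
    rw [hc] at hcd
    have ht2 := hD.decomp.decomp.two_le
    have htk : (t = 2 ∧ k = 5) ∨ (t = 5 ∧ k = 2) ∨ (t = 10 ∧ k = 1) := by
      have ht10 : t ≤ 10 := by
        have h1 : 1 ≤ k := hD.decomp.decomp.pos
        nlinarith
      interval_cases t <;> omega
    rcases htk with ⟨rfl, rfl⟩ | ⟨rfl, rfl⟩ | ⟨rfl, rfl⟩
    · have h2 : (2 : F) ≠ 0 := fun h => by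
        have h3 := OEMax.even_of_two hQ h (hD.decomp.nondegenerate 0)
        rw [hD.decomp.decomp.finrank_eq 0] at h3
        exact absurd h3 (by decide)
      have hq : Odd (Fintype.card F) := h2iff.mpr h2
      iterate 8 right
      left
      refine ⟨?_, D, hD, OEMax.eq_decomp hQ hn hH hD.decomp.decomp (Or.inl h2) hst⟩
      have h6 := OKey3.plus_iff_neg_one h2 hQ hD (m := 5) (by decide) (by rw [hc]) (by decide)
      have h7 : ¬ IsSquare (-1 : F) := fun h => hminus (h6.mpr h)
      rw [OKey.neg_one_iff h2] at h7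
      obtain ⟨a, ha⟩ := hq
      omega
    · by_cases hq3 : Fintype.card F = 3
      · have h2F : (2 : F) ≠ 0 := SpThree.two_ne_zero_three hq3
        have hnp : ¬ Cfsg.Geo.IsPlusTypeOn Q (D 0) := fun hp =>
          hminus (OType.plus_of_all_plus hQ hD.decomp fun j => OEMax.plus_of_isometric (hD.isometric 0 j) hp)
        obtain ⟨Q', rfl, hQ'⟩ := Cfsg.Agent.Lib.Classical.Geo.OPts.exists_quadraticForm hQ
        obtain ⟨c, z, hc0, hz, hzz, huniq⟩ := OKey.minus_plane_three hq3 hQ (hD.decomp.decomp.finrank_eq 0) (hD.decomp.nondegenerate 0) hnp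
        obtain ⟨D', hD', hDle⟩ := OKey.frame_of_family (n' := 10) h2F hQ' (by norm_num) hD hc0 hz hzz huniq
        iterate 6 right
        left
        refine ⟨⟨3, Nat.prime_three, hq3, by norm_num⟩, D', hD', OEMax.eq_decomp hQ hn hH hD'.decomp.decomp (Or.inl h2F) fun g hg => hDle g (hle hg) (hst hg)⟩
      · iterate 7 right
        left
        exact ⟨hq3, D, hD, OKey.eq_decomp_orth hQ hn hH hD (by norm_num) le_rfl hst⟩
    · have h2 : (2 : F) ≠ 0 := fun h => by
        have h3 := OEMax.even_of_two hQ h (hD.decomp.nondegenerate 0)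
        rw [hD.decomp.decomp.finrank_eq 0] at h3
        exact absurd h3 (by decide)
      have hq : Odd (Fintype.card F) := h2iff.mpr h2
      have h6 := OKey3.plus_iff_neg_one h2 hQ hD (m := 5) (by decide) (by rw [hc]) (by decide)
      have h7 : ¬ IsSquare (-1 : F) := fun h => hminus (h6.mpr h)
      rw [OKey.neg_one_iff h2] at h7
      have h4 : Fintype.card F % 4 = 3 := by
        obtain ⟨a, ha⟩ := hq
        omega
      rcases OKey3.frame_out h2 hQ hn hH hle hD hst with ⟨hp, hDE⟩ | ⟨F₀, r, P, ζ, hr, hc', hζ, hR, hE⟩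
      · iterate 6 right
        left
        exact ⟨⟨_, hp, rfl, h4⟩, D, hD, hDE⟩
      · iterate 12 right
        left
        exact ⟨F₀, r, P, ζ, hr, OKey3.odd_of_mod_four hr hc' h4, hc', hζ, hR, hE⟩
  · exact absurd (OEMax.plus_of_pair hQ hD hts) hminus
  · have hdvd := Cfsg.Agent.Lib.Classical.Asch.Small.dvd_card_of_field hK
    rw [hc] at hdvd
    have hE := OEMax.eq_normalizer hQ hn hH hr.two_le hK hst
    have hr' : r = 2 ∨ r = 5 := by
      have h12 : r ≤ 10 := Nat.le_of_dvd (by norm_num) hdvd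
      interval_cases r <;> first | omega | (exfalso; revert hr; decide) | (exfalso; revert hdvd; decide)
    rcases hr' with rfl | rfl
    · rcases Cfsg.Agent.Lib.Classical.Asch.FormField.adj_field_dichotomy hf hr hK hA with hself | ⟨-, hfix⟩
      · by_cases h2 : (2 : F) = 0
        · exact absurd (OKey.four_dvd_of_selfadj h2 hQ hK ((OKey.selfAdj_iff hQ).mpr hself)) (by rw [hc]; decide)
        · iterate 10 right
          left
          exact ⟨h2iff.mpr h2, K, hK, (OKey.selfAdj_iff hQ).mpr hself, hE⟩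
      · iterate 11 right
        left
        exact ⟨K, hK, hA.isAdjointClosedFor hf, OKey.not_selfAdj_of_fix hQ hK hfix, OKey.sim_all hQ hn3 hle hG hst hK hA hfix, hE⟩
    · rcases Cfsg.Agent.Lib.Classical.Asch.FormField.adj_field_dichotomy hf hr hK hA with hself | ⟨h5, -⟩
      swap
      · omega
      rcases OKey2.deg_out hQ (r := 5) (by decide) (by rw [hc]) hK ((OKey.selfAdj_iff hQ).mpr hself) hle hst with
        ⟨D, hD, hts, -⟩ | ⟨K', hK', hA', hfix', hst'⟩
      · exact absurd (OEMax.plus_of_pair hQ hD hts) hminus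
      · iterate 11 right
        left
        exact ⟨K', hK', hA'.isAdjointClosedFor hf, OKey.not_selfAdj_of_fix hQ hK' hfix', OKey.sim_all hQ hn3 hle hG hst' hK' hA' hfix',
          OEMax.eq_normalizer hQ hn hH (by norm_num) hK' hst'⟩
  · -- symmetric tensor factors
    have hcd := Fintype.card_congr e
    rw [hc, Fintype.card_prod, Fintype.card_fin, Fintype.card_fin] at hcd
    have hfin : (d = 2 ∧ k = 5) ∨ (d = 5 ∧ k = 2) := by
      have hd6 : d ≤ 5 := by nlinarith
      interval_cases d <;> omega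
    have key2 : ∀ (e : Fin 10 ≃ Fin 2 × Fin 5) (P : Matrix.GeneralLinearGroup (Fin 10) F) (f₁ : (Fin 2 → F) → (Fin 2 → F) → F)
        (f₂ : (Fin 5 → F) → (Fin 5 → F) → F), Cfsg.Geo.IsSymmetricForm f₁ → Cfsg.Geo.IsSymmetricForm f₂ →
        Cfsg.Geo.IsTensorFormStructure id (QuadraticMap.polar Q) f₁ f₂ e P → H ≤ Cfsg.Geo.tensorProductSubgroup 2 5 e P →
        ∃ K : Subalgebra F (Matrix (Fin 10) (Fin 10) F), Cfsg.Geo.IsFieldSubalgebra 2 K ∧ Cfsg.Geo.IsAdjointClosedFor (QuadraticMap.polar Q) K ∧ ¬ Cfsg.Geo.IsSelfAdjointFor (QuadraticMap.polar Q) K ∧ (∀ k ∈ K, ∃ c : F, ∀ v : (Fin 10 → F), Q (Matrix.mulVec k v) = c * Q v) ∧ H = Cfsg.Geo.subalgebraNormalizer K ⊓ Cfsg.Geo.omegaGL Q := by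
      intro e P f₁ f₂ h1 h3 hs hst
      obtain ⟨K, hK, hA, hfix, hKst⟩ := OKey.exists_field_of_sym_two_adj h2 hQ h1 h3 hs
        (fun u hu h0 => hminus (OType.plus_of_left_singular h2 hQ h1.bilinear h3.bilinear hs rfl hu h0)) hle hst
      exact ⟨K, hK, hA.isAdjointClosedFor hf, OKey.not_selfAdj_of_fix hQ hK hfix, OKey.sim_all hQ hn3 hle hG hKst hK hA hfix,
        OEMax.eq_normalizer hQ hn hH (by norm_num) hK hKst⟩
    rcases hfin with ⟨rfl, rfl⟩ | ⟨rfl, rfl⟩
    · iterate 11 right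
      left
      exact key2 e P f₁ f₂ h1 h3 hs hst
    · iterate 11 right
      left
      exact key2 _ P f₂ f₁ h3 h1 (OType.tensor_swap hs) (hst.trans (Cfsg.Agent.Lib.Classical.Asch.Main.tensorProductSubgroup_le_swap e P))
  · -- alternating tensor factors
    have hcd := Fintype.card_congr e
    rw [hc, Fintype.card_prod, Fintype.card_fin, Fintype.card_fin] at hcd
    have he1 : Even d := by simpa using Cfsg.Agent.Lib.Classical.Asch.Forms.even_card_of_symplectic h1
    have he2 : Even k := by simpa using Cfsg.Agent.Lib.Classical.Asch.Forms.even_card_of_symplectic h3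
    exfalso
    obtain ⟨a, ha⟩ := he1
    obtain ⟨b, hb⟩ := he2
    subst ha hb
    have h4 : (a + a) * (b + b) = 4 * (a * b) := by ring
    omega
  · by_cases hr2 : r = 2
    · subst hr2
      exact absurd (OField.plus_of_subfield_two hQ (k := 4) (by rw [hc]) hc' hζ hR) hminus
    · iterate 12 right
      left
      exact ⟨F₀, r, P, ζ, hr, hr.odd_of_ne_two hr2, hc', hζ, hR, OEMax.eq_subfield hQ hn hH hr.two_le hc' hst⟩
  · exfalso
    have hcd := Fintype.card_congr e
    rw [hc, Fintype.card_fun, Fintype.card_fin, Fintype.card_fin] at hcd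
    exact OKey3.not_pow_ten T.hd T.ht hcd.symm
  · exfalso
    obtain ⟨m, hm⟩ := OEMax.card_of_sympData hQ D hR
    rw [hc] at hm
    exact OKey3.not_two_pow_ten hm.symm

end Cfsg.Agent.S5850
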