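import Cfsg.Statements.S5871
import Cfsg.Agent.Lib.Classical.Asch.OKey7

set_option autoImplicit false
open Cfsg
open Module
open Cfsg.Geo
open scoped Matrix
open Cfsg.Agent.Lib.Classical.Asch

namespace Cfsg.Agent.S5871

/-- Every maximal subgroup of Ω_12^+(q) is of one of the listed geometric types or lies in the residual class. Let F be a finite field with q elements (characteristic p), Q a non-degenerate quadratic form on F^12 of plus type (Witt index 6: some totally singular 6-space), Ω the commutator subgroup of its isometry group, and H a maximal subgroup of Ω (inside GL_12(F)). Then H is the intersection with Ω of one of: the stabiliser of a non-zero totally singular subspace of dimension ≠ 5; for q odd, the stabiliser of a non-degenerate subspace of odd dimension; the stabiliser of a non-degenerate 2-space of minus type; for q ≥ 4, the stabiliser of a non-degenerate 2-space of plus type; the stabiliser of a non-degenerate 4-space;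 for q even, the stabiliser of the span of a non-singular vector; for q = p an odd prime, the stabiliser of a decomposition into 12 pairwise orthogonal, pairwise isometric non-degenerate 1-spaces; for q ≥ 7, the stabiliser of a decomposition into 6 pairwise orthogonal, pairwise isometric non-degenerate 2-spaces of plus type; for q ≠ 3, the stabiliser of a decomposition into 6 pairwise orthogonal, pairwise isometric non-degenerate 2-spaces of minus type; for q odd with q ≥ 5, the stabiliser of a decomposition into 4 pairwise orthogonal, pairwise isometric non-degenerate 3-spaces; for q ≥ 3, the stabiliser of a decomposition into 3 pairwise orthogonal, pairwise isometric non-degenerate 4-spaces; the stabiliser of a decomposition into 2 pairwise orthogonal, pairwise isometric non-degenerate 6-spaces; of a decomposition into two totally singular 6-spaces; the normaliser of a degree-2 subfield of the matrix algebra; the normaliser of a degree-3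 subfield of the matrix algebra; the normaliser of a degree-2 subfield K, adjoint-closed but not self-adjoint, acting by similarities of Q; for q ≥ 3, the stabiliser of a tensor decomposition of Q into alternating forms on F^2 and F^6 (Q vanishing on pure tensors); a subfield group (|F| = |F₀|^r, r prime) whose F₀-structure carries a non-zero multiple of Q — or else H lies in the residual class of the orthogonal case (modulo scalars H is almost simple, with absolutely irreducible perfect socle preimage realisable over no proper subfield and fixing no non-degenerate unitary form). -/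
theorem result {F : Type*} [Field F] [Fintype F] (Q : (Fin 12 → F) → F) (hQ : Cfsg.Geo.IsNondegenerateQuadraticForm Q) (hplus : Cfsg.Geo.IsPlusTypeOn Q ⊤) (H : Subgroup (Matrix.GeneralLinearGroup (Fin 12) F)) (hH : Cfsg.Geo.IsMaximalIn (Cfsg.Geo.omegaGL Q) H) :
    (∃ W : Submodule F (Fin 12 → F), W ≠ ⊥ ∧ Cfsg.Geo.IsTotallySingularQuad Q W ∧ Module.finrank F W ≠ 5 ∧ H = Cfsg.Geo.subspaceStabilizer W ⊓ Cfsg.Geo.omegaGL Q) ∨
    (Odd (Fintype.card F) ∧ ∃ W : Submodule F (Fin 12 → F), W ≠ ⊥ ∧ W ≠ ⊤ ∧ Odd (Module.finrank F W) ∧ 2 * Module.finrank F W ≠ 12 ∧ Cfsg.Geo.IsNondegenerateOn (QuadraticMap.polar Q) W ∧ H = Cfsg.Geo.subspaceStabilizer W ⊓ Cfsg.Geo.omegaGL Q) ∨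
    (∃ W : Submodule F (Fin 12 → F), Module.finrank F W = 2 ∧ Cfsg.Geo.IsNondegenerateOn (QuadraticMap.polar Q) W ∧ ¬ Cfsg.Geo.IsPlusTypeOn Q W ∧ H = Cfsg.Geo.subspaceStabilizer W ⊓ Cfsg.Geo.omegaGL Q) ∨
    (4 ≤ Fintype.card F ∧ ∃ W : Submodule F (Fin 12 → F), Module.finrank F W = 2 ∧ Cfsg.Geo.IsNondegenerateOn (QuadraticMap.polar Q) W ∧ Cfsg.Geo.IsPlusTypeOn Q W ∧ H = Cfsg.Geo.subspaceStabilizer W ⊓ Cfsg.Geo.omegaGL Q) ∨
    (∃ W : Submodule F (Fin 12 → F), Module.finrank F W = 4 ∧ Cfsg.Geo.IsNondegenerateOn (QuadraticMap.polar Q) W ∧ H = Cfsg.Geo.subspaceStabilizer W ⊓ Cfsg.Geo.omegaGL Q) ∨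
    (¬ Odd (Fintype.card F) ∧ ∃ v : (Fin 12 → F), Q v ≠ 0 ∧ H = Cfsg.Geo.subspaceStabilizer (Submodule.span F {v}) ⊓ Cfsg.Geo.omegaGL Q) ∨
    ((∃ p : ℕ, p.Prime ∧ Odd p ∧ Fintype.card F = p) ∧ ∃ D : Fin 12 → Submodule F (Fin 12 → F), Cfsg.Geo.IsOrthogonalMDecomposition Q 1 D ∧ H = Cfsg.Geo.decompositionStabilizer D ⊓ Cfsg.Geo.omegaGL Q) ∨
    (7 ≤ Fintype.card F ∧ ∃ D : Fin 6 → Submodule F (Fin 12 → F), Cfsg.Geo.IsOrthogonalMDecomposition Q 2 D ∧ (∀ i, Cfsg.Geo.IsPlusTypeOn Q (D i)) ∧ H = Cfsg.Geo.decompositionStabilizer D ⊓ Cfsg.Geo.omegaGL Q) ∨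
    (Fintype.card F ≠ 3 ∧ ∃ D : Fin 6 → Submodule F (Fin 12 → F), Cfsg.Geo.IsOrthogonalMDecomposition Q 2 D ∧ (∀ i, ¬ Cfsg.Geo.IsPlusTypeOn Q (D i)) ∧ H = Cfsg.Geo.decompositionStabilizer D ⊓ Cfsg.Geo.omegaGL Q) ∨
    (Odd (Fintype.card F) ∧ 5 ≤ Fintype.card F ∧ ∃ D : Fin 4 → Submodule F (Fin 12 → F), Cfsg.Geo.IsOrthogonalMDecomposition Q 3 D ∧ H = Cfsg.Geo.decompositionStabilizer D ⊓ Cfsg.Geo.omegaGL Q) ∨
    (3 ≤ Fintype.card F ∧ ∃ D : Fin 3 → Submodule F (Fin 12 → F), Cfsg.Geo.IsOrthogonalMDecomposition Q 4 D ∧ H = Cfsg.Geo.decompositionStabilizer D ⊓ Cfsg.Geo.omegaGL Q) ∨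
    (∃ D : Fin 2 → Submodule F (Fin 12 → F), Cfsg.Geo.IsOrthogonalMDecomposition Q 6 D ∧ H = Cfsg.Geo.decompositionStabilizer D ⊓ Cfsg.Geo.omegaGL Q) ∨
    (∃ D : Fin 2 → Submodule F (Fin 12 → F), Cfsg.Geo.IsMDecomposition 6 D ∧ (∀ i, Cfsg.Geo.IsTotallySingularQuad Q (D i)) ∧ H = Cfsg.Geo.decompositionStabilizer D ⊓ Cfsg.Geo.omegaGL Q) ∨
    (∃ K : Subalgebra F (Matrix (Fin 12) (Fin 12) F), Cfsg.Geo.IsFieldSubalgebra 2 K ∧ H = Cfsg.Geo.subalgebraNormalizer K ⊓ Cfsg.Geo.omegaGL Q) ∨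
    (∃ K : Subalgebra F (Matrix (Fin 12) (Fin 12) F), Cfsg.Geo.IsFieldSubalgebra 3 K ∧ H = Cfsg.Geo.subalgebraNormalizer K ⊓ Cfsg.Geo.omegaGL Q) ∨
    (∃ K : Subalgebra F (Matrix (Fin 12) (Fin 12) F), Cfsg.Geo.IsFieldSubalgebra 2 K ∧ Cfsg.Geo.IsAdjointClosedFor (QuadraticMap.polar Q) K ∧ ¬ Cfsg.Geo.IsSelfAdjointFor (QuadraticMap.polar Q) K ∧ (∀ k ∈ K, ∃ c : F, ∀ v : (Fin 12 → F), Q (Matrix.mulVec k v) = c * Q v) ∧ H = Cfsg.Geo.subalgebraNormalizer K ⊓ Cfsg.Geo.omegaGL Q) ∨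
    (3 ≤ Fintype.card F ∧ ∃ (e : Fin 12 ≃ Fin 2 × Fin 6) (P : Matrix.GeneralLinearGroup (Fin 12) F) (f₁ : (Fin 2 → F) → (Fin 2 → F) → F) (f₂ : (Fin 6 → F) → (Fin 6 → F) → F), Cfsg.Geo.IsSymplecticForm f₁ ∧ Cfsg.Geo.IsSymplecticForm f₂ ∧ Cfsg.Geo.IsTensorFormStructure id (QuadraticMap.polar Q) f₁ f₂ e P ∧ (∀ (x₁ : Fin 2 → F) (x₂ : Fin 6 → F), Q (Matrix.mulVec (P : Matrix (Fin 12) (Fin 12) F) ((fun a : Fin 2 × Fin 6 => x₁ a.1 * x₂ a.2) ∘ e)) = 0) ∧ H = Cfsg.Geo.tensorProductSubgroup 2 6 e P ⊓ Cfsg.Geo.omegaGL Q) ∨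
    (∃ (F₀ : Subfield F) (r : ℕ) (P : Matrix.GeneralLinearGroup (Fin 12) F) (ζ : F), r.Prime ∧ Fintype.card F = Nat.card F₀ ^ r ∧ ζ ≠ 0 ∧ Cfsg.Geo.IsQuadFormRationalStructure (fun v : Fin 12 → F => ζ * Q v) F₀ P ∧ H = Cfsg.Geo.subfieldSubgroup F₀ P ⊓ Cfsg.Geo.omegaGL Q) ∨
    Cfsg.Geo.InOrthogonalResidualClass H := by
  classical
  have hc : Fintype.card (Fin 12) = 12 := by simp
  have hn : 5 ≤ Fintype.card (Fin 12) := by simp
  have hn3 : 3 ≤ Fintype.card (Fin 12) := by simp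
  have hle : H ≤ isometryGroup F Q := hH.1.le.trans (OEMax.omega_le_iso Q)
  have h2iff := OEMax.odd_card_iff (F := F)
  have hf := Cfsg.Agent.Lib.Classical.Asch.Adj.reflForm_polar hQ
  have hq2 : 2 ≤ Fintype.card F := Fintype.one_lt_card
  have key6 : ∀ U : Submodule F (Fin 12 → F), Cfsg.Geo.IsNondegenerateOn (QuadraticMap.polar Q) U → Module.finrank F U = 6 → H ≤ Cfsg.Geo.subspaceStabilizer U →
      ∃ D : Fin 2 → Submodule F (Fin 12 → F), Cfsg.Geo.IsOrthogonalMDecomposition Q 6 D ∧ H = Cfsg.Geo.decompositionStabilizer D ⊓ Cfsg.Geo.omegaGL Q :=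
    fun U h1 h3 h5 => OKey6.half_plus hQ hplus hn hH hle (n := 3) (by norm_num) (by rw [hc]) h1 h3 h5
  rcases OKey.oe_mainG hQ (by simp) hle with h | h
  swap
  · iterate 18 right
    exact h
  rcases h with ⟨W, h0, hts, hst⟩ | ⟨W, h0, h1, hnd, hst⟩ | ⟨h2, v, hv, hst⟩ | ⟨t, k, D, hD, hst⟩ | ⟨k, D, hD, hts, hst⟩ | ⟨r, K, hr, hK, hA, hG, hst⟩ |
    ⟨d, k, e, P, f₁, f₂, hd, hk, h2, h1, h3, hs, hG, hst⟩ | ⟨d, k, e, P, f₁, f₂, hd, hk, h1, h3, hs, hv, hst⟩ | ⟨F₀, r, P, ζ, hr, hc', hζ, hR, hst⟩ |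
    ⟨d, t, e, P, J₀, ε₀, c, T⟩ | ⟨R, r, s, D, hR⟩
  · by_cases h5 : Module.finrank F W = 5
    · exact absurd (OKey4.no_ts_half hQ hplus hH (m := 5) (by norm_num) (by rw [hc]) hts h5 hst) id
    · exact Or.inl ⟨W, h0, hts, h5, OEMax.eq_stab hQ hn hH h0 (OEMax.ts_ne_top hQ hn hts) hst⟩
  · obtain ⟨W', h0', h1', hnd', hst', hsm, -⟩ := OEMax.exists_small hQ hle (by rw [hc]; decide) h0 h1 hnd hst
    rw [hc] at hsm
    have hE := OEMax.eq_stab hQ hn hH h0' h1' hst'
    have hpos : 0 < Module.finrank F W' := Module.finrank_pos_iff.mpr (Submodule.nontrivial_iff_ne_bot.mpr h0')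
    by_cases hodd : Odd (Module.finrank F W')
    · have hq : Odd (Fintype.card F) := h2iff.mpr fun h => (Nat.not_even_iff_odd.mpr hodd) (OEMax.even_of_two hQ h hnd')
      right; left
      refine ⟨hq, W', h0', h1', hodd, ?_, hnd', hE⟩
      obtain ⟨a, ha⟩ := hodd
      omega
    · have hev := Nat.not_odd_iff_even.mp hodd
      obtain ⟨a, ha⟩ := hev
      have h3 : Module.finrank F W' = 2 ∨ Module.finrank F W' = 4 ∨ Module.finrank F W' = 6 := by omega
      rcases h3 with h3 | h3 | h3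
      · by_cases hp : Cfsg.Geo.IsPlusTypeOn Q W'
        · by_cases hq4 : 4 ≤ Fintype.card F
          · iterate 3 right
            left
            exact ⟨hq4, W', h3, hnd', hp, hE⟩
          · have hq : Fintype.card F = 2 ∨ Fintype.card F = 3 := by omega
            rcases hq with hq | hq
            · obtain ⟨v, hv, hvs⟩ := OField.stab_of_plus_two hQ hq h3 hnd' hp
              iterate 5 right
              left
              obtain ⟨h5, h6⟩ := OEMax.span_ne hQ hv (by rw [hc]; norm_num)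
              have h7 : H ≤ Cfsg.Geo.subspaceStabilizer (Submodule.span F {v}) := fun g hg => hvs g (hle hg) (hst' hg)
              refine ⟨?_, v, hv, OEMax.eq_stab hQ hn hH h5 h6 h7⟩
              rw [hq]
              decide
            · exfalso
              obtain ⟨Q', rfl, hQ'⟩ := Cfsg.Agent.Lib.Classical.Geo.OPts.exists_quadraticForm hQ
              exact OMax.not_plus_three hQ' hn hH hst' hnd' hq h3 hp
        · right; right; left
          exact ⟨W', h3, hnd', hp, hE⟩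
      · iterate 4 right
        left
        exact ⟨W', h3, hnd', hE⟩
      · iterate 11 right
        left
        exact key6 W' hnd' h3 hst'
  · iterate 5 right
    left
    obtain ⟨h5, h6⟩ := OEMax.span_ne hQ hv (by rw [hc]; norm_num)
    refine ⟨fun h => h2iff.mp h h2, v, hv, OEMax.eq_stab hQ hn hH h5 h6 hst⟩
  · have hcd := Cfsg.Agent.Lib.Classical.Asch.Block.card_eq_mul hD.decomp.decomp
    rw [hc] at hcd
    have ht2 := hD.decomp.decomp.two_le
    have htk : (t = 2 ∧ k = 6) ∨ (t = 3 ∧ k = 4) ∨ (t = 4 ∧ k = 3) ∨ (t = 6 ∧ k = 2) ∨ (t = 12 ∧ k = 1) := by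
      have ht10 : t ≤ 12 := by
        have h1 : 1 ≤ k := hD.decomp.decomp.pos
        nlinarith
      interval_cases t <;> omega
    rcases htk with ⟨rfl, rfl⟩ | ⟨rfl, rfl⟩ | ⟨rfl, rfl⟩ | ⟨rfl, rfl⟩ | ⟨rfl, rfl⟩
    · iterate 11 right
      left
      exact ⟨D, hD, OEMax.eq_decomp hQ hn hH hD.decomp.decomp (Or.inr (by norm_num)) hst⟩
    · by_cases hq2' : Fintype.card F = 2
      · have h2 : (2 : F) = 0 := OKey6.card_two_two hq2'
        obtain ⟨D', hD', hnp, hDle⟩ := OKey6.minus_planes_of_four hq2' hQ hD (OKey5.odd_block_plus_two h2 hQ hD (by decide) hplus)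
        iterate 8 right
        left
        exact ⟨by omega, D', hD', hnp, OKey.eq_decomp_orth hQ hn hH hD' (by norm_num) le_rfl fun g hg => hDle g (hle hg) (hst hg)⟩
      · iterate 10 right
        left
        exact ⟨by omega, D, hD, OEMax.eq_decomp hQ hn hH hD.decomp.decomp (Or.inr (by norm_num)) hst⟩
    · have h2 : (2 : F) ≠ 0 := fun h => by
        have h3 := OEMax.even_of_two hQ h (hD.decomp.nondegenerate 0)
        rw [hD.decomp.decomp.finrank_eq 0] at h3
        exact absurd h3 (by decide)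
      have hq : Odd (Fintype.card F) := h2iff.mpr h2
      by_cases hq3 : Fintype.card F = 3
      · obtain ⟨Q', rfl, hQ'⟩ := Cfsg.Agent.Lib.Classical.Geo.OPts.exists_quadraticForm hQ
        obtain ⟨D', hD', hDle⟩ := OMax.frame_of_three (n' := 12) hq3 hQ' (by norm_num) hD
        iterate 6 right
        left
        exact ⟨⟨3, Nat.prime_three, by decide, hq3⟩, D', hD', OEMax.eq_decomp hQ hn hH hD'.decomp.decomp (Or.inl h2) fun g hg => hDle g (hle hg) (hst hg)⟩
      · iterate 9 right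
        left
        refine ⟨hq, ?_, D, hD, OEMax.eq_decomp hQ hn hH hD.decomp.decomp (Or.inl h2) hst⟩
        obtain ⟨a, ha⟩ := hq
        omega
    · by_cases hpl : Cfsg.Geo.IsPlusTypeOn Q (D 0)
      · have hall : ∀ i, Cfsg.Geo.IsPlusTypeOn Q (D i) := fun i => OEMax.plus_of_isometric (hD.isometric 0 i) hpl
        by_cases hq7 : 7 ≤ Fintype.card F
        · iterate 7 right
          left
          exact ⟨hq7, D, hD, hall, OKey.eq_decomp_orth hQ hn hH hD (by norm_num) le_rfl hst⟩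
        · rcases OKey5.small_planes hQ hplus hn hH hle (m := 5) (by norm_num) (by rw [hc]) hD hall hst (by omega) with ⟨h3, U, hU, hUd, hUst⟩ | ⟨F₀, P, h3, hR, hE⟩ | ⟨h5, D', hD', hE⟩
          · iterate 11 right
            left
            exact key6 U hU hUd hUst
          · iterate 17 right
            left
            exact ⟨F₀, 2, P, 1, Nat.prime_two, h3, one_ne_zero, hR, hE⟩
          · iterate 6 right
            left
            exact ⟨⟨5, by norm_num, by decide, h5⟩, D', hD', hE⟩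
      · have hnall : ∀ i, ¬ Cfsg.Geo.IsPlusTypeOn Q (D i) := fun i hi => hpl (OEMax.plus_of_isometric (hD.isometric i 0) hi)
        by_cases hq3 : Fintype.card F = 3
        · have h2F : (2 : F) ≠ 0 := SpThree.two_ne_zero_three hq3
          obtain ⟨Q', rfl, hQ'⟩ := Cfsg.Agent.Lib.Classical.Geo.OPts.exists_quadraticForm hQ
          obtain ⟨c, z, hc0, hz, hzz, huniq⟩ := OKey.minus_plane_three hq3 hQ (hD.decomp.decomp.finrank_eq 0) (hD.decomp.nondegenerate 0) hpl
          obtain ⟨D', hD', hDle⟩ := OKey.frame_of_family (n' := 12) h2F hQ' (by norm_num) hD hc0 hz hzz huniq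
          iterate 6 right
          left
          exact ⟨⟨3, Nat.prime_three, by decide, hq3⟩, D', hD', OEMax.eq_decomp hQ hn hH hD'.decomp.decomp (Or.inl h2F) fun g hg => hDle g (hle hg) (hst hg)⟩
        · iterate 8 right
          left
          exact ⟨hq3, D, hD, hnall, OKey.eq_decomp_orth hQ hn hH hD (by norm_num) le_rfl hst⟩
    · have h2 : (2 : F) ≠ 0 := fun h => by
        have h3 := OEMax.even_of_two hQ h (hD.decomp.nondegenerate 0)
        rw [hD.decomp.decomp.finrank_eq 0] at h3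
        exact absurd h3 (by decide)
      rcases OKey3.frame_out h2 hQ hn hH hle hD hst with ⟨hp, hDE⟩ | ⟨F₀, r, P, ζ, hr, hc', hζ, hR, hE⟩
      · iterate 6 right
        left
        exact ⟨⟨_, hp, h2iff.mpr h2, rfl⟩, D, hD, hDE⟩
      · iterate 17 right
        left
        exact ⟨F₀, r, P, ζ, hr, hc', hζ, hR, hE⟩
  · have hk := Cfsg.Agent.Lib.Classical.Asch.Block.card_eq_mul hD
    rw [hc] at hk
    have hk6 : k = 6 := by omega
    subst hk6
    iterate 12 right
    left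
    exact ⟨D, hD, hts, OEMax.eq_decomp hQ hn hH hD (Or.inr (by norm_num)) hst⟩
  · have hdvd := Cfsg.Agent.Lib.Classical.Asch.Small.dvd_card_of_field hK
    rw [hc] at hdvd
    have hE := OEMax.eq_normalizer hQ hn hH hr.two_le hK hst
    have hr' : r = 2 ∨ r = 3 := by
      have h12 : r ≤ 12 := Nat.le_of_dvd (by norm_num) hdvd
      interval_cases r <;> first | omega | (exfalso; revert hr; decide) | (exfalso; revert hdvd; decide)
    rcases hr' with rfl | rfl
    · iterate 13 right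
      left
      exact ⟨K, hK, hE⟩
    · iterate 14 right
      left
      exact ⟨K, hK, hE⟩
  · -- symmetric tensor factors
    have hcd := Fintype.card_congr e
    rw [hc, Fintype.card_prod, Fintype.card_fin, Fintype.card_fin] at hcd
    have hq : Odd (Fintype.card F) := h2iff.mpr h2
    have hq3' : 3 ≤ Fintype.card F := by
      obtain ⟨a, ha⟩ := hq
      omega
    have key26 : ∀ (e : Fin 12 ≃ Fin 2 × Fin 6) (P : Matrix.GeneralLinearGroup (Fin 12) F) (f₁ : (Fin 2 → F) → (Fin 2 → F) → F)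
        (f₂ : (Fin 6 → F) → (Fin 6 → F) → F), Cfsg.Geo.IsSymmetricForm f₁ → Cfsg.Geo.IsSymmetricForm f₂ →
        Cfsg.Geo.IsTensorFormStructure id (QuadraticMap.polar Q) f₁ f₂ e P → H ≤ Cfsg.Geo.tensorProductSubgroup 2 6 e P →
        (∃ D : Fin 2 → Submodule F (Fin 12 → F), Cfsg.Geo.IsMDecomposition 6 D ∧ (∀ i, Cfsg.Geo.IsTotallySingularQuad Q (D i)) ∧ H = Cfsg.Geo.decompositionStabilizer D ⊓ Cfsg.Geo.omegaGL Q) ∨
        (∃ K : Subalgebra F (Matrix (Fin 12) (Fin 12) F), Cfsg.Geo.IsFieldSubalgebra 2 K ∧ H = Cfsg.Geo.subalgebraNormalizer K ⊓ Cfsg.Geo.omegaGL Q) := by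
      intro e P f₁ f₂ h1 h3 hs hst
      by_cases han : ∀ u, u ≠ 0 → f₁ u u ≠ 0
      · obtain ⟨K, hK, -, -, hKst⟩ := OKey.exists_field_of_sym_two_adj h2 hQ h1 h3 hs han hle hst
        exact Or.inr ⟨K, hK, OEMax.eq_normalizer hQ hn hH (by norm_num) hK hKst⟩
      · push Not at han
        obtain ⟨u, hu, hu0⟩ := han
        obtain ⟨D, hD, hts, hDst⟩ := OKey5.exists_pair_of_sym_two h2 hQ h1 h3 hs hu hu0 hle hst (by rw [hc]) (by norm_num)
        exact Or.inl ⟨D, hD, hts, OEMax.eq_decomp hQ hn hH hD (Or.inr (by norm_num)) hDst⟩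
    have key34 : ∀ (e : Fin 12 ≃ Fin 3 × Fin 4) (P : Matrix.GeneralLinearGroup (Fin 12) F) (f₁ : (Fin 3 → F) → (Fin 3 → F) → F)
        (f₂ : (Fin 4 → F) → (Fin 4 → F) → F), Cfsg.Geo.IsSymmetricForm f₁ → Cfsg.Geo.IsSymmetricForm f₂ →
        Cfsg.Geo.IsTensorFormStructure id (QuadraticMap.polar Q) f₁ f₂ e P → H ≤ Cfsg.Geo.tensorProductSubgroup 3 4 e P →
        (∃ D : Fin 3 → Submodule F (Fin 12 → F), Cfsg.Geo.IsOrthogonalMDecomposition Q 4 D ∧ H = Cfsg.Geo.decompositionStabilizer D ⊓ Cfsg.Geo.omegaGL Q) ∨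
        (∃ (e : Fin 12 ≃ Fin 2 × Fin 6) (P : Matrix.GeneralLinearGroup (Fin 12) F) (f₁ : (Fin 2 → F) → (Fin 2 → F) → F) (f₂ : (Fin 6 → F) → (Fin 6 → F) → F), Cfsg.Geo.IsSymplecticForm f₁ ∧ Cfsg.Geo.IsSymplecticForm f₂ ∧ Cfsg.Geo.IsTensorFormStructure id (QuadraticMap.polar Q) f₁ f₂ e P ∧ (∀ (x₁ : Fin 2 → F) (x₂ : Fin 6 → F), Q (Matrix.mulVec (P : Matrix (Fin 12) (Fin 12) F) ((fun a : Fin 2 × Fin 6 => x₁ a.1 * x₂ a.2) ∘ e)) = 0) ∧ H = Cfsg.Geo.tensorProductSubgroup 2 6 e P ⊓ Cfsg.Geo.omegaGL Q) := by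
      intro e P f₁ f₂ h1 h3 hs hst
      by_cases hq3 : Fintype.card F = 3
      · left
        obtain ⟨D, hD, hDst⟩ := OEMax.tensor_three_dec hq3 hQ (by norm_num) h1 h3 hs hG hle hst
        exact ⟨D, hD, OEMax.eq_decomp hQ hn hH hD.decomp.decomp (Or.inr (by norm_num)) hDst⟩
      · right
        obtain ⟨e', P', φ₁, φ₂, hφ₁, hφ₂, hs', hv, hst'⟩ := OKey7.tensor_three_four h2 hQ hplus hle hH.1.le h1 h3 hs hst
        exact ⟨e', P', φ₁, φ₂, hφ₁, hφ₂, hs', hv, OKey6.eq_tensor_alt hQ hn hH (by norm_num) (by norm_num) hφ₁ hφ₂ hs' hv hst'⟩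
    have hfin : (d = 2 ∧ k = 6) ∨ (d = 3 ∧ k = 4) ∨ (d = 4 ∧ k = 3) ∨ (d = 6 ∧ k = 2) := by
      have hd6 : d ≤ 6 := by nlinarith
      interval_cases d <;> omega
    rcases hfin with ⟨rfl, rfl⟩ | ⟨rfl, rfl⟩ | ⟨rfl, rfl⟩ | ⟨rfl, rfl⟩
    · rcases key26 e P f₁ f₂ h1 h3 hs hst with h | h
      · iterate 12 right
        left
        exact h
      · iterate 13 right
        left
        exact h
    · rcases key34 e P f₁ f₂ h1 h3 hs hst with h | h
      · iterate 10 right
        left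
        exact ⟨hq3', h⟩
      · iterate 16 right
        left
        exact ⟨hq3', h⟩
    · rcases key34 _ P f₂ f₁ h3 h1 (OType.tensor_swap hs) (hst.trans (Cfsg.Agent.Lib.Classical.Asch.Main.tensorProductSubgroup_le_swap e P)) with h | h
      · iterate 10 right
        left
        exact ⟨hq3', h⟩
      · iterate 16 right
        left
        exact ⟨hq3', h⟩
    · rcases key26 _ P f₂ f₁ h3 h1 (OType.tensor_swap hs) (hst.trans (Cfsg.Agent.Lib.Classical.Asch.Main.tensorProductSubgroup_le_swap e P)) with h | h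
      · iterate 12 right
        left
        exact h
      · iterate 13 right
        left
        exact h
  · -- alternating tensor factors
    have hcd := Fintype.card_congr e
    rw [hc, Fintype.card_prod, Fintype.card_fin, Fintype.card_fin] at hcd
    have he1 : Even d := by simpa using Cfsg.Agent.Lib.Classical.Asch.Forms.even_card_of_symplectic h1
    have he2 : Even k := by simpa using Cfsg.Agent.Lib.Classical.Asch.Forms.even_card_of_symplectic h3
    have hfin : (d = 2 ∧ k = 6) ∨ (d = 6 ∧ k = 2) := by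
      obtain ⟨a, ha⟩ := he1
      obtain ⟨b, hb⟩ := he2
      subst ha hb
      have h4 : (a + a) * (b + b) = 4 * (a * b) := by ring
      have hab : a * b = 3 := by omega
      have ha3 : a ≤ 3 := Nat.le_of_dvd (by norm_num) ⟨b, hab.symm⟩
      interval_cases a <;> omega
    have keyA : ∀ (e : Fin 12 ≃ Fin 2 × Fin 6) (P : Matrix.GeneralLinearGroup (Fin 12) F) (f₁ : (Fin 2 → F) → (Fin 2 → F) → F)
        (f₂ : (Fin 6 → F) → (Fin 6 → F) → F), Cfsg.Geo.IsSymplecticForm f₁ → Cfsg.Geo.IsSymplecticForm f₂ →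
        Cfsg.Geo.IsTensorFormStructure id (QuadraticMap.polar Q) f₁ f₂ e P → (∀ x y, Q ((P : Matrix (Fin 12) (Fin 12) F) *ᵥ SpThree.kr e x y) = 0) → H ≤ Cfsg.Geo.tensorProductSubgroup 2 6 e P →
        (∃ K : Subalgebra F (Matrix (Fin 12) (Fin 12) F), Cfsg.Geo.IsFieldSubalgebra 2 K ∧ H = Cfsg.Geo.subalgebraNormalizer K ⊓ Cfsg.Geo.omegaGL Q) ∨
        (3 ≤ Fintype.card F ∧ ∃ (e : Fin 12 ≃ Fin 2 × Fin 6) (P : Matrix.GeneralLinearGroup (Fin 12) F) (f₁ : (Fin 2 → F) → (Fin 2 → F) → F) (f₂ : (Fin 6 → F) → (Fin 6 → F) → F), Cfsg.Geo.IsSymplecticForm f₁ ∧ Cfsg.Geo.IsSymplecticForm f₂ ∧ Cfsg.Geo.IsTensorFormStructure id (QuadraticMap.polar Q) f₁ f₂ e P ∧ (∀ (x₁ : Fin 2 → F) (x₂ : Fin 6 → F), Q (Matrix.mulVec (P : Matrix (Fin 12) (Fin 12) F) ((fun a : Fin 2 × Fin 6 => x₁ a.1 * x₂ a.2) ∘ e)) = 0) ∧ H = Cfsg.Geo.tensorProductSubgroup 2 6 e P ⊓ Cfsg.Geo.omegaGL Q) := by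
      intro e P f₁ f₂ h1 h3 hs hv hst
      by_cases hq2' : Fintype.card F = 2
      · left
        obtain ⟨K, hK, hKst⟩ := OKey6.field_of_two_factor hq2' hst
        exact ⟨K, hK, OEMax.eq_normalizer hQ hn hH (by norm_num) hK hKst⟩
      · right
        exact ⟨by omega, e, P, f₁, f₂, h1, h3, hs, hv, OKey6.eq_tensor_alt hQ hn hH (by norm_num) (by norm_num) h1 h3 hs hv hst⟩
    rcases hfin with ⟨rfl, rfl⟩ | ⟨rfl, rfl⟩
    · rcases keyA e P f₁ f₂ h1 h3 hs hv hst with h | h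
      · iterate 13 right
        left
        exact h
      · iterate 16 right
        left
        exact h
    · have hv' : ∀ x y, Q ((P : Matrix (Fin 12) (Fin 12) F) *ᵥ SpThree.kr (e.trans (Equiv.prodComm _ _)) x y) = 0 := by
        intro x y
        have e1 : SpThree.kr (e.trans (Equiv.prodComm _ _)) x y = SpThree.kr e y x := by
          funext i
          simp [SpThree.kr, mul_comm]
        rw [e1]
        exact hv y x
      rcases keyA _ P f₂ f₁ h3 h1 (OType.tensor_swap hs) hv' (hst.trans (Cfsg.Agent.Lib.Classical.Asch.Main.tensorProductSubgroup_le_swap e P)) with h | h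
      · iterate 13 right
        left
        exact h
      · iterate 16 right
        left
        exact h
  · iterate 17 right
    left
    exact ⟨F₀, r, P, ζ, hr, hc', hζ, hR, OEMax.eq_subfield hQ hn hH hr.two_le hc' hst⟩
  · exfalso
    have hcd := Fintype.card_congr e
    rw [hc, Fintype.card_fun, Fintype.card_fin, Fintype.card_fin] at hcd
    exact OEMax.not_pow_twelve T.hd T.ht hcd.symm
  · exfalso
    obtain ⟨m, hm⟩ := OEMax.card_of_sympData hQ D hR
    rw [hc] at hm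
    exact OEMax.not_two_pow_twelve hm.symm

end Cfsg.Agent.S5871
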