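import Cfsg.Statements.S5874
import Cfsg.Agent.Lib.Classical.Asch.OEMax

set_option autoImplicit false
open Cfsg
open Module
open Cfsg.Agent.Lib.Classical.Asch

namespace Cfsg.Agent.S5874

/-- Every maximal subgroup of Ω_12^-(q) is of one of the listed geometric types or lies in the residual class. Let F be a finite field with q elements (characteristic p), Q a non-degenerate quadratic form on F^12 of minus type (Witt index 5: no totally singular 6-space), Ω the commutator subgroup of its isometry group, and H a maximal subgroup of Ω (inside GL_12(F)). Then H is the intersection with Ω of one of: the stabiliser of a non-zero totally singular subspace; for q odd, the stabiliser of a non-degenerate subspace of odd dimension; the stabiliser of a non-degenerate 2-space of minus type; for q ≥ 4, the stabiliser of a non-degenerate 2-space of plus type; the stabiliser of a non-degenerate 4-space; the stabiliser of a non-degenerate 6-space; for q even, the stabiliser of the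 span of a non-singular vector; the stabiliser of a decomposition into 3 pairwise orthogonal, pairwise isometric non-degenerate 4-spaces of minus type; the normaliser of a degree-2 subfield of the matrix algebra; the normaliser of a degree-3 subfield of the matrix algebra; for q odd with q ≥ 5, the stabiliser of a tensor decomposition of the polar form into symmetric forms on F^3 and F^4 (minus type); a subfield group (|F| = |F₀|^r, r odd prime) whose F₀-structure carries a non-zero multiple of Q — or else H lies in the residual class of the orthogonal case (modulo scalars H is almost simple, with absolutely irreducible perfect socle preimage realisable over no proper subfield and fixing no non-degenerate unitary form). -/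
theorem result {F : Type*} [Field F] [Fintype F] (Q : (Fin 12 → F) → F) (hQ : Cfsg.Geo.IsNondegenerateQuadraticForm Q) (hminus : ¬ Cfsg.Geo.IsPlusTypeOn Q ⊤) (H : Subgroup (Matrix.GeneralLinearGroup (Fin 12) F)) (hH : Cfsg.Geo.IsMaximalIn (Cfsg.Geo.omegaGL Q) H) :
    (∃ W : Submodule F (Fin 12 → F), W ≠ ⊥ ∧ Cfsg.Geo.IsTotallySingularQuad Q W ∧ H = Cfsg.Geo.subspaceStabilizer W ⊓ Cfsg.Geo.omegaGL Q) ∨
    (Odd (Fintype.card F) ∧ ∃ W : Submodule F (Fin 12 → F), W ≠ ⊥ ∧ W ≠ ⊤ ∧ Odd (Module.finrank F W) ∧ 2 * Module.finrank F W ≠ 12 ∧ Cfsg.Geo.IsNondegenerateOn (QuadraticMap.polar Q) W ∧ H = Cfsg.Geo.subspaceStabilizer W ⊓ Cfsg.Geo.omegaGL Q) ∨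
    (∃ W : Submodule F (Fin 12 → F), Module.finrank F W = 2 ∧ Cfsg.Geo.IsNondegenerateOn (QuadraticMap.polar Q) W ∧ ¬ Cfsg.Geo.IsPlusTypeOn Q W ∧ H = Cfsg.Geo.subspaceStabilizer W ⊓ Cfsg.Geo.omegaGL Q) ∨
    (4 ≤ Fintype.card F ∧ ∃ W : Submodule F (Fin 12 → F), Module.finrank F W = 2 ∧ Cfsg.Geo.IsNondegenerateOn (QuadraticMap.polar Q) W ∧ Cfsg.Geo.IsPlusTypeOn Q W ∧ H = Cfsg.Geo.subspaceStabilizer W ⊓ Cfsg.Geo.omegaGL Q) ∨
    (∃ W : Submodule F (Fin 12 → F), Module.finrank F W = 4 ∧ Cfsg.Geo.IsNondegenerateOn (QuadraticMap.polar Q) W ∧ H = Cfsg.Geo.subspaceStabilizer W ⊓ Cfsg.Geo.omegaGL Q) ∨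
    (∃ W : Submodule F (Fin 12 → F), Module.finrank F W = 6 ∧ Cfsg.Geo.IsNondegenerateOn (QuadraticMap.polar Q) W ∧ H = Cfsg.Geo.subspaceStabilizer W ⊓ Cfsg.Geo.omegaGL Q) ∨
    (¬ Odd (Fintype.card F) ∧ ∃ v : (Fin 12 → F), Q v ≠ 0 ∧ H = Cfsg.Geo.subspaceStabilizer (Submodule.span F {v}) ⊓ Cfsg.Geo.omegaGL Q) ∨
    (∃ D : Fin 3 → Submodule F (Fin 12 → F), Cfsg.Geo.IsOrthogonalMDecomposition Q 4 D ∧ (∀ i, ¬ Cfsg.Geo.IsPlusTypeOn Q (D i)) ∧ H = Cfsg.Geo.decompositionStabilizer D ⊓ Cfsg.Geo.omegaGL Q) ∨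
    (∃ K : Subalgebra F (Matrix (Fin 12) (Fin 12) F), Cfsg.Geo.IsFieldSubalgebra 2 K ∧ H = Cfsg.Geo.subalgebraNormalizer K ⊓ Cfsg.Geo.omegaGL Q) ∨
    (∃ K : Subalgebra F (Matrix (Fin 12) (Fin 12) F), Cfsg.Geo.IsFieldSubalgebra 3 K ∧ H = Cfsg.Geo.subalgebraNormalizer K ⊓ Cfsg.Geo.omegaGL Q) ∨
    (Odd (Fintype.card F) ∧ 5 ≤ Fintype.card F ∧ ∃ (e : Fin 12 ≃ Fin 3 × Fin 4) (P : Matrix.GeneralLinearGroup (Fin 12) F) (f₁ : (Fin 3 → F) → (Fin 3 → F) → F) (f₂ : (Fin 4 → F) → (Fin 4 → F) → F), Cfsg.Geo.IsSymmetricForm f₁ ∧ Cfsg.Geo.IsSymmetricForm f₂ ∧ ¬ Cfsg.Geo.IsPlusTypeOn (fun v : Fin 4 → F => f₂ v v) ⊤ ∧ Cfsg.Geo.IsTensorFormStructure id (QuadraticMap.polar Q) f₁ f₂ e P ∧ H = Cfsg.Geo.tensorProductSubgroup 3 4 e P ⊓ Cfsg.Geo.omegaGL Q) ∨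
    (∃ (F₀ : Subfield F) (r : ℕ) (P : Matrix.GeneralLinearGroup (Fin 12) F) (ζ : F), r.Prime ∧ Odd r ∧ Fintype.card F = Nat.card F₀ ^ r ∧ ζ ≠ 0 ∧ Cfsg.Geo.IsQuadFormRationalStructure (fun v : Fin 12 → F => ζ * Q v) F₀ P ∧ H = Cfsg.Geo.subfieldSubgroup F₀ P ⊓ Cfsg.Geo.omegaGL Q) ∨
    Cfsg.Geo.InOrthogonalResidualClass H := by
  classical
  have hc : Fintype.card (Fin 12) = 12 := by simp
  have hn : 5 ≤ Fintype.card (Fin 12) := by simp
  have hle : H ≤ isometryGroup F Q := hH.1.le.trans (OEMax.omega_le_iso Q)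
  have h2iff := OEMax.odd_card_iff (F := F)
  rcases FormOE.oe_mainF hQ (by simp) hle with h | h
  swap
  · iterate 12 right
    exact h
  rcases h with ⟨W, h0, hts, hst⟩ | ⟨W, h0, h1, hnd, hst⟩ | ⟨h2, v, hv, hst⟩ | ⟨t, k, D, hD, hst⟩ | ⟨k, D, hD, hts, hst⟩ | ⟨r, K, hr, hK, -, hst⟩ |
    ⟨d, k, e, P, f₁, f₂, hd, hk, h2, h1, h3, hs, hG, hst⟩ | ⟨d, k, e, P, f₁, f₂, hd, hk, h1, h3, hs, hv, hst⟩ | ⟨F₀, r, P, ζ, hr, hc', hζ, hR, hst⟩ |
    ⟨d, t, e, P, J₀, ε₀, c, T, -, -⟩ | ⟨R, r, s, D, hR⟩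
  · exact Or.inl ⟨W, h0, hts, OEMax.eq_stab hQ hn hH h0 (OEMax.ts_ne_top hQ hn hts) hst⟩
  · obtain ⟨W', h0', h1', hnd', hst', hsm, -⟩ := OEMax.exists_small hQ hle (by rw [hc]; decide) h0 h1 hnd hst
    rw [hc] at hsm
    have hE := OEMax.eq_stab hQ hn hH h0' h1' hst'
    have hpos : 0 < Module.finrank F W' := Module.finrank_pos_iff.mpr (Submodule.nontrivial_iff_ne_bot.mpr h0')
    by_cases hodd : Odd (Module.finrank F W')
    · have hq : Odd (Fintype.card F) := h2iff.mpr fun h => (Nat.not_even_iff_odd.mpr hodd) (OEMax.even_of_two hQ h hnd')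
      right; left
      refine ⟨hq, W', h0', h1', hodd, ?_, hnd', hE⟩
      obtain ⟨a, ha⟩ := hodd
      omega
    · have hev := Nat.not_odd_iff_even.mp hodd
      obtain ⟨a, ha⟩ := hev
      have h3 : Module.finrank F W' = 2 ∨ Module.finrank F W' = 4 ∨ Module.finrank F W' = 6 := by omega
      rcases h3 with h3 | h3 | h3
      · by_cases hp : Cfsg.Geo.IsPlusTypeOn Q W'
        · have hq2 : 2 ≤ Fintype.card F := Fintype.one_lt_card
          by_cases hq4 : 4 ≤ Fintype.card F
          · iterate 3 right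
            left
            exact ⟨hq4, W', h3, hnd', hp, hE⟩
          · have hq : Fintype.card F = 2 ∨ Fintype.card F = 3 := by omega
            rcases hq with hq | hq
            · obtain ⟨v, hv, hvs⟩ := OField.stab_of_plus_two hQ hq h3 hnd' hp
              iterate 6 right
              left
              obtain ⟨h5, h6⟩ := OEMax.span_ne hQ hv (by rw [hc]; norm_num)
              have h7 : H ≤ Cfsg.Geo.subspaceStabilizer (Submodule.span F {v}) := fun g hg => hvs g (hle hg) (hst' hg)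
              refine ⟨?_, v, hv, OEMax.eq_stab hQ hn hH h5 h6 h7⟩
              rw [hq]
              decide
            · exfalso
              obtain ⟨Q', rfl, hQ'⟩ := Cfsg.Agent.Lib.Classical.Geo.OPts.exists_quadraticForm hQ
              exact OMax.not_plus_three hQ' hn hH hst' hnd' hq h3 hp
        · right; right; left
          exact ⟨W', h3, hnd', hp, hE⟩
      · iterate 4 right
        left
        exact ⟨W', h3, hnd', hE⟩
      · iterate 5 right
        left
        exact ⟨W', h3, hnd', hE⟩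
  · iterate 6 right
    left
    obtain ⟨h5, h6⟩ := OEMax.span_ne hQ hv (by rw [hc]; norm_num)
    refine ⟨fun h => h2iff.mp h h2, v, hv, OEMax.eq_stab hQ hn hH h5 h6 hst⟩
  · have hcd := Cfsg.Agent.Lib.Classical.Asch.Block.card_eq_mul hD.decomp.decomp
    rw [hc] at hcd
    have ht2 := hD.decomp.decomp.two_le
    by_cases hev : Even t
    · exact absurd (OType.plus_of_even_block' hQ hD (m := 6) (by norm_num) (by rw [hc]) hev (by decide)) hminus
    · have hodd := Nat.not_even_iff_odd.mp hev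
      have htk : t = 3 ∧ k = 4 := by
        have ht12 : t ≤ 12 := by
          have : 1 ≤ k := by
            rcases Nat.eq_zero_or_pos k with h | h
            · subst h
              omega
            · exact h
          nlinarith
        obtain ⟨a, ha⟩ := hodd
        interval_cases t <;> omega
      obtain ⟨rfl, rfl⟩ := htk
      iterate 7 right
      left
      exact ⟨D, hD, fun i hi => hminus (OType.plus_of_all_plus hQ hD.decomp fun j => OEMax.plus_of_isometric (hD.isometric i j) hi),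
        OEMax.eq_decomp hQ hn hH hD.decomp.decomp (Or.inr (by norm_num)) hst⟩
  · exact absurd (OEMax.plus_of_pair hQ hD hts) hminus
  · have hdvd := Cfsg.Agent.Lib.Classical.Asch.Small.dvd_card_of_field hK
    rw [hc] at hdvd
    have hE := OEMax.eq_normalizer hQ hn hH hr.two_le hK hst
    have hr' : r = 2 ∨ r = 3 := by
      have h12 : r ≤ 12 := Nat.le_of_dvd (by norm_num) hdvd
      interval_cases r <;> first | omega | (exfalso; revert hr; decide) | (exfalso; revert hdvd; decide)
    rcases hr' with rfl | rfl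
    · iterate 8 right
      left
      exact ⟨K, hK, hE⟩
    · iterate 9 right
      left
      exact ⟨K, hK, hE⟩
  · -- symmetric tensor factors
    have hcd := Fintype.card_congr e
    rw [hc, Fintype.card_prod, Fintype.card_fin, Fintype.card_fin] at hcd
    have hq : Odd (Fintype.card F) := h2iff.mpr h2
    have key34 : ∀ (e : Fin 12 ≃ Fin 3 × Fin 4) (P : Matrix.GeneralLinearGroup (Fin 12) F) (f₁ : (Fin 3 → F) → (Fin 3 → F) → F)
        (f₂ : (Fin 4 → F) → (Fin 4 → F) → F), Cfsg.Geo.IsSymmetricForm f₁ → Cfsg.Geo.IsSymmetricForm f₂ →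
        Cfsg.Geo.IsTensorFormStructure id (QuadraticMap.polar Q) f₁ f₂ e P → H ≤ Cfsg.Geo.tensorProductSubgroup 3 4 e P →
        (∃ D : Fin 3 → Submodule F (Fin 12 → F), Cfsg.Geo.IsOrthogonalMDecomposition Q 4 D ∧ (∀ i, ¬ Cfsg.Geo.IsPlusTypeOn Q (D i)) ∧ H = Cfsg.Geo.decompositionStabilizer D ⊓ Cfsg.Geo.omegaGL Q) ∨
        (Odd (Fintype.card F) ∧ 5 ≤ Fintype.card F ∧ ∃ (e : Fin 12 ≃ Fin 3 × Fin 4) (P : Matrix.GeneralLinearGroup (Fin 12) F) (f₁ : (Fin 3 → F) → (Fin 3 → F) → F) (f₂ : (Fin 4 → F) → (Fin 4 → F) → F), Cfsg.Geo.IsSymmetricForm f₁ ∧ Cfsg.Geo.IsSymmetricForm f₂ ∧ ¬ Cfsg.Geo.IsPlusTypeOn (fun v : Fin 4 → F => f₂ v v) ⊤ ∧ Cfsg.Geo.IsTensorFormStructure id (QuadraticMap.polar Q) f₁ f₂ e P ∧ H = Cfsg.Geo.tensorProductSubgroup 3 4 e P ⊓ Cfsg.Geo.omegaGL Q) := by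
      intro e P f₁ f₂ h1 h3 hs hst
      by_cases hq3 : Fintype.card F = 3
      · left
        obtain ⟨D, hD, hDst⟩ := OEMax.tensor_three_dec hq3 hQ (by norm_num) h1 h3 hs hG hle hst
        exact ⟨D, hD, fun i hi => hminus (OType.plus_of_all_plus hQ hD.decomp fun j => OEMax.plus_of_isometric (hD.isometric i j) hi),
          OEMax.eq_decomp hQ hn hH hD.decomp.decomp (Or.inr (by norm_num)) hDst⟩
      · right
        have hq5 : 5 ≤ Fintype.card F := by
          have hq2 : 2 ≤ Fintype.card F := Fintype.one_lt_card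
          obtain ⟨a, ha⟩ := hq
          omega
        refine ⟨hq, hq5, e, P, f₁, f₂, h1, h3, ?_, hs, OEMax.eq_tensor_sym h2 hQ hn hH (by norm_num) (by norm_num) h1 h3 hs hst⟩
        rintro ⟨U, -, hU, hd⟩
        rw [finrank_top, finrank_fintype_fun_eq_card, Fintype.card_fin] at hd
        refine hminus (OType.plus_of_right_half h2 hQ h1.bilinear h3.bilinear hs (U := U) (fun u hu v hv => ?_) hd)
        have h5 := hU _ (U.add_mem hu hv)
        have h6 := hU _ hu
        have h7 := hU _ hv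
        simp only [h3.bilinear.add_left, h3.bilinear.add_right, h3.symm v u] at h5 h6 h7
        have h8 : 2 * f₂ u v = 0 := by linear_combination h5 - h6 - h7
        exact (mul_eq_zero.mp h8).resolve_left h2
    have hfin : (d = 2 ∧ k = 6) ∨ (d = 3 ∧ k = 4) ∨ (d = 4 ∧ k = 3) ∨ (d = 6 ∧ k = 2) := by
      have hd6 : d ≤ 6 := by nlinarith
      interval_cases d <;> omega
    rcases hfin with ⟨rfl, rfl⟩ | ⟨rfl, rfl⟩ | ⟨rfl, rfl⟩ | ⟨rfl, rfl⟩
    · obtain ⟨K, hK, hKst⟩ := OEMax.tensor_two_minus h2 hQ hminus h1 h3 hs hle hst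
      iterate 8 right
      left
      exact ⟨K, hK, OEMax.eq_normalizer hQ hn hH (by norm_num) hK hKst⟩
    · rcases key34 e P f₁ f₂ h1 h3 hs hst with h | h
      · iterate 7 right
        left
        exact h
      · iterate 10 right
        left
        exact h
    · rcases key34 _ P f₂ f₁ h3 h1 (OType.tensor_swap hs) (hst.trans (Cfsg.Agent.Lib.Classical.Asch.Main.tensorProductSubgroup_le_swap e P)) with h | h
      · iterate 7 right
        left
        exact h
      · iterate 10 right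
        left
        exact h
    · obtain ⟨K, hK, hKst⟩ := OEMax.tensor_two_minus h2 hQ hminus h3 h1 (OType.tensor_swap hs) hle (hst.trans (Cfsg.Agent.Lib.Classical.Asch.Main.tensorProductSubgroup_le_swap e P))
      iterate 8 right
      left
      exact ⟨K, hK, OEMax.eq_normalizer hQ hn hH (by norm_num) hK hKst⟩
  · -- alternating tensor factors
    have hcd := Fintype.card_congr e
    rw [hc, Fintype.card_prod, Fintype.card_fin, Fintype.card_fin] at hcd
    have he1 : Even d := by simpa using Cfsg.Agent.Lib.Classical.Asch.Forms.even_card_of_symplectic h1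
    have he2 : Even k := by simpa using Cfsg.Agent.Lib.Classical.Asch.Forms.even_card_of_symplectic h3
    have hdk : d = 2 ∨ k = 2 := by
      obtain ⟨a, ha⟩ := he1
      obtain ⟨b, hb⟩ := he2
      subst ha hb
      have h4 : (a + a) * (b + b) = 4 * (a * b) := by ring
      have hab : a * b = 3 := by omega
      have ha3 : a ≤ 3 := Nat.le_of_dvd (by norm_num) ⟨b, hab.symm⟩
      have h5 : a = 1 ∨ b = 1 := by
        interval_cases a <;> omega
      omega
    exact absurd (OEMax.plus_of_alt hQ h1 h3 hs hv hdk) hminus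
  · by_cases hr2 : r = 2
    · subst hr2
      exact absurd (OField.plus_of_subfield_two hQ (k := 5) (by rw [hc]) hc' hζ hR) hminus
    · iterate 11 right
      left
      exact ⟨F₀, r, P, ζ, hr, hr.odd_of_ne_two hr2, hc', hζ, hR, OEMax.eq_subfield hQ hn hH hr.two_le hc' hst⟩
  · exfalso
    have hcd := Fintype.card_congr e
    rw [hc, Fintype.card_fun, Fintype.card_fin, Fintype.card_fin] at hcd
    exact OEMax.not_pow_twelve T.hd T.ht hcd.symm
  · exfalso
    obtain ⟨m, hm⟩ := OEMax.card_of_sympData hQ D hR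
    rw [hc] at hm
    exact OEMax.not_two_pow_twelve hm.symm

end Cfsg.Agent.S5874
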